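import Cfsg.Statements.S3866
import Mathlib

set_option autoImplicit false
open Cfsg
open scoped commutatorElement

namespace Cfsg.Agent.S3866

theorem result {G : Type*} [Group G] [Finite G] (A : Subgroup G) [A.Normal] (hA : IsMulCommutative A) (x : G) (hgen : A ⊔ Subgroup.zpowers x = ⊤) : (∀ a ∈ A, x * a * x⁻¹ * a⁻¹ ∈ commutator G) ∧ (∀ c ∈ commutator G, ∃ a ∈ A, x * a * x⁻¹ * a⁻¹ = c) ∧ (∀ a ∈ A, ∀ b ∈ A, x * (a * b) * x⁻¹ * (a * b)⁻¹ = (x * a * x⁻¹ * a⁻¹) * (x * b * x⁻¹ * b⁻¹)) ∧ Nat.card (commutator G) * Nat.card ↥(A ⊓ Subgroup.centralizer ({x} : Set G)) = Nat.card A := by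
  classical
  have hnorm : ∀ g : G, ∀ a ∈ A, g * a * g⁻¹ ∈ A := fun g a ha =>
    Subgroup.Normal.conj_mem inferInstance a ha g
  have hcomm : ∀ a ∈ A, ∀ b ∈ A, a * b = b * a := by
    intro a ha b hb
    have := isMulCommutative_iff.mp hA (⟨a, ha⟩ : A) ⟨b, hb⟩
    exact congrArg Subtype.val this
  -- the homomorphism property
  have hhom : ∀ a ∈ A, ∀ b ∈ A, x * (a * b) * x⁻¹ * (a * b)⁻¹ = (x * a * x⁻¹ * a⁻¹) * (x * b * x⁻¹ * b⁻¹) := by
    intro a ha b hb
    have hb' : x * b * x⁻¹ ∈ A := hnorm x b hb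
    have hainv : a⁻¹ ∈ A := A.inv_mem ha
    have h1 : a⁻¹ * (x * b * x⁻¹) = (x * b * x⁻¹) * a⁻¹ := hcomm _ hainv _ hb'
    have h2 : a⁻¹ * b⁻¹ = b⁻¹ * a⁻¹ := hcomm _ hainv _ (A.inv_mem hb)
    calc x * (a * b) * x⁻¹ * (a * b)⁻¹
        = x * a * x⁻¹ * ((x * b * x⁻¹) * a⁻¹) * b⁻¹ := by
          rw [mul_inv_rev, ← h2]
          simp only [mul_assoc, inv_mul_cancel_left]
      _ = x * a * x⁻¹ * (a⁻¹ * (x * b * x⁻¹)) * b⁻¹ := by rw [h1]
      _ = (x * a * x⁻¹ * a⁻¹) * (x * b * x⁻¹ * b⁻¹) := by simp only [mul_assoc]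
  -- the hom φ : A →* A
  let φ : A →* A :=
    { toFun := fun a => ⟨x * a * x⁻¹ * (a : G)⁻¹, A.mul_mem (hnorm x a a.2) (A.inv_mem a.2)⟩
      map_one' := by apply Subtype.ext; simp
      map_mul' := by
        intro a b
        apply Subtype.ext
        simpa using hhom a a.2 b b.2 }
  have hφ : ∀ a : A, ((φ a : A) : G) = x * a * x⁻¹ * (a : G)⁻¹ := fun a => rfl
  let K : Subgroup G := φ.range.map A.subtype
  have hK : ∀ c : G, c ∈ K ↔ ∃ a ∈ A, x * a * x⁻¹ * a⁻¹ = c := by
    intro c
    constructor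
    · rintro ⟨_, ⟨a, rfl⟩, rfl⟩
      exact ⟨a, a.2, rfl⟩
    · rintro ⟨a, ha, rfl⟩
      exact ⟨φ ⟨a, ha⟩, ⟨⟨a, ha⟩, rfl⟩, rfl⟩
  have hKA : K ≤ A := by
    rintro _ ⟨y, _, rfl⟩
    exact y.2
  have h1 : ∀ a ∈ A, x * a * x⁻¹ * a⁻¹ ∈ commutator G := by
    intro a _
    have : ⁅x, a⁆ ∈ ⁅(⊤ : Subgroup G), ⊤⁆ := Subgroup.commutator_mem_commutator (Subgroup.mem_top x) (Subgroup.mem_top a)
    rwa [commutatorElement_def] at this
  -- K is normal
  have hKn : K.Normal := by
    rw [← Subgroup.normalizer_eq_top_iff, eq_top_iff, ← hgen, sup_le_iff]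
    constructor
    · intro a ha
      rw [Subgroup.mem_normalizer_iff]
      intro k
      constructor
      · intro hk
        have : a * k * a⁻¹ = k := by
          rw [hcomm a ha k (hKA hk)]; simp
        rwa [this]
      · intro hk
        have hkA : k ∈ A := by
          have := hnorm a⁻¹ _ (hKA hk)
          simpa [mul_assoc] using this
        have : a * k * a⁻¹ = k := by
          rw [hcomm a ha k hkA]; simp
        rwa [this] at hk
    · rw [Subgroup.zpowers_le, Subgroup.mem_normalizer_iff]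
      intro k
      constructor
      · intro hk
        obtain ⟨a, ha, rfl⟩ := (hK k).mp hk
        refine (hK _).mpr ⟨x * a * x⁻¹, hnorm x a ha, ?_⟩
        simp [mul_assoc]
      · intro hk
        obtain ⟨a, ha, hak⟩ := (hK _).mp hk
        refine (hK _).mpr ⟨x⁻¹ * a * x, by simpa using hnorm x⁻¹ a ha, ?_⟩
        have : k = x⁻¹ * (x * a * x⁻¹ * a⁻¹) * x := by rw [hak]; simp [mul_assoc]
        rw [this]; simp [mul_assoc]
  -- G ⧸ K commutative
  have hcen : Subgroup.center (G ⧸ K) = ⊤ := by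
    have hsurj : Function.Surjective (QuotientGroup.mk' K) := QuotientGroup.mk'_surjective K
    have hxc : ∀ a ∈ A, (QuotientGroup.mk' K a) * (QuotientGroup.mk' K x) = (QuotientGroup.mk' K x) * (QuotientGroup.mk' K a) := by
      intro a ha
      rw [← map_mul, ← map_mul]
      apply (QuotientGroup.eq).mpr
      have hb : x⁻¹ * a * x ∈ A := by simpa using hnorm x⁻¹ a ha
      have hb' : x⁻¹ * a⁻¹ * x ∈ A := by simpa using hnorm x⁻¹ a⁻¹ (A.inv_mem ha)
      refine (hK _).mpr ⟨x⁻¹ * a * x, hb, ?_⟩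
      have e : a * (x⁻¹ * a⁻¹ * x) = (x⁻¹ * a⁻¹ * x) * a := hcomm _ ha _ hb'
      calc x * (x⁻¹ * a * x) * x⁻¹ * (x⁻¹ * a * x)⁻¹ = a * (x⁻¹ * a⁻¹ * x) := by
            simp [mul_assoc]
        _ = (x⁻¹ * a⁻¹ * x) * a := e
        _ = (a * x)⁻¹ * (x * a) := by simp [mul_assoc]
    have hac : ∀ a ∈ A, ∀ b ∈ A, (QuotientGroup.mk' K a) * (QuotientGroup.mk' K b) = (QuotientGroup.mk' K b) * (QuotientGroup.mk' K a) := by
      intro a ha b hb
      rw [← map_mul, ← map_mul, hcomm a ha b hb]
    -- centralizer argument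
    have hmap : (⊤ : Subgroup G).map (QuotientGroup.mk' K) = ⊤ := by
      rw [← MonoidHom.range_eq_map, MonoidHom.range_eq_top]
      exact hsurj
    have hxcen : QuotientGroup.mk' K x ∈ Subgroup.center (G ⧸ K) := by
      rw [Subgroup.mem_center_iff]
      intro q
      obtain ⟨g, rfl⟩ := hsurj q
      have hg : g ∈ A ⊔ Subgroup.zpowers x := by rw [hgen]; trivial
      have hle : A ⊔ Subgroup.zpowers x ≤ (Subgroup.centralizer {QuotientGroup.mk' K x}).comap (QuotientGroup.mk' K) := by
        rw [sup_le_iff]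
        constructor
        · intro a ha
          rw [Subgroup.mem_comap, Subgroup.mem_centralizer_singleton_iff]
          exact hxc a ha
        · rw [Subgroup.zpowers_le, Subgroup.mem_comap, Subgroup.mem_centralizer_singleton_iff]
      have := hle hg
      rw [Subgroup.mem_comap, Subgroup.mem_centralizer_singleton_iff] at this
      exact this
    have hAcen : ∀ a ∈ A, QuotientGroup.mk' K a ∈ Subgroup.center (G ⧸ K) := by
      intro a ha
      rw [Subgroup.mem_center_iff]
      intro q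
      obtain ⟨g, rfl⟩ := hsurj q
      have hg : g ∈ A ⊔ Subgroup.zpowers x := by rw [hgen]; trivial
      have hle : A ⊔ Subgroup.zpowers x ≤ (Subgroup.centralizer {QuotientGroup.mk' K a}).comap (QuotientGroup.mk' K) := by
        rw [sup_le_iff]
        constructor
        · intro b hb
          rw [Subgroup.mem_comap, Subgroup.mem_centralizer_singleton_iff]
          exact hac b hb a ha
        · rw [Subgroup.zpowers_le, Subgroup.mem_comap, Subgroup.mem_centralizer_singleton_iff]
          exact (hxc a ha).symm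
      have := hle hg
      rw [Subgroup.mem_comap, Subgroup.mem_centralizer_singleton_iff] at this
      exact this
    rw [eq_top_iff]
    intro q _
    obtain ⟨g, rfl⟩ := hsurj q
    have hg : g ∈ A ⊔ Subgroup.zpowers x := by rw [hgen]; trivial
    have hle : A ⊔ Subgroup.zpowers x ≤ (Subgroup.center (G ⧸ K)).comap (QuotientGroup.mk' K) := by
      rw [sup_le_iff]
      exact ⟨fun a ha => hAcen a ha, by rw [Subgroup.zpowers_le]; exact hxcen⟩
    exact hle hg
  have hcomK : commutator G ≤ K := by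
    have hcg : ∀ a b : G ⧸ K, a * b = b * a := by
      intro a b
      have : a ∈ Subgroup.center (G ⧸ K) := by rw [hcen]; trivial
      exact ((Subgroup.mem_center_iff.mp this) b).symm
    letI : CommGroup (G ⧸ K) := { (inferInstance : Group (G ⧸ K)) with mul_comm := hcg }
    have := Abelianization.commutator_subset_ker (QuotientGroup.mk' K)
    rwa [QuotientGroup.ker_mk'] at this
  have hKeq : commutator G = K := by
    apply le_antisymm hcomK
    intro c hc
    obtain ⟨a, ha, rfl⟩ := (hK c).mp hc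
    exact h1 a ha
  refine ⟨h1, ?_, hhom, ?_⟩
  · intro c hc
    rw [hKeq] at hc
    exact (hK c).mp hc
  · have hker : (φ.ker).map A.subtype = A ⊓ Subgroup.centralizer ({x} : Set G) := by
      ext a
      constructor
      · rintro ⟨b, hb, rfl⟩
        rw [Subgroup.mem_inf]
        refine ⟨b.2, ?_⟩
        rw [Subgroup.mem_centralizer_singleton_iff]
        simp only [Subgroup.subtype_apply]
        have : ((φ b : A) : G) = 1 := by rw [MonoidHom.mem_ker.mp hb]; rfl
        rw [hφ] at this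
        have h2 : x * b * x⁻¹ = b := by
          rw [mul_inv_eq_one] at this
          exact this
        calc (b : G) * x = (x * b * x⁻¹) * x := by rw [h2]
          _ = x * b := by simp [mul_assoc]
      · intro ha
        rw [Subgroup.mem_inf] at ha
        obtain ⟨haA, hax⟩ := ha
        rw [Subgroup.mem_centralizer_singleton_iff] at hax
        refine ⟨⟨a, haA⟩, ?_, rfl⟩
        rw [SetLike.mem_coe, MonoidHom.mem_ker]
        apply Subtype.ext
        rw [hφ]
        simp only [Subgroup.coe_one]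
        rw [← hax]; simp
    have c1 : Nat.card (commutator G) = Nat.card φ.range := by
      rw [hKeq]
      exact (Nat.card_congr (Subgroup.equivMapOfInjective _ _ A.subtype_injective).toEquiv).symm
    have c2 : Nat.card ↥(A ⊓ Subgroup.centralizer ({x} : Set G)) = Nat.card φ.ker := by
      rw [← hker]
      exact (Nat.card_congr (Subgroup.equivMapOfInjective _ _ A.subtype_injective).toEquiv).symm
    rw [c1, c2, ← Subgroup.index_ker, mul_comm]
    exact Subgroup.card_mul_index φ.ker

end Cfsg.Agent.S3866
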