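import Cfsg.Statements.S3868
import Cfsg.Agent.Helper64.MinNonPClosed2

set_option autoImplicit false
open Cfsg

namespace Cfsg.Agent.S3868

open Cfsg.Agent.Helper64

section
variable {G : Type*} [Group G] [Finite G] {p : ℕ} [Fact p.Prime]

/-- Step 1: `PN = G` for every nontrivial proper normal subgroup. -/
lemma sup_eq_top (P : Sylow p G) (hP : ¬ (P : Subgroup G).Normal)
    (hsub : ∀ H : Subgroup G, H ≠ ⊤ → Cfsg.IsPClosed p ↥H)
    (hquo : ∀ (N : Subgroup G) [N.Normal], N ≠ ⊥ → Cfsg.IsPClosed p (G ⧸ N))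
    (N : Subgroup G) [N.Normal] (hN : N ≠ ⊥) : (P : Subgroup G) ⊔ N = ⊤ := by
  by_contra hne
  have hn : ((P : Subgroup G) ⊔ N).Normal := sup_normal_of_isPClosed_quotient P N (hquo N hN)
  exact hP (sylow_normal_of_le_normal_isPClosed P _ le_sup_left (hsub _ hne))

/-- Step 2: proper nontrivial normal subgroups have order prime to `p`. -/
lemma not_dvd_card (P : Sylow p G) (hP : ¬ (P : Subgroup G).Normal)
    (hsub : ∀ H : Subgroup G, H ≠ ⊤ → Cfsg.IsPClosed p ↥H)
    (hquo : ∀ (N : Subgroup G) [N.Normal], N ≠ ⊥ → Cfsg.IsPClosed p (G ⧸ N))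
    (N : Subgroup G) [N.Normal] (hNtop : N ≠ ⊤) : ¬ p ∣ Nat.card N := by
  intro hdvd
  obtain ⟨S, hSn, hSp, hSN, hall⟩ := exists_normal_pSubgroup_of_isPClosed_normal N (hsub N hNtop)
  obtain ⟨y, hy⟩ := exists_prime_orderOf_dvd_card' p hdvd
  have hyS : (y : G) ∈ S := by
    have hz : Subgroup.zpowers (y : G) ≤ N := by rw [Subgroup.zpowers_le]; exact y.2
    have hzp : IsPGroup p (Subgroup.zpowers (y : G)) := by
      apply IsPGroup.of_card (n := 1)
      rw [Nat.card_zpowers, Subgroup.orderOf_coe, hy, pow_one]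
    exact hall _ hz hzp (Subgroup.mem_zpowers _)
  have hSne : S ≠ ⊥ := by
    intro h
    rw [h, Subgroup.mem_bot] at hyS
    have : y = 1 := Subtype.ext hyS
    rw [this, orderOf_one] at hy
    exact (Fact.out : p.Prime).one_lt.ne hy
  have hSP : S ≤ P := hSp.le_sylow_of_normal P
  have hn : ((P : Subgroup G) ⊔ S).Normal := sup_normal_of_isPClosed_quotient P S (hquo S hSne)
  rw [sup_of_le_left hSP] at hn
  exact hP hn

/-- `P ∩ N = 1` and `|G| = |P||N|` for proper nontrivial normal `N`. -/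
lemma card_eq (P : Sylow p G) (hP : ¬ (P : Subgroup G).Normal)
    (hsub : ∀ H : Subgroup G, H ≠ ⊤ → Cfsg.IsPClosed p ↥H)
    (hquo : ∀ (N : Subgroup G) [N.Normal], N ≠ ⊥ → Cfsg.IsPClosed p (G ⧸ N))
    (N : Subgroup G) [N.Normal] (hN : N ≠ ⊥) (hNtop : N ≠ ⊤) :
    (P : Subgroup G) ⊓ N = ⊥ ∧ Nat.card G = Nat.card (P : Subgroup G) * Nat.card N := by
  have hpN := not_dvd_card P hP hsub hquo N hNtop
  have hinf : (P : Subgroup G) ⊓ N = ⊥ := by
    apply Subgroup.inf_eq_bot_of_coprime
    obtain ⟨n, hn⟩ := IsPGroup.iff_card.mp P.2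
    rw [hn]
    exact Nat.Coprime.pow_left n ((Nat.Prime.coprime_iff_not_dvd Fact.out).mpr hpN)
  refine ⟨hinf, ?_⟩
  rw [← card_sup_of_disjoint_normal _ _ hinf, sup_eq_top P hP hsub hquo N hN, Subgroup.card_top]

/-- Step 3: a proper nontrivial normal subgroup is a `q`-group. -/
lemma exists_prime_pow_card (P : Sylow p G) (hP : ¬ (P : Subgroup G).Normal)
    (hsub : ∀ H : Subgroup G, H ≠ ⊤ → Cfsg.IsPClosed p ↥H)
    (hquo : ∀ (N : Subgroup G) [N.Normal], N ≠ ⊥ → Cfsg.IsPClosed p (G ⧸ N))
    (N : Subgroup G) [N.Normal] (hN : N ≠ ⊥) (hNtop : N ≠ ⊤) :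
    ∃ q k : ℕ, q.Prime ∧ q ≠ p ∧ Nat.card N = q ^ k := by
  classical
  have hpN := not_dvd_card P hP hsub hquo N hNtop
  obtain ⟨hinf, hcard⟩ := card_eq P hP hsub hquo N hN hNtop
  have hPN := sup_eq_top P hP hsub hquo N hN
  set M := N ⊓ Subgroup.normalizer ((P : Subgroup G) : Set G) with hM
  have key : ∀ q : ℕ, q.Prime → q ∣ Nat.card N →
      (∃ k : ℕ, Nat.card N = q ^ k) ∨ q ^ (Nat.card N).factorization q ∣ Nat.card M := by
    intro q hq hqN
    have hqf : Fact q.Prime := ⟨hq⟩
    let Q₀ : Sylow q N := default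
    set Q₀' : Subgroup G := (Q₀ : Subgroup N).map N.subtype with hQ₀'
    have hfr : Subgroup.normalizer (Q₀' : Set G) ⊔ N = ⊤ := Sylow.normalizer_sup_eq_top Q₀
    set R := Subgroup.normalizer (Q₀' : Set G) with hR
    have hRidx : ¬ p ∣ R.index := by
      have h1 : R.relIndex N = R.index := by
        rw [relIndex_eq_relIndex_sup_of_normal R N, hfr, Subgroup.relIndex_top_right]
      rw [← h1]
      intro h
      exact hpN (dvd_trans h (Subgroup.relIndex_dvd_card R N))
    obtain ⟨g, hg⟩ := exists_le_map_conj_of_not_dvd_index (P : Subgroup G) P.2 R hRidx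
    set Q : Subgroup G := Q₀'.map (MulAut.conj g).toMonoidHom with hQ
    have hQ₀N : Q₀' ≤ N := by
      rintro _ ⟨y, _, rfl⟩
      exact y.2
    have hQN : Q ≤ N := by
      rintro _ ⟨z, hz, rfl⟩
      exact Subgroup.Normal.conj_mem inferInstance z (hQ₀N hz) g
    have hPQ : (P : Subgroup G) ≤ Subgroup.normalizer (Q : Set G) := by
      have : R.map (MulAut.conj g).toMonoidHom = Subgroup.normalizer (Q : Set G) :=
        Subgroup.map_equiv_normalizer_eq Q₀' (MulAut.conj g)
      rw [← this]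
      exact hg
    have hQcard : Nat.card Q = q ^ (Nat.card N).factorization q := by
      rw [← Sylow.card_eq_multiplicity Q₀]
      rw [hQ, Nat.card_congr (Subgroup.equivMapOfInjective Q₀' (MulAut.conj g).toMonoidHom (MulAut.conj g).injective).toEquiv.symm,
        hQ₀', Nat.card_congr (Subgroup.equivMapOfInjective (Q₀ : Subgroup N) N.subtype N.subtype_injective).toEquiv.symm]
    by_cases htop : (P : Subgroup G) ⊔ Q = ⊤
    · left
      refine ⟨(Nat.card N).factorization q, ?_⟩
      rw [← hQcard]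
      have hNQ : N ≤ Q := by
        intro n hn
        have hmem : n ∈ ((P : Subgroup G) ⊔ Q : Subgroup G) := by rw [htop]; trivial
        rw [← SetLike.mem_coe, Subgroup.coe_mul_of_left_le_normalizer_right _ _ hPQ, Set.mem_mul] at hmem
        obtain ⟨b, hb, a, ha, hba⟩ := hmem
        have hbN : b ∈ N := by
          have : b = n * a⁻¹ := by rw [← hba]; simp
          rw [this]
          exact N.mul_mem hn (N.inv_mem (hQN ha))
        have hb1 : b ∈ (P : Subgroup G) ⊓ N := ⟨hb, hbN⟩
        rw [hinf, Subgroup.mem_bot] at hb1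
        rw [← hba, hb1, one_mul]
        exact ha
      rw [le_antisymm hQN hNQ]
    · right
      have hle : (P : Subgroup G) ⊔ Q ≤ Subgroup.normalizer ((P : Subgroup G) : Set G) :=
        le_normalizer_of_isPClosed P _ le_sup_left (hsub _ htop)
      have hQM : Q ≤ M := le_inf hQN (le_sup_right.trans hle)
      rw [← hQcard]
      exact Subgroup.card_dvd_of_le hQM
  by_cases hex : ∃ q : ℕ, q.Prime ∧ q ∣ Nat.card N ∧ ∃ k : ℕ, Nat.card N = q ^ k
  · obtain ⟨q, hq, hqN, k, hk⟩ := hex
    refine ⟨q, k, hq, ?_, hk⟩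
    rintro rfl
    exact hpN hqN
  · exfalso
    push Not at hex
    have hdvd : Nat.card N ∣ Nat.card M := by
      rw [← Nat.factorization_le_iff_dvd Nat.card_pos.ne' Nat.card_pos.ne']
      intro q
      by_cases hq : q.Prime
      · by_cases hqN : q ∣ Nat.card N
        · rcases key q hq hqN with ⟨k, hk⟩ | h
          · exact absurd hk (hex q hq hqN k)
          · exact (hq.pow_dvd_iff_le_factorization Nat.card_pos.ne').mp h
        · rw [Nat.factorization_eq_zero_of_not_dvd hqN]
          exact Nat.zero_le _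
      · rw [Nat.factorization_eq_zero_of_not_prime _ hq]
        exact Nat.zero_le _
    have hMN : M = N := Subgroup.eq_of_le_of_card_ge inf_le_left (Nat.le_of_dvd Nat.card_pos hdvd)
    have hNnorm : N ≤ Subgroup.normalizer ((P : Subgroup G) : Set G) := by
      rw [← hMN]; exact inf_le_right
    apply hP
    rw [← Subgroup.normalizer_eq_top_iff, eq_top_iff, ← hPN]
    exact sup_le Subgroup.le_normalizer hNnorm

end

theorem result {G : Type*} [Group G] [Finite G] {p : ℕ} [Fact p.Prime]
    (hnc : ¬ Cfsg.IsPClosed p G) (hsub : ∀ H : Subgroup G, H ≠ ⊤ → Cfsg.IsPClosed p ↥H)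
    (hquo : ∀ (N : Subgroup G) [N.Normal], N ≠ ⊥ → Cfsg.IsPClosed p (G ⧸ N)) (hns : ¬ IsSimpleGroup G) :
    ∃ q : ℕ, q.Prime ∧ q ≠ p ∧ Nat.card G = p * q ^ orderOf (q : ZMod p) ∧
      ∃ A : Subgroup G, A.Normal ∧ Nat.card ↥A = q ^ orderOf (q : ZMod p) ∧ Cfsg.IsElementaryAbelian q A ∧
        ∀ B : Subgroup G, B.Normal → B ≤ A → B = ⊥ ∨ B = A := by
  classical
  have hpp : p.Prime := Fact.out
  -- a non-normal Sylow
  have hex : ∃ P : Sylow p G, ¬ (P : Subgroup G).Normal := by
    by_contra h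
    push Not at h
    exact hnc h
  obtain ⟨P, hP⟩ := hex
  -- a proper nontrivial normal subgroup
  have hGnt : Nontrivial G := by
    by_contra h
    rw [not_nontrivial_iff_subsingleton] at h
    apply hP
    have : (P : Subgroup G) = ⊤ := Subsingleton.elim _ _
    rw [this]; infer_instance
  obtain ⟨N, hNn, hNbot, hNtop⟩ : ∃ N : Subgroup G, N.Normal ∧ N ≠ ⊥ ∧ N ≠ ⊤ := by
    by_contra h
    push Not at h
    apply hns
    exact ⟨fun H hH => by
      by_cases hb : H = ⊥
      · left; exact hb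
      · right; exact h H hH hb⟩
  obtain ⟨q, k, hq, hqp, hNcard⟩ := exists_prime_pow_card P hP hsub hquo N hNbot hNtop
  obtain ⟨hinf, hcardG⟩ := card_eq P hP hsub hquo N hNbot hNtop
  have hPN := sup_eq_top P hP hsub hquo N hNbot
  have hqf : Fact q.Prime := ⟨hq⟩
  have hNq : IsPGroup q N := IsPGroup.of_card hNcard
  have hNnt : Nontrivial N := (Subgroup.nontrivial_iff_ne_bot N).mpr hNbot
  -- minimality
  have hminN : ∀ B : Subgroup G, B.Normal → B ≤ N → B = ⊥ ∨ B = N := by
    intro B hB hBN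
    by_cases hb : B = ⊥
    · left; exact hb
    · right
      have hBtop : B ≠ ⊤ := fun h => hNtop (top_le_iff.mp (h ▸ hBN))
      obtain ⟨_, hcardB⟩ := card_eq P hP hsub hquo B hb hBtop
      apply Subgroup.eq_of_le_of_card_ge hBN
      have : Nat.card (P : Subgroup G) * Nat.card B = Nat.card (P : Subgroup G) * Nat.card N := by
        rw [← hcardB, ← hcardG]
      exact (Nat.eq_of_mul_eq_mul_left Nat.card_pos this).ge
  -- N abelian
  have hZn : ((Subgroup.center N).map N.subtype).Normal := ConjAct.normal_of_characteristic_of_normal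
  have hZne : (Subgroup.center N).map N.subtype ≠ ⊥ := by
    have hc : Nontrivial (Subgroup.center N) := hNq.center_nontrivial
    intro h
    rw [(Subgroup.map_eq_bot_iff_of_injective _ N.subtype_injective)] at h
    exact (Subgroup.nontrivial_iff_ne_bot _).mp hc h
  have hZle : (Subgroup.center N).map N.subtype ≤ N := by
    rintro _ ⟨z, _, rfl⟩
    exact z.2
  have hZeq : (Subgroup.center N).map N.subtype = N := by
    rcases hminN _ hZn hZle with h | h
    · exact absurd h hZne
    · exact h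
  have hNcomm : ∀ a ∈ N, ∀ b ∈ N, a * b = b * a := by
    intro a ha b hb
    have : a ∈ (Subgroup.center N).map N.subtype := by rw [hZeq]; exact ha
    obtain ⟨z, hz, rfl⟩ := this
    have := (Subgroup.mem_center_iff.mp hz) ⟨b, hb⟩
    exact (congrArg Subtype.val this).symm
  -- exponent q
  let Ω : Subgroup G :=
    { carrier := {g | g ∈ N ∧ g ^ q = 1}
      one_mem' := ⟨N.one_mem, one_pow _⟩
      mul_mem' := fun {a b} ha hb => ⟨N.mul_mem ha.1 hb.1, by
        rw [(show Commute a b from hNcomm a ha.1 b hb.1).mul_pow, ha.2, hb.2, one_mul]⟩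
      inv_mem' := fun {a} ha => ⟨N.inv_mem ha.1, by rw [inv_pow, ha.2, inv_one]⟩ }
  have hΩn : Ω.Normal := ⟨fun a ha g => ⟨Subgroup.Normal.conj_mem inferInstance a ha.1 g, by
    rw [conj_pow, ha.2]; simp⟩⟩
  have hΩle : Ω ≤ N := fun a ha => ha.1
  have hkpos : k ≠ 0 := by
    intro h
    rw [h, pow_zero] at hNcard
    exact hNbot (Subgroup.card_eq_one.mp hNcard)
  have hΩne : Ω ≠ ⊥ := by
    have hdvd : q ∣ Nat.card N := by rw [hNcard]; exact dvd_pow_self q hkpos
    obtain ⟨z, hz⟩ := exists_prime_orderOf_dvd_card' q hdvd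
    intro h
    have hzΩ : (z : G) ∈ Ω := ⟨z.2, by
      have : z ^ q = 1 := hz ▸ pow_orderOf_eq_one z
      have := congrArg Subtype.val this
      simpa using this⟩
    rw [h, Subgroup.mem_bot] at hzΩ
    have : z = 1 := Subtype.ext hzΩ
    rw [this, orderOf_one] at hz
    exact hq.one_lt.ne hz
  have hΩeq : Ω = N := by
    rcases hminN _ hΩn hΩle with h | h
    · exact absurd h hΩne
    · exact h
  have hNexp : ∀ a ∈ N, a ^ q = 1 := by
    intro a ha
    have : a ∈ Ω := by rw [hΩeq]; exact ha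
    exact this.2
  have hEA : Cfsg.IsElementaryAbelian q N := by
    refine ⟨?_, hNexp⟩
    rw [isMulCommutative_iff]
    intro a b
    exact Subtype.ext (hNcomm a a.2 b b.2)
  -- C = C_P(N) is trivial
  set C : Subgroup G := (P : Subgroup G) ⊓ Subgroup.centralizer (N : Set G) with hC
  have hcentn : (Subgroup.centralizer (N : Set G)).Normal := Subgroup.normal_centralizer
  have hCn : C.Normal := by
    rw [← Subgroup.normalizer_eq_top_iff, eq_top_iff, ← hPN, sup_le_iff]
    constructor
    · intro y hy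
      apply mem_normalizer_of_conj_mem
      intro c hc
      exact ⟨(P : Subgroup G).mul_mem ((P : Subgroup G).mul_mem hy hc.1) ((P : Subgroup G).inv_mem hy),
        hcentn.conj_mem c hc.2 y⟩
    · intro n hn
      apply mem_normalizer_of_conj_mem
      intro c hc
      have h1 : n * c = c * n := (Subgroup.mem_centralizer_iff.mp hc.2) n hn
      have : n * c * n⁻¹ = c := by rw [h1]; simp
      rwa [this]
  have hCbot : C = ⊥ := by
    by_contra hne
    have hn : ((P : Subgroup G) ⊔ C).Normal := sup_normal_of_isPClosed_quotient P C (hquo C hne)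
    rw [sup_of_le_left inf_le_left] at hn
    exact hP hn
  -- an element of order p in P
  have hPne : (P : Subgroup G) ≠ ⊥ := by
    intro h
    apply hP
    rw [h]; infer_instance
  obtain ⟨n₀, hn₀⟩ := IsPGroup.iff_card.mp P.2
  have hn₀pos : n₀ ≠ 0 := by
    intro h
    rw [h, pow_zero] at hn₀
    exact hPne (Subgroup.card_eq_one.mp hn₀)
  have hpP : p ∣ Nat.card (P : Subgroup G) := by rw [hn₀]; exact dvd_pow_self p hn₀pos
  obtain ⟨y, hy⟩ := exists_prime_orderOf_dvd_card' p hpP
  have hyG : orderOf (y : G) = p := (Subgroup.orderOf_coe y).trans hy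
  have hy1 : (y : G) ≠ 1 := by
    intro h
    rw [h, orderOf_one] at hyG
    exact hpp.one_lt.ne hyG
  have hyN : (y : G) ∉ N := by
    intro h
    have : (y : G) ∈ (P : Subgroup G) ⊓ N := ⟨y.2, h⟩
    rw [hinf, Subgroup.mem_bot] at this
    exact hy1 this
  have hP₁ : Subgroup.zpowers (y : G) = P := by
    by_contra hne
    have hP₁le : Subgroup.zpowers (y : G) ≤ P := by rw [Subgroup.zpowers_le]; exact y.2
    set K := Subgroup.zpowers (y : G) ⊔ N with hK
    have hKtop : K ≠ ⊤ := by
      intro htop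
      apply hne
      apply le_antisymm hP₁le
      intro g hg
      have hmem : g ∈ (Subgroup.zpowers (y : G) ⊔ N : Subgroup G) := by rw [← hK, htop]; trivial
      rw [← SetLike.mem_coe, Subgroup.mul_normal, Set.mem_mul] at hmem
      obtain ⟨a, ha, n, hn, han⟩ := hmem
      have hnP : n ∈ (P : Subgroup G) := by
        have : n = a⁻¹ * g := by rw [← han]; simp
        rw [this]
        exact (P : Subgroup G).mul_mem ((P : Subgroup G).inv_mem (hP₁le ha)) hg
      have hn1 : n ∈ (P : Subgroup G) ⊓ N := ⟨hnP, hn⟩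
      rw [hinf, Subgroup.mem_bot] at hn1
      rw [← han, hn1, mul_one]
      exact ha
    obtain ⟨S, hSK, hSp, hKS, hall⟩ := exists_normal_sylow_of_isPClosed K (hsub K hKtop)
    have hP₁p : IsPGroup p (Subgroup.zpowers (y : G)) := P.2.to_le hP₁le
    have hP₁S : Subgroup.zpowers (y : G) ≤ S := hall _ le_sup_left hP₁p
    have hSN : S ⊓ N = ⊥ := by
      apply Subgroup.inf_eq_bot_of_coprime
      obtain ⟨a, ha⟩ := IsPGroup.iff_card.mp hSp
      rw [ha, hNcard]
      exact Nat.Coprime.pow a k ((Nat.coprime_primes hpp hq).mpr (Ne.symm hqp))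
    have hScent : S ≤ Subgroup.centralizer (N : Set G) := by
      intro s hs
      rw [Subgroup.mem_centralizer_iff]
      intro n hn
      have hnK : n ∈ K := le_sup_right (a := Subgroup.zpowers (y : G)) hn
      have hnS := hKS hnK
      have h1 : s * n * s⁻¹ * n⁻¹ ∈ S := by
        have : n * s⁻¹ * n⁻¹ ∈ S := (Subgroup.mem_normalizer_iff.mp hnS s⁻¹).mp (S.inv_mem hs)
        have := S.mul_mem hs this
        simpa [mul_assoc] using this
      have h2 : s * n * s⁻¹ * n⁻¹ ∈ N :=
        N.mul_mem (Subgroup.Normal.conj_mem inferInstance n hn s) (N.inv_mem hn)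
      have h3 : s * n * s⁻¹ * n⁻¹ ∈ S ⊓ N := ⟨h1, h2⟩
      rw [hSN, Subgroup.mem_bot] at h3
      have : s * n = n * s := by
        have := congrArg (fun t => t * n * s) h3
        simpa [mul_assoc] using this
      exact this.symm
    have hyC : (y : G) ∈ C := ⟨y.2, hScent (hP₁S (Subgroup.mem_zpowers _))⟩
    rw [hCbot, Subgroup.mem_bot] at hyC
    exact hy1 hyC
  have hPcard : Nat.card (P : Subgroup G) = p := by
    rw [← hP₁, Nat.card_zpowers, hyG]
  -- G is not abelian
  have hna : ¬ IsMulCommutative G := by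
    intro hc
    apply hP
    refine ⟨fun n hn g => ?_⟩
    have : g * n * g⁻¹ = n := by
      rw [isMulCommutative_iff.mp hc g n]; simp
    rwa [this]
  have hidx : N.index = p := by
    have h1 := Subgroup.index_mul_card N
    rw [hcardG, hPcard] at h1
    exact Nat.eq_of_mul_eq_mul_right Nat.card_pos h1
  have hyp : (y : G) ^ p = 1 := by
    have := pow_orderOf_eq_one (y : G)
    rwa [hyG] at this
  have hfinal := card_of_minimal_normal_index_prime hq hqp hna N hEA hidx hminN (y : G) hyp hyN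
  refine ⟨q, hq, hqp, ?_, N, hNn, hfinal, hEA, hminN⟩
  rw [hcardG, hPcard, hfinal]

end Cfsg.Agent.S3868
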