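import Cfsg.Statements.S3869
import Cfsg.Agent.Helper64.MinNonPClosed

set_option autoImplicit false
open Cfsg

namespace Cfsg.Agent.S3869

open Cfsg.Agent.Helper64

lemma isPClosed_of_isPGroup {K : Type*} [Group K] {p : ℕ} (h : IsPGroup p K) : Cfsg.IsPClosed p K := by
  intro P
  have hG : IsPGroup p (⊤ : Subgroup K) := h.to_subgroup ⊤
  have : (⊤ : Subgroup K) = P := P.is_maximal' hG le_top
  rw [← this]
  infer_instance

lemma isPClosed_of_not_dvd {K : Type*} [Group K] [Finite K] {p : ℕ} [Fact p.Prime]
    (h : ¬ p ∣ Nat.card K) : Cfsg.IsPClosed p K := by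
  intro P
  have : (P : Subgroup K) = ⊥ := by
    obtain ⟨n, hn⟩ := IsPGroup.iff_card.mp P.2
    have hdvd : Nat.card (P : Subgroup K) ∣ Nat.card K := Subgroup.card_subgroup_dvd_card _
    rw [hn] at hdvd
    have hn0 : n = 0 := by
      by_contra hne
      exact h (dvd_trans (dvd_pow_self p hne) hdvd)
    rw [hn0, pow_zero] at hn
    exact Subgroup.card_eq_one.mp hn
  rw [this]
  infer_instance

lemma isPGroup_of_card_dvd_prime {K : Type*} [Group K] {p : ℕ} [Fact p.Prime] (h : Nat.card K ∣ p) :
    IsPGroup p K := by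
  rcases (Nat.dvd_prime (Fact.out : p.Prime)).mp h with h1 | h1
  · exact IsPGroup.of_card (n := 0) (by rw [h1, pow_zero])
  · exact IsPGroup.of_card (n := 1) (by rw [h1, pow_one])

theorem result {G : Type*} [Group G] [Finite G] {p q : ℕ} [Fact p.Prime] (hq : q.Prime) (hpq : q ≠ p)
    (hna : ¬ IsMulCommutative G) (A : Subgroup G) [A.Normal] (hA : Cfsg.IsElementaryAbelian q A) (hidx : A.index = p)
    (hmin : ∀ B : Subgroup G, B.Normal → B ≤ A → B = ⊥ ∨ B = A) :
    Nat.card ↥A = q ^ orderOf (q : ZMod p) ∧ ¬ Cfsg.IsPClosed p G ∧ (∀ H : Subgroup G, H ≠ ⊤ → Cfsg.IsPClosed p ↥H) ∧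
      ∀ (N : Subgroup G) [N.Normal], N ≠ ⊥ → Cfsg.IsPClosed p (G ⧸ N) := by
  classical
  have hpp : p.Prime := Fact.out
  have hqf : Fact q.Prime := ⟨hq⟩
  have hAcomm : ∀ a ∈ A, ∀ b ∈ A, a * b = b * a := by
    intro a ha b hb
    have := isMulCommutative_iff.mp hA.1 (⟨a, ha⟩ : A) ⟨b, hb⟩
    exact congrArg Subtype.val this
  have hAq : IsPGroup q A := by
    intro a
    refine ⟨1, ?_⟩
    rw [pow_one]
    apply Subtype.ext
    simpa using hA.2 a a.2
  -- an element of order p outside A
  have hpG : p ∣ Nat.card G := by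
    rw [← Subgroup.index_mul_card A, hidx]
    exact dvd_mul_right _ _
  obtain ⟨x, hx⟩ := exists_prime_orderOf_dvd_card' p hpG
  have hnotA : ∀ y : G, orderOf y = p → y ∉ A := by
    intro y hy hyA
    have h1 : y ^ q = 1 := hA.2 y hyA
    have h2 : p ∣ q := hy ▸ orderOf_dvd_of_pow_eq_one h1
    exact hpq ((Nat.prime_dvd_prime_iff_eq hpp hq).mp h2).symm
  have hxA := hnotA x hx
  have hxp : x ^ p = 1 := hx ▸ pow_orderOf_eq_one x
  -- key facts
  have hgen : ∀ y : G, y ∉ A → A ⊔ Subgroup.zpowers y = ⊤ := fun y hy =>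
    sup_zpowers_eq_top_of_index_prime A hpp hidx y hy
  have hcentral : ∀ y : G, y ∉ A → ¬ (∀ a ∈ A, y * a = a * y) := by
    intro y hy hc
    exact hna (isMulCommutative_of_sup_zpowers A y (hgen y hy) hAcomm hc)
  -- (M): subgroups containing an outside element meet A in ⊥ or A
  have hM : ∀ (H : Subgroup G) (y : G), y ∈ H → y ∉ A → H ⊓ A = ⊥ ∨ A ≤ H := by
    intro H y hyH hyA
    have hn : (H ⊓ A).Normal := by
      rw [← Subgroup.normalizer_eq_top_iff, eq_top_iff, ← hgen y hyA, sup_le_iff]
      constructor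
      · intro a ha
        apply mem_normalizer_of_conj_mem
        intro b hb
        have : a * b * a⁻¹ = b := by
          rw [hAcomm a ha b hb.2]; simp
        rwa [this]
      · rw [Subgroup.zpowers_le]
        apply mem_normalizer_of_conj_mem
        intro b hb
        exact ⟨H.mul_mem (H.mul_mem hyH hb.1) (H.inv_mem hyH),
          Subgroup.Normal.conj_mem inferInstance b hb.2 y⟩
    rcases hmin _ hn inf_le_right with h | h
    · left; exact h
    · right; rw [← h]; exact inf_le_left
  -- (K): subgroups meeting A trivially have order dividing p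
  have hK : ∀ H : Subgroup G, H ⊓ A = ⊥ → Nat.card H ∣ p := by
    intro H hHA
    have hinj : Function.Injective ((QuotientGroup.mk' A).comp H.subtype) := by
      rw [← MonoidHom.ker_eq_bot_iff, eq_bot_iff]
      intro h hh
      rw [MonoidHom.mem_ker, MonoidHom.comp_apply, QuotientGroup.mk'_apply, QuotientGroup.eq_one_iff] at hh
      have : (h : G) ∈ H ⊓ A := ⟨h.2, hh⟩
      rw [hHA, Subgroup.mem_bot] at this
      rw [Subgroup.mem_bot]
      exact Subtype.ext this
    have := Subgroup.card_dvd_of_injective _ hinj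
    rwa [← Subgroup.index_eq_card, hidx] at this
  refine ⟨card_of_minimal_normal_index_prime hq hpq hna A hA hidx hmin x hxp hxA, ?_, ?_, ?_⟩
  · -- not p-closed
    intro hcl
    have hxpg : IsPGroup p (Subgroup.zpowers x) := by
      apply IsPGroup.of_card (n := 1)
      rw [Nat.card_zpowers, hx, pow_one]
    obtain ⟨P, hP⟩ := hxpg.exists_le_sylow
    have hPn : (P : Subgroup G).Normal := hcl P
    have hdisj : Disjoint (P : Subgroup G) A := by
      rw [disjoint_iff, eq_bot_iff]
      intro g hg
      rw [Subgroup.mem_bot]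
      obtain ⟨k, hk⟩ := P.2 ⟨g, hg.1⟩
      have hk' : g ^ p ^ k = 1 := by
        have := congrArg Subtype.val hk
        simpa using this
      have hq' : g ^ q = 1 := hA.2 g hg.2
      have h1 : orderOf g ∣ p ^ k := orderOf_dvd_of_pow_eq_one hk'
      have h2 : orderOf g ∣ q := orderOf_dvd_of_pow_eq_one hq'
      have hcop : Nat.Coprime (p ^ k) q := Nat.Coprime.pow_left k ((Nat.coprime_primes hpp hq).mpr (Ne.symm hpq))
      have : orderOf g ∣ 1 := by
        have := Nat.dvd_gcd h1 h2
        rwa [hcop] at this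
      exact orderOf_eq_one_iff.mp (Nat.dvd_one.mp this)
    apply hcentral x hxA
    intro a ha
    exact (Subgroup.commute_of_normal_of_disjoint _ _ hPn inferInstance hdisj x a
      (hP (Subgroup.mem_zpowers x)) ha).eq
  · -- proper subgroups
    intro H hH
    by_cases hHA : H ≤ A
    · apply isPClosed_of_not_dvd
      intro hdvd
      obtain ⟨y, hy⟩ := exists_prime_orderOf_dvd_card' p hdvd
      have : orderOf (y : G) = p := by rw [← hy]; exact Subgroup.orderOf_coe y
      exact hnotA _ this (hHA y.2)
    · obtain ⟨y, hyH, hyA⟩ := SetLike.not_le_iff_exists.mp hHA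
      rcases hM H y hyH hyA with h | h
      · exact isPClosed_of_isPGroup (isPGroup_of_card_dvd_prime (hK H h))
      · exfalso
        apply hH
        rw [eq_top_iff, ← hgen y hyA, sup_le_iff]
        exact ⟨h, by rw [Subgroup.zpowers_le]; exact hyH⟩
  · -- proper quotients
    intro N hNn hN
    by_cases hNA : N ≤ A
    · have hNeq : N = A := by
        rcases hmin N hNn hNA with h | h
        · exact absurd h hN
        · exact h
      apply isPClosed_of_isPGroup
      apply isPGroup_of_card_dvd_prime
      rw [← Subgroup.index_eq_card, hNeq, hidx]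
    · obtain ⟨y, hyN, hyA⟩ := SetLike.not_le_iff_exists.mp hNA
      rcases hM N y hyN hyA with h | h
      · exfalso
        apply hcentral y hyA
        intro a ha
        exact (Subgroup.commute_of_normal_of_disjoint _ _ hNn inferInstance (disjoint_iff.mpr h) y a hyN ha).eq
      · apply isPClosed_of_isPGroup
        apply isPGroup_of_card_dvd_prime
        rw [← Subgroup.index_eq_card, ← hidx]
        exact Subgroup.index_dvd_of_le h

end Cfsg.Agent.S3869
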