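import Cfsg.Statements.S3870
import Cfsg.Agent.Helper64.PClosed

set_option autoImplicit false
open Cfsg

namespace Cfsg.Agent.S3870

open Cfsg.Agent.Helper64

lemma sylow_ne_top {G : Type*} [Group G] [Finite G] {p : ℕ} [Fact p.Prime]
    (hnc : ¬ Cfsg.IsPClosed p G) (P : Sylow p G) : (P : Subgroup G) ≠ ⊤ := by
  intro h
  apply hnc
  intro Q
  have hG : IsPGroup p (⊤ : Subgroup G) := h ▸ P.2
  have : (⊤ : Subgroup G) = Q := Q.is_maximal' hG le_top
  rw [← this]
  infer_instance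

lemma normalizer_ne_top {G : Type*} [Group G] [Finite G] [IsSimpleGroup G] {p : ℕ} [Fact p.Prime]
    (hnc : ¬ Cfsg.IsPClosed p G) (P : Sylow p G) (D : Subgroup G) (hDP : D ≤ P) (hD : D ≠ ⊥) :
    Subgroup.normalizer (D : Set G) ≠ ⊤ := by
  intro h
  have hn : D.Normal := Subgroup.normalizer_eq_top_iff.mp h
  rcases hn.eq_bot_or_eq_top with h1 | h1
  · exact hD h1
  · apply sylow_ne_top hnc P
    rw [eq_top_iff, ← h1]
    exact hDP

/-- Key step: for nontrivial `D ≤ P`, there is a Sylow subgroup `P₁` containing every `p`-subgroup of `N_G(D)`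
and such that `N_G(D)` normalizes a `p`-subgroup `S ≤ P₁` containing all those. -/
lemma key {G : Type*} [Group G] [Finite G] [IsSimpleGroup G] {p : ℕ} [Fact p.Prime]
    (hnc : ¬ Cfsg.IsPClosed p G) (hsub : ∀ H : Subgroup G, H ≠ ⊤ → Cfsg.IsPClosed p ↥H)
    (P : Sylow p G) (D : Subgroup G) (hDP : D ≤ P) (hD : D ≠ ⊥) :
    ∃ (S : Subgroup G) (P₁ : Sylow p G), S ≤ P₁ ∧ D ≤ S ∧
      Subgroup.normalizer (D : Set G) ≤ Subgroup.normalizer (S : Set G) ∧
      ∀ X : Subgroup G, X ≤ Subgroup.normalizer (D : Set G) → IsPGroup p X → X ≤ S := by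
  have hN := normalizer_ne_top hnc P D hDP hD
  obtain ⟨S, hSN, hSp, hNS, hall⟩ := exists_normal_sylow_of_isPClosed _ (hsub _ hN)
  obtain ⟨P₁, hP₁⟩ := hSp.exists_le_sylow
  exact ⟨S, P₁, hP₁, hall D Subgroup.le_normalizer (P.2.to_le hDP), hNS, hall⟩

theorem result {G : Type*} [Group G] [Finite G] [IsSimpleGroup G] {p : ℕ} [Fact p.Prime]
    (hnc : ¬ Cfsg.IsPClosed p G) (hsub : ∀ H : Subgroup G, H ≠ ⊤ → Cfsg.IsPClosed p ↥H) :
    (∀ P Q : Sylow p G, P ≠ Q → (P : Subgroup G) ⊓ (Q : Subgroup G) = ⊥) ∧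
      ∀ (P : Sylow p G) (R : Subgroup G), R ≤ P → R ≠ ⊥ →
        Subgroup.normalizer (R : Set G) ≤ Subgroup.normalizer ((P : Subgroup G) : Set G) := by
  classical
  have hTI : ∀ P Q : Sylow p G, P ≠ Q → (P : Subgroup G) ⊓ (Q : Subgroup G) = ⊥ := by
    by_contra hcon
    push_neg at hcon
    obtain ⟨P₀, Q₀, hne₀, hD₀⟩ := hcon
    let α := {pq : Sylow p G × Sylow p G // pq.1 ≠ pq.2}
    have : Nonempty α := ⟨⟨(P₀, Q₀), hne₀⟩⟩
    obtain ⟨⟨⟨P, Q⟩, hPQ⟩, hmax⟩ := Finite.exists_max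
      (fun pq : α => Nat.card ((pq.1.1 : Subgroup G) ⊓ (pq.1.2 : Subgroup G) : Subgroup G))
    simp only at hPQ
    set D : Subgroup G := (P : Subgroup G) ⊓ (Q : Subgroup G) with hDdef
    have hDne : D ≠ ⊥ := by
      intro h
      have h1 := hmax ⟨(P₀, Q₀), hne₀⟩
      simp only at h1
      rw [h] at h1
      have h2 : Nat.card ((P₀ : Subgroup G) ⊓ (Q₀ : Subgroup G) : Subgroup G) = 1 := by
        have := Nat.card_pos (α := ((P₀ : Subgroup G) ⊓ (Q₀ : Subgroup G) : Subgroup G))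
        simp only [Subgroup.card_bot] at h1
        omega
      exact hD₀ (Subgroup.card_eq_one.mp h2)
    -- strictness
    have hDP : D < (P : Subgroup G) := by
      refine lt_of_le_of_ne inf_le_left ?_
      intro h
      have hle : (P : Subgroup G) ≤ Q := by rw [← h]; exact inf_le_right
      exact hPQ (Sylow.ext (P.is_maximal' Q.2 hle).symm)
    have hDQ : D < (Q : Subgroup G) := by
      refine lt_of_le_of_ne inf_le_right ?_
      intro h
      have hle : (Q : Subgroup G) ≤ P := by rw [← h]; exact inf_le_left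
      exact hPQ (Sylow.ext (Q.is_maximal' P.2 hle))
    obtain ⟨S, P₁, hSP₁, hDS, hNS, hall⟩ := key hnc hsub P D hDP.le hDne
    -- general claim
    have claim : ∀ P' : Sylow p G, D < (P' : Subgroup G) → P₁ = P' := by
      intro P' hDP'
      by_contra hne
      obtain ⟨x, hxP, hxN, hxD⟩ := exists_mem_normalizer_not_mem (P' : Subgroup G) D P'.2 hDP'
      have h1 := hmax ⟨(P', P₁), fun h => hne h.symm⟩
      simp only at h1
      have hle : D ≤ (P' : Subgroup G) ⊓ (P₁ : Subgroup G) := le_inf hDP'.le (hDS.trans hSP₁)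
      have hxS : x ∈ S := by
        have hz : Subgroup.zpowers x ≤ Subgroup.normalizer (D : Set G) := by
          rw [Subgroup.zpowers_le]; exact hxN
        have hzp : IsPGroup p (Subgroup.zpowers x) := P'.2.to_le (by rw [Subgroup.zpowers_le]; exact hxP)
        exact hall _ hz hzp (Subgroup.mem_zpowers x)
      have hx' : x ∈ (P' : Subgroup G) ⊓ (P₁ : Subgroup G) := ⟨hxP, hSP₁ hxS⟩
      have heq : D = (P' : Subgroup G) ⊓ (P₁ : Subgroup G) :=
        Subgroup.eq_of_le_of_card_ge hle h1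
      exact hxD (heq ▸ hx')
    exact hPQ ((claim P hDP).symm.trans (claim Q hDQ))
  refine ⟨hTI, ?_⟩
  intro P R hRP hR g hg
  obtain ⟨S, P₁, hSP₁, hRS, hNS, hall⟩ := key hnc hsub P R hRP hR
  have hP₁ : P₁ = P := by
    by_contra hne
    have := hTI P₁ P hne
    apply hR
    rw [eq_bot_iff, ← this]
    exact le_inf (hRS.trans hSP₁) hRP
  rw [hP₁] at hSP₁
  -- g • P = P
  have hgP : g • P = P := by
    by_contra hne
    have := hTI (g • P) P hne
    apply hR
    rw [eq_bot_iff, ← this]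
    refine le_inf ?_ hRP
    intro y hy
    rw [Sylow.coe_subgroup_smul, Subgroup.mem_pointwise_smul_iff_inv_smul_mem]
    have hyS : y ∈ S := hRS hy
    have hgS := hNS hg
    rw [Subgroup.mem_normalizer_iff] at hgS
    have : g⁻¹ * y * g ∈ S := by
      rw [hgS]
      simpa [mul_assoc] using hyS
    have := hSP₁ this
    simpa [MulAut.smul_def, mul_assoc] using this
  exact Sylow.smul_eq_iff_mem_normalizer.mp hgP

end Cfsg.Agent.S3870
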