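import Cfsg.Statements.S3872
import Cfsg.Agent.S4225
import Cfsg.Agent.S4209
import Cfsg.Agent.Helper73.PGroupCyclic
import Cfsg.Agent.Helper52.PGroupLemmas

set_option autoImplicit false
open Cfsg

namespace Cfsg.Agent.S3872

section aux
variable {G : Type*} [Group G]

/-- lower central series: once stationary, always stationary -/
theorem lcs_stationary' {i : ℕ}
    (h : (⊤ : Subgroup G).lowerCentralSeries (i + 1) = (⊤ : Subgroup G).lowerCentralSeries i) (k : ℕ) :
    (⊤ : Subgroup G).lowerCentralSeries (i + k) = (⊤ : Subgroup G).lowerCentralSeries i := by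
  induction k with
  | zero => rfl
  | succ k ih =>
    rw [← add_assoc, Subgroup.lowerCentralSeries_succ, ih, ← Subgroup.lowerCentralSeries_succ, h]

theorem lcs_lt [Group.IsNilpotent G] {i : ℕ} (h : (⊤ : Subgroup G).lowerCentralSeries i ≠ ⊥) :
    (⊤ : Subgroup G).lowerCentralSeries (i + 1) < (⊤ : Subgroup G).lowerCentralSeries i := by
  refine lt_of_le_of_ne (Subgroup.lowerCentralSeries_antitone _ (Nat.le_succ i)) ?_
  intro heq
  obtain ⟨n, hn⟩ := Subgroup.nilpotent_iff_lowerCentralSeries.1 (inferInstance : Group.IsNilpotent G)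
  apply h
  rw [← lcs_stationary' heq n]
  exact le_bot_iff.1 (hn ▸ Subgroup.lowerCentralSeries_antitone _ (Nat.le_add_left n i))

theorem mul_index_le_of_lt [Finite G] {p : ℕ} [hp : Fact p.Prime] (hG : IsPGroup p G)
    {H K : Subgroup G} (hlt : H < K) : p * K.index ≤ H.index := by
  rw [← Subgroup.relIndex_mul_index hlt.le]
  apply Nat.mul_le_mul_right
  have h1 : H.relIndex K ≠ 1 := by
    intro h
    rw [Subgroup.relIndex_eq_one] at h
    exact lt_irrefl _ (lt_of_lt_of_le hlt h)
  obtain ⟨n, hn⟩ := (hG.to_subgroup K).index (H.subgroupOf K)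
  rw [Subgroup.relIndex, hn] at h1 ⊢
  cases n with
  | zero => simp at h1
  | succ n => exact Nat.le_self_pow (Nat.succ_ne_zero n) p

/-- `p ^ (k + 2)` bounds the index of `γ_{k+1}` when `γ_k ≠ 1`, `k ≥ 1` (0-indexed series). -/
theorem pow_le_index_lcs [Finite G] {p : ℕ} [hp : Fact p.Prime] (hG : IsPGroup p G) (k : ℕ)
    (h : (⊤ : Subgroup G).lowerCentralSeries (k + 1) ≠ ⊥) :
    p ^ (k + 3) ≤ ((⊤ : Subgroup G).lowerCentralSeries (k + 2)).index := by
  haveI : Group.IsNilpotent G := hG.isNilpotent
  induction k with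
  | zero =>
    -- index of the derived subgroup is at least p^2
    have h2 : p ^ 2 ≤ ((⊤ : Subgroup G).lowerCentralSeries 1).index := by
      rw [Subgroup.top_lowerCentralSeries_one]
      by_contra hlt
      push Not at hlt
      obtain ⟨n, hn⟩ := hG.index (commutator G)
      rw [hn] at hlt
      have hn1 : n ≤ 1 := by
        by_contra h'
        push Not at h'
        exact absurd (Nat.pow_le_pow_right hp.out.pos h') (not_le.2 hlt)
      -- the quotient is cyclic
      have hcyc : IsCyclic (G ⧸ commutator G) := by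
        have hc : Nat.card (G ⧸ commutator G) = p ^ n := hn
        interval_cases n
        · haveI : Subsingleton (G ⧸ commutator G) :=
            (Nat.card_eq_one_iff_unique.1 (by simpa using hc)).1
          infer_instance
        · exact isCyclic_of_prime_card (p := p) (by simpa using hc)
      obtain ⟨g, hg⟩ := hcyc.exists_generator
      obtain ⟨x, rfl⟩ := QuotientGroup.mk_surjective g
      have hx : Subgroup.zpowers x ⊔ commutator G = ⊤ := by
        rw [eq_top_iff]
        intro y _
        obtain ⟨m, hm⟩ := Subgroup.mem_zpowers_iff.1 (hg (y : G ⧸ commutator G))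
        have : (x ^ m)⁻¹ * y ∈ commutator G := by
          rw [← QuotientGroup.eq]
          simpa using hm
        have hy : y = x ^ m * ((x ^ m)⁻¹ * y) := by group
        rw [hy]
        exact Subgroup.mul_mem_sup (Subgroup.zpow_mem_zpowers x m) this
      have htop := Cfsg.Agent.Helper70.zpowers_eq_top_of_sup_commutator hG x hx
      -- so G is commutative, contradiction
      apply h
      rw [zero_add, Subgroup.top_lowerCentralSeries_one, _root_.commutator, Subgroup.commutator_eq_bot_iff_le_centralizer,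
        ← htop]
      rw [Subgroup.zpowers_le]
      rw [Subgroup.mem_centralizer_iff]
      intro y hy
      obtain ⟨m, rfl⟩ := Subgroup.mem_zpowers_iff.1 (show y ∈ Subgroup.zpowers x by rw [htop]; trivial)
      group
    have h3 := mul_index_le_of_lt hG (lcs_lt (G := G) (i := 1) (by simpa using h))
    calc p ^ (0 + 3) = p * p ^ 2 := by ring
      _ ≤ p * ((⊤ : Subgroup G).lowerCentralSeries 1).index := Nat.mul_le_mul_left _ h2
      _ ≤ _ := h3
  | succ k ih =>
    have hk : (⊤ : Subgroup G).lowerCentralSeries (k + 1) ≠ ⊥ := by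
      intro h0
      apply h
      exact le_bot_iff.1 (h0 ▸ Subgroup.lowerCentralSeries_antitone _ (Nat.le_succ (k+1)))
    have h3 := mul_index_le_of_lt hG (lcs_lt (G := G) (i := k + 1 + 1) h)
    calc p ^ (k + 1 + 3) = p * p ^ (k + 3) := by ring
      _ ≤ p * ((⊤ : Subgroup G).lowerCentralSeries (k + 2)).index := Nat.mul_le_mul_left _ (ih hk)
      _ ≤ _ := h3

end aux

universe u

theorem main_aux {G : Type u} [Group G] [Finite G] {p : ℕ} [Fact p.Prime] (hG : IsPGroup p G)
    (hreg : (⊤ : Subgroup G).lowerCentralSeries (p - 1) = ⊥ → Cfsg.IsRegularPGroup p G)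
    (hnc : ¬ (∃ H : Subgroup G, (H : Set G) = {g : G | g ^ p = 1})) (hsub : ∀ K : Subgroup G, K ≠ ⊤ → (∃ H : Subgroup ↥K, (H : Set ↥K) = {g : ↥K | g ^ p = 1}))
    (hquo : ∀ (N : Subgroup G) [N.Normal], N ≠ ⊥ → (∃ H : Subgroup (G ⧸ N), (H : Set (G ⧸ N)) = {g : (G ⧸ N) | g ^ p = 1})) :
    (∃ x y : G, Subgroup.closure ({x, y} : Set G) = ⊤) ∧ (⊤ : Subgroup G).lowerCentralSeries (p - 1) ≠ ⊥ ∧
      Monoid.exponent G = p ^ 2 ∧ IsCyclic ↥(Subgroup.center G) ∧ p ^ (p + 1) ≤ Nat.card G := by
  have hp : p.Prime := Fact.out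
  -- step 1: two elements of order dividing p whose product is not
  obtain ⟨x, y, hx, hy, hxy⟩ : ∃ x y : G, x ^ p = 1 ∧ y ^ p = 1 ∧ (x * y) ^ p ≠ 1 := by
    by_contra hcon
    push Not at hcon
    apply hnc
    exact ⟨{ carrier := {g : G | g ^ p = 1}
             mul_mem' := fun {a b} ha hb => hcon a b ha hb
             one_mem' := one_pow _
             inv_mem' := fun {a} ha => by
               show (a⁻¹) ^ p = 1
               rw [inv_pow, ha, inv_one] }, rfl⟩
  -- step 2: G = ⟨x, y⟩
  have hgen : Subgroup.closure ({x, y} : Set G) = ⊤ := by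
    by_contra hK
    obtain ⟨H, hH⟩ := hsub _ hK
    have hxK : x ∈ Subgroup.closure ({x, y} : Set G) := Subgroup.subset_closure (by simp)
    have hyK : y ∈ Subgroup.closure ({x, y} : Set G) := Subgroup.subset_closure (by simp)
    have hxH : (⟨x, hxK⟩ : Subgroup.closure ({x, y} : Set G)) ∈ H := by
      rw [← SetLike.mem_coe, hH]
      exact Subtype.ext (by simpa using hx)
    have hyH : (⟨y, hyK⟩ : Subgroup.closure ({x, y} : Set G)) ∈ H := by
      rw [← SetLike.mem_coe, hH]
      exact Subtype.ext (by simpa using hy)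
    have hm := H.mul_mem hxH hyH
    rw [← SetLike.mem_coe, hH] at hm
    apply hxy
    have := congrArg Subtype.val hm
    simpa using this
  -- step 3: class at least p
  have hclass : (⊤ : Subgroup G).lowerCentralSeries (p - 1) ≠ ⊥ := by
    intro h
    obtain ⟨H, -, hH⟩ := Cfsg.Agent.S4225.result (hreg h) 1
    apply hnc
    exact ⟨H, by simpa using hH⟩
  -- step 4: p-th powers lie in every central subgroup of order p
  have hpow : ∀ z : G, z ∈ Subgroup.center G → z ≠ 1 → ∀ g : G, g ^ p ∈ Subgroup.zpowers z := by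
    intro z hz hz1 g
    haveI : (Subgroup.zpowers z).Normal :=
      Cfsg.Agent.Helper52.normal_of_le_center (by rw [Subgroup.zpowers_le]; exact hz)
    have hne : Subgroup.zpowers z ≠ ⊥ := by
      rw [Ne, Subgroup.zpowers_eq_bot]; exact hz1
    obtain ⟨H, hH⟩ := hquo (Subgroup.zpowers z) hne
    have hxH : (x : G ⧸ Subgroup.zpowers z) ∈ H := by
      rw [← SetLike.mem_coe, hH]
      show (x : G ⧸ Subgroup.zpowers z) ^ p = 1
      rw [← QuotientGroup.mk_pow, hx]; rfl
    have hyH : (y : G ⧸ Subgroup.zpowers z) ∈ H := by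
      rw [← SetLike.mem_coe, hH]
      show (y : G ⧸ Subgroup.zpowers z) ^ p = 1
      rw [← QuotientGroup.mk_pow, hy]; rfl
    have hle : Subgroup.closure ({x, y} : Set G) ≤ H.comap (QuotientGroup.mk' (Subgroup.zpowers z)) := by
      rw [Subgroup.closure_le]
      intro w hw
      rcases hw with rfl | rfl
      · exact hxH
      · exact hyH
    rw [hgen] at hle
    have hg : (g : G ⧸ Subgroup.zpowers z) ∈ H := hle (Subgroup.mem_top g)
    rw [← SetLike.mem_coe, hH] at hg
    have hg' : (g : G ⧸ Subgroup.zpowers z) ^ p = 1 := hg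
    rw [← QuotientGroup.mk_pow, QuotientGroup.eq_one_iff] at hg'
    exact hg'
  -- G is nontrivial
  have hnt : Nontrivial G := by
    by_contra hnt
    rw [not_nontrivial_iff_subsingleton] at hnt
    exact hxy (Subsingleton.elim _ _)
  -- a central element of order p
  obtain ⟨z, -, hzc, hzo⟩ := Cfsg.Agent.Helper52.exists_central_orderOf_eq_prime hG (⊤ : Subgroup G)
    (by simpa using (Subgroup.nontrivial_iff_ne_bot (⊤ : Subgroup G)).1 inferInstance)
  have hz1 : z ≠ 1 := by
    intro h; rw [h, orderOf_one] at hzo; exact hp.one_lt.ne hzo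
  -- step 5: exponent p^2
  have hexp : Monoid.exponent G = p ^ 2 := by
    have hdvd : Monoid.exponent G ∣ p ^ 2 := by
      apply Monoid.exponent_dvd_of_forall_pow_eq_one
      intro g
      obtain ⟨k, hk⟩ := Subgroup.mem_zpowers_iff.1 (hpow z hzc hz1 g)
      rw [pow_two, pow_mul, ← hk, ← zpow_natCast, ← zpow_mul, mul_comm, zpow_mul, zpow_natCast, ← hzo,
        pow_orderOf_eq_one, one_zpow]
    obtain ⟨m, hm, hme⟩ := (Nat.dvd_prime_pow hp).1 hdvd
    have : m = 2 := by
      by_contra hm2
      have hm1 : m ≤ 1 := by omega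
      apply hxy
      have h1 : (x * y) ^ Monoid.exponent G = 1 := Monoid.pow_exponent_eq_one _
      rw [hme] at h1
      interval_cases m
      · rw [pow_zero, pow_one] at h1
        rw [h1, one_pow]
      · simpa using h1
    rw [hme, this]
  refine ⟨⟨x, y, hgen⟩, hclass, hexp, ?_, ?_⟩
  · -- step 6: cyclic center
    apply Cfsg.Agent.Helper73.isCyclic_of_comm_of_uniqueOrderP (p := p) (hG.to_subgroup _)
    · intro a b
      exact Subtype.ext ((Subgroup.mem_center_iff.1 a.2 b.1).symm)
    · intro a b ha hb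
      by_contra hnot
      have ha' : orderOf (a : G) = p := by rw [Subgroup.orderOf_coe]; exact ha
      have hb' : orderOf (b : G) = p := by rw [Subgroup.orderOf_coe]; exact hb
      have ha1 : (a : G) ≠ 1 := by
        intro h; rw [h, orderOf_one] at ha'; exact hp.one_lt.ne ha'
      have hb1 : (b : G) ≠ 1 := by
        intro h; rw [h, orderOf_one] at hb'; exact hp.one_lt.ne hb'
      -- the intersection of the two subgroups is trivial
      have hinf : Subgroup.zpowers (a : G) ⊓ Subgroup.zpowers (b : G) = ⊥ := by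
        by_contra hne
        have hcard : Nat.card (Subgroup.zpowers (b : G)) = p := by rw [Nat.card_zpowers, hb']
        have hle : Subgroup.zpowers (a : G) ⊓ Subgroup.zpowers (b : G) ≤ Subgroup.zpowers (b : G) := inf_le_right
        have hd := Subgroup.card_dvd_of_le hle
        rw [hcard] at hd
        rcases (Nat.dvd_prime hp).1 hd with h1 | h1
        · exact hne (Subgroup.card_eq_one.1 h1)
        · have heq : Subgroup.zpowers (a : G) ⊓ Subgroup.zpowers (b : G) = Subgroup.zpowers (b : G) := by
            apply Subgroup.eq_of_le_of_card_ge hle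
            rw [h1, hcard]
          have hb_in : (b : G) ∈ Subgroup.zpowers (a : G) := by
            have : (b : G) ∈ Subgroup.zpowers (a : G) ⊓ Subgroup.zpowers (b : G) := by
              rw [heq]; exact Subgroup.mem_zpowers _
            exact this.1
          apply hnot
          obtain ⟨k, hk⟩ := Subgroup.mem_zpowers_iff.1 hb_in
          exact Subgroup.mem_zpowers_iff.2 ⟨k, Subtype.ext (by simpa using hk)⟩
      apply hxy
      have h1 := hpow a a.2 ha1 (x * y)
      have h2 := hpow b b.2 hb1 (x * y)
      have : (x * y) ^ p ∈ Subgroup.zpowers (a : G) ⊓ Subgroup.zpowers (b : G) := ⟨h1, h2⟩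
      rw [hinf] at this
      exact this
  · -- step 7: order at least p^(p+1)
    have hp2 : 2 ≤ p := hp.two_le
    obtain ⟨k, hk⟩ : ∃ k, p - 1 = k + 1 := ⟨p - 2, by omega⟩
    rw [hk] at hclass
    have h1 := pow_le_index_lcs hG k hclass
    have h2 : ((⊤ : Subgroup G).lowerCentralSeries (k + 2)).index ≤ Nat.card G :=
      Nat.le_of_dvd Nat.card_pos (Subgroup.index_dvd_card _)
    have : p + 1 = k + 3 := by omega
    rw [this]
    exact le_trans h1 h2

/-- Say that a finite group is p-exponent closed when its elements of order dividing p form a subgroup. Let G be a finite p-group that is not p-exponent closed, but all of whose proper subgroups and proper quotients are. Then G is generated by two elements, has nilpotency class at least p, has exponent p², has cyclic center, and has order at least p^(p+1). -/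
theorem result {G : Type*} [Group G] [Finite G] {p : ℕ} [Fact p.Prime] (hG : IsPGroup p G)
    (hnc : ¬ (∃ H : Subgroup G, (H : Set G) = {g : G | g ^ p = 1})) (hsub : ∀ K : Subgroup G, K ≠ ⊤ → (∃ H : Subgroup ↥K, (H : Set ↥K) = {g : ↥K | g ^ p = 1}))
    (hquo : ∀ (N : Subgroup G) [N.Normal], N ≠ ⊥ → (∃ H : Subgroup (G ⧸ N), (H : Set (G ⧸ N)) = {g : (G ⧸ N) | g ^ p = 1})) :
    (∃ x y : G, Subgroup.closure ({x, y} : Set G) = ⊤) ∧ (⊤ : Subgroup G).lowerCentralSeries (p - 1) ≠ ⊥ ∧
      Monoid.exponent G = p ^ 2 ∧ IsCyclic ↥(Subgroup.center G) ∧ p ^ (p + 1) ≤ Nat.card G := by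
  exact main_aux hG (fun h => Cfsg.Agent.S4209.result hG h) hnc hsub hquo

end Cfsg.Agent.S3872
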