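import Cfsg.Statements.S3873
import Cfsg.Agent.S3868

set_option autoImplicit false
open Cfsg

namespace Cfsg.Agent.S3873

open Cfsg.Agent.Helper64

theorem result {G : Type*} [Group G] [Finite G] {p : ℕ} [Fact p.Prime]
    (hnc : ¬ (∃ H : Subgroup G, (H : Set G) = {g : G | g ^ p = 1})) (hsub : ∀ K : Subgroup G, K ≠ ⊤ → (∃ H : Subgroup ↥K, (H : Set ↥K) = {g : ↥K | g ^ p = 1}))
    (hquo : ∀ (N : Subgroup G) [N.Normal], N ≠ ⊥ → (∃ H : Subgroup (G ⧸ N), (H : Set (G ⧸ N)) = {g : (G ⧸ N) | g ^ p = 1}))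
    (hns : ¬ IsSimpleGroup G) (hnp : ¬ IsPGroup p G) :
    ∃ q : ℕ, q.Prime ∧ q ≠ p ∧ Nat.card G = p * q ^ orderOf (q : ZMod p) ∧
      ∃ A : Subgroup G, A.Normal ∧ Nat.card ↥A = q ^ orderOf (q : ZMod p) ∧ Cfsg.IsElementaryAbelian q A ∧
        ∀ B : Subgroup G, B.Normal → B ≤ A → B = ⊥ ∨ B = A := by
  classical
  have hpp : p.Prime := Fact.out
  -- Step A
  obtain ⟨a, b, ha, hb, hab⟩ : ∃ a b : G, a ^ p = 1 ∧ b ^ p = 1 ∧ (a * b) ^ p ≠ 1 := by
    by_contra hcon
    push Not at hcon
    apply hnc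
    exact ⟨{ carrier := {g | g ^ p = 1}
             one_mem' := one_pow _
             mul_mem' := fun {x y} hx hy => hcon x y hx hy
             inv_mem' := fun {x} hx => by
               change (x⁻¹) ^ p = 1
               rw [inv_pow, show x ^ p = 1 from hx, inv_one] }, rfl⟩
  -- Step B
  have hgen : Subgroup.closure ({a, b} : Set G) = ⊤ := by
    by_contra hne
    obtain ⟨H, hH⟩ := hsub _ hne
    have haK : a ∈ Subgroup.closure ({a, b} : Set G) := Subgroup.subset_closure (by simp)
    have hbK : b ∈ Subgroup.closure ({a, b} : Set G) := Subgroup.subset_closure (by simp)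
    have ha' : (⟨a, haK⟩ : Subgroup.closure ({a, b} : Set G)) ∈ H := by
      rw [← SetLike.mem_coe, hH]
      exact Subtype.ext (by simpa using ha)
    have hb' : (⟨b, hbK⟩ : Subgroup.closure ({a, b} : Set G)) ∈ H := by
      rw [← SetLike.mem_coe, hH]
      exact Subtype.ext (by simpa using hb)
    have hab' := H.mul_mem ha' hb'
    rw [← SetLike.mem_coe, hH] at hab'
    have := congrArg Subtype.val (show ((⟨a, haK⟩ : Subgroup.closure ({a, b} : Set G)) * ⟨b, hbK⟩) ^ p = 1 from hab')
    exact hab (by simpa using this)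
  -- Step C
  have hexp : ∀ (N : Subgroup G) [N.Normal], N ≠ ⊥ → ∀ x : G ⧸ N, x ^ p = 1 := by
    intro N _ hN
    obtain ⟨H, hH⟩ := hquo N hN
    have ha' : (QuotientGroup.mk' N a) ∈ H := by
      rw [← SetLike.mem_coe, hH]
      change (QuotientGroup.mk' N a) ^ p = 1
      rw [← map_pow, ha, map_one]
    have hb' : (QuotientGroup.mk' N b) ∈ H := by
      rw [← SetLike.mem_coe, hH]
      change (QuotientGroup.mk' N b) ^ p = 1
      rw [← map_pow, hb, map_one]
    have htop : H = ⊤ := by
      rw [eq_top_iff]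
      have h1 : (Subgroup.closure ({a, b} : Set G)).map (QuotientGroup.mk' N) = ⊤ := by
        rw [hgen, ← MonoidHom.range_eq_map, MonoidHom.range_eq_top]
        exact QuotientGroup.mk'_surjective N
      rw [← h1, MonoidHom.map_closure, Subgroup.closure_le]
      rintro _ ⟨g, hg, rfl⟩
      rcases hg with rfl | rfl
      · exact ha'
      · exact hb'
    intro x
    have : x ∈ H := by rw [htop]; trivial
    rw [← SetLike.mem_coe, hH] at this
    exact this
  have hquoP : ∀ (N : Subgroup G) [N.Normal], N ≠ ⊥ → IsPGroup p (G ⧸ N) := by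
    intro N _ hN x
    exact ⟨1, by rw [pow_one]; exact hexp N hN x⟩
  -- Step D
  have hnotdvd : ∀ (N : Subgroup G) [N.Normal], N ≠ ⊤ → ¬ p ∣ Nat.card N := by
    intro N hNn hNtop hdvd
    obtain ⟨H, hH⟩ := hsub N hNtop
    have hHmem : ∀ z : N, z ∈ H ↔ z ^ p = 1 := fun z => by
      rw [← SetLike.mem_coe, hH]; rfl
    have hHn : (H.map N.subtype).Normal := by
      refine ⟨?_⟩
      rintro _ ⟨z, hz, rfl⟩ g
      have hzp : z ^ p = 1 := (hHmem z).mp hz
      refine ⟨⟨g * z * g⁻¹, hNn.conj_mem z z.2 g⟩, ?_, rfl⟩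
      rw [SetLike.mem_coe, hHmem]
      apply Subtype.ext
      have := congrArg Subtype.val hzp
      simp only [Subgroup.coe_pow, Subgroup.coe_one] at this ⊢
      rw [conj_pow, this]; simp
    obtain ⟨y, hy⟩ := exists_prime_orderOf_dvd_card' p hdvd
    have hyH : y ∈ H := by
      rw [hHmem]
      exact hy ▸ pow_orderOf_eq_one y
    have hHne : H.map N.subtype ≠ ⊥ := by
      intro h
      rw [Subgroup.map_eq_bot_iff_of_injective _ N.subtype_injective] at h
      rw [h, Subgroup.mem_bot] at hyH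
      rw [hyH, orderOf_one] at hy
      exact hpp.one_lt.ne hy
    apply hnp
    intro g
    refine ⟨2, ?_⟩
    have h1 := hexp (H.map N.subtype) hHne (QuotientGroup.mk' _ g)
    rw [← map_pow, QuotientGroup.mk'_apply, QuotientGroup.eq_one_iff] at h1
    obtain ⟨z, hz, hzg⟩ := h1
    have hzp : z ^ p = 1 := (hHmem z).mp hz
    rw [pow_two, pow_mul, ← hzg]
    have := congrArg Subtype.val hzp
    simpa using this
  -- a proper nontrivial normal subgroup
  have hGnt : Nontrivial G := by
    by_contra h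
    rw [not_nontrivial_iff_subsingleton] at h
    apply hnp
    intro g
    exact ⟨0, Subsingleton.elim _ _⟩
  obtain ⟨N, hNn, hNbot, hNtop⟩ : ∃ N : Subgroup G, N.Normal ∧ N ≠ ⊥ ∧ N ≠ ⊤ := by
    by_contra h
    push Not at h
    apply hns
    exact ⟨fun H hH => by
      by_cases hb : H = ⊥
      · left; exact hb
      · right; exact h H hH hb⟩
  have hpN := hnotdvd N hNtop
  -- p-elements have order dividing p
  have hpel : ∀ g : G, (∃ k : ℕ, g ^ p ^ k = 1) → g ^ p = 1 := by
    rintro g ⟨k, hk⟩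
    have h1 := hexp N hNbot (QuotientGroup.mk' N g)
    rw [← map_pow, QuotientGroup.mk'_apply, QuotientGroup.eq_one_iff] at h1
    have hd1 : orderOf (g ^ p) ∣ p ^ k := by
      apply orderOf_dvd_of_pow_eq_one
      rw [← pow_mul, mul_comm, pow_mul, hk, one_pow]
    have hd2 : orderOf (g ^ p) ∣ Nat.card N := by
      have := orderOf_dvd_natCard (⟨g ^ p, h1⟩ : N)
      rwa [Subgroup.orderOf_mk] at this
    have hcop : Nat.Coprime (p ^ k) (Nat.card N) :=
      Nat.Coprime.pow_left k ((Nat.Prime.coprime_iff_not_dvd hpp).mpr hpN)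
    have : orderOf (g ^ p) ∣ 1 := by
      have := Nat.dvd_gcd hd1 hd2
      rwa [hcop] at this
    exact orderOf_eq_one_iff.mp (Nat.dvd_one.mp this)
  have hpg : ∀ {K : Type _} [Group K], IsPGroup p K → Cfsg.IsPClosed p K := by
    intro K _ h P
    have hG : IsPGroup p (⊤ : Subgroup K) := h.to_subgroup ⊤
    have : (⊤ : Subgroup K) = P := P.is_maximal' hG le_top
    rw [← this]
    infer_instance
  -- (i)
  have h1 : ¬ Cfsg.IsPClosed p G := by
    intro hcl
    let P : Sylow p G := default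
    have hPn : (P : Subgroup G).Normal := hcl P
    have hmemP : ∀ x : G, x ^ p = 1 → x ∈ (P : Subgroup G) := by
      intro x hx
      have hxp : IsPGroup p (Subgroup.zpowers x) := by
        rintro ⟨_, m, rfl⟩
        refine ⟨1, ?_⟩
        apply Subtype.ext
        simp only [pow_one, Subgroup.coe_pow, Subgroup.coe_one]
        rw [← zpow_natCast, ← zpow_mul, mul_comm, zpow_mul, zpow_natCast, hx, one_zpow]
      obtain ⟨Q, hQ⟩ := hxp.exists_le_sylow
      obtain ⟨g, hg⟩ := MulAction.exists_smul_eq G P Q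
      have : Q = P := by rw [← hg]; exact Sylow.smul_eq_of_normal
      rw [← this]
      exact hQ (Subgroup.mem_zpowers x)
    have habP : a * b ∈ (P : Subgroup G) := (P : Subgroup G).mul_mem (hmemP a ha) (hmemP b hb)
    obtain ⟨k, hk⟩ := P.2 ⟨a * b, habP⟩
    apply hab
    apply hpel
    refine ⟨k, ?_⟩
    have := congrArg Subtype.val hk
    simpa using this
  -- (ii)
  have h2 : ∀ K : Subgroup G, K ≠ ⊤ → Cfsg.IsPClosed p ↥K := by
    intro K hK S
    obtain ⟨H, hH⟩ := hsub K hK
    have hHmem : ∀ z : K, z ∈ H ↔ z ^ p = 1 := fun z => by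
      rw [← SetLike.mem_coe, hH]; rfl
    have hHp : IsPGroup p H := by
      rintro ⟨z, hz⟩
      refine ⟨1, ?_⟩
      apply Subtype.ext
      simpa using (hHmem z).mp hz
    have hSH : (S : Subgroup K) ≤ H := by
      intro s hs
      rw [hHmem]
      obtain ⟨k, hk⟩ := S.2 ⟨s, hs⟩
      have hk' : (s : G) ^ p ^ k = 1 := by
        have := congrArg (fun t => ((t : K) : G)) (congrArg Subtype.val hk)
        simpa using this
      apply Subtype.ext
      have := hpel (s : G) ⟨k, hk'⟩
      simpa using this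
    have hEq : H = S := S.is_maximal' hHp hSH
    rw [← hEq]
    refine ⟨fun h hh g => ?_⟩
    rw [hHmem] at hh ⊢
    rw [conj_pow, hh]; simp
  -- (iii)
  have h3 : ∀ (N : Subgroup G) [N.Normal], N ≠ ⊥ → Cfsg.IsPClosed p (G ⧸ N) := by
    intro N _ hN
    exact hpg (hquoP N hN)
  exact Cfsg.Agent.S3868.result h1 h2 h3 hns

end Cfsg.Agent.S3873
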