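import Cfsg.Statements.S3875
import Cfsg.Agent.Helper25.NPCSimple
import Cfsg.Agent.Helper74.MinNC
import Cfsg.Agent.Helper14.MinNCb
import Cfsg.Agent.Helper80.NPCFrob
import Cfsg.Agent.Helper72.PSL2NotPClosed

set_option autoImplicit false
open Cfsg

namespace Cfsg.Agent.S3875

/-- the lower bound, by induction on the order: a non-`p`-closed group of minimal order is simple
(then `Helper25.NPCSimple.card_ge_of_simple`) or of order `p * k`, `k ≡ 1 mod p` a prime power. -/
theorem lower_bound (p : ℕ) [Fact p.Prime] (hp : p ≠ 2) (m : ℕ)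
    (hleast : ∀ k : ℕ, IsPrimePow k → k % p = 1 → m ≤ k) :
    ∀ (n : ℕ) (H : Type) [Group H] [Finite H], Nat.card H = n → ¬ Cfsg.IsPClosed p H →
      min (p * m) (p * (p ^ 2 - 1) / 2) ≤ n := by
  intro n
  induction n using Nat.strong_induction_on with
  | _ n ih =>
    intro H _ _ hn hH
    by_cases h1 : ∃ K : Subgroup H, K ≠ ⊤ ∧ ¬ Cfsg.IsPClosed p ↥K
    · obtain ⟨K, hK, hKc⟩ := h1
      have hlt : Nat.card K < n := by
        rw [← hn]
        refine lt_of_le_of_ne (Subgroup.card_le_card_group K) ?_
        intro h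
        exact hK ((Subgroup.card_eq_iff_eq_top K).mp h)
      exact (ih _ hlt K rfl hKc).trans hlt.le
    by_cases h2 : ∃ (K : Subgroup H) (_ : K.Normal), K ≠ ⊥ ∧ ¬ Cfsg.IsPClosed p (H ⧸ K)
    · obtain ⟨K, hKn, hK, hKc⟩ := h2
      have hlt : Nat.card (H ⧸ K) < n := by
        rw [← hn, ← Subgroup.index_eq_card]
        have h3 : K.index * Nat.card K = Nat.card H := K.index_mul_card
        have h4 : 1 < Nat.card K := by
          rw [Subgroup.one_lt_card_iff_ne_bot]
          exact hK
        have h5 : 0 < K.index := Nat.pos_of_ne_zero Subgroup.index_ne_zero_of_finite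
        nlinarith
      exact (ih _ hlt (H ⧸ K) rfl hKc).trans hlt.le
    push Not at h1 h2
    by_cases hs : IsSimpleGroup H
    · have := Cfsg.Agent.Helper25.NPCSimple.card_ge_of_simple p hp hH
      rw [hn] at this
      exact (min_le_right _ _).trans this
    · obtain ⟨P, K, h3, h4, h5, h6, h7, h8, h9⟩ :=
        Cfsg.Agent.Helper74.MinNC.exists_minimal_normal_complement p hH h1
          (fun K hKn hK => h2 K hKn hK) hs
      obtain ⟨k, hk, hk1, hk2⟩ :=
        Cfsg.Agent.Helper14.MinNCb.card_eq_of_minimal_normal_complement p h1 P K h3 h4 h5 h6 h7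
          h8 h9
      rw [← hn, hk2]
      exact (min_le_left _ _).trans (Nat.mul_le_mul_left p (hleast k hk hk1))

/-- Let p be an odd prime and let m be the least prime power congruent to 1 modulo p. Then the least order of a finite group whose Sylow p-subgroups are not normal is the smaller of p · m and p(p² − 1)/2: every finite group whose Sylow p-subgroups are not normal has at least that order, and some group of exactly that order has non-normal Sylow p-subgroups. -/
theorem result (p : ℕ) [Fact p.Prime] (hp : p ≠ 2) (m : ℕ) (hm : IsPrimePow m) (hm1 : m % p = 1)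
    (hleast : ∀ k : ℕ, IsPrimePow k → k % p = 1 → m ≤ k) :
    (∀ (H : Type) [Group H] [Finite H], ¬ Cfsg.IsPClosed p H → min (p * m) (p * (p ^ 2 - 1) / 2) ≤ Nat.card H) ∧
      ∃ (H : Type) (_ : Group H) (_ : Finite H), Nat.card H = min (p * m) (p * (p ^ 2 - 1) / 2) ∧ ¬ Cfsg.IsPClosed p H := by
  refine ⟨fun H _ _ hH => lower_bound p hp m hleast _ H rfl hH, ?_⟩
  rcases le_total (p * m) (p * (p ^ 2 - 1) / 2) with h | h
  · rw [min_eq_left h]
    exact Cfsg.Agent.Helper80.NPCFrob.exists_frobenius p m hm hm1
  · rw [min_eq_right h]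
    exact Cfsg.Agent.Helper72.PSL2NPC.exists_psl2 p hp

end Cfsg.Agent.S3875
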