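import Cfsg.Statements.S3878
import Cfsg.Agent.Helper64.NoHall

set_option autoImplicit false
open Cfsg

namespace Cfsg.Agent.S3878

open Subgroup Cfsg.Agent.Helper64

/-- `D_π` implies `E_π` for finite groups. -/
theorem isEPiGroup_of_isDPiGroup {G : Type*} [Group G] [Finite G] (π : Set ℕ)
    (h : Cfsg.IsDPiGroup π G) : Cfsg.IsEPiGroup π G := by
  have hbot : Cfsg.IsPiSubgroup π (⊥ : Subgroup G) := by
    intro p hp hd
    rw [Subgroup.card_bot] at hd
    exact absurd (Nat.le_of_dvd one_pos hd) (by have := hp.two_le; omega)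
  obtain ⟨H, -, hH⟩ := Finite.exists_le_maximal (p := Cfsg.IsPiSubgroup π) hbot
  refine ⟨H, hH.prop, ?_⟩
  intro p hp hpπ hdvd
  have : Fact p.Prime := ⟨hp⟩
  obtain ⟨P⟩ : Nonempty (Sylow p G) := inferInstance
  have hPπ : Cfsg.IsPiSubgroup π (P : Subgroup G) := by
    intro s hs hsd
    obtain ⟨k, hk⟩ := IsPGroup.iff_card.mp P.2
    rw [hk] at hsd
    have := (Nat.prime_dvd_prime_iff_eq hs hp).mp (hs.dvd_of_dvd_pow hsd)
    rw [this]; exact hpπ
  obtain ⟨K, hPK, hK⟩ := Finite.exists_le_maximal (p := Cfsg.IsPiSubgroup π) hPπ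
  obtain ⟨g, hg⟩ := h H K hH hK
  have hcardK : Nat.card K = Nat.card H := by
    rw [hg]; exact Subgroup.card_map_of_injective (MulAut.conj g).injective
  have h1 : Nat.card (P : Subgroup G) ∣ Nat.card H := by
    rw [← hcardK]; exact Subgroup.card_dvd_of_le hPK
  rw [Sylow.card_eq_multiplicity] at h1
  have h2 : p ^ ((Nat.card G).factorization p + 1) ∣ Nat.card G := by
    have h3 : p ^ ((Nat.card G).factorization p + 1) ∣ Nat.card H * H.index := by
      rw [pow_succ]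
      exact mul_dvd_mul h1 hdvd
    rwa [H.card_mul_index] at h3
  exact Nat.pow_succ_factorization_not_dvd Nat.card_pos.ne' hp h2

/-- `D_π` when `π` contains every prime. -/
theorem isDPiGroup_of_all {G : Type*} [Group G] [Finite G] (π : Set ℕ)
    (hall : ∀ p : ℕ, p.Prime → p ∈ π) : Cfsg.IsDPiGroup π G := by
  intro H K hH hK
  have htop : Cfsg.IsPiSubgroup π (⊤ : Subgroup G) := fun p hp _ => hall p hp
  have h1 : H = ⊤ := hH.eq_of_le htop le_top
  have h2 : K = ⊤ := hK.eq_of_le htop le_top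
  refine ⟨1, ?_⟩
  rw [h1, h2, map_one]
  exact (Subgroup.map_id _).symm

/-- `D_π` when `π` contains at most one prime. -/
theorem isDPiGroup_of_subsingleton {G : Type*} [Group G] [Finite G] (π : Set ℕ)
    (hone : ∀ p q : ℕ, p.Prime → q.Prime → p ∈ π → q ∈ π → p = q) : Cfsg.IsDPiGroup π G := by
  intro H K hH hK
  by_cases hex : ∃ p : ℕ, p.Prime ∧ p ∈ π
  · obtain ⟨p, hp, hpπ⟩ := hex
    have : Fact p.Prime := ⟨hp⟩
    have key : ∀ L : Subgroup G, Cfsg.IsPiSubgroup π L ↔ IsPGroup p L := by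
      intro L
      constructor
      · intro hL
        have hu : ∀ {d : ℕ}, d.Prime → d ∣ Nat.card L → d = p :=
          fun hd hdd => hone _ _ hd hp (hL _ hd hdd) hpπ
        exact IsPGroup.of_card (Nat.eq_prime_pow_of_unique_prime_dvd Nat.card_pos.ne' hu)
      · intro hL s hs hsd
        obtain ⟨k, hk⟩ := IsPGroup.iff_card.mp hL
        rw [hk] at hsd
        have := (Nat.prime_dvd_prime_iff_eq hs hp).mp (hs.dvd_of_dvd_pow hsd)
        rw [this]; exact hpπ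
    have mk : ∀ L : Subgroup G, Maximal (Cfsg.IsPiSubgroup π) L →
        ∃ P : Sylow p G, (P : Subgroup G) = L := by
      intro L hL
      exact ⟨⟨L, (key L).mp hL.prop, fun {Q} hQ hLQ =>
        le_antisymm (hL.le_of_ge ((key Q).mpr hQ) hLQ) hLQ⟩, rfl⟩
    obtain ⟨P, rfl⟩ := mk H hH
    obtain ⟨Q, rfl⟩ := mk K hK
    obtain ⟨g, hg⟩ := MulAction.exists_smul_eq G P Q
    refine ⟨g, ?_⟩
    ext x
    rw [mem_map_conj, ← hg, Sylow.coe_subgroup_smul, Subgroup.mem_pointwise_smul_iff_inv_smul_mem]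
    simp [MulAut.smul_def]
  · have key : ∀ L : Subgroup G, Cfsg.IsPiSubgroup π L → L = ⊥ := by
      intro L hL
      rw [← Subgroup.card_eq_one, Nat.eq_one_iff_not_exists_prime_dvd]
      intro p hp hd
      exact hex ⟨p, hp, hL p hp hd⟩
    refine ⟨1, ?_⟩
    rw [key H hH.prop, key K hK.prop, Subgroup.map_bot]

/-- If `π` contains two distinct primes and misses a prime, some finite group has no Hall
`π`-subgroup. -/
theorem exists_not_isEPiGroup (π : Set ℕ)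
    (h1 : ¬ ∀ p q : ℕ, p.Prime → q.Prime → p ∈ π → q ∈ π → p = q)
    (h2 : ¬ ∀ p : ℕ, p.Prime → p ∈ π) :
    ∃ n : ℕ, ¬ Cfsg.IsEPiGroup π (Equiv.Perm (Fin n)) := by
  push Not at h1 h2
  obtain ⟨p₀, q₀, hp₀, hq₀, hp₀π, hq₀π, hne⟩ := h1
  obtain ⟨r, hr, hrπ⟩ := h2
  -- arrange `p < q`
  obtain ⟨p, q, hp, hq, hpπ, hqπ, hpq⟩ : ∃ p q : ℕ, p.Prime ∧ q.Prime ∧ p ∈ π ∧ q ∈ π ∧ p < q := by
    rcases lt_or_gt_of_ne hne with h | h
    · exact ⟨p₀, q₀, hp₀, hq₀, hp₀π, hq₀π, h⟩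
    · exact ⟨q₀, p₀, hq₀, hp₀, hq₀π, hp₀π, h⟩
  by_cases h2π : 2 ∈ π
  · by_cases hex : ∃ q' r' : ℕ, q'.Prime ∧ q' ∈ π ∧ r'.Prime ∧ r' < q' ∧ r' ∉ π
    · obtain ⟨q', r', hq', hq'π, hr', hlt, hr'π⟩ := hex
      exact ⟨q', not_isEPiGroup_perm_of_two_mem hq' hr' hlt h2π hq'π hr'π⟩
    · push Not at hex
      have hexr : ∃ n : ℕ, n.Prime ∧ n ∉ π := ⟨r, hr, hrπ⟩
      classical
      obtain ⟨r₀, ⟨hr₀p, hr₀π⟩, hmin'⟩ : ∃ r₀ : ℕ, (r₀.Prime ∧ r₀ ∉ π) ∧
          ∀ s < r₀, ¬ (s.Prime ∧ s ∉ π) :=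
        ⟨Nat.find hexr, Nat.find_spec hexr, fun s hs => Nat.find_min hexr hs⟩
      have hmin : ∀ s : ℕ, s.Prime → s < r₀ → s ∈ π := by
        intro s hs hlt
        by_contra hsπ
        exact hmin' s hlt ⟨hs, hsπ⟩
      have h3π : 3 ∈ π := by
        have hq3 : 3 ≤ q := by have := hp.two_le; omega
        rcases Nat.eq_or_lt_of_le hq3 with h | h
        · rw [h]; exact hqπ
        · exact hex q 3 hq hqπ Nat.prime_three h
      have hr₀5 : 5 ≤ r₀ := by
        have h2' : r₀ ≠ 2 := fun h => hr₀π (h ▸ h2π)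
        have h3' : r₀ ≠ 3 := fun h => hr₀π (h ▸ h3π)
        have h4' : r₀ ≠ 4 := fun h => by rw [h] at hr₀p; exact absurd hr₀p (by decide)
        have := hr₀p.two_le
        omega
      exact ⟨r₀ + 1, not_isEPiGroup_perm_succ hr₀p hr₀5 hr₀π hmin⟩
  · exact ⟨q, not_isEPiGroup_perm_of_two_not_mem hp hq hpq hpπ hqπ h2π⟩

/-- For a set of primes π the following are equivalent: every finite group has a Hall π-subgroup; in every finite group the maximal π-subgroups are pairwise conjugate; π contains at most one prime or contains every prime. -/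
theorem result (π : Set ℕ) :
    ((∀ (G : Type) [Group G] [Finite G], Cfsg.IsEPiGroup π G) ↔
      ((∀ p q : ℕ, p.Prime → q.Prime → p ∈ π → q ∈ π → p = q) ∨ ∀ p : ℕ, p.Prime → p ∈ π)) ∧
    ((∀ (G : Type) [Group G] [Finite G], Cfsg.IsDPiGroup π G) ↔
      ((∀ p q : ℕ, p.Prime → q.Prime → p ∈ π → q ∈ π → p = q) ∨ ∀ p : ℕ, p.Prime → p ∈ π)) := by
  have hD : ((∀ p q : ℕ, p.Prime → q.Prime → p ∈ π → q ∈ π → p = q) ∨ ∀ p : ℕ, p.Prime → p ∈ π) →
      ∀ (G : Type) [Group G] [Finite G], Cfsg.IsDPiGroup π G := by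
    rintro (h | h) G _ _
    · exact isDPiGroup_of_subsingleton π h
    · exact isDPiGroup_of_all π h
  have hE : (∀ (G : Type) [Group G] [Finite G], Cfsg.IsEPiGroup π G) →
      ((∀ p q : ℕ, p.Prime → q.Prime → p ∈ π → q ∈ π → p = q) ∨ ∀ p : ℕ, p.Prime → p ∈ π) := by
    intro h
    by_contra hcon
    rw [not_or] at hcon
    obtain ⟨n, hn⟩ := exists_not_isEPiGroup π hcon.1 hcon.2
    exact hn (h _)
  refine ⟨⟨hE, fun hc G _ _ => isEPiGroup_of_isDPiGroup π (hD hc G)⟩, ⟨?_, hD⟩⟩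
  intro h
  exact hE (fun G _ _ => isEPiGroup_of_isDPiGroup π (h G))

end Cfsg.Agent.S3878
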