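import Cfsg.Statements.S3881
import Cfsg.Agent.Helper65.Metacyclic2

set_option autoImplicit false
open Cfsg

namespace Cfsg.Agent.S3881

open Cfsg.Agent.Helper65 in
/-- Let p be an odd prime and G a finite metacyclic p-group (G has a cyclic normal subgroup with cyclic quotient). Suppose G is non-abelian with |G'| = p^n. Then for 1 ≤ i ≤ n the number of elements of G whose conjugacy class has exactly p^i elements is |Z(G)| · (p^(2i) − p^(2i−2)). -/
theorem result {G : Type*} [Group G] [Finite G] {p : ℕ} [Fact p.Prime] (hp : p ≠ 2) (hG : IsPGroup p G) (hmc : Cfsg.IsMetacyclic G) (n : ℕ) (hn : n ≠ 0) (hGn : Nat.card ↥(commutator G) = p ^ n) (i : ℕ) (hi : 1 ≤ i) (hin : i ≤ n) :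
    Nat.card {g : G // (Subgroup.centralizer ({g} : Set G)).index = p ^ i} =
      Nat.card ↥(Subgroup.center G) * (p ^ (2 * i) - p ^ (2 * i - 2)) := by
  have hp1 : 1 < p := (Fact.out : p.Prime).one_lt
  have hpp : p.Prime := Fact.out
  set A := Subgroup.closure {x : G | ∃ y : G, y ^ p ^ (n - i) = x} with hA
  set B := Subgroup.closure {x : G | ∃ y : G, y ^ p ^ (n - i + 1) = x} with hB
  have hsA : n - i ≤ n := by omega
  have hsB : n - i + 1 ≤ n := by omega
  have hmemA : ∀ g : G, g ∈ A ↔ (Subgroup.centralizer ({g} : Set G)).index ≤ p ^ i := by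
    intro g
    rw [hA, mem_closure_pow_iff hp hG hmc hGn hsA g]
    have : n - (n - i) = i := by omega
    rw [this]
  have hmemB : ∀ g : G, g ∈ B ↔ (Subgroup.centralizer ({g} : Set G)).index ≤ p ^ (i - 1) := by
    intro g
    rw [hB, mem_closure_pow_iff hp hG hmc hGn hsB g]
    have : n - (n - i + 1) = i - 1 := by omega
    rw [this]
  have hBA : (B : Set G) ⊆ (A : Set G) := by
    intro g hg
    rw [SetLike.mem_coe, hmemB] at hg
    rw [SetLike.mem_coe, hmemA]
    exact hg.trans (Nat.pow_le_pow_right hpp.pos (by omega))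
  have hset : {g : G | (Subgroup.centralizer ({g} : Set G)).index = p ^ i} = (A : Set G) \ (B : Set G) := by
    ext g
    simp only [Set.mem_setOf_eq, Set.mem_diff, SetLike.mem_coe, hmemA, hmemB]
    obtain ⟨k, hk⟩ := (IsPGroup.iff_card.mp hG)
    have hdvd : (Subgroup.centralizer ({g} : Set G)).index ∣ p ^ k := by
      rw [← hk]; exact Subgroup.index_dvd_card _
    obtain ⟨j, -, hj⟩ := (Nat.dvd_prime_pow hpp).mp hdvd
    rw [hj]
    constructor
    · intro h
      have : j = i := Nat.pow_right_injective hpp.two_le h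
      subst this
      exact ⟨le_rfl, by rw [not_le]; exact Nat.pow_lt_pow_right hp1 (by omega)⟩
    · rintro ⟨h1, h2⟩
      rw [Nat.pow_le_pow_iff_right hp1] at h1 h2
      congr 1
      omega
  have hcard : Nat.card {g : G // (Subgroup.centralizer ({g} : Set G)).index = p ^ i} =
      Nat.card A - Nat.card B := by
    have h1 : Nat.card {g : G // (Subgroup.centralizer ({g} : Set G)).index = p ^ i} =
        Set.ncard {g : G | (Subgroup.centralizer ({g} : Set G)).index = p ^ i} :=
      Nat.card_coe_set_eq _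
    rw [h1, hset, Set.ncard_sdiff hBA (Set.toFinite _), ← Nat.card_coe_set_eq,
      ← Nat.card_coe_set_eq]
    rfl
  have hcA : Nat.card A * p ^ (2 * (n - i)) = Nat.card G := by
    rw [← index_closure_pow hp hG hmc hGn hsA]; exact Subgroup.card_mul_index _
  have hcB : Nat.card B * p ^ (2 * (n - i + 1)) = Nat.card G := by
    rw [← index_closure_pow hp hG hmc hGn hsB]; exact Subgroup.card_mul_index _
  have hcZ : Nat.card (Subgroup.center G) * p ^ (2 * n) = Nat.card G := by
    have := Subgroup.card_mul_index (Subgroup.center G)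
    rw [index_center_of_isMetacyclic hp hG hmc, hGn, ← pow_mul, mul_comm n 2] at this
    exact this
  have hA' : Nat.card A = Nat.card (Subgroup.center G) * p ^ (2 * i) := by
    apply Nat.eq_of_mul_eq_mul_right (pow_pos hpp.pos (2 * (n - i)))
    rw [hcA, ← hcZ, mul_assoc, ← pow_add]
    congr 2
    omega
  have hB' : Nat.card B = Nat.card (Subgroup.center G) * p ^ (2 * i - 2) := by
    apply Nat.eq_of_mul_eq_mul_right (pow_pos hpp.pos (2 * (n - i + 1)))
    rw [hcB, ← hcZ, mul_assoc, ← pow_add]
    congr 2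
    omega
  rw [hcard, hA', hB', Nat.mul_sub]

end Cfsg.Agent.S3881
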