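import Cfsg.Statements.S3889

set_option autoImplicit false
open Cfsg

namespace Cfsg.Agent.S3889

/-- key step: if `a ∈ A`, `b ∈ B` (distinct components), `a ^ n = 1` then `b ^ n = 1` (for `a ≠ 1`). -/
theorem key {G : Type*} [CommGroup G] (𝓑 : Set (Subgroup G))
    (hcov : ∀ g : G, ∃ B ∈ 𝓑, g ∈ B) (hdisj : ∀ B ∈ 𝓑, ∀ C ∈ 𝓑, B ≠ C → B ⊓ C = ⊥)
    (A B : Subgroup G) (hA : A ∈ 𝓑) (hB : B ∈ 𝓑) (hAB : A ≠ B) (a b : G) (ha : a ∈ A) (hb : b ∈ B)
    (ha1 : a ≠ 1) (n : ℕ) (han : a ^ n = 1) : b ^ n = 1 := by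
  by_contra hbn
  obtain ⟨C, hC, habC⟩ := hcov (a * b)
  have h1 : (a * b) ^ n = b ^ n := by rw [mul_pow, han, one_mul]
  have h2 : b ^ n ∈ C := h1 ▸ C.pow_mem habC n
  have h3 : b ^ n ∈ B := B.pow_mem hb n
  have hCB : C = B := by
    by_contra hne
    have := hdisj C hC B hB hne
    have h4 : b ^ n ∈ C ⊓ B := ⟨h2, h3⟩
    rw [this, Subgroup.mem_bot] at h4
    exact hbn h4
  have haB : a ∈ B := by
    have : a * b ∈ B := hCB ▸ habC
    have h5 := B.mul_mem this (B.inv_mem hb)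
    simpa using h5
  have h6 : a ∈ A ⊓ B := ⟨ha, haB⟩
  rw [hdisj A hA B hB hAB, Subgroup.mem_bot] at h6
  exact ha1 h6

theorem result {G : Type*} [CommGroup G] [Finite G] (𝓑 : Set (Subgroup G)) (hprop : ∀ B ∈ 𝓑, B ≠ ⊤)
    (hcov : ∀ g : G, ∃ B ∈ 𝓑, g ∈ B) (hdisj : ∀ B ∈ 𝓑, ∀ C ∈ 𝓑, B ≠ C → B ⊓ C = ⊥) :
    (Monoid.exponent G).Prime := by
  -- any two nonidentity elements have the same order
  have hord : ∀ a b : G, a ≠ 1 → b ≠ 1 → orderOf a = orderOf b := by
    -- first: elements in different components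
    have hdiff : ∀ (A B : Subgroup G), A ∈ 𝓑 → B ∈ 𝓑 → A ≠ B → ∀ a b : G, a ∈ A → b ∈ B →
        a ≠ 1 → b ≠ 1 → orderOf a = orderOf b := by
      intro A B hA hB hAB a b ha hb ha1 hb1
      apply Nat.dvd_antisymm
      · apply orderOf_dvd_of_pow_eq_one
        exact key 𝓑 hcov hdisj B A hB hA (Ne.symm hAB) b a hb ha hb1 _ (pow_orderOf_eq_one b)
      · apply orderOf_dvd_of_pow_eq_one
        exact key 𝓑 hcov hdisj A B hA hB hAB a b ha hb ha1 _ (pow_orderOf_eq_one a)
    intro a b ha1 hb1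
    obtain ⟨A, hA, haA⟩ := hcov a
    obtain ⟨B, hB, hbB⟩ := hcov b
    by_cases hAB : A = B
    · subst hAB
      -- pick c ∉ A
      have hAtop := hprop A hA
      obtain ⟨c, hc⟩ : ∃ c : G, c ∉ A := by
        by_contra hcon
        push Not at hcon
        exact hAtop (by ext x; simp [hcon x])
      obtain ⟨C, hC, hcC⟩ := hcov c
      have hCA : A ≠ C := by
        rintro rfl
        exact hc hcC
      have hc1 : c ≠ 1 := by
        rintro rfl
        exact hc A.one_mem
      rw [hdiff A C hA hC hCA a c haA hcC ha1 hc1, hdiff A C hA hC hCA b c hbB hcC hb1 hc1]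
    · exact hdiff A B hA hB hAB a b haA hbB ha1 hb1
  -- G is nontrivial
  obtain ⟨B0, hB0, -⟩ := hcov 1
  have hB0top := hprop B0 hB0
  obtain ⟨c, hc⟩ : ∃ c : G, c ∉ B0 := by
    by_contra hcon
    push Not at hcon
    exact hB0top (by ext x; simp [hcon x])
  have hc1 : c ≠ 1 := by
    rintro rfl
    exact hc B0.one_mem
  -- the common order m is prime
  have hmpos : 0 < orderOf c := orderOf_pos c
  have hm1 : orderOf c ≠ 1 := by
    rw [Ne, orderOf_eq_one_iff]; exact hc1
  obtain ⟨p, hp, hpdvd⟩ := Nat.exists_prime_and_dvd hm1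
  -- c ^ (m / p) has order p
  have hordp : orderOf (c ^ (orderOf c / p)) = p := by
    rw [orderOf_pow' c (by
      intro h0
      have := Nat.div_eq_zero_iff.mp h0
      rcases this with h | h
      · exact hp.ne_zero h
      · exact absurd (Nat.le_of_dvd hmpos hpdvd) (not_le.mpr h))]
    rw [Nat.gcd_eq_right (Nat.div_dvd_of_dvd hpdvd)]
    exact Nat.div_div_self hpdvd hmpos.ne'
  have hne1 : c ^ (orderOf c / p) ≠ 1 := by
    intro h
    rw [h, orderOf_one] at hordp
    exact hp.ne_one hordp.symm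
  have hcp : orderOf c = p := by
    rw [← hord _ _ hne1 hc1]
    exact hordp
  have hexp : Monoid.exponent G = p := by
    apply Nat.dvd_antisymm
    · apply Monoid.exponent_dvd_of_forall_pow_eq_one
      intro g
      by_cases hg : g = 1
      · simp [hg]
      · have := hord g c hg hc1
        rw [hcp] at this
        rw [← this]; exact pow_orderOf_eq_one g
    · rw [← hcp]; exact Monoid.order_dvd_exponent c
  rw [hexp]; exact hp

end Cfsg.Agent.S3889
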