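import Cfsg.Statements.S3890
import Cfsg.Agent.Helper65.Cover

set_option autoImplicit false
open Cfsg

namespace Cfsg.Agent.S3890

open Cfsg.Agent.Helper65 in
theorem result {G : Type*} [Group G] [Finite G] (hZ : Subgroup.center G = ⊥) (𝓐 : Finset (Subgroup G))
    (h𝓐 : ((∀ A ∈ 𝓐, A ≠ ⊤) ∧ (∀ g : G, ∃ A ∈ 𝓐, g ∈ A)) ∧ (∀ 𝓑 : Finset (Subgroup G), (∀ A ∈ 𝓑, A ≠ ⊤) ∧ (∀ g : G, ∃ A ∈ 𝓑, g ∈ A) → 𝓐.card ≤ 𝓑.card) ∧ (∀ A ∈ 𝓐, Group.IsNilpotent ↥A)) {p : ℕ} [Fact p.Prime] (P : Sylow p G) (hab : IsMulCommutative ↥(P : Subgroup G))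
    (hnn : ¬ (P : Subgroup G).Normal) :
    (Cfsg.IsElementaryAbelian p (P : Subgroup G) ∧ p < Nat.card ↥(P : Subgroup G)) ∨
    (∃ A ∈ 𝓐, (P : Subgroup G) ≤ A ∧ ¬ p ∣ ((P : Subgroup G).subgroupOf A).index ∧
      IsCoatom (Subgroup.normalizer ((P : Subgroup G) : Set G)) ∧
      (∀ g : G, g ∉ Subgroup.normalizer ((P : Subgroup G) : Set G) →
        ¬ p ∣ Nat.card ↥(Subgroup.normalizer ((P : Subgroup G) : Set G) ⊓
          (Subgroup.normalizer ((P : Subgroup G) : Set G)).map (MulAut.conj g).toMonoidHom)) ∧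
      Subgroup.centralizer ((P : Subgroup G) : Set G) = A) := by
  have hpp : p.Prime := Fact.out
  have hmin : IsMinCover 𝓐 := ⟨h𝓐.1, h𝓐.2.1⟩
  have hnil := h𝓐.2.2
  have hne : (P : Subgroup G) ≠ ⊥ := by
    intro hbot
    apply hnn
    rw [hbot]
    infer_instance
  by_cases hE : Cfsg.IsElementaryAbelian p (P : Subgroup G) ∧ p < Nat.card ↥(P : Subgroup G)
  · left; exact hE
  right
  have hgood : GoodSylow P := by
    by_cases hel : Cfsg.IsElementaryAbelian p (P : Subgroup G)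
    · have hle : Nat.card ↥(P : Subgroup G) ≤ p := by
        by_contra hlt
        push Not at hlt
        exact hE ⟨hel, hlt⟩
      obtain ⟨k, hk⟩ := IsPGroup.iff_card.mp P.isPGroup'
      have h1 : 1 < Nat.card ↥(P : Subgroup G) := (Subgroup.one_lt_card_iff_ne_bot _).mpr hne
      have hk1 : k = 1 := by
        rcases Nat.lt_or_ge k 1 with h0 | h0
        · have : k = 0 := by omega
          rw [this, pow_zero] at hk
          omega
        · rcases Nat.lt_or_ge 1 k with h2 | h2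
          · have : p ^ 2 ≤ p ^ k := Nat.pow_le_pow_right hpp.pos h2
            have h3 := hpp.two_le
            rw [← hk] at this
            nlinarith
          · omega
      rw [hk1, pow_one] at hk
      exact goodSylow_of_isCyclic (isCyclic_of_prime_card hk) hne
    · apply goodSylow_of_exists hab hne
      by_contra hcon
      push Not at hcon
      exact hel ⟨hab, hcon⟩
  have hA := hmin.centralizer_mem hnil hZ hgood
  have hPA : (P : Subgroup G) ≤ Subgroup.centralizer ((P : Subgroup G) : Set G) :=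
    Subgroup.le_centralizer _
  exact ⟨_, hA, hPA, not_dvd_index_subgroupOf P _ hPA,
    hmin.isCoatom_normalizer hnil hZ hgood hnn,
    fun g hg => hmin.not_dvd_card_inf hnil hZ hgood g hg, rfl⟩

end Cfsg.Agent.S3890
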