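import Cfsg.Statements.S3891
import Cfsg.Agent.Helper65.Cover

set_option autoImplicit false
open Cfsg

namespace Cfsg.Agent.S3891

open Cfsg.Agent.Helper65 in
theorem result {G : Type*} [Group G] [Finite G] (hZ : Subgroup.center G = ⊥) (𝓐 : Finset (Subgroup G))
    (h𝓐 : ((∀ A ∈ 𝓐, A ≠ ⊤) ∧ (∀ g : G, ∃ A ∈ 𝓐, g ∈ A)) ∧ (∀ 𝓑 : Finset (Subgroup G), (∀ A ∈ 𝓑, A ≠ ⊤) ∧ (∀ g : G, ∃ A ∈ 𝓑, g ∈ A) → 𝓐.card ≤ 𝓑.card) ∧ (∀ A ∈ 𝓐, Group.IsNilpotent ↥A)) {p : ℕ} [Fact p.Prime] (P : Sylow p G)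
    (hP : IsCyclic ↥(P : Subgroup G) ∨ (IsMulCommutative ↥(P : Subgroup G) ∧ ¬ Cfsg.IsElementaryAbelian p (P : Subgroup G)))
    (hnn : ¬ (P : Subgroup G).Normal) :
    Group.IsNilpotent ↥(Subgroup.centralizer ((P : Subgroup G) : Set G)) ∧
      IsCoatom (Subgroup.normalizer ((P : Subgroup G) : Set G)) ∧
      ∀ M : Subgroup G, IsCoatom M → Subgroup.centralizer ((P : Subgroup G) : Set G) ≤ M →
        M = Subgroup.normalizer ((P : Subgroup G) : Set G) := by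
  have hmin : IsMinCover 𝓐 := ⟨h𝓐.1, h𝓐.2.1⟩
  have hnil := h𝓐.2.2
  have hne : (P : Subgroup G) ≠ ⊥ := by
    intro hbot
    apply hnn
    rw [hbot]
    infer_instance
  have hgood : GoodSylow P := by
    rcases hP with hc | ⟨hab, hnel⟩
    · exact goodSylow_of_isCyclic hc hne
    · apply goodSylow_of_exists hab hne
      by_contra hcon
      push Not at hcon
      exact hnel ⟨hab, hcon⟩
  refine ⟨?_, hmin.isCoatom_normalizer hnil hZ hgood hnn,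
    fun M hM hCM => hmin.eq_normalizer_of_isCoatom hnil hZ hgood hnn M hM hCM⟩
  exact hnil _ (hmin.centralizer_mem hnil hZ hgood)

end Cfsg.Agent.S3891
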