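import Cfsg.Statements.S3892
import Cfsg.Agent.Helper65.CoverPerm

set_option autoImplicit false
open Cfsg

namespace Cfsg.Agent.S3892

open Equiv Cfsg.Agent.Helper65

theorem exists_prime (n : ℕ) (hn : 6 ≤ n) : ∃ p : ℕ, p.Prime ∧ 5 ≤ p ∧ p < n ∧ n < 2 * p := by
  rcases Nat.lt_or_ge n 14 with h14 | h14
  · rcases Nat.lt_or_ge n 10 with h10 | h10
    · exact ⟨5, by norm_num, le_refl _, by omega, by omega⟩
    · exact ⟨7, by norm_num, by norm_num, by omega, by omega⟩
  · obtain ⟨p, hp, hmp, hp2m⟩ := Nat.exists_prime_lt_and_le_two_mul (n / 2) (by omega)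
    refine ⟨p, hp, by omega, ?_, by omega⟩
    have h1 : p ≤ n := by omega
    rcases Nat.lt_or_ge p n with h | h
    · exact h
    · exfalso
      have hpn : p = n := le_antisymm h1 h
      have h2 : 2 ∣ p := by
        have : p = 2 * (n / 2) := by omega
        exact ⟨n / 2, this⟩
      have := (Nat.prime_dvd_prime_iff_eq Nat.prime_two hp).mp h2
      omega

theorem general_case {n : ℕ} (hn : 6 ≤ n) {G : Type*} [Group G] [Finite G]
    (ι : G →* Perm (Fin n)) (hinj : Function.Injective ι)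
    (hsurj : ∀ σ : Perm (Fin n), Perm.sign σ = 1 → ∃ g, ι g = σ)
    (hcard : Nat.card G ∣ n.factorial)
    {𝓐 : Finset (Subgroup G)} (h : IsMinCover 𝓐) (hnil : ∀ A ∈ 𝓐, Group.IsNilpotent ↥A) :
    False := by
  obtain ⟨p, hp, hp5, hpn, hn2p⟩ := exists_prime n hn
  have : Fact p.Prime := ⟨hp⟩
  have hp2 : ¬ p ^ 2 ∣ Nat.card G :=
    fun hd => not_sq_dvd_factorial hp hpn.le hn2p (hd.trans hcard)
  obtain ⟨s, -, hsc⟩ := Finset.exists_subset_card_eq (s := (Finset.univ : Finset (Fin n)))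
    (n := p) (by rw [Finset.card_univ, Fintype.card_fin]; omega)
  obtain ⟨z0, z0', ho, ho', hne, hs, hs', hsg, hsg'⟩ := exists_cycle_pair s p hp hp5 hsc
  obtain ⟨z, hz⟩ := hsurj z0 hsg
  obtain ⟨z', hz'⟩ := hsurj z0' hsg'
  have hoz : orderOf z = p := by rw [← orderOf_injective ι hinj z, hz, ho]
  have hoz' : orderOf z' = p := by rw [← orderOf_injective ι hinj z', hz', ho']
  have hne' : z' ∉ Subgroup.zpowers z := by
    intro hmem
    obtain ⟨k, hk⟩ := Subgroup.mem_zpowers_iff.mp hmem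
    apply hne
    rw [Subgroup.mem_zpowers_iff]
    refine ⟨k, ?_⟩
    rw [← hz, ← hz', ← hk, map_zpow]
  obtain ⟨y, -, hy⟩ := Finset.exists_mem_notMem_of_card_lt_card (s := s)
    (t := (Finset.univ : Finset (Fin n))) (by rw [Finset.card_univ, Fintype.card_fin]; omega)
  obtain ⟨x, w, w', hx, hw, hw', hxw, hxw', hww'⟩ := Finset.two_lt_card_iff.mp
    (show 2 < s.card by omega)
  have hxy : x ≠ y := fun hxy => hy (hxy ▸ hx)
  let g0 : Perm (Fin n) := swap x y * swap w w'
  have hg0 : Perm.sign g0 = 1 := by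
    rw [Perm.sign_mul, Perm.sign_swap hxy, Perm.sign_swap hww']; rfl
  obtain ⟨g, hg⟩ := hsurj g0 hg0
  have hgx : ι g x ∉ s := by
    rw [hg]
    change (swap x y * swap w w') x ∉ s
    rw [Perm.mul_apply, swap_apply_of_ne_of_ne hxw hxw', swap_apply_left]
    exact hy
  exact false_of_perm_data ι p hp2 s z z' g hoz hoz' hne' (hz ▸ hs) (hz' ▸ hs') x hx hgx h hnil

/-! ### Small cases -/

theorem cent_s4 : ∀ a : Perm (Fin 4),
    (swap 0 1 * swap 1 2 : Perm (Fin 4)) * a = a * (swap 0 1 * swap 1 2) →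
      Equiv.Perm.sign a = 1 := by decide

theorem cent_s4' : ∀ a : Perm (Fin 4),
    (swap 0 1 * swap 1 3 : Perm (Fin 4)) * a = a * (swap 0 1 * swap 1 3) →
      Equiv.Perm.sign a = 1 := by decide

theorem s4_case {𝓐 : Finset (Subgroup (Perm (Fin 4)))} (h : IsMinCover 𝓐)
    (hnil : ∀ A ∈ 𝓐, Group.IsNilpotent ↥A) : False := by
  have : Fact (Nat.Prime 3) := ⟨by norm_num⟩
  have hp2 : ¬ 3 ^ 2 ∣ Nat.card (Perm (Fin 4)) := by
    rw [Nat.card_perm, Nat.card_fin]; decide
  let z : Perm (Fin 4) := swap 0 1 * swap 1 2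
  let z' : Perm (Fin 4) := swap 0 1 * swap 1 3
  have hz : orderOf z = 3 := orderOf_eq_prime (by decide) (by decide)
  have hz' : orderOf z' = 3 := orderOf_eq_prime (by decide) (by decide)
  have hne : z' ∉ Subgroup.zpowers z := by
    intro hmem
    obtain ⟨k, hk⟩ := Subgroup.mem_zpowers_iff.mp hmem
    have hc : z' * z = z * z' := by
      rw [← hk]
      exact ((Commute.refl z).zpow_left k).eq
    revert hc
    decide
  have hM : alternatingGroup (Fin 4) ≠ ⊤ := by
    intro htop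
    have : (swap 0 1 : Perm (Fin 4)) ∈ alternatingGroup (Fin 4) := by rw [htop]; trivial
    rw [Perm.mem_alternatingGroup] at this
    revert this
    decide
  have hc : Subgroup.centralizer {z} ≤ alternatingGroup (Fin 4) := by
    intro a ha
    rw [Subgroup.mem_centralizer_iff] at ha
    rw [Perm.mem_alternatingGroup]
    exact cent_s4 a (ha z (Set.mem_singleton z))
  have hc' : Subgroup.centralizer {z'} ≤ alternatingGroup (Fin 4) := by
    intro a ha
    rw [Subgroup.mem_centralizer_iff] at ha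
    rw [Perm.mem_alternatingGroup]
    exact cent_s4' a (ha z' (Set.mem_singleton z'))
  exact h.false_of_prime hnil hp2 hz hz' hne hM hc hc'

set_option maxRecDepth 100000 in
theorem cent_s5 : ∀ a : Perm (Fin 5),
    (swap 0 1 * swap 1 2 * swap 2 3 * swap 3 4 : Perm (Fin 5)) * a =
      a * (swap 0 1 * swap 1 2 * swap 2 3 * swap 3 4) → Equiv.Perm.sign a = 1 := by decide

set_option maxRecDepth 100000 in
theorem cent_s5' : ∀ a : Perm (Fin 5),
    (swap 0 1 * swap 1 2 * swap 2 4 * swap 4 3 : Perm (Fin 5)) * a =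
      a * (swap 0 1 * swap 1 2 * swap 2 4 * swap 4 3) → Equiv.Perm.sign a = 1 := by decide

theorem s5_case {𝓐 : Finset (Subgroup (Perm (Fin 5)))} (h : IsMinCover 𝓐)
    (hnil : ∀ A ∈ 𝓐, Group.IsNilpotent ↥A) : False := by
  have : Fact (Nat.Prime 5) := ⟨by norm_num⟩
  have hp2 : ¬ 5 ^ 2 ∣ Nat.card (Perm (Fin 5)) := by
    rw [Nat.card_perm, Nat.card_fin]; decide
  let z : Perm (Fin 5) := swap 0 1 * swap 1 2 * swap 2 3 * swap 3 4
  let z' : Perm (Fin 5) := swap 0 1 * swap 1 2 * swap 2 4 * swap 4 3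
  have hz : orderOf z = 5 := orderOf_eq_prime (by decide) (by decide)
  have hz' : orderOf z' = 5 := orderOf_eq_prime (by decide) (by decide)
  have hne : z' ∉ Subgroup.zpowers z := by
    intro hmem
    obtain ⟨k, hk⟩ := Subgroup.mem_zpowers_iff.mp hmem
    have hc : z' * z = z * z' := by
      rw [← hk]
      exact ((Commute.refl z).zpow_left k).eq
    revert hc
    decide
  have hM : alternatingGroup (Fin 5) ≠ ⊤ := by
    intro htop
    have : (swap 0 1 : Perm (Fin 5)) ∈ alternatingGroup (Fin 5) := by rw [htop]; trivial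
    rw [Perm.mem_alternatingGroup] at this
    revert this
    decide
  have hc : Subgroup.centralizer {z} ≤ alternatingGroup (Fin 5) := by
    intro a ha
    rw [Subgroup.mem_centralizer_iff] at ha
    rw [Perm.mem_alternatingGroup]
    exact cent_s5 a (ha z (Set.mem_singleton z))
  have hc' : Subgroup.centralizer {z'} ≤ alternatingGroup (Fin 5) := by
    intro a ha
    rw [Subgroup.mem_centralizer_iff] at ha
    rw [Perm.mem_alternatingGroup]
    exact cent_s5' a (ha z' (Set.mem_singleton z'))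
  exact h.false_of_prime hnil hp2 hz hz' hne hM hc hc'

set_option maxRecDepth 100000 in
theorem cent_a5 : ∀ a : Perm (Fin 5), Equiv.Perm.sign a = 1 →
    (swap 0 1 * swap 1 2 : Perm (Fin 5)) * a = a * (swap 0 1 * swap 1 2) → a 4 = 4 := by decide

set_option maxRecDepth 100000 in
theorem cent_a5' : ∀ a : Perm (Fin 5), Equiv.Perm.sign a = 1 →
    (swap 0 1 * swap 1 3 : Perm (Fin 5)) * a = a * (swap 0 1 * swap 1 3) → a 4 = 4 := by decide

theorem a5_case {𝓐 : Finset (Subgroup ↥(alternatingGroup (Fin 5)))} (h : IsMinCover 𝓐)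
    (hnil : ∀ A ∈ 𝓐, Group.IsNilpotent ↥A) : False := by
  have : Fact (Nat.Prime 3) := ⟨by norm_num⟩
  have hp2 : ¬ 3 ^ 2 ∣ Nat.card ↥(alternatingGroup (Fin 5)) := by
    rw [nat_card_alternatingGroup, Nat.card_fin]; decide
  let z : ↥(alternatingGroup (Fin 5)) :=
    ⟨swap 0 1 * swap 1 2, by rw [Perm.mem_alternatingGroup]; decide⟩
  let z' : ↥(alternatingGroup (Fin 5)) :=
    ⟨swap 0 1 * swap 1 3, by rw [Perm.mem_alternatingGroup]; decide⟩
  have hz : orderOf z = 3 := orderOf_eq_prime (by decide) (by decide)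
  have hz' : orderOf z' = 3 := orderOf_eq_prime (by decide) (by decide)
  have hne : z' ∉ Subgroup.zpowers z := by
    intro hmem
    obtain ⟨k, hk⟩ := Subgroup.mem_zpowers_iff.mp hmem
    have hc : z' * z = z * z' := by
      rw [← hk]
      exact ((Commute.refl z).zpow_left k).eq
    revert hc
    decide
  let M : Subgroup ↥(alternatingGroup (Fin 5)) :=
    (MulAction.stabilizer (Perm (Fin 5)) (4 : Fin 5)).comap (alternatingGroup (Fin 5)).subtype
  have hmemM : ∀ a : ↥(alternatingGroup (Fin 5)), a ∈ M ↔ (a : Perm (Fin 5)) 4 = 4 := by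
    intro a
    rfl
  have hM : M ≠ ⊤ := by
    intro htop
    let g : ↥(alternatingGroup (Fin 5)) :=
      ⟨swap 2 3 * swap 3 4, by rw [Perm.mem_alternatingGroup]; decide⟩
    have : g ∈ M := by rw [htop]; trivial
    rw [hmemM] at this
    revert this
    decide
  have hc : Subgroup.centralizer {z} ≤ M := by
    intro a ha
    rw [Subgroup.mem_centralizer_iff] at ha
    rw [hmemM]
    have h1 := ha z (Set.mem_singleton z)
    have h2 := congrArg Subtype.val h1
    exact cent_a5 (a : Perm (Fin 5)) (Perm.mem_alternatingGroup.mp a.2) h2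
  have hc' : Subgroup.centralizer {z'} ≤ M := by
    intro a ha
    rw [Subgroup.mem_centralizer_iff] at ha
    rw [hmemM]
    have h1 := ha z' (Set.mem_singleton z')
    have h2 := congrArg Subtype.val h1
    exact cent_a5' (a : Perm (Fin 5)) (Perm.mem_alternatingGroup.mp a.2) h2
  exact h.false_of_prime hnil hp2 hz hz' hne hM hc hc'

theorem result (n : ℕ) :
    (5 ≤ n → ¬ ∃ 𝓐 : Finset (Subgroup ↥(alternatingGroup (Fin n))), ((∀ A ∈ 𝓐, A ≠ ⊤) ∧ (∀ g : ↥(alternatingGroup (Fin n)), ∃ A ∈ 𝓐, g ∈ A)) ∧ (∀ 𝓑 : Finset (Subgroup ↥(alternatingGroup (Fin n))), (∀ A ∈ 𝓑, A ≠ ⊤) ∧ (∀ g : ↥(alternatingGroup (Fin n)), ∃ A ∈ 𝓑, g ∈ A) → 𝓐.card ≤ 𝓑.card) ∧ (∀ A ∈ 𝓐, Group.IsNilpotent ↥A)) ∧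
    (4 ≤ n → ¬ ∃ 𝓐 : Finset (Subgroup (Equiv.Perm (Fin n))), ((∀ A ∈ 𝓐, A ≠ ⊤) ∧ (∀ g : (Equiv.Perm (Fin n)), ∃ A ∈ 𝓐, g ∈ A)) ∧ (∀ 𝓑 : Finset (Subgroup (Equiv.Perm (Fin n))), (∀ A ∈ 𝓑, A ≠ ⊤) ∧ (∀ g : (Equiv.Perm (Fin n)), ∃ A ∈ 𝓑, g ∈ A) → 𝓐.card ≤ 𝓑.card) ∧ (∀ A ∈ 𝓐, Group.IsNilpotent ↥A)) := by
  constructor
  · rintro hn ⟨𝓐, hcov, hmin, hnil⟩
    have h : IsMinCover 𝓐 := ⟨hcov, hmin⟩
    rcases Nat.lt_or_ge n 6 with h6 | h6
    · have h5 : n = 5 := by omega
      subst h5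
      exact a5_case h hnil
    · refine general_case h6 (alternatingGroup (Fin n)).subtype Subtype.coe_injective ?_ ?_ h hnil
      · intro σ hσ
        exact ⟨⟨σ, Perm.mem_alternatingGroup.mpr hσ⟩, rfl⟩
      · have h1 := Subgroup.card_subgroup_dvd_card (alternatingGroup (Fin n))
        rwa [Nat.card_perm, Nat.card_fin] at h1
  · rintro hn ⟨𝓐, hcov, hmin, hnil⟩
    have h : IsMinCover 𝓐 := ⟨hcov, hmin⟩
    rcases Nat.lt_or_ge n 6 with h6 | h6
    · rcases Nat.lt_or_ge n 5 with h5 | h5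
      · have h4 : n = 4 := by omega
        subst h4
        exact s4_case h hnil
      · have h5' : n = 5 := by omega
        subst h5'
        exact s5_case h hnil
    · refine general_case h6 (MonoidHom.id (Perm (Fin n))) (fun _ _ hab => hab) ?_ ?_ h hnil
      · intro σ _
        exact ⟨σ, rfl⟩
      · rw [Nat.card_perm, Nat.card_fin]

end Cfsg.Agent.S3892
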