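-- Statement S3897; proof: Helper60/PClassCount (elementary counting: an element of N_G(P) outside C_G(P)
-- forces 2 k_p(G) ≤ |P| + |P|/p; then Burnside's transfer theorem from Mathlib).
import Cfsg.Statements.S3897
import Cfsg.Agent.Helper60.PClassCount

set_option autoImplicit false
open Cfsg

namespace Cfsg.Agent.S3897

/-- Let p be an odd prime and G a finite group with Sylow p-subgroup P, and write k_p(G) for the number of conjugacy classes of G consisting of p-elements (elements of p-power order, the identity included). Then k_p(G) > (p + 1)|P|/(2p) if and only if G has a normal p-complement and P is abelian. -/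
theorem result {G : Type*} [Group G] [Finite G] {p : ℕ} [Fact p.Prime] (hp : p ≠ 2) (P : Sylow p G) :
    (p + 1) * Nat.card ↥(P : Subgroup G) < 2 * p * Nat.card {c : ConjClasses G // ∀ x ∈ c.carrier, ∃ k : ℕ, orderOf x = p ^ k} ↔
      Cfsg.HasNormalPComplement p G ∧ IsMulCommutative ↥(P : Subgroup G) :=
  Cfsg.Agent.Helper60.PClassCount.many_classes_iff P

end Cfsg.Agent.S3897
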