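import Cfsg.Statements.S3903
import Cfsg.Agent.Helper91.AbelianMax

set_option autoImplicit false
open Cfsg

namespace Cfsg.Agent.S3903

section aux

variable {G : Type*} [Group G] [Finite G]

omit [Finite G] in
/-- Commuting elements of nontrivial prime power orders for distinct primes: the order of the
product is not a prime power. -/
theorem not_isPrimePow_mul {a b : G} (hc : Commute a b) {r s j i : ℕ} (hr : r.Prime)
    (hs : s.Prime) (hrs : r ≠ s) (ha : orderOf a = r ^ j) (hj : j ≠ 0) (hb : orderOf b = s ^ i)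
    (hi : i ≠ 0) : ¬ IsPrimePow (orderOf (a * b)) := by
  have hco : (r ^ j).Coprime (s ^ i) := Nat.Coprime.pow _ _ ((Nat.coprime_primes hr hs).2 hrs)
  rw [hc.orderOf_mul_eq_mul_orderOf_of_coprime (by rw [ha, hb]; exact hco), ha, hb]
  intro hpp
  have hrj : 1 < r ^ j := Nat.one_lt_pow hj hr.one_lt
  have hsi : 1 < s ^ i := Nat.one_lt_pow hi hs.one_lt
  rcases (hco.isPrimePow_dvd_mul hpp).1 dvd_rfl with h1 | h1
  · have := Nat.le_of_dvd (by omega) h1
    nlinarith
  · have := Nat.le_of_dvd (by omega) h1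
    nlinarith

/-- An element of `N` commuting with an `r`-element outside `N` is an `r`-element. -/
theorem orderOf_eq_pow_of_commute (N : Subgroup G)
    (h : ∀ x : G, x ∉ N → IsPrimePow (orderOf x))
    {y : G} (hy : y ∉ N) {r j : ℕ} (hr : r.Prime) (hyo : orderOf y = r ^ j)
    {m : G} (hm : m ∈ N) (hc : Commute y m) : ∃ i, orderOf m = r ^ i := by
  have hj : j ≠ 0 := by
    rintro rfl
    rw [pow_zero, orderOf_eq_one_iff] at hyo
    exact hy (hyo ▸ N.one_mem)
  have hm0 : orderOf m ≠ 0 := (orderOf_pos m).ne'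
  refine ⟨_, Nat.eq_prime_pow_of_unique_prime_dvd hm0 ?_⟩
  intro s hs hsd
  by_contra hsr
  have ho : orderOf (m ^ (orderOf m / s)) = s ^ 1 := by
    rw [pow_one]; exact orderOf_pow_orderOf_div hm0 hsd
  have hm'N : m ^ (orderOf m / s) ∈ N := N.pow_mem hm _
  have hc' : Commute y (m ^ (orderOf m / s)) := hc.pow_right _
  have hnot : y * m ^ (orderOf m / s) ∉ N := fun hh =>
    hy (by simpa using N.mul_mem hh (N.inv_mem hm'N))
  exact not_isPrimePow_mul hc' hr hs (fun e => hsr e.symm) hyo hj ho one_ne_zero (h _ hnot)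

/-- The key dichotomy. -/
theorem key (N : Subgroup G) [N.Normal]
    (h : ∀ x : G, x ∉ N →
      IsPrimePow (orderOf x) ∧ IsCoatom (Subgroup.centralizer ({x} : Set G)))
    {y : G} (hy : y ∉ N) {r j : ℕ} (hr : r.Prime) (hyo : orderOf y = r ^ j) :
    IsPGroup r N ∨ (IsPGroup r (Subgroup.centralizer ({y} : Set G)) ∧
      Subgroup.centralizer ({y} : Set G) ⊔ N = ⊤) := by
  have h1 : ∀ x : G, x ∉ N → IsPrimePow (orderOf x) := fun x hx => (h x hx).1
  have hj : j ≠ 0 := by
    rintro rfl
    rw [pow_zero, orderOf_eq_one_iff] at hyo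
    exact hy (hyo ▸ N.one_mem)
  by_cases hNM : N ≤ Subgroup.centralizer ({y} : Set G)
  · left
    intro g
    have hcm : Commute y (g : G) := (Subgroup.mem_centralizer_singleton_iff.1 (hNM g.2)).symm
    obtain ⟨i, hi⟩ := orderOf_eq_pow_of_commute N h1 hy hr hyo g.2 hcm
    refine ⟨i, ?_⟩
    apply Subtype.ext
    rw [Subgroup.coe_pow, ← hi, Subgroup.coe_one]
    exact pow_orderOf_eq_one _
  · right
    have hsup : Subgroup.centralizer ({y} : Set G) ⊔ N = ⊤ :=
      (h y hy).2.2 _ (lt_of_le_of_ne le_sup_left (fun heq => hNM (heq ▸ le_sup_right)))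
    refine ⟨?_, hsup⟩
    rintro ⟨m, hm⟩
    have hcm : Commute y m := (Subgroup.mem_centralizer_singleton_iff.1 hm).symm
    suffices hs : ∃ i, orderOf m = r ^ i by
      obtain ⟨i, hi⟩ := hs
      refine ⟨i, ?_⟩
      apply Subtype.ext
      rw [Subgroup.coe_pow, Subgroup.coe_mk, ← hi, Subgroup.coe_one]
      exact pow_orderOf_eq_one _
    by_cases hmN : m ∈ N
    · exact orderOf_eq_pow_of_commute N h1 hy hr hyo hmN hcm
    · obtain ⟨q, i, hq, hi, hqi⟩ := (isPrimePow_nat_iff _).1 (h1 m hmN)
      have hq' : q.Prime := hq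
      by_cases hqr : q = r
      · exact ⟨i, by rw [← hqi, hqr]⟩
      · exfalso
        have hyN : y * m ∈ N := by
          by_contra hnot
          exact not_isPrimePow_mul hcm hr hq' (fun e => hqr e.symm) hyo hj hqi.symm hi.ne'
            (h1 _ hnot)
        have h2 : y ^ (q ^ i) ∈ N := by
          have := N.pow_mem hyN (orderOf m)
          rw [hcm.mul_pow, pow_orderOf_eq_one, mul_one] at this
          rwa [hqi]
        obtain ⟨k, hk⟩ := exists_pow_eq_self_of_coprime (x := y) (n := q ^ i)
          (by rw [hyo]; exact Nat.Coprime.pow _ _ ((Nat.coprime_primes hq' hr).2 hqr))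
        exact hy (hk ▸ N.pow_mem h2 k)

/-- cardinality bookkeeping for `A \ B` -/
theorem card_diff_add (A B : Subgroup G) :
    Nat.card {y : G // y ∈ A ∧ y ∉ B} + Nat.card ↥(A ⊓ B) = Nat.card A := by
  have h1 : Nat.card {y : G // y ∈ A ∧ y ∉ B} = ((A : Set G) \ (B : Set G)).ncard := rfl
  have h2 : Nat.card ↥(A ⊓ B) = ((A : Set G) ∩ (B : Set G)).ncard := rfl
  have h3 : Nat.card A = (A : Set G).ncard := rfl
  rw [h1, h2, h3, add_comm]
  exact Set.ncard_inter_add_ncard_sdiff_eq_ncard _ _

theorem card_compl_add (N : Subgroup G) :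
    Nat.card {y : G // y ∉ N} + Nat.card N = Nat.card G := by
  classical
  have := Nat.card_congr (Equiv.sumCompl (fun y : G => y ∈ N))
  rw [Nat.card_sum] at this
  rw [← this, add_comm]

theorem card_mul_card_inf (A N : Subgroup G) [N.Normal] (hsup : A ⊔ N = ⊤) :
    Nat.card G * Nat.card ↥(A ⊓ N) = Nat.card A * Nat.card N := by
  have h1 : N.relIndex (A ⊔ N) = N.relIndex A := Subgroup.relIndex_sup_right A N
  rw [hsup, Subgroup.relIndex_top_right] at h1
  have h2 : (A ⊓ N).relIndex A = N.relIndex A := by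
    rw [inf_comm]; exact Subgroup.inf_relIndex_right N A
  have h3 : Nat.card ↥(A ⊓ N) * (A ⊓ N).relIndex A = Nat.card A := by
    have := Subgroup.relIndex_mul_relIndex (⊥ : Subgroup G) (A ⊓ N) A bot_le inf_le_left
    rwa [Subgroup.relIndex_bot_left, Subgroup.relIndex_bot_left] at this
  have h4 : Nat.card N * N.index = Nat.card G := Subgroup.card_mul_index N
  rw [← h4, ← h3, h2, ← h1]; ring

/-- **Counting lemma.** If `G = P N` for a Sylow `p`-subgroup `P`, and every element outside `N`
lies in some Sylow `p`-subgroup, then every element outside `N` lies in exactly one. -/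
theorem sylow_unique_of_count {p : ℕ} [Fact p.Prime] (N : Subgroup G) [hNn : N.Normal]
    (P : Sylow p G) (hsup : (P : Subgroup G) ⊔ N = ⊤)
    (hS : ∀ y : G, y ∉ N → ∃ S : Sylow p G, y ∈ (S : Subgroup G)) :
    ∀ y : G, y ∉ N → ∀ S T : Sylow p G, y ∈ (S : Subgroup G) → y ∈ (T : Subgroup G) → S = T := by
  classical
  haveI : Fintype (Sylow p G) := Fintype.ofFinite _
  let β : Sylow p G → Type _ := fun S => {y : G // y ∈ (S : Subgroup G) ∧ y ∉ N}
  let π : Sigma β → {y : G // y ∉ N} := fun w => ⟨w.2.1, w.2.2.2⟩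
  have hsurj : Function.Surjective π := by
    rintro ⟨y, hy⟩
    obtain ⟨S, hS'⟩ := hS y hy
    exact ⟨⟨S, y, hS', hy⟩, rfl⟩
  have hβ : ∀ S : Sylow p G, Nat.card (β S) = Nat.card (β P) := by
    intro S
    obtain ⟨g, rfl⟩ := MulAction.exists_smul_eq G P S
    symm
    apply Nat.card_congr
    refine (MulAut.conj g).toEquiv.subtypeEquiv ?_
    intro y
    have hN' : MulAut.conj g y ∈ N ↔ y ∈ N := by
      rw [MulAut.conj_apply]
      constructor
      · intro h
        have := hNn.conj_mem _ h g⁻¹
        simpa [mul_assoc] using this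
      · intro h; exact hNn.conj_mem _ h g
    have hP' : MulAut.conj g y ∈ ((g • P : Sylow p G) : Subgroup G) ↔ y ∈ (P : Subgroup G) := by
      rw [Sylow.coe_subgroup_smul]
      exact Subgroup.smul_mem_pointwise_smul_iff (a := MulAut.conj g)
    show (y ∈ (P : Subgroup G) ∧ y ∉ N) ↔
      (MulAut.conj g y ∈ ((g • P : Sylow p G) : Subgroup G) ∧ MulAut.conj g y ∉ N)
    rw [hP', hN']
  have hcard : Nat.card (Sigma β) ≤ Nat.card {y : G // y ∉ N} := by
    rw [Nat.card_sigma]
    simp only [hβ, Finset.sum_const, Finset.card_univ, smul_eq_mul]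
    have hn : Fintype.card (Sylow p G) ∣ (P : Subgroup G).index := by
      rw [← Nat.card_eq_fintype_card]; exact P.card_dvd_index
    have hidx : (P : Subgroup G).index * Nat.card (P : Subgroup G) = Nat.card G :=
      Subgroup.index_mul_card _
    have ha : Nat.card (β P) + Nat.card ↥((P : Subgroup G) ⊓ N) = Nat.card (P : Subgroup G) :=
      card_diff_add _ _
    have hx := card_compl_add N
    have hm := card_mul_card_inf (P : Subgroup G) N hsup
    have hcP : 0 < Nat.card (P : Subgroup G) := Nat.card_pos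
    have hidx0 : 0 < (P : Subgroup G).index := by
      rcases Nat.eq_zero_or_pos (P : Subgroup G).index with h0 | h0
      · rw [h0, zero_mul] at hidx
        exact absurd hidx.symm (Nat.card_pos (α := G)).ne'
      · exact h0
    have hle : Fintype.card (Sylow p G) ≤ (P : Subgroup G).index := Nat.le_of_dvd hidx0 hn
    have hd : (P : Subgroup G).index * Nat.card ↥((P : Subgroup G) ⊓ N) = Nat.card N := by
      apply Nat.eq_of_mul_eq_mul_left hcP
      rw [← hm, ← hidx]; ring
    have hxa : (P : Subgroup G).index * Nat.card (β P) = Nat.card {y : G // y ∉ N} := by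
      have : (P : Subgroup G).index * Nat.card (β P) + Nat.card N =
          Nat.card {y : G // y ∉ N} + Nat.card N := by
        rw [hx, ← hidx, ← ha, ← hd]; ring
      exact Nat.add_right_cancel this
    calc Fintype.card (Sylow p G) * Nat.card (β P)
        ≤ (P : Subgroup G).index * Nat.card (β P) := Nat.mul_le_mul_right _ hle
      _ = _ := hxa
  have hbij := hsurj.bijective_of_nat_card_le hcard
  intro y hy S T hyS hyT
  have h1 : (⟨S, ⟨y, hyS, hy⟩⟩ : Sigma β) = ⟨T, ⟨y, hyT, hy⟩⟩ := hbij.1 rfl
  exact congrArg Sigma.fst h1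

end aux

/-- Let N be a proper normal subgroup of the finite group G such that every element x of G outside N has prime power order and has centralizer C_G(x) a maximal subgroup of G. Then N is solvable. -/
theorem result {G : Type*} [Group G] [Finite G] (N : Subgroup G) [N.Normal] (hN : N ≠ ⊤)
    (h : ∀ x : G, x ∉ N → IsPrimePow (orderOf x) ∧ IsCoatom (Subgroup.centralizer ({x} : Set G))) : Group.IsSolvable ↥N := by
  obtain ⟨x, hx⟩ : ∃ x : G, x ∉ N := by
    by_contra hcon
    push Not at hcon
    exact hN (eq_top_iff.2 fun y _ => hcon y)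
  obtain ⟨p, k, hp, hk, hpk⟩ := (isPrimePow_nat_iff _).1 (h x hx).1
  have hp' : p.Prime := hp
  haveI : Fact p.Prime := ⟨hp'⟩
  by_cases hNp : IsPGroup p N
  · haveI := hNp.isNilpotent
    infer_instance
  -- a `p`-subgroup that is a coatom is a Sylow `p`-subgroup
  have hsyl : ∀ D : Subgroup G, IsCoatom D → IsPGroup p D →
      ∃ S : Sylow p G, (S : Subgroup G) = D := by
    intro D hD hDp
    obtain ⟨S, hDS⟩ := hDp.exists_le_sylow
    refine ⟨S, ?_⟩
    by_contra hne
    have htop : (S : Subgroup G) = ⊤ := hD.2 _ (lt_of_le_of_ne hDS (Ne.symm hne))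
    apply hNp
    intro g
    have hg : (g : G) ∈ (S : Subgroup G) := htop ▸ Subgroup.mem_top _
    obtain ⟨i, hi⟩ := S.isPGroup' ⟨g, hg⟩
    refine ⟨i, Subtype.ext ?_⟩
    have := congrArg Subtype.val hi
    simpa using this
  rcases key N h hx hp' hpk.symm with h1 | ⟨hCp, hsup⟩
  · exact absurd h1 hNp
  have hCco : IsCoatom (Subgroup.centralizer ({x} : Set G)) := (h x hx).2
  obtain ⟨P, hPC⟩ := hsyl _ hCco hCp
  -- every element outside `N` is a `p`-element whose centralizer is a Sylow `p`-subgroup
  have hcentS : ∀ y : G, y ∉ N → ∃ S : Sylow p G,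
      (S : Subgroup G) = Subgroup.centralizer ({y} : Set G) := by
    intro y hy
    obtain ⟨r, j, hr, hj, hrj⟩ := (isPrimePow_nat_iff _).1 (h y hy).1
    have hr' : r.Prime := hr
    have hrp : r = p := by
      by_contra hrp
      have hy' : y ∈ ((Subgroup.centralizer ({x} : Set G) ⊔ N : Subgroup G) : Set G) := by
        rw [hsup]; trivial
      rw [Subgroup.mul_normal] at hy'
      obtain ⟨c, hc, n, hn, hcn⟩ := hy'
      obtain ⟨a, ha⟩ := hCp ⟨c, hc⟩
      have hca : c ^ (p ^ a) = 1 := by
        have := congrArg Subtype.val ha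
        simpa using this
      have hyN : y ^ (p ^ a) ∈ N := by
        rw [← QuotientGroup.eq_one_iff, QuotientGroup.mk_pow, ← hcn]
        have : ((c * n : G) : G ⧸ N) = (c : G ⧸ N) := QuotientGroup.mk_mul_of_mem c hn
        rw [this, ← QuotientGroup.mk_pow, hca, QuotientGroup.mk_one]
      obtain ⟨t, ht⟩ := exists_pow_eq_self_of_coprime (x := y) (n := p ^ a)
        (by rw [← hrj]; exact Nat.Coprime.pow _ _ ((Nat.coprime_primes hp' hr').2
          (fun e => hrp e.symm)))
      exact hy (ht ▸ N.pow_mem hyN t)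
    subst hrp
    rcases key N h hy hp' hrj.symm with h1 | ⟨h2, -⟩
    · exact absurd h1 hNp
    · exact hsyl _ (h y hy).2 h2
  have hS : ∀ y : G, y ∉ N → ∃ S : Sylow p G, y ∈ (S : Subgroup G) := by
    intro y hy
    obtain ⟨S, hSy⟩ := hcentS y hy
    exact ⟨S, hSy ▸ Subgroup.mem_centralizer_singleton_iff.2 rfl⟩
  have huniq := sylow_unique_of_count N P (hPC ▸ hsup) hS
  -- elements of `C(x)` outside `N` are central in `C(x)`
  have hcent : ∀ y ∈ Subgroup.centralizer ({x} : Set G), y ∉ N →
      ∀ u ∈ Subgroup.centralizer ({x} : Set G), u * y = y * u := by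
    intro y hyC hy u hu
    obtain ⟨S, hSy⟩ := hcentS y hy
    have h1 : S = P := huniq y hy S P (hSy ▸ Subgroup.mem_centralizer_singleton_iff.2 rfl)
      (hPC ▸ hyC)
    have h2 : Subgroup.centralizer ({y} : Set G) = Subgroup.centralizer ({x} : Set G) := by
      rw [← hSy, h1, hPC]
    exact Subgroup.mem_centralizer_singleton_iff.1 (h2 ▸ hu)
  have hxC : x ∈ Subgroup.centralizer ({x} : Set G) :=
    Subgroup.mem_centralizer_singleton_iff.2 rfl
  have hab : ∀ a ∈ Subgroup.centralizer ({x} : Set G),
      ∀ b ∈ Subgroup.centralizer ({x} : Set G), a * b = b * a := by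
    intro a ha b hb
    by_cases haN : a ∈ N
    · by_cases hbN : b ∈ N
      · have haxN : a * x ∉ N := fun hh =>
          hx (by simpa using N.mul_mem (N.inv_mem haN) hh)
        have e1 : b * (a * x) = a * x * b :=
          hcent (a * x) (Subgroup.mul_mem _ ha hxC) haxN b hb
        have e2 : b * x = x * b := hcent x hxC hx b hb
        have : a * b * x = b * a * x := by
          calc a * b * x = a * (b * x) := by group
            _ = a * (x * b) := by rw [e2]
            _ = a * x * b := by group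
            _ = b * (a * x) := e1.symm
            _ = b * a * x := by group
        exact mul_right_cancel this
      · exact hcent b hb hbN a ha
    · exact (hcent a ha haN b hb).symm
  have hder := Cfsg.Agent.Helper91.derivedSeries_three_of_abelian_coatom _ hCco hab
  haveI : Group.IsSolvable G := (Group.isSolvable_def G).2 ⟨3, hder⟩
  infer_instance

end Cfsg.Agent.S3903
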