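-- Statement S3905 (Cfsg.fg3_normal_subgroup_with_maximal_centralizers_of_noncentral_elements), helper11
import Cfsg.Statements.S3905
import Cfsg.Agent.Helper49.RelMaxCaseA
import Cfsg.Agent.Helper49.RelMaxCaseBeta
import Cfsg.Agent.Helper97.RelMaxCaseGT
import Cfsg.Agent.Helper11.RelMax.CaseFrob

set_option autoImplicit false
set_option linter.style.haveILetI false
open Cfsg

namespace Cfsg.Agent.S3905

open Cfsg.Agent.Helper11.RelMax in
/-- Let N be a normal subgroup of the finite group G such that for every element x of N outside the center of N the centralizer C_G(x) is a maximal subgroup of G. Then N/Z(N) is either an elementary abelian p-group for some prime p, or a Frobenius group whose kernel is an elementary abelian normal subgroup and whose complement has prime order. -/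
theorem result {G : Type*} [Group G] [Finite G] (N : Subgroup G) [N.Normal]
    (h : ∀ x : G, x ∈ N → x ∉ Subgroup.centralizer (N : Set G) → IsCoatom (Subgroup.centralizer ({x} : Set G))) :
    (∃ p : ℕ, p.Prime ∧ Cfsg.IsElementaryAbelian p (⊤ : Subgroup (↥N ⧸ Subgroup.center ↥N))) ∨
    (∃ (Q K : Subgroup (↥N ⧸ Subgroup.center ↥N)) (p : ℕ), p.Prime ∧ Cfsg.IsFrobeniusComplement Q ∧ (Nat.card ↥Q).Prime ∧
      K.Normal ∧ (K : Set (↥N ⧸ Subgroup.center ↥N)) = Cfsg.frobeniusKernel Q ∧ Cfsg.IsElementaryAbelian p K) := by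
  have hH : Hyp N := h
  by_cases hNab : N ≤ Subgroup.centralizer (N : Set G)
  · left; exact alt1_of_abelian hNab
  by_cases hB : ZN N ≤ Subgroup.center G
  · by_cases hβ : ∃ k ∈ N, k ∉ Subgroup.centralizer (N : Set G) ∧
        ∀ g : G, g * k * g⁻¹ * k⁻¹ ∈ ZN N
    · left
      obtain ⟨k, hk, hkZ, hβ⟩ := hβ
      exact Cfsg.Agent.Helper49.RelMaxB.caseBeta hH hB hk hkZ hβ
    · have hα := alpha_of_not_beta hH hβ
      obtain ⟨K, hKn, hZK, hKN, hmin⟩ := exists_min_normal hNab
      haveI := hKn
      by_cases hab : ∀ a ∈ K, ∀ b ∈ K, a * b = b * a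
      · right
        exact caseFrob hH hB hα K hZK hKN hmin hab
      · push Not at hab
        exact (Cfsg.Agent.Helper97.RelMaxCaseGT.caseGT hH hB hα K hZK hKN hmin hab).elim
  · left; exact Cfsg.Agent.Helper49.RelMaxA.caseA hH hB

end Cfsg.Agent.S3905
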