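-- Statement S3908: Sylow subgroups of groups whose equal-order abelian subgroups are conjugate.
import Cfsg.Statements.S3908
import Cfsg.Agent.S0016
import Cfsg.Agent.S0126

set_option autoImplicit false
open Cfsg

namespace Cfsg.Agent.S3908

/-- If some commutative subgroup of order `p^2` has exponent `p`, and equal-order abelian subgroups
are conjugate, then there is no element of order `p^2`. -/
theorem no_order_sq {G : Type*} [Group G] [Finite G]
    (hB : ∀ A B : Subgroup G, IsMulCommutative ↥A → IsMulCommutative ↥B → Nat.card ↥A = Nat.card ↥B →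
      ∃ g : G, B = A.map (MulAut.conj g).toMonoidHom)
    {p : ℕ} (hp : p.Prime) (V : Subgroup G) (hVc : IsMulCommutative ↥V) (hVcard : Nat.card ↥V = p ^ 2)
    (hVexp : ∀ v ∈ V, v ^ p = 1) (x : G) (hx : orderOf x = p ^ 2) : False := by
  have hAc : IsMulCommutative ↥(Subgroup.zpowers x) := inferInstance
  have hAcard : Nat.card ↥(Subgroup.zpowers x) = Nat.card ↥V := by
    rw [Nat.card_zpowers, hx, hVcard]
  obtain ⟨g, hg⟩ := hB (Subgroup.zpowers x) V hAc hVc hAcard
  have hmem : g * x * g⁻¹ ∈ V := by
    rw [hg, Subgroup.mem_map]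
    exact ⟨x, Subgroup.mem_zpowers x, by simp [MulAut.conj_apply]⟩
  have h1 := hVexp _ hmem
  rw [conj_pow] at h1
  have h2 : x ^ p = 1 := by
    have := congrArg (fun t => g⁻¹ * t * g) h1
    simpa [mul_assoc] using this
  have h3 := orderOf_dvd_of_pow_eq_one h2
  rw [hx] at h3
  have h4 := Nat.le_of_dvd hp.pos h3
  nlinarith [hp.one_lt]

/-- If there is no element of order `p^2` then every `p`-element has order dividing `p`. -/
theorem pow_eq_one_of_no_order_sq {G : Type*} [Group G] [Finite G] {p : ℕ} (hp : p.Prime)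
    (hno : ∀ x : G, orderOf x ≠ p ^ 2) (y : G) (k : ℕ) (hy : orderOf y = p ^ k) : y ^ p = 1 := by
  by_cases hk : k ≤ 1
  · have : orderOf y ∣ p := by
      rw [hy]
      calc p ^ k ∣ p ^ 1 := pow_dvd_pow p hk
        _ = p := pow_one p
    exact orderOf_dvd_iff_pow_eq_one.mp this
  · exfalso
    push Not at hk
    have hdvd : p ^ 2 ∣ orderOf y := by
      rw [hy]
      exact pow_dvd_pow p hk
    exact hno _ (orderOf_pow_orderOf_div (orderOf_pos y).ne' hdvd)

theorem part_two {G : Type*} [Group G] [Finite G]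
    (hB : ∀ A B : Subgroup G, IsMulCommutative ↥A → IsMulCommutative ↥B → Nat.card ↥A = Nat.card ↥B →
      ∃ g : G, B = A.map (MulAut.conj g).toMonoidHom) :
    ∀ P : Sylow 2 G, IsCyclic ↥(P : Subgroup G) ∨ Cfsg.IsElementaryAbelian 2 (P : Subgroup G) ∨
      ∃ k : ℕ, Nonempty (↥(P : Subgroup G) ≃* QuaternionGroup (2 ^ k)) := by
  intro P
  have h2 : Fact (Nat.Prime 2) := ⟨Nat.prime_two⟩
  by_cases huniq : ∀ H K : Subgroup ↥(P : Subgroup G), Nat.card H = 2 → Nat.card K = 2 → H = K
  · rcases Cfsg.Agent.S0016.result 2 P.isPGroup' huniq with h | ⟨-, h⟩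
    · exact Or.inl h
    · exact Or.inr (Or.inr h)
  · right; left
    push Not at huniq
    obtain ⟨H, K, hH, hK, hHK⟩ := huniq
    -- the Sylow subgroup is nontrivial
    have hnt : Nontrivial ↥(P : Subgroup G) := by
      by_contra hcon
      rw [not_nontrivial_iff_subsingleton] at hcon
      exact hHK (Subsingleton.elim _ _)
    have hcnt := P.isPGroup'.center_nontrivial
    have hcdvd : 2 ∣ Nat.card ↥(Subgroup.center ↥(P : Subgroup G)) := by
      obtain ⟨j, hj⟩ := IsPGroup.iff_card.mp (P.isPGroup'.to_subgroup (Subgroup.center ↥(P : Subgroup G)))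
      rcases Nat.eq_zero_or_pos j with rfl | hjpos
      · exfalso
        have h1 : Nat.card ↥(Subgroup.center ↥(P : Subgroup G)) = 1 := by simpa using hj
        have := (Nat.card_eq_one_iff_unique.mp h1).1
        exact not_subsingleton _ this
      · rw [hj]
        exact dvd_pow_self 2 hjpos.ne'
    obtain ⟨z, hz⟩ := exists_prime_orderOf_dvd_card' 2 hcdvd
    -- z as an element of P
    have hzP : orderOf (z : ↥(P : Subgroup G)) = 2 := by rw [Subgroup.orderOf_coe]; exact hz
    -- pick T among H, K different from zpowers z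
    obtain ⟨T, hT, hTz⟩ : ∃ T : Subgroup ↥(P : Subgroup G), Nat.card T = 2 ∧
        T ≠ Subgroup.zpowers (z : ↥(P : Subgroup G)) := by
      by_cases hHz : H = Subgroup.zpowers (z : ↥(P : Subgroup G))
      · exact ⟨K, hK, fun h => hHK (hHz.trans h.symm)⟩
      · exact ⟨H, hH, hHz⟩
    have hTnt : Nontrivial ↥T := by
      rw [← Finite.one_lt_card_iff_nontrivial, hT]
      norm_num
    obtain ⟨t, ht1⟩ := exists_ne (1 : ↥T)
    have hto : orderOf t = 2 := by
      have hdvd : orderOf t ∣ 2 := by
        have h5 := orderOf_dvd_natCard t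
        rwa [hT] at h5
      rcases (Nat.dvd_prime Nat.prime_two).mp hdvd with h | h
      · exact absurd (orderOf_eq_one_iff.mp h) ht1
      · exact h
    have htP : orderOf (t : ↥(P : Subgroup G)) = 2 := by rw [Subgroup.orderOf_coe]; exact hto
    have htz : (t : ↥(P : Subgroup G)) ∉ Subgroup.zpowers (z : ↥(P : Subgroup G)) := by
      intro hmem
      apply hTz
      have h1 : Subgroup.zpowers (t : ↥(P : Subgroup G)) ≤ Subgroup.zpowers (z : ↥(P : Subgroup G)) :=
        (Subgroup.zpowers_le).mpr hmem
      have h2 : Subgroup.zpowers (t : ↥(P : Subgroup G)) = Subgroup.zpowers (z : ↥(P : Subgroup G)) := by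
        apply Subgroup.eq_of_le_of_card_ge h1
        rw [Nat.card_zpowers, Nat.card_zpowers, htP, hzP]
      have h3 : Subgroup.zpowers (t : ↥(P : Subgroup G)) ≤ T := (Subgroup.zpowers_le).mpr t.2
      have h4 : Subgroup.zpowers (t : ↥(P : Subgroup G)) = T := by
        apply Subgroup.eq_of_le_of_card_ge h3
        rw [Nat.card_zpowers, htP, hT]
      rw [← h4, h2]
    -- now move to G
    set zG : G := ((z : ↥(P : Subgroup G)) : G) with hzG
    set tG : G := ((t : ↥(P : Subgroup G)) : G) with htG
    have hzGo : orderOf zG = 2 := by rw [hzG, Subgroup.orderOf_coe]; exact hzP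
    have htGo : orderOf tG = 2 := by rw [htG, Subgroup.orderOf_coe]; exact htP
    have hcomm : zG * tG = tG * zG := by
      have := Subgroup.mem_center_iff.mp z.2 (t : ↥(P : Subgroup G))
      have h5 := congrArg (Subtype.val) this
      simpa [hzG, htG] using h5.symm
    have htzG : tG ∉ Subgroup.zpowers zG := by
      intro hmem
      apply htz
      obtain ⟨n, hn⟩ := Subgroup.mem_zpowers_iff.mp hmem
      refine Subgroup.mem_zpowers_iff.mpr ⟨n, ?_⟩
      apply Subtype.ext
      rw [Subgroup.coe_zpow]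
      exact hn
    set W : Subgroup G := Subgroup.closure {zG, tG} with hW
    have hWc : IsMulCommutative ↥W := by
      apply Subgroup.isMulCommutative_closure
      intro a ha b hb
      rcases ha with rfl | rfl <;> rcases hb with rfl | rfl
      · rfl
      · exact hcomm
      · exact hcomm.symm
      · rfl
    have hWexp : ∀ w ∈ W, w ^ 2 = 1 := by
      intro w hw
      induction hw using Subgroup.closure_induction with
      | mem a ha =>
        rcases ha with rfl | rfl
        · rw [← hzGo]; exact pow_orderOf_eq_one _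
        · rw [← htGo]; exact pow_orderOf_eq_one _
      | one => simp
      | mul a b ha hb iha ihb =>
        have hab : a * b = b * a := setLike_mul_comm ha hb
        rw [(show Commute a b from hab).mul_pow, iha, ihb, one_mul]
      | inv a ha iha => rw [inv_pow, iha, inv_one]
    have hWp : IsPGroup 2 ↥W := by
      intro w
      refine ⟨1, ?_⟩
      apply Subtype.ext
      simpa using hWexp w w.2
    obtain ⟨j, hj⟩ := IsPGroup.iff_card.mp hWp
    have hzW : Subgroup.zpowers zG ≤ W :=
      (Subgroup.zpowers_le).mpr (Subgroup.subset_closure (Set.mem_insert _ _))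
    have htW : tG ∈ W := Subgroup.subset_closure (Set.mem_insert_of_mem _ rfl)
    have hlt : Nat.card ↥(Subgroup.zpowers zG) < Nat.card ↥W := by
      by_contra hle
      push Not at hle
      have := Subgroup.eq_of_le_of_card_ge hzW hle
      exact htzG (this ▸ htW)
    rw [Nat.card_zpowers, hzGo, hj] at hlt
    have hj2 : 2 ≤ j := by
      by_contra hcon
      push Not at hcon
      have : 2 ^ j ≤ 2 ^ 1 := Nat.pow_le_pow_right (by norm_num) (by omega)
      omega
    have hdvd4 : 2 ^ 2 ∣ Nat.card ↥W := by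
      rw [hj]
      exact pow_dvd_pow 2 hj2
    obtain ⟨V', hV'⟩ := Sylow.exists_subgroup_card_pow_prime 2 hdvd4
    set V : Subgroup G := V'.map W.subtype with hV
    have hVcard : Nat.card ↥V = 2 ^ 2 := by
      rw [hV, Subgroup.card_map_of_injective W.subtype_injective, hV']
    have hVc : IsMulCommutative ↥V := by
      rw [hV]
      infer_instance
    have hVexp : ∀ v ∈ V, v ^ 2 = 1 := by
      intro v hv
      rw [hV, Subgroup.mem_map] at hv
      obtain ⟨w, -, rfl⟩ := hv
      exact hWexp _ w.2
    have hno : ∀ x : G, orderOf x ≠ 2 ^ 2 := fun x hx =>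
      no_order_sq hB Nat.prime_two V hVc hVcard hVexp x hx
    have hPexp : ∀ a ∈ (P : Subgroup G), a ^ 2 = 1 := by
      intro a ha
      obtain ⟨k, hk⟩ := (IsPGroup.iff_orderOf.mp P.isPGroup') ⟨a, ha⟩
      rw [← Subgroup.orderOf_coe] at hk
      exact pow_eq_one_of_no_order_sq Nat.prime_two hno a k hk
    refine ⟨⟨⟨fun a b => ?_⟩⟩, hPexp⟩
    apply Subtype.ext
    have ha := hPexp a a.2
    have hb := hPexp b b.2
    have hab := hPexp (a * b) (a * b).2
    rw [Subgroup.coe_mul, Subgroup.coe_mul]
    have ha' : (a : G)⁻¹ = a := by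
      rw [inv_eq_iff_mul_eq_one, ← pow_two]; exact ha
    have hb' : (b : G)⁻¹ = b := by
      rw [inv_eq_iff_mul_eq_one, ← pow_two]; exact hb
    have hab' : ((a : G) * b)⁻¹ = a * b := by
      rw [inv_eq_iff_mul_eq_one, ← pow_two]; exact hab
    calc (a : G) * b = ((a : G) * b)⁻¹ := hab'.symm
      _ = (b : G)⁻¹ * (a : G)⁻¹ := mul_inv_rev _ _
      _ = b * a := by rw [ha', hb']

theorem part_odd {G : Type*} [Group G] [Finite G]
    (hB : ∀ A B : Subgroup G, IsMulCommutative ↥A → IsMulCommutative ↥B → Nat.card ↥A = Nat.card ↥B →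
      ∃ g : G, B = A.map (MulAut.conj g).toMonoidHom)
    (p : ℕ) [Fact p.Prime] (hp2 : p ≠ 2) (P : Sylow p G) :
    IsCyclic ↥(P : Subgroup G) ∨ ∀ x ∈ (P : Subgroup G), x ^ p = 1 := by
  have hp : p.Prime := Fact.out
  by_cases hc : IsCyclic ↥(P : Subgroup G)
  · exact Or.inl hc
  · right
    obtain ⟨A', -, ⟨hA'c, hA'exp⟩, hA'card⟩ := Cfsg.Agent.S0126.result hp2 P.isPGroup' hc
    set V : Subgroup G := A'.map (P : Subgroup G).subtype with hV
    have hVcard : Nat.card ↥V = p ^ 2 := by
      rw [hV, Subgroup.card_map_of_injective (P : Subgroup G).subtype_injective, hA'card]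
    have hVc : IsMulCommutative ↥V := by
      rw [hV]
      infer_instance
    have hVexp : ∀ v ∈ V, v ^ p = 1 := by
      intro v hv
      rw [hV, Subgroup.mem_map] at hv
      obtain ⟨w, hw, rfl⟩ := hv
      have := hA'exp w hw
      have h2 := congrArg Subtype.val this
      simpa using h2
    have hno : ∀ x : G, orderOf x ≠ p ^ 2 := fun x hx =>
      no_order_sq hB hp V hVc hVcard hVexp x hx
    intro a ha
    obtain ⟨k, hk⟩ := (IsPGroup.iff_orderOf.mp P.isPGroup') ⟨a, ha⟩
    rw [← Subgroup.orderOf_coe] at hk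
    exact pow_eq_one_of_no_order_sq hp hno a k hk

/-- Let G be a finite group in which any two abelian subgroups of the same order are conjugate. Then a Sylow 2-subgroup of G is cyclic, elementary abelian or generalized quaternion, and for an odd prime p a Sylow p-subgroup of G is cyclic or has exponent dividing p. -/
theorem result {G : Type*} [Group G] [Finite G] (hB : ∀ A B : Subgroup G, IsMulCommutative ↥A → IsMulCommutative ↥B → Nat.card ↥A = Nat.card ↥B → ∃ g : G, B = A.map (MulAut.conj g).toMonoidHom) :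
    (∀ P : Sylow 2 G, IsCyclic ↥(P : Subgroup G) ∨ Cfsg.IsElementaryAbelian 2 (P : Subgroup G) ∨ ∃ k : ℕ, Nonempty (↥(P : Subgroup G) ≃* QuaternionGroup (2 ^ k))) ∧
    ∀ (p : ℕ) [Fact p.Prime], p ≠ 2 → ∀ P : Sylow p G, IsCyclic ↥(P : Subgroup G) ∨ ∀ x ∈ (P : Subgroup G), x ^ p = 1 := by
  exact ⟨part_two hB, fun p _ hp2 P => part_odd hB p hp2 P⟩

end Cfsg.Agent.S3908
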