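import Cfsg.Statements.S3909

set_option autoImplicit false
open Cfsg
open scoped Pointwise

namespace Cfsg.Agent.S3909

/-- first part: a normal subgroup containing an element of the same order as `a` contains `a`. -/
theorem part1 {G : Type*} [Group G] [Finite G] (hB : ∀ A B : Subgroup G, IsMulCommutative ↥A → IsMulCommutative ↥B → Nat.card ↥A = Nat.card ↥B → ∃ g : G, B = A.map (MulAut.conj g).toMonoidHom) (M : Subgroup G) [hM : M.Normal]
    (a : G) (h : ∃ m ∈ M, orderOf m = orderOf a) : a ∈ M := by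
  obtain ⟨m, hm, hma⟩ := h
  obtain ⟨g, hg⟩ := hB (Subgroup.zpowers m) (Subgroup.zpowers a) inferInstance inferInstance
    (by rw [Nat.card_zpowers, Nat.card_zpowers, hma])
  have ha : a ∈ (Subgroup.zpowers m).map (MulAut.conj g).toMonoidHom := by
    rw [← hg]; exact Subgroup.mem_zpowers a
  obtain ⟨x, hx, rfl⟩ := ha
  obtain ⟨k, rfl⟩ := hx
  simp only [MulEquiv.coe_toMonoidHom, MulAut.conj_apply]
  exact hM.conj_mem _ (M.zpow_mem hm k) g

theorem result {G : Type*} [Group G] [Finite G] (hB : ∀ A B : Subgroup G, IsMulCommutative ↥A → IsMulCommutative ↥B → Nat.card ↥A = Nat.card ↥B → ∃ g : G, B = A.map (MulAut.conj g).toMonoidHom) (M : Subgroup G) [M.Normal] :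
    (∀ a : G, (∃ m ∈ M, orderOf m = orderOf a) → a ∈ M) ∧
    ∀ (p t : ℕ) [Fact p.Prime], 2 ≤ t → Nat.card ↥M = p ^ t → Cfsg.IsElementaryAbelian p M → ∀ P : Sylow p G, (P : Subgroup G) = M := by
  refine ⟨fun a h => part1 hB M a h, ?_⟩
  intro p t hp ht hcard hel P
  have hp' := hp.out
  have hMp : IsPGroup p ↥M := IsPGroup.of_card hcard
  -- M ≤ P
  have hMP : M ≤ (P : Subgroup G) := by
    obtain ⟨Q, hQ⟩ := hMp.exists_le_sylow
    obtain ⟨g, hg⟩ := MulAction.exists_smul_eq G Q P
    have h1 : MulAut.conj g • M ≤ MulAut.conj g • (Q : Subgroup G) :=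
      Subgroup.pointwise_smul_le_pointwise_smul_iff.mpr hQ
    rw [Subgroup.Normal.conj_smul_eq_self] at h1
    rw [← hg, Sylow.coe_subgroup_smul]
    exact h1
  apply le_antisymm _ hMP
  -- an element of order p in M
  have hpdvd : p ∣ Nat.card ↥M := by
    rw [hcard]; exact dvd_pow_self p (by omega)
  obtain ⟨z, hz⟩ := exists_prime_orderOf_dvd_card' p hpdvd
  have hz' : orderOf (z : G) = p := by rw [Subgroup.orderOf_coe]; exact hz
  -- a subgroup of order p^2 in M
  have hp2dvd : p ^ 2 ∣ Nat.card ↥M := by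
    rw [hcard]; exact pow_dvd_pow p ht
  obtain ⟨K', hK'⟩ := Sylow.exists_subgroup_card_pow_prime p hp2dvd
  set K : Subgroup G := K'.map M.subtype with hKdef
  have hKcard : Nat.card ↥K = p ^ 2 := by
    rw [hKdef, Subgroup.card_map_of_injective M.subtype_injective, hK']
  have hKM : K ≤ M := by
    rw [hKdef]; exact Subgroup.map_subtype_le K'
  have hMcomm : IsMulCommutative ↥M := hel.1
  have hKcomm : IsMulCommutative ↥K := by
    rw [hKdef]; infer_instance
  -- every element of P has order dividing p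
  have hexp : ∀ x ∈ (P : Subgroup G), x ^ p = 1 := by
    intro x hx
    obtain ⟨k, hk⟩ := (IsPGroup.iff_orderOf.mp P.isPGroup') ⟨x, hx⟩
    rw [Subgroup.orderOf_mk] at hk
    by_contra hxp
    have hk2 : 2 ≤ k := by
      by_contra hk2
      push Not at hk2
      apply hxp
      have : orderOf x ∣ p := by
        rw [hk]
        calc p ^ k ∣ p ^ 1 := pow_dvd_pow p (by omega)
          _ = p := pow_one p
      exact orderOf_dvd_iff_pow_eq_one.mp this
    -- y = x^(p^(k-2)) has order p^2
    set y := x ^ (p ^ (k - 2)) with hy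
    have hyord : orderOf y = p ^ 2 := by
      rw [hy, orderOf_pow' x (pow_ne_zero _ hp'.ne_zero), hk]
      rw [Nat.gcd_eq_right (pow_dvd_pow p (by omega))]
      rw [Nat.pow_div (by omega) hp'.pos]
      congr 1; omega
    obtain ⟨g, hg⟩ := hB (Subgroup.zpowers y) K inferInstance hKcomm
      (by rw [Nat.card_zpowers, hyord, hKcard])
    have hmem : g * y * g⁻¹ ∈ K := by
      rw [hg]
      exact ⟨y, Subgroup.mem_zpowers y, by simp⟩
    have h1 : (g * y * g⁻¹) ^ p = 1 := hel.2 _ (hKM hmem)
    rw [conj_pow] at h1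
    have h2 : y ^ p = 1 := by
      have := congrArg (fun w => g⁻¹ * w * g) h1
      simpa [mul_assoc] using this
    have h3 : orderOf y ∣ p := orderOf_dvd_of_pow_eq_one h2
    rw [hyord] at h3
    have : p ^ 2 ≤ p := Nat.le_of_dvd hp'.pos h3
    have hp2 := hp'.two_le
    nlinarith
  intro x hx
  by_cases hx1 : x = 1
  · rw [hx1]; exact M.one_mem
  · apply part1 hB M x
    refine ⟨z, z.2, ?_⟩
    rw [hz']
    symm
    have := orderOf_dvd_of_pow_eq_one (hexp x hx)
    rcases (Nat.dvd_prime hp').mp this with h | h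
    · exact absurd (orderOf_eq_one_iff.mp h) hx1
    · exact h

end Cfsg.Agent.S3909
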