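import Cfsg.Statements.S3910
import Cfsg.Agent.S3909
import Cfsg.Agent.Helper65.Nilpotent

set_option autoImplicit false
open Cfsg

namespace Cfsg.Agent.S3910

theorem result {G : Type*} [Group G] [Finite G] (hB : ∀ A B : Subgroup G, IsMulCommutative ↥A → IsMulCommutative ↥B → Nat.card ↥A = Nat.card ↥B → ∃ g : G, B = A.map (MulAut.conj g).toMonoidHom) (hnil : Group.IsNilpotent G) : IsCyclic G := by
  -- an element of maximal order
  obtain ⟨a, ha⟩ : ∃ a : G, ∀ x : G, orderOf x ≤ orderOf a := by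
    obtain ⟨a, -, ha⟩ := Set.exists_max_image (Set.univ : Set G) orderOf Set.finite_univ ⟨1, trivial⟩
    exact ⟨a, fun x => ha x trivial⟩
  have hdvd : ∀ x : G, orderOf x ∣ orderOf a :=
    fun x => Cfsg.Agent.Helper65.orderOf_dvd_of_max a ha x
  rw [isCyclic_iff_exists_zpowers_eq_top]
  refine ⟨a, ?_⟩
  by_contra hne
  obtain ⟨M, hM, haM⟩ := (eq_top_or_exists_le_coatom (Subgroup.zpowers a)).resolve_left hne
  have hMn : M.Normal :=
    (Group.isNilpotent_of_finite_tfae.out 0 2 rfl rfl |>.mp hnil) M hM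
  apply hM.1
  rw [eq_top_iff]
  intro x _
  apply Cfsg.Agent.S3909.part1 hB M x
  obtain ⟨k, hk⟩ := hdvd x
  refine ⟨a ^ k, M.pow_mem (haM (Subgroup.mem_zpowers a)) k, ?_⟩
  have hxpos : 0 < orderOf x := orderOf_pos x
  have hkpos : 0 < k := by
    rcases Nat.eq_zero_or_pos k with h | h
    · rw [h, mul_zero] at hk
      exact absurd hk (orderOf_pos a).ne'
    · exact h
  rw [orderOf_pow, hk, Nat.gcd_eq_right (Dvd.intro_left _ rfl), Nat.mul_div_cancel _ hkpos]

end Cfsg.Agent.S3910
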