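import Cfsg.Statements.S3917

set_option autoImplicit false
open Cfsg

namespace Cfsg.Agent.S3917

/-- the subgroup of elements killed by `n` -/
noncomputable def K (G : Type*) [CommGroup G] (n : ℕ) : Subgroup G := (powMonoidHom n : G →* G).ker

theorem mem_K {G : Type*} [CommGroup G] (n : ℕ) (g : G) : g ∈ K G n ↔ g ^ n = 1 := by
  simp [K, MonoidHom.mem_ker]

theorem card_K_le_of_isCyclic {G : Type*} [CommGroup G] [Finite G] (n : ℕ) (hn : 0 < n)
    (h : IsCyclic ↥(K G n)) : Nat.card ↥(K G n) ≤ n := by
  rw [← IsCyclic.exponent_eq_card]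
  apply Nat.le_of_dvd hn
  apply Monoid.exponent_dvd_of_forall_pow_eq_one
  rintro ⟨g, hg⟩
  ext
  simpa using (mem_K n g).mp hg

theorem exists_bad {G : Type*} [CommGroup G] [Finite G] (hc : ¬ IsCyclic G) :
    ∃ n : ℕ, 0 < n ∧ n < Nat.card ↥(K G n) := by
  classical
  by_contra hcon
  push Not at hcon
  apply hc
  haveI := Fintype.ofFinite G
  apply isCyclic_of_card_pow_eq_one_le
  intro n hn
  have h1 := hcon n hn
  have h2 : Nat.card ↥(K G n) = (Finset.univ.filter (fun a : G => a ^ n = 1)).card := by
    rw [Nat.card_eq_fintype_card, Fintype.card_subtype]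
    congr 1
  rw [← h2]; exact h1

theorem result {G : Type*} [CommGroup G] [Finite G] (hX : (∀ H : Subgroup G, ¬ IsCyclic ↥H → Subgroup.centralizer (H : Set G) ≤ H)) :
    IsCyclic G ∨ ∃ p : ℕ, p.Prime ∧ Nat.card G = p ^ 2 ∧ Monoid.exponent G = p := by
  classical
  have hX' : ∀ H : Subgroup G, ¬ IsCyclic ↥H → H = ⊤ := by
    intro H hH
    rw [eq_top_iff]
    intro g _
    apply hX H hH
    rw [Subgroup.mem_centralizer_iff]
    intro h _
    exact mul_comm h g
  by_cases hc : IsCyclic G
  · left; exact hc
  right
  have hex := exists_bad hc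
  -- least bad n
  set n := Nat.find hex with hn
  obtain ⟨hnpos, hnlt⟩ : 0 < n ∧ n < Nat.card ↥(K G n) := Nat.find_spec hex
  have hmin : ∀ m : ℕ, m < n → 0 < m → Nat.card ↥(K G m) ≤ m := by
    intro m hm hmpos
    have := Nat.find_min hex hm
    push Not at this
    exact this hmpos
  -- K n = ⊤
  have hKtop : K G n = ⊤ := by
    apply hX'
    intro hcyc
    have := card_K_le_of_isCyclic n hnpos hcyc
    omega
  have hpow : ∀ g : G, g ^ n = 1 := by
    intro g
    rw [← mem_K, hKtop]; trivial
  have hcardG : n < Nat.card G := by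
    have : Nat.card ↥(K G n) = Nat.card G := by
      rw [hKtop]; exact Subgroup.card_top
    omega
  -- n ≠ 1
  have hn1 : n ≠ 1 := by
    intro h1
    have h2 : Nat.card ↥(K G n) = 1 := by
      rw [Subgroup.card_eq_one]
      ext g
      rw [mem_K, h1, pow_one, Subgroup.mem_bot]
    omega
  -- n is prime
  have hprime : n.Prime := by
    by_contra hnp
    set p := n.minFac with hp
    have hpp : p.Prime := Nat.minFac_prime hn1
    have hpdvd : p ∣ n := Nat.minFac_dvd n
    obtain ⟨m, hm⟩ := hpdvd
    have hmpos : 0 < m := by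
      rcases Nat.eq_zero_or_pos m with h | h
      · rw [h, mul_zero] at hm; omega
      · exact h
    have hm1 : m ≠ 1 := by
      intro h1
      rw [h1, mul_one] at hm
      exact hnp (hm ▸ hpp)
    have hmn : m < n := by
      rw [hm]
      have := hpp.two_le
      nlinarith
    have hpn : p < n := by
      rw [hm]
      have : 2 ≤ m := by omega
      have := hpp.pos
      nlinarith
    have h1 := hmin m hmn hmpos
    have h2 := hmin p hpn hpp.pos
    -- the hom g ↦ g^m
    let f : G →* G := powMonoidHom m
    have hker : f.ker = K G m := rfl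
    have hrange : f.range ≤ K G p := by
      rintro _ ⟨g, rfl⟩
      rw [mem_K]
      change (g ^ m) ^ p = 1
      rw [← pow_mul, mul_comm, ← hm]
      exact hpow g
    have h3 : Nat.card ↥(f.ker) * Nat.card ↥(f.range) = Nat.card G := by
      rw [← Subgroup.index_ker]; exact Subgroup.card_mul_index _
    have h4 : Nat.card ↥(f.range) ≤ p := le_trans (Subgroup.card_le_of_le hrange) h2
    rw [hker] at h3
    have : Nat.card G ≤ m * p := by
      rw [← h3]; exact Nat.mul_le_mul h1 h4
    rw [hm] at hcardG
    nlinarith
  refine ⟨n, hprime, ?_, ?_⟩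
  swap
  · -- exponent
    have hdvd : Monoid.exponent G ∣ n := Monoid.exponent_dvd_of_forall_pow_eq_one hpow
    rcases (Nat.dvd_prime hprime).mp hdvd with h | h
    · exfalso
      have : Nat.card G = 1 := by
        have : Subsingleton G := Monoid.exp_eq_one_iff.mp h
        exact Nat.card_unique
      have := hprime.two_le
      omega
    · exact h
  · -- cardinality
    have hGnontriv : ∃ x : G, x ≠ 1 := by
      by_contra hcon
      push Not at hcon
      apply hc
      have : Subsingleton G := ⟨fun a b => by rw [hcon a, hcon b]⟩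
      infer_instance
    obtain ⟨x, hx⟩ := hGnontriv
    have hxord : orderOf x = n := by
      rcases (Nat.dvd_prime hprime).mp (orderOf_dvd_of_pow_eq_one (hpow x)) with h | h
      · exact absurd (orderOf_eq_one_iff.mp h) hx
      · exact h
    have hzx : Nat.card ↥(Subgroup.zpowers x) = n := by rw [Nat.card_zpowers, hxord]
    have hne : Subgroup.zpowers x ≠ ⊤ := by
      intro h
      rw [h, Subgroup.card_top] at hzx
      omega
    obtain ⟨y, hy⟩ : ∃ y : G, y ∉ Subgroup.zpowers x := by
      by_contra hcon
      push Not at hcon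
      exact hne (by ext g; simp [hcon g])
    have hy1 : y ≠ 1 := by
      rintro rfl
      exact hy (Subgroup.one_mem _)
    have hyord : orderOf y = n := by
      rcases (Nat.dvd_prime hprime).mp (orderOf_dvd_of_pow_eq_one (hpow y)) with h | h
      · exact absurd (orderOf_eq_one_iff.mp h) hy1
      · exact h
    have hzy : Nat.card ↥(Subgroup.zpowers y) = n := by rw [Nat.card_zpowers, hyord]
    set H := Subgroup.zpowers x ⊔ Subgroup.zpowers y with hH
    have hHtop : H = ⊤ := by
      apply hX'
      intro hcyc
      have h1 : Nat.card ↥H ≤ n := by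
        rw [← IsCyclic.exponent_eq_card]
        apply Nat.le_of_dvd hprime.pos
        apply Monoid.exponent_dvd_of_forall_pow_eq_one
        rintro ⟨g, hg⟩
        ext
        simpa using hpow g
      have h2 : Subgroup.zpowers x = H := by
        apply Subgroup.eq_of_le_of_card_ge le_sup_left
        rw [hzx]; exact h1
      apply hy
      rw [h2]
      exact (le_sup_right : Subgroup.zpowers y ≤ H) (Subgroup.mem_zpowers y)
    -- |G| ≤ n^2
    have hle : Nat.card G ≤ n ^ 2 := by
      let f : ↥(Subgroup.zpowers x) × ↥(Subgroup.zpowers y) → G := fun ab => (ab.1 : G) * (ab.2 : G)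
      have hf : Function.Surjective f := by
        intro g
        have hg : g ∈ H := by rw [hHtop]; trivial
        rw [hH, Subgroup.mem_sup] at hg
        obtain ⟨a, ha, b, hb, hab⟩ := hg
        exact ⟨(⟨a, ha⟩, ⟨b, hb⟩), hab⟩
      have := Nat.card_le_card_of_surjective f hf
      rw [Nat.card_prod, hzx, hzy] at this
      rw [sq]; exact this
    -- |G| is a power of n
    have hpg : IsPGroup n G := by
      intro g
      exact ⟨1, by rw [pow_one]; exact hpow g⟩
    have : Fact n.Prime := ⟨hprime⟩
    obtain ⟨k, hk⟩ := IsPGroup.iff_card.mp hpg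
    have hk2 : 2 ≤ k := by
      by_contra hk2
      push Not at hk2
      have : n ^ k ≤ n ^ 1 := Nat.pow_le_pow_right hprime.pos (by omega)
      rw [pow_one, ← hk] at this
      omega
    have hge : n ^ 2 ≤ Nat.card G := by
      rw [hk]; exact Nat.pow_le_pow_right hprime.pos hk2
    omega

end Cfsg.Agent.S3917
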