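-- Statement S3918: odd p, non-abelian p-group: non-cyclic subgroups self-centralizing iff order p^3.
import Cfsg.Statements.S3918
import Cfsg.Agent.S0126
import Cfsg.Agent.Helper63.PGroup

set_option autoImplicit false
open Cfsg

namespace Cfsg.Agent.S3918

/-- If `H ≤ K`, `x ∈ K`, `x ∉ H`, then `card H < card K`. -/
theorem card_lt_of_mem {G : Type*} [Group G] [Finite G] {H K : Subgroup G} (hHK : H ≤ K)
    {x : G} (hxK : x ∈ K) (hxH : x ∉ H) : Nat.card H < Nat.card K := by
  by_contra hlt
  push Not at hlt
  have := Subgroup.eq_of_le_of_card_ge hHK hlt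
  exact hxH (this ▸ hxK)

/-- In a group of order `p^3`, a subgroup properly containing a subgroup of order `p^2` is everything. -/
theorem eq_top_of_sq {G : Type*} [Group G] [Finite G] {p : ℕ} [Fact p.Prime] (hG : IsPGroup p G)
    (hcard : Nat.card G = p ^ 3) {H K : Subgroup G} (hH : Nat.card H = p ^ 2) (hHK : H ≤ K)
    {x : G} (hxK : x ∈ K) (hxH : x ∉ H) : K = ⊤ := by
  have hp' : p.Prime := Fact.out
  obtain ⟨j, hj⟩ := IsPGroup.iff_card.mp (hG.to_subgroup K)
  have hlt := card_lt_of_mem hHK hxK hxH
  rw [hH, hj] at hlt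
  have h2 : 2 < j := (Nat.pow_lt_pow_iff_right hp'.one_lt).mp hlt
  have h3 : j ≤ 3 := by
    have := Subgroup.card_subgroup_dvd_card K
    rw [hj, hcard] at this
    exact (Nat.pow_dvd_pow_iff_le_right hp'.one_lt).mp this
  have hj3 : j = 3 := by omega
  subst hj3
  exact Subgroup.eq_top_of_card_eq K (hj.trans hcard.symm)

theorem backward {G : Type*} [Group G] [Finite G] {p : ℕ} [Fact p.Prime]
    (hG : IsPGroup p G) (hna : ¬ IsMulCommutative G) (hcard : Nat.card G = p ^ 3)
    (H : Subgroup G) (hH : ¬ IsCyclic ↥H) : Subgroup.centralizer (H : Set G) ≤ H := by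
  intro x hx
  by_contra hxH
  have hp' : p.Prime := Fact.out
  obtain ⟨k, hk⟩ := IsPGroup.iff_card.mp (hG.to_subgroup H)
  have hk3 : k ≤ 3 := by
    have := Subgroup.card_subgroup_dvd_card H
    rw [hk, hcard] at this
    exact (Nat.pow_dvd_pow_iff_le_right hp'.one_lt).mp this
  interval_cases k
  · apply hH
    have : H = ⊥ := Subgroup.card_eq_one.mp (by simpa using hk)
    subst this
    infer_instance
  · apply hH
    exact isCyclic_of_prime_card (p := p) (by simpa using hk)
  · have hHc : IsMulCommutative H := IsPGroup.isMulCommutative_of_card_eq_prime_sq hk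
    have hHC : H ≤ Subgroup.centralizer (H : Set G) :=
      Subgroup.le_centralizer_iff_isMulCommutative.mpr hHc
    have hCtop : Subgroup.centralizer (H : Set G) = ⊤ := eq_top_of_sq hG hcard hk hHC hx hxH
    have hHZ : (H : Set G) ⊆ Subgroup.center G := Subgroup.centralizer_eq_top_iff_subset.mp hCtop
    apply hna
    have hall : ∀ g : G, g ∈ Subgroup.center G := by
      intro g
      by_cases hgH : g ∈ H
      · exact hHZ hgH
      · have hle : H ≤ Subgroup.centralizer {g} := by
          intro h hh
          rw [Subgroup.mem_centralizer_iff]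
          intro y hy
          rw [Set.mem_singleton_iff] at hy
          subst hy
          exact (Subgroup.mem_center_iff.mp (hHZ hh) y)
        have hgC : g ∈ Subgroup.centralizer {g} := by
          rw [Subgroup.mem_centralizer_iff]
          intro y hy
          rw [Set.mem_singleton_iff] at hy
          subst hy
          rfl
        have htop : Subgroup.centralizer {g} = ⊤ := eq_top_of_sq hG hcard hk hle hgC hgH
        rw [Subgroup.mem_center_iff]
        intro y
        have hy : y ∈ Subgroup.centralizer {g} := htop ▸ Subgroup.mem_top y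
        exact (Subgroup.mem_centralizer_iff.mp hy g rfl).symm
    exact ⟨⟨fun a b => (Subgroup.mem_center_iff.mp (hall b) a)⟩⟩
  · exact hxH ((Subgroup.eq_top_of_card_eq H (hk.trans hcard.symm)) ▸ Subgroup.mem_top x)

theorem forward {G : Type*} [Group G] [Finite G] {p : ℕ} [Fact p.Prime] (hp : p ≠ 2)
    (hG : IsPGroup p G) (hna : ¬ IsMulCommutative G)
    (h : ∀ H : Subgroup G, ¬ IsCyclic ↥H → Subgroup.centralizer (H : Set G) ≤ H) :
    Nat.card G = p ^ 3 := by
  have hp' : p.Prime := Fact.out
  have hnc : ¬ IsCyclic G := fun hc => hna IsCyclic.isMulCommutative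
  obtain ⟨A, hAn, ⟨hAcomm, hAexp⟩, hAcard⟩ := Cfsg.Agent.S0126.result hp hG hnc
  have hAnc : ¬ IsCyclic A := by
    intro hc
    have h1 : Monoid.exponent A = Nat.card A := IsCyclic.exponent_eq_card
    have h2 : Monoid.exponent A ∣ p :=
      Monoid.exponent_dvd_of_forall_pow_eq_one (fun a => Subtype.ext (by simpa using hAexp a a.2))
    rw [h1, hAcard] at h2
    have := Nat.le_of_dvd hp'.pos h2
    nlinarith [hp'.one_lt]
  have hCA : Subgroup.centralizer (A : Set G) ≤ A := h A hAnc
  have hAbot : A ≠ ⊥ := by
    rintro rfl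
    rw [Subgroup.card_bot] at hAcard
    have := hp'.one_lt
    nlinarith
  have hz := Cfsg.Agent.Helper63.normal_inf_center_ne_bot hG A hAbot
  have hBcard : p ≤ Nat.card ↥(A ⊓ Subgroup.center G) := by
    obtain ⟨j, hj⟩ := IsPGroup.iff_card.mp (hG.to_subgroup (A ⊓ Subgroup.center G))
    rcases Nat.eq_zero_or_pos j with rfl | hjpos
    · exact absurd (Subgroup.card_eq_one.mp (by simpa using hj)) hz
    · rw [hj]
      exact Nat.le_self_pow hjpos.ne' p
  have ha : ∃ a ∈ A, a ∉ Subgroup.center G := by
    by_contra hcon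
    push Not at hcon
    have htop : Subgroup.centralizer (A : Set G) = ⊤ :=
      Subgroup.centralizer_eq_top_iff_subset.mpr (fun a ha => hcon a ha)
    have hAtop : A = ⊤ := top_le_iff.mp (htop ▸ hCA)
    apply hna
    exact ⟨⟨fun x y => by
      have hx : x ∈ A := hAtop ▸ Subgroup.mem_top x
      have hy : y ∈ A := hAtop ▸ Subgroup.mem_top y
      exact setLike_mul_comm hx hy⟩⟩
  obtain ⟨a, haA, haZ⟩ := ha
  have hCa : Subgroup.centralizer {a} ≤ Subgroup.centralizer (A : Set G) := by
    intro x hx
    have hD : A ⊓ Subgroup.centralizer {x} = A := by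
      apply Subgroup.eq_of_le_of_card_ge inf_le_left
      have hBD : A ⊓ Subgroup.center G ≤ A ⊓ Subgroup.centralizer {x} :=
        inf_le_inf_left A (Subgroup.center_le_centralizer _)
      have haD : a ∈ A ⊓ Subgroup.centralizer {x} := by
        refine Subgroup.mem_inf.mpr ⟨haA, ?_⟩
        rw [Subgroup.mem_centralizer_iff]
        intro y hy
        rw [Set.mem_singleton_iff] at hy
        subst hy
        exact (Subgroup.mem_centralizer_iff.mp hx a rfl).symm
      have haB : a ∉ A ⊓ Subgroup.center G := fun hh => haZ (Subgroup.mem_inf.mp hh).2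
      have hlt := card_lt_of_mem hBD haD haB
      obtain ⟨j, hj⟩ := IsPGroup.iff_card.mp (hG.to_subgroup (A ⊓ Subgroup.centralizer {x}))
      rw [hj] at hlt ⊢
      rw [hAcard]
      have h1 : p ^ 1 < p ^ j := by simpa using lt_of_le_of_lt hBcard hlt
      have h2 : 1 < j := (Nat.pow_lt_pow_iff_right hp'.one_lt).mp h1
      exact Nat.pow_le_pow_right hp'.pos h2
    rw [Subgroup.mem_centralizer_iff]
    intro y hy
    have hy' : y ∈ A ⊓ Subgroup.centralizer {x} := hD.symm ▸ hy
    exact (Subgroup.mem_centralizer_iff.mp (Subgroup.mem_inf.mp hy').2 x rfl).symm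
  -- class size
  have hfin : Finite (ConjAct G) := ‹Finite G›
  have hidx : (MulAction.stabilizer (ConjAct G) a).index ∣ p := by
    obtain ⟨n, hn⟩ := (show IsPGroup p (ConjAct G) from hG).index (MulAction.stabilizer (ConjAct G) a)
    have h1 : (MulAction.stabilizer (ConjAct G) a).index = (MulAction.orbit (ConjAct G) a).ncard :=
      MulAction.index_stabilizer (ConjAct G) a
    have hsub : MulAction.orbit (ConjAct G) a ⊂ (A : Set G) := by
      refine ⟨?_, ?_⟩
      · rintro y ⟨g, rfl⟩
        show g • a ∈ A
        rw [ConjAct.smul_def]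
        exact hAn.conj_mem a haA _
      · intro hcon
        have h1mem : (1 : G) ∈ MulAction.orbit (ConjAct G) a := hcon A.one_mem
        obtain ⟨g, hg⟩ := h1mem
        replace hg : g • a = 1 := hg
        rw [ConjAct.smul_def] at hg
        have : a = 1 := by
          have := congrArg (fun t => (ConjAct.ofConjAct g)⁻¹ * t * (ConjAct.ofConjAct g)) hg
          simpa [mul_assoc] using this
        exact haZ (this ▸ Subgroup.one_mem _)
    have h2 : (MulAction.orbit (ConjAct G) a).ncard < p ^ 2 := by
      have := Set.ncard_lt_ncard hsub (Set.toFinite _)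
      rwa [← Nat.card_coe_set_eq (A : Set G), show Nat.card ↥(A : Set G) = Nat.card A from rfl, hAcard] at this
    rw [← h1, hn] at h2
    have : n < 2 := (Nat.pow_lt_pow_iff_right hp'.one_lt).mp h2
    rw [hn]
    interval_cases n
    · simp
    · simp
  have hcardG : Nat.card G ∣ p ^ 3 := by
    have h1 := Subgroup.index_mul_card (MulAction.stabilizer (ConjAct G) a)
    rw [← Subgroup.nat_card_centralizer_nat_card_stabilizer] at h1
    have h2 : Nat.card ↥(Subgroup.centralizer {a}) ∣ p ^ 2 := by
      rw [← hAcard]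
      exact Subgroup.card_dvd_of_le (hCa.trans hCA)
    have h3 : Nat.card (ConjAct G) = Nat.card G := rfl
    rw [← h3, ← h1, pow_succ' p 2]
    exact Nat.mul_dvd_mul hidx h2
  obtain ⟨n, hn⟩ := IsPGroup.iff_card.mp hG
  rw [hn] at hcardG
  have hn3 : n ≤ 3 := (Nat.pow_dvd_pow_iff_le_right hp'.one_lt).mp hcardG
  rw [hn]
  interval_cases n
  · exfalso
    apply hna
    have : Subsingleton G := (Nat.card_eq_one_iff_unique.mp (by simpa using hn)).1
    exact ⟨⟨fun x y => Subsingleton.elim _ _⟩⟩
  · exfalso
    exact hnc (isCyclic_of_prime_card (p := p) (by simpa using hn))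
  · exfalso
    exact hna (IsPGroup.isMulCommutative_of_card_eq_prime_sq hn)
  · rfl

/-- Say that a group has self-centralizing non-cyclic subgroups when every non-cyclic subgroup H satisfies C_G(H) ≤ H. For an odd prime p, a finite non-abelian p-group has self-centralizing non-cyclic subgroups if and only if it has order p³. -/
theorem result {G : Type*} [Group G] [Finite G] {p : ℕ} [Fact p.Prime] (hp : p ≠ 2) (hG : IsPGroup p G) (hna : ¬ IsMulCommutative G) :
    (∀ H : Subgroup G, ¬ IsCyclic ↥H → Subgroup.centralizer (H : Set G) ≤ H) ↔ Nat.card G = p ^ 3 := by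
  exact ⟨forward hp hG hna, fun hcard H hH => backward hG hna hcard H hH⟩

end Cfsg.Agent.S3918
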