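-- Statement S3919: non-abelian 2-groups with self-centralizing non-cyclic subgroups = maximal class.
import Cfsg.Statements.S3919
import Cfsg.Agent.S0112
import Cfsg.Agent.Helper73.PGroupCyclic
import Cfsg.Agent.Helper65.MaxClass2

set_option autoImplicit false
open Cfsg

namespace Cfsg.Agent.S3919

open Cfsg.Agent.Helper65

/-- A non-abelian group of order `2^n` has `n ≥ 3`. -/
theorem three_le {G : Type*} [Group G] [Finite G] (hna : ¬ IsMulCommutative G) (n : ℕ)
    (hG : Nat.card G = 2 ^ n) : 3 ≤ n := by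
  have h2 : Fact (Nat.Prime 2) := ⟨Nat.prime_two⟩
  by_contra hcon
  push Not at hcon
  apply hna
  interval_cases n
  · have : Subsingleton G := (Nat.card_eq_one_iff_unique.mp (by simpa using hG)).1
    exact ⟨⟨fun x y => Subsingleton.elim _ _⟩⟩
  · have hc : IsCyclic G := isCyclic_of_prime_card (p := 2) (by simpa using hG)
    exact IsCyclic.isMulCommutative
  · exact IsPGroup.isMulCommutative_of_card_eq_prime_sq (p := 2) hG

/-- In the generalized quaternion situation, `⟨x⟩` has order four and is self-centralizing. -/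
theorem quaternion_case {G : Type*} [Group G] [Finite G] (hu : Cfsg.Agent.Helper73.UniqueOrderP 2 G)
    (m : ℕ) (a x : G) (hm : 2 ≤ m) (ha : orderOf a = 2 ^ m) (hx : x ∉ Subgroup.zpowers a)
    (hconj : x * a * x⁻¹ = a⁻¹) (hx2 : x ^ 2 = a ^ (2 ^ (m - 1)))
    (hidx : (Subgroup.zpowers a).index = 2) :
    Nat.card ↥(Subgroup.zpowers x) = 2 ^ 2 ∧
      Subgroup.centralizer ((Subgroup.zpowers x : Subgroup G) : Set G) = Subgroup.zpowers x := by
  -- x^2 has order 2
  have hz : orderOf (x ^ 2) = 2 := by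
    rw [hx2, orderOf_pow' a (pow_ne_zero _ (by norm_num)), ha]
    have h1 : Nat.gcd (2 ^ m) (2 ^ (m - 1)) = 2 ^ (m - 1) :=
      Nat.gcd_eq_right (pow_dvd_pow 2 (by omega))
    rw [h1]
    have h3 : 2 ^ m = 2 ^ (m - 1) * 2 := by rw [← pow_succ, Nat.sub_add_cancel (by omega)]
    rw [h3, Nat.mul_div_cancel_left _ (pow_pos (by norm_num) _)]
  have hxo : orderOf x = 2 ^ 2 := by
    have h4 : x ^ 4 = 1 := by
      have h41 : x ^ 4 = (x ^ 2) ^ 2 := by rw [← pow_mul]
      have h42 : (x ^ 2) ^ 2 = 1 := by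
        have := pow_orderOf_eq_one (x ^ 2)
        rwa [hz] at this
      rw [h41, h42]
    have hdvd : orderOf x ∣ 2 ^ 2 := orderOf_dvd_of_pow_eq_one (by simpa using h4)
    obtain ⟨k, hk, hko⟩ := (Nat.dvd_prime_pow Nat.prime_two).mp hdvd
    have hk2 : k = 2 := by
      by_contra hne
      have hk1 : k ≤ 1 := by omega
      have h5 : x ^ 2 = 1 := by
        apply orderOf_dvd_iff_pow_eq_one.mp
        rw [hko]
        calc 2 ^ k ∣ 2 ^ 1 := pow_dvd_pow 2 hk1
          _ = 2 := pow_one 2
      rw [h5, orderOf_one] at hz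
      omega
    rw [hko, hk2]
  refine ⟨by rw [Nat.card_zpowers, hxo], ?_⟩
  -- elements of zpowers a commuting with x are in zpowers x
  have hcase1 : ∀ g ∈ Subgroup.zpowers a, g * x = x * g → g ∈ Subgroup.zpowers x := by
    intro g hg hgx
    obtain ⟨i, rfl⟩ := Subgroup.mem_zpowers_iff.mp hg
    have h1 : x * a ^ i * x⁻¹ = (a ^ i)⁻¹ := by
      rw [← conj_zpow, hconj, inv_zpow]
    have h3 : x * a ^ i * x⁻¹ = a ^ i := by
      rw [← hgx]; group
    have h4 : (a ^ i) ^ 2 = 1 := by
      have : (a ^ i)⁻¹ = a ^ i := h1.symm.trans h3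
      rw [pow_two]
      nth_rewrite 1 [← this]
      exact inv_mul_cancel _
    by_cases h5 : a ^ i = 1
    · rw [h5]; exact Subgroup.one_mem _
    · have h6 : orderOf (a ^ i) = 2 := orderOf_eq_prime (p := 2) (hp := ⟨Nat.prime_two⟩) h4 h5
      have h7 := hu (x ^ 2) (a ^ i) hz h6
      exact (Subgroup.zpowers_le.mpr (Subgroup.pow_mem _ (Subgroup.mem_zpowers x) 2)) h7
  apply le_antisymm
  · intro g hg
    have hgx : g * x = x * g := by
      have := Subgroup.mem_centralizer_iff.mp hg x (Subgroup.mem_zpowers x)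
      exact this.symm
    by_cases hga : g ∈ Subgroup.zpowers a
    · exact hcase1 g hga hgx
    · have h1 : g * x⁻¹ ∈ Subgroup.zpowers a := by
        rw [Subgroup.mul_mem_iff_of_index_two hidx]
        constructor
        · intro h; exact absurd h hga
        · intro h; exact absurd (by simpa using (Subgroup.zpowers a).inv_mem h) hx
      have h3 : g * x⁻¹ * x = x * (g * x⁻¹) := by
        calc g * x⁻¹ * x = g := by group
          _ = x * g * x⁻¹ := by rw [← hgx]; group
          _ = x * (g * x⁻¹) := by group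
      have h4 := hcase1 _ h1 h3
      have : g = g * x⁻¹ * x := by group
      rw [this]
      exact Subgroup.mul_mem _ h4 (Subgroup.mem_zpowers x)
  · exact Subgroup.le_centralizer_iff_isMulCommutative.mpr inferInstance

theorem forward {G : Type*} [Group G] [Finite G] (hna : ¬ IsMulCommutative G) (n : ℕ)
    (hG : Nat.card G = 2 ^ n)
    (h : ∀ H : Subgroup G, ¬ IsCyclic ↥H → Subgroup.centralizer (H : Set G) ≤ H) :
    (⊤ : Subgroup G).lowerCentralSeries (n - 2) ≠ ⊥ := by
  have h2 : Fact (Nat.Prime 2) := ⟨Nat.prime_two⟩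
  have hn3 := three_le hna n hG
  have hpG : IsPGroup 2 G := IsPGroup.of_card hG
  have hnil : Group.IsNilpotent G := hpG.isNilpotent
  -- a self-centralizing subgroup of order 4
  obtain ⟨A, hA, hCA⟩ : ∃ A : Subgroup G, Nat.card ↥A = 2 ^ 2 ∧
      Subgroup.centralizer (A : Set G) = A := by
    by_cases hex : ∃ V : Subgroup G, Nat.card ↥V = 4 ∧ ¬ IsCyclic ↥V
    · obtain ⟨V, hV, hVnc⟩ := hex
      have hV' : Nat.card ↥V = 2 ^ 2 := by rw [hV]; norm_num
      refine ⟨V, hV', le_antisymm (h V hVnc) ?_⟩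
      exact Subgroup.le_centralizer_iff_isMulCommutative.mpr
        (IsPGroup.isMulCommutative_of_card_eq_prime_sq (p := 2) hV')
    · push Not at hex
      have hu : Cfsg.Agent.Helper73.UniqueOrderP 2 G := by
        intro x y hx hy
        by_contra hxy
        obtain ⟨V, hV, hVnc⟩ := exists_four_not_isCyclic hpG x y hx hy hxy
        exact hVnc (hex V hV)
      rcases Cfsg.Agent.Helper73.cyclic_or_quaternion_structure hpG hu with hc |
        ⟨-, m, a, x, hm, ha, hx, hconj, hx2, hidx⟩
      · exact absurd IsCyclic.isMulCommutative hna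
      · exact ⟨Subgroup.zpowers x, quaternion_case hu m a x hm ha hx hconj hx2 hidx⟩
  have hcl := Cfsg.Agent.S0112.result (p := 2) n hG A hA hCA
  intro hbot
  rw [Subgroup.lowerCentralSeries_eq_bot_iff_nilpotencyClass_le] at hbot
  omega

theorem backward {G : Type*} [Group G] [Finite G] (hna : ¬ IsMulCommutative G) (n : ℕ)
    (hG : Nat.card G = 2 ^ n) (hl : (⊤ : Subgroup G).lowerCentralSeries (n - 2) ≠ ⊥)
    (H : Subgroup G) (hH : ¬ IsCyclic ↥H) : Subgroup.centralizer (H : Set G) ≤ H := by
  have h2 : Fact (Nat.Prime 2) := ⟨Nat.prime_two⟩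
  have hn3 := three_le hna n hG
  have hpG : IsPGroup 2 G := IsPGroup.of_card hG
  have hnil : Group.IsNilpotent G := hpG.isNilpotent
  have hcl : n - 1 ≤ Group.nilpotencyClass G := by
    rw [Ne, Subgroup.lowerCentralSeries_eq_bot_iff_nilpotencyClass_le] at hl
    omega
  have hZ : Nat.card (Subgroup.center G) = 2 := card_center_of_maxClass hG hna hcl
  obtain ⟨c, hc⟩ := exists_orderOf_of_maxClass n hn3 G hG hcl
  have hidx : (Subgroup.zpowers c).index = 2 := by
    have h5 := Subgroup.card_mul_index (Subgroup.zpowers c)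
    rw [Nat.card_zpowers, hc, hG] at h5
    have h6 : 2 ^ n = 2 ^ (n - 1) * 2 := by rw [← pow_succ, Nat.sub_add_cancel (by omega)]
    rw [h6] at h5
    exact Nat.eq_of_mul_eq_mul_left (pow_pos (by norm_num) _) h5
  exact centralizer_le_of_cyclic_index_two hG hna hZ c hidx H hH

/-- Say that a group has self-centralizing non-cyclic subgroups when every non-cyclic subgroup H satisfies C_G(H) ≤ H. A finite non-abelian 2-group G of order 2^n has self-centralizing non-cyclic subgroups if and only if G has nilpotency class n − 1 (that is, G is dihedral, semidihedral or generalized quaternion). -/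
theorem result {G : Type*} [Group G] [Finite G] (hna : ¬ IsMulCommutative G) (n : ℕ) (hG : Nat.card G = 2 ^ n) :
    (∀ H : Subgroup G, ¬ IsCyclic ↥H → Subgroup.centralizer (H : Set G) ≤ H) ↔ (⊤ : Subgroup G).lowerCentralSeries (n - 2) ≠ ⊥ := by
  exact ⟨forward hna n hG, fun hl H hH => backward hna n hG hl H hH⟩

end Cfsg.Agent.S3919
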