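import Cfsg.Statements.S3920

set_option autoImplicit false
open Cfsg
open DihedralGroup

namespace Cfsg.Agent.S3920

variable {n : ℕ}

theorem isCyclic_of_no_sr [NeZero n] (H : Subgroup (DihedralGroup n)) (h : ∀ i : ZMod n, sr i ∉ H) :
    IsCyclic ↥H := by
  have hle : H ≤ Subgroup.zpowers (r 1 : DihedralGroup n) := by
    intro g hg
    cases g with
    | r i =>
      rw [Subgroup.mem_zpowers_iff]
      refine ⟨(i.val : ℤ), ?_⟩
      rw [zpow_natCast, r_one_pow, ZMod.natCast_zmod_val]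
    | sr i => exact absurd hg (h i)
  exact Subgroup.isCyclic_of_le hle

theorem exists_sr [NeZero n] (H : Subgroup (DihedralGroup n)) (hH : ¬ IsCyclic ↥H) :
    ∃ i : ZMod n, sr i ∈ H := by
  by_contra h
  push Not at h
  exact hH (isCyclic_of_no_sr H h)

theorem exists_r_ne_zero [NeZero n] (H : Subgroup (DihedralGroup n)) (hH : ¬ IsCyclic ↥H) :
    ∃ d : ZMod n, d ≠ 0 ∧ r d ∈ H := by
  by_contra hcon
  push Not at hcon
  apply hH
  obtain ⟨i, hi⟩ := exists_sr H hH
  have hle : H ≤ Subgroup.zpowers (sr i : DihedralGroup n) := by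
    intro g hg
    cases g with
    | r d =>
      have hd : d = 0 := by
        by_contra hd
        exact hcon d hd hg
      subst hd
      rw [r_zero]; exact one_mem _
    | sr j =>
      have h1 : sr i * sr j ∈ H := H.mul_mem hi hg
      rw [sr_mul_sr] at h1
      have h2 : j - i = 0 := by
        by_contra hd
        exact hcon _ hd h1
      have h3 : j = i := sub_eq_zero.mp h2
      subst h3
      exact Subgroup.mem_zpowers _
  exact Subgroup.isCyclic_of_le hle

/-- in `ZMod n`, `n` odd: `j + j = 0 → j = 0` -/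
theorem eq_zero_of_add_self_odd [NeZero n] (hodd : Odd n) (j : ZMod n) (h : j + j = 0) : j = 0 := by
  have h1 : ((2 * j.val : ℕ) : ZMod n) = 0 := by
    push_cast
    rw [ZMod.natCast_zmod_val, two_mul]; exact h
  rw [ZMod.natCast_eq_zero_iff] at h1
  have hcop : Nat.Coprime n 2 := Nat.Coprime.symm (Nat.coprime_two_left.mpr hodd)
  have h2 : n ∣ j.val := hcop.dvd_of_dvd_mul_left h1
  have h3 : j.val = 0 := Nat.eq_zero_of_dvd_of_lt h2 (ZMod.val_lt j)
  exact (ZMod.val_eq_zero j).mp h3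

/-- in `ZMod (2^k)`: `j + j = 0 → j = 0 ∨ j = 2^(k-1)` -/
theorem eq_of_add_self_two_pow [NeZero n] (k : ℕ) (hk : 1 ≤ k) (hn : n = 2 ^ k) (j : ZMod n)
    (h : j + j = 0) : j = 0 ∨ j = ((2 ^ (k - 1) : ℕ) : ZMod n) := by
  have h1 : ((2 * j.val : ℕ) : ZMod n) = 0 := by
    push_cast
    rw [ZMod.natCast_zmod_val, two_mul]; exact h
  rw [ZMod.natCast_eq_zero_iff] at h1
  have hn' : n = 2 * 2 ^ (k - 1) := by
    rw [hn, ← pow_succ']; congr 1; omega
  have h2 : 2 ^ (k - 1) ∣ j.val := by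
    obtain ⟨c, hc⟩ := h1
    have e : n * c = 2 * (2 ^ (k - 1) * c) := by
      have h9 : n * c = 2 * 2 ^ (k - 1) * c := congrArg (fun x => x * c) hn'
      rw [h9]; ring
    rw [e] at hc
    exact ⟨c, Nat.eq_of_mul_eq_mul_left (by norm_num) hc⟩
  obtain ⟨q, hq⟩ := h2
  have hlt : j.val < n := ZMod.val_lt j
  have hpos : 0 < 2 ^ (k - 1) := by positivity
  have hq2 : q < 2 := by
    by_contra hq2
    push Not at hq2
    have : 2 ^ (k - 1) * 2 ≤ 2 ^ (k - 1) * q := Nat.mul_le_mul_left _ hq2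
    omega
  have hj : j = ((j.val : ℕ) : ZMod n) := (ZMod.natCast_zmod_val j).symm
  interval_cases q
  · left
    rw [mul_zero] at hq
    exact (ZMod.val_eq_zero j).mp hq
  · right
    rw [mul_one] at hq
    rw [hj, hq]

/-- if `r d ∈ H` with `d ≠ 0` in `ZMod (2^k)`, then `r (2^(k-1)) ∈ H` -/
theorem r_half_mem [NeZero n] (k : ℕ) (hn : n = 2 ^ k) (H : Subgroup (DihedralGroup n))
    (d : ZMod n) (hd : d ≠ 0) (hdH : r d ∈ H) : r ((2 ^ (k - 1) : ℕ) : ZMod n) ∈ H := by
  have hv : d.val ≠ 0 := fun h => hd ((ZMod.val_eq_zero d).mp h)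
  obtain ⟨a, u, hu, hau⟩ := Nat.exists_eq_two_pow_mul_odd hv
  have hlt : d.val < n := ZMod.val_lt d
  have hupos : 0 < u := hu.pos
  have hak : a < k := by
    by_contra hak
    push Not at hak
    have h1 : 2 ^ k ≤ 2 ^ a := Nat.pow_le_pow_right (by norm_num) hak
    have h2 : 2 ^ a * 1 ≤ 2 ^ a * u := Nat.mul_le_mul_left _ hupos
    omega
  have hmem : (r d) ^ (2 ^ (k - 1 - a)) ∈ H := H.pow_mem hdH _
  rw [r_pow] at hmem
  convert hmem using 2
  obtain ⟨v, hv2⟩ := hu
  have hd' : d = ((d.val : ℕ) : ZMod n) := (ZMod.natCast_zmod_val d).symm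
  rw [hd', hau]
  have : (2 ^ a * u) * 2 ^ (k - 1 - a) = 2 ^ (k - 1) + n * v := by
    rw [hv2, hn]
    have e1 : 2 ^ (k - 1) = 2 ^ a * 2 ^ (k - 1 - a) := by
      rw [← pow_add]; congr 1; omega
    have e2 : 2 ^ k = 2 * (2 ^ a * 2 ^ (k - 1 - a)) := by
      rw [← e1, ← pow_succ']; congr 1; omega
    rw [e1, e2]; ring
  have h3 : (((2 ^ a * u : ℕ) : ZMod n) * ((2 ^ (k - 1 - a) : ℕ) : ZMod n)) = ((2 ^ (k - 1) : ℕ) : ZMod n) := by
    rw [← Nat.cast_mul, this]
    push_cast
    simp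
  rw [← h3]

theorem backward (hn : 3 ≤ n) (h : Odd n ∨ ∃ k : ℕ, n = 2 ^ k) (H : Subgroup (DihedralGroup n))
    (hH : ¬ IsCyclic ↥H) : Subgroup.centralizer (H : Set (DihedralGroup n)) ≤ H := by
  have : NeZero n := ⟨by omega⟩
  obtain ⟨i, hi⟩ := exists_sr H hH
  obtain ⟨d, hd0, hd⟩ := exists_r_ne_zero H hH
  intro c hc
  rw [Subgroup.mem_centralizer_iff] at hc
  have hci := hc _ hi
  have hcd := hc _ hd
  cases c with
  | r j =>
    rw [sr_mul_r, r_mul_sr] at hci
    have hjj : j + j = 0 := by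
      have h1 : i + j = i - j := by simpa using hci
      have h2 : i + j - (i - j) = 0 := sub_eq_zero.mpr h1
      rw [← h2]; ring
    rcases h with hodd | ⟨k, hk⟩
    · rw [eq_zero_of_add_self_odd hodd j hjj, r_zero]; exact one_mem _
    · have hk1 : 1 ≤ k := by
        by_contra hk1
        push Not at hk1
        have : k = 0 := by omega
        rw [this] at hk; omega
      rcases eq_of_add_self_two_pow k hk1 hk j hjj with h0 | h0
      · rw [h0, r_zero]; exact one_mem _
      · rw [h0]; exact r_half_mem k hk H d hd0 hd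
  | sr j =>
    rw [r_mul_sr, sr_mul_r] at hcd
    have hdd : d + d = 0 := by
      have h1 : j - d = j + d := by simpa using hcd
      have h2 : j + d - (j - d) = 0 := sub_eq_zero.mpr h1.symm
      rw [← h2]; ring
    rw [sr_mul_sr, sr_mul_sr] at hci
    have hij : (j - i) + (j - i) = 0 := by
      have h1 : j - i = i - j := by simpa using hci
      have h2 : j - i - (i - j) = 0 := sub_eq_zero.mpr h1
      rw [← h2]; ring
    rcases h with hodd | ⟨k, hk⟩
    · exact absurd (eq_zero_of_add_self_odd hodd d hdd) hd0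
    · have hk1 : 1 ≤ k := by
        by_contra hk1
        push Not at hk1
        have : k = 0 := by omega
        rw [this] at hk; omega
      have hhalf := r_half_mem k hk H d hd0 hd
      rcases eq_of_add_self_two_pow k hk1 hk (j - i) hij with h0 | h0
      · have : j = i := sub_eq_zero.mp h0
        rw [this]; exact hi
      · have h1 : sr i * r ((2 ^ (k - 1) : ℕ) : ZMod n) ∈ H := H.mul_mem hi hhalf
        rw [sr_mul_r, ← h0] at h1
        have : i + (j - i) = j := by ring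
        rw [this] at h1
        exact h1

/-- the subgroup of `D_n` of rotations and reflections with index a multiple of `t` -/
def sub (n t : ℕ) : Subgroup (DihedralGroup n) where
  carrier := {g | ∃ j : ZMod n, g = r ((t : ZMod n) * j) ∨ g = sr ((t : ZMod n) * j)}
  one_mem' := ⟨0, Or.inl (by rw [mul_zero, r_zero])⟩
  mul_mem' := by
    rintro a b ⟨j, rfl | rfl⟩ ⟨l, rfl | rfl⟩
    · exact ⟨j + l, Or.inl (by rw [r_mul_r, mul_add])⟩
    · exact ⟨l - j, Or.inr (by rw [r_mul_sr, mul_sub])⟩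
    · exact ⟨j + l, Or.inr (by rw [sr_mul_r, mul_add])⟩
    · exact ⟨l - j, Or.inl (by rw [sr_mul_sr, mul_sub])⟩
  inv_mem' := by
    rintro a ⟨j, rfl | rfl⟩
    · exact ⟨-j, Or.inl (by rw [inv_r, mul_neg])⟩
    · exact ⟨j, Or.inr (by rw [inv_sr])⟩

theorem forward (hn : 3 ≤ n) (hprop : ∀ H : Subgroup (DihedralGroup n), ¬ IsCyclic ↥H →
    Subgroup.centralizer (H : Set (DihedralGroup n)) ≤ H) : Odd n ∨ ∃ k : ℕ, n = 2 ^ k := by
  have : NeZero n := ⟨by omega⟩
  by_contra hcon
  push Not at hcon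
  obtain ⟨hnodd, hnpow⟩ := hcon
  obtain ⟨a, m, hm, ham⟩ := Nat.exists_eq_two_pow_mul_odd (show n ≠ 0 by omega)
  have ha : 1 ≤ a := by
    by_contra ha
    push Not at ha
    have : a = 0 := by omega
    rw [this, pow_zero, one_mul] at ham
    exact hnodd (ham ▸ hm)
  have hm1 : m ≠ 1 := by
    intro h1
    rw [h1, mul_one] at ham
    exact hnpow a ham
  have hm3 : 3 ≤ m := by
    obtain ⟨v, hv⟩ := hm
    omega
  set t := 2 ^ a with ht
  have htn : t ∣ n := ⟨m, ham⟩
  set H := sub n t with hHdef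
  -- H is not cyclic
  have hHnc : ¬ IsCyclic ↥H := by
    intro hcyc
    have h1 : (r ((t : ZMod n) * 1) : DihedralGroup n) ∈ H := ⟨1, Or.inl rfl⟩
    have h2 : (sr ((t : ZMod n) * 0) : DihedralGroup n) ∈ H := ⟨0, Or.inr rfl⟩
    let _ := IsCyclic.commGroup (α := ↥H)
    have h3 := mul_comm (⟨_, h1⟩ : ↥H) ⟨_, h2⟩
    have h4 := congrArg Subtype.val h3
    simp only [Subgroup.coe_mul, r_mul_sr, sr_mul_r, mul_one, mul_zero] at h4
    have h5 : (0 : ZMod n) - t = 0 + t := by simpa using h4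
    have h6 : ((2 * t : ℕ) : ZMod n) = 0 := by
      push_cast
      have : (0 : ZMod n) + t - (0 - t) = 0 := sub_eq_zero.mpr h5.symm
      rw [← this]; ring
    rw [ZMod.natCast_eq_zero_iff, ham] at h6
    have h7 : m ∣ 2 := by
      have : 2 ^ a * m ∣ 2 ^ a * 2 := by rw [mul_comm (2 ^ a) 2]; exact h6
      exact Nat.dvd_of_mul_dvd_mul_left (by positivity) this
    have := Nat.le_of_dvd (by norm_num) h7
    omega
  -- the central element
  have hn2 : 2 ∣ n := by
    rw [ham]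
    exact Dvd.dvd.mul_right (dvd_pow_self 2 (by omega)) m
  obtain ⟨h, hh⟩ := hn2
  set z : DihedralGroup n := r ((h : ℕ) : ZMod n) with hz
  have hhh : ((h : ℕ) : ZMod n) + ((h : ℕ) : ZMod n) = 0 := by
    rw [← Nat.cast_add, ← two_mul, ← hh]; simp
  have hzc : z ∈ Subgroup.centralizer (H : Set (DihedralGroup n)) := by
    rw [Subgroup.mem_centralizer_iff]
    intro g _
    cases g with
    | r j => rw [hz, r_mul_r, r_mul_r, add_comm]
    | sr j =>
      rw [hz, sr_mul_r, r_mul_sr]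
      congr 1
      have : j + (h : ZMod n) - (j - (h : ZMod n)) = 0 := by
        have e : j + (h : ZMod n) - (j - (h : ZMod n)) = (h : ZMod n) + (h : ZMod n) := by ring
        rw [e, hhh]
      exact sub_eq_zero.mp this
  have hzH : z ∈ H := hprop H hHnc hzc
  obtain ⟨j, hj | hj⟩ := hzH
  · rw [hz] at hj
    have h1 : ((h : ℕ) : ZMod n) = (t : ZMod n) * j := by simpa using hj
    have h2 : ((h : ℕ) : ZMod n) = ((t * j.val : ℕ) : ZMod n) := by
      rw [h1]; push_cast; rw [ZMod.natCast_zmod_val]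
    rw [ZMod.natCast_eq_natCast_iff] at h2
    have h3 : h ≡ t * j.val [MOD t] := Nat.ModEq.of_dvd htn h2
    have h4 : t ∣ h := by
      have : t * j.val ≡ 0 [MOD t] := (Nat.modEq_zero_iff_dvd).mpr (Dvd.intro _ rfl)
      exact (Nat.modEq_zero_iff_dvd).mp (h3.trans this)
    -- n = 2 h, t = 2^a ∣ h → 2^(a+1) ∣ n = 2^a m → 2 ∣ m
    obtain ⟨w, hw⟩ := h4
    have h5 : 2 ^ a * m = 2 ^ a * (2 * w) := by
      rw [← ham, hh, hw, ht]; ring
    have h6 : m = 2 * w := Nat.eq_of_mul_eq_mul_left (by positivity) h5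
    obtain ⟨v, hv⟩ := hm
    omega
  · rw [hz] at hj
    exact absurd hj (by simp)

theorem result (n : ℕ) (hn : 3 ≤ n) : (∀ H : Subgroup (DihedralGroup n), ¬ IsCyclic ↥H → Subgroup.centralizer (H : Set (DihedralGroup n)) ≤ H) ↔ (Odd n ∨ ∃ k : ℕ, n = 2 ^ k) :=
  ⟨forward hn, fun h H hH => backward hn h H hH⟩

end Cfsg.Agent.S3920
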