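import Cfsg.Statements.S3927
import Cfsg.Agent.Helper35.FlavellComm

set_option autoImplicit false
open Cfsg

namespace Cfsg.Agent.S3927

open Cfsg.Agent.Helper35.Flavell SemidirectProduct

section

variable {G : Type*} [Group G] (α : MulAut G)

/-- The commutator map. -/
def fc : G → G := fun c => c * (α c)⁻¹

theorem fc_comm (z : MulAut G) (hz : z * α = α * z) (c : G) : fc α (z c) = z (fc α c) := by
  unfold fc
  have h : α (z c) = z (α c) := by
    have := congrArg (fun w : MulAut G => w c) hz
    simpa [MulAut.mul_apply] using this.symm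
  rw [h, map_mul, map_inv]

theorem fc_iter_comm (z : MulAut G) (hz : z * α = α * z) (k : ℕ) (c : G) :
    (fc α)^[k] (z c) = z ((fc α)^[k] c) := by
  induction k generalizing c with
  | zero => rfl
  | succ k ih =>
    rw [Function.iterate_succ_apply, Function.iterate_succ_apply, fc_comm α z hz, ih]

end

/-- Let G be a finite group and α an automorphism of G with [G, α] = G, that is, the elements g·α(g)⁻¹ generate G. Then for every k ≥ 1 the iterated commutators [g, α, …, α] with k entries α — the values of the k-th iterate of the map c ↦ c·α(c)⁻¹ — also generate G. -/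
theorem result {G : Type*} [Group G] [Finite G] (α : MulAut G) (hG : Subgroup.closure (Set.range (fun c : G => c * (α c)⁻¹)) = ⊤) (k : ℕ) (hk : 1 ≤ k) :
    Subgroup.closure (Set.range ((fun c : G => c * (α c)⁻¹)^[k])) = ⊤ := by
  change Subgroup.closure (Set.range ((fc α)^[k])) = ⊤
  change Subgroup.closure (Set.range (fc α)) = ⊤ at hG
  -- the semidirect product
  let Z : Subgroup (MulAut G) := Subgroup.zpowers α
  let φ : Z →* MulAut G := Z.subtype
  let a' : Z := ⟨α, Subgroup.mem_zpowers α⟩
  let a : G ⋊[φ] Z := inr a'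
  have : Finite (G ⋊[φ] Z) := Finite.of_equiv _ (SemidirectProduct.equivProd (φ := φ)).symm
  -- every element of Z commutes with α
  have hZcomm : ∀ z : Z, (z : MulAut G) * α = α * (z : MulAut G) := by
    intro z
    obtain ⟨m, hm⟩ := Subgroup.mem_zpowers_iff.1 z.2
    rw [← hm]
    exact (Commute.zpow_left (Commute.refl α) m).eq
  have hZcomm' : ∀ z : Z, z * a' = a' * z := by
    intro z
    exact Subtype.ext (hZcomm z)
  -- the map `T`
  have hT1 : ∀ (c : G) (z : Z), Tmap a (inl c * inr z) = inl (fc α c) * a := by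
    intro c z
    unfold Tmap
    have e1 : (inl c * inr z : G ⋊[φ] Z)⁻¹ = inr z⁻¹ * inl c⁻¹ := by
      rw [mul_inv_rev, ← map_inv, ← map_inv]
    have e2 : (inr z * a * inr z⁻¹ : G ⋊[φ] Z) = a := by
      show (inr z * inr a' * inr z⁻¹ : G ⋊[φ] Z) = inr a'
      rw [← map_mul, ← map_mul, hZcomm' z, mul_inv_cancel_right]
    have e3 : (a * inl c⁻¹ * a⁻¹ : G ⋊[φ] Z) = inl (α c)⁻¹ := by
      show (inr a' * inl c⁻¹ * (inr a')⁻¹ : G ⋊[φ] Z) = inl (α c)⁻¹
      rw [← map_inv inr a', ← inl_aut]
      congr 1
      show (φ a') c⁻¹ = (α c)⁻¹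
      exact map_inv α c
    calc inl c * inr z * a * (inl c * inr z)⁻¹
        = inl c * (inr z * a * inr z⁻¹) * inl c⁻¹ := by rw [e1]; group
      _ = inl c * (a * inl c⁻¹ * a⁻¹) * a := by rw [e2]; group
      _ = inl (fc α c) * a := by rw [e3, ← map_mul]; rfl
  have hTk : ∀ (j : ℕ) (c : G) (z : Z),
      (Tmap a)^[j + 1] (inl c * inr z) = inl ((fc α)^[j + 1] c) * a := by
    intro j
    induction j with
    | zero => intro c z; exact hT1 c z
    | succ j ih =>
      intro c z
      rw [Function.iterate_succ_apply' (Tmap a), ih c z,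
        Function.iterate_succ_apply' (fc α) (j + 1)]
      exact hT1 _ a'
  -- normal closure of `a`
  have hncl : Subgroup.normalClosure ((Subgroup.zpowers a : Subgroup (G ⋊[φ] Z)) : Set (G ⋊[φ] Z)) = ⊤ := by
    set N := Subgroup.normalClosure ((Subgroup.zpowers a : Subgroup (G ⋊[φ] Z)) : Set (G ⋊[φ] Z)) with hN
    have hNn : N.Normal := Subgroup.normalClosure_normal
    have haN : a ∈ N := Subgroup.subset_normalClosure (Subgroup.mem_zpowers a)
    have h1 : ∀ c : G, (inl (fc α c) : G ⋊[φ] Z) ∈ N := by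
      intro c
      have h2 : Tmap a (inl c * inr 1) ∈ N := by
        unfold Tmap
        exact hNn.conj_mem a haN _
      rw [hT1] at h2
      have := N.mul_mem h2 (N.inv_mem haN)
      rwa [mul_inv_cancel_right] at this
    have h3 : (⊤ : Subgroup G) ≤ N.comap inl := by
      rw [← hG, Subgroup.closure_le]
      rintro _ ⟨c, rfl⟩
      exact h1 c
    have h4 : ∀ z : Z, (inr z : G ⋊[φ] Z) ∈ N := by
      intro z
      obtain ⟨m, hm⟩ := Subgroup.mem_zpowers_iff.1 z.2
      have hz : z = a' ^ m := Subtype.ext (by rw [Subgroup.coe_zpow]; exact hm.symm)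
      rw [hz, map_zpow]
      exact N.zpow_mem haN m
    rw [Subgroup.eq_top_iff']
    intro g
    rw [← inl_left_mul_inr_right g]
    exact N.mul_mem (h3 (Subgroup.mem_top _)) (h4 _)
  have hmain := T_gen a hncl k
  -- back to `G`
  obtain ⟨j, rfl⟩ : ∃ j, k = j + 1 := ⟨k - 1, by omega⟩
  set R := Subgroup.closure (Set.range ((fc α)^[j + 1])) with hR
  have hRinv : ∀ (z : Z) (x : G), x ∈ R → φ z x ∈ R := by
    intro z x hx
    have hle : R ≤ R.comap (φ z).toMonoidHom := by
      rw [hR, Subgroup.closure_le]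
      rintro _ ⟨c, rfl⟩
      show φ z ((fc α)^[j + 1] c) ∈ R
      rw [← fc_iter_comm α (φ z) (hZcomm z)]
      exact Subgroup.subset_closure ⟨_, rfl⟩
    exact hle hx
  have hleft : ∀ g ∈ Subgroup.closure (Set.range ((Tmap a)^[j + 1])), g.left ∈ R := by
    intro g hg
    induction hg using Subgroup.closure_induction with
    | mem x hx =>
      obtain ⟨b, rfl⟩ := hx
      rw [← inl_left_mul_inr_right b, hTk]
      rw [mul_left, left_inl, right_inl, map_one]
      show (fc α)^[j + 1] b.left * (1 : MulAut G) (a.left) ∈ R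
      rw [show a.left = 1 from rfl, map_one, mul_one]
      exact Subgroup.subset_closure ⟨_, rfl⟩
    | one => rw [one_left]; exact R.one_mem
    | mul x y _ _ hx hy =>
      rw [mul_left]
      exact R.mul_mem hx (hRinv _ _ hy)
    | inv x _ hx =>
      rw [inv_left]
      exact hRinv _ _ (R.inv_mem hx)
  rw [Subgroup.eq_top_iff']
  intro x
  have := hleft (inl x) (hmain ▸ Subgroup.mem_top _)
  rwa [left_inl] at this

end Cfsg.Agent.S3927
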