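-- Statement S3939: the hypercenter is the set of g with <x, g> nilpotent for all x.
import Cfsg.Statements.S3939
import Cfsg.Agent.Helper65.Hypercenter

set_option autoImplicit false
open Cfsg

namespace Cfsg.Agent.S3939

open Cfsg.Agent.Helper65

universe u

theorem forward_aux (n : ℕ) : ∀ (G : Type u) [Group G] [Finite G], Nat.card G = n → ∀ g : G,
    (∀ x : G, Group.IsNilpotent ↥(Subgroup.closure ({x, g} : Set G))) →
      g ∈ ⨆ n : ℕ, Subgroup.upperCentralSeries G n := by
  induction n using Nat.strong_induction_on with
  | _ n ih =>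
    intro G _ _ hcard g hg
    by_cases hg1 : g = 1
    · subst hg1
      exact Subgroup.one_mem _
    have ho : orderOf g ≠ 1 := fun h => hg1 (orderOf_eq_one_iff.mp h)
    obtain ⟨q, hq, hqd⟩ := Nat.exists_prime_and_dvd ho
    have hqf : Fact q.Prime := ⟨hq⟩
    set y := g ^ (orderOf g / q) with hy
    have hyo : orderOf y = q := orderOf_pow_orderOf_div (orderOf_pos g).ne' hqd
    have hycomm : ∀ x : G, (orderOf x).Coprime q → Commute x y := by
      intro x hx
      have hL := hg x
      set L := Subgroup.closure ({x, g} : Set G) with hLdef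
      have hxL : x ∈ L := Subgroup.subset_closure (Set.mem_insert _ _)
      have hgL : g ∈ L := Subgroup.subset_closure (Set.mem_insert_of_mem _ rfl)
      have hyL : y ∈ L := L.pow_mem hgL _
      have hco : (orderOf (⟨x, hxL⟩ : L)).Coprime (orderOf (⟨y, hyL⟩ : L)) := by
        rw [Subgroup.orderOf_mk, Subgroup.orderOf_mk, hyo]
        exact hx
      have h1 := commute_of_coprime_orderOf L ⟨x, hxL⟩ ⟨y, hyL⟩ hco
      have h2 := congrArg Subtype.val h1.eq
      exact h2
    obtain ⟨z, hzc, hz1⟩ := exists_central_of_commute_coprime y hyo hycomm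
    set π := QuotientGroup.mk' (Subgroup.center G) with hπ
    have hcardlt : Nat.card (G ⧸ Subgroup.center G) < n := by
      rw [← hcard, Subgroup.card_eq_card_quotient_mul_card_subgroup (Subgroup.center G)]
      have h1 : 1 < Nat.card (Subgroup.center G) := by
        rw [Finite.one_lt_card_iff_nontrivial]
        exact ⟨⟨⟨z, hzc⟩, 1, fun h => hz1 (congrArg Subtype.val h)⟩⟩
      have h0 : 0 < Nat.card (G ⧸ Subgroup.center G) := Nat.card_pos
      nlinarith
    have hπg : ∀ xb : G ⧸ Subgroup.center G,
        Group.IsNilpotent ↥(Subgroup.closure ({xb, π g} : Set (G ⧸ Subgroup.center G))) := by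
      intro xb
      obtain ⟨x, rfl⟩ := QuotientGroup.mk_surjective xb
      have := isNilpotent_map π (hg x)
      rw [MonoidHom.map_closure, Set.image_pair] at this
      exact this
    have hmem := ih _ hcardlt (G ⧸ Subgroup.center G) rfl (π g) hπg
    obtain ⟨m, hm⟩ := (Subgroup.mem_iSup_of_directed
      (Subgroup.upperCentralSeries_mono _).directed_le).mp hmem
    have hgm : g ∈ Subgroup.upperCentralSeries G (m + 1) := by
      rw [← Subgroup.comap_upperCentralSeries_quotient_center]
      exact hm
    exact Subgroup.mem_iSup_of_mem (m + 1) hgm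

/-- In a finite group G the set of elements g such that the subgroup generated by g and x is nilpotent for every x ∈ G is exactly the hypercenter of G (the last term of the upper central series). -/
theorem result {G : Type*} [Group G] [Finite G] (g : G) :
    (∀ x : G, Group.IsNilpotent ↥(Subgroup.closure ({x, g} : Set G))) ↔ g ∈ ⨆ n : ℕ, Subgroup.upperCentralSeries G n := by
  constructor
  · intro h
    exact forward_aux _ G rfl g h
  · intro h
    obtain ⟨n, hn⟩ := (Subgroup.mem_iSup_of_directed
      (Subgroup.upperCentralSeries_mono _).directed_le).mp h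
    intro x
    exact isNilpotent_closure_pair_of_mem_upperCentralSeries n G x g hn

end Cfsg.Agent.S3939
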