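import Cfsg.Statements.S3941

set_option autoImplicit false
open Cfsg

namespace Cfsg.Agent.S3941

/-- `IsPClosed` transfers along a group isomorphism. -/
theorem isPClosed_of_mulEquiv {G G' : Type*} [Group G] [Group G'] (p : ℕ) (e : G ≃* G')
    (h : Cfsg.IsPClosed p G) : Cfsg.IsPClosed p G' := by
  intro Q
  have hle : (Q : Subgroup G') ≤ e.toMonoidHom.range := by
    intro x _
    exact ⟨e.symm x, by simp⟩
  have hn : (Subgroup.comap e.toMonoidHom (Q : Subgroup G')).Normal :=
    h (Q.comapOfInjective e.toMonoidHom e.injective hle)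
  have := hn.map e.toMonoidHom e.surjective
  rwa [Subgroup.map_comap_eq_self_of_surjective e.surjective] at this

/-- an element of `p`-power order lies in a normal Sylow `p`-subgroup -/
theorem mem_of_normal_sylow {G : Type*} [Group G] [Finite G] {p : ℕ} [Fact p.Prime] (P : Sylow p G)
    (hP : (P : Subgroup G).Normal) (c : G) (hc : orderOf c = p) : c ∈ (P : Subgroup G) := by
  have hpg : IsPGroup p ↥(Subgroup.zpowers c) := by
    apply IsPGroup.of_card (n := 1)
    rw [Nat.card_zpowers, hc, pow_one]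
  obtain ⟨Q, hQ⟩ := hpg.exists_le_sylow
  obtain ⟨g, hg⟩ := MulAction.exists_smul_eq G P Q
  have := hP
  rw [Sylow.smul_eq_of_normal] at hg
  rw [hg]
  exact hQ (Subgroup.mem_zpowers c)

/-- `A_4` is not `3`-closed. -/
theorem not_isPClosed_alt_four : ¬ Cfsg.IsPClosed 3 ↥(alternatingGroup (Fin 4)) := by
  intro h
  have : Fact (Nat.Prime 3) := ⟨by norm_num⟩
  obtain ⟨P⟩ : Nonempty (Sylow 3 ↥(alternatingGroup (Fin 4))) := inferInstance
  have hP := h P
  let c1 : ↥(alternatingGroup (Fin 4)) :=
    ⟨Equiv.swap 0 1 * Equiv.swap 1 2, by rw [Equiv.Perm.mem_alternatingGroup]; decide⟩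
  let c2 : ↥(alternatingGroup (Fin 4)) :=
    ⟨Equiv.swap 0 1 * Equiv.swap 1 3, by rw [Equiv.Perm.mem_alternatingGroup]; decide⟩
  have h1 : orderOf c1 = 3 := orderOf_eq_prime (by decide) (by decide)
  have h2 : orderOf c2 = 3 := orderOf_eq_prime (by decide) (by decide)
  have hm1 := mem_of_normal_sylow P hP c1 h1
  have hm2 := mem_of_normal_sylow P hP c2 h2
  have hm : c1 * c2 ∈ (P : Subgroup _) := Subgroup.mul_mem _ hm1 hm2
  have h3 : orderOf (c1 * c2) = 2 := orderOf_eq_prime (by decide) (by decide)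
  obtain ⟨k, hk⟩ := (IsPGroup.iff_orderOf.mp P.isPGroup') ⟨c1 * c2, hm⟩
  rw [Subgroup.orderOf_mk, h3] at hk
  have : (3 : ℕ) ∣ 2 := by
    rcases Nat.eq_zero_or_pos k with h0 | h0
    · rw [h0] at hk; norm_num at hk
    · rw [hk]; exact dvd_pow_self 3 h0.ne'
  norm_num at this

theorem result (n p : ℕ) (hn : 5 ≤ n) [Fact p.Prime] (hp : p ≠ 2) (hpn : p ≤ n)
    (h : ∀ H : Subgroup ↥(alternatingGroup (Fin n)), H ≠ ⊤ → p ∣ Nat.card ↥H → Cfsg.IsPClosed p ↥H) : n = p := by
  have hpp : p.Prime := Fact.out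
  by_contra hne
  have hlt : p ≤ n - 1 := by omega
  -- the subset
  let a : Fin n := ⟨0, by omega⟩
  let s : Finset (Fin n) := Finset.univ.erase a
  have hscard : s.card = n - 1 := by
    rw [Finset.card_erase_of_mem (Finset.mem_univ a), Finset.card_univ, Fintype.card_fin]
  have hscard' : Fintype.card ↥s = n - 1 := by rw [Fintype.card_coe, hscard]
  have hscardN : Nat.card ↥s = n - 1 := by rw [Nat.card_eq_fintype_card, hscard']
  have : Nontrivial ↥s := by
    rw [← Fintype.one_lt_card_iff_nontrivial, hscard']; omega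
  have : Nontrivial (Fin n) := by
    rw [← Fintype.one_lt_card_iff_nontrivial, Fintype.card_fin]; omega
  let f := alternatingGroup.ofSubtype s
  have hf : Function.Injective f := alternatingGroup.ofSubtype_injective
  let H : Subgroup ↥(alternatingGroup (Fin n)) := f.range
  let e : ↥(alternatingGroup ↥s) ≃* ↥H := MonoidHom.ofInjective hf
  have hcardH : Nat.card ↥H = (n - 1).factorial / 2 := by
    rw [← Nat.card_congr e.toEquiv, nat_card_alternatingGroup, hscardN]
  have hcardA : Nat.card ↥(alternatingGroup (Fin n)) = n.factorial / 2 := by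
    rw [nat_card_alternatingGroup, Nat.card_eq_fintype_card, Fintype.card_fin]
  have h2dvd : ∀ m : ℕ, 2 ≤ m → 2 ∣ m.factorial := fun m hm => Nat.dvd_factorial (by norm_num) hm
  have hHne : H ≠ ⊤ := by
    intro htop
    have h1 : Nat.card ↥H = Nat.card ↥(alternatingGroup (Fin n)) := by
      rw [htop]; exact Subgroup.card_top
    rw [hcardH, hcardA] at h1
    have h3 : (n - 1).factorial < n.factorial := by
      have : n = (n - 1) + 1 := by omega
      conv_rhs => rw [this, Nat.factorial_succ]
      have hpos := Nat.factorial_pos (n - 1)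
      nlinarith
    obtain ⟨u, hu⟩ := h2dvd (n - 1) (by omega)
    obtain ⟨v, hv⟩ := h2dvd n (by omega)
    rw [hu, hv] at h1 h3
    simp at h1
    omega
  have hpdvd : p ∣ Nat.card ↥H := by
    rw [hcardH]
    have h1 : p ∣ (n - 1).factorial := Nat.dvd_factorial hpp.pos hlt
    obtain ⟨u, hu⟩ := h2dvd (n - 1) (by omega)
    rw [hu] at h1 ⊢
    simp only [Nat.mul_div_cancel_left u (by norm_num : 0 < 2)]
    have hcop : Nat.Coprime p 2 := (Nat.coprime_primes hpp Nat.prime_two).mpr hp
    exact hcop.dvd_of_dvd_mul_left h1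
  have hclosed : Cfsg.IsPClosed p ↥(alternatingGroup ↥s) :=
    isPClosed_of_mulEquiv p e.symm (h H hHne hpdvd)
  have hpdvd' : p ∣ Nat.card ↥(alternatingGroup ↥s) := by
    rw [Nat.card_congr e.toEquiv]; exact hpdvd
  rcases Nat.lt_or_ge (n - 1) 5 with hsmall | hbig
  · -- n = 5, p = 3
    have hn5 : n = 5 := by omega
    have hp3 : p = 3 := by
      have h4 : p ≤ 4 := by omega
      have h2 := hpp.two_le
      interval_cases p
      · exact absurd rfl hp
      · rfl
      · exact absurd hpp (by norm_num)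
    subst hp3
    have hc4 : Fintype.card ↥s = Fintype.card (Fin 4) := by
      rw [hscard', Fintype.card_fin]; omega
    let e4 : ↥s ≃ Fin 4 := Fintype.equivOfCardEq hc4
    exact not_isPClosed_alt_four (isPClosed_of_mulEquiv 3 (Equiv.altCongrHom e4) hclosed)
  · -- simple case
    have : IsSimpleGroup ↥(alternatingGroup ↥s) :=
      alternatingGroup.isSimpleGroup (by rw [hscardN]; exact hbig)
    obtain ⟨P⟩ : Nonempty (Sylow p ↥(alternatingGroup ↥s)) := inferInstance
    have hPn := hclosed P
    rcases IsSimpleGroup.eq_bot_or_eq_top_of_normal _ hPn with hbot | htop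
    · exact P.ne_bot_of_dvd_card hpdvd' hbot
    · -- the whole group is a p-group, but has even order
      have hpg : IsPGroup p ↥(alternatingGroup ↥s) := by
        have := P.isPGroup'
        rw [htop] at this
        exact (IsPGroup.of_equiv this Subgroup.topEquiv)
      obtain ⟨k, hk⟩ := IsPGroup.iff_card.mp hpg
      rw [nat_card_alternatingGroup, hscardN] at hk
      have h4 : 4 ∣ (n - 1).factorial := by
        have : (4 : ℕ) ∣ Nat.factorial 4 := by decide
        exact this.trans (Nat.factorial_dvd_factorial (by omega))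
      obtain ⟨w, hw⟩ := h4
      have h5 : (n - 1).factorial / 2 = 2 * w := by rw [hw]; omega
      rw [h5] at hk
      have h6 : 2 ∣ p ^ k := ⟨w, hk.symm⟩
      have h7 : 2 ∣ p := Nat.Prime.dvd_of_dvd_pow Nat.prime_two h6
      have := (Nat.prime_dvd_prime_iff_eq Nat.prime_two hpp).mp h7
      exact hp this.symm

end Cfsg.Agent.S3941
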