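import Cfsg.Statements.S3946
import Cfsg.Agent.Helper35.KegelMain

set_option autoImplicit false
open Cfsg

namespace Cfsg.Agent.S3946

open Cfsg.Agent.Helper35.Kegel

theorem iterate_eq_pow {G : Type*} [Group G] (α : MulAut G) (k : ℕ) (x : G) :
    (⇑α)^[k] x = (α ^ k) x := by
  induction k with
  | zero => rfl
  | succ n ih => rw [Function.iterate_succ_apply', ih, pow_succ', MulAut.mul_apply]

/-- Call an automorphism α of order n of a group G splitting when x · α(x) · α²(x) ⋯ α^(n−1)(x) = 1 for every x ∈ G. A finite group admitting a splitting automorphism of prime order is nilpotent (this contains the case of a fixed-point-free automorphism of prime order). -/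
theorem result {G : Type*} [Group G] [Finite G] (α : MulAut G) (hp : (orderOf α).Prime)
    (hsplit : ∀ x : G, (((List.range (orderOf α)).map (fun i : ℕ => (α ^ i) x)).prod = 1)) : Group.IsNilpotent G := by
  apply spl_nilpotent hp α
  intro x
  rw [nrm_eq_list, ← hsplit x]
  congr 1
  apply List.map_congr_left
  intro i _
  exact iterate_eq_pow α i x

end Cfsg.Agent.S3946
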