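import Cfsg.Statements.S3947
import Cfsg.Agent.Helper35.FlavellMain

set_option autoImplicit false
open Cfsg

namespace Cfsg.Agent.S3947

open Cfsg.Agent.Helper35.Flavell

theorem gen_iff {G : Type*} [Group G] {A H : Subgroup G} (hAH : A ≤ H) :
    Subgroup.normalClosure ((A.subgroupOf H : Subgroup ↥H) : Set ↥H) = ⊤ ↔ Gen A H := by
  constructor
  · intro h N hAN hNH hn
    have hnorm : (N.subgroupOf H).Normal :=
      (Subgroup.normal_subgroupOf_iff_le_normalizer hNH).2 hn
    have hle : Subgroup.normalClosure ((A.subgroupOf H : Subgroup ↥H) : Set ↥H) ≤ N.subgroupOf H :=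
      Subgroup.normalClosure_le_normal (fun x hx => hAN hx)
    rw [h, top_le_iff, Subgroup.subgroupOf_eq_top] at hle
    exact le_antisymm hNH hle
  · intro h
    set N' : Subgroup ↥H := Subgroup.normalClosure ((A.subgroupOf H : Subgroup ↥H) : Set ↥H) with hN'
    have hN'n : N'.Normal := Subgroup.normalClosure_normal
    have hsub : (N'.map H.subtype).subgroupOf H = N' := by
      ext x
      simp only [Subgroup.mem_subgroupOf, Subgroup.mem_map, Subgroup.coe_subtype]
      constructor
      · rintro ⟨y, hy, hyx⟩
        have : y = x := Subtype.ext hyx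
        exact this ▸ hy
      · intro hx
        exact ⟨x, hx, rfl⟩
    have hle : N'.map H.subtype ≤ H := by
      rintro _ ⟨y, -, rfl⟩
      exact y.2
    have hA : A ≤ N'.map H.subtype := by
      intro a ha
      refine ⟨⟨a, hAH ha⟩, ?_, rfl⟩
      exact Subgroup.subset_normalClosure (show (⟨a, hAH ha⟩ : ↥H) ∈ A.subgroupOf H from ha)
    have hn : H ≤ Subgroup.normalizer ((N'.map H.subtype : Subgroup G) : Set G) := by
      rw [← Subgroup.normal_subgroupOf_iff_le_normalizer hle, hsub]
      exact hN'n
    have e := h _ hA hle hn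
    rw [← hsub, e, Subgroup.subgroupOf_self]

/-- Let G be a finite group and A a proper subgroup of G whose normal closure is G. Let Y be the join of all proper subgroups H of G that contain A and are generated by their own conjugates of A (the normal closure of A in H is H). Then either Y = G, or A is contained in exactly one maximal subgroup of G. -/
theorem result {G : Type*} [Group G] [Finite G] (A : Subgroup G) (hA : Subgroup.normalClosure (A : Set G) = ⊤) (hAG : A ≠ ⊤) :
    sSup {H : Subgroup G | A ≤ H ∧ H ≠ ⊤ ∧ Subgroup.normalClosure ((A.subgroupOf H : Subgroup ↥H) : Set ↥H) = ⊤} = ⊤ ∨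
      ∃! M : Subgroup G, IsCoatom M ∧ A ≤ M := by
  have hset : {H : Subgroup G | A ≤ H ∧ H ≠ ⊤ ∧
      Subgroup.normalClosure ((A.subgroupOf H : Subgroup ↥H) : Set ↥H) = ⊤} = HH A := by
    ext H
    constructor
    · rintro ⟨h1, h2, h3⟩
      exact ⟨h1, h2, (gen_iff h1).1 h3⟩
    · rintro ⟨h1, h2, h3⟩
      exact ⟨h1, h2, (gen_iff h1).2 h3⟩
  rw [hset]
  have hgen : ∀ N : Subgroup G, N.Normal → A ≤ N → N = ⊤ := by
    intro N hN hAN
    have : Subgroup.normalClosure (A : Set G) ≤ N := Subgroup.normalClosure_le_normal hAN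
    rwa [hA, top_le_iff] at this
  exact main A hgen hAG

end Cfsg.Agent.S3947
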