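-- Statement S3949: iterated commutators with an involutory automorphism.
import Cfsg.Statements.S3949

set_option autoImplicit false
open Cfsg

namespace Cfsg.Agent.S3949

theorem aut_sq {G : Type*} [Group G] (α : MulAut G) (hα : orderOf α = 2) (c : G) : α (α c) = c := by
  have h : α ^ 2 = 1 := by rw [← hα]; exact pow_orderOf_eq_one α
  have h1 : (α ^ 2) c = c := by rw [h]; rfl
  rw [pow_two] at h1
  exact h1

theorem inverted_psi {G : Type*} [Group G] (α : MulAut G) (hα : orderOf α = 2) (c : G) :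
    α (c * (α c)⁻¹) = (c * (α c)⁻¹)⁻¹ := by
  rw [map_mul, map_inv, aut_sq α hα c, mul_inv_rev, inv_inv]

theorem psi_of_inverted {G : Type*} [Group G] (α : MulAut G) (y : G) (hy : α y = y⁻¹) :
    y * (α y)⁻¹ = y ^ 2 := by
  rw [hy, inv_inv, pow_two]

theorem inverted_pow {G : Type*} [Group G] (α : MulAut G) (y : G) (hy : α y = y⁻¹) (k : ℕ) :
    α (y ^ k) = (y ^ k)⁻¹ := by
  rw [map_pow, hy, inv_pow]

theorem iterate_of_inverted {G : Type*} [Group G] (α : MulAut G) (y : G) (hy : α y = y⁻¹) (n : ℕ) :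
    (fun c : G => c * (α c)⁻¹)^[n] y = y ^ (2 ^ n) := by
  induction n with
  | zero => simp
  | succ n ih =>
    rw [Function.iterate_succ_apply', ih]
    show y ^ 2 ^ n * (α (y ^ 2 ^ n))⁻¹ = y ^ 2 ^ (n + 1)
    rw [psi_of_inverted α _ (inverted_pow α y hy _), ← pow_mul, ← pow_succ]

theorem exists_preimage {G : Type*} [Group G] [Finite G] (α : MulAut G) (j : ℕ) :
    ∀ g : G, Odd (orderOf g) → α g = g⁻¹ →
      ∃ y : G, α y = y⁻¹ ∧ (fun c : G => c * (α c)⁻¹)^[j] y = g := by
  induction j with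
  | zero =>
    intro g _ hg
    exact ⟨g, hg, rfl⟩
  | succ j ih =>
    intro g hodd hg
    set m := orderOf g with hm
    set s := g ^ ((m + 1) / 2) with hs
    have hs2 : s ^ 2 = g := by
      rw [hs, ← pow_mul]
      have h1 : (m + 1) / 2 * 2 = m + 1 := by
        obtain ⟨t, ht⟩ := hodd
        omega
      rw [h1, pow_succ, hm, pow_orderOf_eq_one, one_mul]
    have hsinv : α s = s⁻¹ := inverted_pow α g hg _
    have hsodd : Odd (orderOf s) := Odd.of_dvd_nat hodd (orderOf_pow_dvd _)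
    obtain ⟨y, hy, hys⟩ := ih s hsodd hsinv
    refine ⟨y, hy, ?_⟩
    rw [Function.iterate_succ_apply', hys]
    show s * (α s)⁻¹ = g
    rw [psi_of_inverted α s hsinv, hs2]

/-- Let G be a finite group and α an automorphism of G of order 2 such that the elements g·α(g)⁻¹ generate G. Let j be a positive integer such that 2^j divides the order of no element inverted by α. Then the set of values of the j-th iterate of the map c ↦ c·α(c)⁻¹ is exactly the set of elements of odd order inverted by α. -/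
theorem result {G : Type*} [Group G] [Finite G] (α : MulAut G) (hα : orderOf α = 2) (hG : Subgroup.closure (Set.range (fun c : G => c * (α c)⁻¹)) = ⊤)
    (j : ℕ) (hj : ∀ g : G, α g = g⁻¹ → ¬ 2 ^ j ∣ orderOf g) :
    Set.range ((fun c : G => c * (α c)⁻¹)^[j]) = {g : G | Odd (orderOf g) ∧ α g = g⁻¹} := by
  have hj0 : j ≠ 0 := by
    rintro rfl
    exact hj 1 (by simp) (by simp)
  obtain ⟨i, rfl⟩ := Nat.exists_eq_succ_of_ne_zero hj0
  ext g
  constructor
  · rintro ⟨c, rfl⟩
    rw [Function.iterate_succ_apply]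
    set x := c * (α c)⁻¹ with hx
    have hxinv : α x = x⁻¹ := inverted_psi α hα c
    have hiter : (fun c : G => c * (α c)⁻¹)^[i] x = x ^ (2 ^ i) := iterate_of_inverted α x hxinv i
    rw [hiter]
    refine ⟨?_, inverted_pow α x hxinv _⟩
    -- odd order
    rw [← Nat.not_even_iff_odd, even_iff_two_dvd]
    intro h2
    have hxo := hj x hxinv
    set o := orderOf x with ho
    have hopos : 0 < o := orderOf_pos x
    rw [orderOf_pow' x (pow_ne_zero i (by norm_num)), ← ho] at h2
    have hd : Nat.gcd o (2 ^ i) ∣ 2 ^ i := Nat.gcd_dvd_right _ _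
    obtain ⟨b, hb, hbd⟩ := (Nat.dvd_prime_pow Nat.prime_two).mp hd
    have hmul : Nat.gcd o (2 ^ i) * (o / Nat.gcd o (2 ^ i)) = o :=
      Nat.mul_div_cancel' (Nat.gcd_dvd_left _ _)
    have h3 : 2 ^ (b + 1) ∣ o := by
      have h30 : Nat.gcd o (2 ^ i) * 2 ∣ Nat.gcd o (2 ^ i) * (o / Nat.gcd o (2 ^ i)) :=
        Nat.mul_dvd_mul_left _ h2
      rw [hmul, hbd, ← pow_succ] at h30
      exact h30
    rcases Nat.lt_or_ge b i with hlt | hge
    · have h4 : 2 ^ (b + 1) ∣ 2 ^ i := pow_dvd_pow 2 hlt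
      have h5 : 2 ^ (b + 1) ∣ Nat.gcd o (2 ^ i) := Nat.dvd_gcd h3 h4
      rw [hbd] at h5
      have := Nat.le_of_dvd (pow_pos (by norm_num) b) h5
      rw [pow_succ] at this
      have hpos : 0 < 2 ^ b := pow_pos (by norm_num) b
      omega
    · have hbi : b = i := le_antisymm hb hge
      rw [hbi] at h3
      exact hxo h3
  · rintro ⟨hodd, hinv⟩
    obtain ⟨y, -, hy⟩ := exists_preimage α (i + 1) g hodd hinv
    exact ⟨y, hy⟩

end Cfsg.Agent.S3949
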