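import Mathlib
import Cfsg.Statements.S3950
import Cfsg.Agent.Helper66.TwistedProd
import Cfsg.Agent.Helper66.SchurBasic
import Cfsg.Agent.Helper66.NonCyclicAbelian
import Cfsg.Agent.S3979

set_option autoImplicit false
open Cfsg

namespace Cfsg.Agent.S3950

open scoped commutatorElement
open Cfsg.Agent.Helper66

/-- The bi-additive map `(g, h) ↦ ψ₁ g * ψ₂ h`. -/
def beta {G : Type*} [CommGroup G] (q : ℕ) (ψ₁ ψ₂ : Additive G →+ ZMod q) : BiAdd G (ZMod q) where
  toFun g h := ψ₁ (Additive.ofMul g) * ψ₂ (Additive.ofMul h)
  map_mul_left g h k := by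
    rw [ofMul_mul, map_add]; ring
  map_mul_right g h k := by
    rw [ofMul_mul, map_add]; ring

/-- A finite abelian group has trivial Schur multiplier if and only if it is cyclic. -/
theorem result {G : Type*} [CommGroup G] [Finite G] : Cfsg.HasCyclicSchurMultiplier G 1 ↔ IsCyclic G := by
  constructor
  · intro hM
    by_contra hG
    obtain ⟨q, hq, ψ₁, ψ₂, g, h, hne⟩ := exists_two_characters_of_not_isCyclic G hG
    haveI : Fact q.Prime := ⟨hq⟩
    set β := beta q ψ₁ ψ₂ with hβ
    set u : ZMod q := ψ₁ g * ψ₂ h - ψ₁ h * ψ₂ g with hu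
    -- the element `⟨u, 1⟩` is a commutator
    have hcomm : (TwistedProd.incl β (Multiplicative.ofAdd u)) ∈ commutator (TwistedProd β) := by
      have hc := TwistedProd.commutator_lift (β := β) (Additive.toMul g) (Additive.toMul h) (mul_comm _ _)
      have hval : β.toFun (Additive.toMul g) (Additive.toMul h) -
          β.toFun (Additive.toMul h) (Additive.toMul g) = u := rfl
      rw [hval] at hc
      have : TwistedProd.incl β (Multiplicative.ofAdd u) = (⟨u, 1⟩ : TwistedProd β) := rfl
      rw [this, ← hc, commutator_eq_closure]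
      exact Subgroup.subset_closure (commutator_mem_commutatorSet _ _)
    have hstem : Cfsg.IsStemExtension (TwistedProd.proj β) := by
      refine ⟨TwistedProd.proj_surjective, TwistedProd.ker_le_center, ?_⟩
      intro x hx
      rw [← TwistedProd.range_incl] at hx
      obtain ⟨a, rfl⟩ := hx
      have : a = (Multiplicative.ofAdd u) ^ (Multiplicative.toAdd a * u⁻¹).val := by
        rw [← ofAdd_nsmul]
        apply Multiplicative.toAdd.injective
        rw [toAdd_ofAdd, nsmul_eq_mul, ZMod.natCast_zmod_val, mul_assoc, inv_mul_cancel₀ hne, mul_one]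
      rw [this, map_pow]
      exact Subgroup.pow_mem _ hcomm _
    have hker := ker_eq_bot_of_hasCyclicSchurMultiplier_one hM (TwistedProd β) (TwistedProd.proj β) hstem
    have hmem : TwistedProd.incl β (Multiplicative.ofAdd (1 : ZMod q)) ∈ (TwistedProd.proj β).ker := by
      rw [← TwistedProd.range_incl]; exact ⟨_, rfl⟩
    rw [hker, Subgroup.mem_bot] at hmem
    have := congrArg TwistedProd.fst hmem
    simp at this
  · intro hG
    exact Cfsg.Agent.S3979.result

end Cfsg.Agent.S3950
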