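import Cfsg.Statements.S3953
import Cfsg.Agent.Helper66.SylowMult
import Cfsg.Agent.S3952

set_option autoImplicit false
set_option linter.style.haveILetI false
open Cfsg

namespace Cfsg.Agent.S3953

open Cfsg.Agent.Helper66 in
/-- Let `P` be a Sylow `p`-subgroup of the finite group `G`, let `A` be the Schur multiplier of `G` and `B` that of `P`. Then the `p`-primary component of `A` is isomorphic to a direct factor of `B`: there are subgroups `C` and `D` of `B` meeting trivially and generating `B`, with `C` isomorphic to the `p`-primary component of `A`. -/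
theorem result {G : Type*} [Group G] [Finite G] (p : ℕ) [Fact p.Prime] (P : Sylow p G) {A B : Type*} [CommGroup A] [CommGroup B] (hA : Cfsg.HasSchurMultiplier G A) (hB : Cfsg.HasSchurMultiplier P B) : ∃ C D : Subgroup B, C ⊓ D = ⊥ ∧ C ⊔ D = ⊤ ∧ Nonempty (CommGroup.primaryComponent A p ≃* C) := by
  classical
  have hB' : Cfsg.HasSchurMultiplier (P : Subgroup G) B := hB
  obtain ⟨eA⟩ := nonempty_mulEquiv_of_hasSchurMultiplier hA (hasSchurMultiplier_schurT G)
  obtain ⟨eB⟩ := nonempty_mulEquiv_of_hasSchurMultiplier hB'
    (hasSchurMultiplier_schurT (P : Subgroup G))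
  -- the multiplier of `P` is a `p`-group
  have hTP : IsPGroup p (schurT (P : Subgroup G)) := by
    have h1 := Cfsg.Agent.S3952.result (hasSchurMultiplier_schurT (P : Subgroup G))
    obtain ⟨k, hk⟩ := IsPGroup.iff_card.mp P.2
    have hk' : Nat.card (P : Subgroup G) = p ^ k := hk
    rw [hk'] at h1
    have h2 : Monoid.exponent (schurT (P : Subgroup G)) ∣ p ^ k :=
      (Dvd.intro_left _ (pow_two _).symm).trans h1
    intro a
    refine ⟨k, ?_⟩
    obtain ⟨c, hc⟩ := h2
    rw [hc, pow_mul, Monoid.pow_exponent_eq_one, one_pow]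
  -- the group `K`
  letI : CommGroup (multS (P : Subgroup G)) :=
    { (inferInstance : Group (multS (P : Subgroup G))) with
      mul_comm := fun a b => Subtype.ext
        (Subgroup.mem_center_iff.mp (ker_rhoS_le_center (P : Subgroup G) b.2.1) a) }
  obtain ⟨eK⟩ := nonempty_multS_mulEquiv (P : Subgroup G)
  have hK : IsPGroup p (multS (P : Subgroup G)) := hTP.of_equiv eK.symm
  obtain ⟨res, cor, hrc⟩ := exists_res_cor (P : Subgroup G)
  have hm : ((P : Subgroup G).index).Coprime p := by
    rw [Nat.coprime_comm, Nat.Prime.coprime_iff_not_dvd Fact.out]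
    exact P.not_dvd_index
  obtain ⟨C, D, hCD, hCD', ⟨eC⟩⟩ :=
    exists_direct_factor_of_res_cor p hK _ hm res cor hrc
  let e : multS (P : Subgroup G) ≃* B := eK.trans eB.symm
  refine ⟨C.map e.toMonoidHom, D.map e.toMonoidHom, ?_, ?_, ?_⟩
  · rw [← Subgroup.map_inf _ _ _ e.injective, hCD, Subgroup.map_bot]
  · rw [← Subgroup.map_sup, hCD', ← MonoidHom.range_eq_map, MonoidHom.range_eq_top]
    exact e.surjective
  · -- transport the primary component
    have hmap : (CommGroup.primaryComponent A p).map eA.toMonoidHom =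
        CommGroup.primaryComponent (schurT G) p := by
      ext x
      constructor
      · rintro ⟨a, ha, rfl⟩
        obtain ⟨n, hn⟩ := CommGroup.mem_primaryComponent.mp ha
        exact CommGroup.mem_primaryComponent.mpr ⟨n, by
          change eA a ^ p ^ n = 1
          rw [← map_pow, hn, map_one]⟩
      · intro hx
        obtain ⟨n, hn⟩ := CommGroup.mem_primaryComponent.mp hx
        refine ⟨eA.symm x, CommGroup.mem_primaryComponent.mpr ⟨n, ?_⟩, by simp⟩
        rw [← map_pow, hn, map_one]
    let e1 : CommGroup.primaryComponent A p ≃* (CommGroup.primaryComponent A p).map eA.toMonoidHom :=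
      eA.subgroupMap _
    let e2 : (CommGroup.primaryComponent A p).map eA.toMonoidHom ≃*
        CommGroup.primaryComponent (schurT G) p := MulEquiv.subgroupCongr hmap
    let e3 : C ≃* C.map e.toMonoidHom := e.subgroupMap C
    exact ⟨(e1.trans e2).trans (eC.trans e3)⟩

end Cfsg.Agent.S3953
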