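import Mathlib
import Cfsg.Statements.S3954
import Cfsg.Agent.Helper66.SchurTransfer

set_option autoImplicit false
open Cfsg

namespace Cfsg.Agent.S3954

open Cfsg.Agent.Helper66

/-- Let `U` be a subgroup of index `m` in the finite group `G`, let `A` be the Schur multiplier of `G` and `B` that of `U`. Then the subgroup of `m`-th powers of `A` is isomorphic to a subgroup of `B`. -/
theorem result {G : Type*} [Group G] [Finite G] (U : Subgroup G) {A B : Type*} [CommGroup A] [CommGroup B] (hA : Cfsg.HasSchurMultiplier G A) (hB : Cfsg.HasSchurMultiplier U B) : ∃ C : Subgroup B, Nonempty ((powMonoidHom U.index : A →* A).range ≃* C) := by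
  obtain ⟨eA⟩ := (hasSchurMultiplier_iff G A).mp hA
  obtain ⟨eB⟩ := (hasSchurMultiplier_iff U B).mp hB
  obtain ⟨C, ⟨e⟩⟩ := exists_pow_index_range_mulEquiv U
  have hmap : (powMonoidHom U.index : A →* A).range.map eA.toMonoidHom =
      (powMonoidHom U.index : schurT G →* schurT G).range := by
    ext x
    constructor
    · rintro ⟨_, ⟨a, rfl⟩, rfl⟩
      exact ⟨eA a, by simp⟩
    · rintro ⟨t, rfl⟩
      refine ⟨(eA.symm t) ^ U.index, ⟨eA.symm t, rfl⟩, ?_⟩
      simp
  let e1 : (powMonoidHom U.index : A →* A).range ≃*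
      (powMonoidHom U.index : A →* A).range.map eA.toMonoidHom :=
    eA.subgroupMap _
  let e2 : (powMonoidHom U.index : A →* A).range.map eA.toMonoidHom ≃*
      (powMonoidHom U.index : schurT G →* schurT G).range := MulEquiv.subgroupCongr hmap
  let e3 : C ≃* C.map eB.symm.toMonoidHom := eB.symm.subgroupMap C
  exact ⟨C.map eB.symm.toMonoidHom, ⟨(e1.trans e2).trans (e.trans e3)⟩⟩

end Cfsg.Agent.S3954
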