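import Mathlib
import Cfsg.Statements.S3957
import Cfsg.Agent.Helper66.SchurMult

set_option autoImplicit false
universe u v
open Cfsg

namespace Cfsg.Agent.S3957

open Cfsg.Agent.Helper66

/-- Let `Q` be a finite group with Schur multiplier `A` and let `τ : Δ →* Q` be a finite stem extension, `Δ` in the universe of `Q`. Then there is a finite stem extension `σ : Γ →* Q` with kernel isomorphic to `A` (a Schur covering group) and a surjective homomorphism `β : Γ →* Δ` with `τ ∘ β = σ`. -/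
theorem result {Q : Type u} [Group Q] [Finite Q] {A : Type v} [CommGroup A] (hA : Cfsg.HasSchurMultiplier Q A) {Δ : Type u} [Group Δ] [Finite Δ] (τ : Δ →* Q) (hτ : Cfsg.IsStemExtension τ) : ∃ (Γ : Type u) (_ : Group Γ) (_ : Finite Γ) (σ : Γ →* Q), Cfsg.IsStemExtension σ ∧ Nonempty (σ.ker ≃* A) ∧ ∃ β : Γ →* Δ, Function.Surjective β ∧ τ.comp β = σ := by
  classical
  obtain ⟨hs, hc, hd⟩ := hτ
  obtain ⟨ψ, hψ, hmap⟩ := exists_schur_lift τ hs hc
  rw [inf_eq_left.mpr hd] at hmap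
  have hψs : Function.Surjective ψ :=
    surjective_of_stem (schurRho Q) (schurRho_surjective Q) τ hc hd ψ hψ
  have hN : ψ.ker ≤ (schurRho Q).ker := by
    intro x hx
    rw [MonoidHom.mem_ker] at hx ⊢
    rw [← hψ, MonoidHom.comp_apply, hx, map_one]
  have hNT : (schurRho Q).ker ≤ ψ.ker ⊔ schurT Q := by
    intro x hx
    have hx' : ψ x ∈ τ.ker := by
      rw [MonoidHom.mem_ker] at hx ⊢
      rw [← hx, ← hψ, MonoidHom.comp_apply]
    rw [← hmap] at hx'
    obtain ⟨t, ht, hte⟩ := hx'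
    have h1 : x * t⁻¹ ∈ ψ.ker := by
      rw [MonoidHom.mem_ker, map_mul, map_inv, hte, mul_inv_cancel]
    have : x = (x * t⁻¹) * t := by group
    rw [this]
    exact Subgroup.mul_mem _ (Subgroup.mem_sup_left h1) (Subgroup.mem_sup_right ht)
  obtain ⟨S, hSn, hS, hSN, hfin, hstem, ⟨e⟩⟩ := exists_cover_le Q ψ.ker hN hNT
  obtain ⟨eA⟩ := (hasSchurMultiplier_iff Q A).mp hA
  refine ⟨SchurH Q ⧸ S, inferInstance, hfin, QuotientGroup.lift S (schurRho Q) hS, hstem,
    ⟨e.trans eA.symm⟩, QuotientGroup.lift S ψ hSN, ?_, ?_⟩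
  · intro d
    obtain ⟨h, rfl⟩ := hψs d
    exact ⟨QuotientGroup.mk h, by simp⟩
  · ext x
    simp [← hψ]

end Cfsg.Agent.S3957
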