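import Mathlib
import Cfsg.Statements.S3958
import Cfsg.Agent.Helper66.SchurMult2

set_option autoImplicit false
universe u v
open Cfsg

namespace Cfsg.Agent.S3958

open Cfsg.Agent.Helper66

theorem result {Q : Type u} [Group Q] [Finite Q] {Γ : Type v} [Group Γ] [Finite Γ] (σ : Γ →* Q) (hσ : Cfsg.IsStemExtension σ) (hΓ : Cfsg.HasCyclicSchurMultiplier Γ 1) (Δ : Type u) [Group Δ] [Finite Δ] (τ : Δ →* Q) (hτ : Cfsg.IsStemExtension τ) : ∃ π : σ.ker →* τ.ker, Function.Surjective π := by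
  classical
  obtain ⟨θ, hθ⟩ := exists_surjective_schurT_ker τ hτ
  obtain ⟨hs, hc, hd⟩ := hσ
  obtain ⟨ψ, hψ, hmap⟩ := exists_schur_lift σ hs hc
  rw [inf_eq_left.mpr hd] at hmap
  have hψs : Function.Surjective ψ :=
    surjective_of_stem (schurRho Q) (schurRho_surjective Q) σ hc hd ψ hψ
  have hN : ψ.ker ≤ (schurRho Q).ker := by
    intro x hx
    rw [MonoidHom.mem_ker] at hx ⊢
    rw [← hψ, MonoidHom.comp_apply, hx, map_one]
  have hNT : (schurRho Q).ker ≤ ψ.ker ⊔ schurT Q := by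
    intro x hx
    have hx' : ψ x ∈ σ.ker := by
      rw [MonoidHom.mem_ker] at hx ⊢
      rw [← hx, ← hψ, MonoidHom.comp_apply]
    rw [← hmap] at hx'
    obtain ⟨t, ht, hte⟩ := hx'
    have h1 : x * t⁻¹ ∈ ψ.ker := by
      rw [MonoidHom.mem_ker, map_mul, map_inv, hte, mul_inv_cancel]
    have : x = (x * t⁻¹) * t := by group
    rw [this]
    exact Subgroup.mul_mem _ (Subgroup.mem_sup_left h1) (Subgroup.mem_sup_right ht)
  obtain ⟨S, hSn, hS, hSN, hfin, hstem, ⟨e⟩⟩ := exists_cover_le Q ψ.ker hN hNT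
  -- the induced map `β : H ⧸ S →* Γ`
  have hβs : Function.Surjective (QuotientGroup.lift S ψ hSN) := by
    intro d
    obtain ⟨h, rfl⟩ := hψs d
    exact ⟨QuotientGroup.mk h, by simp⟩
  have hcomp : σ.comp (QuotientGroup.lift S ψ hSN) = QuotientGroup.lift S (schurRho Q) hS := by
    ext x
    simp [← hψ]
  have hβstem : Cfsg.IsStemExtension (QuotientGroup.lift S ψ hSN) :=
    isStemExtension_of_comp σ _ hβs (hcomp ▸ hstem)
  have hβker : (QuotientGroup.lift S ψ hSN).ker = ⊥ :=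
    ker_eq_bot_of_hasCyclicSchurMultiplier_one' hΓ _ _ hβstem
  have hβi : Function.Injective (QuotientGroup.lift S ψ hSN) :=
    (MonoidHom.ker_eq_bot_iff _).mp hβker
  let βe : (SchurH Q ⧸ S) ≃* Γ := MulEquiv.ofBijective (QuotientGroup.lift S ψ hSN) ⟨hβi, hβs⟩
  have hβe : ∀ x, σ (βe x) = QuotientGroup.lift S (schurRho Q) hS x := fun x => by
    rw [← hcomp]; rfl
  have hmem : ∀ x : σ.ker, βe.symm x.1 ∈ (QuotientGroup.lift S (schurRho Q) hS).ker := fun x => by
    rw [MonoidHom.mem_ker, ← hβe, MulEquiv.apply_symm_apply]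
    exact x.2
  let g : σ.ker →* (QuotientGroup.lift S (schurRho Q) hS).ker :=
    { toFun := fun x => ⟨βe.symm x.1, hmem x⟩
      map_one' := by apply Subtype.ext; simp
      map_mul' := fun a b => by apply Subtype.ext; simp }
  have hg : Function.Surjective g := by
    rintro ⟨y, hy⟩
    have : βe y ∈ σ.ker := by
      rw [MonoidHom.mem_ker, hβe]; exact hy
    refine ⟨⟨βe y, this⟩, ?_⟩
    apply Subtype.ext
    show βe.symm (βe y) = y
    simp
  exact ⟨θ.comp (e.toMonoidHom.comp g), hθ.comp (e.surjective.comp hg)⟩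

end Cfsg.Agent.S3958
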