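import Mathlib
import Cfsg.Statements.S3960
import Cfsg.Agent.Helper66.PerfectCover

set_option autoImplicit false
universe u
open Cfsg

namespace Cfsg.Agent.S3960

open Cfsg.Agent.Helper66

/-- A finite perfect group `Q` has a universal central extension: a finite perfect group `G` in the universe of `Q` and a surjective homomorphism `π : G →* Q` with central kernel such that for every group `X` in that universe and every surjective homomorphism `ξ : X →* Q` with central kernel there is exactly one homomorphism `η : G →* X` with `ξ ∘ η = π`. -/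
theorem result {Q : Type u} [Group Q] [Finite Q] (hQ : Group.IsPerfect Q) : ∃ (G : Type u) (_ : Group G) (_ : Finite G) (π : G →* Q), Group.IsPerfect G ∧ Function.Surjective π ∧ π.ker ≤ Subgroup.center G ∧ ∀ (X : Type u) [Group X] (ξ : X →* Q), Function.Surjective ξ → ξ.ker ≤ Subgroup.center X → ∃! η : G →* X, ξ.comp η = π := by
  let φ : FreeGroup Q →* Q := FreeGroup.lift (id : Q → Q)
  have hφ : Function.Surjective φ := fun q => ⟨FreeGroup.of q, by simp [φ]⟩
  have hρ := rho_surjective φ hφ
  have hc := ker_rho_le_center φ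
  have hperf := isPerfect_commutator_of_central hQ (rho φ) hρ hc
  refine ⟨commutator (CoverH φ), inferInstance, finite_commutator_coverH φ hφ,
    (rho φ).comp (commutator (CoverH φ)).subtype, hperf, ?_, ?_, ?_⟩
  · intro q
    obtain ⟨h, rfl⟩ := hρ q
    obtain ⟨h', hh', z, hz, rfl⟩ := exists_mem_commutator_mul_ker hQ (rho φ) hρ h
    refine ⟨⟨h', hh'⟩, ?_⟩
    show rho φ h' = rho φ (h' * z)
    rw [map_mul, MonoidHom.mem_ker.mp hz, mul_one]
  · intro k hk
    rw [Subgroup.mem_center_iff]
    intro g
    apply Subtype.ext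
    have hk' : (k : CoverH φ) ∈ (rho φ).ker := hk
    exact Subgroup.mem_center_iff.mp (hc hk') g
  · intro X _ ξ hξs hξc
    obtain ⟨ψ, hψ⟩ := exists_lift φ ξ hξs hξc
    refine ⟨ψ.comp (commutator (CoverH φ)).subtype, ?_, ?_⟩
    · show ξ.comp (ψ.comp _) = _
      rw [← MonoidHom.comp_assoc, hψ]
    · intro η hη
      apply eq_of_comp_eq_of_isPerfect hperf ξ hξc
      rw [hη, ← MonoidHom.comp_assoc, hψ]

end Cfsg.Agent.S3960
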