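import Mathlib
import Cfsg.Statements.S3961
import Cfsg.Agent.Helper66.PerfectCover2

set_option autoImplicit false
universe u v
open Cfsg

namespace Cfsg.Agent.S3961

open Cfsg.Agent.Helper66

/-- Let `π : G →* Q` be a surjective homomorphism with central kernel from a finite perfect group `G` (a perfect cover of `Q`). Then `π` is universal, in the sense that every surjective homomorphism `ξ : X →* Q` with central kernel from a group `X` in the universe of `G` admits a homomorphism `η : G →* X` with `ξ ∘ η = π`, if and only if `G` has trivial Schur multiplier. -/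
theorem result {G : Type u} {Q : Type v} [Group G] [Group Q] [Finite G] (hG : Group.IsPerfect G) (π : G →* Q) (hπ : Function.Surjective π) (hker : π.ker ≤ Subgroup.center G) : (∀ (X : Type u) [Group X] (ξ : X →* Q), Function.Surjective ξ → ξ.ker ≤ Subgroup.center X → ∃ η : G →* X, ξ.comp η = π) ↔ Cfsg.HasCyclicSchurMultiplier G 1 := by
  constructor
  · intro huniv
    apply hasCyclicSchurMultiplier_one_of_forall
    intro Γ _ _ σ hσ
    have hΓ := isPerfect_of_isStemExtension hG σ hσ
    have hcen := ker_comp_le_center_of_isStemExtension hG σ hσ π hker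
    obtain ⟨η, hη⟩ := huniv Γ (π.comp σ) (hπ.comp hσ.1) hcen
    -- `σ ∘ η = id`
    have h1 : σ.comp η = MonoidHom.id G := by
      apply eq_of_comp_eq_of_isPerfect hG π hker
      rw [← MonoidHom.comp_assoc, hη, MonoidHom.comp_id]
    -- `η ∘ σ = id`
    have h2 : η.comp σ = MonoidHom.id Γ := by
      apply eq_of_comp_eq_of_isPerfect hΓ σ hσ.2.1
      rw [← MonoidHom.comp_assoc, h1, MonoidHom.id_comp, MonoidHom.comp_id]
    rw [eq_bot_iff]
    intro x hx
    rw [MonoidHom.mem_ker] at hx
    have : η (σ x) = x := by
      have := congrArg (fun f => f x) h2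
      simpa using this
    rw [hx, map_one] at this
    rw [Subgroup.mem_bot]
    exact this.symm
  · intro hM X _ ξ hξs hξc
    obtain ⟨e⟩ := (hasSchurMultiplier_iff G _).mp hM
    have hsub : Subsingleton (schurT G) := by
      have : Subsingleton (Multiplicative (ZMod 1)) := by
        change Subsingleton (Multiplicative (Fin 1)); infer_instance
      exact e.symm.injective.subsingleton
    -- the commutator subgroup of `SchurH G` maps isomorphically onto `G`
    let ε : commutator (SchurH G) →* G := (schurRho G).comp (commutator (SchurH G)).subtype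
    have hεs : Function.Surjective ε := by
      intro g
      obtain ⟨h, rfl⟩ := schurRho_surjective G g
      obtain ⟨h', hh', z, hz, rfl⟩ :=
        exists_mem_commutator_mul_ker hG (schurRho G) (schurRho_surjective G) h
      refine ⟨⟨h', hh'⟩, ?_⟩
      show schurRho G h' = schurRho G (h' * z)
      rw [map_mul, MonoidHom.mem_ker.mp hz, mul_one]
    have hεi : Function.Injective ε := by
      rw [← MonoidHom.ker_eq_bot_iff, eq_bot_iff]
      rintro ⟨x, hx⟩ hk
      have hk' : schurRho G x = 1 := hk
      have hxT : x ∈ schurT G := ⟨hk', hx⟩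
      have : (⟨x, hxT⟩ : schurT G) = 1 := Subsingleton.elim _ _
      have hx1 : x = 1 := congrArg Subtype.val this
      rw [Subgroup.mem_bot]
      apply Subtype.ext
      exact hx1
    let εe : commutator (SchurH G) ≃* G := MulEquiv.ofBijective ε ⟨hεi, hεs⟩
    -- the pullback of `π` and `ξ` is a central extension of `G`
    obtain ⟨ψ, hψ, -⟩ := exists_schur_lift (pullbackFst π ξ) (pullbackFst_surjective π ξ hξs)
      (ker_pullbackFst_le_center π ξ hξc)
    refine ⟨(pullbackSnd π ξ).comp (ψ.comp ((commutator (SchurH G)).subtype.comp
      εe.symm.toMonoidHom)), ?_⟩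
    ext g
    have hcomm := congrArg (fun f => f (ψ (εe.symm g))) (pullback_comm π ξ)
    have hψ' := congrArg (fun f => f ((εe.symm g : commutator (SchurH G)) : SchurH G)) hψ
    simp only [MonoidHom.comp_apply] at hcomm hψ'
    show ξ (pullbackSnd π ξ (ψ (εe.symm g))) = π g
    rw [← hcomm, hψ']
    have : schurRho G ((εe.symm g : commutator (SchurH G)) : SchurH G) = εe (εe.symm g) := rfl
    rw [this, MulEquiv.apply_symm_apply]

end Cfsg.Agent.S3961
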