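import Cfsg.Statements.S3962

set_option autoImplicit false
open Cfsg

namespace Cfsg.Agent.S3962

/-- Let `G` be a perfect group and `π : G →* Q` a surjective homomorphism whose kernel is central. Then `π` maps the centre of `G` onto the centre of `Q`. Taking `π` to be the map to `G ⧸ Z(G)` shows that the central quotient of a perfect group has trivial centre. -/
theorem result {G Q : Type*} [Group G] [Group Q] (hG : Group.IsPerfect G) (π : G →* Q) (hπ : Function.Surjective π) (hker : π.ker ≤ Subgroup.center G) : (Subgroup.center G).map π = Subgroup.center Q := by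
  apply le_antisymm
  · rintro _ ⟨z, hz, rfl⟩
    rw [Subgroup.mem_center_iff]
    intro q
    obtain ⟨g, rfl⟩ := hπ q
    rw [← map_mul, ← map_mul, (Subgroup.mem_center_iff.mp hz) g]
  · intro q hq
    obtain ⟨g, rfl⟩ := hπ q
    refine ⟨g, ?_, rfl⟩
    -- for every x, g x g⁻¹ x⁻¹ is central
    have hc : ∀ x : G, g * x * g⁻¹ * x⁻¹ ∈ Subgroup.center G := by
      intro x
      apply hker
      rw [MonoidHom.mem_ker]
      have := (Subgroup.mem_center_iff.mp hq) (π x)
      simp only [map_mul, map_inv]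
      rw [← this]
      group
    have hcomm : commutatorSet G ⊆ (Subgroup.centralizer ({g} : Set G) : Set G) := by
      rintro _ ⟨x, y, rfl⟩
      rw [SetLike.mem_coe, Subgroup.mem_centralizer_singleton_iff]
      have hx := Subgroup.mem_center_iff.mp (hc x)
      have hy := Subgroup.mem_center_iff.mp (hc y)
      -- g x = c_x x g
      have ex : g * x = (g * x * g⁻¹ * x⁻¹) * x * g := by group
      have ey : g * y = (g * y * g⁻¹ * y⁻¹) * y * g := by group
      set cx := g * x * g⁻¹ * x⁻¹ with hcx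
      set cy := g * y * g⁻¹ * y⁻¹ with hcy
      have ex' : g * x⁻¹ = cx⁻¹ * x⁻¹ * g := by
        have : x * g = cx⁻¹ * (g * x) := by rw [ex]; group
        calc g * x⁻¹ = x⁻¹ * (x * g) * x⁻¹ := by group
          _ = x⁻¹ * (cx⁻¹ * (g * x)) * x⁻¹ := by rw [this]
          _ = (x⁻¹ * cx⁻¹) * g := by group
          _ = cx⁻¹ * x⁻¹ * g := by
            have h1 : x⁻¹ * cx⁻¹ = cx⁻¹ * x⁻¹ := by
              have := hx x
              have h2 : cx * x = x * cx := (hx x).symm
              calc x⁻¹ * cx⁻¹ = (cx * x)⁻¹ := by group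
                _ = (x * cx)⁻¹ := by rw [h2]
                _ = cx⁻¹ * x⁻¹ := by group
            rw [h1]
      have ey' : g * y⁻¹ = cy⁻¹ * y⁻¹ * g := by
        have : y * g = cy⁻¹ * (g * y) := by rw [ey]; group
        calc g * y⁻¹ = y⁻¹ * (y * g) * y⁻¹ := by group
          _ = y⁻¹ * (cy⁻¹ * (g * y)) * y⁻¹ := by rw [this]
          _ = (y⁻¹ * cy⁻¹) * g := by group
          _ = cy⁻¹ * y⁻¹ * g := by
            have h1 : y⁻¹ * cy⁻¹ = cy⁻¹ * y⁻¹ := by
              have h2 : cy * y = y * cy := (hy y).symm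
              calc y⁻¹ * cy⁻¹ = (cy * y)⁻¹ := by group
                _ = (y * cy)⁻¹ := by rw [h2]
                _ = cy⁻¹ * y⁻¹ := by group
            rw [h1]
      -- g * ⁅x, y⁆ = ⁅x,y⁆ * g
      rw [commutatorElement_def]
      have hxinv : ∀ z : G, z * cx⁻¹ = cx⁻¹ * z := fun z => by
        have := hx z
        calc z * cx⁻¹ = cx⁻¹ * (cx * z) * cx⁻¹ := by group
          _ = cx⁻¹ * (z * cx) * cx⁻¹ := by rw [(hx z).symm]
          _ = cx⁻¹ * z := by group
      have hyinv : ∀ z : G, z * cy⁻¹ = cy⁻¹ * z := fun z => by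
        calc z * cy⁻¹ = cy⁻¹ * (cy * z) * cy⁻¹ := by group
          _ = cy⁻¹ * (z * cy) * cy⁻¹ := by rw [(hy z).symm]
          _ = cy⁻¹ * z := by group
      symm
      calc g * (x * y * x⁻¹ * y⁻¹) = (g * x) * y * x⁻¹ * y⁻¹ := by group
        _ = cx * x * g * y * x⁻¹ * y⁻¹ := by rw [ex]
        _ = cx * x * (g * y) * x⁻¹ * y⁻¹ := by group
        _ = cx * x * (cy * y * g) * x⁻¹ * y⁻¹ := by rw [ey]
        _ = cx * x * cy * y * (g * x⁻¹) * y⁻¹ := by group
        _ = cx * x * cy * y * (cx⁻¹ * x⁻¹ * g) * y⁻¹ := by rw [ex']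
        _ = cx * x * cy * y * cx⁻¹ * x⁻¹ * (g * y⁻¹) := by group
        _ = cx * x * cy * y * cx⁻¹ * x⁻¹ * (cy⁻¹ * y⁻¹ * g) := by rw [ey']
        _ = cx * (x * cy) * (y * cx⁻¹) * (x⁻¹ * cy⁻¹) * y⁻¹ * g := by group
        _ = cx * (cy * x) * (cx⁻¹ * y) * (cy⁻¹ * x⁻¹) * y⁻¹ * g := by
            rw [hy x, hxinv y, hyinv x⁻¹]
        _ = cx * cy * (x * cx⁻¹) * (y * cy⁻¹) * x⁻¹ * y⁻¹ * g := by group
        _ = cx * cy * (cx⁻¹ * x) * (cy⁻¹ * y) * x⁻¹ * y⁻¹ * g := by rw [hxinv x, hyinv y]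
        _ = cx * (cy * cx⁻¹) * (x * cy⁻¹) * y * x⁻¹ * y⁻¹ * g := by group
        _ = cx * (cx⁻¹ * cy) * (cy⁻¹ * x) * y * x⁻¹ * y⁻¹ * g := by rw [hxinv cy, hyinv x]
        _ = x * y * x⁻¹ * y⁻¹ * g := by group
    have hle : commutator G ≤ Subgroup.centralizer ({g} : Set G) := by
      rw [commutator_eq_closure]
      exact (Subgroup.closure_le _).mpr hcomm
    rw [hG.commutator_eq_top] at hle
    show g ∈ Subgroup.center G
    rw [Subgroup.mem_center_iff]
    intro x
    have := hle (Subgroup.mem_top x)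
    rw [Subgroup.mem_centralizer_singleton_iff] at this
    exact this

end Cfsg.Agent.S3962
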