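import Mathlib
import Cfsg.Statements.S3964
import Cfsg.Agent.Helper66.DihedralMult

set_option autoImplicit false
open Cfsg

namespace Cfsg.Agent.S3964

/-- For odd `n` the dihedral group of order `2 n` has trivial Schur multiplier. -/
theorem result (n : ℕ) (hn : Odd n) : Cfsg.HasCyclicSchurMultiplier (DihedralGroup n) 1 := by
  haveI : NeZero n := ⟨by rintro rfl; exact (by decide : ¬ Odd 0) hn⟩
  apply Cfsg.Agent.Helper66.hasCyclicSchurMultiplier_one_of_forall
  intro Γ _ _ σ hσ
  obtain ⟨d, _, hle, _, hodd⟩ := Cfsg.Agent.Helper66.dihedral_stem_ker n σ hσ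
  rw [hodd hn] at hle
  rw [eq_bot_iff]
  intro w hw
  have := hle hw
  rw [Subgroup.zpowers_one_eq_bot] at this
  exact this

end Cfsg.Agent.S3964
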