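import Cfsg.Statements.S3970
import Cfsg.Agent.S3969
-- import your own Cfsg.Agent.* helpers here

set_option autoImplicit false
open Cfsg

namespace Cfsg.Agent.S3970

universe u

/-- A group of prime order has rank at most one. -/
theorem rank_le_one_of_card_prime {H : Type*} [Group H] [Finite H] {p : ℕ} [hp : Fact p.Prime]
    (h : Nat.card H = p) : Group.rank H ≤ 1 := by
  classical
  have hc : IsCyclic H := isCyclic_of_prime_card h
  obtain ⟨g, hg⟩ := hc.exists_generator
  have hcl : Subgroup.closure (({g} : Finset H) : Set H) = ⊤ := by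
    rw [Finset.coe_singleton, ← Subgroup.zpowers_eq_closure, Subgroup.eq_top_iff']
    exact hg
  have := Group.rank_le (G := H) hcl
  simpa using this

theorem sq_sub_one (p : ℕ) (hp : 1 ≤ p) : p ^ 2 - 1 = (p - 1) * (p + 1) := by
  obtain ⟨m, rfl⟩ := Nat.exists_eq_add_of_le hp
  have h1 : (1 + m) ^ 2 = (1 + m - 1) * (1 + m + 1) + 1 := by
    simp only [Nat.add_sub_cancel_left]
    ring
  omega

theorem main : ∀ n : ℕ, ∀ (G : Type u) [Group G] [Finite G], Nat.card G = n →
    (∀ p : ℕ, p.Prime → p ∣ Nat.card G → (∃ q : ℕ, q.Prime ∧ q ∣ Nat.card G ∧ p < q) →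
      ∀ P : Sylow p G, IsMulCommutative (P : Subgroup G) ∧ Group.rank (P : Subgroup G) ≤ 2) →
    ¬ 12 ∣ Nat.card G → Group.IsSolvable G := by
  intro n
  induction n using Nat.strong_induction_on with
  | _ n ih =>
  intro G _ _ hn h h12
  by_cases h1 : Nat.card G = 1
  · have : Subsingleton G := (Nat.card_eq_one_iff_unique.1 h1).1
    infer_instance
  set p := (Nat.card G).minFac with hpdef
  have hp : p.Prime := Nat.minFac_prime h1
  have hpG : p ∣ Nat.card G := Nat.minFac_dvd _
  have hpmin : ∀ r : ℕ, r.Prime → r ∣ Nat.card G → p ≤ r := fun r hr hrG => Nat.minFac_le_of_dvd hr.two_le hrG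
  have : Fact p.Prime := ⟨hp⟩
  by_cases hq : ∃ q : ℕ, q.Prime ∧ q ∣ Nat.card G ∧ p < q
  · -- Sylow `p`-subgroup is abelian of rank at most two
    obtain ⟨P⟩ : Nonempty (Sylow p G) := inferInstance
    obtain ⟨hab, hrk⟩ := h p hp hpG hq P
    -- rank one when `p = 2` and `3 ∣ |G|`
    have hrk' : p = 2 → 3 ∣ Nat.card G → Group.rank ↥(P : Subgroup G) ≤ 1 := by
      intro hp2 h3
      have h4 : ¬ 4 ∣ Nat.card G := by
        intro h4
        apply h12
        have : Nat.Coprime 4 3 := by norm_num
        exact this.mul_dvd_of_dvd_of_dvd h4 h3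
      have hcardP := P.card_eq_multiplicity
      have hfac : (Nat.card G).factorization p = 1 := by
        have hge : 1 ≤ (Nat.card G).factorization p :=
          (hp.dvd_iff_one_le_factorization Nat.card_pos.ne').1 hpG
        have hlt : (Nat.card G).factorization p < 2 := by
          by_contra hcon
          push Not at hcon
          apply h4
          have : p ^ 2 ∣ Nat.card G :=
            (hp.pow_dvd_iff_le_factorization Nat.card_pos.ne').2 hcon
          rw [hp2] at this
          exact this
        omega
      rw [hfac, pow_one] at hcardP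
      exact rank_le_one_of_card_prime hcardP
    have hcop : Nat.Coprime (Nat.card G)
        (∏ i ∈ Finset.Icc 1 (Group.rank ↥(P : Subgroup G)), (p ^ i - 1)) := by
      rw [Nat.coprime_prod_right_iff]
      intro i hi
      rw [Finset.mem_Icc] at hi
      apply Nat.coprime_of_dvd
      intro r hr hrG hri
      have hpr : p ≤ r := hpmin r hr hrG
      have hrp1 : ¬ r ∣ p - 1 := by
        intro hd
        have : r ≤ p - 1 := Nat.le_of_dvd (by have := hp.two_le; omega) hd
        have := hp.two_le
        omega
      have hi2 : i = 1 ∨ i = 2 := by omega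
      rcases hi2 with rfl | rfl
      · rw [pow_one] at hri
        exact hrp1 hri
      · have hfac : p ^ 2 - 1 = (p - 1) * (p + 1) := sq_sub_one p hp.one_lt.le
        rw [hfac] at hri
        rcases (Nat.Prime.dvd_mul hr).1 hri with hd | hd
        · exact hrp1 hd
        · have hle : r ≤ p + 1 := Nat.le_of_dvd (by omega) hd
          have hne : r ≠ p := by
            intro heq
            rw [heq] at hd
            have : p ∣ 1 := (Nat.dvd_add_right (dvd_refl p)).1 hd
            exact hp.one_lt.ne' (Nat.dvd_one.1 this)
          have hr1 : r = p + 1 := by omega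
          -- `p` and `p + 1` both prime: `p = 2`, `r = 3`
          have hp2 : p = 2 := by
            rcases hp.eq_two_or_odd with h2 | hodd
            · exact h2
            · exfalso
              have heven : 2 ∣ r := by rw [hr1]; omega
              have := (Nat.prime_dvd_prime_iff_eq Nat.prime_two hr).1 heven
              have := hp.two_le
              omega
          have hr3 : r = 3 := by rw [hr1, hp2]
          have := hrk' hp2 (hr3 ▸ hrG)
          omega
    obtain ⟨P', N, hNn, hNc⟩ := Cfsg.Agent.S3969.result p P hab hcop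
    have hcardmul : Nat.card ↥N * Nat.card ↥(P' : Subgroup G) = Nat.card G := hNc.card_mul_card
    have hP'card := P'.card_eq_multiplicity
    have hfacpos : 1 ≤ (Nat.card G).factorization p :=
      (hp.dvd_iff_one_le_factorization Nat.card_pos.ne').1 hpG
    have hP'gt : 1 < Nat.card ↥(P' : Subgroup G) := by
      rw [hP'card]
      exact Nat.one_lt_pow (by omega) hp.one_lt
    have hNpos : 0 < Nat.card ↥N := Nat.card_pos
    have hNlt : Nat.card ↥N < n := by
      rw [← hn, ← hcardmul]
      nlinarith
    have hNdvd : Nat.card ↥N ∣ Nat.card G := ⟨_, hcardmul.symm⟩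
    -- `p` does not divide `|N|`
    have hpN : ¬ p ∣ Nat.card ↥N := by
      intro hd
      have e : Nat.card G = p ^ (Nat.card G).factorization p * Nat.card ↥N := by
        rw [← hP'card, mul_comm]; exact hcardmul.symm
      have h2 : p ^ ((Nat.card G).factorization p + 1) ∣ Nat.card G := by
        rw [pow_succ]
        calc p ^ (Nat.card G).factorization p * p ∣ p ^ (Nat.card G).factorization p * Nat.card ↥N :=
              Nat.mul_dvd_mul_left _ hd
          _ = Nat.card G := e.symm
      exact Nat.pow_succ_factorization_not_dvd Nat.card_pos.ne' hp h2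
    -- the hypotheses pass to `N`
    have hNhyp : ∀ r : ℕ, r.Prime → r ∣ Nat.card ↥N → (∃ q : ℕ, q.Prime ∧ q ∣ Nat.card ↥N ∧ r < q) →
        ∀ R : Sylow r ↥N, IsMulCommutative ((R : Subgroup ↥N)) ∧ Group.rank ((R : Subgroup ↥N)) ≤ 2 := by
      intro r hr hrN hqr R
      have : Fact r.Prime := ⟨hr⟩
      have hrp : r ≠ p := fun heq => hpN (heq ▸ hrN)
      obtain ⟨q, hq1, hq2, hq3⟩ := hqr
      have hRcard := R.card_eq_multiplicity
      have hfaceq : (Nat.card ↥N).factorization r = (Nat.card G).factorization r := by
        rw [← hcardmul, hP'card, Nat.factorization_mul hNpos.ne' (pow_ne_zero _ hp.ne_zero)]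
        simp [Nat.factorization_pow, hp.factorization, hrp.symm]
      have hmapcard : Nat.card ↥((R : Subgroup ↥N).map N.subtype) = r ^ (Nat.card G).factorization r := by
        rw [Subgroup.card_map_of_injective (Subgroup.subtype_injective N), hRcard, hfaceq]
      obtain ⟨hab', hrk''⟩ := h r hr (hrN.trans hNdvd) ⟨q, hq1, hq2.trans hNdvd, hq3⟩
        (Sylow.ofCard _ hmapcard)
      rw [Sylow.coe_ofCard] at hab' hrk''
      let e : ↥(R : Subgroup ↥N) ≃* ↥((R : Subgroup ↥N).map N.subtype) :=
        Subgroup.equivMapOfInjective _ _ (Subgroup.subtype_injective N)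
      refine ⟨⟨⟨fun a b => ?_⟩⟩, ?_⟩
      · apply e.injective
        rw [map_mul, map_mul]
        exact mul_comm' _ _
      · rw [Group.rank_congr e]
        exact hrk''
    have hN12 : ¬ 12 ∣ Nat.card ↥N := fun hd => h12 (hd.trans hNdvd)
    have hNsolv : Group.IsSolvable ↥N := ih _ hNlt ↥N rfl hNhyp hN12
    -- the quotient is a `p`-group
    have hQsolv : Group.IsSolvable (G ⧸ N) := by
      have hidx : Nat.card (G ⧸ N) = p ^ (Nat.card G).factorization p := by
        rw [← Subgroup.index_eq_card, ← hP'card]
        have h3 := Subgroup.card_mul_index N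
        rw [← hcardmul] at h3
        exact Nat.eq_of_mul_eq_mul_left hNpos h3
      have hQp : IsPGroup p (G ⧸ N) := IsPGroup.of_card hidx
      have := hQp.isNilpotent
      infer_instance
    exact Group.isSolvable_of_ker_le_range N.subtype (QuotientGroup.mk' N)
      (by rw [QuotientGroup.ker_mk', Subgroup.range_subtype])
  · -- only one prime: `G` is a `p`-group
    push Not at hq
    have hGp : IsPGroup p G := by
      have hall : ∀ r : ℕ, r.Prime → r ∣ Nat.card G → r = p := by
        intro r hr hrG
        have h1 := hpmin r hr hrG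
        have h2 := hq r hr hrG
        omega
      have hcard := Nat.eq_prime_pow_of_unique_prime_dvd Nat.card_pos.ne'
        (fun {r} hr hrG => hall r hr hrG)
      exact IsPGroup.of_card hcard
    have := hGp.isNilpotent
    infer_instance

/-- Let `G` be a finite group such that for every prime `p` dividing its order, other than the largest such prime, the Sylow `p`-subgroups are abelian and generated by at most two elements, and suppose `12` does not divide the order of `G`. Then `G` is solvable. In particular a group of cube-free order not divisible by `12` is solvable. -/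
theorem result {G : Type*} [Group G] [Finite G] (h : ∀ p : ℕ, p.Prime → p ∣ Nat.card G → (∃ q : ℕ, q.Prime ∧ q ∣ Nat.card G ∧ p < q) → ∀ P : Sylow p G, IsMulCommutative (P : Subgroup G) ∧ Group.rank (P : Subgroup G) ≤ 2) (h12 : ¬ 12 ∣ Nat.card G) : Group.IsSolvable G :=
  main _ G rfl h h12

end Cfsg.Agent.S3970
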