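-- S3971: |G| = 2^a n, n odd prime to 3, an element of order 2^(a-1) => normal subgroup of order n (helper52).
import Cfsg.Statements.S3971
import Cfsg.Agent.Helper78.Frobenius

set_option autoImplicit false
open Cfsg

namespace Cfsg.Agent.S3971

/-- Bezout in a group: if `x ^ a ∈ K` and `x ^ b ∈ K` with `a`, `b` coprime, then `x ∈ K`. -/
theorem mem_of_pow_mem_of_coprime {G : Type*} [Group G] {K : Subgroup G} {x : G} {a b : ℕ}
    (hab : a.Coprime b) (ha : x ^ a ∈ K) (hb : x ^ b ∈ K) : x ∈ K := by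
  have h1 : (a : ℤ) * Nat.gcdA a b + (b : ℤ) * Nat.gcdB a b = 1 := by
    have := Nat.gcd_eq_gcd_ab a b
    rw [hab.gcd_eq_one] at this
    exact_mod_cast this.symm
  have h2 : x = (x ^ a) ^ (Nat.gcdA a b) * (x ^ b) ^ (Nat.gcdB a b) := by
    rw [← zpow_natCast x a, ← zpow_natCast x b, ← zpow_mul, ← zpow_mul, ← zpow_add, h1, zpow_one]
  rw [h2]
  exact K.mul_mem (K.zpow_mem ha _) (K.zpow_mem hb _)

/-- A cyclic subgroup has a generator in the ambient group. -/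
theorem exists_zpowers_eq {G : Type*} [Group G] (C : Subgroup G) [hC : IsCyclic C] :
    ∃ d : G, Subgroup.zpowers d = C := by
  obtain ⟨g, hg⟩ := IsCyclic.exists_generator (α := C)
  refine ⟨(g : G), ?_⟩
  ext x
  constructor
  · intro hx
    obtain ⟨j, rfl⟩ := Subgroup.mem_zpowers_iff.mp hx
    exact C.zpow_mem g.2 j
  · intro hx
    obtain ⟨j, hj⟩ := Subgroup.mem_zpowers_iff.mp (hg ⟨x, hx⟩)
    rw [Subgroup.mem_zpowers_iff]
    refine ⟨j, ?_⟩
    have := congrArg Subtype.val hj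
    simpa using this

/-- An odd-order element normalizing a cyclic 2-group centralizes it. -/
theorem conj_eq_self_of_cyclic_two_group {G : Type*} [Group G] (d g : G) (e : ℕ)
    (hd : orderOf d = 2 ^ e) (j : ℕ) (hconj : g * d * g⁻¹ = d ^ j) (m : ℕ) (hm : Odd m)
    (hg : g ^ m = 1) : g * d * g⁻¹ = d := by
  have hiter : ∀ i : ℕ, g ^ i * d * (g ^ i)⁻¹ = d ^ (j ^ i) := by
    intro i
    induction i with
    | zero => simp
    | succ i ih =>
      have e1 : g ^ (i + 1) * d * (g ^ (i + 1))⁻¹ = g * (g ^ i * d * (g ^ i)⁻¹) * g⁻¹ := by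
        rw [pow_succ']; group
      rw [e1, ih, ← conj_pow, hconj, ← pow_mul, pow_succ']
  have h1 := hiter m
  rw [hg] at h1
  simp only [one_mul, inv_one, mul_one] at h1
  -- d = d ^ (j ^ m)
  have h2 : j ^ m ≡ 1 [MOD 2 ^ e] := by
    have : d ^ (j ^ m) = d ^ 1 := by rw [pow_one]; exact h1.symm
    rw [pow_eq_pow_iff_modEq, hd] at this
    exact this
  rcases Nat.eq_zero_or_pos e with rfl | he
  · have hd1 : d = 1 := by
      rw [← orderOf_eq_one_iff, hd, pow_zero]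
    rw [hd1]; group
  have hjodd : Nat.Coprime j (2 ^ e) := by
    apply Nat.Coprime.pow_right
    rw [Nat.coprime_two_right]
    by_contra hev
    rw [Nat.not_odd_iff_even] at hev
    have h3 : j ^ m ≡ 1 [MOD 2] := h2.of_dvd (dvd_pow_self 2 he.ne')
    have hmpos : m ≠ 0 := by
      rintro rfl
      exact (Nat.not_odd_iff_even.mpr (by decide : Even 0)) hm
    have h4 : Even (j ^ m) := hev.pow_of_ne_zero hmpos
    have h5 : j ^ m % 2 = 0 := Nat.even_iff.mp h4
    unfold Nat.ModEq at h3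
    omega
  let u : (ZMod (2 ^ e))ˣ := ZMod.unitOfCoprime j hjodd
  have hu1 : u ^ m = 1 := by
    apply Units.ext
    rw [Units.val_pow_eq_pow_val, ZMod.coe_unitOfCoprime, Units.val_one]
    have := (ZMod.natCast_eq_natCast_iff _ _ _).mpr h2
    push_cast at this
    exact this
  have hu2 : u ^ (2 ^ (e - 1)) = 1 := by
    have h6 := ZMod.pow_totient u
    rw [Nat.totient_prime_pow Nat.prime_two he] at h6
    simpa using h6
  have hord : orderOf u = 1 := by
    have d1 : orderOf u ∣ m := orderOf_dvd_of_pow_eq_one hu1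
    have d2 : orderOf u ∣ 2 ^ (e - 1) := orderOf_dvd_of_pow_eq_one hu2
    have hcop : Nat.Coprime m (2 ^ (e - 1)) := by
      apply Nat.Coprime.pow_right
      exact Nat.coprime_two_right.mpr hm
    exact Nat.eq_one_of_dvd_coprimes hcop d1 d2
  have hu : u = 1 := orderOf_eq_one_iff.mp hord
  have hj1 : ((j : ℕ) : ZMod (2 ^ e)) = ((1 : ℕ) : ZMod (2 ^ e)) := by
    have := congrArg Units.val hu
    rw [ZMod.coe_unitOfCoprime, Units.val_one] at this
    rw [this]; simp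
  rw [ZMod.natCast_eq_natCast_iff] at hj1
  rw [hconj]
  have : d ^ j = d ^ 1 := by
    rw [pow_eq_pow_iff_modEq, hd]; exact hj1
  rw [this, pow_one]


/-- `M` behaves like an index-2 subgroup of `Q` on elements of `Q`. -/
def IsHalf {G : Type*} [Group G] (M Q : Subgroup G) : Prop :=
  ∀ u ∈ Q, ∀ v ∈ Q, (u * v ∈ M ↔ (u ∈ M ↔ v ∈ M))

theorem isHalf_self {G : Type*} [Group G] (Q : Subgroup G) : IsHalf Q Q := by
  intro u hu v hv
  simp [hu, hv, Q.mul_mem hu hv]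

theorem half_ext {G : Type*} [Group G] {Q M M' D₀ : Subgroup G} {d y : G}
    (hD₀ : Subgroup.zpowers d = D₀) (hD₀Q : D₀ ≤ Q) (hD₀half : IsHalf D₀ Q) (hy : y ∈ Q) (hyD : y ∉ D₀)
    (hM : IsHalf M Q) (hM' : IsHalf M' Q) (hMQ : M ≤ Q) (hM'Q : M' ≤ Q)
    (hd : d ∈ M ↔ d ∈ M') (hy' : y ∈ M ↔ y ∈ M') : M = M' := by
  let K : Subgroup G :=
    { carrier := {u | u ∈ Q ∧ (u ∈ M ↔ u ∈ M')}
      one_mem' := ⟨Q.one_mem, by simp [M.one_mem, M'.one_mem]⟩
      mul_mem' := by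
        rintro u v ⟨hu, hu'⟩ ⟨hv, hv'⟩
        refine ⟨Q.mul_mem hu hv, ?_⟩
        rw [hM u hu v hv, hM' u hu v hv, hu', hv']
      inv_mem' := by
        rintro u ⟨hu, hu'⟩
        exact ⟨Q.inv_mem hu, by rw [M.inv_mem_iff, M'.inv_mem_iff]; exact hu'⟩ }
  have hdQ : d ∈ Q := hD₀Q (hD₀ ▸ Subgroup.mem_zpowers d)
  have hdK : d ∈ K := ⟨hdQ, hd⟩
  have hyK : y ∈ K := ⟨hy, hy'⟩
  have hD₀K : D₀ ≤ K := by rw [← hD₀, Subgroup.zpowers_le]; exact hdK
  have hQK : ∀ u ∈ Q, u ∈ K := by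
    intro u hu
    by_cases huD : u ∈ D₀
    · exact hD₀K huD
    · have hyinv : y⁻¹ ∉ D₀ := fun h => hyD (by simpa using D₀.inv_mem h)
      have h1 : y⁻¹ * u ∈ D₀ := by
        rw [hD₀half y⁻¹ (Q.inv_mem hy) u hu]
        exact ⟨fun h => absurd h hyinv, fun h => absurd h huD⟩
      have e : u = y * (y⁻¹ * u) := by group
      rw [e]
      exact K.mul_mem hyK (hD₀K h1)
  ext u
  constructor
  · intro hu; exact ((hQK u (hMQ hu)).2).mp hu
  · intro hu; exact ((hQK u (hM'Q hu)).2).mpr hu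

/-- conjugate subgroup `t M t⁻¹`. -/
def cj {G : Type*} [Group G] (t : G) (M : Subgroup G) : Subgroup G :=
  M.map (MulAut.conj t).toMonoidHom

theorem mem_cj {G : Type*} [Group G] {t u : G} {M : Subgroup G} :
    u ∈ cj t M ↔ t⁻¹ * u * t ∈ M := by
  unfold cj
  rw [Subgroup.mem_map_equiv]
  simp [MulAut.conj_symm_apply]

theorem conj_mem_of_mem_normalizer {G : Type*} [Group G] {Q : Subgroup G} {t : G}
    (ht : t ∈ Subgroup.normalizer (Q : Set G)) {u : G} (hu : u ∈ Q) : t * u * t⁻¹ ∈ Q :=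
  (Subgroup.mem_normalizer_iff.mp ht u).mp hu

theorem conj_mem_of_mem_normalizer' {G : Type*} [Group G] {Q : Subgroup G} {t : G}
    (ht : t ∈ Subgroup.normalizer (Q : Set G)) {u : G} (hu : u ∈ Q) : t⁻¹ * u * t ∈ Q := by
  have := conj_mem_of_mem_normalizer (Subgroup.inv_mem _ ht) hu
  simpa using this

theorem cj_le {G : Type*} [Group G] {Q M : Subgroup G} {t : G}
    (ht : t ∈ Subgroup.normalizer (Q : Set G)) (hMQ : M ≤ Q) : cj t M ≤ Q := by
  intro u hu
  rw [mem_cj] at hu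
  have := conj_mem_of_mem_normalizer ht (hMQ hu)
  have e : t * (t⁻¹ * u * t) * t⁻¹ = u := by group
  rwa [e] at this

theorem isHalf_cj {G : Type*} [Group G] {Q M : Subgroup G} {t : G}
    (ht : t ∈ Subgroup.normalizer (Q : Set G)) (hM : IsHalf M Q) : IsHalf (cj t M) Q := by
  intro u hu v hv
  rw [mem_cj, mem_cj, mem_cj]
  have e : t⁻¹ * (u * v) * t = (t⁻¹ * u * t) * (t⁻¹ * v * t) := by group
  rw [e]
  exact hM _ (conj_mem_of_mem_normalizer' ht hu) _ (conj_mem_of_mem_normalizer' ht hv)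

/-- If `g` (of odd order) centralizes a half `D₀` of the 2-group `Q` and normalizes `Q`, it centralizes `Q`. -/
theorem centralize_of_half {G : Type*} [Group G] {Q D₀ : Subgroup G} (g : G) (m : ℕ) (hm : Odd m)
    (hg : g ^ m = 1) (hQ2 : IsPGroup 2 Q) (hgQ : g ∈ Subgroup.normalizer (Q : Set G))
    (hhalf : IsHalf D₀ Q) (hgD : ∀ t ∈ D₀, g * t * g⁻¹ = t) :
    ∀ y ∈ Q, g * y * g⁻¹ = y := by
  intro y hy
  by_cases hyD : y ∈ D₀
  · exact hgD y hyD
  set w := g * y * g⁻¹ with hw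
  have hwQ : w ∈ Q := conj_mem_of_mem_normalizer hgQ hy
  have hwD : w ∉ D₀ := by
    intro h
    apply hyD
    have h1 : g * w * g⁻¹ = w := hgD w h
    have h2 : y = w := by
      calc y = g⁻¹ * w * g := by rw [hw]; group
        _ = g⁻¹ * (g * w * g⁻¹) * g := by rw [h1]
        _ = w := by group
    rw [h2]; exact h
  have hyinv : y⁻¹ ∉ D₀ := fun h => hyD (by simpa using D₀.inv_mem h)
  have htD : y⁻¹ * w ∈ D₀ := by
    rw [hhalf y⁻¹ (Q.inv_mem hy) w hwQ]
    exact ⟨fun h => absurd h hyinv, fun h => absurd h hwD⟩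
  set t := y⁻¹ * w with ht
  have hgt : g * t * g⁻¹ = t := hgD t htD
  have hyt : g * y * g⁻¹ = y * t := by rw [ht, ← hw]; group
  have hiter : ∀ i : ℕ, g ^ i * y * (g ^ i)⁻¹ = y * t ^ i := by
    intro i
    induction i with
    | zero => simp
    | succ i ih =>
      have e1 : g ^ (i + 1) * y * (g ^ (i + 1))⁻¹ = g * (g ^ i * y * (g ^ i)⁻¹) * g⁻¹ := by
        rw [pow_succ']; group
      have e2 : g * (y * t ^ i) * g⁻¹ = (g * y * g⁻¹) * (g * t * g⁻¹) ^ i := by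
        rw [conj_pow]; group
      rw [e1, ih, e2, hyt, hgt, pow_succ]; group
  have h1 := hiter m
  rw [hg] at h1
  simp only [one_mul, inv_one, mul_one] at h1
  have htm : t ^ m = 1 := by
    have : y * t ^ m = y * 1 := by rw [mul_one]; exact h1.symm
    exact mul_left_cancel this
  have htQ : t ∈ Q := Q.mul_mem (Q.inv_mem hy) hwQ
  obtain ⟨k, hk⟩ := hQ2 ⟨t, htQ⟩
  have hk' : t ^ 2 ^ k = 1 := by
    have := congrArg Subtype.val hk
    simpa using this
  have d1 : orderOf t ∣ m := orderOf_dvd_of_pow_eq_one htm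
  have d2 : orderOf t ∣ 2 ^ k := orderOf_dvd_of_pow_eq_one hk'
  have hcop : Nat.Coprime m (2 ^ k) := Nat.Coprime.pow_right _ (Nat.coprime_two_right.mpr hm)
  have ht1 : t = 1 := orderOf_eq_one_iff.mp (Nat.eq_one_of_dvd_coprimes hcop d1 d2)
  have hfin : w = y * t := by rw [hw]; exact hyt
  rw [hfin, ht1, mul_one]


/-- If `cj (g^i) D₀ = cj (g^j) D₀` with `i ≤ j` then `g^(j-i)` normalizes `D₀`. -/
theorem pow_sub_mem_normalizer_of_cj_eq {G : Type*} [Group G] {D₀ : Subgroup G} {g : G} {i j : ℕ}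
    (hij : i ≤ j) (h : cj (g ^ i) D₀ = cj (g ^ j) D₀) :
    g ^ (j - i) ∈ Subgroup.normalizer (D₀ : Set G) := by
  rw [Subgroup.mem_normalizer_iff]
  intro u
  have hji : g ^ j = g ^ i * g ^ (j - i) := by rw [← pow_add]; congr 1; omega
  -- g^j u g^-j ∈ cj (g^j) D₀ ↔ u ∈ D₀
  have h1 : g ^ j * u * (g ^ j)⁻¹ ∈ cj (g ^ j) D₀ ↔ u ∈ D₀ := by
    rw [mem_cj]
    have e : (g ^ j)⁻¹ * (g ^ j * u * (g ^ j)⁻¹) * g ^ j = u := by group
    rw [e]
  have h2 : g ^ j * u * (g ^ j)⁻¹ ∈ cj (g ^ i) D₀ ↔ g ^ (j - i) * u * (g ^ (j - i))⁻¹ ∈ D₀ := by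
    rw [mem_cj]
    have e : (g ^ i)⁻¹ * (g ^ j * u * (g ^ j)⁻¹) * g ^ i = g ^ (j - i) * u * (g ^ (j - i))⁻¹ := by
      rw [hji]; group
    rw [e]
  rw [← h1, ← h, h2]

/-- Local statement: odd-order elements of order prime to 3 normalizing a subgroup `Q` of a 2-group `P` with
a cyclic subgroup `D` of index at most 2 centralize `Q`. -/
theorem centralizes_main {G : Type*} [Group G] {P D : Subgroup G} (hP2 : IsPGroup 2 P) (hDP : D ≤ P)
    (hDc : IsCyclic D) (hDhalf : D = P ∨ IsHalf D P) (Q : Subgroup G) (hQP : Q ≤ P) (g : G) (m : ℕ)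
    (hm2 : Odd m) (hm3 : ¬ 3 ∣ m) (hgm : g ^ m = 1) (hgQ : g ∈ Subgroup.normalizer (Q : Set G)) :
    ∀ y ∈ Q, g * y * g⁻¹ = y := by
  classical
  have hQ2 : IsPGroup 2 Q := hP2.to_le hQP
  set D₀ : Subgroup G := Q ⊓ D with hD₀
  haveI : IsCyclic D := hDc
  haveI : IsCyclic D₀ := Subgroup.isCyclic_of_le (inf_le_right : Q ⊓ D ≤ D)
  obtain ⟨d, hd⟩ := exists_zpowers_eq D₀
  have hD₀Q : D₀ ≤ Q := inf_le_left
  have hdD₀ : d ∈ D₀ := hd ▸ Subgroup.mem_zpowers d
  have hdP : d ∈ P := hQP (hD₀Q hdD₀)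
  -- order of d
  obtain ⟨e, he⟩ : ∃ e, orderOf d = 2 ^ e := by
    obtain ⟨k, hk⟩ := hP2 ⟨d, hdP⟩
    have hk' : d ^ 2 ^ k = 1 := by
      have := congrArg Subtype.val hk
      simpa using this
    obtain ⟨e, -, he⟩ := (Nat.dvd_prime_pow Nat.prime_two).mp (orderOf_dvd_of_pow_eq_one hk')
    exact ⟨e, he⟩
  -- if g normalizes D₀ it centralizes it
  have key : g ∈ Subgroup.normalizer (D₀ : Set G) → ∀ t ∈ D₀, g * t * g⁻¹ = t := by
    intro hgD
    have h1 : g * d * g⁻¹ ∈ Subgroup.zpowers d := by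
      rw [hd]; exact conj_mem_of_mem_normalizer hgD hdD₀
    have hfin : IsOfFinOrder d := by
      rw [← orderOf_pos_iff, he]; positivity
    obtain ⟨j, hj⟩ := (Submonoid.mem_powers_iff _ _).1 (hfin.mem_powers_iff_mem_zpowers.2 h1)
    have h2 : g * d * g⁻¹ = d := conj_eq_self_of_cyclic_two_group d g e he j hj.symm m hm2 hgm
    intro t ht
    rw [← hd] at ht
    obtain ⟨z, rfl⟩ := Subgroup.mem_zpowers_iff.mp ht
    rw [← conj_zpow, h2]
  by_cases hDQ : D₀ = Q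
  · rw [← hDQ] at hgQ ⊢
    exact key hgQ
  -- D₀ is a half of Q
  have hDneP : D ≠ P := by
    intro h
    apply hDQ
    rw [hD₀, h]
    exact inf_eq_left.mpr hQP
  have hDh : IsHalf D P := hDhalf.resolve_left hDneP
  have hhalf : IsHalf D₀ Q := by
    intro u hu v hv
    have e1 : ∀ w ∈ Q, (w ∈ D₀ ↔ w ∈ D) := fun w hw => ⟨fun h => h.2, fun h => ⟨hw, h⟩⟩
    rw [e1 _ (Q.mul_mem hu hv), e1 u hu, e1 v hv]
    exact hDh u (hQP hu) v (hQP hv)
  obtain ⟨y, hyQ, hyD⟩ : ∃ y ∈ Q, y ∉ D₀ := by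
    by_contra hcon
    push Not at hcon
    exact hDQ (le_antisymm hD₀Q hcon)
  -- g normalizes D₀ by pigeonhole
  have hgpow : ∀ i : ℕ, g ^ i ∈ Subgroup.normalizer (Q : Set G) := fun i => Subgroup.pow_mem _ hgQ i
  have hMle : ∀ i : ℕ, cj (g ^ i) D₀ ≤ Q := fun i => cj_le (hgpow i) hD₀Q
  have hMhalf : ∀ i : ℕ, IsHalf (cj (g ^ i) D₀) Q := fun i => isHalf_cj (hgpow i) hhalf
  have hflag : ∀ i : ℕ, ¬ (d ∈ cj (g ^ i) D₀ ∧ y ∈ cj (g ^ i) D₀) := by
    rintro i ⟨h1, h2⟩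
    have hMQ : cj (g ^ i) D₀ = Q :=
      half_ext hd hD₀Q hhalf hyQ hyD (hMhalf i) (isHalf_self Q) (hMle i) le_rfl
        ⟨fun _ => hD₀Q hdD₀, fun _ => h1⟩ ⟨fun _ => hyQ, fun _ => h2⟩
    have hw : g ^ i * y * (g ^ i)⁻¹ ∈ cj (g ^ i) D₀ := by
      rw [hMQ]; exact conj_mem_of_mem_normalizer (hgpow i) hyQ
    rw [mem_cj] at hw
    have e : (g ^ i)⁻¹ * (g ^ i * y * (g ^ i)⁻¹) * g ^ i = y := by group
    rw [e] at hw
    exact hyD hw
  let f : Fin 4 → {p : Bool × Bool // p ≠ (true, true)} := fun i =>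
    ⟨(decide (d ∈ cj (g ^ (i : ℕ)) D₀), decide (y ∈ cj (g ^ (i : ℕ)) D₀)), by
      intro h
      rw [Prod.mk.injEq, decide_eq_true_eq, decide_eq_true_eq] at h
      exact hflag i h⟩
  obtain ⟨i, j, hij, hf⟩ := Fintype.exists_ne_map_eq_of_card_lt f (by decide)
  have hMeq : cj (g ^ (i : ℕ)) D₀ = cj (g ^ (j : ℕ)) D₀ := by
    have h1 := congrArg Subtype.val hf
    simp only [f, Prod.mk.injEq, decide_eq_decide] at h1
    exact half_ext hd hD₀Q hhalf hyQ hyD (hMhalf i) (hMhalf j) (hMle i) (hMle j) h1.1 h1.2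
  have hnorm : ∃ t : ℕ, 0 < t ∧ t ≤ 3 ∧ g ^ t ∈ Subgroup.normalizer (D₀ : Set G) := by
    have hi : (i : ℕ) < 4 := i.2
    have hj : (j : ℕ) < 4 := j.2
    have hne : (i : ℕ) ≠ (j : ℕ) := fun h => hij (Fin.ext h)
    rcases Nat.lt_or_gt_of_ne hne with hlt | hlt
    · exact ⟨(j : ℕ) - i, by omega, by omega, pow_sub_mem_normalizer_of_cj_eq hlt.le hMeq⟩
    · exact ⟨(i : ℕ) - j, by omega, by omega, pow_sub_mem_normalizer_of_cj_eq hlt.le hMeq.symm⟩
  obtain ⟨t, ht0, ht3, htn⟩ := hnorm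
  have hcop : Nat.Coprime t m := by
    interval_cases t
    · exact Nat.coprime_one_left m
    · exact Nat.coprime_two_left.mpr hm2
    · exact (Nat.Prime.coprime_iff_not_dvd Nat.prime_three).mpr hm3
  have hgD : g ∈ Subgroup.normalizer (D₀ : Set G) :=
    mem_of_pow_mem_of_coprime hcop htn (by rw [hgm]; exact Subgroup.one_mem _)
  exact centralize_of_half g m hm2 hgm hQ2 hgQ hhalf (key hgD)


theorem two_pow_mul_odd_inj {b a u n : ℕ} (h : 2 ^ b * u = 2 ^ a * n) (hu : ¬ 2 ∣ u) (hn : ¬ 2 ∣ n) :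
    b = a := by
  rcases Nat.lt_trichotomy b a with hlt | heq | hgt
  · exfalso
    obtain ⟨c, rfl⟩ : ∃ c, a = b + (c + 1) := ⟨a - b - 1, by omega⟩
    rw [pow_add, mul_assoc] at h
    have h1 : u = 2 ^ (c + 1) * n := Nat.eq_of_mul_eq_mul_left (by positivity) h
    apply hu
    rw [h1, pow_succ']
    exact ⟨2 ^ c * n, by ring⟩
  · exact heq
  · exfalso
    obtain ⟨c, rfl⟩ : ∃ c, b = a + (c + 1) := ⟨b - a - 1, by omega⟩
    rw [pow_add, mul_assoc] at h
    have h1 : 2 ^ (c + 1) * u = n := Nat.eq_of_mul_eq_mul_left (by positivity) h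
    apply hn
    rw [← h1, pow_succ']
    exact ⟨2 ^ c * u, by ring⟩

/-- Let `G` be a finite group of order `2 ^ a * n` with `n` odd and not divisible by `3`, and suppose `G` has an element of order `2 ^ (a - 1)` (so a Sylow `2`-subgroup has a cyclic subgroup of index at most `2`). Then `G` has a normal subgroup of order `n`. -/
theorem result {G : Type*} [Group G] [Finite G] (a n : ℕ) (hG : Nat.card G = 2 ^ a * n) (hn : Odd n) (h3 : ¬ 3 ∣ n) (hx : ∃ x : G, orderOf x = 2 ^ (a - 1)) : ∃ N : Subgroup G, N.Normal ∧ Nat.card N = n := by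
  classical
  obtain ⟨x, hxo⟩ := hx
  haveI : Fact (Nat.Prime 2) := ⟨Nat.prime_two⟩
  have hn2 : ¬ 2 ∣ n := by
    intro h
    exact (Nat.not_even_iff_odd.mpr hn) (even_iff_two_dvd.mpr h)
  set D := Subgroup.zpowers x with hD
  have hDcard : Nat.card D = 2 ^ (a - 1) := by rw [Nat.card_zpowers, hxo]
  have hD2 : IsPGroup 2 D := IsPGroup.of_card hDcard
  obtain ⟨P, hDP⟩ := hD2.exists_le_sylow
  have hPcard : Nat.card P = 2 ^ a := by
    obtain ⟨b, hb⟩ := P.2.exists_card_eq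
    have hidx : ¬ 2 ∣ (P : Subgroup G).index := P.not_dvd_index
    have hmul := (P : Subgroup G).card_mul_index
    rw [hb, hG] at hmul
    rw [hb, two_pow_mul_odd_inj hmul hidx hn2]
  have hDhalf : D = (P : Subgroup G) ∨ IsHalf D (P : Subgroup G) := by
    rcases Nat.eq_zero_or_pos a with ha0 | hapos
    · left
      apply Subgroup.eq_of_le_of_card_ge hDP
      rw [hPcard, hDcard, ha0]
    · right
      have hrel : D.relIndex (P : Subgroup G) = 2 := by
        have h1 := Subgroup.card_mul_index (D.subgroupOf (P : Subgroup G))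
        have h2 : Nat.card (D.subgroupOf (P : Subgroup G)) = Nat.card D :=
          Nat.card_congr (Subgroup.subgroupOfEquivOfLe hDP).toEquiv
        rw [h2, hDcard, hPcard] at h1
        obtain ⟨c, rfl⟩ : ∃ c, a = c + 1 := ⟨a - 1, by omega⟩
        rw [Nat.add_sub_cancel, pow_succ] at h1
        rw [Subgroup.relIndex]
        exact Nat.eq_of_mul_eq_mul_left (by positivity) h1
      intro u hu v hv
      have h3 := @Subgroup.mul_mem_iff_of_index_two _ _ (D.subgroupOf (P : Subgroup G)) hrel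
        ⟨u, hu⟩ ⟨v, hv⟩
      simpa [Subgroup.mem_subgroupOf] using h3
  have hfrob : ∃ N : Subgroup G, N.Normal ∧ N.IsComplement' (P : Subgroup G) := by
    rw [Helper78.frobenius_normal_pComplement_iff P]
    intro Q hQP g hgN hcop
    rw [Subgroup.mem_centralizer_iff]
    intro y hy
    have hm2 : Odd (orderOf g) := Nat.coprime_two_right.mp hcop
    have hm3 : ¬ 3 ∣ orderOf g := by
      intro h
      have h1 : 3 ∣ 2 ^ a * n := hG ▸ (h.trans (orderOf_dvd_natCard g))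
      rcases (Nat.Prime.dvd_mul Nat.prime_three).mp h1 with h2 | h2
      · have := Nat.Prime.dvd_of_dvd_pow Nat.prime_three h2
        omega
      · exact h3 h2
    have := centralizes_main P.2 hDP inferInstance hDhalf Q hQP g (orderOf g) hm2 hm3
      (pow_orderOf_eq_one g) hgN y hy
    calc y * g = (g * y * g⁻¹) * g := by rw [this]
      _ = g * y := by group
  obtain ⟨N, hNn, hNc⟩ := hfrob
  refine ⟨N, hNn, ?_⟩
  have h := hNc.card_mul_card
  rw [hPcard, hG, mul_comm] at h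
  exact Nat.eq_of_mul_eq_mul_left (by positivity) h

end Cfsg.Agent.S3971
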