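import Cfsg.Statements.S3977
import Mathlib
import Cfsg.Agent.Helper73.PGroupCyclic
import Cfsg.Agent.S4370

set_option autoImplicit false
open Cfsg

namespace Cfsg.Agent.S3977

open Subgroup

/-- Let `p` be a prime and `G` a group of order `p ^ m` which has exactly one subgroup of order `p ^ s`, where `1 ≤ s < m`, and where `s ≥ 2` if `p = 2`. Then `G` is cyclic. (For `p = 2` and `s = 1` the generalized quaternion groups also occur; that case is the classical criterion for a unique involution.) -/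
theorem result {G : Type*} [Group G] [Finite G] (p m s : ℕ) (hp : p.Prime) (hG : Nat.card G = p ^ m) (hs : 1 ≤ s) (hsm : s < m) (h2 : p ≠ 2 ∨ 2 ≤ s) (huniq : ∀ H K : Subgroup G, Nat.card H = p ^ s → Nat.card K = p ^ s → H = K) : IsCyclic G := by
  have : Fact p.Prime := ⟨hp⟩
  have hPG : IsPGroup p G := IsPGroup.of_card hG
  have hdvd : p ^ s ∣ Nat.card G := by rw [hG]; exact pow_dvd_pow p hsm.le
  obtain ⟨H, hH⟩ := Sylow.exists_subgroup_card_pow_prime p hdvd
  -- every subgroup of order p^k, k ≤ s, is contained in H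
  have hsub : ∀ (K : Subgroup G) (k : ℕ), Nat.card K = p ^ k → k ≤ s → K ≤ H := by
    intro K k hK hks
    obtain ⟨L, hL, hKL⟩ := Sylow.exists_subgroup_card_pow_prime_le p hdvd K hK hks
    rw [huniq H L hH hL]; exact hKL
  -- elements outside H have order ≥ p^(s+1)
  have hout : ∀ x : G, x ∉ H → ∃ k, s + 1 ≤ k ∧ orderOf x = p ^ k := by
    intro x hx
    obtain ⟨k, hk⟩ := (IsPGroup.iff_orderOf.1 hPG) x
    refine ⟨k, ?_, hk⟩
    by_contra hks
    exact hx (hsub (zpowers x) k (by rw [Nat.card_zpowers, hk]) (by omega) (mem_zpowers x))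
  have hHtop : H ≠ ⊤ := by
    intro h
    rw [h, Subgroup.card_top, hG] at hH
    have := Nat.pow_right_injective hp.two_le hH
    omega
  obtain ⟨x, hx⟩ : ∃ x, x ∉ H := by
    by_contra h
    push Not at h
    exact hHtop (eq_top_iff.2 fun y _ => h y)
  obtain ⟨k, hk, hxk⟩ := hout x hx
  have hHx : H = zpowers (x ^ p ^ (k - s)) := by
    apply huniq _ _ hH
    rw [Nat.card_zpowers, orderOf_pow_of_dvd (pow_ne_zero _ hp.ne_zero)
      (by rw [hxk]; exact pow_dvd_pow p (by omega)), hxk, Nat.pow_div (by omega) hp.pos]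
    congr 1
    omega
  have hHcyc : IsCyclic H := by rw [hHx]; infer_instance
  -- unique subgroup of order p
  have hu : Cfsg.Agent.Helper73.UniqueOrderP p G := by
    intro y z hy hz
    have hyH : y ∈ H := hsub (zpowers y) 1 (by rw [Nat.card_zpowers, hy, pow_one]) hs (mem_zpowers y)
    have hzH : z ∈ H := hsub (zpowers z) 1 (by rw [Nat.card_zpowers, hz, pow_one]) hs (mem_zpowers z)
    have h1 := Cfsg.Agent.S4370.mem_zpowers_of_isCyclic (C := H) hp.pos
      (a := ⟨y, hyH⟩) (b := ⟨z, hzH⟩) (by rw [Subgroup.orderOf_mk]; exact hy)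
      (by rw [Subgroup.orderOf_mk]; exact hz)
    obtain ⟨l, hl⟩ := mem_zpowers_iff.1 h1
    exact mem_zpowers_iff.2 ⟨l, by simpa using congrArg Subtype.val hl⟩
  rcases Cfsg.Agent.Helper73.cyclic_or_quaternion hPG hu with hcyc | ⟨hp2, n, -, ⟨e⟩⟩
  · exact hcyc
  · exfalso
    subst hp2
    have hs2 : 2 ≤ s := by
      rcases h2 with h | h
      · exact absurd rfl h
      · exact h
    apply hHtop
    have hxa : ∀ i, e.symm (QuaternionGroup.xa i) ∈ H := by
      intro i
      apply hsub (zpowers (e.symm (QuaternionGroup.xa i))) 2 _ hs2 (mem_zpowers _)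
      rw [Nat.card_zpowers, MulEquiv.orderOf_eq, QuaternionGroup.orderOf_xa]
      norm_num
    have ha1 : e.symm (QuaternionGroup.a 1) ∈ H := by
      have : (QuaternionGroup.a 1 : QuaternionGroup (2 ^ n)) =
          (QuaternionGroup.xa 0)⁻¹ * QuaternionGroup.xa 1 := by
        rw [eq_inv_mul_iff_mul_eq, QuaternionGroup.xa_mul_a, zero_add]
      rw [this, map_mul, map_inv]
      exact mul_mem (inv_mem (hxa 0)) (hxa 1)
    have : NeZero (2 * 2 ^ n) := ⟨by positivity⟩
    rw [eq_top_iff]
    intro g _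
    have hg : g = e.symm (e g) := (e.symm_apply_apply g).symm
    rw [hg]
    rcases e g with i | i
    · rw [← ZMod.natCast_zmod_val i, ← QuaternionGroup.a_one_pow, map_pow]
      exact pow_mem ha1 _
    · exact hxa i

end Cfsg.Agent.S3977
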