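import Mathlib
import Cfsg.Statements.S3978
import Cfsg.Agent.Helper66.ProjLift2

set_option autoImplicit false
open Cfsg

namespace Cfsg.Agent.S3978

open Cfsg.Agent.Helper66

/-- A finite group `Q` has trivial Schur multiplier if and only if, for every `n`, every homomorphism from `Q` to the projective general linear group (the quotient of `GL n ℂ` by its centre) lifts to a homomorphism into `GL n ℂ`. -/
theorem result {Q : Type*} [Group Q] [Finite Q] : Cfsg.HasCyclicSchurMultiplier Q 1 ↔ ∀ (n : ℕ) (γ : Q →* (GL (Fin n) ℂ ⧸ Subgroup.center (GL (Fin n) ℂ))), ∃ ρ : Q →* GL (Fin n) ℂ, (QuotientGroup.mk' (Subgroup.center (GL (Fin n) ℂ))).comp ρ = γ := by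
  constructor
  · intro hM n γ
    obtain ⟨e⟩ := (hasSchurMultiplier_iff Q _).mp hM
    have hk : (MonoidHom.id Q).ker = ⊥ := by
      ext x; simp
    have hcard : Nat.card (MonoidHom.id Q).ker = Nat.card (schurT Q) := by
      rw [hk, Subgroup.card_bot, ← Nat.card_congr e.toEquiv]
      show 1 = Nat.card (Multiplicative (Fin 1))
      simp
    obtain ⟨ρ, hρ⟩ := exists_lift_of_cover (MonoidHom.id Q) (isStemExtension_id Q) hcard
      (center_GL_divisible n) γ
    exact ⟨ρ, by rw [hρ, MonoidHom.comp_id]⟩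
  · intro hlift
    apply hasCyclicSchurMultiplier_one_of_forall
    intro Γ _ _ τ hτ
    have hlift' : ∀ (n : ℕ) (γ : Q →* (GL (Fin n) ℂ ⧸ Subgroup.center (GL (Fin n) ℂ))),
        ∃ ρ : Q →* GL (Fin n) ℂ,
          (QuotientGroup.mk' (Subgroup.center (GL (Fin n) ℂ))).comp ρ =
            γ.comp (MonoidHom.id Q) := by
      intro n γ
      obtain ⟨ρ, hρ⟩ := hlift n γ
      exact ⟨ρ, by rw [hρ, MonoidHom.comp_id]⟩
    obtain ⟨π, hπ⟩ := exists_surjective_ker_of_lifts (MonoidHom.id Q) (isStemExtension_id Q)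
      hlift' τ hτ
    rw [eq_bot_iff]
    intro x hx
    obtain ⟨a, ha⟩ := hπ ⟨x, hx⟩
    have ha1 : a = 1 := by
      apply Subtype.ext
      have := a.2
      rw [MonoidHom.mem_ker, MonoidHom.id_apply] at this
      exact this
    rw [ha1, map_one] at ha
    rw [Subgroup.mem_bot]
    exact (congrArg Subtype.val ha).symm

end Cfsg.Agent.S3978
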