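import Cfsg.Statements.S3981
import Cfsg.Agent.Helper53.PGroup
import Cfsg.Agent.Helper30.Conj

set_option autoImplicit false
open Cfsg

namespace Cfsg.Agent.S3981

/-- In a nontrivial finite `p`-subgroup normalized by an element `yb` with `yb² = 1` there is an
element of order `p` centralized or inverted by `yb`. -/
theorem exists_fixed_or_inverted {Γ : Type*} [Group Γ] {p : ℕ} [Fact p.Prime]
    (Mb : Subgroup Γ) [Finite ↥Mb] (hM : IsPGroup p ↥Mb) (hne : Mb ≠ ⊥) (yb : Γ)
    (hy2 : yb * yb = 1) (hnorm : ∀ m ∈ Mb, yb * m * yb⁻¹ ∈ Mb) :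
    ∃ x ∈ Mb, x ≠ 1 ∧ x ^ p = 1 ∧ (yb * x * yb⁻¹ = x ∨ yb * x * yb⁻¹ = x⁻¹) := by
  have hyinv : yb⁻¹ = yb := inv_eq_of_mul_eq_one_right hy2
  have hnt : Nontrivial ↥Mb := (Subgroup.nontrivial_iff_ne_bot Mb).mpr hne
  have hcnt : Nontrivial ↥(Subgroup.center ↥Mb) := hM.center_nontrivial
  have hcp : IsPGroup p ↥(Subgroup.center ↥Mb) := hM.to_subgroup _
  obtain ⟨k, hk⟩ := IsPGroup.iff_card.mp hcp
  have hk0 : k ≠ 0 := by
    intro h
    rw [h, pow_zero] at hk
    have := Finite.one_lt_card (α := ↥(Subgroup.center ↥Mb))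
    omega
  have hdvd : p ∣ Nat.card ↥(Subgroup.center ↥Mb) := by
    rw [hk]; exact dvd_pow_self p hk0
  obtain ⟨zc, hzc⟩ := exists_prime_orderOf_dvd_card' p hdvd
  set z : Γ := ((zc : ↥Mb) : Γ) with hz
  have hzM : z ∈ Mb := (zc : ↥Mb).2
  have hzo : orderOf z = p := by
    rw [hz, Subgroup.orderOf_coe, Subgroup.orderOf_coe, hzc]
  have hzcomm : ∀ m ∈ Mb, m * z = z * m := by
    intro m hm
    have := (Subgroup.mem_center_iff.mp zc.2) ⟨m, hm⟩
    exact congrArg Subtype.val this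
  have hz1 : z ≠ 1 := by
    intro h
    rw [h, orderOf_one] at hzo
    exact (Fact.out : p.Prime).one_lt.ne hzo
  have hzp : z ^ p = 1 := by rw [← hzo, pow_orderOf_eq_one]
  set z' : Γ := yb * z * yb⁻¹ with hz'
  have hz'M : z' ∈ Mb := hnorm z hzM
  have hcomm : Commute z z' := (hzcomm z' hz'M).symm
  have hz'p : z' ^ p = 1 := by
    rw [hz', conj_pow, hzp, mul_one, mul_inv_cancel]
  have hconj' : yb * z' * yb⁻¹ = z := by
    rw [hz', hyinv]
    calc yb * (yb * z * yb) * yb = (yb * yb) * z * (yb * yb) := by group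
      _ = z := by rw [hy2, one_mul, mul_one]
  by_cases hu : z * z' = 1
  · refine ⟨z, hzM, hz1, hzp, Or.inr ?_⟩
    exact (eq_inv_of_mul_eq_one_right hu)
  · refine ⟨z * z', Mb.mul_mem hzM hz'M, hu, ?_, Or.inl ?_⟩
    · rw [hcomm.mul_pow, hzp, hz'p, one_mul]
    · calc yb * (z * z') * yb⁻¹ = (yb * z * yb⁻¹) * (yb * z' * yb⁻¹) := by group
        _ = z' * z := by rw [hconj']
        _ = z * z' := hcomm.eq.symm

/-- Let p be an odd prime, Q a p-subgroup of the finite group G and y an involution normalizing Q. Then Q is maximal among the p-subgroups of G normalized by y if and only if the image of y in N_G(Q) ⧸ Q neither inverts nor centralizes any element of order p there; the latter is phrased inside N_G(Q): for every x in N_G(Q) outside Q with x ^ p ∈ Q, neither y x y⁻¹ x nor y x y⁻¹ x⁻¹ lies in Q. -/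
theorem result {G : Type*} [Group G] [Finite G] (p : ℕ) [Fact p.Prime] (hp2 : p ≠ 2) (Q : Subgroup G) (hQ : IsPGroup p ↥Q) (y : G) (hy : orderOf y = 2) (hyQ : y ∈ Subgroup.normalizer (Q : Set G)) : (∀ R : Subgroup G, IsPGroup p ↥R → Q ≤ R → y ∈ Subgroup.normalizer (R : Set G) → R = Q) ↔ ∀ x : G, x ∈ Subgroup.normalizer (Q : Set G) → x ∉ Q → x ^ p ∈ Q → (y * x * y⁻¹ * x ∉ Q ∧ y * x * y⁻¹ * x⁻¹ ∉ Q) := by
  have hy2 : y * y = 1 := by rw [← pow_two, ← hy, pow_orderOf_eq_one]
  have hyinv : y⁻¹ = y := inv_eq_of_mul_eq_one_right hy2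
  constructor
  · -- maximal ⇒ condition
    intro hmax x hxN hxQ hxp
    by_contra hcon
    have hmem : y * x * y⁻¹ * x ∈ Q ∨ y * x * y⁻¹ * x⁻¹ ∈ Q := by
      by_contra h
      push Not at h
      exact hcon ⟨h.1, h.2⟩
    set R : Subgroup G := Subgroup.zpowers x ⊔ Q with hR
    have hxR : x ∈ R := (le_sup_left : Subgroup.zpowers x ≤ R) (Subgroup.mem_zpowers x)
    have hQR : Q ≤ R := le_sup_right
    -- zpowers x is a p-group
    have hzp : IsPGroup p ↥(Subgroup.zpowers x) := by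
      obtain ⟨k, hk⟩ := (IsPGroup.iff_orderOf.mp hQ) ⟨x ^ p, hxp⟩
      have hxk : x ^ (p ^ (k + 1)) = 1 := by
        have h1 : (x ^ p) ^ (p ^ k) = 1 := by
          have := pow_orderOf_eq_one (⟨x ^ p, hxp⟩ : ↥Q)
          rw [hk] at this
          exact congrArg Subtype.val this
        rw [pow_succ', pow_mul]; exact h1
      rintro ⟨g, hg⟩
      obtain ⟨n, rfl⟩ := Subgroup.mem_zpowers_iff.mp hg
      refine ⟨k + 1, ?_⟩
      apply Subtype.ext
      show (x ^ n) ^ (p ^ (k + 1)) = 1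
      rw [← zpow_natCast, ← zpow_mul, mul_comm, zpow_mul, zpow_natCast, hxk, one_zpow]
    have hzN : Subgroup.zpowers x ≤ Subgroup.normalizer (Q : Set G) := by
      rw [Subgroup.zpowers_le]; exact hxN
    have hRp : IsPGroup p ↥R := IsPGroup.to_sup_of_normal_right' hzp hQ hzN
    have hyR : y ∈ Subgroup.normalizer (R : Set G) := by
      rw [← Cfsg.Agent.Helper30.cj_eq_self_iff]
      apply Subgroup.eq_of_le_of_card_ge
      · rw [hR, Subgroup.map_sup, MonoidHom.map_zpowers,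
          Cfsg.Agent.Helper30.cj_eq_self_iff.mpr hyQ]
        refine sup_le ?_ le_sup_right
        rw [Subgroup.zpowers_le]
        simp only [MulEquiv.coe_toMonoidHom, MulAut.conj_apply]
        rcases hmem with h | h
        · have : y * x * y⁻¹ = (y * x * y⁻¹ * x) * x⁻¹ := by group
          rw [this]
          exact R.mul_mem (hQR h) (R.inv_mem hxR)
        · have : y * x * y⁻¹ = (y * x * y⁻¹ * x⁻¹) * x := by group
          rw [this]
          exact R.mul_mem (hQR h) hxR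
      · rw [Cfsg.Agent.Helper30.card_cj]
    have := hmax R hRp hQR hyR
    exact hxQ (this ▸ hxR)
  · -- condition ⇒ maximal
    intro hcond R hRp hQR hyR
    by_contra hne
    have hlt : Q < R := lt_of_le_of_ne hQR (Ne.symm hne)
    obtain ⟨x0, hx0R, hx0N, hx0Q⟩ := Cfsg.Agent.Helper53.exists_normalizer_not_mem R Q hRp hlt
    set H : Subgroup G := Subgroup.normalizer (Q : Set G) with hH
    set Qn : Subgroup ↥H := Q.subgroupOf H with hQn
    have hQnN : Qn.Normal := Subgroup.normal_in_normalizer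
    set Mb : Subgroup (↥H ⧸ Qn) := (R.subgroupOf H).map (QuotientGroup.mk' Qn) with hMb
    have hMbp : IsPGroup p ↥Mb := (hRp.comap_subtype).map _
    have hMbne : Mb ≠ ⊥ := by
      intro h
      have hmem : (QuotientGroup.mk' Qn) ⟨x0, hx0N⟩ ∈ Mb :=
        Subgroup.mem_map_of_mem _ (Subgroup.mem_subgroupOf.mpr hx0R)
      rw [h, Subgroup.mem_bot, QuotientGroup.mk'_apply, QuotientGroup.eq_one_iff] at hmem
      exact hx0Q (Subgroup.mem_subgroupOf.mp hmem)
    set yH : ↥H := ⟨y, hyQ⟩ with hyH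
    set yb : ↥H ⧸ Qn := QuotientGroup.mk' Qn yH with hyb
    have hyb2 : yb * yb = 1 := by
      rw [hyb, ← map_mul]
      have : yH * yH = 1 := Subtype.ext hy2
      rw [this, map_one]
    have hnorm : ∀ m ∈ Mb, yb * m * yb⁻¹ ∈ Mb := by
      rintro _ ⟨a, ha, rfl⟩
      refine ⟨yH * a * yH⁻¹, ?_, by simp [hyb]⟩
      have ha' : (a : G) ∈ R := Subgroup.mem_subgroupOf.mp ha
      show yH * a * yH⁻¹ ∈ R.subgroupOf H
      rw [Subgroup.mem_subgroupOf]
      exact (Subgroup.mem_normalizer_iff.mp hyR _).mp ha'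
    obtain ⟨xb, hxbM, hxb1, hxbp, hfix⟩ := exists_fixed_or_inverted Mb hMbp hMbne yb hyb2 hnorm
    obtain ⟨a, ha, rfl⟩ := hxbM
    have haQ : (a : G) ∉ Q := by
      intro h
      apply hxb1
      rw [QuotientGroup.mk'_apply, QuotientGroup.eq_one_iff]
      exact Subgroup.mem_subgroupOf.mpr h
    have hap : (a : G) ^ p ∈ Q := by
      rw [← map_pow, QuotientGroup.mk'_apply, QuotientGroup.eq_one_iff] at hxbp
      exact Subgroup.mem_subgroupOf.mp hxbp
    obtain ⟨h1, h2⟩ := hcond a a.2 haQ hap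
    rcases hfix with hf | hf
    · apply h2
      have : (QuotientGroup.mk' Qn) (yH * a * yH⁻¹ * a⁻¹) = 1 := by
        rw [map_mul, map_inv, map_mul, map_mul, map_inv, ← hyb, hf, mul_inv_cancel]
      rw [QuotientGroup.mk'_apply, QuotientGroup.eq_one_iff] at this
      exact Subgroup.mem_subgroupOf.mp this
    · apply h1
      have : (QuotientGroup.mk' Qn) (yH * a * yH⁻¹ * a) = 1 := by
        rw [map_mul, map_mul, map_mul, map_inv, ← hyb, hf, inv_mul_cancel]
      rw [QuotientGroup.mk'_apply, QuotientGroup.eq_one_iff] at this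
      exact Subgroup.mem_subgroupOf.mp this

end Cfsg.Agent.S3981
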