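import Cfsg.Statements.S3982
import Cfsg.Agent.Lib.Nilpotent
import Cfsg.Agent.Helper16.SylowIn
import Cfsg.Agent.Helper53.PGroup
import Cfsg.Agent.Helper30.Conj

set_option autoImplicit false
open Cfsg

namespace Cfsg.Agent.S3982

variable {G : Type*} [Group G] [Finite G]

/-- the standing hypothesis: centralizers of nontrivial `p`-elements have odd order -/
def OddCent (p : ℕ) (G : Type*) [Group G] : Prop :=
  ∀ g : G, g ≠ 1 → (∃ k : ℕ, orderOf g = p ^ k) →
    Odd (Nat.card ↥(Subgroup.centralizer ({g} : Set G)))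

/-- no involution centralizes a nontrivial `p`-element -/
theorem no_fix {p : ℕ} [Fact p.Prime] (hC : OddCent p G) {T : Subgroup G} (hT : IsPGroup p ↥T)
    {y w : G} (hy : orderOf y = 2) (hw : w ∈ T) (hyw : y * w * y⁻¹ = w) : w = 1 := by
  by_contra hne
  have hpk : ∃ k : ℕ, orderOf w = p ^ k := by
    obtain ⟨k, hk⟩ := (IsPGroup.iff_orderOf.mp hT) ⟨w, hw⟩
    exact ⟨k, by rw [← hk, Subgroup.orderOf_mk]⟩
  have hodd := hC w hne hpk
  have hyC : y ∈ Subgroup.centralizer ({w} : Set G) := by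
    rw [Subgroup.mem_centralizer_singleton_iff]
    have : y * w = w * y := by
      calc y * w = (y * w * y⁻¹) * y := by group
        _ = w * y := by rw [hyw]
    exact this
  have h2 : orderOf (⟨y, hyC⟩ : ↥(Subgroup.centralizer ({w} : Set G))) = 2 := by
    rw [Subgroup.orderOf_mk, hy]
  have hdvd : 2 ∣ Nat.card ↥(Subgroup.centralizer ({w} : Set G)) := by
    rw [← h2]; exact orderOf_dvd_natCard _
  exact (Nat.not_even_iff_odd.mpr hodd) (even_iff_two_dvd.mpr hdvd)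

/-- an involution normalizing a `p`-subgroup inverts it -/
theorem inverts {p : ℕ} [Fact p.Prime] (hC : OddCent p G) {T : Subgroup G} (hT : IsPGroup p ↥T)
    {y : G} (hy : orderOf y = 2) (hyT : y ∈ Subgroup.normalizer (T : Set G)) :
    ∀ q ∈ T, y * q * y⁻¹ = q⁻¹ := by
  have hy2 : y * y = 1 := by rw [← pow_two, ← hy, pow_orderOf_eq_one]
  have hyinv : y⁻¹ = y := inv_eq_of_mul_eq_one_right hy2
  have hconj : ∀ q ∈ T, y * q * y⁻¹ ∈ T := fun q hq => (Subgroup.mem_normalizer_iff.mp hyT q).mp hq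
  let f : ↥T → ↥T := fun q => ⟨q.1⁻¹ * (y * q.1 * y⁻¹), T.mul_mem (T.inv_mem q.2) (hconj q.1 q.2)⟩
  have hinj : Function.Injective f := by
    intro q r hqr
    have h1 : q.1⁻¹ * (y * q.1 * y⁻¹) = r.1⁻¹ * (y * r.1 * y⁻¹) := congrArg Subtype.val hqr
    have h2 : y * (r.1 * q.1⁻¹) * y⁻¹ = r.1 * q.1⁻¹ := by
      have : y * (r.1 * q.1⁻¹) * y⁻¹ = (y * r.1 * y⁻¹) * (y * q.1 * y⁻¹)⁻¹ := by group
      rw [this]
      have h3 : y * q.1 * y⁻¹ = q.1 * (r.1⁻¹ * (y * r.1 * y⁻¹)) := by rw [← h1]; group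
      rw [h3]; group
    have h4 := no_fix hC hT hy (T.mul_mem r.2 (T.inv_mem q.2)) h2
    apply Subtype.ext
    have : r.1 = q.1 := by
      calc r.1 = (r.1 * q.1⁻¹) * q.1 := by group
        _ = q.1 := by rw [h4, one_mul]
    exact this.symm
  have hsurj : Function.Surjective f := Finite.injective_iff_surjective.mp hinj
  intro q hq
  obtain ⟨r, hr⟩ := hsurj ⟨q, hq⟩
  have hq' : q = r.1⁻¹ * (y * r.1 * y⁻¹) := (congrArg Subtype.val hr).symm
  rw [hq', hyinv]
  calc y * (r.1⁻¹ * (y * r.1 * y)) * y = y * r.1⁻¹ * y * r.1 * (y * y) := by group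
    _ = (r.1⁻¹ * (y * r.1 * y))⁻¹ := by
        rw [hy2, mul_one]
        have : (r.1⁻¹ * (y * r.1 * y))⁻¹ = y⁻¹ * r.1⁻¹ * y⁻¹ * r.1 := by group
        rw [this, hyinv]

/-- an even-order normalizer contains an involution -/
theorem exists_involution {T : Subgroup G}
    (hev : Even (Nat.card ↥(Subgroup.normalizer (T : Set G)))) :
    ∃ y : G, orderOf y = 2 ∧ y ∈ Subgroup.normalizer (T : Set G) := by
  have : Fact (Nat.Prime 2) := ⟨Nat.prime_two⟩
  obtain ⟨y, hy⟩ := exists_prime_orderOf_dvd_card' (G := ↥(Subgroup.normalizer (T : Set G))) 2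
    (even_iff_two_dvd.mp hev)
  exact ⟨y.1, by rw [← hy, Subgroup.orderOf_coe], y.2⟩

/-- Frattini step: a nontrivial `p`-element `z` inverted by an involution; every `p`-subgroup `M` of
`C_G(z)` is contained in a `p`-subgroup with even normalizer. -/
theorem stepA {p : ℕ} [Fact p.Prime] (hC : OddCent p G) {z y : G} (hz1 : z ≠ 1)
    (hzp : ∃ k : ℕ, orderOf z = p ^ k) (hy : orderOf y = 2) (hinv : y * z * y⁻¹ = z⁻¹)
    (M : Subgroup G) (hM : IsPGroup p ↥M) (hMC : M ≤ Subgroup.centralizer ({z} : Set G)) :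
    ∃ P1 : Subgroup G, IsPGroup p ↥P1 ∧ M ≤ P1 ∧
      Even (Nat.card ↥(Subgroup.normalizer (P1 : Set G))) := by
  set C := Subgroup.centralizer ({z} : Set G) with hCdef
  have hodd : Odd (Nat.card ↥C) := hC z hz1 hzp
  have hy2 : y * y = 1 := by rw [← pow_two, ← hy, pow_orderOf_eq_one]
  have hyinv : y⁻¹ = y := inv_eq_of_mul_eq_one_right hy2
  -- y normalizes C
  have hyC : ∀ c ∈ C, y * c * y⁻¹ ∈ C := by
    intro c hc
    rw [hCdef, Subgroup.mem_centralizer_singleton_iff] at hc ⊢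
    have hz' : z = y * z⁻¹ * y⁻¹ := by
      have : y * z⁻¹ * y⁻¹ = (y * z * y⁻¹)⁻¹ := by group
      rw [this, hinv, inv_inv]
    have hc' : c * z⁻¹ = z⁻¹ * c := by
      have : c * z⁻¹ = z⁻¹ * (z * c) * z⁻¹ := by group
      rw [this, ← hc]; group
    calc y * c * y⁻¹ * z = y * c * y⁻¹ * (y * z⁻¹ * y⁻¹) := by rw [← hz']
      _ = y * (c * z⁻¹) * y⁻¹ := by group
      _ = y * (z⁻¹ * c) * y⁻¹ := by rw [hc']
      _ = (y * z⁻¹ * y⁻¹) * (y * c * y⁻¹) := by group
      _ = z * (y * c * y⁻¹) := by rw [← hz']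
  have hynotC : y ∉ C := by
    intro hyC'
    have h2 : orderOf (⟨y, hyC'⟩ : ↥C) = 2 := by rw [Subgroup.orderOf_mk, hy]
    have hdvd : 2 ∣ Nat.card ↥C := by rw [← h2]; exact orderOf_dvd_natCard _
    exact (Nat.not_even_iff_odd.mpr hodd) (even_iff_two_dvd.mpr hdvd)
  -- Sylow of C containing M
  have hMsub : IsPGroup p ↥(M.subgroupOf C) :=
    hM.of_equiv (Subgroup.subgroupOfEquivOfLe hMC).symm
  obtain ⟨S, hS⟩ := hMsub.exists_le_sylow
  set P1 : Subgroup G := (S : Subgroup ↥C).map C.subtype with hP1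
  have hP1C : P1 ≤ C := Subgroup.map_subtype_le _
  have hP1p : IsPGroup p ↥P1 := S.2.map _
  have hMP1 : M ≤ P1 := by
    intro m hm
    exact ⟨⟨m, hMC hm⟩, hS (Subgroup.mem_subgroupOf.mpr hm), rfl⟩
  have hcard1 : Nat.card ↥P1 = p ^ (Nat.card ↥C).factorization p :=
    ((Cfsg.Agent.Helper16.sylowIn_iff p C P1).mp ⟨S, rfl⟩).2
  set P1' : Subgroup G := P1.map (MulAut.conj y).toMonoidHom with hP1'
  have hP1'C : P1' ≤ C := by
    rintro _ ⟨c, hc, rfl⟩
    simp only [MulEquiv.coe_toMonoidHom, MulAut.conj_apply]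
    exact hyC c (hP1C hc)
  have hcard1' : Nat.card ↥P1' = p ^ (Nat.card ↥C).factorization p := by
    rw [hP1', Cfsg.Agent.Helper30.card_cj, hcard1]
  obtain ⟨t, htC, ht⟩ := Cfsg.Agent.Helper16.exists_conj_of_card p C P1 P1' hP1C hP1'C hcard1 hcard1'
  have hgN : t * y ∈ Subgroup.normalizer (P1 : Set G) := by
    rw [← Cfsg.Agent.Helper30.cj_eq_self_iff, ← Cfsg.Agent.Helper30.cj_cj]
    exact ht
  refine ⟨P1, hP1p, hMP1, ?_⟩
  -- the element t*y has even order
  have heven : 2 ∣ orderOf (t * y) := by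
    by_contra hnd
    have hoddg : Odd (orderOf (t * y)) := Nat.not_even_iff_odd.mp (fun h => hnd (even_iff_two_dvd.mp h))
    obtain ⟨m, hm⟩ := hoddg
    have hsq : (t * y) ^ 2 ∈ C := by
      have : (t * y) ^ 2 = t * (y * t * y⁻¹) := by
        rw [pow_two, hyinv]; group
      rw [this]
      exact C.mul_mem htC (hyC t htC)
    have hgC : t * y ∈ C := by
      have h1 : (t * y) ^ (2 * m + 1 + 1) = t * y := by
        rw [pow_succ, ← hm, pow_orderOf_eq_one, one_mul]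
      have h2 : (t * y) ^ (2 * m + 1 + 1) = ((t * y) ^ 2) ^ (m + 1) := by
        have h3 : 2 * m + 1 + 1 = 2 * (m + 1) := by ring
        rw [h3, pow_mul]
      rw [← h1, h2]
      exact C.pow_mem hsq _
    apply hynotC
    have : y = t⁻¹ * (t * y) := by group
    rw [this]
    exact C.mul_mem (C.inv_mem htC) hgC
  have h2 : orderOf (⟨t * y, hgN⟩ : ↥(Subgroup.normalizer (P1 : Set G))) = orderOf (t * y) :=
    Subgroup.orderOf_mk _ _
  rw [even_iff_two_dvd]
  exact heven.trans (h2 ▸ orderOf_dvd_natCard _)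


/-- some Sylow `p`-subgroup has a normalizer of even order -/
theorem exists_sylow_even {p : ℕ} [Fact p.Prime] (hC : OddCent p G)
    (Q : Subgroup G) (hQ : IsPGroup p ↥Q) (hQ1 : Q ≠ ⊥)
    (hev : Even (Nat.card ↥(Subgroup.normalizer (Q : Set G)))) :
    ∃ S : Sylow p G, Even (Nat.card ↥(Subgroup.normalizer ((S : Subgroup G) : Set G))) := by
  let 𝒯 : Set (Subgroup G) := {T | IsPGroup p ↥T ∧ T ≠ ⊥ ∧
    Even (Nat.card ↥(Subgroup.normalizer (T : Set G)))}
  obtain ⟨T, hT𝒯, hTmax⟩ := Set.exists_max_image 𝒯 (fun T => Nat.card ↥T) (Set.toFinite 𝒯)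
    ⟨Q, hQ, hQ1, hev⟩
  obtain ⟨hTp, hT1, hTev⟩ := hT𝒯
  obtain ⟨P2, hP2⟩ := hTp.exists_le_sylow
  by_cases hTP : T = (P2 : Subgroup G)
  · exact ⟨P2, hTP ▸ hTev⟩
  exfalso
  have hlt : T < (P2 : Subgroup G) := lt_of_le_of_ne hP2 hTP
  obtain ⟨y1, hy1, hy1N⟩ := exists_involution hTev
  have hinvT := inverts hC hTp hy1 hy1N
  -- M = N_{P2}(T)
  set M : Subgroup G := (P2 : Subgroup G) ⊓ Subgroup.normalizer (T : Set G) with hMdef
  have hTM : T ≤ M := le_inf hP2 Subgroup.le_normalizer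
  have hMp : IsPGroup p ↥M := P2.2.to_le inf_le_left
  obtain ⟨x, hxP, hxN, hxT⟩ := Cfsg.Agent.Helper53.exists_normalizer_not_mem (P2 : Subgroup G) T P2.2 hlt
  have hTMlt : T < M := lt_of_le_of_ne hTM (fun h => hxT (h ▸ (Subgroup.mem_inf.mpr ⟨hxP, hxN⟩)))
  have hcardlt : Nat.card ↥T < Nat.card ↥M := Cfsg.Agent.Helper53.card_lt_of_lt hTMlt
  -- an element of T central in M
  have hnil : Group.IsNilpotent ↥M := hMp.isNilpotent
  have hnorm : (T.subgroupOf M).Normal := by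
    have : M ≤ Subgroup.normalizer (T : Set G) := inf_le_right
    exact Subgroup.normal_subgroupOf_of_le_normalizer this
  have hne : T.subgroupOf M ≠ ⊥ := by
    intro h
    apply hT1
    rw [Subgroup.subgroupOf_eq_bot, disjoint_iff, inf_of_le_left hTM] at h
    exact h
  have hmeet := Cfsg.Agent.Lib.normal_inf_center_ne_bot (T.subgroupOf M) hne
  obtain ⟨zz, hzz1⟩ := (Subgroup.ne_bot_iff_exists_ne_one).mp hmeet
  have hz1 : (zz.1 : G) ≠ 1 := by
    intro h
    apply hzz1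
    apply Subtype.ext
    apply Subtype.ext
    exact h
  obtain ⟨hzT, hzcen⟩ := Subgroup.mem_inf.mp zz.2
  have hzT' : (zz.1 : G) ∈ T := Subgroup.mem_subgroupOf.mp hzT
  have hMC : M ≤ Subgroup.centralizer ({(zz.1 : G)} : Set G) := by
    intro m hm
    rw [Subgroup.mem_centralizer_singleton_iff]
    have := (Subgroup.mem_center_iff.mp hzcen) ⟨m, hm⟩
    exact congrArg Subtype.val this
  have hzp : ∃ k : ℕ, orderOf (zz.1 : G) = p ^ k := by
    obtain ⟨k, hk⟩ := (IsPGroup.iff_orderOf.mp hTp) ⟨zz.1, hzT'⟩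
    exact ⟨k, by rw [← hk, Subgroup.orderOf_mk]⟩
  obtain ⟨P1, hP1p, hMP1, hP1ev⟩ := stepA hC hz1 hzp hy1 (hinvT _ hzT') M hMp hMC
  have hcardle : Nat.card ↥M ≤ Nat.card ↥P1 := Subgroup.card_le_of_le hMP1
  have hP1ne : P1 ≠ ⊥ := by
    intro h
    rw [h, Subgroup.card_bot] at hcardle
    have : 0 < Nat.card ↥T := Nat.card_pos
    omega
  have hfin := hTmax P1 ⟨hP1p, hP1ne, hP1ev⟩
  change Nat.card ↥P1 ≤ Nat.card ↥T at hfin
  omega

/-- Let p be an odd prime and G a finite group of even order divisible by p in which the centralizer of every non-identity p-element has odd order. If some nontrivial p-subgroup of G has a normalizer of even order, then the normalizer of every Sylow p-subgroup of G has even order. -/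
theorem result {G : Type*} [Group G] [Finite G] (p : ℕ) [Fact p.Prime] (hp2 : p ≠ 2) (hpG : p ∣ Nat.card G) (h2G : 2 ∣ Nat.card G) (hC : ∀ g : G, g ≠ 1 → (∃ k : ℕ, orderOf g = p ^ k) → Odd (Nat.card ↥(Subgroup.centralizer ({g} : Set G)))) (Q : Subgroup G) (hQ : IsPGroup p ↥Q) (hQ1 : Q ≠ ⊥) (hev : Even (Nat.card ↥(Subgroup.normalizer (Q : Set G)))) (P : Sylow p G) : Even (Nat.card ↥(Subgroup.normalizer ((P : Subgroup G) : Set G))) := by
  obtain ⟨S, hS⟩ := exists_sylow_even (p := p) hC Q hQ hQ1 hev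
  obtain ⟨y, hy, hyN⟩ := exists_involution hS
  obtain ⟨g, hg⟩ := MulAction.exists_smul_eq G S P
  have hgy : g * y * g⁻¹ ∈ Subgroup.normalizer ((P : Subgroup G) : Set G) := by
    have hyS : y • S = S := Sylow.smul_eq_iff_mem_normalizer.mpr hyN
    have h1 : g * y * g⁻¹ * g = g * y := by group
    have hP' : (g * y * g⁻¹) • P = P := by rw [← hg, ← mul_smul, h1, mul_smul, hyS]
    exact Sylow.smul_eq_iff_mem_normalizer.mp hP'
  have h2 : orderOf (⟨g * y * g⁻¹, hgy⟩ : ↥(Subgroup.normalizer ((P : Subgroup G) : Set G))) = 2 := by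
    rw [Subgroup.orderOf_mk, ← hy]
    exact (SemiconjBy.orderOf_eq g (show SemiconjBy g y (g * y * g⁻¹) by simp [SemiconjBy])).symm
  rw [even_iff_two_dvd, ← h2]
  exact orderOf_dvd_natCard _

end Cfsg.Agent.S3982
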