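import Cfsg.Statements.S3985
import Cfsg.Agent.Helper37.TISylowCyclic

set_option autoImplicit false
open scoped Pointwise
open Cfsg

namespace Cfsg.Agent.S3985

/-- Let P be a cyclic Sylow p-subgroup of the finite group G. Then P meets each conjugate g P g⁻¹ with g outside N_G(P) trivially if and only if P is weakly self-centralizing: C_G(x) = C_G(P) for every non-identity x ∈ P. -/
theorem result {G : Type*} [Group G] [Finite G] (p : ℕ) [Fact p.Prime] (P : Sylow p G) (hcyc : IsCyclic ↥(P : Subgroup G)) : (∀ g : G, g ∉ Subgroup.normalizer ((P : Subgroup G) : Set G) → (P : Subgroup G) ⊓ (MulAut.conj g • (P : Subgroup G)) = ⊥) ↔ ∀ x : G, x ∈ (P : Subgroup G) → x ≠ 1 → Subgroup.centralizer ({x} : Set G) = Subgroup.centralizer ((P : Subgroup G) : Set G) := by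
  constructor
  · intro hTI x hx hx1
    exact Cfsg.Agent.Helper37.TI.centralizer_eq_of_tie P hcyc
      ((Cfsg.Agent.Helper37.TI.ti_iff_tie _).1 hTI) x hx hx1
  · intro h
    exact (Cfsg.Agent.Helper37.TI.ti_iff_tie _).2
      (Cfsg.Agent.Helper37.TI.tie_of_centralizer_eq P
        (Cfsg.Agent.Helper37.TI.comm_of_cyclic hcyc) h)

end Cfsg.Agent.S3985
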