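import Mathlib
import Cfsg.Statements.S3997

set_option autoImplicit false
open Cfsg

namespace Cfsg.Agent.S3997

/-- The set of elements of `p`-power order. -/
def pElems (K : Type*) [Group K] (p : ℕ) : Set K := {g | ∃ k : ℕ, orderOf g = p ^ k}

theorem sylow_subset_pElems {K : Type*} [Group K] (p : ℕ) [Fact p.Prime] (P : Sylow p K) :
    (P : Set K) ⊆ pElems K p := by
  intro g hg
  obtain ⟨k, hk⟩ := (IsPGroup.iff_orderOf.mp P.isPGroup') ⟨g, hg⟩
  exact ⟨k, by rw [← hk, Subgroup.orderOf_mk]⟩

theorem pElems_subset_of_normal {K : Type*} [Group K] [Finite K] (p : ℕ) [Fact p.Prime] (P : Sylow p K)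
    (hP : (P : Subgroup K).Normal) : pElems K p ⊆ (P : Set K) := by
  rintro g ⟨k, hk⟩
  have hpg : IsPGroup p (Subgroup.zpowers g) := by
    apply IsPGroup.of_card (n := k)
    rw [Nat.card_zpowers, hk]
  obtain ⟨Q, hQ⟩ := hpg.exists_le_sylow
  haveI := Sylow.unique_of_normal P hP
  have : Q = P := Subsingleton.elim _ _
  rw [this] at hQ
  exact hQ (Subgroup.mem_zpowers g)

theorem normal_of_card_pElems {K : Type*} [Group K] [Finite K] (p : ℕ) [Fact p.Prime] (P : Sylow p K)
    (h : Nat.card (pElems K p) = Nat.card P) : (P : Subgroup K).Normal := by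
  have hsub := sylow_subset_pElems p P
  have heq : (P : Set K) = pElems K p := by
    apply Set.eq_of_subset_of_ncard_le hsub
    · rw [← Nat.card_coe_set_eq, ← Nat.card_coe_set_eq, h]
      rfl
  constructor
  intro n hn g
  have h1 : n ∈ pElems K p := hsub hn
  have h2 : g * n * g⁻¹ ∈ pElems K p := by
    obtain ⟨k, hk⟩ := h1
    refine ⟨k, ?_⟩
    rw [← hk]
    have := orderOf_injective (MulAut.conj g).toMonoidHom (MulAut.conj g).injective n
    simpa [MulAut.conj_apply] using this
  rw [← heq] at h2
  exact h2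

/-- Equal order types give an order-preserving bijection. -/
theorem exists_equiv_of_same_order_type {G H : Type*} [Group G] [Finite G] [Group H] [Finite H]
    (hT : ∀ m : ℕ, Nat.card {g : G // orderOf g = m} = Nat.card {h : H // orderOf h = m}) :
    ∃ φ : G ≃ H, ∀ g, orderOf (φ g) = orderOf g := by
  have hfib : ∀ m : ℕ, Nonempty ({g : G // orderOf g = m} ≃ {h : H // orderOf h = m}) :=
    fun m => Finite.card_eq.mp (hT m)
  let e : ∀ m : ℕ, {g : G // orderOf g = m} ≃ {h : H // orderOf h = m} := fun m => (hfib m).some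
  let φ : G ≃ H :=
    (Equiv.sigmaFiberEquiv (orderOf : G → ℕ)).symm.trans
      ((Equiv.sigmaCongrRight e).trans (Equiv.sigmaFiberEquiv (orderOf : H → ℕ)))
  refine ⟨φ, fun g => ?_⟩
  have : φ g = ((e (orderOf g)) ⟨g, rfl⟩ : H) := rfl
  rw [this]
  exact ((e (orderOf g)) ⟨g, rfl⟩).2

/-- Let G and H be finite groups with the same order type: for every m they have the same number of elements of order m. If G is nilpotent then so is H. -/
theorem result {G H : Type*} [Group G] [Finite G] [Group H] [Finite H] (hT : (∀ m : ℕ, Nat.card {g : G // orderOf g = m} = Nat.card {h : H // orderOf h = m})) (hG : Group.IsNilpotent G) :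
    Group.IsNilpotent H := by
  obtain ⟨φ, hφ⟩ := exists_equiv_of_same_order_type hT
  have hcard : Nat.card G = Nat.card H := Nat.card_congr φ
  have hnorm : ∀ (p : ℕ) (_hp : Fact p.Prime) (P : Sylow p H), (↑P : Subgroup H).Normal := by
    intro p hp P
    apply normal_of_card_pElems p P
    -- a Sylow subgroup of `G`
    obtain ⟨PG⟩ := (inferInstance : Nonempty (Sylow p G))
    have hall : ∀ (p : ℕ) (_hp : Fact p.Prime) (P : Sylow p G), (↑P : Subgroup G).Normal :=
      (Group.isNilpotent_of_finite_tfae.out 0 3 rfl rfl).mp hG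
    have hPGn : (PG : Subgroup G).Normal := hall p hp PG
    have h1 : (PG : Set G) = pElems G p :=
      Set.Subset.antisymm (sylow_subset_pElems p PG) (pElems_subset_of_normal p PG hPGn)
    have h2 : Nat.card (pElems G p) = Nat.card (pElems H p) := by
      apply Nat.card_congr
      refine Equiv.subtypeEquiv φ ?_
      intro g
      constructor
      · rintro ⟨k, hk⟩; exact ⟨k, by rw [hφ, hk]⟩
      · rintro ⟨k, hk⟩; exact ⟨k, by rw [← hφ, hk]⟩
    rw [← h2, ← h1, Sylow.card_eq_multiplicity P, ← hcard, ← Sylow.card_eq_multiplicity PG]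
    rfl
  exact (Group.isNilpotent_of_finite_tfae.out 0 3 rfl rfl).mpr hnorm

end Cfsg.Agent.S3997
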