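import Mathlib
import Cfsg.Statements.S3986
import Cfsg.Agent.Helper66.SylowFactor
import Cfsg.Agent.S3997

set_option autoImplicit false
open Cfsg

namespace Cfsg.Agent.S3986

open Cfsg.Agent.Helper66

/-- Let p be a prime and G a finite group. Then some Sylow p-subgroup of G is a direct factor of G (it is normal and has a normal complement) if and only if every element of p-power order commutes with every element whose order is a power of a prime other than p. -/
theorem result {G : Type*} [Group G] [Finite G] (p : ℕ) [Fact p.Prime] : (∃ (P : Sylow p G) (K : Subgroup G), (P : Subgroup G).Normal ∧ K.Normal ∧ (P : Subgroup G) ⊓ K = ⊥ ∧ (P : Subgroup G) ⊔ K = ⊤) ↔ ∀ x y : G, (∃ a : ℕ, orderOf x = p ^ a) → (∃ q b : ℕ, q.Prime ∧ q ≠ p ∧ orderOf y = q ^ b) → x * y = y * x := by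
  have hp : p.Prime := Fact.out
  constructor
  · rintro ⟨P, K, hPn, hKn, hinf, hsup⟩ x y hx ⟨q, b, hq, hqp, hy⟩
    have hx' : x ∈ Cfsg.Agent.S3997.pElems G p := hx
    have hxP' : x ∈ (P : Set G) := Cfsg.Agent.S3997.pElems_subset_of_normal p P hPn hx'
    have hxP : x ∈ (P : Subgroup G) := hxP'
    have hP' : IsPGroup p (P : Subgroup G) := P.isPGroup'
    have hquot : IsPGroup p (G ⧸ K) := isPGroup_quotient_of_sup_eq_top p (P : Subgroup G) K hP' hsup
    have hyK : y ∈ K := by
      apply mem_of_coprime_orderOf_of_isPGroup_quotient p K hquot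
      rw [hy]
      exact Nat.Coprime.pow_left b ((Nat.coprime_primes hq hp).mpr hqp)
    exact Subgroup.commute_of_normal_of_disjoint _ _ hPn hKn (disjoint_iff.mpr hinf) x y hxP hyK
  · intro hcomm
    obtain ⟨P⟩ := (inferInstance : Nonempty (Sylow p G))
    set C := Subgroup.centralizer ((P : Subgroup G) : Set G) with hC
    -- every Sylow q-subgroup for q ≠ p centralizes P
    have hQC : ∀ (q : ℕ) [Fact q.Prime], q ≠ p → ∀ Q : Sylow q G, (Q : Subgroup G) ≤ C := by
      intro q hqf hqp Q y hy
      rw [hC, Subgroup.mem_centralizer_iff]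
      intro x hx
      obtain ⟨a, ha⟩ := (IsPGroup.iff_orderOf.mp P.isPGroup') ⟨x, hx⟩
      obtain ⟨b, hb⟩ := (IsPGroup.iff_orderOf.mp Q.isPGroup') ⟨y, hy⟩
      rw [Subgroup.orderOf_mk] at ha hb
      exact hcomm x y ⟨a, ha⟩ ⟨q, b, hqf.out, hqp, hb⟩
    have hsupC : (P : Subgroup G) ⊔ C = ⊤ := by
      apply eq_top_of_forall_sylow_le
      intro q hqf
      by_cases hqp : q = p
      · subst hqp
        exact ⟨P, le_sup_left⟩
      · obtain ⟨Q⟩ := (inferInstance : Nonempty (Sylow q G))
        exact ⟨Q, (hQC q hqp Q).trans le_sup_right⟩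
    have hPn : (P : Subgroup G).Normal := by
      rw [← Subgroup.normalizer_eq_top_iff, eq_top_iff, ← hsupC]
      exact sup_le Subgroup.le_normalizer (Subgroup.centralizer_le_normalizer _)
    haveI := hPn
    obtain ⟨K, hK⟩ := Subgroup.exists_right_complement'_of_coprime (N := (P : Subgroup G))
      P.card_coprime_index
    have hCn : C.Normal := Subgroup.normal_centralizer
    have hP' : IsPGroup p (P : Subgroup G) := P.isPGroup'
    have hquot : IsPGroup p (G ⧸ C) := isPGroup_quotient_of_sup_eq_top p (P : Subgroup G) C hP' hsupC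
    have hKC : K ≤ C := by
      intro k hk
      apply mem_of_coprime_orderOf_of_isPGroup_quotient p C hquot
      have h1 : orderOf k ∣ Nat.card K := by
        have := orderOf_dvd_natCard (⟨k, hk⟩ : K)
        rwa [Subgroup.orderOf_mk] at this
      have h2 : Nat.card K = (P : Subgroup G).index := (hK.symm.index_eq_card).symm
      have h3 : ((P : Subgroup G).index).Coprime p := by
        rw [Nat.coprime_comm, Nat.Prime.coprime_iff_not_dvd hp]
        exact P.not_dvd_index
      rw [← h2] at h3
      exact Nat.Coprime.coprime_dvd_left h1 h3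
    have hKn : K.Normal := by
      rw [← Subgroup.normalizer_eq_top_iff, eq_top_iff, ← hK.sup_eq_top]
      refine sup_le ?_ Subgroup.le_normalizer
      have : (P : Subgroup G) ≤ Subgroup.centralizer (K : Set G) := Subgroup.le_centralizer_iff.mp hKC
      exact this.trans (Subgroup.centralizer_le_normalizer _)
    exact ⟨P, K, hPn, hKn, hK.disjoint.eq_bot, hK.sup_eq_top⟩

end Cfsg.Agent.S3986
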