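import Mathlib
import Cfsg.Statements.S3987
import Cfsg.Agent.Helper66.ClassSize
import Cfsg.Agent.S3986

set_option autoImplicit false
open Cfsg

namespace Cfsg.Agent.S3987

open Cfsg.Agent.Helper66
open scoped Pointwise

/-- If the class of `x * y` has as many elements as the product of the class sizes of `x` and `y`,
then `x` and `y` commute. -/
theorem commute_of_index_mul {G : Type*} [Group G] [Finite G] (x y : G)
    (h : (Subgroup.centralizer ({x * y} : Set G)).index =
      (Subgroup.centralizer ({x} : Set G)).index * (Subgroup.centralizer ({y} : Set G)).index) :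
    x * y = y * x := by
  classical
  haveI := Fintype.ofFinite G
  let X : Finset G := Finset.univ.image (fun a : G => a * x * a⁻¹)
  let Y : Finset G := Finset.univ.image (fun a : G => a * y * a⁻¹)
  let Z : Finset G := Finset.univ.image (fun a : G => a * (x * y) * a⁻¹)
  have hcard : ∀ g : G, (Finset.univ.image (fun a : G => a * g * a⁻¹)).card =
      (Subgroup.centralizer ({g} : Set G)).index := by
    intro g
    rw [← card_range_conj_eq_index, ← Set.toFinset_range, Nat.card_eq_fintype_card,
      Set.toFinset_card]
  have hZsub : Z ⊆ X * Y := by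
    intro z hz
    obtain ⟨a, _, rfl⟩ := Finset.mem_image.mp hz
    rw [Finset.mem_mul]
    refine ⟨a * x * a⁻¹, Finset.mem_image.mpr ⟨a, Finset.mem_univ _, rfl⟩, a * y * a⁻¹,
      Finset.mem_image.mpr ⟨a, Finset.mem_univ _, rfl⟩, by group⟩
  have hZcard : Z.card = X.card * Y.card := by
    rw [hcard, hcard x, hcard y, h]
  have hle : (X * Y).card ≤ X.card * Y.card := Finset.card_mul_le
  have hXY : (X * Y).card = X.card * Y.card :=
    le_antisymm hle (hZcard ▸ Finset.card_le_card hZsub)
  have hinj := Finset.card_mul_iff.mp hXY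
  have hxX : x ∈ X := Finset.mem_image.mpr ⟨1, Finset.mem_univ _, by group⟩
  have hyY : y ∈ Y := Finset.mem_image.mpr ⟨1, Finset.mem_univ _, by group⟩
  have h1 : (y * x * y⁻¹, y) ∈ ((X : Set G) ×ˢ (Y : Set G)) :=
    ⟨Finset.mem_coe.mpr (Finset.mem_image.mpr ⟨y, Finset.mem_univ _, rfl⟩), Finset.mem_coe.mpr hyY⟩
  have h2 : (x, x⁻¹ * y * x⁻¹⁻¹) ∈ ((X : Set G) ×ˢ (Y : Set G)) :=
    ⟨Finset.mem_coe.mpr hxX, Finset.mem_coe.mpr (Finset.mem_image.mpr ⟨x⁻¹, Finset.mem_univ _, rfl⟩)⟩
  have h3 := hinj h1 h2 (by simp only []; group)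
  have h4 : y * x * y⁻¹ = x := congrArg Prod.fst h3
  calc x * y = (y * x * y⁻¹) * y := by rw [h4]
    _ = y * x := by group

/-- Let p be a prime and G a finite group. Then some Sylow p-subgroup of G is a direct factor of G (normal with a normal complement) if and only if for every element x of p-power order and every element y whose order is a power of a prime other than p, the conjugacy class of x y has as many elements as the product of the sizes of the classes of x and of y. -/
theorem result {G : Type*} [Group G] [Finite G] (p : ℕ) [Fact p.Prime] : (∃ (P : Sylow p G) (K : Subgroup G), (P : Subgroup G).Normal ∧ K.Normal ∧ (P : Subgroup G) ⊓ K = ⊥ ∧ (P : Subgroup G) ⊔ K = ⊤) ↔ ∀ x y : G, (∃ a : ℕ, orderOf x = p ^ a) → (∃ q b : ℕ, q.Prime ∧ q ≠ p ∧ orderOf y = q ^ b) → (Subgroup.centralizer ({x * y} : Set G)).index = (Subgroup.centralizer ({x} : Set G)).index * (Subgroup.centralizer ({y} : Set G)).index := by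
  have hp : p.Prime := Fact.out
  constructor
  · rintro ⟨P, K, hPn, hKn, hinf, hsup⟩ x y hx ⟨q, b, hq, hqp, hy⟩
    have hx' : x ∈ Cfsg.Agent.S3997.pElems G p := hx
    have hxP' : x ∈ (P : Set G) := Cfsg.Agent.S3997.pElems_subset_of_normal p P hPn hx'
    have hxP : x ∈ (P : Subgroup G) := hxP'
    have hP' : IsPGroup p (P : Subgroup G) := P.isPGroup'
    have hquot : IsPGroup p (G ⧸ K) := isPGroup_quotient_of_sup_eq_top p (P : Subgroup G) K hP' hsup
    have hyK : y ∈ K := by
      apply mem_of_coprime_orderOf_of_isPGroup_quotient p K hquot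
      rw [hy]
      exact Nat.Coprime.pow_left b ((Nat.coprime_primes hq hp).mpr hqp)
    -- the isomorphism P × K ≃* G
    have hcomm : ∀ (m : (P : Subgroup G)) (n : K), Commute ((P : Subgroup G).subtype m) (K.subtype n) :=
      fun m n => Subgroup.commute_of_normal_of_disjoint _ _ hPn hKn (disjoint_iff.mpr hinf) m n m.2 n.2
    let f : (↥(P : Subgroup G)) × (↥K) →* G := MonoidHom.noncommCoprod (P : Subgroup G).subtype K.subtype hcomm
    have hfinj : Function.Injective f := by
      rw [MonoidHom.noncommCoprod_injective]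
      refine ⟨Subgroup.subtype_injective _, Subgroup.subtype_injective _, ?_⟩
      rw [Subgroup.range_subtype, Subgroup.range_subtype]
      exact disjoint_iff.mpr hinf
    have hfsurj : Function.Surjective f := by
      rw [← MonoidHom.range_eq_top, MonoidHom.noncommCoprod_range, Subgroup.range_subtype,
        Subgroup.range_subtype]
      exact hsup
    let e : (↥(P : Subgroup G)) × (↥K) ≃* G := MulEquiv.ofBijective f ⟨hfinj, hfsurj⟩
    have e1 : e (⟨x, hxP⟩, 1) = x := by
      show (x : G) * ((1 : K) : G) = x
      simp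
    have e2 : e (1, ⟨y, hyK⟩) = y := by
      show (((1 : (P : Subgroup G)) : G)) * y = y
      simp
    have e3 : e (⟨x, hxP⟩, ⟨y, hyK⟩) = x * y := rfl
    rw [← e3, index_centralizer_mulEquiv, index_centralizer_prod]
    conv_rhs => rw [← e1, ← e2, index_centralizer_mulEquiv, index_centralizer_mulEquiv,
      index_centralizer_prod, index_centralizer_prod]
    have t1 : (Subgroup.centralizer ({(1 : K)} : Set K)).index = 1 := by
      rw [Subgroup.index_eq_one, eq_top_iff]
      intro k _
      rw [Subgroup.mem_centralizer_singleton_iff]; simp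
    have t2 : (Subgroup.centralizer ({(1 : (P : Subgroup G))} : Set (P : Subgroup G))).index = 1 := by
      rw [Subgroup.index_eq_one, eq_top_iff]
      intro k _
      rw [Subgroup.mem_centralizer_singleton_iff]; simp
    rw [t1, t2, mul_one, one_mul]
  · intro h
    apply (Cfsg.Agent.S3986.result p).mpr
    intro x y hx hy
    exact commute_of_index_mul x y (h x y hx hy)

end Cfsg.Agent.S3987
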