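import Cfsg.Statements.S3992
import Cfsg.Agent.Helper57.CPSimple

set_option autoImplicit false
open Cfsg

namespace Cfsg.Agent.S3992

open Cfsg.Agent.Helper57.CP

/-- The preimage of a solvable subgroup of `G ⧸ R` (`R` solvable) is solvable. -/
theorem isSolvable_comap {G : Type*} [Group G] (R : Subgroup G) [R.Normal]
    (hRs : Group.IsSolvable ↥R) (N : Subgroup (G ⧸ R)) (hN : Group.IsSolvable ↥N) :
    Group.IsSolvable ↥(N.comap (QuotientGroup.mk' R)) := by
  have hle : R ≤ N.comap (QuotientGroup.mk' R) := by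
    intro x hx
    rw [Subgroup.mem_comap]
    have : QuotientGroup.mk' R x = 1 := (QuotientGroup.eq_one_iff x).2 hx
    rw [this]
    exact N.one_mem
  refine Group.isSolvable_of_ker_le_range (Subgroup.inclusion hle)
    ((QuotientGroup.mk' R).subgroupComap N) ?_
  intro x hx
  rw [MonoidHom.mem_ker] at hx
  have h1 : QuotientGroup.mk' R (x : G) = 1 := by
    have h0 : ((((QuotientGroup.mk' R).subgroupComap N) x : ↥N) : G ⧸ R) = ((1 : ↥N) : G ⧸ R) :=
      congrArg Subtype.val hx
    exact h0
  have h2 : (x : G) ∈ R := (QuotientGroup.eq_one_iff (x : G)).1 h1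
  exact ⟨⟨(x : G), h2⟩, Subtype.ext rfl⟩

/-- Let G be a finite non-solvable group in which every element has prime-power order, and let R be its largest solvable normal subgroup. Then R is a p-group for some prime p; G/R has a non-abelian simple normal subgroup contained in every nontrivial normal subgroup of G/R (its unique minimal normal subgroup); and the order of every solvable subgroup of G has at most two prime divisors. -/
theorem result {G : Type*} [Group G] [Finite G] (hns : ¬ Group.IsSolvable G) (hpp : ∀ g : G, g ≠ 1 → IsPrimePow (orderOf g))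
    (R : Subgroup G) [R.Normal] (hRs : Group.IsSolvable ↥R) (hRmax : ∀ N : Subgroup G, N.Normal → Group.IsSolvable ↥N → N ≤ R) :
    (∃ p : ℕ, p.Prime ∧ IsPGroup p ↥R) ∧
      (∃ M : Subgroup (G ⧸ R), M.Normal ∧ IsSimpleGroup ↥M ∧ ¬ IsMulCommutative ↥M ∧
        ∀ N : Subgroup (G ⧸ R), N.Normal → N ≠ ⊥ → M ≤ N) ∧
      ∀ H : Subgroup G, Group.IsSolvable ↥H → (Nat.card ↥H).primeFactors.card ≤ 2 := by
  have hcp : IsCP G := hpp
  have hnsQ : ¬ Group.IsSolvable (G ⧸ R) := by
    intro h
    exact hns (Group.isSolvable_of_ker_le_range R.subtype (QuotientGroup.mk' R) (by simp))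
  have hradQ : ∀ N : Subgroup (G ⧸ R), N.Normal → Group.IsSolvable ↥N → N = ⊥ := by
    intro N hNn hNs
    have hN'n : (N.comap (QuotientGroup.mk' R)).Normal := inferInstance
    have hle := hRmax _ hN'n (isSolvable_comap R hRs N hNs)
    rw [eq_bot_iff]
    intro n hn
    obtain ⟨x, rfl⟩ := QuotientGroup.mk_surjective n
    rw [Subgroup.mem_bot]
    exact (QuotientGroup.eq_one_iff x).2 (hle (Subgroup.mem_comap.2 hn))
  refine ⟨radical_isPGroup hcp hns R hRs, ?_, ?_⟩
  · exact exists_simple_minimal (isCP_quotient hcp R) hnsQ hradQ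
  · intro H hH
    have := hH
    exact card_primeFactors_le_two (isCP_subgroup hcp H)

end Cfsg.Agent.S3992
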