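import Cfsg.Statements.S3995
import Cfsg.Agent.Helper66.OrderCount2

set_option autoImplicit false
set_option linter.style.haveILetI false
open Cfsg

namespace Cfsg.Agent.S3995

open Cfsg.Agent.Helper66 in
/-- Let G be a finite group such that the numbers of elements of each order that occurs in G (the numbers #{g : o(g) = m}, m ranging over the element orders of G) take exactly two values, 1 and some n ≠ 1. Then either G is a p-group of exponent p and order at least 3 for some prime p, or G is the quaternion group of order 8, or G is cyclic of order 4, or G ≅ Z₂ × P for a p-group P of exponent p with p an odd prime. -/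
theorem result {G : Type*} [Group G] [Finite G] (n : ℕ) (hn : n ≠ 1) (h : ((fun m : ℕ => Nat.card {g : G // orderOf g = m}) '' Set.range (orderOf : G → ℕ)) = {1, n}) :
    (∃ p : ℕ, p.Prime ∧ IsPGroup p G ∧ 3 ≤ Nat.card G ∧ Monoid.exponent G = p) ∨
      Nonempty (G ≃* QuaternionGroup 2) ∨ (IsCyclic G ∧ Nat.card G = 4) ∨
      (∃ (p : ℕ) (P : Type) (_ : Group P) (_ : Finite P), p.Prime ∧ p ≠ 2 ∧ IsPGroup p P ∧ Monoid.exponent P = p ∧
        Nonempty (G ≃* Multiplicative (ZMod 2) × P)) := by
  classical
  -- every count is `1` or `n`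
  have hall : ∀ g : G, cnt G (orderOf g) = 1 ∨ cnt G (orderOf g) = n := by
    intro g
    have hm : cnt G (orderOf g) ∈
        ((fun m : ℕ => Nat.card {g : G // orderOf g = m}) '' Set.range (orderOf : G → ℕ)) :=
      ⟨orderOf g, ⟨g, rfl⟩, rfl⟩
    rw [h] at hm
    simpa using hm
  -- `n` is attained
  have hn_att : ∃ g : G, cnt G (orderOf g) = n := by
    have hm : n ∈ ((fun m : ℕ => Nat.card {g : G // orderOf g = m}) '' Set.range (orderOf : G → ℕ)) := by
      rw [h]; simp
    obtain ⟨m, ⟨g, rfl⟩, hg⟩ := hm
    exact ⟨g, hg⟩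
  obtain ⟨g0, hg0⟩ := hn_att
  have hg0_1 : orderOf g0 ≠ 1 := by
    intro h1
    rw [h1, cnt_one] at hg0
    exact hn hg0.symm
  have hn0 : n ≠ 0 := by
    intro h0
    have := cnt_pos_of_orderOf g0
    omega
  by_cases hB : ∃ t : G, orderOf t = 2 ∧ cnt G 2 = 1
  · -- case B: unique involution
    obtain ⟨t, ht, hc2⟩ := hB
    have hU : UniqInv G n t := by
      refine ⟨ht, ?_, ?_⟩
      · intro g hg
        have hc2' := hc2
        unfold cnt at hc2'
        rw [Nat.card_eq_one_iff_unique] at hc2'
        obtain ⟨hs, -⟩ := hc2'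
        have : (⟨g, hg⟩ : {x : G // orderOf x = 2}) = ⟨t, ht⟩ := Subsingleton.elim _ _
        exact congrArg Subtype.val this
      · intro g h1 h2
        rcases hall g with hc | hc
        · rcases le_two_of_cnt_eq_one hc with h' | h'
          · exact absurd h' h1
          · exact absurd h' h2
        · exact hc
    have hg0_2 : orderOf g0 ≠ 2 := by
      intro h2
      rw [h2, hc2] at hg0
      exact hn hg0.symm
    by_cases h4 : 4 ∣ Nat.card G
    · rcases hU.four_dvd h4 with hq | hc
      · exact Or.inr (Or.inl hq)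
      · exact Or.inr (Or.inr (Or.inl hc))
    · exact Or.inr (Or.inr (Or.inr (hU.not_four_dvd h4 ⟨g0, hg0_1, hg0_2⟩)))
  · -- case A: all counts equal `n`
    left
    push Not at hB
    have hS : SameCount G n := by
      intro g hg
      rcases hall g with hc | hc
      · exfalso
        rcases le_two_of_cnt_eq_one hc with h' | h'
        · exact hg (orderOf_eq_one_iff.mp h')
        · exact hB g h' (h' ▸ hc)
      · exact hc
    haveI : Nontrivial G := ⟨⟨g0, 1, fun h1 => hg0_1 (by rw [h1]; exact orderOf_one)⟩⟩
    obtain ⟨p, hp, hpG, hexp, hcard⟩ := hS.isPGroup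
    refine ⟨p, hp, hpG, ?_, hexp⟩
    omega

end Cfsg.Agent.S3995
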