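import Mathlib
import Cfsg.Statements.S3999
import Cfsg.Agent.Helper10.OrderType
import Cfsg.Agent.Helper10.FrobOTMain

set_option autoImplicit false
open Cfsg

namespace Cfsg.Agent.S3999

/-- Let F be a finite Frobenius group (it has a Frobenius complement) and G a finite group with the same order type as F (for every m the same number of elements of order m). Then G is a Frobenius group; moreover G is solvable if and only if F is. -/
theorem result {F G : Type*} [Group F] [Finite F] [Group G] [Finite G] (hF : (∃ C : Subgroup F, Cfsg.IsFrobeniusComplement C)) (hT : (∀ m : ℕ, Nat.card {g : F // orderOf g = m} = Nat.card {h : G // orderOf h = m})) :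
    (∃ C : Subgroup G, Cfsg.IsFrobeniusComplement C) ∧ (Group.IsSolvable G ↔ Group.IsSolvable F) := by
  obtain ⟨C₀, hC₀⟩ := hF
  obtain ⟨e, he⟩ := Cfsg.Agent.Helper10.OrderType.exists_orderOf_equiv hT
  obtain ⟨C, hC⟩ := Cfsg.Agent.Helper10.FrobOT.exists_frobenius_of_orderType hC₀ e he
  have he' : ∀ y, orderOf (e.symm y) = orderOf y := fun y => by
    rw [← he (e.symm y), Equiv.apply_symm_apply]
  refine ⟨⟨C, hC⟩, ⟨fun hG => ?_, fun hF' => ?_⟩⟩
  · by_contra hns
    exact Cfsg.Agent.Helper10.FrobOT.not_isSolvable_of_orderType hC₀ hns e he hG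
  · by_contra hns
    exact Cfsg.Agent.Helper10.FrobOT.not_isSolvable_of_orderType hC hns e.symm he' hF'

end Cfsg.Agent.S3999
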