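import Cfsg.Statements.S4002
import Cfsg.Agent.Helper60.SolvGraph

set_option autoImplicit false
open Cfsg

namespace Cfsg.Agent.S4002

/-- For `n ≥ 7` there are three primes `p < q < r ≤ n` with `p * q > n`. -/
theorem exists_three_primes (n : ℕ) (hn : 7 ≤ n) :
    ∃ p q r : ℕ, p.Prime ∧ q.Prime ∧ r.Prime ∧ p < q ∧ q < r ∧ r ≤ n ∧ n < p * q := by
  by_cases h32 : 32 ≤ n
  · obtain ⟨r, hr, hr1, hr2⟩ := Nat.exists_prime_lt_and_le_two_mul (n / 2) (by omega)
    obtain ⟨q, hq, hq1, hq2⟩ := Nat.exists_prime_lt_and_le_two_mul (n / 4) (by omega)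
    obtain ⟨p, hp, hp1, hp2⟩ := Nat.exists_prime_lt_and_le_two_mul (n / 8) (by omega)
    refine ⟨p, q, r, hp, hq, hr, by omega, by omega, by omega, ?_⟩
    have h1 : n + 1 ≤ 8 * p := by omega
    have h2 : n + 1 ≤ 4 * q := by omega
    nlinarith
  · by_cases h15 : 15 ≤ n
    · exact ⟨5, 7, 11, by norm_num, by norm_num, by norm_num, by norm_num, by norm_num, by omega,
        by omega⟩
    · by_cases h10 : 10 ≤ n
      · exact ⟨3, 5, 7, by norm_num, by norm_num, by norm_num, by norm_num, by norm_num, by omega,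
          by omega⟩
      · exact ⟨2, 5, 7, by norm_num, by norm_num, by norm_num, by norm_num, by norm_num, by omega,
          by omega⟩

/-- If the set of element orders of a finite group G is {1, 2, …, n} with n ≥ 7, then G is not solvable. -/
theorem result {G : Type*} [Group G] [Finite G] (n : ℕ) (hn : 7 ≤ n) (h : Set.range (orderOf : G → ℕ) = {k : ℕ | 1 ≤ k ∧ k ≤ n}) : ¬ Group.IsSolvable G := by
  intro hsol
  obtain ⟨p, q, r, hp, hq, hr, hpq, hqr, hrn, hlt⟩ := exists_three_primes n hn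
  have hdvd : ∀ s : ℕ, s.Prime → s ≤ n → s ∣ Nat.card G := by
    intro s hs hsn
    have hmem : s ∈ Set.range (orderOf : G → ℕ) := by
      rw [h]
      exact ⟨hs.one_lt.le, hsn⟩
    obtain ⟨x, hx⟩ := hmem
    exact hx ▸ orderOf_dvd_natCard x
  have hno : ∀ m : ℕ, n < m → ¬ ∃ x : G, orderOf x = m := by
    rintro m hm ⟨x, hx⟩
    have hmem : m ∈ Set.range (orderOf : G → ℕ) := ⟨x, hx⟩
    rw [h] at hmem
    exact absurd hmem.2 (by omega)
  have h1 : n < p * r := lt_of_lt_of_le hlt (Nat.mul_le_mul_left p hqr.le)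
  have h2 : n < q * r := lt_of_lt_of_le h1 (Nat.mul_le_mul_right r hpq.le)
  rcases Cfsg.Agent.Helper60.hasEdge_of_solvable G p q r hp hq hr (by omega) (by omega) (by omega)
    (hdvd p hp (by omega)) (hdvd q hq (by omega)) (hdvd r hr hrn) with h3 | h3 | h3
  · exact hno _ hlt h3
  · exact hno _ h1 h3
  · exact hno _ h2 h3

end Cfsg.Agent.S4002
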