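import Cfsg.Statements.S4003
import Cfsg.Agent.Helper70.Miller5

set_option autoImplicit false
open Cfsg

namespace Cfsg.Agent.S4003

open Cfsg.Agent.Helper70.PCount
open scoped Classical

/-- conjugation action of a subgroup on the elements of the group -/
@[reducible] def conjEltAction {G : Type*} [Group G] (R : Subgroup G) : MulAction R G :=
  MulAction.compHom G ((MulAut.conj : G →* MulAut G).comp R.subtype)

attribute [local instance] conjEltAction

theorem conjElt_smul_def {G : Type*} [Group G] (R : Subgroup G) (g : R) (x : G) :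
    g • x = (g : G) * x * (g : G)⁻¹ := rfl

/-- the sum over the `p'`-parts of the numbers of cyclic subgroups of order `p ^ s` in the
centralizers is divisible by `p`. -/
theorem dvd_sum_cyc {G : Type*} [Group G] [Finite G] (p : ℕ) [hp : Fact p.Prime] (hodd : p ≠ 2)
    (P : Sylow p G) (hP : ¬ IsCyclic ↥(P : Subgroup G)) (s m : ℕ) (hs : 1 < s) :
    p ∣ ∑ y ∈ eltsOfOrder m (⊤ : Subgroup G),
      (cycOfCard (p ^ s) (Subgroup.centralizer ({y} : Set G))).card := by
  let R : Subgroup G := (P : Subgroup G)
  have hRp : IsPGroup p R := P.isPGroup'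
  set Y := eltsOfOrder m (⊤ : Subgroup G) with hY
  set c : G → ℕ := fun y => (cycOfCard (p ^ s) (Subgroup.centralizer ({y} : Set G))).card with hc
  have hφ : 0 < Nat.totient (p ^ s) := Nat.totient_pos.mpr (pow_pos hp.out.pos s)
  have hinvY : ∀ g : R, ∀ y ∈ Y, g • y ∈ Y := by
    intro g y hy
    rw [hY, mem_eltsOfOrder] at hy ⊢
    rw [conjElt_smul_def, orderOf_conj_mul]
    exact ⟨hy.1, Subgroup.mem_top _⟩
  have hcinv : ∀ g : R, ∀ y : G, c (g • y) = c y := by
    intro g y
    have h1 := card_eltsOfOrder_centralizer_conj (p ^ s) (g : G) y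
    rw [card_eltsOfOrder, card_eltsOfOrder] at h1
    exact Nat.eq_of_mul_eq_mul_left hφ h1
  rw [← Finset.sum_filter_add_sum_filter_not Y (fun y => ∀ g : R, g • y = y)]
  apply dvd_add
  · -- fixed part
    apply Finset.dvd_sum
    intro y hy
    rw [Finset.mem_filter] at hy
    have hle : (P : Subgroup G) ≤ Subgroup.centralizer ({y} : Set G) := by
      intro g hg
      rw [mem_centralizer_singleton]
      have h1 := hy.2 ⟨g, hg⟩
      rw [conjElt_smul_def] at h1
      have h2 : g * y = y * g := by
        have := congrArg (fun t => t * g) h1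
        simpa [mul_assoc] using this
      exact h2
    show p ∣ (cycOfCard (p ^ s) (Subgroup.centralizer ({y} : Set G))).card
    rw [card_cycOfCard_eq]
    apply miller_sylow hodd (P.subtype hle) _ s hs
    intro hcyc
    apply hP
    rw [Sylow.coe_subtype] at hcyc
    haveI := hcyc
    exact isCyclic_of_surjective (Subgroup.subgroupOfEquivOfLe hle)
      (Subgroup.subgroupOfEquivOfLe hle).surjective
  · -- moved part
    apply dvd_sum_of_invariant hRp _ c
    · intro g t ht
      rw [Finset.mem_filter] at ht ⊢
      refine ⟨hinvY g t ht.1, fun hfix => ht.2 (fun k => ?_)⟩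
      have := hfix (g * k * g⁻¹)
      rw [mul_smul, mul_smul, inv_smul_smul] at this
      exact smul_left_cancel g this
    · intro g y _
      exact hcinv g y
    · intro y hy
      rw [Finset.mem_filter] at hy
      have := hy.2
      push Not at this
      exact this

/-- Let G be a finite group, p an odd prime dividing the order of G whose Sylow p-subgroups are not cyclic, and n = p^s·m with s > 1 and m coprime to p. Then the number of elements of G of order n is a multiple of p^s. -/
theorem result {G : Type*} [Group G] [Finite G] (p : ℕ) [Fact p.Prime] (hodd : p ≠ 2) (hpG : p ∣ Nat.card G)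
    (P : Sylow p G) (hP : ¬ IsCyclic ↥(P : Subgroup G)) (s m : ℕ) (hs : 1 < s) (hm : Nat.Coprime p m) :
    p ^ s ∣ Nat.card {g : G // orderOf g = p ^ s * m} := by
  have hp : p.Prime := Fact.out
  have hm0 : 0 < m := by
    rcases Nat.eq_zero_or_pos m with h | h
    · subst h
      rw [Nat.coprime_zero_right] at hm
      exact absurd hm hp.one_lt.ne'
    · exact h
  have hps : 1 < p ^ s := Nat.one_lt_pow (by omega) hp.one_lt
  have hcard : Nat.card {g : G // orderOf g = p ^ s * m} =
      (eltsOfOrder (p ^ s * m) (⊤ : Subgroup G)).card := by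
    unfold eltsOfOrder
    rw [card_toFinset_eq]
    exact Nat.card_congr (Equiv.subtypeEquivRight (fun g => by simp))
  rw [hcard, card_eltsOfOrder_mul (p ^ s) m (Nat.Coprime.pow_left s hm) hps hm0]
  have h1 : ∀ y ∈ eltsOfOrder m (⊤ : Subgroup G),
      (eltsOfOrder (p ^ s) (Subgroup.centralizer ({y} : Set G))).card =
        Nat.totient (p ^ s) * (cycOfCard (p ^ s) (Subgroup.centralizer ({y} : Set G))).card :=
    fun y _ => card_eltsOfOrder _ _
  rw [Finset.sum_congr rfl h1, ← Finset.mul_sum, Nat.totient_prime_pow hp (by omega)]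
  obtain ⟨t, ht⟩ := dvd_sum_cyc p hodd P hP s m hs
  rw [ht]
  have : p ^ s = p ^ (s - 1) * p := by
    rw [← pow_succ]; congr 1; omega
  rw [this]
  exact ⟨(p - 1) * t, by ring⟩

end Cfsg.Agent.S4003
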