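import Cfsg.Statements.S4005
import Cfsg.Agent.Lib.BurnsidePQ
import Cfsg.Agent.Helper60.Hall
import Cfsg.Agent.Helper79.InvSylow

set_option autoImplicit false
open Cfsg

namespace Cfsg.Agent.S4005

variable {G : Type*} [Group G]

/-- A computation in a commutative group. -/
theorem comm_calc {A : Type*} [Group A] (hc : ∀ a b : A, a * b = b * a)
    (v0 v1 v2 v3 v4 v5 v6 : A) (h0 : v0 * v0 = 1)
    (r1 : v0 * v1 * v2 = 1) (r2 : v0 * v3 * v4 = 1) (r3 : v0 * v5 * v6 = 1)
    (r4 : v1 * v3 * v6 = 1) (r5 : v2 * v5 * v4 = 1) : v0 = 1 := by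
  have _ : Std.Commutative (α := A) (· * ·) := ⟨hc⟩
  have h : (v0 * v1 * v2) * (v0 * v3 * v4) * (v0 * v5 * v6) =
      (v0 * v0) * v0 * ((v1 * v3 * v6) * (v2 * v5 * v4)) := by
    ac_rfl
  rw [r1, r2, r3, r4, r5, h0] at h
  simpa using h.symm

/-- There are no commuting elements of orders 3 and 2. -/
theorem no_six (hord : ∀ g : G, orderOf g = 1 ∨ orderOf g = 2 ∨ orderOf g = 3) (x y : G)
    (hxy : Commute x y) (hx : orderOf x = 3) (hy : orderOf y = 2) : False := by
  have := hxy.orderOf_mul_eq_mul_orderOf_of_coprime (by rw [hx, hy]; decide)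
  rw [hx, hy] at this
  rcases hord (x * y) with h | h | h <;> omega

theorem commute_of_conj_eq {s k : G} (h : s * k * s⁻¹ = k) : Commute s k := by
  have := congrArg (· * s) h
  simp only [inv_mul_cancel_right] at this
  exact this

theorem sq_mul_of_comm {a c : G} (h : a * c = c * a) :
    (a * c) * (a * c) = (a * a) * (c * c) := by
  calc (a * c) * (a * c) = a * (c * a) * c := by simp only [mul_assoc]
    _ = a * (a * c) * c := by rw [← h]
    _ = (a * a) * (c * c) := by simp only [mul_assoc]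

theorem cube_mul_of_comm {a c : G} (h : a * c = c * a) :
    (a * c) * (a * c) * (a * c) = (a * a * a) * (c * c * c) := by
  rw [sq_mul_of_comm h]
  have h2 : (c * c) * a = a * (c * c) := by rw [mul_assoc, ← h, ← mul_assoc, ← h, mul_assoc]
  calc (a * a) * (c * c) * (a * c) = (a * a) * ((c * c) * a) * c := by simp only [mul_assoc]
    _ = (a * a) * (a * (c * c)) * c := by rw [h2]
    _ = (a * a * a) * (c * c * c) := by simp only [mul_assoc]

/-- The case of a nontrivial normal `3`-subgroup. -/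
theorem case_three [Finite G] (hord : ∀ g : G, orderOf g = 1 ∨ orderOf g = 2 ∨ orderOf g = 3)
    (t : G) (ht : orderOf t = 2) (R : Subgroup G) [R.Normal] (a : G) (haR : a ∈ R)
    (ha : orderOf a = 3) (hRc : ∀ x ∈ R, ∀ y ∈ R, x * y = y * x) :
    ∃ N : Subgroup G, N.Normal ∧ Cfsg.IsElementaryAbelian 3 N ∧ N.index = 2 := by
  obtain ⟨C, hC⟩ : ∃ C : Subgroup G, C = Subgroup.centralizer (R : Set G) := ⟨_, rfl⟩
  have hCn : C.Normal := by rw [hC]; exact Subgroup.normal_centralizer
  have htt : t * t = 1 := by rw [← pow_two, ← ht]; exact pow_orderOf_eq_one t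
  have htinv : t⁻¹ = t := inv_eq_of_mul_eq_one_left htt
  have hC13 : ∀ k ∈ C, orderOf k = 1 ∨ orderOf k = 3 := by
    intro k hk
    rcases hord k with h | h | h
    · left; exact h
    · exfalso
      rw [hC] at hk
      have : Commute a k := Subgroup.mem_centralizer_iff.1 hk a haR
      exact no_six hord a k this ha h
    · right; exact h
  have hfpf : ∀ s : G, orderOf s = 2 → ∀ k ∈ C, s * k * s⁻¹ = k → k = 1 := by
    intro s hs k hk hfix
    rcases hC13 k hk with h | h
    · exact orderOf_eq_one_iff.1 h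
    · exfalso
      exact no_six hord k s (commute_of_conj_eq hfix).symm h hs
  have hinv : ∀ s : G, orderOf s = 2 → ∀ k ∈ C, s * k * s⁻¹ = k⁻¹ := by
    intro s hs
    have hss : s * s = 1 := by rw [← pow_two, ← hs]; exact pow_orderOf_eq_one s
    exact Helper79.inverts_of_fpf hss (fun k hk => hCn.conj_mem k hk s) (hfpf s hs)
  have hCc : ∀ x ∈ C, ∀ y ∈ C, x * y = y * x := Helper79.commute_of_inverts (hinv t ht)
  have hRC : R ≤ C := by
    intro x hx
    rw [hC, Subgroup.mem_centralizer_iff]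
    intro y hy
    exact hRc y hy x hx
  have hCC : Subgroup.centralizer (C : Set G) ≤ C := by
    have : Subgroup.centralizer (C : Set G) ≤ Subgroup.centralizer (R : Set G) :=
      Subgroup.centralizer_le (by exact_mod_cast hRC)
    rwa [← hC] at this
  have htC : t ∉ C := by
    intro h
    rcases hC13 t h with h' | h' <;> omega
  have key : ∀ g : G, g ∈ C ∨ t * g ∈ C := by
    intro g
    rcases hord g with h | h | h
    · left; rw [orderOf_eq_one_iff.1 h]; exact one_mem _
    · right
      apply hCC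
      rw [Subgroup.mem_centralizer_iff]
      intro k hk
      have h1 := hinv g h k hk
      have h2 := hinv t ht k⁻¹ (C.inv_mem hk)
      have h3 : (t * g) * k * (t * g)⁻¹ = k := by
        have : (t * g) * k * (t * g)⁻¹ = t * (g * k * g⁻¹) * t⁻¹ := by group
        rw [this, h1, h2, inv_inv]
      exact (commute_of_conj_eq h3).symm
    · have hc : t * g * t⁻¹ * g⁻¹ ∈ C := by
        apply hCC
        rw [Subgroup.mem_centralizer_iff]
        intro k hk
        have hk1 : g⁻¹ * k * g ∈ C := by simpa using hCn.conj_mem k hk g⁻¹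
        have e1 := hinv t ht (g⁻¹ * k * g) hk1
        have e2 : t * k⁻¹ * t⁻¹ = k := by simpa using hinv t ht k⁻¹ (C.inv_mem hk)
        have h3 : (t * g * t⁻¹ * g⁻¹) * k * (t * g * t⁻¹ * g⁻¹)⁻¹ = k := by
          have : (t * g * t⁻¹ * g⁻¹) * k * (t * g * t⁻¹ * g⁻¹)⁻¹ =
              t * (g * (t⁻¹ * (g⁻¹ * k * g) * t⁻¹⁻¹) * g⁻¹) * t⁻¹ := by group
          rw [this]
          have e1' : t⁻¹ * (g⁻¹ * k * g) * t⁻¹⁻¹ = (g⁻¹ * k * g)⁻¹ := by
            rw [htinv]; exact e1
          rw [e1']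
          have : g * (g⁻¹ * k * g)⁻¹ * g⁻¹ = k⁻¹ := by group
          rw [this, e2]
        exact (commute_of_conj_eq h3).symm
      obtain ⟨π, hπ⟩ : ∃ π : G →* G ⧸ C, π = QuotientGroup.mk' C := ⟨_, rfl⟩
      have hker : ∀ y : G, π y = 1 ↔ y ∈ C := by
        intro y; rw [hπ]; exact QuotientGroup.eq_one_iff y
      have hcomm : Commute (π t) (π g) := by
        apply commutatorElement_eq_one_iff_commute.1
        rw [commutatorElement_def, ← map_inv, ← map_inv, ← map_mul, ← map_mul, ← map_mul]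
        exact (hker _).2 hc
      have hT2 : (π t) ^ 2 = 1 := by rw [← map_pow, pow_two, htt, map_one]
      have hG3 : (π g) ^ 3 = 1 := by rw [← map_pow, ← h, pow_orderOf_eq_one, map_one]
      rcases hord (t * g) with h' | h' | h'
      · right; rw [orderOf_eq_one_iff.1 h']; exact one_mem _
      · left
        have e : (π t * π g) ^ 2 = 1 := by
          rw [← map_mul, ← map_pow, ← h', pow_orderOf_eq_one, map_one]
        rw [hcomm.mul_pow, hT2, one_mul] at e
        have : π g = (π g) ^ 3 * ((π g) ^ 2)⁻¹ := by group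
        rw [hG3, e] at this
        exact (hker g).1 (by simpa using this)
      · exfalso
        have e : (π t * π g) ^ 3 = 1 := by
          rw [← map_mul, ← map_pow, ← h', pow_orderOf_eq_one, map_one]
        rw [hcomm.mul_pow, hG3, mul_one] at e
        have : π t = (π t) ^ 3 * ((π t) ^ 2)⁻¹ := by group
        rw [hT2, e] at this
        exact htC ((hker t).1 (by simpa using this))
  refine ⟨C, hCn, ⟨⟨⟨fun x y => Subtype.ext (hCc x x.2 y y.2)⟩⟩, ?_⟩, ?_⟩
  · intro x hx
    rcases hC13 x hx with h | h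
    · rw [orderOf_eq_one_iff.1 h, one_pow]
    · rw [← h, pow_orderOf_eq_one]
  · rw [Subgroup.index_eq_two_iff]
    refine ⟨t, fun b => ?_⟩
    rcases key b with hb | hb
    · right
      refine ⟨hb, fun h => htC ?_⟩
      have := C.mul_mem (C.inv_mem hb) h
      simpa using this
    · left
      refine ⟨hCn.mem_comm hb, fun h => htC ?_⟩
      have := C.mul_mem hb (C.inv_mem h)
      simpa using this

/-- The case of a nontrivial normal `2`-subgroup. -/
theorem case_two [Finite G] (hord : ∀ g : G, orderOf g = 1 ∨ orderOf g = 2 ∨ orderOf g = 3)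
    (x : G) (hx : orderOf x = 3) (R : Subgroup G) [R.Normal] (v : G) (hvR : v ∈ R)
    (hv : orderOf v = 2) (hR2 : ∀ y ∈ R, y * y = 1) (hRc : ∀ x ∈ R, ∀ y ∈ R, x * y = y * x) :
    ∃ N : Subgroup G, N.Normal ∧ Cfsg.IsElementaryAbelian 2 N ∧ N.index = 3 := by
  obtain ⟨C, hC⟩ : ∃ C : Subgroup G, C = Subgroup.centralizer (R : Set G) := ⟨_, rfl⟩
  have hCn : C.Normal := by rw [hC]; exact Subgroup.normal_centralizer
  have hsq : ∀ g : G, orderOf g ≠ 3 → g * g = 1 := by
    intro g hg
    rcases hord g with h | h | h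
    · rw [orderOf_eq_one_iff.1 h, one_mul]
    · rw [← pow_two, ← h]; exact pow_orderOf_eq_one g
    · exact absurd h hg
  have hcube : ∀ g : G, g * g * g = 1 → g * g = 1 → g = 1 := by
    intro g h3 h2
    rw [h2, one_mul] at h3
    exact h3
  have hC12 : ∀ k ∈ C, k * k = 1 := by
    intro k hk
    apply hsq
    intro h
    rw [hC] at hk
    have : Commute v k := Subgroup.mem_centralizer_iff.1 hk v hvR
    exact no_six hord k v this.symm h hv
  have hCc : ∀ a ∈ C, ∀ b ∈ C, a * b = b * a := by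
    intro a ha b hb
    have h1 := hC12 (a * b) (C.mul_mem ha hb)
    have h2 := hC12 a ha
    have h3 := hC12 b hb
    have hai : a⁻¹ = a := inv_eq_of_mul_eq_one_left h2
    have hbi : b⁻¹ = b := inv_eq_of_mul_eq_one_left h3
    have h4 : (a * b)⁻¹ = a * b := inv_eq_of_mul_eq_one_left h1
    calc a * b = (a * b)⁻¹ := h4.symm
      _ = b⁻¹ * a⁻¹ := mul_inv_rev a b
      _ = b * a := by rw [hai, hbi]
  have hinvol : ∀ s : G, s * s = 1 → s ∈ C := by
    intro s hs
    rw [hC, Subgroup.mem_centralizer_iff]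
    intro n hn
    have hsinv : s⁻¹ = s := inv_eq_of_mul_eq_one_left hs
    have hm : s * n * s⁻¹ ∈ R := Subgroup.Normal.conj_mem inferInstance n hn s
    have hsn2 : (s * n) * (s * n) ∈ R := by
      have : (s * n) * (s * n) = (s * n * s⁻¹) * n := by rw [hsinv]; group
      rw [this]
      exact R.mul_mem hm hn
    have hsn : (s * n) * (s * n) = 1 := by
      apply hsq
      intro h3
      have h4 := hR2 _ hsn2
      have h5 : (s * n) ^ 3 = 1 := by rw [← h3]; exact pow_orderOf_eq_one _
      have h5' : (s * n) * (s * n) * (s * n) = 1 := by rw [← h5, pow_succ, pow_two]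
      have h6 : (s * n) * (s * n) * ((s * n) * (s * n)) = (s * n) * (s * n) * (s * n) * (s * n) := by
        simp only [mul_assoc]
      rw [h5', one_mul] at h6
      have h7 : s * n = 1 := by rw [← h6]; exact h4
      rw [h7, orderOf_one] at h3
      omega
    have hn2 := hR2 n hn
    have hni : n⁻¹ = n := inv_eq_of_mul_eq_one_left hn2
    have h4 : (s * n)⁻¹ = s * n := inv_eq_of_mul_eq_one_left hsn
    calc n * s = n⁻¹ * s⁻¹ := by rw [hni, hsinv]
      _ = (s * n)⁻¹ := (mul_inv_rev s n).symm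
      _ = s * n := h4
  have hRC : R ≤ C := by
    intro y hy
    rw [hC, Subgroup.mem_centralizer_iff]
    intro z hz
    exact hRc z hz y hy
  have hxC : x ∉ C := by
    intro h
    have h2 := hC12 x h
    have h3 : x * x * x = 1 := by
      have := pow_orderOf_eq_one x
      rw [hx] at this
      rw [← this, pow_succ, pow_two]
    have := hcube x h3 h2
    rw [this, orderOf_one] at hx
    omega
  have hnotC : ∀ g : G, g ∉ C → orderOf g = 3 := by
    intro g hg
    by_contra h
    exact hg (hinvol g (hsq g h))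
  -- the quotient is a 3-group
  have hQ : IsPGroup 3 (G ⧸ C) := by
    intro q
    obtain ⟨g, rfl⟩ := QuotientGroup.mk_surjective q
    refine ⟨1, ?_⟩
    rw [pow_one, ← QuotientGroup.mk_pow]
    by_cases hg : g ∈ C
    · exact (QuotientGroup.eq_one_iff _).2 (C.pow_mem hg 3)
    · rw [← hnotC g hg, pow_orderOf_eq_one]
      exact QuotientGroup.mk_one _
  have : Fact (Nat.Prime 3) := ⟨Nat.prime_three⟩
  obtain ⟨b, hb⟩ := IsPGroup.exists_card_eq hQ
  rw [← Subgroup.index_eq_card] at hb
  have hb0 : b ≠ 0 := by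
    rintro rfl
    rw [pow_zero, Subgroup.index_eq_one] at hb
    exact hxC (hb ▸ Subgroup.mem_top x)
  refine ⟨C, hCn, ⟨⟨⟨fun y z => Subtype.ext (hCc y y.2 z z.2)⟩⟩, ?_⟩, ?_⟩
  · intro y hy
    rw [pow_two]; exact hC12 y hy
  by_contra hidx
  have hb2 : 2 ≤ b := by
    rcases Nat.lt_or_ge b 2 with h | h
    · exfalso
      apply hidx
      have : b = 1 := by omega
      rw [hb, this, pow_one]
    · exact h
  have h9 : 3 ^ 2 ∣ Nat.card G := by
    have h1 : (3 : ℕ) ^ 2 ∣ 3 ^ b := pow_dvd_pow 3 hb2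
    rw [← hb] at h1
    exact h1.trans (Subgroup.index_dvd_card C)
  obtain ⟨E, hE⟩ := Sylow.exists_subgroup_card_pow_prime 3 h9
  have hEc : IsMulCommutative E := IsPGroup.isMulCommutative_of_card_eq_prime_sq hE
  have hEcomm : ∀ y ∈ E, ∀ z ∈ E, y * z = z * y := by
    intro y hy z hz
    have := mul_comm' (⟨y, hy⟩ : E) ⟨z, hz⟩
    exact congrArg Subtype.val this
  have hE3 : ∀ y ∈ E, y ≠ 1 → orderOf y = 3 := by
    intro y hy hy1
    have h1 : orderOf (⟨y, hy⟩ : E) ∣ Nat.card E := orderOf_dvd_natCard _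
    rw [hE, Subgroup.orderOf_mk] at h1
    rcases hord y with h | h | h
    · exact absurd (orderOf_eq_one_iff.1 h) hy1
    · rw [h] at h1; norm_num at h1
    · exact h
  obtain ⟨a, haE, ha1⟩ : ∃ a ∈ E, a ≠ 1 := by
    by_contra hcon
    push Not at hcon
    have : E = ⊥ := (Subgroup.eq_bot_iff_forall E).2 hcon
    rw [this, Subgroup.card_bot] at hE
    norm_num at hE
  have ha3 := hE3 a haE ha1
  have hza : Subgroup.zpowers a ≤ E := Subgroup.zpowers_le.2 haE
  have hzne : Subgroup.zpowers a ≠ E := by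
    intro h
    have := Nat.card_zpowers a
    rw [h, hE, ha3] at this
    norm_num at this
  obtain ⟨c, hcE, hcz⟩ := SetLike.exists_of_lt (lt_of_le_of_ne hza hzne)
  have hc1 : c ≠ 1 := by
    rintro rfl
    exact hcz (one_mem _)
  have hc3 := hE3 c hcE hc1
  have hac : a * c = c * a := hEcomm a haE c hcE
  have hccc : c * c * c = 1 := by
    have := pow_orderOf_eq_one c
    rw [hc3] at this
    rw [← this, pow_succ, pow_two]
  have haaa : a * a * a = 1 := by
    have := pow_orderOf_eq_one a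
    rw [ha3] at this
    rw [← this, pow_succ, pow_two]
  have hac1 : a * c ≠ 1 := by
    intro h
    apply hcz
    have : c = a⁻¹ := by rw [eq_inv_iff_mul_eq_one, ← hac]; exact h
    rw [this]
    exact Subgroup.inv_mem _ (Subgroup.mem_zpowers a)
  have hacc1 : a * (c * c) ≠ 1 := by
    intro h
    apply hcz
    have h1 : c * c = a⁻¹ := by
      rw [eq_inv_iff_mul_eq_one]
      have : c * c * a = a * (c * c) := by rw [mul_assoc, ← hac, ← mul_assoc, ← hac, mul_assoc]
      rw [this]; exact h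
    have h2 : (c * c) * (c * c) = (c * c * c) * c := by simp only [mul_assoc]
    rw [hccc, one_mul, h1] at h2
    rw [← h2]
    exact Subgroup.mul_mem _ (Subgroup.inv_mem _ (Subgroup.mem_zpowers a))
      (Subgroup.inv_mem _ (Subgroup.mem_zpowers a))
  -- fixed-point-free action
  have htau : ∀ g : G, g ≠ 1 → g * g * g = 1 → ∀ w ∈ C,
      w * (g * w * g⁻¹) * ((g * g) * w * (g * g)⁻¹) = 1 := by
    intro g hg1 hg3 w hw
    have hw1 : g * w * g⁻¹ ∈ C := hCn.conj_mem w hw g
    have hw2 : (g * g) * w * (g * g)⁻¹ ∈ C := hCn.conj_mem w hw (g * g)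
    have hu : w * (g * w * g⁻¹) * ((g * g) * w * (g * g)⁻¹) ∈ C := C.mul_mem (C.mul_mem hw hw1) hw2
    have hfix : g * (w * (g * w * g⁻¹) * ((g * g) * w * (g * g)⁻¹)) * g⁻¹ =
        w * (g * w * g⁻¹) * ((g * g) * w * (g * g)⁻¹) := by
      have e1 : g * (w * (g * w * g⁻¹) * ((g * g) * w * (g * g)⁻¹)) * g⁻¹ =
          (g * w * g⁻¹) * ((g * g) * w * (g * g)⁻¹) * ((g * g * g) * w * (g * g * g)⁻¹) := by group
      rw [e1, hg3]
      simp only [one_mul, inv_one, mul_one]
      rw [hCc _ (C.mul_mem hw1 hw2) _ hw]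
      simp only [mul_assoc]
    by_contra hne
    have ho2 : orderOf (w * (g * w * g⁻¹) * ((g * g) * w * (g * g)⁻¹)) = 2 := by
      have : Fact (Nat.Prime 2) := ⟨Nat.prime_two⟩
      apply orderOf_eq_prime _ hne
      rw [pow_two]; exact hC12 _ hu
    have ho3 : orderOf g = 3 := by
      apply orderOf_eq_prime _ hg1
      rw [pow_succ, pow_two]; exact hg3
    exact no_six hord g _ (commute_of_conj_eq hfix) ho3 ho2
  have hvC : v ∈ C := hRC hvR
  have hv1 : v ≠ 1 := by
    rintro rfl
    rw [orderOf_one] at hv; omega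
  apply hv1
  have hcj : ∀ g : G, g * v * g⁻¹ ∈ C := fun g => hCn.conj_mem v hvC g
  have e_ac : (a * c) * (a * c) * (a * c) = 1 := by
    rw [cube_mul_of_comm hac, haaa, hccc, one_mul]
  have hd : a * (c * c) = (c * c) * a := by
    calc a * (c * c) = (a * c) * c := (mul_assoc _ _ _).symm
      _ = (c * a) * c := by rw [hac]
      _ = c * (a * c) := mul_assoc _ _ _
      _ = c * (c * a) := by rw [hac]
      _ = (c * c) * a := (mul_assoc _ _ _).symm
  have hd3 : (c * c) * (c * c) * (c * c) = 1 := by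
    have : (c * c) * (c * c) * (c * c) = (c * c * c) * (c * c * c) := by simp only [mul_assoc]
    rw [this, hccc, one_mul]
  have hd2 : (c * c) * (c * c) = c := by
    have : (c * c) * (c * c) = (c * c * c) * c := by simp only [mul_assoc]
    rw [this, hccc, one_mul]
  have e_acc : (a * (c * c)) * (a * (c * c)) * (a * (c * c)) = 1 := by
    rw [cube_mul_of_comm hd, haaa, hd3, one_mul]
  have e_sq : (a * (c * c)) * (a * (c * c)) = a * a * c := by
    rw [sq_mul_of_comm hd, hd2]
  have e_sq2 : (a * c) * (a * c) = a * a * (c * c) := sq_mul_of_comm hac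
  have r1 := htau c hc1 hccc v hvC
  have r2 := htau (a * c) hac1 e_ac v hvC
  have r3 := htau (a * (c * c)) hacc1 e_acc v hvC
  have r4 := htau a ha1 haaa (c * v * c⁻¹) (hcj c)
  have r5 := htau a ha1 haaa ((c * c) * v * (c * c)⁻¹) (hcj (c * c))
  have hCc' : ∀ y z : C, y * z = z * y := fun y z => Subtype.ext (hCc y y.2 z z.2)
  have := comm_calc hCc' ⟨v, hvC⟩ ⟨c * v * c⁻¹, hcj c⟩ ⟨(c * c) * v * (c * c)⁻¹, hcj _⟩
    ⟨(a * c) * v * (a * c)⁻¹, hcj _⟩ ⟨((a * c) * (a * c)) * v * ((a * c) * (a * c))⁻¹, hcj _⟩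
    ⟨(a * (c * c)) * v * (a * (c * c))⁻¹, hcj _⟩
    ⟨((a * (c * c)) * (a * (c * c))) * v * ((a * (c * c)) * (a * (c * c)))⁻¹, hcj _⟩
    (Subtype.ext (hC12 v hvC)) (Subtype.ext r1) (Subtype.ext r2) (Subtype.ext r3) ?_ ?_
  · exact congrArg Subtype.val this
  · apply Subtype.ext
    show (c * v * c⁻¹) * ((a * c) * v * (a * c)⁻¹) *
      (((a * (c * c)) * (a * (c * c))) * v * ((a * (c * c)) * (a * (c * c)))⁻¹) = 1
    rw [e_sq]
    rw [← r4]; group
  · apply Subtype.ext
    show ((c * c) * v * (c * c)⁻¹) * ((a * (c * c)) * v * (a * (c * c))⁻¹) *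
      (((a * c) * (a * c)) * v * ((a * c) * (a * c))⁻¹) = 1
    rw [e_sq2]
    rw [← r5]; group

/-- A finite group whose set of element orders is exactly {1, 2, 3} has either a normal elementary abelian 3-subgroup of index 2 or a normal elementary abelian 2-subgroup of index 3. -/
theorem result {G : Type*} [Group G] [Finite G] (h : Set.range (orderOf : G → ℕ) = {k : ℕ | 1 ≤ k ∧ k ≤ 3}) :
    (∃ N : Subgroup G, N.Normal ∧ Cfsg.IsElementaryAbelian 3 N ∧ N.index = 2) ∨
      (∃ N : Subgroup G, N.Normal ∧ Cfsg.IsElementaryAbelian 2 N ∧ N.index = 3) := by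
  have hord : ∀ g : G, orderOf g = 1 ∨ orderOf g = 2 ∨ orderOf g = 3 := by
    intro g
    have : orderOf g ∈ Set.range (orderOf : G → ℕ) := Set.mem_range_self g
    rw [h] at this
    obtain ⟨h1, h2⟩ := this
    omega
  obtain ⟨t, ht⟩ : ∃ t : G, orderOf t = 2 := by
    have : (2 : ℕ) ∈ Set.range (orderOf : G → ℕ) := by
      rw [h]; exact ⟨by norm_num, by norm_num⟩
    exact this
  obtain ⟨x, hx⟩ : ∃ x : G, orderOf x = 3 := by
    have : (3 : ℕ) ∈ Set.range (orderOf : G → ℕ) := by
      rw [h]; exact ⟨by norm_num, by norm_num⟩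
    exact this
  have hsolv : Group.IsSolvable G := by
    apply Lib.isSolvable_of_prime_dvd_card Nat.prime_two Nat.prime_three
    intro r hr hdvd
    have : Fact r.Prime := ⟨hr⟩
    obtain ⟨y, hy⟩ := exists_prime_orderOf_dvd_card' r hdvd
    have := hr.one_lt
    rcases hord y with h1 | h1 | h1
    · omega
    · left; omega
    · right; omega
  have : Nontrivial G := ⟨⟨t, 1, by rintro rfl; rw [orderOf_one] at ht; omega⟩⟩
  obtain ⟨R, l, hRn, hR1, hl, hRc, hRl⟩ := Helper60.exists_normal_elementary_abelian (G := G)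
  obtain ⟨a, haR, ha1⟩ : ∃ a ∈ R, a ≠ 1 := by
    by_contra hcon
    push Not at hcon
    exact hR1 ((Subgroup.eq_bot_iff_forall R).2 hcon)
  have : Fact l.Prime := ⟨hl⟩
  have hal : orderOf a = l := orderOf_eq_prime (hRl a haR) ha1
  rcases hord a with h1 | h1 | h1
  · exact absurd (orderOf_eq_one_iff.1 h1) ha1
  · right
    have hl2 : l = 2 := by omega
    subst hl2
    exact case_two hord x hx R a haR h1 (fun y hy => by rw [← pow_two]; exact hRl y hy) hRc
  · left
    exact case_three hord t ht R a haR h1 hRc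

end Cfsg.Agent.S4005
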