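import Mathlib
import Cfsg.Statements.S4006
import Cfsg.Agent.Helper10.Ord4A
import Cfsg.Agent.Helper10.Ord4B

set_option autoImplicit false
open Cfsg

open Cfsg
open Cfsg.Agent.Helper10.Ord4

namespace Cfsg.Agent.S4006


/-- A finite group whose set of element orders is exactly {1, 2, 3, 4} has a normal subgroup N such that either N is a 2-group of exponent 4 and nilpotency class at most 2 with G/N of order 3, or N is an elementary abelian 2-group with G/N isomorphic to the symmetric group of degree 3, or N is an elementary abelian 3-group with G/N cyclic of order 4 or quaternion of order 8. -/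
theorem result {G : Type*} [Group G] [Finite G] (h : Set.range (orderOf : G → ℕ) = {k : ℕ | 1 ≤ k ∧ k ≤ 4}) :
    ∃ (N : Subgroup G) (_ : N.Normal),
      (IsPGroup 2 ↥N ∧ Monoid.exponent ↥N = 4 ∧ Group.nilpotencyClass ↥N ≤ 2 ∧ N.index = 3) ∨
      (Cfsg.IsElementaryAbelian 2 N ∧ Nonempty (G ⧸ N ≃* Equiv.Perm (Fin 3))) ∨
      (Cfsg.IsElementaryAbelian 3 N ∧ ((IsCyclic (G ⧸ N) ∧ N.index = 4) ∨ Nonempty (G ⧸ N ≃* QuaternionGroup 2))) := by
  have H := hyp_of_range h
  by_cases h2 : Cfsg.pCore 2 G = ⊥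
  · have h3 : Cfsg.pCore 3 G ≠ ⊥ := (H.pCore_ne_bot).resolve_left (not_not.mpr h2)
    exact ⟨Cfsg.pCore 3 G, inferInstance, Or.inr (Or.inr (H.caseB h3))⟩
  · rcases H.pCore_index h2 with h3 | ⟨h6, hiso⟩
    · exact ⟨Cfsg.pCore 2 G, inferInstance, Or.inl (H.caseA3 h3)⟩
    · exact ⟨Cfsg.pCore 2 G, inferInstance, Or.inr (Or.inl ⟨H.caseA6 h2 h6, hiso⟩)⟩

end Cfsg.Agent.S4006
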