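import Cfsg.Statements.S4010
import Cfsg.Agent.Helper58.LinDL
import Cfsg.Agent.Helper58.LinUnip

set_option autoImplicit false
open Cfsg

namespace Cfsg.Agent.S4010

open Cfsg.Agent.Helper58.LinP

/-- Let F be a field, n ≥ 1, and P a finite p-group (p a prime) admitting an injective homomorphism into the general linear group of degree n over F. Then the derived length of P is at most ⌊log₂ n⌋ + 1: that term of the derived series of P is trivial. -/
theorem result {P : Type*} [Group P] [Finite P] (p : ℕ) [Fact p.Prime] (hP : IsPGroup p P) (F : Type*) [Field F] (n : ℕ) (hn : 1 ≤ n) (ρ : P →* Matrix.GeneralLinearGroup (Fin n) F) (hρ : Function.Injective ρ) : derivedSeries P (Nat.log 2 n + 1) = ⊥ := by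
  let φ : Matrix.GeneralLinearGroup (Fin n) F →* ((Fin n → F) ≃ₗ[F] (Fin n → F)) :=
    (LinearMap.GeneralLinearGroup.generalLinearEquiv F (Fin n → F)).toMonoidHom.comp
      (Matrix.GeneralLinearGroup.toLin.toMonoidHom)
  have hφ : Function.Injective φ :=
    (LinearMap.GeneralLinearGroup.generalLinearEquiv F (Fin n → F)).injective.comp
      Matrix.GeneralLinearGroup.toLin.injective
  let ρ' : P →* ((Fin n → F) ≃ₗ[F] (Fin n → F)) := φ.comp ρ
  have hρ' : Function.Injective ρ' := hφ.comp hρ
  have hker : ρ'.ker = ⊥ := (MonoidHom.ker_eq_bot_iff ρ').mpr hρ'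
  have hfin : Module.finrank F (Fin n → F) = n := Module.finrank_fin_fun F
  rw [eq_bot_iff, ← hker]
  by_cases hpk : ((p : ℕ) : F) = 0
  · apply derivedSeries_le_ker_charP ρ' p hpk hP
    rw [hfin]
    exact le_of_lt (Nat.lt_pow_succ_log_self (by norm_num) n)
  · have h := derivedSeries_le_ker (k := F) p hpk 1 one_pos (fun _ => rfl)
      (fun W _ _ _ z _ _ => one_dvd _) n (Fin n → F) P hP ρ' hfin
    have hb : dlBound 1 n = Nat.log 2 n + 1 := by
      unfold dlBound
      rw [if_neg (by omega), Nat.div_one]
    rw [hb] at h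
    exact h

end Cfsg.Agent.S4010
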