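import Cfsg.Statements.S4013
import Mathlib

set_option autoImplicit false
open Cfsg

namespace Cfsg.Agent.S4013

theorem pow_sub_one_eq_one {p i : ℕ} (hp : p.Prime) (hi : i ≠ 0) {j : ℕ}
    (h : p ^ i - 1 ∣ p ^ j) : p = 2 ∧ i = 1 := by
  have hp2 := hp.two_le
  have h1 : 1 ≤ p ^ i := Nat.one_le_pow _ _ hp.pos
  -- p^i - 1 is a power of p
  obtain ⟨k, hk, hk'⟩ := (Nat.dvd_prime_pow hp).1 h
  have hk0 : k = 0 := by
    by_contra hk0
    have hpd : p ∣ p ^ i - 1 := by rw [hk']; exact dvd_pow_self p hk0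
    have hpd2 : p ∣ p ^ i := dvd_pow_self p hi
    have : p ∣ 1 := by
      have := Nat.dvd_sub hpd2 hpd
      rwa [Nat.sub_sub_self h1] at this
    exact hp.one_lt.ne' (Nat.dvd_one.1 this)
  subst hk0
  have h2 : p ^ i = 2 := by simp at hk'; omega
  have hi1 : i = 1 := by
    by_contra hne
    have : 2 ≤ i := by omega
    have : p ^ 2 ≤ p ^ i := Nat.pow_le_pow_right hp.pos this
    nlinarith
  subst hi1
  simpa using h2

/-- Let G be a finite p-group (p prime) and N < M normal subgroups of G such that for some g ∈ M ∖ N the conjugacy class of g is exactly M ∖ N. Then p = 2 and N has index 2 in M. -/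
theorem result {G : Type*} [Group G] [Finite G] (p : ℕ) [Fact p.Prime] (hG : IsPGroup p G) (N M : Subgroup G) [N.Normal] [M.Normal] (hNM : N < M) (g : G) (hgM : g ∈ M) (hgN : g ∉ N) (hcl : {h : G | IsConj g h} = (M : Set G) \ (N : Set G)) : p = 2 ∧ N.relIndex M = 2 := by
  have hp : p.Prime := Fact.out
  -- the orbit of g under conjugation is the set of conjugates
  have horb : MulAction.orbit (ConjAct G) g = (M : Set G) \ (N : Set G) := by
    rw [← hcl]
    ext h
    rw [ConjAct.mem_orbit_conjAct, isConj_comm]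
    rfl
  have hGc : IsPGroup p (ConjAct G) := hG
  obtain ⟨j, hj⟩ := hGc.card_orbit g
  rw [horb] at hj
  -- cardinality of the difference
  have hsub : (N : Set G) ⊆ (M : Set G) := hNM.le
  have hdiff : Nat.card ((M : Set G) \ (N : Set G) : Set G) = Nat.card M - Nat.card N := by
    rw [Nat.card_coe_set_eq, Set.ncard_sdiff hsub (Set.toFinite _)]
    rfl
  -- |M| = |N| * relIndex
  have hrel : Nat.card N * N.relIndex M = Nat.card M := by
    have := (N.subgroupOf M).card_mul_index
    rw [Nat.card_congr (Subgroup.subgroupOfEquivOfLe hNM.le).toEquiv] at this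
    exact this
  -- relIndex is a power of p
  have hMp : IsPGroup p M := hG.to_subgroup M
  obtain ⟨i, hi⟩ := hMp.index (N.subgroupOf M)
  have hi' : N.relIndex M = p ^ i := hi
  have hi0 : i ≠ 0 := by
    rintro rfl
    rw [pow_zero, Subgroup.relIndex_eq_one] at hi'
    exact hNM.not_ge hi'
  have hNpos : 0 < Nat.card N := Nat.card_pos
  have hkey : Nat.card N * (p ^ i - 1) = p ^ j := by
    rw [← hj, hdiff, ← hrel, hi', Nat.mul_sub, mul_one]
  have hdvd : p ^ i - 1 ∣ p ^ j := Dvd.intro_left _ hkey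
  obtain ⟨h2, h1⟩ := pow_sub_one_eq_one hp hi0 hdvd
  refine ⟨h2, ?_⟩
  rw [hi', h2, h1]; rfl

end Cfsg.Agent.S4013
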