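import Cfsg.Statements.S4017
import Cfsg.Agent.Helper15.MixMain

set_option autoImplicit false
open Cfsg

namespace Cfsg.Agent.S4017

open Cfsg.Agent.Helper15.Mix in
/-- The statement, by strong induction on the order. -/
theorem aux.{u} (n : ℕ) : ∀ (G : Type u) [Group G] [Finite G], Nat.card G = n →
    ∀ {p q : ℕ}, p.Prime → q.Prime → p ≠ q → p ≠ 2 → p ∣ Nat.card G → q ∣ Nat.card G →
    (∀ H : Subgroup G, H ≠ ⊤ → ¬ IsPGroup q H → q ∣ Nat.card H → p ∣ Nat.card H) →
    (q ^ (Nat.card G).factorization q - 1 < p ∨
      (p = q ^ (Nat.card G).factorization q - 1 ∧ ∀ P : Sylow p G, IsMulCommutative P)) →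
    ∀ r : ℕ, r.Prime → r ∣ Nat.card G → r = p ∨ r = q := by
  induction n using Nat.strong_induction_on with
  | _ n ih =>
  intro G _ _ hn p q hp hq hpq hp2 hpG hqG hmix hlarge
  rcases hlarge with hl | ⟨hpe, hPab⟩
  · exact Cfsg.Agent.Helper81.Mix.partA hp hq hpq hpG hqG hmix hl
  · have hG0 : Nat.card G ≠ 0 := Nat.card_pos.ne'
    have ha1 : 1 ≤ (Nat.card G).factorization q :=
      (hq.factorization_pos_of_dvd hG0 hqG)
    have hq2 : q = 2 := by
      by_contra hq2
      have hqodd : Odd q := hq.odd_of_ne_two hq2
      have h1 : Odd (q ^ (Nat.card G).factorization q) := hqodd.pow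
      have hpodd : Odd p := hp.odd_of_ne_two hp2
      obtain ⟨k, hk⟩ := h1
      obtain ⟨m, hm⟩ := hpodd
      omega
    subst hq2
    have hpow1 : 1 ≤ 2 ^ (Nat.card G).factorization 2 := Nat.one_le_two_pow
    have hpa : p + 1 = 2 ^ (Nat.card G).factorization 2 := by omega
    have h3 : 3 ≤ p := by
      have := hp.two_le
      omega
    have ha2 : 2 ≤ (Nat.card G).factorization 2 := by
      by_contra hlt
      have h1 : (Nat.card G).factorization 2 = 1 := by omega
      rw [h1] at hpa
      omega
    -- all `p`-subgroups are abelian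
    have pab : ∀ H : Subgroup G, IsPGroup p H → ∀ x ∈ H, ∀ y ∈ H, x * y = y * x := by
      intro H hH x hx y hy
      have hpf : Fact p.Prime := ⟨hp⟩
      obtain ⟨P, hP⟩ := hH.exists_le_sylow
      have := (hPab P).is_comm.comm ⟨x, hP hx⟩ ⟨y, hP hy⟩
      exact congrArg Subtype.val this
    intro r hr hrG
    by_contra hcon
    push Not at hcon
    refine MC.false (G := G) (p := p) (a := (Nat.card G).factorization 2)
      { hp := hp, ha := ha2, hpa := hpa, hcard := rfl, hpG := hpG, f1 := ?_, pab := pab,
        bad := ⟨r, hr, hrG, hcon.1, hcon.2⟩ }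
    intro H hH h2H hnH r' hr' hr'H
    have hlt : Nat.card H < Nat.card G :=
      lt_of_le_of_ne (Subgroup.card_le_card_group H) (fun h => hH (H.eq_top_of_card_eq h))
    have hH0 : Nat.card H ≠ 0 := Nat.card_pos.ne'
    have hpf : Fact p.Prime := ⟨hp⟩
    have h2f : Fact (Nat.Prime 2) := ⟨Nat.prime_two⟩
    refine ih (Nat.card H) (hn ▸ hlt) ↥H rfl hp Nat.prime_two hpq hp2 (hmix H hH hnH h2H) h2H ?_ ?_
      r' hr' hr'H
    · -- hmix for `H`
      intro K hK hnK h2K
      have hcard : Nat.card (K.map H.subtype) = Nat.card K :=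
        Subgroup.card_map_of_injective H.subtype_injective
      rw [← hcard]
      apply hmix
      · intro htop
        apply hH
        rw [eq_top_iff, ← htop]
        exact Subgroup.map_subtype_le K
      · intro hcon2
        apply hnK
        rw [IsPGroup.iff_card] at hcon2 ⊢
        rw [← hcard]
        exact hcon2
      · rw [hcard]; exact h2K
    · -- hlarge for `H`
      have hle : (Nat.card H).factorization 2 ≤ (Nat.card G).factorization 2 :=
        (Nat.factorization_le_iff_dvd hH0 hG0).mpr (Subgroup.card_subgroup_dvd_card H) 2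
      rcases lt_or_eq_of_le hle with hlt2 | heq
      · left
        have : 2 ^ (Nat.card H).factorization 2 < 2 ^ (Nat.card G).factorization 2 :=
          Nat.pow_lt_pow_right (by norm_num) hlt2
        have h1 : 1 ≤ 2 ^ (Nat.card H).factorization 2 := Nat.one_le_two_pow
        omega
      · right
        refine ⟨by rw [heq]; exact hpe, ?_⟩
        intro P
        have hPm : IsPGroup p ((P : Subgroup H).map H.subtype) := P.2.map _
        refine ⟨⟨fun x y => ?_⟩⟩
        have hx : ((x : H) : G) ∈ (P : Subgroup H).map H.subtype :=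
          Subgroup.mem_map_of_mem _ x.2
        have hy : ((y : H) : G) ∈ (P : Subgroup H).map H.subtype :=
          Subgroup.mem_map_of_mem _ y.2
        have := pab _ hPm _ hx _ hy
        apply Subtype.ext
        apply Subtype.ext
        exact this

/-- Let G be a finite group and let p and q be distinct primes dividing the order of G, with p odd. Suppose that p divides the order of every proper subgroup of G that is neither a q-group nor of order prime to q. Let q^a be the q-part of the order of G. If p > q^a − 1, or if p = q^a − 1 and the Sylow p-subgroups of G are abelian, then p and q are the only primes dividing the order of G. -/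
theorem result {G : Type*} [Group G] [Finite G]
    {p q : ℕ} (hp : p.Prime) (hq : q.Prime) (hpq : p ≠ q) (hp2 : p ≠ 2)
    (hpG : p ∣ Nat.card G) (hqG : q ∣ Nat.card G)
    (hmix : ∀ H : Subgroup G, H ≠ ⊤ → ¬ IsPGroup q H → q ∣ Nat.card H → p ∣ Nat.card H)
    (hlarge : q ^ (Nat.card G).factorization q - 1 < p ∨
      (p = q ^ (Nat.card G).factorization q - 1 ∧ ∀ P : Sylow p G, IsMulCommutative P)) :
    ∀ r : ℕ, r.Prime → r ∣ Nat.card G → r = p ∨ r = q :=
  aux (Nat.card G) G rfl hp hq hpq hp2 hpG hqG hmix hlarge

end Cfsg.Agent.S4017
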