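import Cfsg.Statements.S4020
import Cfsg.Agent.S4023
import Cfsg.Agent.Helper67.HeisInv
import Cfsg.Agent.Helper67.HeisCount

set_option autoImplicit false
open Cfsg

namespace Cfsg.Agent.S4020

open Cfsg.Agent.Helper67 Cfsg.Agent.Helper67.Heis

theorem quat_conj : ∀ a b : QuaternionGroup 2, b * a * b⁻¹ = a ∨ b * a * b⁻¹ = a⁻¹ := by
  decide

/-- In a group whose `2`-subgroups of equal order are conjugate, any two elements `a`, `b` of a Sylow
`2`-subgroup satisfy `b a b⁻¹ ∈ {a, a⁻¹}`. -/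
theorem sylow_two_conj {G : Type*} [Group G] [Finite G]
    (hD2 : ∀ H K : Subgroup G, IsPGroup 2 H → IsPGroup 2 K → Nat.card H = Nat.card K →
      ∃ g : G, K = H.map (MulAut.conj g).toMonoidHom) (S : Sylow 2 G) :
    ∀ a ∈ (S : Subgroup G), ∀ b ∈ (S : Subgroup G), b * a * b⁻¹ = a ∨ b * a * b⁻¹ = a⁻¹ := by
  have : Fact (Nat.Prime 2) := ⟨Nat.prime_two⟩
  rcases S4023.result hD2 S with h | h | ⟨-, ⟨e⟩⟩ | ⟨h, -⟩
  · intro a ha b hb
    left
    have := congrArg Subtype.val (mul_comm' (⟨b, hb⟩ : (S : Subgroup G)) ⟨a, ha⟩)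
    simp only [Subgroup.coe_mul] at this
    rw [this, mul_inv_cancel_right]
  · intro a ha b hb
    left
    have hc := h.1
    have := congrArg Subtype.val (mul_comm' (⟨b, hb⟩ : (S : Subgroup G)) ⟨a, ha⟩)
    simp only [Subgroup.coe_mul] at this
    rw [this, mul_inv_cancel_right]
  · intro a ha b hb
    have h1 := quat_conj (e ⟨a, ha⟩) (e ⟨b, hb⟩)
    rw [← map_inv, ← map_mul, ← map_mul, ← map_inv] at h1
    rcases h1 with h1 | h1
    · left
      have := congrArg Subtype.val (e.injective h1)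
      simpa using this
    · right
      have := congrArg Subtype.val (e.injective h1)
      simpa using this
  · exact absurd rfl h

/-- The conjugation action of `G` on its subgroups. -/
@[reducible] def conjSubgroupAction (G : Type*) [Group G] : MulAction G (Subgroup G) where
  smul g B := cj g B
  one_smul := cj_one
  mul_smul := cj_mul

/-- The extraspecial case of exponent `p` cannot occur. -/
theorem no_extraspecial {G : Type*} [Group G] [Finite G]
    (hD : ∀ p : ℕ, p.Prime → ∀ H K : Subgroup G, IsPGroup p H → IsPGroup p K →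
      Nat.card H = Nat.card K → ∃ g : G, K = H.map (MulAut.conj g).toMonoidHom)
    {p : ℕ} [Fact p.Prime] (P : Sylow p G) (hp2 : p ≠ 2)
    (hcard : Nat.card (P : Subgroup G) = p ^ 3)
    (hna : ∃ a ∈ (P : Subgroup G), ∃ b ∈ (P : Subgroup G), a * b ≠ b * a)
    (hexp : ∀ x ∈ (P : Subgroup G), x ^ p = 1) : False := by
  have hp : p.Prime := Fact.out
  have hDp : ∀ H K : Subgroup G, IsPGroup p H → IsPGroup p K → Nat.card H = Nat.card K →
      ∃ g : G, K = cj g H := hD p hp
  -- a subgroup `A` of order `p ^ 2`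
  obtain ⟨A, hAP, hA⟩ : ∃ A : Subgroup G, A ≤ P ∧ Nat.card A = p ^ 2 := by
    have hna' := hna
    obtain ⟨a, ha, b, hb, hab⟩ := hna'
    refine ⟨Cn P a, Cn_le _ _, card_Cn hcard hna ha ?_⟩
    intro h
    exact hab ((mem_Zc.1 h).2 b hb).symm
  obtain ⟨ρ, ⟨k, hk⟩, hρP, hρ, hρA⟩ := exists_rho hDp P hcard hna hexp hp2 hAP hA
  have hρ' : ∀ a ∈ A, ρ⁻¹ * a * ρ = a⁻¹ := by
    intro a ha
    have := hρ a⁻¹ (A.inv_mem ha)
    rw [inv_inv] at this
    calc ρ⁻¹ * a * ρ = ρ⁻¹ * (ρ * a⁻¹ * ρ⁻¹) * ρ := by rw [this]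
      _ = a⁻¹ := by group
  -- the normalizer of `P` and a Sylow `2`-subgroup of it containing `ρ`
  obtain ⟨H, hH⟩ : ∃ H : Subgroup G, H = Subgroup.normalizer ((P : Subgroup G) : Set G) :=
    ⟨_, rfl⟩
  have hρH : ρ ∈ H := by rw [hH, mem_normalizer_iff_cj]; exact hρP
  have h2 : Fact (Nat.Prime 2) := ⟨Nat.prime_two⟩
  have hρ2 : IsPGroup 2 (Subgroup.zpowers (⟨ρ, hρH⟩ : H)) := by
    apply IsPGroup.of_card (n := k)
    rw [Nat.card_zpowers, ← hk]
    exact Subgroup.orderOf_mk ρ hρH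
  obtain ⟨T, hT⟩ := hρ2.exists_le_sylow
  have hTG : IsPGroup 2 ((T : Subgroup H).map H.subtype) := T.isPGroup'.map _
  obtain ⟨S, hS⟩ := hTG.exists_le_sylow
  have hconj := sylow_two_conj (hD 2 Nat.prime_two) S
  have hρS : ρ ∈ (S : Subgroup G) := by
    apply hS
    rw [Subgroup.mem_map]
    exact ⟨⟨ρ, hρH⟩, hT (Subgroup.mem_zpowers _), rfl⟩
  -- `T` normalizes `A`
  have hTA : ∀ τ : H, τ ∈ (T : Subgroup H) → cj (τ : G) A = A := by
    intro τ hτ
    have hτS : (τ : G) ∈ (S : Subgroup G) := by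
      apply hS
      rw [Subgroup.mem_map]
      exact ⟨τ, hτ, rfl⟩
    have hτP : cj (τ : G) (P : Subgroup G) = P := by
      rw [← mem_normalizer_iff_cj, ← hH]; exact τ.2
    apply cj_eq_self_of_conj_mem
    intro a ha
    apply hρA
    · have := conj_mem_cj (g := (τ : G)) (hAP ha)
      rwa [hτP] at this
    · have e : ρ * ((τ : G) * a * (τ : G)⁻¹) * ρ⁻¹ =
          (τ : G) * (((τ : G)⁻¹ * ρ * (τ : G)⁻¹⁻¹) * a * ((τ : G)⁻¹ * ρ * (τ : G)⁻¹⁻¹)⁻¹) *
            (τ : G)⁻¹ := by group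
      rw [e]
      rcases hconj ρ hρS _ (Subgroup.inv_mem _ hτS) with h | h
      · rw [h, hρ a ha]; group
      · rw [h, inv_inv, hρ' a ha]; group
  -- orbit–stabilizer
  let _ : MulAction G (Subgroup G) := conjSubgroupAction G
  have hstab : (T : Subgroup H) ≤ MulAction.stabilizer H A := by
    intro τ hτ
    rw [MulAction.mem_stabilizer_iff]
    exact hTA τ hτ
  have horb : MulAction.orbit H A = {B : Subgroup G | B ≤ P ∧ Nat.card B = p ^ 2} := by
    ext B
    rw [MulAction.mem_orbit_iff]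
    constructor
    · rintro ⟨h, rfl⟩
      have hhP : cj (h : G) (P : Subgroup G) = P := by
        rw [← mem_normalizer_iff_cj, ← hH]; exact h.2
      refine ⟨?_, ?_⟩
      · show cj (h : G) A ≤ P
        rw [← hhP]; exact cj_mono hAP
      · show Nat.card (cj (h : G) A) = p ^ 2
        rw [card_cj, hA]
    · rintro ⟨hBP, hB⟩
      obtain ⟨h, hhP, hhA⟩ := exists_normalizer_cj hDp P hcard hna hAP hA hBP hB
      exact ⟨⟨h, by rw [hH, mem_normalizer_iff_cj]; exact hhP⟩, hhA⟩
  have hidx : (MulAction.stabilizer H A).index = p + 1 := by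
    rw [MulAction.index_stabilizer, horb, ncard_card_sq hcard hna]
  have hdvd : (MulAction.stabilizer H A).index ∣ (T : Subgroup H).index :=
    Subgroup.index_dvd_of_le hstab
  have hTodd : ¬ 2 ∣ (T : Subgroup H).index := T.not_dvd_index
  apply hTodd
  refine dvd_trans ?_ hdvd
  rw [hidx]
  have hodd : Odd p := hp.odd_of_ne_two hp2
  obtain ⟨j, rfl⟩ := hodd
  exact ⟨j + 1, by ring⟩

/-- Let G be a finite group in which, for every prime p, any two p-subgroups of the same order are conjugate. Then every Sylow subgroup of G is cyclic, elementary abelian, or a quaternion group of order 8. -/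
theorem result {G : Type*} [Group G] [Finite G]
    (hD : ∀ p : ℕ, p.Prime → ∀ H K : Subgroup G, IsPGroup p H → IsPGroup p K → Nat.card H = Nat.card K →
      ∃ g : G, K = H.map (MulAut.conj g).toMonoidHom) {p : ℕ} [Fact p.Prime] (P : Sylow p G) :
    IsCyclic P ∨ Cfsg.IsElementaryAbelian p (P : Subgroup G) ∨ Nonempty ((P : Subgroup G) ≃* QuaternionGroup 2) := by
  have hp : p.Prime := Fact.out
  rcases S4023.result (hD p hp) P with h | h | ⟨-, h⟩ | ⟨hp2, hnc, hcard, hexp⟩
  · exact Or.inl h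
  · exact Or.inr (Or.inl h)
  · exact Or.inr (Or.inr h)
  · exfalso
    apply no_extraspecial hD P hp2 hcard
    · by_contra hcon
      push Not at hcon
      exact hnc ⟨⟨fun a b => Subtype.ext (hcon a a.2 b b.2)⟩⟩
    · intro x hx
      have := Monoid.pow_exponent_eq_one (⟨x, hx⟩ : (P : Subgroup G))
      rw [hexp] at this
      exact congrArg Subtype.val this

end Cfsg.Agent.S4020
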