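import Cfsg.Statements.S4024
import Cfsg.Agent.S4023
import Cfsg.Agent.Helper67.Cyclic
import Cfsg.Agent.Helper54.PLength
import Cfsg.Agent.Helper76.ClassSizeSylow
import Cfsg.Agent.Helper23.PComponent

set_option autoImplicit false
open Cfsg

namespace Cfsg.Agent.S4024

/-- If all `p`-subgroups of the same order are conjugate and the Sylow `p`-subgroup `P` has exponent
`p`, then `P` lies in every normal subgroup whose order is divisible by `p`. -/
theorem sylow_le_normal {G : Type*} [Group G] [Finite G] {p : ℕ} [Fact p.Prime]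
    (hC : ∀ H K : Subgroup G, IsPGroup p H → IsPGroup p K → Nat.card H = Nat.card K →
      ∃ g : G, K = H.map (MulAut.conj g).toMonoidHom) (P : Sylow p G)
    (hexp : ∀ x ∈ P, x ^ p = 1) (L : Subgroup G) [hLn : L.Normal] (hL : p ∣ Nat.card L) :
    (P : Subgroup G) ≤ L := by
  have hp : p.Prime := Fact.out
  have hPp : IsPGroup p (P : Subgroup G) := P.isPGroup'
  -- P ⊓ L is nontrivial
  obtain ⟨h, hh⟩ := exists_prime_orderOf_dvd_card' p hL
  have hT : IsPGroup p (Subgroup.zpowers (h : G)) := by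
    apply IsPGroup.of_card (n := 1)
    rw [Nat.card_zpowers, Subgroup.orderOf_coe, hh, pow_one]
  obtain ⟨c, hc⟩ := Helper67.exists_conj_mem_sylow P hT
  have hy : c * (h : G) * c⁻¹ ∈ (P : Subgroup G) ⊓ L :=
    ⟨hc _ (Subgroup.mem_zpowers _), hLn.conj_mem _ h.2 c⟩
  have hy1 : c * (h : G) * c⁻¹ ≠ 1 := by
    intro h1
    have : (h : G) = 1 := by
      have := congrArg (fun t => c⁻¹ * t * c) h1
      simpa [mul_assoc] using this
    have h2 : h = 1 := Subtype.ext this
    rw [h2, orderOf_one] at hh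
    exact hp.one_lt.ne hh
  have hXp : IsPGroup p ((P : Subgroup G) ⊓ L : Subgroup G) := hPp.to_le inf_le_left
  obtain ⟨k, hk⟩ := IsPGroup.exists_card_eq hXp
  have hk1 : 1 ≤ k := by
    rcases Nat.eq_zero_or_pos k with rfl | h0
    · exfalso
      rw [pow_zero, Subgroup.card_eq_one] at hk
      rw [hk, Subgroup.mem_bot] at hy
      exact hy1 hy
    · exact h0
  have hdvd : p ^ k ∣ Nat.card (P : Subgroup G) := by
    rw [← hk]
    exact Subgroup.card_dvd_of_le inf_le_left
  intro u hu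
  -- the cyclic subgroup generated by u inside P
  have hup : (⟨u, hu⟩ : (P : Subgroup G)) ^ p = 1 := Subtype.ext (hexp u hu)
  obtain ⟨j, hj1, hj⟩ : ∃ j, j ≤ 1 ∧ Nat.card (Subgroup.zpowers (⟨u, hu⟩ : (P : Subgroup G))) = p ^ j := by
    rw [Nat.card_zpowers]
    have := orderOf_dvd_of_pow_eq_one hup
    rcases (Nat.dvd_prime hp).1 this with h1 | h1
    · exact ⟨0, by omega, by rw [h1, pow_zero]⟩
    · exact ⟨1, le_refl _, by rw [h1, pow_one]⟩
  obtain ⟨K, hK, hUK⟩ := Sylow.exists_subgroup_card_pow_prime_le p hdvd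
    (Subgroup.zpowers (⟨u, hu⟩ : (P : Subgroup G))) hj (by omega)
  have hK' : Nat.card (K.map (P : Subgroup G).subtype) = p ^ k := by
    rw [Subgroup.card_map_of_injective (Subgroup.subtype_injective _), hK]
  obtain ⟨g, hg⟩ := hC ((P : Subgroup G) ⊓ L) (K.map (P : Subgroup G).subtype) hXp
    (IsPGroup.of_card hK') (by rw [hk, hK'])
  have huK : u ∈ K.map (P : Subgroup G).subtype :=
    Subgroup.mem_map.2 ⟨⟨u, hu⟩, hUK (Subgroup.mem_zpowers _), rfl⟩
  rw [hg] at huK
  obtain ⟨v, hv, rfl⟩ := Subgroup.mem_map.1 huK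
  exact hLn.conj_mem v hv.2 g

/-- A nonabelian Sylow `p`-subgroup of exponent `p` is impossible in the presence of a normal
`p`-solvable subgroup of order divisible by `p`. -/
theorem not_nonabelian {G : Type*} [Group G] [Finite G] {p : ℕ} [Fact p.Prime]
    (hC : ∀ H K : Subgroup G, IsPGroup p H → IsPGroup p K → Nat.card H = Nat.card K →
      ∃ g : G, K = H.map (MulAut.conj g).toMonoidHom) (P : Sylow p G)
    (hexp : ∀ x ∈ P, x ^ p = 1) (hna : ¬ IsMulCommutative P)
    (H : Subgroup G) [hHn : H.Normal] (hsolv : Cfsg.IsPSolvable p H) (hdiv : p ∣ Nat.card H) :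
    False := by
  have hp : p.Prime := Fact.out
  have hPp : IsPGroup p (P : Subgroup G) := P.isPGroup'
  have hPH : (P : Subgroup G) ≤ H := sylow_le_normal hC P hexp H hdiv
  -- the cores of H
  have hN₀char : (Cfsg.pPrimeCore p H).Characteristic := Lib.pPrimeCore_characteristic p
  have hK₀char : (Cfsg.pPrimePCore p H).Characteristic :=
    Subgroup.characteristic_iff_map_eq.2 (fun φ => Helper23.pPrimePCore_map_mulEquiv p φ)
  have hNn : ((Cfsg.pPrimeCore p H).map H.subtype).Normal :=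
    ConjAct.normal_of_characteristic_of_normal
  have hKn : ((Cfsg.pPrimePCore p H).map H.subtype).Normal :=
    ConjAct.normal_of_characteristic_of_normal
  have hN₀cop : (Nat.card (Cfsg.pPrimeCore p H)).Coprime p := Lib.card_pPrimeCore_coprime p
  -- p divides the order of K
  have hpK : p ∣ Nat.card ((Cfsg.pPrimePCore p H).map H.subtype) := by
    rw [Subgroup.card_map_of_injective (Subgroup.subtype_injective _)]
    obtain ⟨h, hh⟩ := exists_prime_orderOf_dvd_card' p hdiv
    have hhN : h ∉ Cfsg.pPrimeCore p H := by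
      intro hmem
      have h1 : orderOf h ∣ Nat.card (Cfsg.pPrimeCore p H) := Subgroup.orderOf_dvd_natCard _ hmem
      rw [hh] at h1
      have := Nat.Coprime.eq_one_of_dvd hN₀cop.symm h1
      exact hp.one_lt.ne' this
    have hnt : Nontrivial (↥H ⧸ Cfsg.pPrimeCore p H) :=
      ⟨⟨(h : ↥H ⧸ Cfsg.pPrimeCore p H), 1, fun h1 => hhN ((QuotientGroup.eq_one_iff h).1 h1)⟩⟩
    have hsolv' : Cfsg.IsPSolvable p (↥H ⧸ Cfsg.pPrimeCore p H) :=
      Helper11.isPSolvable_quotient _ hsolv
    obtain ⟨M, hMn, hM1, hM⟩ := Helper76.exists_normal_of_isPSolvable hsolv'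
    rcases hM with ⟨m, hm⟩ | hcop
    · have hMle : M ≤ Cfsg.pCore p (↥H ⧸ Cfsg.pPrimeCore p H) :=
        Lib.le_pCore hMn (IsPGroup.of_card hm)
      obtain ⟨ybar, hyM, hy1⟩ : ∃ y ∈ M, y ≠ 1 := by
        by_contra hcon
        push Not at hcon
        exact hM1 ((Subgroup.eq_bot_iff_forall M).2 hcon)
      obtain ⟨y, rfl⟩ := QuotientGroup.mk_surjective ybar
      have hyK : y ∈ Cfsg.pPrimePCore p H := by
        unfold Cfsg.pPrimePCore
        rw [Subgroup.mem_comap]
        exact hMle hyM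
      obtain ⟨i, hi⟩ := (IsPGroup.iff_orderOf.1 (IsPGroup.of_card hm))
        (⟨(y : ↥H ⧸ Cfsg.pPrimeCore p H), hyM⟩ : M)
      rw [Subgroup.orderOf_mk] at hi
      have hi0 : i ≠ 0 := by
        rintro rfl
        rw [pow_zero, orderOf_eq_one_iff] at hi
        exact hy1 hi
      have h1 : p ∣ orderOf (y : ↥H ⧸ Cfsg.pPrimeCore p H) := by
        rw [hi]; exact dvd_pow_self p hi0
      have h2 : orderOf (y : ↥H ⧸ Cfsg.pPrimeCore p H) ∣ orderOf y :=
        orderOf_map_dvd (QuotientGroup.mk' (Cfsg.pPrimeCore p H)) y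
      exact h1.trans (h2.trans (Subgroup.orderOf_dvd_natCard _ hyK))
    · exfalso
      have hMle : M ≤ Cfsg.pPrimeCore p (↥H ⧸ Cfsg.pPrimeCore p H) := Lib.le_pPrimeCore hMn hcop
      rw [Helper54.pPrimeCore_quotient_eq_bot, le_bot_iff] at hMle
      exact hM1 hMle
  have hPK : (P : Subgroup G) ≤ (Cfsg.pPrimePCore p H).map H.subtype :=
    sylow_le_normal hC P hexp _ hpK
  -- K = P ⊔ N
  have hS : ((P.subtype hPH : Sylow p H) : Subgroup H) ≤ Cfsg.pPrimePCore p H := by
    intro x hx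
    rw [Sylow.coe_subtype, Subgroup.mem_subgroupOf] at hx
    obtain ⟨x', hx', hxx⟩ := Subgroup.mem_map.1 (hPK hx)
    have : x' = x := Subtype.ext hxx
    rwa [← this]
  have hKeq : (Cfsg.pPrimePCore p H).map H.subtype =
      (P : Subgroup G) ⊔ (Cfsg.pPrimeCore p H).map H.subtype := by
    conv_lhs => rw [Helper54.pPrimePCore_eq_sup (P.subtype hPH) hS]
    rw [Subgroup.map_sup, Sylow.coe_subtype, Subgroup.subgroupOf_map_subtype, inf_of_le_left hPH]
  -- P ⊓ N = ⊥
  have hPN : ∀ t : G, t ∈ (P : Subgroup G) → t ∈ (Cfsg.pPrimeCore p H).map H.subtype → t = 1 := by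
    intro t htP htN
    have hcop : (Nat.card (P : Subgroup G)).Coprime
        (Nat.card ((Cfsg.pPrimeCore p H).map H.subtype)) := by
      rw [Subgroup.card_map_of_injective (Subgroup.subtype_injective _)]
      obtain ⟨n, hn⟩ := IsPGroup.exists_card_eq hPp
      rw [hn]
      exact Nat.Coprime.pow_left n hN₀cop.symm
    have := Subgroup.disjoint_of_coprime_natCard hcop
    rw [Subgroup.disjoint_def] at this
    exact this htP htN
  -- Frattini argument
  have hfr : Subgroup.normalizer ((P : Subgroup G) : Set G) ⊔ (Cfsg.pPrimePCore p H).map H.subtype = ⊤ := by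
    have := Sylow.normalizer_sup_eq_top (P.subtype hPK)
    rwa [Sylow.coe_subtype, Subgroup.subgroupOf_map_subtype, inf_of_le_left hPK] at this
  -- central and noncentral elements
  have hntP : Nontrivial (P : Subgroup G) := by
    by_contra hcon
    rw [not_nontrivial_iff_subsingleton] at hcon
    exact hna ⟨⟨fun a b => by rw [Subsingleton.elim a 1, Subsingleton.elim b 1]⟩⟩
  have hcn := hPp.center_nontrivial
  obtain ⟨⟨⟨z, hzP⟩, hzZ⟩, hz1'⟩ := exists_ne (1 : Subgroup.center (P : Subgroup G))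
  have hz1 : z ≠ 1 := fun h => hz1' (Subtype.ext (Subtype.ext h))
  have hzc : ∀ b ∈ (P : Subgroup G), b * z = z * b := by
    intro b hb
    have := Subgroup.mem_center_iff.1 hzZ ⟨b, hb⟩
    exact congrArg Subtype.val this
  have hoz : orderOf z = p := orderOf_eq_prime (hexp z hzP) hz1
  obtain ⟨x, hxP, b, hbP, hxb⟩ : ∃ x ∈ (P : Subgroup G), ∃ b ∈ (P : Subgroup G), x * b ≠ b * x := by
    by_contra hcon
    push Not at hcon
    exact hna ⟨⟨fun a b => Subtype.ext (hcon a a.2 b b.2)⟩⟩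
  have hx1 : x ≠ 1 := by
    rintro rfl
    exact hxb (by rw [one_mul, mul_one])
  have hox : orderOf x = p := orderOf_eq_prime (hexp x hxP) hx1
  obtain ⟨g, hg⟩ := hC (Subgroup.zpowers z) (Subgroup.zpowers x)
    (IsPGroup.of_card (n := 1) (by rw [Nat.card_zpowers, hoz, pow_one]))
    (IsPGroup.of_card (n := 1) (by rw [Nat.card_zpowers, hox, pow_one]))
    (by rw [Nat.card_zpowers, Nat.card_zpowers, hoz, hox])
  rw [MonoidHom.map_zpowers] at hg
  -- decompose g
  have hgtop : g ∈ Subgroup.normalizer ((P : Subgroup G) : Set G) ⊔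
      (Cfsg.pPrimePCore p H).map H.subtype := hfr ▸ Subgroup.mem_top g
  rw [← SetLike.mem_coe, Subgroup.mul_normal] at hgtop
  obtain ⟨m, hm, k, hk, rfl⟩ := Set.mem_mul.1 hgtop
  rw [SetLike.mem_coe, hKeq, ← SetLike.mem_coe, Subgroup.mul_normal] at hk
  obtain ⟨a, ha, n, hn, rfl⟩ := Set.mem_mul.1 hk
  rw [SetLike.mem_coe] at ha hn hm
  -- the conjugate z' of z
  have hz'P : (m * (a * n)) * z * (m * (a * n))⁻¹ ∈ (P : Subgroup G) := by
    have : (m * (a * n)) * z * (m * (a * n))⁻¹ ∈ Subgroup.zpowers x := by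
      rw [hg]; exact Subgroup.mem_zpowers _
    exact (Subgroup.zpowers_le.2 hxP) this
  have hm' := Subgroup.mem_normalizer_iff.1 hm
  have h1 : (a * n) * z * (a * n)⁻¹ ∈ (P : Subgroup G) := by
    rw [hm' ((a * n) * z * (a * n)⁻¹)]
    have : m * ((a * n) * z * (a * n)⁻¹) * m⁻¹ = (m * (a * n)) * z * (m * (a * n))⁻¹ := by group
    rw [this]; exact hz'P
  have h2 : n * z * n⁻¹ ∈ (P : Subgroup G) := by
    have : n * z * n⁻¹ = a⁻¹ * ((a * n) * z * (a * n)⁻¹) * a := by group
    rw [this]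
    exact Subgroup.mul_mem _ (Subgroup.mul_mem _ (Subgroup.inv_mem _ ha) h1) ha
  have h3 : n * z * n⁻¹ * z⁻¹ = 1 := by
    apply hPN
    · exact Subgroup.mul_mem _ h2 (Subgroup.inv_mem _ hzP)
    · have : n * z * n⁻¹ * z⁻¹ = n * (z * n⁻¹ * z⁻¹) := by group
      rw [this]
      exact Subgroup.mul_mem _ hn (hNn.conj_mem _ (Subgroup.inv_mem _ hn) z)
  have h4 : n * z * n⁻¹ = z := by
    have := congrArg (· * z) h3
    simpa using this
  have h5 : (m * (a * n)) * z * (m * (a * n))⁻¹ = m * z * m⁻¹ := by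
    have : (m * (a * n)) * z * (m * (a * n))⁻¹ = m * (a * (n * z * n⁻¹) * a⁻¹) * m⁻¹ := by group
    rw [this, h4, hzc a ha, mul_inv_cancel_right]
  -- m z m⁻¹ is central in P
  have h6 : ∀ b ∈ (P : Subgroup G), b * (m * z * m⁻¹) = (m * z * m⁻¹) * b := by
    intro b hb
    have hb' : m⁻¹ * b * m ∈ (P : Subgroup G) := by
      rw [hm' (m⁻¹ * b * m)]
      have : m * (m⁻¹ * b * m) * m⁻¹ = b := by group
      rw [this]; exact hb
    have := hzc _ hb'
    calc b * (m * z * m⁻¹) = m * ((m⁻¹ * b * m) * z) * m⁻¹ := by group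
      _ = m * (z * (m⁻¹ * b * m)) * m⁻¹ := by rw [this]
      _ = (m * z * m⁻¹) * b := by group
  -- hence x is central
  have hxz : x ∈ Subgroup.zpowers (m * z * m⁻¹) := by
    rw [← h5]
    have : (MulAut.conj (m * (a * n))).toMonoidHom z = (m * (a * n)) * z * (m * (a * n))⁻¹ := rfl
    rw [← this, ← hg]
    exact Subgroup.mem_zpowers x
  obtain ⟨i, rfl⟩ := Subgroup.mem_zpowers_iff.1 hxz
  exact hxb ((Commute.zpow_right (h6 b hbP) i).eq).symm

/-- Let p be an odd prime and G a finite group in which any two p-subgroups of the same order are conjugate, with Sylow p-subgroup P. If H is a normal p-solvable subgroup of G whose order is divisible by p, then P is abelian, and either P ≤ H or P is cyclic. -/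
theorem result {G : Type*} [Group G] [Finite G]
    {p : ℕ} [Fact p.Prime] (hp : p ≠ 2) (hC : ∀ H K : Subgroup G, IsPGroup p H → IsPGroup p K → Nat.card H = Nat.card K →
      ∃ g : G, K = H.map (MulAut.conj g).toMonoidHom) (P : Sylow p G)
    (H : Subgroup G) [H.Normal] (hsolv : Cfsg.IsPSolvable p H) (hdiv : p ∣ Nat.card H) :
    IsMulCommutative P ∧ ((P : Subgroup G) ≤ H ∨ IsCyclic P) := by
  rcases S4023.result hC P with hcyc | hel | ⟨hp2, -⟩ | ⟨-, hna, -, hexp⟩
  · exact ⟨IsCyclic.isMulCommutative, Or.inr hcyc⟩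
  · exact ⟨hel.1, Or.inl (sylow_le_normal hC P hel.2 H hdiv)⟩
  · exact absurd hp2 hp
  · exfalso
    apply not_nonabelian hC P _ hna H hsolv hdiv
    intro x hx
    have := Monoid.pow_exponent_eq_one (⟨x, hx⟩ : (P : Subgroup G))
    rw [hexp] at this
    exact congrArg Subtype.val this

end Cfsg.Agent.S4024
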