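import Cfsg.Statements.S4022
import Cfsg.Agent.S4024
import Cfsg.Agent.S3744
import Cfsg.Agent.Helper60.Hall
import Cfsg.Agent.Helper67.CyclicSub
import Cfsg.Agent.Helper67.Cyclic

set_option autoImplicit false
open Cfsg

namespace Cfsg.Agent.S4022

open scoped Pointwise

universe u

/-- Any two subgroups of the same order are conjugate. -/
def Concl (G : Type*) [Group G] : Prop :=
  ∀ H K : Subgroup G, Nat.card H = Nat.card K → ∃ g : G, K = H.map (MulAut.conj g).toMonoidHom

theorem map_conj_mk {G : Type*} [Group G] (R : Subgroup G) [R.Normal] (H : Subgroup G) (g : G) :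
    (H.map (MulAut.conj g).toMonoidHom).map (QuotientGroup.mk' R) =
      (H.map (QuotientGroup.mk' R)).map (MulAut.conj (g : G ⧸ R)).toMonoidHom := by
  rw [Subgroup.map_map, Subgroup.map_map]
  congr 1

theorem card_map_conj {G : Type*} [Group G] (H : Subgroup G) (g : G) :
    Nat.card (H.map (MulAut.conj g).toMonoidHom) = Nat.card H :=
  Subgroup.card_map_of_injective (MulAut.conj g).injective

theorem map_conj_conj {G : Type*} [Group G] (H : Subgroup G) (g a : G) :
    (H.map (MulAut.conj g).toMonoidHom).map (MulAut.conj a).toMonoidHom =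
      H.map (MulAut.conj (a * g)).toMonoidHom := by
  rw [Subgroup.map_map]
  congr 1
  ext x
  simp [mul_assoc]

/-- The inductive step through a normal subgroup of prime order containing all elements of
that order. -/
theorem core_step {G : Type*} [Group G] [Finite G] (R : Subgroup G) [hRn : R.Normal] (q : ℕ)
    [Fact q.Prime] (hR : Nat.card R = q) (huniq : ∀ x : G, orderOf x = q → x ∈ R)
    (hquot : Concl (G ⧸ R)) : Concl G := by
  have hq : q.Prime := Fact.out
  have hRsolv : Group.IsSolvable R := by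
    have := isCyclic_of_prime_card hR
    have hc : IsMulCommutative R := IsCyclic.isMulCommutative
    exact Group.isSolvable_of_comm (fun a b => mul_comm' a b)
  have key1 : ∀ X : Subgroup G, q ∣ Nat.card X → R ≤ X := by
    intro X hX
    obtain ⟨x, hx⟩ := exists_prime_orderOf_dvd_card' q hX
    have hxR : (x : G) ∈ R := huniq x (by rw [Subgroup.orderOf_coe]; exact hx)
    have hle : Subgroup.zpowers (x : G) ≤ R := Subgroup.zpowers_le.2 hxR
    have heq : Subgroup.zpowers (x : G) = R := by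
      apply Subgroup.eq_of_le_of_card_ge hle
      rw [Nat.card_zpowers, Subgroup.orderOf_coe, hx, hR]
    rw [← heq]
    exact Subgroup.zpowers_le.2 x.2
  have key2 : ∀ X : Subgroup G, ¬ q ∣ Nat.card X → X ⊓ R = ⊥ := by
    intro X hX
    have h1 : Nat.card (X ⊓ R : Subgroup G) ∣ q := hR ▸ Subgroup.card_dvd_of_le inf_le_right
    rcases (Nat.dvd_prime hq).1 h1 with h | h
    · exact Subgroup.card_eq_one.1 h
    · exfalso
      apply hX
      rw [← h]
      exact Subgroup.card_dvd_of_le inf_le_left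
  have hsupcard : ∀ X : Subgroup G, Nat.card (X ⊔ R : Subgroup G) =
      if q ∣ Nat.card X then Nat.card X else Nat.card X * q := by
    intro X
    split_ifs with h
    · rw [sup_of_le_left (key1 X h)]
    · have h1 := Helper31.card_sup_mul_card_inf' X R
        (le_trans le_top (Subgroup.normalizer_eq_top (H := R) ▸ le_refl _))
      rw [key2 X h, Subgroup.card_bot, mul_one, hR] at h1
      exact h1
  intro H K hHK
  have hidx : (H.map (QuotientGroup.mk' R)).index = (K.map (QuotientGroup.mk' R)).index := by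
    rw [Subgroup.index_map, Subgroup.index_map, QuotientGroup.ker_mk']
    have h1 : Nat.card (H ⊔ R : Subgroup G) = Nat.card (K ⊔ R : Subgroup G) := by
      rw [hsupcard, hsupcard, hHK]
    have h2 := (H ⊔ R).card_mul_index
    have h3 := (K ⊔ R).card_mul_index
    rw [h1, ← h3] at h2
    have := Nat.eq_of_mul_eq_mul_left Nat.card_pos h2
    rw [this]
  have hcard : Nat.card (H.map (QuotientGroup.mk' R)) = Nat.card (K.map (QuotientGroup.mk' R)) := by
    have h2 := (H.map (QuotientGroup.mk' R)).card_mul_index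
    have h3 := (K.map (QuotientGroup.mk' R)).card_mul_index
    rw [hidx, ← h3] at h2
    exact Nat.eq_of_mul_eq_mul_right
      (Nat.pos_of_ne_zero Subgroup.index_ne_zero_of_finite) h2
  obtain ⟨gbar, hg⟩ := hquot _ _ hcard
  obtain ⟨g, rfl⟩ := QuotientGroup.mk_surjective gbar
  rw [← map_conj_mk] at hg
  have hsup : K ⊔ R = H.map (MulAut.conj g).toMonoidHom ⊔ R := by
    have := congrArg (Subgroup.comap (QuotientGroup.mk' R)) hg
    rwa [Subgroup.comap_map_eq, Subgroup.comap_map_eq, QuotientGroup.ker_mk'] at this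
  have hH₁card : Nat.card (H.map (MulAut.conj g).toMonoidHom) = Nat.card K := by
    rw [card_map_conj, hHK]
  by_cases hqK : q ∣ Nat.card K
  · refine ⟨g, ?_⟩
    have h1 : R ≤ K := key1 K hqK
    have h2 : R ≤ H.map (MulAut.conj g).toMonoidHom := key1 _ (by rw [hH₁card]; exact hqK)
    rw [sup_of_le_left h1, sup_of_le_left h2] at hsup
    exact hsup
  · have h1 : H.map (MulAut.conj g).toMonoidHom ⊓ R = ⊥ := key2 _ (by rw [hH₁card]; exact hqK)
    have h2 : K ≤ H.map (MulAut.conj g).toMonoidHom ⊔ R := hsup ▸ le_sup_left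
    have hcop : (Nat.card K).Coprime (Nat.card R) := by
      rw [hR]
      exact (Nat.Coprime.symm ((Nat.Prime.coprime_iff_not_dvd hq).2 hqK))
    obtain ⟨a, ha⟩ := S3744.exists_conj_le_of_solvable_normal R _ K h2 h1 hcop
    refine ⟨a * g, ?_⟩
    rw [← map_conj_conj]
    have ha' : K ≤ (H.map (MulAut.conj g).toMonoidHom).map (MulAut.conj a).toMonoidHom := ha
    apply Subgroup.eq_of_le_of_card_ge ha'
    rw [Subgroup.card_map_of_injective (MulAut.conj a).injective, hH₁card]

/-- In a finite group with all Sylow subgroups cyclic, subgroups of equal order are conjugate. -/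
theorem theorem_Z : ∀ n : ℕ, ∀ (G : Type u) [Group G] [Finite G] [IsZGroup G],
    Nat.card G = n → Concl G := by
  intro n
  induction n using Nat.strong_induction_on with
  | _ n ih =>
  intro G _ _ _ hn
  rcases subsingleton_or_nontrivial G with hsub | hnt
  · intro H K _
    exact ⟨1, Subsingleton.elim _ _⟩
  · obtain ⟨R, l, hRn, hRne, hl, hRc, hRe⟩ := Helper60.exists_normal_elementary_abelian (G := G)
    haveI := hRn
    haveI : Fact l.Prime := ⟨hl⟩
    have hRp : IsPGroup l R := by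
      rintro ⟨a, ha⟩
      exact ⟨1, by rw [pow_one]; exact Subtype.ext (hRe a ha)⟩
    obtain ⟨Q, hQ⟩ := hRp.exists_le_sylow
    have hRcyc : IsCyclic R := Subgroup.isCyclic_of_le hQ
    have hRcard : Nat.card R = l := by
      obtain ⟨g, hg⟩ := IsCyclic.exists_generator (α := R)
      have h1 : orderOf g = Nat.card R := orderOf_eq_card_of_forall_mem_zpowers hg
      have h2 : orderOf g ∣ l := orderOf_dvd_of_pow_eq_one (Subtype.ext (hRe g g.2))
      rcases (Nat.dvd_prime hl).1 h2 with h | h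
      · exfalso
        apply hRne
        rw [← Subgroup.card_eq_one]
        omega
      · omega
    have huniq : ∀ x : G, orderOf x = l → x ∈ R := by
      intro x hx
      have hT : IsPGroup l (Subgroup.zpowers x) := by
        apply IsPGroup.of_card (n := 1)
        rw [Nat.card_zpowers, hx, pow_one]
      obtain ⟨c, hc⟩ := Helper67.exists_conj_mem_sylow Q hT
      have h1 : Subgroup.zpowers (c * x * c⁻¹) = R := by
        apply Helper67.eq_of_card_eq_of_le_cyclic Q _ _
          (Subgroup.zpowers_le.2 (hc x (Subgroup.mem_zpowers x))) hQ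
        rw [Nat.card_zpowers, hRcard, ← hx]
        exact (MulAut.conj c).orderOf_eq x
      have h2 : c * x * c⁻¹ ∈ R := h1 ▸ Subgroup.mem_zpowers _
      have := hRn.conj_mem _ h2 c⁻¹
      simpa [mul_assoc] using this
    have hlt : Nat.card (G ⧸ R) < n := by
      have := Subgroup.card_eq_card_quotient_mul_card_subgroup R
      rw [hRcard, hn] at this
      have h2 := hl.two_le
      have h3 : 0 < Nat.card (G ⧸ R) := Nat.card_pos
      nlinarith
    exact core_step R l hRcard huniq (ih (Nat.card (G ⧸ R)) hlt (G ⧸ R) rfl)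

/-- Inside a subgroup with all Sylow subgroups cyclic, subgroups of equal order are conjugate by
an element of that subgroup. -/
theorem conj_in_zsub {G : Type u} [Group G] [Finite G] (X : Subgroup G) [IsZGroup X]
    (A B : Subgroup G) (hA : A ≤ X) (hB : B ≤ X) (h : Nat.card A = Nat.card B) :
    ∃ x ∈ X, B = A.map (MulAut.conj x).toMonoidHom := by
  have h1 : Nat.card (A.subgroupOf X) = Nat.card (B.subgroupOf X) := by
    rw [Nat.card_congr (Subgroup.subgroupOfEquivOfLe hA).toEquiv,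
      Nat.card_congr (Subgroup.subgroupOfEquivOfLe hB).toEquiv, h]
  obtain ⟨x, hx⟩ := theorem_Z _ X rfl _ _ h1
  refine ⟨x, x.2, ?_⟩
  have hB' : B = (B.subgroupOf X).map X.subtype := (Subgroup.map_subgroupOf_eq_of_le hB).symm
  have hA' : A = (A.subgroupOf X).map X.subtype := (Subgroup.map_subgroupOf_eq_of_le hA).symm
  rw [hB', hx, Subgroup.map_map]
  conv_rhs => rw [hA', Subgroup.map_map]
  congr 1

theorem map_conj_one' {G : Type*} [Group G] (H : Subgroup G) :
    H.map (MulAut.conj (1 : G)).toMonoidHom = H := by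
  ext x
  simp

theorem le_normalizer_inf_normal {G : Type*} [Group G] (X R : Subgroup G) [hR : R.Normal] :
    X ≤ Subgroup.normalizer ((X ⊓ R : Subgroup G) : Set G) := by
  intro k hk
  rw [Subgroup.mem_normalizer_iff]
  intro x
  constructor
  · rintro ⟨h1, h2⟩
    exact ⟨X.mul_mem (X.mul_mem hk h1) (X.inv_mem hk), hR.conj_mem _ h2 _⟩
  · rintro ⟨h1, h2⟩
    constructor
    · have := X.mul_mem (X.mul_mem (X.inv_mem hk) h1) hk
      simpa [mul_assoc] using this
    · have := hR.conj_mem _ h2 k⁻¹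
      simpa [mul_assoc] using this

theorem map_conj_normal {G : Type*} [Group G] (R : Subgroup G) [hR : R.Normal] (g : G) :
    R.map (MulAut.conj g).toMonoidHom = R := by
  ext x
  constructor
  · rintro ⟨y, hy, rfl⟩
    exact hR.conj_mem _ hy _
  · intro hx
    refine ⟨g⁻¹ * x * g, ?_, by simp [mul_assoc]⟩
    have := hR.conj_mem _ hx g⁻¹
    simpa [mul_assoc] using this

theorem map_conj_inf_normal {G : Type*} [Group G] (X R : Subgroup G) [hR : R.Normal] (g : G) :
    (X ⊓ R).map (MulAut.conj g).toMonoidHom = X.map (MulAut.conj g).toMonoidHom ⊓ R := by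
  rw [Subgroup.map_inf _ _ _ (MulAut.conj g).injective, map_conj_normal R]

theorem map_conj_of_mem_normalizer {G : Type*} [Group G] (X : Subgroup G) (n : G)
    (hn : n ∈ Subgroup.normalizer (X : Set G)) : X.map (MulAut.conj n).toMonoidHom = X := by
  ext x
  rw [Subgroup.mem_normalizer_iff] at hn
  constructor
  · rintro ⟨y, hy, rfl⟩
    exact (hn y).1 hy
  · intro hx
    refine ⟨n⁻¹ * x * n, (hn _).2 ?_, by simp [mul_assoc]⟩
    simpa [mul_assoc] using hx

theorem map_conj_of_comm {G : Type*} [Group G] (R X : Subgroup G) (hX : X ≤ R)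
    (hRc : ∀ a ∈ R, ∀ b ∈ R, a * b = b * a) (ρ : G) (hρ : ρ ∈ R) :
    X.map (MulAut.conj ρ).toMonoidHom = X := by
  ext x
  constructor
  · rintro ⟨y, hy, rfl⟩
    have : ρ * y * ρ⁻¹ = y := by rw [hRc ρ hρ y (hX hy)]; simp
    simpa [this] using hy
  · intro hx
    refine ⟨x, hx, ?_⟩
    have : ρ * x * ρ⁻¹ = x := by rw [hRc ρ hρ x (hX hx)]; simp
    simpa using this

/-- A subgroup of order prime to `l` is a Z-group when all Sylow `p`-subgroups, `p ≠ l`, are
cyclic. -/
theorem isZGroup_of_not_dvd {G : Type*} [Group G] [Finite G] (l : ℕ) [Fact l.Prime]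
    (hcyc : ∀ p : ℕ, p.Prime → p ≠ l → ∀ P : Sylow p G, IsCyclic P) (X : Subgroup G)
    (hX : ¬ l ∣ Nat.card X) : IsZGroup X := by
  refine ⟨fun p hp P => ?_⟩
  have : Fact p.Prime := ⟨hp⟩
  by_cases hpl : p = l
  · subst hpl
    have h1 : Nat.card P = 1 := by
      obtain ⟨k, hk⟩ := P.isPGroup'.exists_card_eq
      have hdvd : Nat.card P ∣ Nat.card X := Subgroup.card_subgroup_dvd_card _
      rcases Nat.eq_zero_or_pos k with rfl | hk0
      · simpa using hk
      · exfalso
        apply hX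
        exact dvd_trans (hk ▸ dvd_pow_self p hk0.ne') hdvd
    have : Subsingleton P := (Nat.card_eq_one_iff_unique.1 h1).1
    exact isCyclic_of_subsingleton
  · have hP' : IsPGroup p (P.1.map X.subtype) := P.isPGroup'.map _
    obtain ⟨Q, hQ⟩ := hP'.exists_le_sylow
    have := hcyc p hp hpl Q
    have : IsCyclic (P.1.map X.subtype) := Subgroup.isCyclic_of_le hQ
    exact isCyclic_of_surjective _
      (Subgroup.equivMapOfInjective P.1 X.subtype X.subtype_injective).symm.surjective

/-- A normal `l`-subgroup of index prime to `l` contains every `l`-subgroup. -/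
theorem le_normal_sylow {G : Type*} [Group G] [Finite G] (l : ℕ) [Fact l.Prime]
    (R : Subgroup G) [hRn : R.Normal] (hRp : IsPGroup l R) (hRi : ¬ l ∣ R.index)
    (Y : Subgroup G) (hY : IsPGroup l Y) : Y ≤ R := by
  obtain ⟨c, hc⟩ := Helper67.exists_conj_mem_sylow (hRp.toSylow hRi) hY
  intro y hy
  have h1 : c * y * c⁻¹ ∈ R := hc y hy
  have := hRn.conj_mem _ h1 c⁻¹
  simpa [mul_assoc] using this

/-- A subgroup meeting the normal Sylow `l`-subgroup trivially has order prime to `l`. -/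
theorem not_dvd_of_inf_eq_bot {G : Type*} [Group G] [Finite G] (l : ℕ) [Fact l.Prime]
    (R : Subgroup G) [hRn : R.Normal] (hRp : IsPGroup l R) (hRi : ¬ l ∣ R.index)
    (X : Subgroup G) (hX : X ⊓ R = ⊥) : ¬ l ∣ Nat.card X := by
  intro hdvd
  obtain ⟨x, hx⟩ := exists_prime_orderOf_dvd_card' l hdvd
  have hT : IsPGroup l (Subgroup.zpowers (x : G)) := by
    apply IsPGroup.of_card (n := 1)
    rw [Nat.card_zpowers, Subgroup.orderOf_coe, hx, pow_one]
  have h1 : (x : G) ∈ R := le_normal_sylow l R hRp hRi _ hT (Subgroup.mem_zpowers _)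
  have h2 : (x : G) ∈ X ⊓ R := ⟨x.2, h1⟩
  rw [hX, Subgroup.mem_bot] at h2
  have h3 : x = 1 := Subtype.ext h2
  rw [h3, orderOf_one] at hx
  exact (Fact.out : l.Prime).one_lt.ne hx

/-- Schur–Zassenhaus complement of `H ⊓ R` in `H`. -/
theorem exists_compl_in {G : Type*} [Group G] [Finite G] (l : ℕ) [Fact l.Prime]
    (R : Subgroup G) [R.Normal] (hRp : IsPGroup l R) (hRi : ¬ l ∣ R.index) (H : Subgroup G) :
    ∃ U : Subgroup G, U ≤ H ∧ U ⊓ R = ⊥ ∧ H ≤ (H ⊓ R) ⊔ U := by
  have hcop : (Nat.card (R.subgroupOf H)).Coprime (R.subgroupOf H).index := by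
    have h1 : IsPGroup l (R.subgroupOf H) := hRp.comap_subtype
    obtain ⟨k, hk⟩ := h1.exists_card_eq
    rw [hk]
    apply Nat.Coprime.pow_left
    rw [Nat.Prime.coprime_iff_not_dvd Fact.out]
    intro hdvd
    apply hRi
    exact dvd_trans hdvd (Subgroup.relIndex_dvd_index_of_normal R H)
  obtain ⟨U', hU'⟩ := Subgroup.exists_right_complement'_of_coprime hcop
  refine ⟨U'.map H.subtype, Subgroup.map_subtype_le U', ?_, ?_⟩
  · rw [eq_bot_iff]
    rintro x ⟨hx1, hx2⟩
    obtain ⟨u, hu, rfl⟩ := hx1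
    have h1 : u ∈ R.subgroupOf H ⊓ U' := ⟨hx2, hu⟩
    rw [disjoint_iff.1 hU'.disjoint, Subgroup.mem_bot] at h1
    rw [h1]
    simp
  · intro h hh
    have h1 : (⟨h, hh⟩ : H) ∈ ((R.subgroupOf H : Set H) * (U' : Set H)) := by
      rw [Subgroup.IsComplement.mul_eq hU']
      trivial
    obtain ⟨y, hy, z, hz, hyz⟩ := h1
    have h2 : h = (y : G) * (z : G) := by
      have hyz' : y * z = ⟨h, hh⟩ := hyz
      rw [← Subgroup.coe_mul, hyz']
    rw [h2]
    exact Subgroup.mul_mem_sup ⟨y.2, hy⟩ (Subgroup.mem_map_of_mem _ hz)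

theorem arith_split (l : ℕ) (hl : l.Prime) (a b u v : ℕ) (hu : ¬ l ∣ u) (hv : ¬ l ∣ v)
    (h : l ^ a * u = l ^ b * v) : l ^ a = l ^ b ∧ u = v := by
  have h1 : l ^ a ∣ l ^ b :=
    (Nat.Coprime.pow_left a ((Nat.Prime.coprime_iff_not_dvd hl).2 hv)).dvd_of_dvd_mul_right
      ⟨u, h.symm⟩
  have h2 : l ^ b ∣ l ^ a :=
    (Nat.Coprime.pow_left b ((Nat.Prime.coprime_iff_not_dvd hl).2 hu)).dvd_of_dvd_mul_right
      ⟨v, h⟩
  have h3 : l ^ a = l ^ b := Nat.dvd_antisymm h1 h2
  refine ⟨h3, ?_⟩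
  rw [h3] at h
  exact Nat.eq_of_mul_eq_mul_left (pow_pos hl.pos b) h

/-- The case of a normal abelian Sylow `l`-subgroup with all other Sylow subgroups cyclic. -/
theorem case_B {G : Type u} [Group G] [Finite G] (l : ℕ) [Fact l.Prime]
    (hDl : ∀ H K : Subgroup G, IsPGroup l H → IsPGroup l K → Nat.card H = Nat.card K →
      ∃ g : G, K = H.map (MulAut.conj g).toMonoidHom)
    (R : Subgroup G) [hRn : R.Normal] (hRc : ∀ a ∈ R, ∀ b ∈ R, a * b = b * a)
    (hRp : IsPGroup l R) (hRi : ¬ l ∣ R.index)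
    (hcyc : ∀ p : ℕ, p.Prime → p ≠ l → ∀ P : Sylow p G, IsCyclic P) : Concl G := by
  have hl : l.Prime := Fact.out
  have hcopR : (Nat.card R).Coprime R.index := by
    obtain ⟨k, hk⟩ := hRp.exists_card_eq
    rw [hk]
    exact Nat.Coprime.pow_left _ ((Nat.Prime.coprime_iff_not_dvd hl).2 hRi)
  obtain ⟨T, hT⟩ := Subgroup.exists_right_complement'_of_coprime hcopR
  have hTR : T ⊓ R = ⊥ := by
    rw [inf_comm]
    exact disjoint_iff.1 hT.disjoint
  have hTRtop : T ⊔ R = ⊤ := by
    rw [sup_comm]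
    exact hT.sup_eq_top
  have hRsolv : Group.IsSolvable R :=
    Group.isSolvable_of_comm (fun a b => Subtype.ext (hRc a a.2 b b.2))
  have hTl : ¬ l ∣ Nat.card T := not_dvd_of_inf_eq_bot l R hRp hRi T hTR
  have hsubTl : ∀ X : Subgroup G, X ≤ T → ¬ l ∣ Nat.card X := by
    intro X hX h
    exact hTl (dvd_trans h (Subgroup.card_dvd_of_le hX))
  have hZsub : ∀ X : Subgroup G, X ≤ T → IsZGroup X := by
    intro X hX
    exact isZGroup_of_not_dvd l hcyc X (hsubTl X hX)
  -- normal form
  have hNF : ∀ H : Subgroup G, ∃ g : G, ∃ U : Subgroup G, U ≤ T ∧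
      U ≤ H.map (MulAut.conj g).toMonoidHom ∧
      H.map (MulAut.conj g).toMonoidHom ≤ (H.map (MulAut.conj g).toMonoidHom ⊓ R) ⊔ U := by
    intro H
    obtain ⟨U₀, hU₀H, hU₀R, hHU₀⟩ := exists_compl_in l R hRp hRi H
    have hcop : (Nat.card U₀).Coprime (Nat.card R) := by
      obtain ⟨k, hk⟩ := hRp.exists_card_eq
      rw [hk]
      apply Nat.Coprime.pow_right
      exact (Nat.Coprime.symm ((Nat.Prime.coprime_iff_not_dvd hl).2
        (not_dvd_of_inf_eq_bot l R hRp hRi U₀ hU₀R)))
    obtain ⟨a, ha⟩ := S3744.exists_conj_le_of_solvable_normal R T U₀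
      (by rw [hTRtop]; exact le_top) hTR hcop
    refine ⟨a⁻¹, U₀.map (MulAut.conj a⁻¹).toMonoidHom, ?_, Subgroup.map_mono hU₀H, ?_⟩
    · rintro x ⟨y, hy, rfl⟩
      have h1 := ha hy
      rw [Subgroup.mem_pointwise_smul_iff_inv_smul_mem] at h1
      simpa [MulAut.smul_def] using h1
    · rw [← map_conj_inf_normal, ← Subgroup.map_sup]
      exact Subgroup.map_mono hHU₀
  have hcardNF : ∀ H' U : Subgroup G, U ≤ T → U ≤ H' → H' ≤ (H' ⊓ R) ⊔ U →
      Nat.card H' = Nat.card (H' ⊓ R : Subgroup G) * Nat.card U := by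
    intro H' U hUT hUH hH'
    have hnorm : ∀ X : Subgroup G, X ≤ Subgroup.normalizer (R : Set G) := fun X => by
      rw [Subgroup.normalizer_eq_top]
      exact le_top
    have h1 := Helper31.card_sup_mul_card_inf' H' R (hnorm _)
    have h2 := Helper31.card_sup_mul_card_inf' U R (hnorm _)
    have h3 : U ⊓ R = ⊥ := le_bot_iff.1 (hTR ▸ inf_le_inf_right R hUT)
    have h4 : H' ⊔ R = U ⊔ R :=
      le_antisymm (sup_le (hH'.trans (sup_le (inf_le_right.trans le_sup_right) le_sup_left))
        le_sup_right) (sup_le_sup_right hUH R)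
    rw [h3, Subgroup.card_bot, mul_one] at h2
    rw [h4, h2] at h1
    have hRpos : 0 < Nat.card R := Nat.card_pos
    apply Nat.eq_of_mul_eq_mul_right hRpos
    rw [← h1]
    ring
  have hsame : ∀ H K U : Subgroup G, U ≤ T → U ≤ H → U ≤ K → H ≤ (H ⊓ R) ⊔ U →
      K ≤ (K ⊓ R) ⊔ U → Nat.card (H ⊓ R : Subgroup G) = Nat.card (K ⊓ R : Subgroup G) →
      ∃ c : G, K = H.map (MulAut.conj c).toMonoidHom := by
    intro H K U hUT hUH hUK hH hK hcard
    obtain ⟨g, hg⟩ := hDl (H ⊓ R) (K ⊓ R) (hRp.to_le inf_le_right) (hRp.to_le inf_le_right) hcard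
    have hgmem : g ∈ ((R : Set G) * (T : Set G)) := by
      rw [Subgroup.IsComplement.mul_eq hT]
      trivial
    obtain ⟨ρ, hρ, τ, hτ, hg'⟩ := hgmem
    have hg'' : ρ * τ = g := hg'
    have hD₂ : K ⊓ R = (H ⊓ R).map (MulAut.conj τ).toMonoidHom := by
      rw [hg, ← hg'', ← map_conj_conj]
      exact map_conj_of_comm R _ (by rw [map_conj_inf_normal]; exact inf_le_right) hRc ρ hρ
    obtain ⟨T₁, hT₁⟩ : ∃ T₁, T₁ = T ⊓ Subgroup.normalizer ((K ⊓ R : Subgroup G) : Set G) :=
      ⟨_, rfl⟩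
    have hUT₁ : U ≤ T₁ := hT₁ ▸ le_inf hUT (hUK.trans (le_normalizer_inf_normal K R))
    have hUτT₁ : U.map (MulAut.conj τ).toMonoidHom ≤ T₁ := by
      rw [hT₁]
      apply le_inf
      · rintro x ⟨y, hy, rfl⟩
        exact T.mul_mem (T.mul_mem hτ (hUT hy)) (T.inv_mem hτ)
      · have h1 : U.map (MulAut.conj τ).toMonoidHom ≤ H.map (MulAut.conj τ).toMonoidHom :=
          Subgroup.map_mono hUH
        have h2 := le_normalizer_inf_normal (H.map (MulAut.conj τ).toMonoidHom) R
        rw [← map_conj_inf_normal, ← hD₂] at h2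
        exact h1.trans h2
    have := hZsub T₁ (hT₁ ▸ inf_le_left)
    obtain ⟨σ, hσ, hσU⟩ := conj_in_zsub T₁ U (U.map (MulAut.conj τ).toMonoidHom) hUT₁ hUτT₁
      (card_map_conj U τ).symm
    have hσn : σ⁻¹ ∈ Subgroup.normalizer ((K ⊓ R : Subgroup G) : Set G) := by
      rw [hT₁] at hσ
      exact inv_mem hσ.2
    have hU' : U.map (MulAut.conj (σ⁻¹ * τ)).toMonoidHom = U := by
      rw [← map_conj_conj, hσU, map_conj_conj, inv_mul_cancel, map_conj_one']
    have hD' : (H ⊓ R).map (MulAut.conj (σ⁻¹ * τ)).toMonoidHom = K ⊓ R := by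
      rw [← map_conj_conj, ← hD₂]
      exact map_conj_of_mem_normalizer _ _ hσn
    refine ⟨σ⁻¹ * τ, ?_⟩
    apply le_antisymm
    · calc K ≤ (K ⊓ R) ⊔ U := hK
        _ = ((H ⊓ R) ⊔ U).map (MulAut.conj (σ⁻¹ * τ)).toMonoidHom := by
          rw [Subgroup.map_sup, hD', hU']
        _ ≤ H.map (MulAut.conj (σ⁻¹ * τ)).toMonoidHom :=
          Subgroup.map_mono (sup_le inf_le_left hUH)
    · calc H.map (MulAut.conj (σ⁻¹ * τ)).toMonoidHom
          ≤ ((H ⊓ R) ⊔ U).map (MulAut.conj (σ⁻¹ * τ)).toMonoidHom := Subgroup.map_mono hH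
        _ = (K ⊓ R) ⊔ U := by rw [Subgroup.map_sup, hD', hU']
        _ ≤ K := sup_le inf_le_left hUK
  intro H K hHK
  obtain ⟨g₁, U₁, hU₁T, hU₁H, hH₁⟩ := hNF H
  obtain ⟨g₂, U₂, hU₂T, hU₂K, hK₂⟩ := hNF K
  obtain ⟨H₁, hH₁def⟩ : ∃ H₁, H₁ = H.map (MulAut.conj g₁).toMonoidHom := ⟨_, rfl⟩
  obtain ⟨K₂, hK₂def⟩ : ∃ K₂, K₂ = K.map (MulAut.conj g₂).toMonoidHom := ⟨_, rfl⟩
  rw [← hH₁def] at hU₁H hH₁
  rw [← hK₂def] at hU₂K hK₂
  have hc1 := hcardNF H₁ U₁ hU₁T hU₁H hH₁
  have hc2 := hcardNF K₂ U₂ hU₂T hU₂K hK₂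
  have hH₁K₂ : Nat.card H₁ = Nat.card K₂ := by
    rw [hH₁def, hK₂def, card_map_conj, card_map_conj, hHK]
  obtain ⟨a, ha⟩ := (hRp.to_le (inf_le_right : H₁ ⊓ R ≤ R)).exists_card_eq
  obtain ⟨b, hb⟩ := (hRp.to_le (inf_le_right : K₂ ⊓ R ≤ R)).exists_card_eq
  have hsplit := arith_split l hl a b (Nat.card U₁) (Nat.card U₂) (hsubTl U₁ hU₁T)
    (hsubTl U₂ hU₂T) (by rw [← ha, ← hb, ← hc1, ← hc2, hH₁K₂])
  have := hZsub T le_rfl
  obtain ⟨t, ht, htU⟩ := conj_in_zsub T U₁ U₂ hU₁T hU₂T hsplit.2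
  obtain ⟨H₃, hH₃def⟩ : ∃ H₃, H₃ = H₁.map (MulAut.conj t).toMonoidHom := ⟨_, rfl⟩
  have hU₂H₃ : U₂ ≤ H₃ := by
    rw [htU, hH₃def]
    exact Subgroup.map_mono hU₁H
  have hH₃ : H₃ ≤ (H₃ ⊓ R) ⊔ U₂ := by
    rw [hH₃def, htU, ← map_conj_inf_normal, ← Subgroup.map_sup]
    exact Subgroup.map_mono hH₁
  have hcard3 : Nat.card (H₃ ⊓ R : Subgroup G) = Nat.card (K₂ ⊓ R : Subgroup G) := by
    rw [hH₃def, ← map_conj_inf_normal, card_map_conj, ha, hb, hsplit.1]
  obtain ⟨c, hc⟩ := hsame H₃ K₂ U₂ hU₂T hU₂H₃ hU₂K hH₃ hK₂ hcard3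
  refine ⟨g₂⁻¹ * (c * (t * g₁)), ?_⟩
  rw [← map_conj_conj, ← map_conj_conj, ← map_conj_conj, ← hH₁def, ← hH₃def, ← hc, hK₂def,
    map_conj_conj, inv_mul_cancel, map_conj_one']

theorem hcyc_quotient {G : Type*} [Group G] [Finite G] (R : Subgroup G) [R.Normal] (r : ℕ)
    (hcyc : ∀ p : ℕ, p.Prime → p ≠ r → ∀ P : Sylow p G, IsCyclic P) :
    ∀ p : ℕ, p.Prime → p ≠ r → ∀ P : Sylow p (G ⧸ R), IsCyclic P := by
  intro p hp hpr Pb
  have : Fact p.Prime := ⟨hp⟩
  obtain ⟨P, rfl⟩ := Sylow.mapSurjective_surjective (QuotientGroup.mk'_surjective R) p Pb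
  have := hcyc p hp hpr P
  exact isCyclic_of_surjective _ ((QuotientGroup.mk' R).subgroupMap_surjective P)

theorem index_eq_of_card_eq {G : Type*} [Group G] [Finite G] (A B : Subgroup G)
    (h : Nat.card A = Nat.card B) : A.index = B.index := by
  have h1 := A.card_mul_index
  have h2 := B.card_mul_index
  rw [h, ← h2] at h1
  exact Nat.eq_of_mul_eq_mul_left Nat.card_pos h1

theorem card_eq_of_index_eq {G : Type*} [Group G] [Finite G] (A B : Subgroup G)
    (h : A.index = B.index) : Nat.card A = Nat.card B := by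
  have h1 := A.card_mul_index
  have h2 := B.card_mul_index
  rw [h, ← h2] at h1
  exact Nat.eq_of_mul_eq_mul_right (Nat.pos_of_ne_zero Subgroup.index_ne_zero_of_finite) h1

/-- Lifting a `p`-subgroup of `G ⧸ R` to a `p`-subgroup of `G` of the same order, when `R` is a
`q`-group with `q ≠ p`. -/
theorem lift_p {G : Type*} [Group G] [Finite G] (R : Subgroup G) [R.Normal] (p q : ℕ)
    [Fact p.Prime] [Fact q.Prime] (hpq : p ≠ q) (hRq : IsPGroup q R) (Hb : Subgroup (G ⧸ R))
    (hHb : IsPGroup p Hb) :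
    ∃ H : Subgroup G, IsPGroup p H ∧ H.map (QuotientGroup.mk' R) = Hb ∧
      Nat.card H = Nat.card Hb := by
  obtain ⟨Pb, hPb⟩ := hHb.exists_le_sylow
  obtain ⟨P, rfl⟩ := Sylow.mapSurjective_surjective (QuotientGroup.mk'_surjective R) p Pb
  rw [Sylow.coe_mapSurjective] at hPb
  obtain ⟨H, hHdef⟩ : ∃ H : Subgroup G, H = (P : Subgroup G) ⊓ Hb.comap (QuotientGroup.mk' R) :=
    ⟨_, rfl⟩
  have hHp : IsPGroup p H := P.isPGroup'.to_le (hHdef ▸ inf_le_left)
  have hmap : H.map (QuotientGroup.mk' R) = Hb := by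
    apply le_antisymm
    · rw [Subgroup.map_le_iff_le_comap, hHdef]
      exact inf_le_right
    · intro y hy
      obtain ⟨x, hx, rfl⟩ := hPb hy
      exact ⟨x, hHdef ▸ ⟨hx, hy⟩, rfl⟩
  refine ⟨H, hHp, hmap, ?_⟩
  have hdisj : H ⊓ R = ⊥ := disjoint_iff.1 (IsPGroup.disjoint_of_ne p q hpq H R hHp hRq)
  have hinj : Function.Injective ((QuotientGroup.mk' R).comp H.subtype) := by
    rw [injective_iff_map_eq_one]
    intro x hx
    have h1 : (x : G) ∈ R := (QuotientGroup.eq_one_iff _).1 hx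
    have h2 : (x : G) ∈ H ⊓ R := ⟨x.2, h1⟩
    rw [hdisj, Subgroup.mem_bot] at h2
    exact Subtype.ext h2
  have h3 : Nat.card H = Nat.card ((QuotientGroup.mk' R).comp H.subtype).range :=
    Nat.card_congr (MonoidHom.ofInjective hinj).toEquiv
  rw [h3, MonoidHom.range_comp, Subgroup.range_subtype, hmap]

/-- The conjugacy hypothesis on `p`-subgroups passes to the quotient by a normal subgroup of
prime order. -/
theorem hyp_quotient {G : Type*} [Group G] [Finite G] (R : Subgroup G) [hRn : R.Normal] (q : ℕ)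
    [Fact q.Prime] (hR : Nat.card R = q)
    (hD : ∀ p : ℕ, p.Prime → ∀ H K : Subgroup G, IsPGroup p H → IsPGroup p K →
      Nat.card H = Nat.card K → ∃ g : G, K = H.map (MulAut.conj g).toMonoidHom) :
    ∀ p : ℕ, p.Prime → ∀ H K : Subgroup (G ⧸ R), IsPGroup p H → IsPGroup p K →
      Nat.card H = Nat.card K → ∃ g : G ⧸ R, K = H.map (MulAut.conj g).toMonoidHom := by
  intro p hp Hb Kb hHb hKb hcard
  have : Fact p.Prime := ⟨hp⟩
  have hf : Function.Surjective (QuotientGroup.mk' R) := QuotientGroup.mk'_surjective R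
  have hRq : IsPGroup q R := IsPGroup.of_card (n := 1) (by rw [hR, pow_one])
  by_cases hpq : p = q
  · subst hpq
    have hker : IsPGroup p (QuotientGroup.mk' R).ker := by
      rw [QuotientGroup.ker_mk']
      exact hRq
    have hH' := hHb.comap_of_ker_isPGroup (QuotientGroup.mk' R) hker
    have hK' := hKb.comap_of_ker_isPGroup (QuotientGroup.mk' R) hker
    have hcard' : Nat.card (Hb.comap (QuotientGroup.mk' R)) =
        Nat.card (Kb.comap (QuotientGroup.mk' R)) := by
      apply card_eq_of_index_eq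
      rw [Subgroup.index_comap_of_surjective _ hf, Subgroup.index_comap_of_surjective _ hf]
      exact index_eq_of_card_eq _ _ hcard
    obtain ⟨g, hg⟩ := hD p hp _ _ hH' hK' hcard'
    refine ⟨(g : G ⧸ R), ?_⟩
    have h1 := congrArg (Subgroup.map (QuotientGroup.mk' R)) hg
    rw [Subgroup.map_comap_eq_self_of_surjective hf, map_conj_mk,
      Subgroup.map_comap_eq_self_of_surjective hf] at h1
    exact h1
  · obtain ⟨H, hHp, hHmap, hHcard⟩ := lift_p R p q hpq hRq Hb hHb
    obtain ⟨K, hKp, hKmap, hKcard⟩ := lift_p R p q hpq hRq Kb hKb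
    obtain ⟨g, hg⟩ := hD p hp H K hHp hKp (by rw [hHcard, hKcard, hcard])
    refine ⟨(g : G ⧸ R), ?_⟩
    rw [← hKmap, hg, map_conj_mk, hHmap]

theorem card_dvd_of_cyclic_exp {G : Type*} [Group G] (R : Subgroup G) [IsCyclic R] (l : ℕ)
    (hRe : ∀ a ∈ R, a ^ l = 1) : Nat.card R ∣ l := by
  obtain ⟨g, hg⟩ := IsCyclic.exists_generator (α := R)
  have h1 : orderOf g = Nat.card R := orderOf_eq_card_of_forall_mem_zpowers hg
  rw [← h1]
  exact orderOf_dvd_of_pow_eq_one (Subtype.ext (hRe g g.2))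

theorem main : ∀ n : ℕ, ∀ (G : Type u) [Group G] [Finite G] [Group.IsSolvable G],
    (∀ p : ℕ, p.Prime → ∀ H K : Subgroup G, IsPGroup p H → IsPGroup p K →
      Nat.card H = Nat.card K → ∃ g : G, K = H.map (MulAut.conj g).toMonoidHom) →
    ∀ r : ℕ, (∀ p : ℕ, p.Prime → p ≠ r → ∀ P : Sylow p G, IsCyclic P) →
    Nat.card G = n → Concl G := by
  intro n
  induction n using Nat.strong_induction_on with
  | _ n ih =>
  intro G _ _ _ hD r hcyc hn
  rcases subsingleton_or_nontrivial G with hsub | hnt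
  · intro H K _
    exact ⟨1, Subsingleton.elim _ _⟩
  · obtain ⟨R, l, hRn, hRne, hl, hRc, hRe⟩ := Helper60.exists_normal_elementary_abelian (G := G)
    have := hRn
    have : Fact l.Prime := ⟨hl⟩
    have hRp : IsPGroup l R := by
      rintro ⟨a, ha⟩
      exact ⟨1, by rw [pow_one]; exact Subtype.ext (hRe a ha)⟩
    obtain ⟨k, hk⟩ := hRp.exists_card_eq
    have hk0 : k ≠ 0 := by
      rintro rfl
      apply hRne
      rw [← Subgroup.card_eq_one]
      simpa using hk
    by_cases hk1 : k = 1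
    · have hRcard : Nat.card R = l := by rw [hk, hk1, pow_one]
      have huniq : ∀ x : G, orderOf x = l → x ∈ R := by
        intro x hx
        have hT : IsPGroup l (Subgroup.zpowers x) := by
          apply IsPGroup.of_card (n := 1)
          rw [Nat.card_zpowers, hx, pow_one]
        obtain ⟨g, hg⟩ := hD l hl (Subgroup.zpowers x) R hT hRp
          (by rw [Nat.card_zpowers, hx, hRcard])
        have h2 : g * x * g⁻¹ ∈ R := by
          rw [hg]
          exact ⟨x, Subgroup.mem_zpowers x, rfl⟩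
        have := hRn.conj_mem _ h2 g⁻¹
        simpa [mul_assoc] using this
      have hlt : Nat.card (G ⧸ R) < n := by
        have := Subgroup.card_eq_card_quotient_mul_card_subgroup R
        rw [hRcard, hn] at this
        have h2 := hl.two_le
        have h3 : 0 < Nat.card (G ⧸ R) := Nat.card_pos
        nlinarith
      exact core_step R l hRcard huniq
        (ih _ hlt (G ⧸ R) (hyp_quotient R l hRcard hD) r (hcyc_quotient R r hcyc) rfl)
    · have hk2 : 2 ≤ k := by omega
      obtain ⟨E', hE'⟩ := Sylow.exists_subgroup_card_pow_prime l (G := R) (n := 2)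
        (by rw [hk]; exact pow_dvd_pow l hk2)
      obtain ⟨E, hEdef⟩ : ∃ E : Subgroup G, E = E'.map R.subtype := ⟨_, rfl⟩
      have hER : E ≤ R := hEdef ▸ Subgroup.map_subtype_le E'
      have hEcard : Nat.card E = l ^ 2 := by
        rw [hEdef, Subgroup.card_map_of_injective R.subtype_injective, hE']
      have hEp : IsPGroup l E := hRp.to_le hER
      have hno : ∀ z : G, orderOf z ≠ l ^ 2 := by
        intro z hz
        have hT : IsPGroup l (Subgroup.zpowers z) :=
          IsPGroup.of_card (n := 2) (by rw [Nat.card_zpowers, hz])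
        obtain ⟨g, hg⟩ := hD l hl (Subgroup.zpowers z) E hT hEp
          (by rw [Nat.card_zpowers, hz, hEcard])
        have h2 : g * z * g⁻¹ ∈ E := by
          rw [hg]
          exact ⟨z, Subgroup.mem_zpowers z, rfl⟩
        have h3 : (g * z * g⁻¹) ^ l = 1 := hRe _ (hER h2)
        have h4 : orderOf (g * z * g⁻¹) = l ^ 2 := by
          rw [← hz]
          exact (MulAut.conj g).orderOf_eq z
        have h5 : l ^ 2 ∣ l := h4 ▸ orderOf_dvd_of_pow_eq_one h3
        have h6 := Nat.le_of_dvd hl.pos h5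
        nlinarith [hl.two_le]
      obtain ⟨Q⟩ : Nonempty (Sylow l G) := inferInstance
      have hexp : ∀ x ∈ Q, x ^ l = 1 := by
        intro x hx
        obtain ⟨j, hj⟩ := (IsPGroup.iff_orderOf.1 Q.isPGroup') ⟨x, hx⟩
        rw [Subgroup.orderOf_mk] at hj
        by_cases hj2 : 2 ≤ j
        · exfalso
          apply hno (x ^ (l ^ (j - 2)))
          rw [orderOf_pow_of_dvd (pow_pos hl.pos _).ne' (by rw [hj]; exact pow_dvd_pow l (by omega)),
            hj, Nat.pow_div (by omega) hl.pos]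
          congr 1
          omega
        · have h1 : orderOf x ∣ l := by
            rw [hj]
            have : j = 0 ∨ j = 1 := by omega
            rcases this with rfl | rfl <;> simp
          exact orderOf_dvd_iff_pow_eq_one.1 h1
      have hQR : (Q : Subgroup G) ≤ R :=
        S4024.sylow_le_normal (hD l hl) Q hexp R (by rw [hk]; exact dvd_pow_self l hk0)
      have hRi : ¬ l ∣ R.index := by
        intro h
        exact Q.not_dvd_index (dvd_trans h (Subgroup.index_dvd_of_le hQR))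
      have hRQ : R = (Q : Subgroup G) := Q.3 hRp hQR
      have hcyc' : ∀ p : ℕ, p.Prime → p ≠ l → ∀ P : Sylow p G, IsCyclic P := by
        by_cases hlr : l = r
        · rw [hlr]
          exact hcyc
        · exfalso
          have hQc := hcyc l hl hlr Q
          have hRcyc : IsCyclic R := Subgroup.isCyclic_of_le (le_of_eq hRQ)
          have h1 := card_dvd_of_cyclic_exp R l hRe
          rw [hk] at h1
          have h2 : l ^ 2 ∣ l := dvd_trans (pow_dvd_pow l hk2) h1
          have h6 := Nat.le_of_dvd hl.pos h2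
          nlinarith [hl.two_le]
      exact case_B l (hD l hl) R hRc hRp hRi hcyc'

/-- Let G be a finite solvable group in which, for every prime p, any two p-subgroups of the same order are conjugate, and suppose the Sylow p-subgroups of G are cyclic for all primes p with at most one exception. Then any two subgroups of G of the same order are conjugate. -/
theorem result {G : Type*} [Group G] [Finite G]
    [Group.IsSolvable G] (hD : ∀ p : ℕ, p.Prime → ∀ H K : Subgroup G, IsPGroup p H → IsPGroup p K → Nat.card H = Nat.card K →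
      ∃ g : G, K = H.map (MulAut.conj g).toMonoidHom)
    (r : ℕ) (hcyc : ∀ p : ℕ, p.Prime → p ≠ r → ∀ P : Sylow p G, IsCyclic P) :
    ∀ H K : Subgroup G, Nat.card H = Nat.card K → ∃ g : G, K = H.map (MulAut.conj g).toMonoidHom := by
  exact main (Nat.card G) G hD r hcyc rfl

end Cfsg.Agent.S4022
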