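import Cfsg.Statements.S4025
import Cfsg.Agent.Lib.Cores
import Cfsg.Agent.Helper58.SA6
import Cfsg.Agent.Helper58.SA7

set_option autoImplicit false
open Cfsg

namespace Cfsg.Agent.S4025

open Cfsg.Agent.Helper58.SA

/-- Let p be a prime and G a finite group in which any two p-subgroups of the same order are conjugate, and suppose a Sylow p-subgroup P of G is elementary abelian of order pⁿ with n ≥ 3. Let N be the normalizer of P and K the largest normal subgroup of N of order prime to p, and assume N/K is solvable. Then either n = 3 and N/K embeds in the one-dimensional semi-affine group over the field with p³ elements (and for p = 2 it is isomorphic to the affine or the semi-affine group over the field with 8 elements), or n = 5, p = 2 and N/K is isomorphic to the one-dimensional semi-affine group over the field with 32 elements. -/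
theorem result {G : Type*} [Group G] [Finite G]
    {p : ℕ} [Fact p.Prime] (hC : ∀ H K : Subgroup G, IsPGroup p H → IsPGroup p K → Nat.card H = Nat.card K →
      ∃ g : G, K = H.map (MulAut.conj g).toMonoidHom) (P : Sylow p G) (n : ℕ) (hn : 3 ≤ n)
    (hel : Cfsg.IsElementaryAbelian p (P : Subgroup G)) (hcard : Nat.card P = p ^ n)
    (N : Subgroup G) (hN : N = Subgroup.normalizer ((P : Subgroup G) : Set G))
    (hsolv : Group.IsSolvable (↥N ⧸ Cfsg.pPrimeCore p ↥N)) :
    (n = 3 ∧ (∃ f : ↥N ⧸ Cfsg.pPrimeCore p ↥N →* ↥(Cfsg.semiaffineGroup (GaloisField p 3)), Function.Injective f) ∧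
      (p = 2 → Nonempty (↥N ⧸ Cfsg.pPrimeCore p ↥N ≃* Cfsg.semiaffineGroup (GaloisField 2 3)) ∨
               Nonempty (↥N ⧸ Cfsg.pPrimeCore p ↥N ≃* Cfsg.affineGroup (GaloisField 2 3)))) ∨
    (n = 5 ∧ p = 2 ∧ Nonempty (↥N ⧸ Cfsg.pPrimeCore p ↥N ≃* Cfsg.semiaffineGroup (GaloisField 2 5))) := by
  classical
  have hpp : p.Prime := Fact.out
  obtain ⟨hcomm, hexp⟩ := hel
  have hab : ∀ a ∈ (P : Subgroup G), ∀ b ∈ (P : Subgroup G), a * b = b * a := by
    intro a ha b hb
    have := hcomm.is_comm.comm (⟨a, ha⟩ : (P : Subgroup G)) ⟨b, hb⟩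
    exact congrArg Subtype.val this
  have hPN : (P : Subgroup G) ≤ N := by rw [hN]; exact Subgroup.le_normalizer
  -- the image of `P` in `N`
  obtain ⟨R, hR⟩ : ∃ R : Subgroup N, R = (P : Subgroup G).subgroupOf N := ⟨_, rfl⟩
  have hRmem : ∀ x : N, x ∈ R ↔ (x : G) ∈ (P : Subgroup G) := by
    intro x; rw [hR]; exact Subgroup.mem_subgroupOf
  haveI hRn : R.Normal := by
    rw [hR]
    subst hN
    exact Subgroup.normal_in_normalizer
  have hRcard : Nat.card R = p ^ n := by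
    rw [hR, Nat.card_congr (Subgroup.subgroupOfEquivOfLe hPN).toEquiv]
    exact hcard
  have hRp : IsPGroup p R := IsPGroup.of_card hRcard
  have hRab : ∀ a ∈ R, ∀ b ∈ R, a * b = b * a := by
    intro a ha b hb
    apply Subtype.ext
    exact hab a ((hRmem a).1 ha) b ((hRmem b).1 hb)
  have hRidx : ¬ p ∣ R.index := by
    intro h
    have h1 : R.index ∣ (P : Subgroup G).index := by
      rw [hR]
      exact Subgroup.relIndex_dvd_index_of_le hPN
    exact P.not_dvd_index (h.trans h1)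
  -- the quotient
  set K : Subgroup N := Cfsg.pPrimeCore p N with hK
  have hKcop : (Nat.card K).Coprime p := Cfsg.Agent.Lib.card_pPrimeCore_coprime p
  have hRK : ∀ x : N, x ∈ R → x ∈ K → x = 1 := by
    have : R ⊓ K = ⊥ := disjoint_iff.1 (Subgroup.disjoint_of_coprime_natCard (by
      rw [hRcard]; exact (Nat.Coprime.pow_left n hKcop.symm)))
    intro x hx hx'
    have h1 : x ∈ R ⊓ K := ⟨hx, hx'⟩
    rw [this] at h1
    exact Subgroup.mem_bot.1 h1
  obtain ⟨π, hπ⟩ : ∃ π : N →* N ⧸ K, π = QuotientGroup.mk' K := ⟨_, rfl⟩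
  have hπsurj : Function.Surjective π := by rw [hπ]; exact QuotientGroup.mk'_surjective K
  have hπker : ∀ x : N, π x = 1 ↔ x ∈ K := by
    intro x; rw [hπ]; exact QuotientGroup.eq_one_iff x
  have hπinj : ∀ a ∈ R, ∀ b ∈ R, π a = π b → a = b := by
    intro a ha b hb h
    have h1 : π (a⁻¹ * b) = 1 := by rw [map_mul, map_inv, h, inv_mul_cancel]
    have h2 := hRK _ (R.mul_mem (R.inv_mem ha) hb) ((hπker _).1 h1)
    exact inv_mul_eq_one.1 h2
  obtain ⟨E, hE⟩ : ∃ E : Subgroup (N ⧸ K), E = R.map π := ⟨_, rfl⟩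
  haveI hEn : E.Normal := by rw [hE]; exact Subgroup.Normal.map hRn π hπsurj
  have hEmem : ∀ y : N ⧸ K, y ∈ E ↔ ∃ r ∈ R, π r = y := by
    intro y; rw [hE]; exact Subgroup.mem_map
  -- cardinality of a subgroup of `E` versus its preimage in `R`
  have hcardpre : ∀ Y : Subgroup (N ⧸ K), Y ≤ E → Nat.card (Y.comap π ⊓ R : Subgroup N) = Nat.card Y := by
    intro Y hY
    refine Nat.card_congr (Equiv.ofBijective
      (fun r : (Y.comap π ⊓ R : Subgroup N) => (⟨π r.1, r.2.1⟩ : Y)) ⟨?_, ?_⟩)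
    · intro a b h
      apply Subtype.ext
      exact hπinj _ a.2.2 _ b.2.2 (congrArg Subtype.val h)
    · intro y
      obtain ⟨r, hr, hry⟩ := (hEmem _).1 (hY y.2)
      refine ⟨⟨r, ?_, hr⟩, Subtype.ext hry⟩
      show π r ∈ Y
      rw [hry]; exact y.2
  have hEcard : Nat.card E = p ^ n := by
    have h1 := hcardpre E le_rfl
    have h2 : (E.comap π ⊓ R : Subgroup N) = R := by
      apply le_antisymm inf_le_right
      intro r hr
      exact ⟨(hEmem _).2 ⟨r, hr, rfl⟩, hr⟩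
    rw [h2] at h1
    rw [← h1, hRcard]
  have hEc : ∀ a ∈ E, ∀ b ∈ E, a * b = b * a := by
    intro a ha b hb
    obtain ⟨r, hr, rfl⟩ := (hEmem _).1 ha
    obtain ⟨s, hs, rfl⟩ := (hEmem _).1 hb
    rw [← map_mul, ← map_mul, hRab r hr s hs]
  have hEp : ∀ a ∈ E, a ^ p = 1 := by
    intro a ha
    obtain ⟨r, hr, rfl⟩ := (hEmem _).1 ha
    rw [← map_pow]
    have : r ^ p = 1 := by
      apply Subtype.ext
      rw [Subgroup.coe_pow]
      exact hexp _ ((hRmem r).1 hr)
    rw [this, map_one]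
  have hEidx : (Nat.card E).Coprime E.index := by
    rw [hEcard]
    apply Nat.Coprime.pow_left
    rw [Nat.Prime.coprime_iff_not_dvd hpp]
    intro h
    apply hRidx
    refine h.trans ?_
    rw [hE]
    exact Subgroup.index_map_dvd R hπsurj
  -- the centralizer of `E`
  have hCE : ∀ x : N ⧸ K, (∀ e ∈ E, x * e = e * x) → x ∈ E := by
    intro x hx
    obtain ⟨m, rfl⟩ := hπsurj x
    have hm : m ∈ Subgroup.centralizer (R : Set N) := by
      rw [Subgroup.mem_centralizer_iff]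
      intro r hr
      have h1 := hx (π r) ((hEmem _).2 ⟨r, hr, rfl⟩)
      have h2 : π (m * r * m⁻¹ * r⁻¹) = 1 := by
        rw [map_mul, map_mul, map_mul, h1, map_inv, map_inv]
        group
      have h3 : m * r * m⁻¹ * r⁻¹ ∈ R := R.mul_mem (hRn.conj_mem r hr m) (R.inv_mem hr)
      have h4 := hRK _ h3 ((hπker _).1 h2)
      calc r * m = (m * r * m⁻¹ * r⁻¹)⁻¹ * (m * r) := by group
        _ = m * r := by rw [h4, inv_one, one_mul]
    obtain ⟨a, ha, q, hq, rfl⟩ := centralizer_le_sup p R hRp hRidx hRab m hm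
    rw [map_mul, (hπker q).2 hq, mul_one]
    exact (hEmem _).2 ⟨a, ha, rfl⟩
  -- transitivity
  have htrans : ∀ Y Y' : Subgroup (N ⧸ K), Y ≤ E → Y' ≤ E → Nat.card Y = Nat.card Y' →
      ∃ x : N ⧸ K, Y' = Y.map (MulAut.conj x).toMonoidHom := by
    intro Y Y' hY hY' hYY'
    obtain ⟨Y₀, hY₀⟩ : ∃ Y₀ : Subgroup G, Y₀ = (Y.comap π ⊓ R : Subgroup N).map N.subtype :=
      ⟨_, rfl⟩
    obtain ⟨Y₀', hY₀'⟩ : ∃ Y₀' : Subgroup G, Y₀' = (Y'.comap π ⊓ R : Subgroup N).map N.subtype :=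
      ⟨_, rfl⟩
    have hY₀P : Y₀ ≤ P := by
      rw [hY₀]
      rintro _ ⟨r, hr, rfl⟩
      exact (hRmem r).1 hr.2
    have hY₀'P : Y₀' ≤ P := by
      rw [hY₀']
      rintro _ ⟨r, hr, rfl⟩
      exact (hRmem r).1 hr.2
    have hc0 : Nat.card Y₀ = Nat.card Y := by
      rw [hY₀, Subgroup.card_map_of_injective N.subtype_injective, hcardpre Y hY]
    have hc0' : Nat.card Y₀' = Nat.card Y' := by
      rw [hY₀', Subgroup.card_map_of_injective N.subtype_injective, hcardpre Y' hY']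
    obtain ⟨g, hg⟩ := hC Y₀ Y₀' (P.2.to_le hY₀P) (P.2.to_le hY₀'P) (by rw [hc0, hc0', hYY'])
    obtain ⟨n₀, hn₀, hn₀g⟩ := fusion_subgroup P hab Y₀ hY₀P g (by
      intro y hy
      apply hY₀'P
      rw [hg]
      exact ⟨y, hy, rfl⟩)
    rw [← hN] at hn₀
    refine ⟨π ⟨n₀, hn₀⟩, ?_⟩
    symm
    apply Subgroup.eq_of_le_of_card_ge
    · rintro _ ⟨y, hy, rfl⟩
      obtain ⟨r, hr, rfl⟩ := (hEmem _).1 (hY hy)
      have h1 : (r : G) ∈ Y₀ := by
        rw [hY₀]
        exact ⟨r, ⟨hy, hr⟩, rfl⟩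
      have h2 : n₀ * (r : G) * n₀⁻¹ ∈ Y₀' := by
        rw [hn₀g _ h1, hg]
        exact ⟨_, h1, rfl⟩
      rw [hY₀'] at h2
      obtain ⟨s, hs, hs'⟩ := h2
      have h3 : s = ⟨n₀, hn₀⟩ * r * ⟨n₀, hn₀⟩⁻¹ := by
        apply Subtype.ext
        exact hs'
      show π ⟨n₀, hn₀⟩ * π r * (π ⟨n₀, hn₀⟩)⁻¹ ∈ Y'
      rw [← map_inv, ← map_mul, ← map_mul, ← h3]
      exact hs.1
    · rw [Subgroup.card_map_of_injective (MulAut.conj (π ⟨n₀, hn₀⟩)).injective, hYY']
  exact sa_main E n hn hEc hEp hEcard hEidx hCE hsolv htrans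

end Cfsg.Agent.S4025
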