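import Cfsg.Statements.S4027
import Cfsg.Agent.Helper67.TwoClosed

set_option autoImplicit false
open Cfsg

namespace Cfsg.Agent.S4027

open Cfsg.Agent.Helper67

/-- Let G be a finite group in which every element x of odd order satisfies N_G(⟨x⟩) = C_G(x). Then the Sylow 2-subgroups of G are normal. -/
theorem result {G : Type*} [Group G] [Finite G]
    (hirr : ∀ x : G, (∀ r : ℕ, r.Prime → r ∣ orderOf x → r ≠ 2) →
      Subgroup.normalizer ((Subgroup.zpowers x : Subgroup G) : Set G) ≤ Subgroup.centralizer {x}) (P : Sylow 2 G) :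
    (P : Subgroup G).Normal := by
  by_contra hP
  obtain ⟨y, w, hy1, hyodd, hwy⟩ := exists_inverted_odd_of_sylow_two_not_normal P hP
  have hy2 : ∀ r : ℕ, r.Prime → r ∣ orderOf y → r ≠ 2 := by
    rintro r - hr rfl
    exact (Nat.not_even_iff_odd.2 hyodd) (even_iff_two_dvd.2 hr)
  have hwn : w ∈ Subgroup.normalizer ((Subgroup.zpowers y : Subgroup G) : Set G) := by
    rw [mem_normalizer_zpowers_iff, hwy]
    exact Subgroup.inv_mem _ (Subgroup.mem_zpowers y)
  have hc := hirr y hy2 hwn
  rw [Subgroup.mem_centralizer_iff] at hc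
  have hcomm : y * w = w * y := hc y rfl
  have hyy : y = y⁻¹ := by
    rw [← hwy, ← hcomm, mul_assoc, mul_inv_cancel, mul_one]
  have hsq : y ^ 2 = 1 := by
    rw [pow_two]; nth_rewrite 1 [hyy]; exact inv_mul_cancel y
  have hdvd : orderOf y ∣ 2 := orderOf_dvd_of_pow_eq_one hsq
  have : orderOf y = 1 := by
    rcases (Nat.dvd_prime Nat.prime_two).1 hdvd with h | h
    · exact h
    · rw [h] at hyodd; exact absurd hyodd (by decide)
  exact hy1 (orderOf_eq_one_iff.1 this)

end Cfsg.Agent.S4027
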