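import Cfsg.Statements.S4028
import Cfsg.Agent.Helper67.Cyclic

set_option autoImplicit false
open Cfsg

namespace Cfsg.Agent.S4028

open Cfsg.Agent.Helper67

/-- Let G be a finite group with Sylow 2-subgroup P. Then N_G(⟨x⟩) = C_G(x) holds for every 2-element x of G if and only if N_P(⟨y⟩) = C_P(y) holds for every y ∈ P (computed inside P). -/
theorem result {G : Type*} [Group G] [Finite G] (P : Sylow 2 G) :
    (∀ x : G, (∀ r : ℕ, r.Prime → r ∣ orderOf x → r = 2) →
      Subgroup.normalizer ((Subgroup.zpowers x : Subgroup G) : Set G) ≤ Subgroup.centralizer {x}) ↔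
    (∀ y : ↥(P : Subgroup G), Subgroup.normalizer ((Subgroup.zpowers y : Subgroup ↥(P : Subgroup G)) : Set ↥(P : Subgroup G)) ≤
        Subgroup.centralizer {y}) := by
  constructor
  · intro h y g hg
    -- y is a 2-element of G
    have hy2 : ∀ r : ℕ, r.Prime → r ∣ orderOf (y : G) → r = 2 := by
      intro r hr hdvd
      obtain ⟨k, hk⟩ := P.isPGroup' y
      have h1 : orderOf y ∣ 2 ^ k := orderOf_dvd_of_pow_eq_one hk
      rw [Subgroup.orderOf_coe] at hdvd
      exact (Nat.prime_dvd_prime_iff_eq hr Nat.prime_two).1 (hr.dvd_of_dvd_pow (hdvd.trans h1))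
    have hgn : (g : G) ∈ Subgroup.normalizer ((Subgroup.zpowers (y : G) : Subgroup G) : Set G) := by
      rw [mem_normalizer_zpowers_iff]
      have := mem_normalizer_zpowers_iff.1 hg
      obtain ⟨i, hi⟩ := Subgroup.mem_zpowers_iff.1 this
      refine Subgroup.mem_zpowers_iff.2 ⟨i, ?_⟩
      have := congrArg (Subtype.val) hi
      simpa using this
    have hc := h (y : G) hy2 hgn
    rw [Subgroup.mem_centralizer_iff] at hc ⊢
    intro z hz
    rw [Set.mem_singleton_iff] at hz
    subst hz
    apply Subtype.ext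
    simpa using hc (z : G) rfl
  · intro h x hx g hg
    -- x has 2-power order
    have hxo : orderOf x = 2 ^ (orderOf x).primeFactorsList.length :=
      Nat.eq_prime_pow_of_unique_prime_dvd (orderOf_pos x).ne' (fun {d} hd hdvd => hx d hd hdvd)
    set k := (orderOf x).primeFactorsList.length with hk
    -- split the order of g
    obtain ⟨a, m, hm, ham⟩ := Nat.exists_eq_two_pow_mul_odd (orderOf_pos g).ne'
    set t := g ^ m with ht
    have hto : orderOf t = 2 ^ a := by
      rw [ht, orderOf_pow' g hm.pos.ne', ham, Nat.gcd_eq_right (Dvd.intro_left _ rfl),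
        Nat.mul_div_cancel _ hm.pos]
    have htn : t ∈ Subgroup.normalizer ((Subgroup.zpowers x : Subgroup G) : Set G) :=
      Subgroup.pow_mem _ hg m
    -- t and x generate a 2-group
    have hZt : IsPGroup 2 (Subgroup.zpowers t) := by
      apply IsPGroup.of_card (n := a); rw [Nat.card_zpowers, hto]
    have hZx : IsPGroup 2 (Subgroup.zpowers x) := by
      apply IsPGroup.of_card (n := k); rw [Nat.card_zpowers, ← hxo]
    have hT : IsPGroup 2 (Subgroup.zpowers t ⊔ Subgroup.zpowers x : Subgroup G) :=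
      hZt.to_sup_of_normal_right' hZx (by rwa [Subgroup.zpowers_le])
    obtain ⟨c, hc⟩ := exists_conj_mem_sylow P hT
    have hcx : c * x * c⁻¹ ∈ P := hc x (le_sup_right (a := Subgroup.zpowers t) (Subgroup.mem_zpowers x))
    have hct : c * t * c⁻¹ ∈ P := hc t (le_sup_left (b := Subgroup.zpowers x) (Subgroup.mem_zpowers t))
    let y : (P : Subgroup G) := ⟨c * x * c⁻¹, hcx⟩
    let s : (P : Subgroup G) := ⟨c * t * c⁻¹, hct⟩
    have hsn : s ∈ Subgroup.normalizer ((Subgroup.zpowers y : Subgroup (P : Subgroup G)) : Set (P : Subgroup G)) := by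
      rw [mem_normalizer_zpowers_iff]
      obtain ⟨i, hi⟩ := Subgroup.mem_zpowers_iff.1 (mem_normalizer_zpowers_iff.1 htn)
      refine Subgroup.mem_zpowers_iff.2 ⟨i, ?_⟩
      apply Subtype.ext
      show (c * x * c⁻¹) ^ i = (c * t * c⁻¹) * (c * x * c⁻¹) * (c * t * c⁻¹)⁻¹
      rw [conj_zpow, hi]; group
    have hsc := h y hsn
    rw [Subgroup.mem_centralizer_iff] at hsc
    have hsy := congrArg Subtype.val (hsc y rfl)
    have hsy' : (c * x * c⁻¹) * (c * t * c⁻¹) = (c * t * c⁻¹) * (c * x * c⁻¹) := hsy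
    have htx : Commute t x := by
      show t * x = x * t
      have : c * (x * t) * c⁻¹ = c * (t * x) * c⁻¹ := by
        calc c * (x * t) * c⁻¹ = (c * x * c⁻¹) * (c * t * c⁻¹) := by group
          _ = (c * t * c⁻¹) * (c * x * c⁻¹) := hsy'
          _ = c * (t * x) * c⁻¹ := by group
      have := mul_left_cancel (mul_right_cancel this)
      exact this.symm
    have hgx : Commute g x := commute_of_odd_pow_commute hxo hg hm htx
    rw [Subgroup.mem_centralizer_iff]
    intro z hz
    rw [Set.mem_singleton_iff] at hz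
    subst hz
    exact hgx.eq.symm

end Cfsg.Agent.S4028
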