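import Cfsg.Statements.S4029
import Cfsg.Agent.S0160
import Cfsg.Agent.Helper79.Linear
import Cfsg.Agent.Helper63.Frattini
import Cfsg.Agent.Helper67.Cyclic

set_option autoImplicit false
open Cfsg

namespace Cfsg.Agent.S4029

/-- Under the hypothesis, a real element is an involution or trivial. -/
theorem sq_eq_one_of_isConj_inv {P : Type*} [Group P] [Finite P]
    (hirr : ∀ y : P, Subgroup.normalizer ((Subgroup.zpowers y : Subgroup P) : Set P) ≤
      Subgroup.centralizer {y}) (g : P) (h : IsConj g g⁻¹) : g ^ 2 = 1 := by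
  obtain ⟨c, hc⟩ := isConj_iff.1 h
  have hcn : c ∈ Subgroup.normalizer ((Subgroup.zpowers g : Subgroup P) : Set P) := by
    rw [Helper67.mem_normalizer_zpowers_iff, hc]
    exact inv_mem (Subgroup.mem_zpowers g)
  have h1 := hirr g hcn
  rw [Subgroup.mem_centralizer_iff] at h1
  have h2 : g * c = c * g := h1 g rfl
  have h3 : c * g * c⁻¹ = g := by rw [← h2]; simp
  rw [h3] at hc
  rw [pow_two]
  calc g * g = g * g⁻¹ := by rw [← hc]
    _ = 1 := mul_inv_cancel g

theorem card_frattini_quotient_le {P : Type*} [Group P] [Finite P] (hP : IsPGroup 2 P) :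
    Nat.card (P ⧸ frattini P) ≤
      Nat.card {χ : Cfsg.IrrCharacter P // ∀ g : P, ((χ : P → ℂ) g).im = 0} := by
  have hsq : ∀ q : P ⧸ frattini P, q * q = 1 := by
    intro q
    obtain ⟨g, rfl⟩ := QuotientGroup.mk_surjective q
    rw [← QuotientGroup.mk_mul, QuotientGroup.eq_one_iff, ← pow_two]
    haveI : Fact (Nat.Prime 2) := ⟨Nat.prime_two⟩
    exact Helper63.pow_prime_mem_frattini hP g
  letI : CommGroup (P ⧸ frattini P) :=
    { (inferInstance : Group (P ⧸ frattini P)) with
      mul_comm := fun a b => by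
        have ha : a⁻¹ = a := inv_eq_of_mul_eq_one_right (hsq a)
        have hb : b⁻¹ = b := inv_eq_of_mul_eq_one_right (hsq b)
        have hab : (a * b)⁻¹ = a * b := inv_eq_of_mul_eq_one_right (hsq (a * b))
        rw [← hab, mul_inv_rev, ha, hb] }
  have : NeZero (Monoid.exponent (P ⧸ frattini P)) := ⟨Monoid.exponent_ne_zero_of_finite⟩
  have hcard := CommGroup.card_monoidHom_of_hasEnoughRootsOfUnity (P ⧸ frattini P) ℂ
  rw [← hcard]
  have : Finite (IrrCharacter P) := Helper79.irr_finite'
  let l : ((P ⧸ frattini P) →* ℂˣ) → (P →* ℂ) := fun φ =>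
    (Units.coeHom ℂ).comp (φ.comp (QuotientGroup.mk' (frattini P)))
  have hl : ∀ φ g, l φ g = ((φ (g : P ⧸ frattini P) : ℂˣ) : ℂ) := fun φ g => rfl
  have hreal : ∀ φ : (P ⧸ frattini P) →* ℂˣ, ∀ g : P, ((l φ) g).im = 0 := by
    intro φ g
    rw [hl]
    have h1 : (φ (g : P ⧸ frattini P)) * (φ (g : P ⧸ frattini P)) = 1 := by
      rw [← map_mul, hsq, map_one]
    have h2 : ((φ (g : P ⧸ frattini P) : ℂˣ) : ℂ) * ((φ (g : P ⧸ frattini P) : ℂˣ) : ℂ) = 1 := by
      rw [← Units.val_mul, h1, Units.val_one]
    rcases mul_self_eq_one_iff.1 h2 with h | h <;> rw [h] <;> simp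
  apply Nat.card_le_card_of_injective
    (fun φ => (⟨⟨l φ, Helper79.isIrrCharacter_of_monoidHom (l φ)⟩, hreal φ⟩ :
      {χ : Cfsg.IrrCharacter P // ∀ g : P, ((χ : P → ℂ) g).im = 0}))
  intro φ ψ hφψ
  have h1 : ∀ g : P, l φ g = l ψ g := by
    intro g
    have := congrArg (fun χ : {χ : Cfsg.IrrCharacter P // ∀ g : P, ((χ : P → ℂ) g).im = 0} =>
      (χ.1 : P → ℂ) g) hφψ
    exact this
  ext g
  have := h1 g
  rw [hl, hl] at this
  exact this

theorem card_real_classes_le {P : Type*} [Group P] [Finite P]
    (hirr : ∀ y : P, Subgroup.normalizer ((Subgroup.zpowers y : Subgroup P) : Set P) ≤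
      Subgroup.centralizer {y}) :
    Nat.card {C : ConjClasses P // ∀ g : P, ConjClasses.mk g = C → IsConj g g⁻¹} ≤
      Nat.card (Option {c : ConjClasses P // ∃ y : P, ConjClasses.mk y = c ∧ orderOf y = 2}) := by
  classical
  have key : ∀ C : {C : ConjClasses P // ∀ g : P, ConjClasses.mk g = C → IsConj g g⁻¹},
      C.1 ≠ ConjClasses.mk 1 → ∃ y : P, ConjClasses.mk y = C.1 ∧ orderOf y = 2 := by
    intro C hC
    obtain ⟨g, hg⟩ := ConjClasses.exists_rep C.1
    refine ⟨g, hg, ?_⟩
    have h1 : g ^ 2 = 1 := sq_eq_one_of_isConj_inv hirr g (C.2 g hg)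
    have h2 : g ≠ 1 := by
      rintro rfl
      exact hC hg.symm
    exact orderOf_eq_prime h1 h2
  apply Nat.card_le_card_of_injective
    (fun C => if h : C.1 = ConjClasses.mk 1 then none else some ⟨C.1, key C h⟩)
  intro C D hCD
  by_cases hC : C.1 = ConjClasses.mk 1
  · by_cases hD : D.1 = ConjClasses.mk 1
    · exact Subtype.ext (hC.trans hD.symm)
    · simp only [dif_pos hC, dif_neg hD] at hCD
      exact absurd hCD (by simp)
  · by_cases hD : D.1 = ConjClasses.mk 1
    · simp only [dif_neg hC, dif_pos hD] at hCD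
      exact absurd hCD (by simp)
    · simp only [dif_neg hC, dif_neg hD, Option.some.injEq, Subtype.mk.injEq] at hCD
      exact Subtype.ext hCD

theorem card_option_le_closure {P : Type*} [Group P] [Finite P] :
    Nat.card (Option {c : ConjClasses P // ∃ y : P, ConjClasses.mk y = c ∧ orderOf y = 2}) ≤
      Nat.card (Subgroup.closure {y : P | orderOf y = 2}) := by
  classical
  apply Nat.card_le_card_of_injective
    (fun o : Option {c : ConjClasses P // ∃ y : P, ConjClasses.mk y = c ∧ orderOf y = 2} =>
      match o with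
      | none => (1 : Subgroup.closure {y : P | orderOf y = 2})
      | some c => ⟨c.2.choose, Subgroup.subset_closure c.2.choose_spec.2⟩)
  intro a b hab
  cases a with
  | none =>
    cases b with
    | none => rfl
    | some d =>
      exfalso
      have h1 : (1 : P) = d.2.choose := congrArg Subtype.val hab
      have h2 := d.2.choose_spec.2
      rw [← h1, orderOf_one] at h2
      omega
  | some c =>
    cases b with
    | none =>
      exfalso
      have h1 : c.2.choose = (1 : P) := congrArg Subtype.val hab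
      have h2 := c.2.choose_spec.2
      rw [h1, orderOf_one] at h2
      omega
    | some d =>
      have h1 : c.2.choose = d.2.choose := congrArg Subtype.val hab
      have h2 := c.2.choose_spec.1
      have h3 := d.2.choose_spec.1
      rw [h1, h3] at h2
      exact congrArg some (Subtype.ext h2.symm)

/-- Let P be a finite 2-group in which N_P(⟨y⟩) = C_P(y) for every y ∈ P. If s is the number of conjugacy classes of involutions of P, then #(P/Φ(P)) ≤ s + 1; in particular the subgroup generated by the involutions of P has order at least #(P/Φ(P)). -/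
theorem result {P : Type*} [Group P] [Finite P] (hP : IsPGroup 2 P)
    (hirr : ∀ y : P, Subgroup.normalizer ((Subgroup.zpowers y : Subgroup P) : Set P) ≤ Subgroup.centralizer {y}) :
    Nat.card (P ⧸ frattini P) ≤ Nat.card {c : ConjClasses P // ∃ y : P, ConjClasses.mk y = c ∧ orderOf y = 2} + 1 ∧
    Nat.card (P ⧸ frattini P) ≤ Nat.card (Subgroup.closure {y : P | orderOf y = 2}) := by
  have h1 := card_frattini_quotient_le hP
  rw [S0160.result] at h1
  have h2 := card_real_classes_le hirr
  have h3 := card_option_le_closure (P := P)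
  have h4 : Nat.card (Option {c : ConjClasses P // ∃ y : P, ConjClasses.mk y = c ∧ orderOf y = 2}) =
      Nat.card {c : ConjClasses P // ∃ y : P, ConjClasses.mk y = c ∧ orderOf y = 2} + 1 :=
    Finite.card_option
  constructor
  · omega
  · omega

end Cfsg.Agent.S4029
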