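import Cfsg.Statements.S4032
import Cfsg.Agent.Helper67.Cyclic

set_option autoImplicit false
open Cfsg

namespace Cfsg.Agent.S4032

open Cfsg.Agent.Helper67

/-- If `N` is normal, then `|X ⊔ N : X|` divides `|N|`. -/
theorem relIndex_sup_dvd_card {G : Type*} [Group G] [Finite G] (X N : Subgroup G) [N.Normal] :
    X.relIndex (X ⊔ N) ∣ Nat.card N := by
  have e1 : Nat.card X * X.relIndex (X ⊔ N) = Nat.card (X ⊔ N : Subgroup G) := by
    have := (X.subgroupOf (X ⊔ N)).card_mul_index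
    rwa [Nat.card_congr (Subgroup.subgroupOfEquivOfLe (le_sup_left : X ≤ X ⊔ N)).toEquiv] at this
  have e2 : Nat.card N * N.relIndex (X ⊔ N) = Nat.card (X ⊔ N : Subgroup G) := by
    have := (N.subgroupOf (X ⊔ N)).card_mul_index
    rwa [Nat.card_congr (Subgroup.subgroupOfEquivOfLe (le_sup_right : N ≤ X ⊔ N)).toEquiv] at this
  have e3 : N.relIndex (X ⊔ N) = N.relIndex X := Subgroup.relIndex_sup_right X N
  obtain ⟨d, hd⟩ : N.relIndex X ∣ Nat.card X := Subgroup.relIndex_dvd_card N X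
  have hne : N.relIndex X ≠ 0 := by
    intro h0
    rw [h0, zero_mul] at hd
    exact Nat.card_pos.ne' hd
  refine ⟨d, ?_⟩
  have : N.relIndex X * (d * X.relIndex (X ⊔ N)) = N.relIndex X * Nat.card N := by
    rw [← mul_assoc, ← hd, e1, ← e2, e3, mul_comm]
  have := Nat.eq_of_mul_eq_mul_left (Nat.pos_of_ne_zero hne) this
  rw [← this, mul_comm]

/-- The prime power case. -/
theorem core {G : Type*} [Group G] [Finite G] (N : Subgroup G) [N.Normal] {p : ℕ} [Fact p.Prime]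
    (hpN : ¬ p ∣ Nat.card N) (x h : G) {a : ℕ} (hx : x ^ (p ^ a) = 1)
    (hirr : Subgroup.normalizer ((Subgroup.zpowers x : Subgroup G) : Set G) ≤ Subgroup.centralizer {x})
    (hh : (h : G ⧸ N) * (x : G ⧸ N) * (h : G ⧸ N)⁻¹ ∈ Subgroup.zpowers (x : G ⧸ N)) :
    Commute (h : G ⧸ N) (x : G ⧸ N) := by
  have hp : p.Prime := Fact.out
  set X := Subgroup.zpowers x with hX
  set L := X ⊔ N with hL
  -- h x h⁻¹ ∈ L
  have hhx : h * x * h⁻¹ ∈ L := by
    obtain ⟨i, hi⟩ := Subgroup.mem_zpowers_iff.1 hh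
    have h1 : ((x ^ i : G) : G ⧸ N) = ((h * x * h⁻¹ : G) : G ⧸ N) := by
      simpa using hi
    have h2 : (x ^ i)⁻¹ * (h * x * h⁻¹) ∈ N := QuotientGroup.eq.1 h1
    have h3 : h * x * h⁻¹ = x ^ i * ((x ^ i)⁻¹ * (h * x * h⁻¹)) := by group
    rw [h3]
    exact L.mul_mem (le_sup_left (a := X) (Subgroup.zpow_mem_zpowers x i)) (le_sup_right (a := X) h2)
  -- X is a p-group
  have hXp : IsPGroup p X := by
    rintro ⟨g, hg⟩
    obtain ⟨i, rfl⟩ := Subgroup.mem_zpowers_iff.1 hg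
    refine ⟨a, Subtype.ext ?_⟩
    show (x ^ i) ^ (p ^ a) = 1
    rw [← zpow_natCast, ← zpow_mul, mul_comm, zpow_mul, zpow_natCast, hx, one_zpow]
  -- X₁ = X ∩ L as a subgroup of L is a Sylow p-subgroup of L
  have hX₁p : IsPGroup p (X.subgroupOf L) := hXp.comap_subtype
  have hX₁i : ¬ p ∣ (X.subgroupOf L).index := by
    intro hdvd
    exact hpN (hdvd.trans (relIndex_sup_dvd_card X N))
  let S : Sylow p L := hX₁p.toSylow hX₁i
  -- the conjugate ⟨h x h⁻¹⟩ inside L
  let x' : L := ⟨h * x * h⁻¹, hhx⟩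
  have hT : IsPGroup p (Subgroup.zpowers x') := by
    rintro ⟨g, hg⟩
    obtain ⟨i, rfl⟩ := Subgroup.mem_zpowers_iff.1 hg
    refine ⟨a, Subtype.ext (Subtype.ext ?_)⟩
    show ((h * x * h⁻¹) ^ i) ^ (p ^ a) = 1
    rw [← zpow_natCast, ← zpow_mul, mul_comm, zpow_mul, zpow_natCast, conj_pow, hx]
    simp
  obtain ⟨c, hc⟩ := exists_conj_mem_sylow S hT
  have hc' : c * x' * c⁻¹ ∈ X.subgroupOf L := hc x' (Subgroup.mem_zpowers x')
  rw [Subgroup.mem_subgroupOf] at hc'
  have hc'' : ((c : G) * h) * x * ((c : G) * h)⁻¹ ∈ X := by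
    have : ((c * x' * c⁻¹ : L) : G) = ((c : G) * h) * x * ((c : G) * h)⁻¹ := by
      show (c : G) * (h * x * h⁻¹) * (c : G)⁻¹ = _
      group
    rwa [this] at hc'
  have hnorm : (c : G) * h ∈ Subgroup.normalizer ((X : Subgroup G) : Set G) :=
    mem_normalizer_zpowers_iff.2 hc''
  have hcent := hirr hnorm
  rw [Subgroup.mem_centralizer_iff] at hcent
  have hcomm : x * ((c : G) * h) = ((c : G) * h) * x := hcent x rfl
  -- image of c lies in ⟨x̄⟩
  have hcL : ((c : G) : G ⧸ N) ∈ Subgroup.zpowers (x : G ⧸ N) := by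
    have h1 : ((c : G) : G ⧸ N) ∈ L.map (QuotientGroup.mk' N) := ⟨c, c.2, rfl⟩
    have h2 : L.map (QuotientGroup.mk' N) = Subgroup.zpowers (x : G ⧸ N) := by
      rw [hL, Subgroup.map_sup, hX, MonoidHom.map_zpowers, QuotientGroup.map_mk'_self,
        sup_bot_eq]
      rfl
    rw [h2] at h1
    exact h1
  obtain ⟨i, hi⟩ := Subgroup.mem_zpowers_iff.1 hcL
  have hc1 : Commute ((c : G) : G ⧸ N) (x : G ⧸ N) := by
    rw [← hi]; exact (Commute.refl _).zpow_left i
  have hc2 : Commute (((c : G) * h : G) : G ⧸ N) (x : G ⧸ N) := by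
    show (((c : G) * h : G) : G ⧸ N) * (x : G ⧸ N) = (x : G ⧸ N) * (((c : G) * h : G) : G ⧸ N)
    rw [← QuotientGroup.mk_mul, ← QuotientGroup.mk_mul, hcomm]
  have : (h : G ⧸ N) = ((c : G) : G ⧸ N)⁻¹ * (((c : G) * h : G) : G ⧸ N) := by
    rw [QuotientGroup.mk_mul, inv_mul_cancel_left]
  rw [this]
  exact hc1.inv_left.mul_left hc2

/-- The prime power case, with a lifted `p`-element. -/
theorem primePow {G : Type*} [Group G] [Finite G] (π : Set ℕ)
    (hirr : ∀ x : G, (∀ r : ℕ, r.Prime → r ∣ orderOf x → r ∈ π) →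
      Subgroup.normalizer ((Subgroup.zpowers x : Subgroup G) : Set G) ≤ Subgroup.centralizer {x})
    (N : Subgroup G) [N.Normal] (hN : ∀ r : ℕ, r.Prime → r ∣ Nat.card N → r ∉ π)
    (p k : ℕ) (hp : p.Prime) (hk : 0 < k) (hpπ : p ∈ π) (y : G ⧸ N) (hy : orderOf y = p ^ k)
    (hbar : G ⧸ N) (hh : hbar * y * hbar⁻¹ ∈ Subgroup.zpowers y) : Commute hbar y := by
  have : Fact p.Prime := ⟨hp⟩
  obtain ⟨g, rfl⟩ := QuotientGroup.mk_surjective y
  obtain ⟨h, rfl⟩ := QuotientGroup.mk_surjective hbar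
  obtain ⟨a, m, hm, ham⟩ := Nat.exists_eq_pow_mul_and_not_dvd (orderOf_pos g).ne' p hp.one_lt.ne'
  have hcop : Nat.Coprime m (p ^ a) :=
    (Nat.Coprime.pow_left a ((Nat.Prime.coprime_iff_not_dvd hp).2 hm)).symm
  have hdvd : p ^ k ∣ p ^ a := by
    have h1 : orderOf (g : G ⧸ N) ∣ orderOf g := orderOf_map_dvd (QuotientGroup.mk' N) g
    rw [hy, ham] at h1
    exact (Nat.Coprime.dvd_mul_right (Nat.Coprime.pow_left k
      ((Nat.Prime.coprime_iff_not_dvd hp).2 hm))).1 h1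
  have ha : 0 < a := by
    rcases Nat.eq_zero_or_pos a with rfl | ha
    · rw [pow_zero, Nat.dvd_one] at hdvd
      have : 1 < p ^ k := Nat.one_lt_pow hk.ne' hp.one_lt
      omega
    · exact ha
  have hpa : 1 < p ^ a := Nat.one_lt_pow ha.ne' hp.one_lt
  obtain ⟨m', -, hm'⟩ := Nat.exists_mul_mod_eq_one_of_coprime hcop hpa
  set c := m * m' with hc
  set x := g ^ c with hx
  have hx1 : x ^ (p ^ a) = 1 := by
    rw [hx, hc, ← pow_mul]
    have : m * m' * p ^ a = (p ^ a * m) * m' := by ring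
    rw [this, pow_mul, ← ham, pow_orderOf_eq_one, one_pow]
  have hy1 : (g : G ⧸ N) ^ (p ^ a) = 1 := by
    obtain ⟨d, hd⟩ := hdvd
    rw [hd, pow_mul, ← hy, pow_orderOf_eq_one, one_pow]
  have hxy : (x : G ⧸ N) = (g : G ⧸ N) := by
    rw [hx, QuotientGroup.mk_pow, ← Nat.div_add_mod c (p ^ a), hm', pow_add, pow_mul, hy1, one_pow,
      one_mul, pow_one]
  have hxπ : ∀ r : ℕ, r.Prime → r ∣ orderOf x → r ∈ π := by
    intro r hr hrx
    have h1 : orderOf x ∣ p ^ a := orderOf_dvd_of_pow_eq_one hx1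
    have : r = p := (Nat.prime_dvd_prime_iff_eq hr hp).1 (hr.dvd_of_dvd_pow (hrx.trans h1))
    rw [this]; exact hpπ
  have hpN : ¬ p ∣ Nat.card N := fun hd => hN p hp hd hpπ
  rw [← hxy] at hh ⊢
  exact core N hpN x h hx1 (hirr x hxπ) hh

/-- Let π be a set of primes and G a finite group in which N_G(⟨x⟩) = C_G(x) for every π-element x. If N is a normal subgroup of G whose order is divisible by no prime of π, then G/N has the same property: N_{G/N}(⟨y⟩) = C_{G/N}(y) for every π-element y of G/N. -/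
theorem result {G : Type*} [Group G] [Finite G] (π : Set ℕ)
    (hirr : ∀ x : G, (∀ r : ℕ, r.Prime → r ∣ orderOf x → r ∈ π) →
      Subgroup.normalizer ((Subgroup.zpowers x : Subgroup G) : Set G) ≤ Subgroup.centralizer {x})
    (N : Subgroup G) [N.Normal] (hN : ∀ r : ℕ, r.Prime → r ∣ Nat.card N → r ∉ π) :
    ∀ y : G ⧸ N, (∀ r : ℕ, r.Prime → r ∣ orderOf y → r ∈ π) →
      Subgroup.normalizer ((Subgroup.zpowers y : Subgroup (G ⧸ N)) : Set (G ⧸ N)) ≤ Subgroup.centralizer {y} := by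
  -- induction on the order of y
  have key : ∀ n : ℕ, ∀ y : G ⧸ N, orderOf y = n → (∀ r : ℕ, r.Prime → r ∣ n → r ∈ π) →
      ∀ hbar : G ⧸ N, hbar * y * hbar⁻¹ ∈ Subgroup.zpowers y → Commute hbar y := by
    intro n
    induction n using Nat.recOnPosPrimePosCoprime with
    | prime_pow p k hp hk =>
      intro y hy hπ hbar hh
      exact primePow π hirr N hN p k hp hk (hπ p hp (dvd_pow_self p hk.ne')) y hy hbar hh
    | zero =>
      intro y hy
      exact absurd hy (orderOf_pos y).ne'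
    | one =>
      intro y hy _ hbar _
      rw [orderOf_eq_one_iff.1 hy]
      exact Commute.one_right hbar
    | coprime a b ha hb hab iha ihb =>
      intro y hy hπ hbar hh
      obtain ⟨i, hi⟩ := Subgroup.mem_zpowers_iff.1 hh
      have hconj : ∀ j : ℕ, hbar * y ^ j * hbar⁻¹ ∈ Subgroup.zpowers (y ^ j) := by
        intro j
        refine Subgroup.mem_zpowers_iff.2 ⟨i, ?_⟩
        rw [← conj_pow, ← hi, ← zpow_natCast, ← zpow_natCast, ← zpow_mul, ← zpow_mul, mul_comm]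
      have hoa : orderOf (y ^ b) = a := by
        rw [orderOf_pow_of_dvd (by omega) (hy ▸ Dvd.intro_left a rfl), hy,
          Nat.mul_div_cancel _ (by omega)]
      have hob : orderOf (y ^ a) = b := by
        rw [orderOf_pow_of_dvd (by omega) (hy ▸ Dvd.intro b rfl), hy,
          Nat.mul_div_cancel_left _ (by omega)]
      have hca : Commute hbar (y ^ b) :=
        iha (y ^ b) hoa (fun r hr hra => hπ r hr (hra.mul_right b)) hbar (hconj b)
      have hcb : Commute hbar (y ^ a) :=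
        ihb (y ^ a) hob (fun r hr hrb => hπ r hr (hrb.mul_left a)) hbar (hconj a)
      have hbz := Nat.gcd_eq_gcd_ab a b
      rw [hab.gcd_eq_one] at hbz
      have : y = (y ^ a) ^ (Nat.gcdA a b) * (y ^ b) ^ (Nat.gcdB a b) := by
        rw [← zpow_natCast y a, ← zpow_natCast y b, ← zpow_mul, ← zpow_mul, ← zpow_add, ← hbz]
        simp
      rw [this]
      exact (hcb.zpow_right _).mul_right (hca.zpow_right _)
  intro y hy hbar hh
  have hcomm := key (orderOf y) y rfl hy hbar (mem_normalizer_zpowers_iff.1 hh)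
  rw [Subgroup.mem_centralizer_iff]
  intro z hz
  rw [Set.mem_singleton_iff] at hz
  subst hz
  exact hcomm.eq.symm

end Cfsg.Agent.S4032
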