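import Cfsg.Statements.S4034
import Cfsg.Agent.Lib.Hall
import Cfsg.Agent.Lib.Cores
import Cfsg.Agent.S0044
import Cfsg.Agent.S0143

set_option autoImplicit false
open Cfsg

namespace Cfsg.Agent.S4034

open Pointwise

universe u

/-- If `K` is normal then `[K : H ∩ K]` divides `[G : H]`. -/
theorem relIndex_dvd_index_of_normal_right {G : Type*} [Group G] [Finite G] (H K : Subgroup G)
    [K.Normal] : H.relIndex K ∣ H.index := by
  have h1 : (H ⊓ K).relIndex K * K.index = (H ⊓ K).index := Subgroup.relIndex_mul_index inf_le_right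
  have h2 : (H ⊓ K).relIndex H * H.index = (H ⊓ K).index := Subgroup.relIndex_mul_index inf_le_left
  rw [Subgroup.inf_relIndex_right] at h1
  rw [Subgroup.inf_relIndex_left] at h2
  obtain ⟨m, hm⟩ : K.relIndex H ∣ K.index := Subgroup.relIndex_dvd_index_of_normal K H
  have hne : K.relIndex H ≠ 0 := (Subgroup.index_ne_zero_of_finite : (K.subgroupOf H).index ≠ 0)
  refine ⟨m, ?_⟩
  have h3 : K.relIndex H * (H.relIndex K * m) = K.relIndex H * H.index := by
    rw [h2, ← h1, hm]; ring
  exact (Nat.eq_of_mul_eq_mul_left (Nat.pos_of_ne_zero hne) h3).symm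

/-- Size of a conjugacy class as the index of a centralizer. -/
theorem ncard_carrier_eq_index {G : Type*} [Group G] (x : G) :
    (ConjClasses.mk x).carrier.ncard = (Subgroup.centralizer ({x} : Set G)).index := by
  rw [← ConjAct.orbit_eq_carrier_conjClasses, ← MulAction.index_stabilizer]
  have h : MulAction.stabilizer (ConjAct G) x =
      (Subgroup.centralizer ({x} : Set G)).comap (ConjAct.ofConjAct (G := G)).toMonoidHom := by
    ext g
    simp only [MulAction.mem_stabilizer_iff, Subgroup.mem_comap, Subgroup.mem_centralizer_iff,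
      Set.mem_singleton_iff, forall_eq, ConjAct.smul_def, MulEquiv.coe_toMonoidHom]
    constructor
    · intro h
      rw [mul_inv_eq_iff_eq_mul] at h
      exact h.symm
    · intro h
      rw [mul_inv_eq_iff_eq_mul]
      exact h.symm
  rw [h, Subgroup.index_comap_of_surjective _ (ConjAct.ofConjAct (G := G)).surjective]

/-- The hypothesis on `p`-regular classes, in centralizer form. -/
def PReg (p : ℕ) (G : Type*) [Group G] : Prop :=
  ∀ x : G, (orderOf x).Coprime p → ∃ k : ℕ, (Subgroup.centralizer ({x} : Set G)).index = p ^ k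

/-- Existence of an abelian `p`-complement. -/
def HasAbComp (p : ℕ) (G : Type*) [Group G] : Prop :=
  ∃ H : Subgroup G, IsMulCommutative H ∧ ¬ p ∣ Nat.card H ∧ ∃ k : ℕ, H.index = p ^ k

theorem centralizer_subgroupOf {G : Type*} [Group G] (N : Subgroup G) (x : N) :
    Subgroup.centralizer ({x} : Set N) = (Subgroup.centralizer ({(x : G)} : Set G)).subgroupOf N := by
  ext z
  simp only [Subgroup.mem_centralizer_iff, Set.mem_singleton_iff, forall_eq, Subgroup.mem_subgroupOf]
  constructor
  · intro h
    have := congrArg Subtype.val h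
    simpa using this
  · intro h
    apply Subtype.ext
    simpa using h

theorem PReg.subgroup {p : ℕ} (hp : p.Prime) {G : Type*} [Group G] [Finite G] (h : PReg p G)
    (N : Subgroup G) [N.Normal] : PReg p N := by
  intro x hx
  rw [← Subgroup.orderOf_coe] at hx
  obtain ⟨k, hk⟩ := h (x : G) hx
  have h1 : (Subgroup.centralizer ({(x : G)} : Set G)).relIndex N ∣ p ^ k := by
    rw [← hk]; exact relIndex_dvd_index_of_normal_right _ N
  obtain ⟨j, -, hj⟩ := (Nat.dvd_prime_pow hp).1 h1
  exact ⟨j, by rw [centralizer_subgroupOf]; exact hj⟩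

theorem exists_coprime_lift {p : ℕ} (hp : p.Prime) {G : Type*} [Group G] [Finite G]
    (N : Subgroup G) [N.Normal] (y : G ⧸ N) (hy : (orderOf y).Coprime p) :
    ∃ x : G, (orderOf x).Coprime p ∧ (QuotientGroup.mk x : G ⧸ N) = y := by
  obtain ⟨g, rfl⟩ := QuotientGroup.mk_surjective y
  have hg0 : orderOf g ≠ 0 := (orderOf_pos g).ne'
  set a := (orderOf g).factorization p with ha
  have hcop : (p ^ a).Coprime (orderOf (QuotientGroup.mk g : G ⧸ N)) :=
    (Nat.Coprime.pow_right a hy).symm
  obtain ⟨t, ht⟩ := exists_pow_eq_self_of_coprime hcop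
  refine ⟨(g ^ p ^ a) ^ t, ?_, ?_⟩
  · have h1 : orderOf ((g ^ p ^ a) ^ t) ∣ orderOf (g ^ p ^ a) := orderOf_pow_dvd t
    have h2 : orderOf (g ^ p ^ a) ∣ orderOf g / p ^ a := by
      apply orderOf_dvd_of_pow_eq_one
      rw [← pow_mul, Nat.mul_div_cancel' (Nat.ordProj_dvd _ _), pow_orderOf_eq_one]
    have h3 : (orderOf g / p ^ a).Coprime p := (Nat.coprime_ordCompl hp hg0).symm
    exact (h3.coprime_dvd_left h2).coprime_dvd_left h1
  · rw [QuotientGroup.mk_pow, QuotientGroup.mk_pow]
    exact ht

theorem PReg.quotient {p : ℕ} (hp : p.Prime) {G : Type*} [Group G] [Finite G] (h : PReg p G)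
    (N : Subgroup G) [N.Normal] : PReg p (G ⧸ N) := by
  intro y hy
  obtain ⟨x, hx, rfl⟩ := exists_coprime_lift hp N y hy
  obtain ⟨k, hk⟩ := h x hx
  have h1 : (Subgroup.centralizer ({x} : Set G)).map (QuotientGroup.mk' N) ≤
      Subgroup.centralizer ({(QuotientGroup.mk x : G ⧸ N)} : Set (G ⧸ N)) := by
    rintro _ ⟨z, hz, rfl⟩
    have hz : z ∈ Subgroup.centralizer ({x} : Set G) := hz
    rw [Subgroup.mem_centralizer_iff] at hz ⊢
    intro w hw
    rw [Set.mem_singleton_iff] at hw
    subst hw
    have := hz x rfl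
    show (QuotientGroup.mk x : G ⧸ N) * QuotientGroup.mk z = QuotientGroup.mk z * QuotientGroup.mk x
    rw [← QuotientGroup.mk_mul, ← QuotientGroup.mk_mul, this]
  have h2 : (Subgroup.centralizer ({(QuotientGroup.mk x : G ⧸ N)} : Set (G ⧸ N))).index ∣ p ^ k := by
    rw [← hk]
    exact (Subgroup.index_dvd_of_le h1).trans
      (Subgroup.index_map_dvd _ (QuotientGroup.mk'_surjective N))
  obtain ⟨j, -, hj⟩ := (Nat.dvd_prime_pow hp).1 h2
  exact ⟨j, hj⟩

theorem HasAbComp.subgroup {p : ℕ} (hp : p.Prime) {G : Type*} [Group G] [Finite G]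
    (h : HasAbComp p G) (N : Subgroup G) [N.Normal] : HasAbComp p N := by
  obtain ⟨H, hH, hpH, k, hk⟩ := h
  refine ⟨H.subgroupOf N, ⟨⟨?_⟩⟩, ?_, ?_⟩
  · rintro ⟨a, ha⟩ ⟨b, hb⟩
    apply Subtype.ext
    apply Subtype.ext
    have := hH.is_comm.comm ⟨(a : G), ha⟩ ⟨(b : G), hb⟩
    simpa using congrArg Subtype.val this
  · intro hdvd
    apply hpH
    have : Nat.card (H.subgroupOf N) ∣ Nat.card H := by
      rw [← Subgroup.card_map_of_injective (K := H.subgroupOf N) N.subtype_injective,
        Subgroup.subgroupOf_map_subtype]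
      exact Subgroup.card_dvd_of_le inf_le_left
    exact hdvd.trans this
  · have h1 : H.relIndex N ∣ p ^ k := by
      rw [← hk]; exact relIndex_dvd_index_of_normal_right _ N
    obtain ⟨j, -, hj⟩ := (Nat.dvd_prime_pow hp).1 h1
    exact ⟨j, hj⟩

theorem HasAbComp.quotient {p : ℕ} (hp : p.Prime) {G : Type*} [Group G] [Finite G]
    (h : HasAbComp p G) (N : Subgroup G) [N.Normal] : HasAbComp p (G ⧸ N) := by
  obtain ⟨H, hH, hpH, k, hk⟩ := h
  refine ⟨H.map (QuotientGroup.mk' N), ⟨⟨?_⟩⟩, ?_, ?_⟩
  · rintro ⟨_, a, ha, rfl⟩ ⟨_, b, hb, rfl⟩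
    apply Subtype.ext
    have := hH.is_comm.comm ⟨(a : G), ha⟩ ⟨(b : G), hb⟩
    have h2 : a * b = b * a := by simpa using congrArg Subtype.val this
    show (QuotientGroup.mk' N a) * (QuotientGroup.mk' N b) = (QuotientGroup.mk' N b) * (QuotientGroup.mk' N a)
    rw [← map_mul, ← map_mul, h2]
  · intro hdvd
    exact hpH (hdvd.trans (Subgroup.card_map_dvd _ _))
  · have h1 : (H.map (QuotientGroup.mk' N)).index ∣ p ^ k := by
      rw [← hk]; exact Subgroup.index_map_dvd _ (QuotientGroup.mk'_surjective N)
    obtain ⟨j, -, hj⟩ := (Nat.dvd_prime_pow hp).1 h1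
    exact ⟨j, hj⟩

/-- A finite simple group with a nontrivial element whose centralizer has prime power index is
solvable. -/
theorem isSolvable_of_simple_of_index {p k : ℕ} (hp : p.Prime) {G : Type*} [Group G] [Finite G]
    [IsSimpleGroup G] (g : G) (hg : g ≠ 1)
    (h : (Subgroup.centralizer ({g} : Set G)).index = p ^ k) : Group.IsSolvable G := by
  have hprime : (Nat.card G).Prime := Cfsg.Agent.S0143.result p k hp g hg h
  have : Fact (Nat.card G).Prime := ⟨hprime⟩
  have hc : IsCyclic G := isCyclic_of_prime_card rfl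
  let _ : CommGroup G := IsCyclic.commGroup
  exact Group.isSolvable_of_comm (fun a b => mul_comm a b)

/-- Induction step: a finite group with a proper nontrivial normal subgroup, such that the
subgroup and quotient are solvable, is solvable. -/
theorem isSolvable_of_normal {G : Type*} [Group G] (N : Subgroup G) [N.Normal]
    (h1 : Group.IsSolvable N) (h2 : Group.IsSolvable (G ⧸ N)) : Group.IsSolvable G := by
  have := h1
  have := h2
  refine Group.isSolvable_of_ker_le_range N.subtype (QuotientGroup.mk' N) ?_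
  rw [QuotientGroup.ker_mk', Subgroup.range_subtype]

/-- Generic induction: a property of finite groups inherited by normal subgroups and quotients,
and forcing solvability on simple groups, forces solvability. -/
theorem isSolvable_of_inherited (P : ∀ (G : Type u) [Group G], Prop)
    (hsub : ∀ (G : Type u) [Group G] [Finite G] (N : Subgroup G) [N.Normal], P G → P N)
    (hquot : ∀ (G : Type u) [Group G] [Finite G] (N : Subgroup G) [N.Normal], P G → P (G ⧸ N))
    (hsimple : ∀ (G : Type u) [Group G] [Finite G] [IsSimpleGroup G], P G → Group.IsSolvable G) :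
    ∀ (n : ℕ) (G : Type u) [Group G] [Finite G], Nat.card G = n → P G → Group.IsSolvable G := by
  intro n
  induction n using Nat.strong_induction_on with
  | _ n ih =>
  intro G _ _ hn hP
  by_cases hN : ∃ N : Subgroup G, N.Normal ∧ N ≠ ⊥ ∧ N ≠ ⊤
  · obtain ⟨N, hNn, hbot, htop⟩ := hN
    have := hNn
    have hlt1 : Nat.card N < n := by
      rw [← hn]
      have h1 : Nat.card N * N.index = Nat.card G := N.card_mul_index
      have h2 : N.index ≠ 1 := fun h => htop (Subgroup.index_eq_one.1 h)
      have h3 : N.index ≠ 0 := Subgroup.index_ne_zero_of_finite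
      have h4 : 0 < Nat.card N := Nat.card_pos
      nlinarith [Nat.lt_of_le_of_ne (Nat.one_le_iff_ne_zero.2 h3) (Ne.symm h2)]
    have hlt2 : Nat.card (G ⧸ N) < n := by
      rw [← hn]
      have h1 : Nat.card N * N.index = Nat.card G := N.card_mul_index
      have h2 : Nat.card N ≠ 1 := fun h => hbot (Subgroup.card_eq_one.1 h)
      have h4 : 0 < Nat.card N := Nat.card_pos
      have h3 : 0 < N.index := Nat.pos_of_ne_zero Subgroup.index_ne_zero_of_finite
      have : Nat.card (G ⧸ N) = N.index := rfl
      rw [this]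
      nlinarith [Nat.lt_of_le_of_ne h4 (Ne.symm h2)]
    exact isSolvable_of_normal N (ih _ hlt1 N rfl (hsub G N hP)) (ih _ hlt2 (G ⧸ N) rfl (hquot G N hP))
  · push Not at hN
    by_cases hsub1 : Subsingleton G
    · exact Group.isSolvable_of_comm (fun a b => Subsingleton.elim _ _)
    · rw [not_subsingleton_iff_nontrivial] at hsub1
      have : IsSimpleGroup G := by
        refine { exists_pair_ne := hsub1.exists_pair_ne, eq_bot_or_eq_top_of_normal := ?_ }
        intro N hNn
        by_contra hcon
        push Not at hcon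
        exact hcon.2 (hN N hNn hcon.1)
      exact hsimple G hP

/-- `PReg` forces solvability. -/
theorem PReg.isSolvable {p : ℕ} (hp : p.Prime) {G : Type u} [Group G] [Finite G] (h : PReg p G) :
    Group.IsSolvable G := by
  refine isSolvable_of_inherited (fun G _ => PReg p G) (fun G _ _ N _ h => h.subgroup hp N)
    (fun G _ _ N _ h => h.quotient hp N) ?_ _ G rfl h
  intro G _ _ _ hP
  by_cases hall : ∀ x : G, (orderOf x).Coprime p → x = 1
  · -- `G` is a `p`-group
    have : Fact p.Prime := ⟨hp⟩
    have hpg : IsPGroup p G := by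
      intro g
      refine ⟨(orderOf g).factorization p, ?_⟩
      have hg0 : orderOf g ≠ 0 := (orderOf_pos g).ne'
      apply hall
      have h2 : orderOf (g ^ p ^ (orderOf g).factorization p) ∣
          orderOf g / p ^ (orderOf g).factorization p := by
        apply orderOf_dvd_of_pow_eq_one
        rw [← pow_mul, Nat.mul_div_cancel' (Nat.ordProj_dvd _ _), pow_orderOf_eq_one]
      exact ((Nat.coprime_ordCompl hp hg0).symm).coprime_dvd_left h2
    have := hpg.isNilpotent
    infer_instance
  · push Not at hall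
    obtain ⟨x, hx, hx1⟩ := hall
    obtain ⟨k, hk⟩ := hP x hx
    exact isSolvable_of_simple_of_index hp x hx1 hk

/-- `HasAbComp` forces solvability. -/
theorem HasAbComp.isSolvable {p : ℕ} (hp : p.Prime) {G : Type u} [Group G] [Finite G]
    (h : HasAbComp p G) : Group.IsSolvable G := by
  refine isSolvable_of_inherited (fun G _ => HasAbComp p G) (fun G _ _ N _ h => h.subgroup hp N)
    (fun G _ _ N _ h => h.quotient hp N) ?_ _ G rfl h
  intro G _ _ _ hP
  obtain ⟨H, hH, hpH, k, hk⟩ := hP
  by_cases hbot : H = ⊥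
  · have : Fact p.Prime := ⟨hp⟩
    have hcard : Nat.card G = p ^ k := by
      rw [← hk, hbot, Subgroup.index_bot]
    have hpg : IsPGroup p G := IsPGroup.of_card hcard
    have := hpg.isNilpotent
    infer_instance
  · obtain ⟨x, hxH, hx1⟩ : ∃ x : G, x ∈ H ∧ x ≠ 1 := by
      obtain ⟨x, hx⟩ := (Subgroup.ne_bot_iff_exists_ne_one).1 hbot
      exact ⟨(x : G), x.2, fun h => hx (Subtype.ext h)⟩
    have hle : H ≤ Subgroup.centralizer ({x} : Set G) := by
      intro z hz
      rw [Subgroup.mem_centralizer_iff]
      intro w hw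
      rw [Set.mem_singleton_iff] at hw
      subst hw
      have := hH.is_comm.comm ⟨w, hxH⟩ ⟨z, hz⟩
      simpa using congrArg Subtype.val this
    have h1 : (Subgroup.centralizer ({x} : Set G)).index ∣ p ^ k := by
      rw [← hk]; exact Subgroup.index_dvd_of_le hle
    obtain ⟨j, -, hj⟩ := (Nat.dvd_prime_pow hp).1 h1
    exact isSolvable_of_simple_of_index hp x hx1 hj

open Cfsg.Agent.Lib in
/-- In a solvable group with `PReg`, all subgroups of order prime to `p` are commutative. -/
theorem comm_of_PReg {p : ℕ} (hp : p.Prime) : ∀ (n : ℕ) (G : Type u) [Group G] [Finite G],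
    Nat.card G = n → Group.IsSolvable G → PReg p G → ∀ H : Subgroup G, (Nat.card H).Coprime p →
    ∀ a ∈ H, ∀ b ∈ H, a * b = b * a := by
  intro n
  induction n using Nat.strong_induction_on with
  | _ n ih =>
  intro G _ _ hn hsol hP H hH a ha b hb
  have : Fact p.Prime := ⟨hp⟩
  by_cases hO : Cfsg.pCore p G = ⊥
  · -- `F(G)` has order prime to `p`
    set F := Cfsg.fittingSubgroup G with hF
    have hFn : F.Normal := fittingSubgroup_normal
    have hFcop : (Nat.card F).Coprime p := by
      have := relIndex_pCore_fittingSubgroup_coprime (G := G) p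
      rwa [hO, Subgroup.relIndex_bot_left] at this
    have key : ∀ c ∈ H, F ≤ Subgroup.centralizer ({c} : Set G) := by
      intro c hc
      have hc_ord : (orderOf c).Coprime p := by
        have h1 : orderOf c ∣ Nat.card H := by
          have := orderOf_dvd_natCard (⟨c, hc⟩ : H)
          rwa [← Subgroup.orderOf_coe] at this
        exact hH.coprime_dvd_left h1
      obtain ⟨k, hk⟩ := hP c hc_ord
      have h1 : (Subgroup.centralizer ({c} : Set G)).relIndex F ∣ p ^ k := by
        rw [← hk]; exact relIndex_dvd_index_of_normal_right _ F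
      have h2 : (Subgroup.centralizer ({c} : Set G)).relIndex F ∣ Nat.card F :=
        Subgroup.relIndex_dvd_card _ _
      have h3 : (Subgroup.centralizer ({c} : Set G)).relIndex F = 1 := by
        have h4 := ((hFcop.pow_right k).coprime_dvd_left h2).coprime_dvd_right h1
        exact (Nat.coprime_self _).1 h4
      exact Subgroup.relIndex_eq_one.1 h3
    have hmemF : ∀ c ∈ H, c ∈ F := by
      intro c hc
      have := hsol
      apply Cfsg.Agent.S0044.result (G := G)
      rw [Subgroup.mem_centralizer_iff]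
      intro f hf
      have h1 := key c hc hf
      rw [Subgroup.mem_centralizer_iff] at h1
      exact (h1 c rfl).symm
    have h1 := key a ha (hmemF b hb)
    rw [Subgroup.mem_centralizer_iff] at h1
    exact h1 a rfl
  · -- pass to the quotient by `O_p(G)`
    set O := Cfsg.pCore p G with hOdef
    have hOn : O.Normal := inferInstance
    have hlt : Nat.card (G ⧸ O) < n := by
      rw [← hn]
      have h1 : Nat.card O * O.index = Nat.card G := O.card_mul_index
      have h2 : Nat.card O ≠ 1 := fun h => hO (Subgroup.card_eq_one.1 h)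
      have h4 : 0 < Nat.card O := Nat.card_pos
      have h3 : 0 < O.index := Nat.pos_of_ne_zero Subgroup.index_ne_zero_of_finite
      have : Nat.card (G ⧸ O) = O.index := rfl
      rw [this]
      nlinarith [Nat.lt_of_le_of_ne h4 (Ne.symm h2)]
    have hsolq : Group.IsSolvable (G ⧸ O) := by
      have := hsol
      infer_instance
    have hPq := hP.quotient hp O
    have hcard : (Nat.card (H.map (QuotientGroup.mk' O))).Coprime p :=
      hH.coprime_dvd_left (Subgroup.card_map_dvd _ _)
    have hq := ih _ hlt (G ⧸ O) rfl hsolq hPq (H.map (QuotientGroup.mk' O)) hcard _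
      (Subgroup.mem_map_of_mem _ ha) _ (Subgroup.mem_map_of_mem _ hb)
    have h1 : (b * a)⁻¹ * (a * b) ∈ O := by
      rw [← QuotientGroup.eq]
      have : (QuotientGroup.mk' O) (b * a) = (QuotientGroup.mk' O) (a * b) := by
        rw [map_mul, map_mul]; exact hq.symm
      exact this
    have h2 : (b * a)⁻¹ * (a * b) ∈ H := H.mul_mem (H.inv_mem (H.mul_mem hb ha)) (H.mul_mem ha hb)
    have h3 : O ⊓ H = ⊥ := by
      apply Disjoint.eq_bot
      apply Subgroup.disjoint_of_coprime_natCard
      obtain ⟨m, hm⟩ := (isPGroup_pCore (G := G) p).exists_card_eq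
      rw [hm]
      exact (hH.symm).pow_left m
    have h4 : (b * a)⁻¹ * (a * b) ∈ O ⊓ H := ⟨h1, h2⟩
    rw [h3, Subgroup.mem_bot] at h4
    have := inv_mul_eq_one.1 h4
    exact this.symm

theorem index_conj_smul {G : Type*} [Group G] (g : G) (H : Subgroup G) :
    (MulAut.conj g • H).index = H.index :=
  Subgroup.index_map_equiv (H := H) (MulAut.conj g)

/-- Let G be a finite group and p a prime. Every conjugacy class of p-regular elements of G (elements of order prime to p) has p-power size if and only if G has an abelian p-complement, i.e. an abelian subgroup of order prime to p and p-power index. -/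
theorem result {G : Type*} [Group G] [Finite G] {p : ℕ} (hp : p.Prime) :
    (∀ x : G, (orderOf x).Coprime p → ∃ k : ℕ, (ConjClasses.mk x).carrier.ncard = p ^ k) ↔
    (∃ H : Subgroup G, IsMulCommutative H ∧ ¬ p ∣ Nat.card H ∧ ∃ k : ℕ, H.index = p ^ k) := by
  constructor
  · intro h
    have hP : PReg p G := fun x hx => by
      obtain ⟨k, hk⟩ := h x hx
      exact ⟨k, by rw [← ncard_carrier_eq_index]; exact hk⟩
    have hsol := hP.isSolvable hp
    have hG0 : Nat.card G ≠ 0 := Nat.card_pos.ne'
    obtain ⟨H, hH⟩ := Cfsg.Agent.Lib.hall_exists (G := G) (Nat.card G / p ^ (Nat.card G).factorization p)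
      (p ^ (Nat.card G).factorization p)
      (by rw [mul_comm]; exact (Nat.ordProj_mul_ordCompl_eq_self (Nat.card G) p).symm)
      ((Nat.coprime_ordCompl hp hG0).symm.pow_right _)
    have hcop : (Nat.card H).Coprime p := by
      rw [hH]; exact (Nat.coprime_ordCompl hp hG0).symm
    refine ⟨H, ⟨⟨?_⟩⟩, ?_, ?_⟩
    · rintro ⟨a, ha⟩ ⟨b, hb⟩
      apply Subtype.ext
      exact comm_of_PReg hp _ G rfl hsol hP H hcop a ha b hb
    · rw [hH]; exact Nat.not_dvd_ordCompl hp hG0
    · refine ⟨(Nat.card G).factorization p, ?_⟩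
      have h1 := H.card_mul_index
      rw [hH] at h1
      have h2 := Nat.ordProj_mul_ordCompl_eq_self (Nat.card G) p
      have h3 : 0 < Nat.card G / p ^ (Nat.card G).factorization p := Nat.ordCompl_pos p hG0
      have h4 : Nat.card G / p ^ (Nat.card G).factorization p * H.index =
          Nat.card G / p ^ (Nat.card G).factorization p * p ^ (Nat.card G).factorization p := by
        rw [h1, mul_comm]; exact h2.symm
      exact Nat.eq_of_mul_eq_mul_left h3 h4
  · rintro ⟨H, hH, hpH, k, hk⟩ x hx
    have hsol := HasAbComp.isSolvable hp ⟨H, hH, hpH, k, hk⟩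
    rw [ncard_carrier_eq_index]
    have hcard : Nat.card G = Nat.card H * p ^ k := by rw [← hk]; exact H.card_mul_index.symm
    have hcop : (Nat.card H).Coprime (p ^ k) :=
      Nat.Coprime.pow_right k ((Nat.Prime.coprime_iff_not_dvd hp).2 hpH).symm
    obtain ⟨g, hg⟩ := (Cfsg.Agent.Lib.hall_main _ G rfl (Nat.card H) (p ^ k) hcard hcop).2 H
      (Subgroup.zpowers x) rfl (by rw [Nat.card_zpowers]; exact hx.pow_right k)
    have hx' : x ∈ MulAut.conj g • H := hg (Subgroup.mem_zpowers x)
    have hle : MulAut.conj g • H ≤ Subgroup.centralizer ({x} : Set G) := by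
      intro z hz
      have hz' := Subgroup.mem_pointwise_smul_iff_inv_smul_mem.1 hz
      have hx'' := Subgroup.mem_pointwise_smul_iff_inv_smul_mem.1 hx'
      have hc := hH.is_comm.comm ⟨_, hx''⟩ ⟨_, hz'⟩
      have hc' : (MulAut.conj g)⁻¹ • x * (MulAut.conj g)⁻¹ • z =
          (MulAut.conj g)⁻¹ • z * (MulAut.conj g)⁻¹ • x := by
        simpa using congrArg Subtype.val hc
      rw [← smul_mul', ← smul_mul'] at hc'
      have hc'' := smul_left_cancel _ hc'
      rw [Subgroup.mem_centralizer_iff]
      intro w hw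
      rw [Set.mem_singleton_iff] at hw
      subst hw
      exact hc''
    have h1 : (Subgroup.centralizer ({x} : Set G)).index ∣ p ^ k := by
      rw [← hk, ← index_conj_smul g H]; exact Subgroup.index_dvd_of_le hle
    obtain ⟨j, -, hj⟩ := (Nat.dvd_prime_pow hp).1 h1
    exact ⟨j, hj⟩

end Cfsg.Agent.S4034
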