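import Cfsg.Statements.S4036
import Mathlib

set_option autoImplicit false
open Cfsg

namespace Cfsg.Agent.S4036

open scoped Classical in
/-- Main lemma, phrased for a subgroup `N` of `MulAut P` normalized by an element `x` of order `p`. -/
theorem key {P : Type*} [CommGroup P] [Finite P] {p : ℕ} [Fact p.Prime] (hP : IsPGroup p P)
    (N : Subgroup (MulAut P)) (hNp : ¬ p ∣ Nat.card N)
    (x : MulAut P) (hxo : orderOf x = p)
    (hxN : ∀ n ∈ N, x * n * x⁻¹ ∈ N)
    (hfix : ∀ n ∈ N, n ≠ 1 → ∀ v : P, x v = v ↔ n v = v) :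
    N = ⊥ := by
  have hp : p.Prime := Fact.out
  have : Fintype N := Fintype.ofFinite N
  -- the commutator subgroup D = [P, N]
  let D : Subgroup P := Subgroup.closure {w : P | ∃ n ∈ N, ∃ v : P, w = n v * v⁻¹}
  -- D is invariant under x
  have hDx : ∀ d ∈ D, x d ∈ D := by
    intro d hd
    induction hd using Subgroup.closure_induction with
    | mem w hw =>
      obtain ⟨n, hn, v, rfl⟩ := hw
      apply Subgroup.subset_closure
      refine ⟨x * n * x⁻¹, hxN n hn, x v, ?_⟩
      simp [MulAut.mul_apply]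
    | one => simp
    | mul a b _ _ ha hb => rw [map_mul]; exact D.mul_mem ha hb
    | inv a _ ha => rw [map_inv]; exact D.inv_mem ha
  -- the norm map
  let τ : P →* P :=
    { toFun := fun v => ∏ n : N, (n : MulAut P) v
      map_one' := by simp
      map_mul' := fun a b => by simp [Finset.prod_mul_distrib] }
  have hτ : ∀ v, τ v = ∏ n : N, (n : MulAut P) v := fun v => rfl
  have hτN : ∀ n ∈ N, ∀ v, τ (n v) = τ v := by
    intro n hn v
    rw [hτ, hτ]
    exact Fintype.prod_equiv (Equiv.mulRight (⟨n, hn⟩ : N)) _ _ (fun m => by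
      simp [MulAut.mul_apply])
  have hτD : ∀ d ∈ D, τ d = 1 := by
    intro d hd
    induction hd using Subgroup.closure_induction with
    | mem w hw =>
      obtain ⟨n, hn, v, rfl⟩ := hw
      rw [map_mul, map_inv, hτN n hn, mul_inv_cancel]
    | one => exact map_one τ
    | mul a b _ _ ha hb => rw [map_mul, ha, hb, one_mul]
    | inv a _ ha => rw [map_inv, ha, inv_one]
  -- an element of D fixed by N is trivial
  have hfixD : ∀ d ∈ D, (∀ n ∈ N, n d = d) → d = 1 := by
    intro d hd hfd
    have h1 : τ d = d ^ Nat.card N := by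
      rw [hτ, Nat.card_eq_fintype_card, ← Finset.card_univ, ← Finset.prod_const]
      exact Finset.prod_congr rfl (fun n _ => hfd n n.2)
    rw [hτD d hd] at h1
    obtain ⟨k, hk⟩ := hP d
    have hcop : Nat.Coprime (Nat.card N) (p ^ k) :=
      Nat.Coprime.pow_right k ((Nat.Prime.coprime_iff_not_dvd hp).2 hNp).symm
    have h2 : orderOf d ∣ Nat.card N := orderOf_dvd_of_pow_eq_one h1.symm
    have h3 : orderOf d ∣ p ^ k := orderOf_dvd_of_pow_eq_one hk
    have : orderOf d = 1 := Nat.eq_one_of_dvd_coprimes hcop h2 h3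
    exact orderOf_eq_one_iff.1 this
  -- the action of ⟨x⟩ on D
  let Z : Subgroup (MulAut P) := Subgroup.zpowers x
  have hZ : IsPGroup p Z := by
    apply IsPGroup.of_card (n := 1)
    rw [Nat.card_zpowers, hxo, pow_one]
  have hDZ : ∀ z : Z, ∀ d ∈ D, (z : MulAut P) d ∈ D := by
    rintro ⟨z, hz⟩ d hd
    obtain ⟨m, rfl⟩ := (Submonoid.mem_powers_iff _ _).1 (mem_powers_iff_mem_zpowers.2 hz)
    show (x ^ m) d ∈ D
    clear hz
    induction m generalizing d with
    | zero => simpa using hd
    | succ m ih => rw [pow_succ, MulAut.mul_apply]; exact ih _ (hDx d hd)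
  let Dsub : SubMulAction Z P :=
    { carrier := D
      smul_mem' := fun z d hd => hDZ z d hd }
  by_contra hN
  -- D is nontrivial
  obtain ⟨n₀, hn₀, hn₀1⟩ := (N.bot_or_exists_ne_one).resolve_left hN
  have hDne : D ≠ ⊥ := by
    intro hD
    apply hn₀1
    ext v
    have : n₀ v * v⁻¹ ∈ D := Subgroup.subset_closure ⟨n₀, hn₀, v, rfl⟩
    rw [hD, Subgroup.mem_bot, mul_inv_eq_one] at this
    simpa using this
  have hDcard : p ∣ Nat.card Dsub := by
    have hDp : IsPGroup p D := hP.to_subgroup D
    obtain ⟨k, hk⟩ := IsPGroup.iff_card.1 hDp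
    have hk0 : k ≠ 0 := by
      rintro rfl
      rw [pow_zero, Subgroup.card_eq_one] at hk
      exact hDne hk
    have : Nat.card Dsub = Nat.card D := rfl
    rw [this, hk]
    exact dvd_pow_self p hk0
  have hone : (⟨1, D.one_mem⟩ : Dsub) ∈ MulAction.fixedPoints Z Dsub := by
    intro z
    apply Subtype.ext
    show (z : MulAut P) 1 = 1
    exact map_one _
  obtain ⟨⟨d, hd⟩, hdfix, hdne⟩ :=
    hZ.exists_fixed_point_of_prime_dvd_card_of_fixed_point Dsub hDcard hone
  have hxd : x d = d := by
    have := hdfix ⟨x, Subgroup.mem_zpowers x⟩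
    exact congrArg Subtype.val this
  have hd1 : d = 1 := by
    apply hfixD d hd
    intro n hn
    by_cases hn1 : n = 1
    · subst hn1; rfl
    · exact (hfix n hn hn1 d).1 hxd
  exact hdne (Subtype.ext hd1.symm)

/-- Let P be a finite abelian p-group and K a group of automorphisms of P (a subgroup of Aut P) whose order is divisible by p. If all non-identity elements of K have the same fixed-point subgroup on P, then K has no non-trivial normal subgroup of order prime to p. -/
theorem result {P : Type*} [CommGroup P] [Finite P] {p : ℕ}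
    [Fact p.Prime] (hP : IsPGroup p P) (K : Subgroup (MulAut P)) (hK : p ∣ Nat.card K)
    (hfix : ∀ x y : MulAut P, x ∈ K → y ∈ K → x ≠ 1 → y ≠ 1 → ∀ v : P, x v = v ↔ y v = v) :
    ∀ N : Subgroup ↥K, N.Normal → ¬ p ∣ Nat.card N → N = ⊥ := by
  intro N hNn hNp
  have hp : p.Prime := Fact.out
  obtain ⟨x, hx⟩ := exists_prime_orderOf_dvd_card' (G := K) p hK
  have hx1 : (x : MulAut P) ≠ 1 := by
    intro h
    have : x = 1 := Subtype.ext h
    rw [this, orderOf_one] at hx
    exact hp.one_lt.ne hx
  have hxo : orderOf (x : MulAut P) = p := by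
    rw [← hx]; exact Subgroup.orderOf_coe x
  have hinj : Function.Injective K.subtype := K.subtype_injective
  have hcard : Nat.card (N.map K.subtype) = Nat.card N :=
    Nat.card_congr (N.equivMapOfInjective K.subtype hinj).symm.toEquiv
  have hbot : N.map K.subtype = ⊥ := by
    apply key hP (N.map K.subtype) (by rw [hcard]; exact hNp) (x : MulAut P) hxo
    · rintro _ ⟨n, hn, rfl⟩
      exact ⟨x * n * x⁻¹, hNn.conj_mem n hn x, by simp⟩
    · rintro _ ⟨n, hn, rfl⟩ hn1 v
      exact hfix x (K.subtype n) x.2 n.2 hx1 hn1 v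
  exact (Subgroup.map_eq_bot_iff_of_injective N hinj).1 hbot

end Cfsg.Agent.S4036
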