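import Cfsg.Statements.S4039
import Cfsg.Agent.Helper91.NilpMax3

set_option autoImplicit false
open Cfsg

namespace Cfsg.Agent.S4039

open scoped commutatorElement in
/-- A finite group possessing a maximal subgroup that is nilpotent of class at most 2 is solvable. -/
theorem result {G : Type*} [Group G] [Finite G]
    (M : Subgroup G) (hmax : IsCoatom M) (hnil : Group.IsNilpotent M) (hcl : Group.nilpotencyClass ↥M ≤ 2) :
    Group.IsSolvable G := by
  have hlcs : (⊤ : Subgroup ↥M).lowerCentralSeries 2 = ⊥ :=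
    Subgroup.lowerCentralSeries_eq_bot_iff_nilpotencyClass_le.2 hcl
  have hH : ∀ a ∈ M, ∀ b ∈ M, ∀ c ∈ M, ⁅⁅a, b⁆, c⁆ = 1 := by
    intro a ha b hb c hc
    let a' : ↥M := ⟨a, ha⟩
    let b' : ↥M := ⟨b, hb⟩
    let c' : ↥M := ⟨c, hc⟩
    have h1 : ⁅⁅a', b'⁆, c'⁆ ∈ (⊤ : Subgroup ↥M).lowerCentralSeries 2 := by
      rw [Subgroup.lowerCentralSeries_succ, Subgroup.lowerCentralSeries_succ,
        Subgroup.lowerCentralSeries_zero]
      exact Subgroup.commutator_mem_commutator
        (Subgroup.commutator_mem_commutator (Subgroup.mem_top _) (Subgroup.mem_top _))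
        (Subgroup.mem_top _)
    rw [hlcs, Subgroup.mem_bot] at h1
    have := congrArg Subtype.val h1
    simpa [commutatorElement_def, a', b', c'] using this
  refine Cfsg.Agent.Helper91.isSolvable_of_nilpotent_coatom_induction
    (fun X _ M => ∀ a ∈ M, ∀ b ∈ M, ∀ c ∈ M, ⁅⁅a, b⁆, c⁆ = 1) ?_ ?_ _ G M rfl hmax hnil hH
  · intro X _ _ M C _ _ h
    rintro _ ⟨a, ha, rfl⟩ _ ⟨b, hb, rfl⟩ _ ⟨c, hc, rfl⟩
    rw [← map_commutatorElement, ← map_commutatorElement, h a ha b hb c hc, map_one]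
  · intro X _ _ M hmax hnil hcore h
    exact Cfsg.Agent.Helper91.isSolvable_of_nilpotent_coatom_of_pcomplements hmax hnil
      (fun p hp hpM => Cfsg.Agent.Helper91.exists_pcomplement_of_class_two hmax hnil hcore h p hp hpM)

end Cfsg.Agent.S4039
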