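import Cfsg.Statements.S4040
import Cfsg.Agent.Helper67.NilpMax
import Cfsg.Agent.Lib.ZJ8
import Cfsg.Agent.Helper34.PNil
import Cfsg.Agent.S0581
import Cfsg.Agent.S0659

set_option autoImplicit false
open Cfsg

namespace Cfsg.Agent.S4040

open Cfsg.Agent.Helper67

universe u

/-- The Glauberman–Thompson normal `p`-complement theorem, as a hypothesis. -/
def GT : Prop := ∀ (G : Type u) [Group G] [Finite G] (p : ℕ) [Fact p.Prime], p ≠ 2 →
  ∀ P : Sylow p G,
    Cfsg.HasNormalPComplement p
      ↥(Subgroup.normalizer (Cfsg.centerThompsonAOf (P : Subgroup G) : Set G)) →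
    Cfsg.HasNormalPComplement p G

theorem exists_normal_pcompl (hGT : GT.{u}) {G : Type u} [Group G] [Finite G] (M : Subgroup G)
    (hmax : IsCoatom M) (hnil : Group.IsNilpotent M) (hodd : Odd (Nat.card M))
    (hcore : M.normalCore = ⊥) (p : ℕ) [Fact p.Prime] (hp : p ∣ Nat.card M) :
    ∃ (P : Sylow p G) (X : Subgroup G), (P : Subgroup G) ≤ M ∧ X.Normal ∧
      (Nat.card X).Coprime p ∧ ∃ k, X.index = p ^ k := by
  have hpp : p.Prime := Fact.out
  obtain ⟨P, hPM, hPne, hNP, hnorm⟩ := NilpMax.exists_sylow_le M hmax hnil hcore p hp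
  have hp2 : p ≠ 2 := by
    rintro rfl
    exact (Nat.not_even_iff_odd.2 hodd) (even_iff_two_dvd.2 hp)
  have hZne := Lib.ZJ.centerThompsonAOf_ne_bot P.isPGroup' hPne
  have hZle : Cfsg.centerThompsonAOf (P : Subgroup G) ≤ P := Lib.ZJ.centerThompsonAOf_le _
  have hMZ : M ≤ Subgroup.normalizer (Cfsg.centerThompsonAOf (P : Subgroup G) : Set G) := by
    rw [← hNP]
    exact Lib.ZJ.normalizer_le_normalizer_centerThompsonAOf _
  have hNZ := hnorm _ hZle hZne hMZ
  have hM : Cfsg.HasNormalPComplement p M := by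
    rw [← Helper34.pnil_iff]
    obtain ⟨T, hTn, hTc, k, hk⟩ := S0581.exists_normal_compl (M := M) p
    exact ⟨T, hTn, Nat.Coprime.symm ((Nat.Prime.coprime_iff_not_dvd hpp).2 hTc), k, hk⟩
  have hN : Cfsg.HasNormalPComplement p
      ↥(Subgroup.normalizer (Cfsg.centerThompsonAOf (P : Subgroup G) : Set G)) := by
    rw [hNZ]
    exact hM
  have hG := hGT G p hp2 P hN
  rw [← Helper34.pnil_iff] at hG
  obtain ⟨X, hXn, hXc, k, hk⟩ := hG
  exact ⟨P, X, hPM, hXn, hXc, k, hk⟩

theorem main (hGT : GT.{u}) {G : Type u} [Group G] [Finite G] (M : Subgroup G) (hmax : IsCoatom M)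
    (hnil : Group.IsNilpotent M) (hodd : Odd (Nat.card M)) : Group.IsSolvable G := by
  refine NilpMax.induction_scheme (fun G _ M => Odd (Nat.card M)) ?_ ?_ (Nat.card G) G rfl M hmax
    hnil hodd
  · intro G _ _ M N _ hNM hnil hodd
    exact Odd.of_dvd_nat hodd (Subgroup.card_dvd_of_surjective
      ((QuotientGroup.mk' N).subgroupMap M) ((QuotientGroup.mk' N).subgroupMap_surjective M))
  · intro G _ _ M hmax hnil hodd hcore
    apply NilpMax.solvable_of_pcompl_data M hmax hnil
    intro p hp hpM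
    have : Fact p.Prime := ⟨hp⟩
    exact exists_normal_pcompl hGT M hmax hnil hodd hcore p hpM

/-- A finite group possessing a nilpotent maximal subgroup of odd order is solvable. -/
theorem result {G : Type*} [Group G] [Finite G]
    (M : Subgroup G) (hmax : IsCoatom M) (hnil : Group.IsNilpotent M) (hodd : Odd (Nat.card M)) :
    Group.IsSolvable G :=
  main (fun _ _ _ _ _ hp P h => S0659.result hp P h) M hmax hnil hodd

end Cfsg.Agent.S4040
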