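import Cfsg.Statements.S4043
import Cfsg.Agent.Helper1.SZ
import Cfsg.Agent.Helper67.PFixed

set_option autoImplicit false
open Cfsg

namespace Cfsg.Agent.S4043

open scoped Pointwise
open Cfsg.Agent.Helper1

/-- Ambient form of the data of a normal `p`-complement of a subgroup `A`. -/
theorem ambient_data {G : Type*} [Group G] [Finite G] {p : ℕ} [Fact p.Prime] (A : Subgroup G)
    (h : Cfsg.HasNormalPComplement p A) :
    ∃ K S : Subgroup G, K ≤ A ∧ S ≤ A ∧ IsPGroup p S ∧ (Nat.card K).Coprime p ∧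
      (∀ a ∈ A, ∀ k ∈ K, a * k * a⁻¹ ∈ K) ∧ (∀ a ∈ A, ∃ k ∈ K, ∃ s ∈ S, a = k * s) ∧
      (∀ a ∈ A, (orderOf a).Coprime p → a ∈ K) := by
  have hp : p.Prime := Fact.out
  obtain ⟨P, K, hKn, hKP⟩ := h
  have hcardK : Nat.card K = (P : Subgroup A).index := hKP.index_eq_card.symm
  have hKcop : (Nat.card K).Coprime p := by
    rw [hcardK]
    exact ((Nat.Prime.coprime_iff_not_dvd hp).2 P.not_dvd_index).symm
  refine ⟨K.map A.subtype, (P : Subgroup A).map A.subtype, ?_, ?_, ?_, ?_, ?_, ?_, ?_⟩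
  · rintro _ ⟨k, -, rfl⟩; exact k.2
  · rintro _ ⟨k, -, rfl⟩; exact k.2
  · exact P.isPGroup'.map _
  · rw [Nat.card_congr (K.equivMapOfInjective A.subtype A.subtype_injective).symm.toEquiv]
    exact hKcop
  · rintro a ha _ ⟨k, hk, rfl⟩
    exact ⟨⟨a, ha⟩ * k * ⟨a, ha⟩⁻¹, hKn.conj_mem k hk ⟨a, ha⟩, rfl⟩
  · intro a ha
    obtain ⟨⟨⟨k, hk⟩, ⟨s, hs⟩⟩, hks⟩ := hKP.2 ⟨a, ha⟩
    simp only at hks
    refine ⟨k, ⟨k, hk, rfl⟩, s, ⟨s, hs, rfl⟩, ?_⟩
    have := congrArg Subtype.val hks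
    simpa using this.symm
  · intro a ha hcop
    refine ⟨⟨a, ha⟩, ?_, rfl⟩
    -- the image of a in A ⧸ K is trivial
    have hidx : K.index = Nat.card (P : Subgroup A) := by
      have := hKP.symm.index_eq_card
      exact this
    obtain ⟨j, hj⟩ := IsPGroup.iff_card.1 P.isPGroup'
    have h1 : orderOf ((⟨a, ha⟩ : A) : A ⧸ K) ∣ p ^ j := by
      rw [← hj, ← hidx, Subgroup.index_eq_card]
      exact orderOf_dvd_natCard _
    have h2 : orderOf ((⟨a, ha⟩ : A) : A ⧸ K) ∣ orderOf a := by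
      have := orderOf_map_dvd (QuotientGroup.mk' K) (⟨a, ha⟩ : A)
      rwa [Subgroup.orderOf_mk] at this
    have h3 : orderOf ((⟨a, ha⟩ : A) : A ⧸ K) = 1 :=
      Nat.eq_one_of_dvd_coprimes (Nat.Coprime.pow_right j hcop) h2 h1
    exact (QuotientGroup.eq_one_iff _).1 (orderOf_eq_one_iff.1 h3)

/-- For `a` in a complement `A` of the normal subgroup `N`, the order of `a` divides the order of
its image modulo `N`. -/
theorem orderOf_dvd_orderOf_mk {G : Type*} [Group G] [Finite G] (N A : Subgroup G) [N.Normal]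
    (hA : A.IsComplement' N) {a : G} (ha : a ∈ A) : orderOf a ∣ orderOf (a : G ⧸ N) := by
  apply orderOf_dvd_of_pow_eq_one
  have h1 : a ^ orderOf (a : G ⧸ N) ∈ N := by
    rw [← QuotientGroup.eq_one_iff, QuotientGroup.mk_pow, pow_orderOf_eq_one]
  have h2 : a ^ orderOf (a : G ⧸ N) ∈ A := A.pow_mem ha _
  have := hA.disjoint.le_bot (Subgroup.mem_inf.2 ⟨h2, h1⟩)
  exact (Subgroup.mem_bot).1 this

/-- The normal `p`-complement of one complement lies in `N ⊔ K` for the other. -/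
theorem le_sup_of_data {G : Type*} [Group G] [Finite G] {p : ℕ} [Fact p.Prime]
    (N A : Subgroup G) [N.Normal] (hA : A.IsComplement' N) (K K₁ : Subgroup G)
    (hK : ∀ a ∈ A, (orderOf a).Coprime p → a ∈ K) (hK₁ : (Nat.card K₁).Coprime p) :
    K₁ ≤ N ⊔ K := by
  intro k₁ hk₁
  obtain ⟨⟨⟨a, ha⟩, ⟨n, hn⟩⟩, han⟩ := hA.2 k₁
  simp only at han
  have hmk : (k₁ : G ⧸ N) = (a : G ⧸ N) := by
    rw [← han, QuotientGroup.mk_mul, (QuotientGroup.eq_one_iff n).2 hn, mul_one]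
  have h1 : orderOf (a : G ⧸ N) ∣ orderOf k₁ := by
    rw [← hmk]; exact orderOf_map_dvd (QuotientGroup.mk' N) k₁
  have h2 : orderOf k₁ ∣ Nat.card K₁ := Subgroup.orderOf_dvd_natCard K₁ hk₁
  have h3 : (orderOf a).Coprime p :=
    Nat.Coprime.coprime_dvd_left ((orderOf_dvd_orderOf_mk N A hA ha).trans (h1.trans h2)) hK₁
  have haK : a ∈ K := hK a ha h3
  rw [← han]
  have : a * n = (a * n * a⁻¹) * a := by group
  rw [this]
  exact Subgroup.mul_mem _ (Subgroup.mem_sup_left (‹N.Normal›.conj_mem n hn a))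
    (Subgroup.mem_sup_right haK)

/-- The two normal `p`-complements are conjugate by an element of `N`. -/
theorem exists_conj_K {G : Type*} [Group G] [Finite G] {p : ℕ} [Fact p.Prime]
    (N : Subgroup G) [N.Normal] (hN : IsPGroup p N) (K K₁ : Subgroup G)
    (hK : (Nat.card K).Coprime p) (hK₁ : (Nat.card K₁).Coprime p)
    (h1 : K₁ ≤ N ⊔ K) (h2 : K ≤ N ⊔ K₁) :
    ∃ n ∈ N, MulAut.conj n • K = K₁ := by
  have hp : p.Prime := Fact.out
  set L := N ⊔ K with hL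
  have hL' : L = N ⊔ K₁ := by
    apply le_antisymm
    · exact sup_le le_sup_left h2
    · exact sup_le le_sup_left h1
  obtain ⟨j, hj⟩ := IsPGroup.iff_card.1 hN
  have hNK : (Nat.card N).Coprime (Nat.card K) := by
    rw [hj]; exact (Nat.Coprime.pow_right j hK).symm
  have hNK₁ : (Nat.card N).Coprime (Nat.card K₁) := by
    rw [hj]; exact (Nat.Coprime.pow_right j hK₁).symm
  have hprod : ∀ (X : Subgroup G), L = N ⊔ X → ∀ l ∈ L, ∃ m ∈ N, ∃ x ∈ X, l = m * x := by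
    intro X hX l hl
    rw [hX, ← SetLike.mem_coe, Subgroup.normal_mul] at hl
    obtain ⟨m, hm, x, hx, rfl⟩ := Set.mem_mul.1 hl
    exact ⟨m, hm, x, hx, rfl⟩
  have hc1 : Subgroup.IsComplement' (N.subgroupOf L) (K.subgroupOf L) :=
    isComplement'_subgroupOf le_sup_right (Subgroup.disjoint_of_coprime_natCard hNK).eq_bot
      (hprod K hL)
  have hc2 : Subgroup.IsComplement' (N.subgroupOf L) (K₁.subgroupOf L) :=
    isComplement'_subgroupOf h1 (Subgroup.disjoint_of_coprime_natCard hNK₁).eq_bot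
      (hprod K₁ hL')
  have hcop : (Nat.card (N.subgroupOf L)).Coprime (Nat.card (K.subgroupOf L)) := by
    rw [card_subgroupOf_of_le (le_sup_left : N ≤ L), card_subgroupOf_of_le (le_sup_right : K ≤ L)]
    exact hNK
  haveI : Group.IsSolvable N := by
    haveI := hN.isNilpotent
    infer_instance
  haveI : Group.IsSolvable (N.subgroupOf L) := isSolvable_subgroupOf N L
  obtain ⟨l, hl⟩ := sz_conj (N.subgroupOf L) (K.subgroupOf L) (K₁.subgroupOf L) hcop hc1 hc2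
    (Or.inl inferInstance)
  have hconj : MulAut.conj (l : G) • K = K₁ := conj_of_subgroupOf le_sup_right h1 l hl
  obtain ⟨m, hm, x, hx, hlmx⟩ := hprod K hL l l.2
  refine ⟨m, hm, ?_⟩
  rw [← hconj, hlmx, map_mul, mul_smul, Subgroup.conj_smul_eq_self_of_mem hx]

/-- `C_N(K₁) = 1` under the fixed-point-freeness hypothesis. -/
theorem centralizer_inf_eq_bot {G : Type*} [Group G] [Finite G] {p : ℕ} [Fact p.Prime]
    (N : Subgroup G) [N.Normal] (hN : IsPGroup p N) (A₁ K₁ S₁ : Subgroup G)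
    (hS₁A : S₁ ≤ A₁) (hS₁ : IsPGroup p S₁)
    (hK₁n : ∀ a ∈ A₁, ∀ k ∈ K₁, a * k * a⁻¹ ∈ K₁)
    (hdec : ∀ a ∈ A₁, ∃ k ∈ K₁, ∃ s ∈ S₁, a = k * s)
    (hC₁ : ∀ n : G, n ∈ N → (∀ a : G, a ∈ A₁ → a * n * a⁻¹ = n) → n = 1) :
    N ⊓ Subgroup.centralizer (K₁ : Set G) = ⊥ := by
  set D := N ⊓ Subgroup.centralizer (K₁ : Set G) with hD
  by_contra hne
  have hDp : IsPGroup p D := hN.to_le inf_le_left
  have hnorm : ∀ s ∈ S₁, ∀ d ∈ D, s * d * s⁻¹ ∈ D := by
    intro s hs d hd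
    obtain ⟨hdN, hdC⟩ := Subgroup.mem_inf.1 hd
    refine Subgroup.mem_inf.2 ⟨‹N.Normal›.conj_mem d hdN s, ?_⟩
    rw [Subgroup.mem_centralizer_iff] at hdC ⊢
    intro k hk
    have hk' : s⁻¹ * k * s ∈ K₁ := by
      have := hK₁n s⁻¹ (A₁.inv_mem (hS₁A hs)) k hk
      simpa using this
    have h1 := hdC _ hk'
    calc k * (s * d * s⁻¹) = s * ((s⁻¹ * k * s) * d) * s⁻¹ := by group
      _ = s * (d * (s⁻¹ * k * s)) * s⁻¹ := by rw [h1]
      _ = s * d * s⁻¹ * k := by group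
  obtain ⟨d, hd, hd1, hdfix⟩ :=
    Cfsg.Agent.Helper67.exists_ne_one_fixed_of_pgroup_normalizes S₁ D hS₁ hDp hne hnorm
  obtain ⟨hdN, hdC⟩ := Subgroup.mem_inf.1 hd
  apply hd1
  apply hC₁ d hdN
  intro a ha
  obtain ⟨k, hk, s, hs, rfl⟩ := hdec a ha
  rw [Subgroup.mem_centralizer_iff] at hdC
  have h1 : k * d = d * k := hdC k hk
  calc k * s * d * (k * s)⁻¹ = k * (s * d * s⁻¹) * k⁻¹ := by group
    _ = k * d * k⁻¹ := by rw [hdfix s hs]
    _ = d := by rw [h1, mul_assoc, mul_inv_cancel, mul_one]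

/-- Let G be a finite group that is the semidirect product of a normal p-subgroup N by a subgroup A, and also of N by a subgroup A₁, where p is a prime and A and A₁ both have normal p-complements. If C_N(A) = C_N(A₁) = 1, then A₁ is conjugate to A by an element of N. -/
theorem result {G : Type*} [Group G] [Finite G] {p : ℕ}
    [Fact p.Prime] (N : Subgroup G) [N.Normal] (hN : IsPGroup p N) (A A₁ : Subgroup G)
    (hA : A.IsComplement' N) (hA₁ : A₁.IsComplement' N)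
    (hAp : Cfsg.HasNormalPComplement p A) (hA₁p : Cfsg.HasNormalPComplement p A₁)
    (hC : ∀ n : G, n ∈ N → (∀ a : G, a ∈ A → a * n * a⁻¹ = n) → n = 1)
    (hC₁ : ∀ n : G, n ∈ N → (∀ a : G, a ∈ A₁ → a * n * a⁻¹ = n) → n = 1) :
    ∃ n : G, n ∈ N ∧ A₁ = A.map (MulAut.conj n).toMonoidHom := by
  have hp : p.Prime := Fact.out
  obtain ⟨K, S, hKA, hSA, hSp, hKcop, hKn, hKdec, hKmem⟩ := ambient_data A hAp
  obtain ⟨K₁, S₁, hK₁A, hS₁A, hS₁p, hK₁cop, hK₁n, hK₁dec, hK₁mem⟩ := ambient_data A₁ hA₁p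
  have h1 : K₁ ≤ N ⊔ K := le_sup_of_data N A hA K K₁ hKmem hK₁cop
  have h2 : K ≤ N ⊔ K₁ := le_sup_of_data N A₁ hA₁ K₁ K hK₁mem hKcop
  obtain ⟨n, hn, hconj⟩ := exists_conj_K N hN K K₁ hKcop hK₁cop h1 h2
  refine ⟨n, hn, ?_⟩
  have hD := centralizer_inf_eq_bot N hN A₁ K₁ S₁ hS₁A hS₁p hK₁n hK₁dec hC₁
  -- N ∩ K₁ = 1
  obtain ⟨j, hj⟩ := IsPGroup.iff_card.1 hN
  have hNK₁ : N ⊓ K₁ = ⊥ := by
    apply (Subgroup.disjoint_of_coprime_natCard _).eq_bot
    rw [hj]; exact (Nat.Coprime.pow_right j hK₁cop).symm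
  -- the conjugate of A lies in A₁
  have hle : A.map (MulAut.conj n).toMonoidHom ≤ A₁ := by
    rintro _ ⟨a, ha, rfl⟩
    set a₂ := (MulAut.conj n).toMonoidHom a with ha₂
    have ha₂' : a₂ = n * a * n⁻¹ := rfl
    -- a₂ normalizes K₁
    have ha₂K : ∀ k ∈ K₁, a₂ * k * a₂⁻¹ ∈ K₁ := by
      intro k hk
      rw [← hconj, mem_conj_smul] at hk ⊢
      have := hKn a ha _ hk
      rw [ha₂']
      have e : n⁻¹ * (n * a * n⁻¹ * k * (n * a * n⁻¹)⁻¹) * n = a * (n⁻¹ * k * n) * a⁻¹ := by group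
      rw [e]; exact this
    obtain ⟨⟨⟨a₁, ha₁⟩, ⟨n', hn'⟩⟩, hdec⟩ := hA₁.2 a₂
    simp only at hdec
    have hn'eq : n' = a₁⁻¹ * a₂ := by rw [← hdec]; group
    -- n' centralizes K₁
    have hn'C : n' ∈ Subgroup.centralizer (K₁ : Set G) := by
      rw [Subgroup.mem_centralizer_iff]
      intro k hk
      have hk1 : n' * k * n'⁻¹ ∈ K₁ := by
        rw [hn'eq]
        have := hK₁n a₁⁻¹ (A₁.inv_mem ha₁) _ (ha₂K k hk)
        have e : a₁⁻¹ * a₂ * k * (a₁⁻¹ * a₂)⁻¹ = a₁⁻¹ * (a₂ * k * a₂⁻¹) * a₁⁻¹⁻¹ := by group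
        rw [e]; exact this
      have hk2 : n' * k * n'⁻¹ * k⁻¹ ∈ K₁ := K₁.mul_mem hk1 (K₁.inv_mem hk)
      have hk3 : n' * k * n'⁻¹ * k⁻¹ ∈ N := by
        have : n' * k * n'⁻¹ * k⁻¹ = n' * (k * n'⁻¹ * k⁻¹) := by group
        rw [this]
        exact N.mul_mem hn' (‹N.Normal›.conj_mem _ (N.inv_mem hn') k)
      have hk4 : n' * k * n'⁻¹ * k⁻¹ ∈ N ⊓ K₁ := Subgroup.mem_inf.2 ⟨hk3, hk2⟩
      rw [hNK₁, Subgroup.mem_bot] at hk4
      have : n' * k = k * n' := by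
        calc n' * k = (n' * k * n'⁻¹ * k⁻¹) * k * n' := by group
          _ = k * n' := by rw [hk4, one_mul]
      exact this.symm
    have hn'1 : n' = 1 := by
      have : n' ∈ N ⊓ Subgroup.centralizer (K₁ : Set G) := Subgroup.mem_inf.2 ⟨hn', hn'C⟩
      rw [hD, Subgroup.mem_bot] at this
      exact this
    rw [← hdec, hn'1, mul_one]
    exact ha₁
  -- equal cardinalities
  symm
  apply Subgroup.eq_of_le_of_card_ge hle
  have hc1 : Nat.card A * Nat.card N = Nat.card G := hA.card_mul_card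
  have hc2 : Nat.card A₁ * Nat.card N = Nat.card G := hA₁.card_mul_card
  have hcard : Nat.card A₁ = Nat.card A := by
    have hNpos : 0 < Nat.card N := Nat.card_pos
    exact Nat.eq_of_mul_eq_mul_right hNpos (hc2.trans hc1.symm)
  rw [hcard, Nat.card_congr (A.equivMapOfInjective _ (MulAut.conj n).injective).symm.toEquiv]

end Cfsg.Agent.S4043
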