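import Cfsg.Statements.S4049
import Cfsg.Agent.Helper67.TwoClosed

set_option autoImplicit false
open Cfsg

namespace Cfsg.Agent.S4049

open Cfsg.Agent.Helper67

/-- Let G be a finite group such that N_G(H)/C_G(H) has odd order for every nontrivial subgroup H of odd order. Then the Sylow 2-subgroups of G are normal. -/
theorem result {G : Type*} [Group G] [Finite G]
    (hhom : ∀ H : Subgroup G, H ≠ ⊥ → ¬ 2 ∣ Nat.card ↥H →
        ¬ 2 ∣ (Subgroup.centralizer (H : Set G)).relIndex (Subgroup.normalizer (H : Set G))) (P : Sylow 2 G) :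
    (P : Subgroup G).Normal := by
  by_contra hP
  obtain ⟨y, w, hy1, hyodd, hwy⟩ := exists_inverted_odd_of_sylow_two_not_normal P hP
  set H := Subgroup.zpowers y with hH
  have hHbot : H ≠ ⊥ := by
    rw [hH, Ne, Subgroup.zpowers_eq_bot]; exact hy1
  have hHodd : ¬ 2 ∣ Nat.card H := by
    rw [hH, Nat.card_zpowers]
    intro h
    exact (Nat.not_even_iff_odd.2 hyodd) (even_iff_two_dvd.2 h)
  apply hhom H hHbot hHodd
  have hwn : w ∈ Subgroup.normalizer (H : Set G) := by
    rw [hH, mem_normalizer_zpowers_iff, hwy]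
    exact Subgroup.inv_mem _ (Subgroup.mem_zpowers y)
  let φ := H.normalizerMonoidHom
  let w' : Subgroup.normalizer (H : Set G) := ⟨w, hwn⟩
  -- the relative index is the order of the image of φ
  have hidx : (Subgroup.centralizer (H : Set G)).relIndex (Subgroup.normalizer (H : Set G)) =
      Nat.card φ.range := by
    rw [Subgroup.relIndex, ← Subgroup.normalizerMonoidHom_ker, Subgroup.index_ker]
  rw [hidx]
  -- φ w' has order two
  have hyy : y⁻¹ ≠ y := by
    intro h
    have hsq : y ^ 2 = 1 := by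
      rw [pow_two]; nth_rewrite 1 [← h]; exact inv_mul_cancel y
    have hdvd : orderOf y ∣ 2 := orderOf_dvd_of_pow_eq_one hsq
    have : orderOf y = 1 := by
      rcases (Nat.dvd_prime Nat.prime_two).1 hdvd with h | h
      · exact h
      · rw [h] at hyodd; exact absurd hyodd (by decide)
    exact hy1 (orderOf_eq_one_iff.1 this)
  have hφ1 : φ w' ≠ 1 := by
    intro h
    have h1 : φ w' ⟨y, Subgroup.mem_zpowers y⟩ = ⟨y, Subgroup.mem_zpowers y⟩ := by rw [h]; rfl
    have h2 := congrArg Subtype.val h1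
    have h3 : w * y * w⁻¹ = y := h2
    rw [hwy] at h3
    exact hyy h3
  have hφ2 : φ w' ^ 2 = 1 := by
    rw [← map_pow]
    show w' ^ 2 ∈ φ.ker
    rw [Subgroup.normalizerMonoidHom_ker, Subgroup.mem_subgroupOf, Subgroup.mem_centralizer_iff]
    intro h hh
    obtain ⟨i, rfl⟩ := Subgroup.mem_zpowers_iff.1 hh
    have hw2 : Commute (w ^ 2) y := commute_sq_of_inverts hwy
    exact ((hw2.zpow_right i).eq).symm
  have hord : orderOf (φ w') = 2 := orderOf_eq_prime hφ2 hφ1
  rw [← hord]
  exact Subgroup.orderOf_dvd_natCard _ ⟨w', rfl⟩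

end Cfsg.Agent.S4049
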