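import Cfsg.Statements.S4058
import Cfsg.Agent.Helper74.AFT
import Cfsg.Agent.Helper63.Frattini
import Cfsg.Agent.S3754

set_option autoImplicit false
open Cfsg

namespace Cfsg.Agent.S4058

open Cfsg.Agent.Helper74

open scoped commutatorElement

universe u

/-- If `f` is constant on orbits and `N` divides `|orbit| * f` on each orbit, then `N` divides the
sum of `f`. -/
theorem dvd_sum_of_orbit {Γ X : Type*} [Group Γ] [MulAction Γ X] [Fintype X] (f : X → ℤ)
    (hf : ∀ (γ : Γ) (x : X), f (γ • x) = f x) (N : ℤ)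
    (h : ∀ x : X, N ∣ (Nat.card (MulAction.orbit Γ x) : ℤ) * f x) : N ∣ ∑ x, f x := by
  classical
  have : Fintype (MulAction.orbitRel.Quotient Γ X) := Fintype.ofFinite _
  have : ∀ ω : MulAction.orbitRel.Quotient Γ X, Fintype (MulAction.orbit Γ ω.out) :=
    fun ω => Fintype.ofFinite _
  rw [← (MulAction.selfEquivSigmaOrbits Γ X).symm.sum_comp, Fintype.sum_sigma]
  apply Finset.dvd_sum
  intro ω _
  have h1 : ∀ y : MulAction.orbit Γ ω.out,
      f ((MulAction.selfEquivSigmaOrbits Γ X).symm ⟨ω, y⟩) = f ω.out := by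
    rintro ⟨y, γ, rfl⟩
    exact hf γ _
  rw [Finset.sum_congr rfl (fun y _ => h1 y), Finset.sum_const, Finset.card_univ, nsmul_eq_mul]
  have := h ω.out
  rwa [Nat.card_eq_fintype_card] at this

section core
variable {G : Type u} [Group G] [Fintype G]

set_option maxHeartbeats 800000 in
theorem core [Fintype (IrrCharacter G)] (hG : IsPGroup 2 G) (k : ℕ)
    (hΛcard : 2 ^ (2 * k + 1) ≤ Nat.card {μ : G →* ℂˣ // μ ^ 2 = 1}) :
    2 ^ (k + 1) ∣ Nat.card {u : G // u * u = 1} := by
  classical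
  haveI : Fact (Nat.Prime 2) := ⟨Nat.prime_two⟩
  letI := twistAction (G := G)
  letI hLfin : Fintype (G →* ℂˣ) := Fintype.ofFinite _
  -- integer-valued Frobenius–Schur indicator
  let nuZ : IrrCharacter G → ℤ := fun χ =>
    if fsIndF (χ : G → ℂ) = 1 then 1 else if fsIndF (χ : G → ℂ) = -1 then -1 else 0
  have hnuZ : ∀ χ, (nuZ χ : ℂ) = fsIndF (χ : G → ℂ) := by
    intro χ
    rcases fsIndF_cases χ with h | ⟨h | h, _⟩
    · simp [nuZ, h]
    · simp [nuZ, h]
    · have h' : ¬ ((-1 : ℂ) = 1) := by norm_num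
      simp [nuZ, h, h']
  let d : IrrCharacter G → ℕ := fun χ => charDegree (χ : G → ℂ)
  have hd : ∀ χ, ((d χ : ℕ) : ℂ) = (χ : G → ℂ) 1 := fun χ => charDegree_cast (irr_isCharacter χ)
  have hcount : ((Nat.card {u : G // u * u = 1} : ℕ) : ℤ) =
      ∑ χ : IrrCharacter G, nuZ χ * (d χ : ℤ) := by
    have h := one_add_involutions_eq_sum (G := G)
    rw [← card_sq_eq_one] at h
    have : (((Nat.card {u : G // u * u = 1} : ℕ) : ℤ) : ℂ) =
        ((∑ χ : IrrCharacter G, nuZ χ * (d χ : ℤ) : ℤ) : ℂ) := by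
      rw [Int.cast_natCast, h, Int.cast_sum]
      refine Finset.sum_congr rfl (fun χ _ => ?_)
      rw [Int.cast_mul, hnuZ χ, Int.cast_natCast, hd χ]
    exact_mod_cast this
  obtain ⟨n, hn⟩ := hG.exists_card_eq
  have hdpow : ∀ χ, ∃ a, d χ = 2 ^ a := by
    intro χ
    have h := Cfsg.Agent.Helper80.IsIrrCharacter.charDegree_dvd_card χ.2
    rw [hn] at h
    obtain ⟨a, _, ha⟩ := (Nat.dvd_prime_pow Nat.prime_two).mp h
    exact ⟨a, ha⟩
  -- the group Λ of linear characters of square one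
  let Λ : Subgroup (G →* ℂˣ) := (powMonoidHom 2 : (G →* ℂˣ) →* (G →* ℂˣ)).ker
  have hΛmem : ∀ μ, μ ∈ Λ ↔ μ ^ 2 = 1 := fun μ => by
    simp [Λ, MonoidHom.mem_ker]
  have hpΛ : IsPGroup 2 Λ := by
    rintro ⟨μ, hμ⟩
    refine ⟨1, ?_⟩
    apply Subtype.ext
    simpa using (hΛmem μ).mp hμ
  have hΛc : Nat.card {μ : G →* ℂˣ // μ ^ 2 = 1} = Nat.card Λ :=
    Nat.card_congr (Equiv.subtypeEquivRight (fun μ => (hΛmem μ).symm))
  obtain ⟨m, hm⟩ := hpΛ.exists_card_eq
  have hkm : 2 * k + 1 ≤ m := by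
    rw [hΛc, hm] at hΛcard
    exact (Nat.pow_le_pow_iff_right (by norm_num)).1 hΛcard
  have hsmul : ∀ (γ : Λ) (χ : IrrCharacter G), γ • χ = twist (γ : G →* ℂˣ) χ := fun _ _ => rfl
  have hdvd : ((2 ^ (k + 1) : ℕ) : ℤ) ∣ ∑ χ : IrrCharacter G, nuZ χ * (d χ : ℤ) := by
    apply dvd_sum_of_orbit (Γ := Λ)
    · intro γ χ
      rw [hsmul]
      have h1 : nuZ (twist (γ : G →* ℂˣ) χ) = nuZ χ := by
        simp only [nuZ]
        rw [fsIndF_twist_of_sq _ ((hΛmem _).mp γ.2)]
      have h2 : d (twist (γ : G →* ℂˣ) χ) = d χ := by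
        simp only [d]
        rw [charDegree_twist]
      rw [h1, h2]
    · intro χ
      obtain ⟨a, ha⟩ := hdpow χ
      obtain ⟨s, hs⟩ := (hpΛ.to_subgroup (MulAction.stabilizer Λ χ)).exists_card_eq
      have hidx : Nat.card (MulAction.orbit Λ χ) = (MulAction.stabilizer Λ χ).index := by
        rw [MulAction.index_stabilizer, Nat.card_coe_set_eq]
      have hmul : Nat.card (MulAction.stabilizer Λ χ) * (MulAction.stabilizer Λ χ).index =
          Nat.card Λ := Subgroup.card_mul_index _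
      rw [hs, hm] at hmul
      obtain ⟨j, hjm, hj⟩ := (Nat.dvd_prime_pow Nat.prime_two).mp (Dvd.intro_left _ hmul)
      rw [hj, ← pow_add] at hmul
      have hsj : s + j = m := Nat.pow_right_injective (le_refl 2) hmul
      -- bound on the stabilizer
      have hfinS : Fintype (MulAction.stabilizer Λ χ) := Fintype.ofFinite _
      have hle := card_le_degree_sq_of_twist_fixed χ
        ((Finset.univ : Finset (MulAction.stabilizer Λ χ)).image
          (fun γ : MulAction.stabilizer Λ χ => (((γ : Λ) : G →* ℂˣ)))) (by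
          intro μ hμ
          obtain ⟨γ, -, rfl⟩ := Finset.mem_image.1 hμ
          have := γ.2
          rw [MulAction.mem_stabilizer_iff, hsmul] at this
          exact this)
      rw [Finset.card_image_of_injective _ (fun x y hxy => Subtype.ext (Subtype.ext hxy)),
        Finset.card_univ, ← Nat.card_eq_fintype_card, hs] at hle
      have hda : charDegree (χ : G → ℂ) = 2 ^ a := ha
      rw [hda, ← pow_mul] at hle
      have hs2a : s ≤ a * 2 := (Nat.pow_le_pow_iff_right (by norm_num)).1 hle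
      rw [hidx, hj]
      have hda' : d χ = 2 ^ a := ha
      rw [hda']
      have hka : k + 1 ≤ j + a := by omega
      obtain ⟨c, hc⟩ : 2 ^ (k + 1) ∣ 2 ^ (j + a) := pow_dvd_pow 2 hka
      refine ⟨nuZ χ * (c : ℤ), ?_⟩
      have hc' : ((2 : ℤ) ^ j) * (2 : ℤ) ^ a = ((2 ^ (k + 1) : ℕ) : ℤ) * (c : ℤ) := by
        rw [← pow_add]
        exact_mod_cast hc
      push_cast at hc' ⊢
      calc (2 : ℤ) ^ j * (nuZ χ * 2 ^ a) = nuZ χ * ((2 : ℤ) ^ j * 2 ^ a) := by ring
        _ = nuZ χ * (2 ^ (k + 1) * (c : ℤ)) := by rw [hc']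
        _ = 2 ^ (k + 1) * (nuZ χ * (c : ℤ)) := by ring
  rw [← hcount] at hdvd
  exact_mod_cast hdvd

end core

/-- Let G be a finite 2-group with #(G/Φ(G)) ≥ 2^(2k+1). Then the number of elements x of G with x² = 1 is divisible by 2^(k+1). -/
theorem result {G : Type*} [Group G] [Finite G] (hG : IsPGroup 2 G) (k : ℕ)
    (hgen : 2 ^ (2 * k + 1) ≤ Nat.card (G ⧸ frattini G)) :
    2 ^ (k + 1) ∣ Nat.card {x : G // x ^ 2 = 1} := by
  classical
  haveI : Fact (Nat.Prime 2) := ⟨Nat.prime_two⟩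
  have hfin := Fintype.ofFinite G
  have hirr := Cfsg.Agent.Helper74.irrFintype G
  have hcongr : Nat.card {x : G // x ^ 2 = 1} = Nat.card {u : G // u * u = 1} :=
    Nat.card_congr (Equiv.subtypeEquivRight (fun x => by rw [sq]))
  rw [hcongr]
  apply core hG k
  refine le_trans hgen ?_
  -- `G ⧸ Φ(G)` is abelian of exponent two
  have hcomm : ∀ a b : G ⧸ frattini G, a * b = b * a := by
    intro a b
    obtain ⟨g, rfl⟩ := QuotientGroup.mk_surjective a
    obtain ⟨h, rfl⟩ := QuotientGroup.mk_surjective b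
    rw [← QuotientGroup.mk_mul, ← QuotientGroup.mk_mul, QuotientGroup.eq]
    apply S3754.commutator_le_frattini_of_isPGroup hG
    have h1 : (g * h)⁻¹ * (h * g) = ⁅h⁻¹, g⁻¹⁆ := by
      rw [commutatorElement_def]
      group
    rw [h1, commutator_def]
    exact Subgroup.commutator_mem_commutator (Subgroup.mem_top _) (Subgroup.mem_top _)
  have hcb : commutator (G ⧸ frattini G) = ⊥ := by
    rw [commutator_def, Subgroup.commutator_eq_bot_iff_le_centralizer]
    intro a _
    rw [Subgroup.mem_centralizer_iff]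
    intro b _
    exact hcomm b a
  have hcardV : Nat.card ((G ⧸ frattini G) →* ℂˣ) = Nat.card (G ⧸ frattini G) := by
    rw [card_monoidHom_units_eq_index_commutator, hcb, Subgroup.index_bot]
  rw [← hcardV]
  have hfinL : Finite (G →* ℂˣ) := inferInstance
  let φ : ((G ⧸ frattini G) →* ℂˣ) → {μ : G →* ℂˣ // μ ^ 2 = 1} := fun ν =>
    ⟨ν.comp (QuotientGroup.mk' (frattini G)), by
      ext g
      rw [MonoidHom.pow_apply, MonoidHom.comp_apply, ← map_pow, ← map_pow]
      have : (QuotientGroup.mk' (frattini G)) (g ^ 2) = 1 := by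
        rw [QuotientGroup.mk'_apply, QuotientGroup.eq_one_iff]
        exact Cfsg.Agent.Helper63.pow_prime_mem_frattini hG g
      rw [this, map_one]
      rfl⟩
  have hφ : Function.Injective φ := by
    intro ν₁ ν₂ h
    have h' : ν₁.comp (QuotientGroup.mk' (frattini G)) = ν₂.comp (QuotientGroup.mk' (frattini G)) :=
      congrArg Subtype.val h
    ext x
    exact congrArg (fun μ : G →* ℂˣ => ((μ x : ℂˣ) : ℂ)) h'
  exact Nat.card_le_card_of_injective φ hφ

end Cfsg.Agent.S4058
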