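import Cfsg.Statements.S4059
import Cfsg.Agent.Helper67.Basic

set_option autoImplicit false
open Cfsg

namespace Cfsg.Agent.S4059

open Cfsg.Agent.Helper67
open scoped commutatorElement

/-- Let G be a finite group in which every element is conjugate to its inverse. Then: every non-identity element commuting with all elements of some Sylow 2-subgroup is an involution; the centre of G is an elementary abelian 2-group; the commutator quotient G/G' is an elementary abelian 2-group; and G is generated by its 2-elements. -/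
theorem result {G : Type*} [Group G] [Finite G] (hamb : ∀ x : G, IsConj x x⁻¹) :
    (∀ (S : Sylow 2 G) (x : G), x ∈ Subgroup.centralizer ((S : Subgroup G) : Set G) → x ≠ 1 → orderOf x = 2) ∧
    (∀ z : G, z ∈ Subgroup.center G → z ^ 2 = 1) ∧
    (∀ x : G, x ^ 2 ∈ commutator G) ∧
    Subgroup.closure {x : G | ∃ k : ℕ, orderOf x = 2 ^ k} = ⊤ := by
  refine ⟨?_, ?_, ?_, ?_⟩
  · intro S x hx hx1
    have h2 := sq_eq_one_of_real_of_mem_centralizer_sylow S hx (hamb x)
    exact orderOf_eq_prime h2 hx1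
  · intro z hz
    obtain ⟨c, hc⟩ := isConj_iff.1 (hamb z)
    have hcz : c * z = z * c := Subgroup.mem_center_iff.1 hz c
    have : z⁻¹ = z := by rw [← hc, hcz, mul_assoc, mul_inv_cancel, mul_one]
    calc z ^ 2 = z * z := pow_two z
      _ = z⁻¹ * z := by rw [this]
      _ = 1 := inv_mul_cancel z
  · intro x
    obtain ⟨c, hc⟩ := isConj_iff.1 (hamb x)
    have h1 : ⁅c, x⁆ ∈ commutator G :=
      Subgroup.commutator_mem_commutator (Subgroup.mem_top c) (Subgroup.mem_top x)
    have h2 : ⁅c, x⁆ = (x ^ 2)⁻¹ := by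
      rw [commutatorElement_def, hc, pow_two, mul_inv_rev]
    rw [h2] at h1
    exact (Subgroup.inv_mem_iff _).1 h1
  · rw [eq_top_iff]
    intro x _
    set K := Subgroup.closure {x : G | ∃ k : ℕ, orderOf x = 2 ^ k} with hK
    have hpos : orderOf x ≠ 0 := (orderOf_pos x).ne'
    obtain ⟨a, m, hm, ham⟩ := Nat.exists_eq_two_pow_mul_odd hpos
    -- the 2-part
    have h2part : x ^ m ∈ K := by
      apply Subgroup.subset_closure
      refine ⟨a, ?_⟩
      rw [orderOf_pow' x hm.pos.ne', ham, Nat.gcd_eq_right (Dvd.intro_left _ rfl),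
        Nat.mul_div_cancel _ hm.pos]
    -- the odd part
    set y := x ^ (2 ^ a) with hy
    have hyo : y ^ m = 1 := by
      rw [hy, ← pow_mul, ← ham, pow_orderOf_eq_one]
    have hodd : y ∈ K := by
      obtain ⟨c, hc⟩ := isConj_iff.1 (hamb y)
      obtain ⟨t, -, ht2, htx⟩ := exists_two_elt_inverting (isOfFinOrder_of_finite c) hc
      have htK : t ∈ K := Subgroup.subset_closure ht2
      have htK' : y * t⁻¹ * y⁻¹ ∈ K := by
        apply Subgroup.subset_closure
        obtain ⟨k, hk⟩ := ht2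
        refine ⟨k, ?_⟩
        rw [← hk, ← orderOf_inv t, ← MulEquiv.orderOf_eq (MulAut.conj y) t⁻¹, MulAut.conj_apply]
      have hsq : (y ^ 2)⁻¹ ∈ K := by
        have : (y ^ 2)⁻¹ = t * (y * t⁻¹ * y⁻¹) := by
          calc (y ^ 2)⁻¹ = y⁻¹ * y⁻¹ := by rw [pow_two, mul_inv_rev]
            _ = (t * y * t⁻¹) * y⁻¹ := by rw [htx]
            _ = t * (y * t⁻¹ * y⁻¹) := by group
        rw [this]
        exact K.mul_mem htK htK'
      have hsq' : y ^ 2 ∈ K := (Subgroup.inv_mem_iff _).1 hsq
      obtain ⟨i, hi⟩ := hm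
      have : y = ((y ^ 2) ^ (i + 1)) := by
        rw [← pow_mul]
        have : 2 * (i + 1) = m + 1 := by omega
        rw [this, pow_succ, hyo, one_mul]
      rw [this]
      exact K.pow_mem hsq' _
    -- combine
    have hcop : Nat.Coprime (2 ^ a) m := Nat.Coprime.pow_left a (Nat.coprime_two_left.2 hm)
    have hb := Nat.gcd_eq_gcd_ab (2 ^ a) m
    rw [hcop.gcd_eq_one] at hb
    have : x = y ^ (Nat.gcdA (2 ^ a) m) * (x ^ m) ^ (Nat.gcdB (2 ^ a) m) := by
      rw [hy, ← zpow_natCast x (2 ^ a), ← zpow_natCast x m, ← zpow_mul, ← zpow_mul, ← zpow_add]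
      rw [← hb]; simp
    rw [this]
    exact K.mul_mem (K.zpow_mem hodd _) (K.zpow_mem h2part _)

end Cfsg.Agent.S4059
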