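import Cfsg.Statements.S4060
import Cfsg.Agent.Helper67.Basic
import Cfsg.Agent.Helper60.Hall

set_option autoImplicit false
open Cfsg

namespace Cfsg.Agent.S4060

open Cfsg.Agent.Helper67

universe u

theorem aux (n : ℕ) : ∀ {G : Type u} [Group G] [Finite G] [Group.IsSolvable G], Nat.card G = n →
    ∀ (S : Sylow 2 G) (x : G), x ≠ 1 → Odd (orderOf x) →
      x ∈ Subgroup.normalizer ((S : Subgroup G) : Set G) → ¬ IsConj x x⁻¹ := by
  induction n using Nat.strong_induction_on with
  | _ n ih =>
    intro G _ _ _ hcard S x hx hodd hnorm hreal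
    have h2 : Fact (Nat.Prime 2) := ⟨Nat.prime_two⟩
    have : Nontrivial G := ⟨⟨x, 1, hx⟩⟩
    obtain ⟨R, l, hRn, hRbot, hl, hRcomm, hRl⟩ :=
      Cfsg.Agent.Helper60.exists_normal_elementary_abelian (G := G)
    -- an element of odd order with x ^ 2 = 1 is trivial
    have hodd1 : ∀ z : G, Odd (orderOf z) → z ^ 2 = 1 → z = 1 := by
      intro z hz hz2
      have hdvd : orderOf z ∣ 2 := orderOf_dvd_of_pow_eq_one hz2
      rcases (Nat.dvd_prime Nat.prime_two).1 hdvd with h | h
      · exact orderOf_eq_one_iff.1 h
      · rw [h] at hz; exact absurd hz (by decide)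
    by_cases hxR : x ∈ R
    · by_cases hl2 : l = 2
      · subst hl2
        exact hx (hodd1 x hodd (hRl x hxR))
      · -- R ∩ S = 1
        have hRS : ∀ a : G, a ∈ R → a ∈ S → a = 1 := by
          intro a haR haS
          obtain ⟨k, hk⟩ := S.isPGroup' ⟨a, haS⟩
          have hk' : a ^ (2 ^ k) = 1 := by
            have := congrArg Subtype.val hk
            simpa using this
          have hcop : Nat.Coprime l (2 ^ k) :=
            Nat.Coprime.pow_right k ((Nat.coprime_primes hl Nat.prime_two).2 hl2)
          have := Nat.eq_one_of_dvd_coprimes hcop (orderOf_dvd_of_pow_eq_one (hRl a haR))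
            (orderOf_dvd_of_pow_eq_one hk')
          exact orderOf_eq_one_iff.1 this
        -- x centralizes S
        have hxc : x ∈ Subgroup.centralizer ((S : Subgroup G) : Set G) := by
          rw [Subgroup.mem_centralizer_iff]
          intro s hs
          have hs' : s ∈ (S : Subgroup G) := hs
          have h1 : x * s * x⁻¹ ∈ (S : Subgroup G) := (Subgroup.mem_normalizer_iff.1 hnorm s).1 hs'
          have h2 : x * s * x⁻¹ * s⁻¹ ∈ (S : Subgroup G) := Subgroup.mul_mem _ h1 (Subgroup.inv_mem _ hs')
          have h3 : x * s * x⁻¹ * s⁻¹ ∈ R := by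
            have : x * s * x⁻¹ * s⁻¹ = x * (s * x⁻¹ * s⁻¹) := by group
            rw [this]
            exact R.mul_mem hxR (hRn.conj_mem _ (R.inv_mem hxR) s)
          have h4 := hRS _ h3 h2
          have : x * s = s * x := by
            have : x * s * x⁻¹ * s⁻¹ * s * x = s * x := by rw [h4, one_mul]
            rw [← this]; group
          exact this.symm
        exact hx (hodd1 x hodd (sq_eq_one_of_real_of_mem_centralizer_sylow S hxc hreal))
    · -- pass to the quotient
      have := hRn
      have hcardlt : Nat.card (G ⧸ R) < n := by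
        rw [← hcard, ← R.card_mul_index, ← Subgroup.index_eq_card]
        have hR1 : 1 < Nat.card R := by
          rw [Subgroup.one_lt_card_iff_ne_bot]; exact hRbot
        have hpos : 0 < R.index := Nat.pos_of_ne_zero R.index_ne_zero_of_finite
        nlinarith
      have hsurj : Function.Surjective (QuotientGroup.mk' R) := QuotientGroup.mk'_surjective R
      let Sb : Sylow 2 (G ⧸ R) := S.mapSurjective hsurj
      have hxb1 : (x : G ⧸ R) ≠ 1 := fun h => hxR ((QuotientGroup.eq_one_iff x).1 h)
      have hxbodd : Odd (orderOf (x : G ⧸ R)) :=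
        Odd.of_dvd_nat hodd (orderOf_map_dvd (QuotientGroup.mk' R) x)
      have hxbn : (x : G ⧸ R) ∈ Subgroup.normalizer ((Sb : Subgroup (G ⧸ R)) : Set (G ⧸ R)) := by
        have h1 : (Sb : Subgroup (G ⧸ R)) = (S : Subgroup G).map (QuotientGroup.mk' R) := rfl
        rw [h1]
        exact Subgroup.le_normalizer_map (QuotientGroup.mk' R) ⟨x, hnorm, rfl⟩
      have hrealb : IsConj (x : G ⧸ R) (x : G ⧸ R)⁻¹ := by
        have := (QuotientGroup.mk' R).map_isConj hreal
        simpa using this
      exact ih _ hcardlt rfl Sb (x : G ⧸ R) hxb1 hxbodd hxbn hrealb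

/-- Let G be a finite solvable group with Sylow 2-subgroup S, and let x ≠ 1 be an element of odd order normalizing S. Then x is not conjugate to its inverse in G. -/
theorem result {G : Type*} [Group G] [Finite G] [Group.IsSolvable G]
    (S : Sylow 2 G) (x : G) (hx : x ≠ 1) (hodd : Odd (orderOf x))
    (hnorm : x ∈ Subgroup.normalizer ((S : Subgroup G) : Set G)) : ¬ IsConj x x⁻¹ :=
  aux (Nat.card G) rfl S x hx hodd hnorm

end Cfsg.Agent.S4060
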