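import Mathlib
import Cfsg.Agent.Helper73.PGroupCyclic
import Cfsg.Agent.Lib.Cores
import Cfsg.Agent.Lib.Nilpotent
import Cfsg.Statements.S4061

set_option autoImplicit false
open Cfsg
open scoped commutatorElement

namespace Cfsg.Agent.S4061


theorem eq_one_of_sq_of_odd {V : Type*} [Group V] {c : V} (h2 : c ^ 2 = 1) {o : ℕ} (ho : Odd o)
    (hco : c ^ o = 1) : c = 1 := by
  obtain ⟨k, rfl⟩ := ho
  rw [pow_succ, pow_mul, h2, one_pow, one_mul] at hco
  exact hco

theorem ker_inf_im {V : Type*} [Group V] (hV2 : ∀ v : V, v ^ 2 = 1) (φ : MulAut V) {o : ℕ}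
    (ho : Odd o) (hφ : φ ^ o = 1) (v : V) (h : φ (v⁻¹ * φ v) = v⁻¹ * φ v) : v⁻¹ * φ v = 1 := by
  set c := v⁻¹ * φ v with hc
  have hφv : φ v = v * c := by rw [hc]; group
  have key : ∀ i : ℕ, (φ ^ i) v = v * c ^ i := by
    intro i
    induction i with
    | zero => simp
    | succ i ih =>
      rw [pow_succ', MulAut.mul_apply, ih, map_mul, map_pow, h, hφv, pow_succ', mul_assoc]
  have h1 := key o
  rw [hφ, MulAut.one_apply] at h1
  have hco : c ^ o = 1 := by
    have h2 : v * c ^ o = v * 1 := by rw [← h1, mul_one]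
    exact mul_left_cancel h2
  exact eq_one_of_sq_of_odd (hV2 c) ho hco

theorem fix_trivial {V : Type*} [Group V] (hcomm : ∀ a b : V, a * b = b * a)
    (hV2 : ∀ v : V, v ^ 2 = 1)
    {Γ : Type*} [Group Γ] [Finite Γ] (ρ : Γ →* MulAut V) (R : Subgroup Γ) [hRn : R.Normal]
    (hR : ∀ y ∈ R, ∀ z ∈ R, ρ y * ρ z = ρ z * ρ y)
    (htrans : ∀ v w : V, v ≠ 1 → w ≠ 1 → ∃ g : Γ, ρ g v = w)
    (x : Γ) (hx : x ∈ R) (hx1 : ρ x ≠ 1) {o : ℕ} (ho : Odd o) (hxo : x ^ o = 1)
    (u : V) (hu : ρ x u = u) : u = 1 := by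
  by_contra hu1
  set φ := ρ x with hφdef
  have hφo : φ ^ o = 1 := by rw [hφdef, ← map_pow, hxo, map_one]
  obtain ⟨v₀, hv₀⟩ : ∃ v₀ : V, φ v₀ ≠ v₀ := by
    by_contra hcon
    push Not at hcon
    exact hx1 (MulEquiv.ext hcon)
  set w := v₀⁻¹ * φ v₀ with hw
  have hw1 : w ≠ 1 := by
    intro h
    apply hv₀
    rw [hw] at h
    exact (inv_mul_eq_one.mp h).symm
  let St : V → Subgroup Γ := fun v => R ⊓ (MulAction.stabilizer (MulAut V) v).comap ρ
  have hSt_mem : ∀ v y, y ∈ St v ↔ y ∈ R ∧ ρ y v = v := by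
    intro v y
    simp only [St, Subgroup.mem_inf, Subgroup.mem_comap, MulAction.mem_stabilizer_iff,
      MulAut.smul_def]
  have hcard_le : ∀ (g : Γ) (v : V), Nat.card (St (ρ g v)) ≤ Nat.card (St v) := by
    intro g v
    let F : St (ρ g v) → St v := fun z => ⟨g⁻¹ * z * g, by
      rw [hSt_mem]
      have hz := (hSt_mem _ _).1 z.2
      refine ⟨?_, ?_⟩
      · have := hRn.conj_mem _ hz.1 g⁻¹
        simpa using this
      · rw [map_mul, map_mul, MulAut.mul_apply, MulAut.mul_apply, hz.2, ← MulAut.mul_apply,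
          ← map_mul, inv_mul_cancel, map_one, MulAut.one_apply]⟩
    apply Nat.card_le_card_of_injective F
    intro a b hab
    have := congrArg Subtype.val hab
    simp only [F, mul_left_inj, mul_right_inj] at this
    exact Subtype.ext this
  have hcard : ∀ (g : Γ) (v : V), Nat.card (St (ρ g v)) = Nat.card (St v) := by
    intro g v
    refine le_antisymm (hcard_le g v) ?_
    have := hcard_le g⁻¹ (ρ g v)
    rwa [← MulAut.mul_apply, ← map_mul, inv_mul_cancel, map_one, MulAut.one_apply] at this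
  have huw1 : u * w ≠ 1 := by
    intro h
    have hwu : w = u⁻¹ := eq_inv_of_mul_eq_one_right h
    have : φ w = w := by rw [hwu, map_inv, hu]
    exact hw1 (ker_inf_im hV2 φ ho hφo v₀ this)
  obtain ⟨g, hg⟩ := htrans u (u * w) hu1 huw1
  have hle : St (u * w) ≤ St u := by
    intro y hy
    rw [hSt_mem] at hy ⊢
    refine ⟨hy.1, ?_⟩
    set ψ := ρ y with hψ
    have hcommφψ : ∀ v, φ (ψ v) = ψ (φ v) := fun v => by
      have := hR x hx y hy.1
      have h2 := congrArg (fun f : MulAut V => f v) this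
      simpa [MulAut.mul_apply] using h2
    have he1 : u⁻¹ * ψ u = w * (ψ w)⁻¹ := by
      have h1 : ψ u * ψ w = u * w := by rw [← map_mul]; exact hy.2
      calc u⁻¹ * ψ u = u⁻¹ * (ψ u * ψ w) * (ψ w)⁻¹ := by group
        _ = u⁻¹ * (u * w) * (ψ w)⁻¹ := by rw [h1]
        _ = w * (ψ w)⁻¹ := by group
    have hψw : ψ w = (ψ v₀)⁻¹ * φ (ψ v₀) := by rw [hw, map_mul, map_inv, hcommφψ]
    have he2 : w * (ψ w)⁻¹ = (v₀ * (ψ v₀)⁻¹)⁻¹ * φ (v₀ * (ψ v₀)⁻¹) := by
      rw [hψw, map_mul, map_inv, hw]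
      have hc := hcomm (v₀⁻¹ * φ v₀ * (φ (ψ v₀))⁻¹) (ψ v₀)
      calc v₀⁻¹ * φ v₀ * ((ψ v₀)⁻¹ * φ (ψ v₀))⁻¹
          = (v₀⁻¹ * φ v₀ * (φ (ψ v₀))⁻¹) * ψ v₀ := by group
        _ = ψ v₀ * (v₀⁻¹ * φ v₀ * (φ (ψ v₀))⁻¹) := hc
        _ = (v₀ * (ψ v₀)⁻¹)⁻¹ * (φ v₀ * (φ (ψ v₀))⁻¹) := by group
    have hefix : φ (u⁻¹ * ψ u) = u⁻¹ * ψ u := by rw [map_mul, map_inv, hu, hcommφψ, hu]
    have h3 := ker_inf_im hV2 φ ho hφo (v₀ * (ψ v₀)⁻¹) (by rw [← he2, ← he1]; exact hefix)
    rw [← he2, ← he1] at h3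
    exact (inv_mul_eq_one.mp h3).symm
  have heq : St (u * w) = St u :=
    Subgroup.eq_of_le_of_card_ge hle (by rw [← hg, hcard])
  have hxu : x ∈ St u := (hSt_mem _ _).2 ⟨hx, hu⟩
  rw [← heq, hSt_mem] at hxu
  have : φ w = w := by
    have h1 := hxu.2
    rw [map_mul, hu] at h1
    exact mul_left_cancel h1
  exact hw1 (ker_inf_im hV2 φ ho hφo v₀ this)



variable {G : Type*} [Group G]



theorem relIndex_dvd_index' [Finite G] (R Y : Subgroup G) [R.Normal] : Y.relIndex R ∣ Y.index := by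
  have hYH : Y ≤ Y ⊔ R := le_sup_left
  have h1 := Subgroup.relIndex_mul_index hYH
  have hρ : R.relIndex (Y ⊔ R) = (Y ⊓ R).relIndex Y := by
    rw [Subgroup.relIndex_sup_right, inf_comm, Subgroup.inf_relIndex_right]
  have c1 := Subgroup.relIndex_mul_relIndex (Y ⊓ R) R (Y ⊔ R) inf_le_right le_sup_right
  have c2 := Subgroup.relIndex_mul_relIndex (Y ⊓ R) Y (Y ⊔ R) inf_le_left le_sup_left
  rw [Subgroup.inf_relIndex_right, hρ] at c1
  have hne : (Y ⊓ R).relIndex Y ≠ 0 := by
    rw [Subgroup.relIndex]; exact Subgroup.index_ne_zero_of_finite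
  have : Y.relIndex R = Y.relIndex (Y ⊔ R) := by
    have h3 : (Y ⊓ R).relIndex Y * Y.relIndex R = (Y ⊓ R).relIndex Y * Y.relIndex (Y ⊔ R) := by
      rw [c2, mul_comm, c1]
    exact Nat.eq_of_mul_eq_mul_left (Nat.pos_of_ne_zero hne) h3
  rw [this, ← h1]
  exact dvd_mul_right _ _

theorem exists_last [Group.IsSolvable G] (C : Subgroup G) (hC : C ≠ ⊤) :
    ∃ R : Subgroup G, R.Normal ∧ ¬ R ≤ C ∧ ⁅R, R⁆ ≤ C := by
  classical
  obtain ⟨n, hn⟩ := (Group.isSolvable_def G).1 inferInstance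
  have hex : ∃ i, derivedSeries G i ≤ C := ⟨n, by rw [hn]; exact bot_le⟩
  have h0 : Nat.find hex ≠ 0 := by
    intro h0
    have := Nat.find_spec hex
    rw [h0, derivedSeries_zero] at this
    exact hC (top_le_iff.mp this)
  obtain ⟨k, hk⟩ := Nat.exists_eq_succ_of_ne_zero h0
  refine ⟨derivedSeries G k, inferInstance, ?_, ?_⟩
  · exact Nat.find_min hex (by omega)
  · have := Nat.find_spec hex
    rw [hk, derivedSeries_succ] at this
    exact this


theorem commute_sq_of_inv {k c : G} (h : k * c * k⁻¹ = c⁻¹) : Commute (k ^ 2) c := by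
  have h1 : k * c = c⁻¹ * k := by rw [← h]; group
  have h3 : k * c⁻¹ * k⁻¹ = c := by
    rw [show k * c⁻¹ * k⁻¹ = (k * c * k⁻¹)⁻¹ by group, h, inv_inv]
  have h2 : k * c⁻¹ = c * k := by
    calc k * c⁻¹ = (k * c⁻¹ * k⁻¹) * k := by group
      _ = c * k := by rw [h3]
  show k ^ 2 * c = c * k ^ 2
  rw [pow_two, mul_assoc, h1, ← mul_assoc, h2, mul_assoc]

theorem conj_pow_inv {k c : G} (h : k * c * k⁻¹ = c⁻¹) {m : ℕ} (hm : Odd m) :
    k ^ m * c * (k ^ m)⁻¹ = c⁻¹ := by
  obtain ⟨j, rfl⟩ := hm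
  have hc : Commute ((k ^ 2) ^ j) c⁻¹ := ((commute_sq_of_inv h).pow_left j).inv_right
  rw [pow_succ, pow_mul]
  calc (k ^ 2) ^ j * k * c * ((k ^ 2) ^ j * k)⁻¹
      = (k ^ 2) ^ j * (k * c * k⁻¹) * ((k ^ 2) ^ j)⁻¹ := by group
    _ = (k ^ 2) ^ j * c⁻¹ * ((k ^ 2) ^ j)⁻¹ := by rw [h]
    _ = c⁻¹ := by rw [hc.eq]; group


theorem unique_inv_of_oddCore_bot [Finite G] [Group.IsSolvable G]
    (hamb : ∀ x : G, IsConj x x⁻¹)
    (hone : ∀ s t : G, orderOf s = 2 → orderOf t = 2 → IsConj s t)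
    (hK : Cfsg.oddCore G = ⊥) (s t : G) (hs : orderOf s = 2) (ht : orderOf t = 2) : s = t := by
  by_contra hst
  haveI : Fact (Nat.Prime 2) := ⟨Nat.prime_two⟩
  have hs1 : s ≠ 1 := by intro h; rw [h, orderOf_one] at hs; omega
  -- Step 1: an abelian normal subgroup of even order
  obtain ⟨A, hAn, hAne, hAc⟩ := exists_last (⊥ : Subgroup G) (by
    intro h
    have : s ∈ (⊥ : Subgroup G) := by rw [h]; trivial
    exact hs1 (Subgroup.mem_bot.mp this))
  have hAcomm : ∀ a ∈ A, ∀ b ∈ A, a * b = b * a := by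
    intro a ha b hb
    have := hAc (Subgroup.commutator_mem_commutator ha hb)
    rw [Subgroup.mem_bot, commutatorElement_eq_one_iff_mul_comm] at this
    exact this
  have hA2 : 2 ∣ Nat.card A := by
    by_contra h
    have hodd : Odd (Nat.card A) := Nat.odd_iff.mpr (Nat.two_dvd_ne_zero.mp h)
    have := Cfsg.Agent.Lib.le_oddCore hAn hodd
    rw [hK] at this
    exact hAne this
  obtain ⟨v₀', hv₀'⟩ := exists_prime_orderOf_dvd_card' (G := A) 2 hA2
  have hv₀A : (v₀' : G) ∈ A := v₀'.2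
  have hv₀ : orderOf (v₀' : G) = 2 := by rw [Subgroup.orderOf_coe]; exact hv₀'
  -- Step 2: V = Ω₁(A)
  let V : Subgroup G :=
    { carrier := {a | a ∈ A ∧ a ^ 2 = 1}
      one_mem' := ⟨A.one_mem, one_pow 2⟩
      mul_mem' := fun {a b} ha hb => ⟨A.mul_mem ha.1 hb.1, by
        rw [(show Commute a b from hAcomm a ha.1 b hb.1).mul_pow, ha.2, hb.2, one_mul]⟩
      inv_mem' := fun {a} ha => ⟨A.inv_mem ha.1, by rw [inv_pow, ha.2, inv_one]⟩ }
  have hVmem : ∀ a, a ∈ V ↔ a ∈ A ∧ a ^ 2 = 1 := fun a => Iff.rfl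
  haveI hVn : V.Normal := ⟨fun a ha g => ⟨hAn.conj_mem a ha.1 g, by
    rw [conj_pow, ha.2]; group⟩⟩
  have hinvV : ∀ r : G, orderOf r = 2 → r ∈ V := by
    intro r hr
    obtain ⟨g, hg⟩ := isConj_iff.mp (hone (v₀' : G) r hv₀ hr)
    rw [← hg]
    exact hVn.conj_mem _ ⟨hv₀A, by rw [← hv₀]; exact pow_orderOf_eq_one _⟩ g
  have hVcomm : ∀ a ∈ V, ∀ b ∈ V, a * b = b * a := fun a ha b hb => hAcomm a ha.1 b hb.1
  have hVinv : ∀ a ∈ V, a ≠ 1 → orderOf a = 2 := fun a ha h1 => orderOf_eq_prime ha.2 h1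
  -- Step 3: C = C_G(V)
  set C := Subgroup.centralizer (V : Set G) with hCdef
  haveI hCn : C.Normal := Subgroup.normal_centralizer
  have hCV : ∀ c ∈ C, ∀ v ∈ V, v * c = c * v := fun c hc v hv =>
    (Subgroup.mem_centralizer_iff.mp hc) v hv
  have hCtop : C ≠ ⊤ := by
    intro h
    obtain ⟨g, hg⟩ := isConj_iff.mp (hone s t hs ht)
    have hgC : g ∈ C := by rw [h]; trivial
    have := hCV g hgC s (hinvV s hs)
    apply hst
    rw [← hg, ← this]; group
  -- Step 4: R
  obtain ⟨R, hRn, hRC, hRR⟩ := exists_last C hCtop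
  haveI := hRn
  -- Step 5: an element of odd order in R outside C
  have hstep5 : ∃ x ∈ R, x ∉ C ∧ Odd (orderOf x) := by
    by_contra hcon
    push Not at hcon
    have hodd_in : ∀ y ∈ R, Odd (orderOf y) → y ∈ C := fun y hy ho => by
      by_contra h; exact hcon y hy h ho
    apply hRC
    let T : Sylow 2 G := default
    have hVp : IsPGroup 2 V := fun g => ⟨1, by
      apply Subtype.ext
      simpa using g.2.2⟩
    have hVT : V ≤ T := Cfsg.Agent.Lib.normal_pGroup_le_sylow hVn hVp T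
    haveI : Group.IsNilpotent (T : Subgroup G) := T.2.isNilpotent
    have hHne : V.subgroupOf T ≠ ⊥ := by
      intro h
      have hmem : (⟨(v₀' : G), hVT (hinvV _ hv₀)⟩ : (T : Subgroup G)) ∈ V.subgroupOf T := by
        rw [Subgroup.mem_subgroupOf]; exact hinvV _ hv₀
      rw [h, Subgroup.mem_bot] at hmem
      have h1 : (v₀' : G) = 1 := congrArg Subtype.val hmem
      rw [h1, orderOf_one] at hv₀; omega
    have hcen := Cfsg.Agent.Lib.normal_inf_center_ne_bot (V.subgroupOf T) hHne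
    obtain ⟨z, hz1⟩ := (Subgroup.ne_bot_iff_exists_ne_one).1 hcen
    have hzV : ((z : (T : Subgroup G)) : G) ∈ V := by
      have h' : (z : (T : Subgroup G)) ∈ V.subgroupOf T := z.2.1
      exact Subgroup.mem_subgroupOf.mp h'
    have hzcen : ∀ τ ∈ (T : Subgroup G), τ * ((z : (T : Subgroup G)) : G) = ((z : (T : Subgroup G)) : G) * τ := by
      intro τ hτ
      have := (Subgroup.mem_center_iff.mp z.2.2) ⟨τ, hτ⟩
      exact congrArg Subtype.val this
    set v₁ : G := ((z : (T : Subgroup G)) : G) with hv₁def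
    have hv₁1 : v₁ ≠ 1 := by
      intro h
      apply hz1
      apply Subtype.ext; apply Subtype.ext
      exact h
    set Y := Subgroup.centralizer ({v₁} : Set G) with hYdef
    have hTY : (T : Subgroup G) ≤ Y := by
      intro τ hτ
      rw [hYdef, Subgroup.mem_centralizer_iff]
      intro h hh
      rw [Set.mem_singleton_iff] at hh
      rw [hh]; exact (hzcen τ hτ).symm
    have hYidx : ¬ 2 ∣ Y.index := fun h =>
      T.not_dvd_index (dvd_trans h (Subgroup.index_dvd_of_le hTY))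
    haveI hRCn : (R ⊓ C).Normal := Subgroup.normal_inf_normal R C
    have hq : IsPGroup 2 (R ⧸ (R ⊓ C).subgroupOf R) := by
      intro q
      induction q using QuotientGroup.induction_on with
      | H y =>
        obtain ⟨k, m, hm, hkm⟩ := Nat.exists_eq_two_pow_mul_odd (orderOf_pos (y : G)).ne'
        refine ⟨k, ?_⟩
        rw [← QuotientGroup.mk_pow, QuotientGroup.eq_one_iff, Subgroup.mem_subgroupOf]
        have hyR : ((y : G)) ^ 2 ^ k ∈ R := R.pow_mem y.2 _
        refine ⟨by simpa using hyR, ?_⟩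
        have hodd : Odd (orderOf ((y : G) ^ 2 ^ k)) := by
          have hdvd : orderOf ((y : G) ^ 2 ^ k) ∣ m := by
            apply orderOf_dvd_of_pow_eq_one
            rw [← pow_mul, ← hkm, pow_orderOf_eq_one]
          exact Odd.of_dvd_nat hm hdvd
        simpa using hodd_in _ hyR hodd
    obtain ⟨n, hn⟩ := IsPGroup.iff_card.mp hq
    have hrel : (R ⊓ C).relIndex R = 2 ^ n := by
      rw [Subgroup.relIndex, Subgroup.index_eq_card, hn]
    have hRCY : R ⊓ C ≤ Y := by
      intro c hc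
      rw [hYdef, Subgroup.mem_centralizer_iff]
      intro h hh
      rw [Set.mem_singleton_iff] at hh
      rw [hh]; exact hCV c hc.2 v₁ hzV
    have hd1 : Y.relIndex R ∣ 2 ^ n := hrel ▸ Subgroup.relIndex_dvd_of_le_left R hRCY
    have hd2 : Y.relIndex R ∣ Y.index := relIndex_dvd_index' R Y
    have hone' : Y.relIndex R = 1 := by
      obtain ⟨j, -, hj⟩ := (Nat.dvd_prime_pow Nat.prime_two).1 hd1
      rcases Nat.eq_zero_or_pos j with h0 | h0
      · rw [hj, h0, pow_zero]
      · exfalso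
        apply hYidx
        refine dvd_trans ?_ hd2
        rw [hj]; exact dvd_pow_self 2 h0.ne'
    have hRY : R ≤ Y := Subgroup.relIndex_eq_one.mp hone'
    -- R centralizes every involution
    have hRinv : ∀ r : G, orderOf r = 2 → ∀ y ∈ R, r * y = y * r := by
      intro r hr y hy
      obtain ⟨g, hg⟩ := isConj_iff.mp (hone v₁ r (hVinv v₁ hzV hv₁1) hr)
      have hy' : g⁻¹ * y * g ∈ R := by simpa using hRn.conj_mem y hy g⁻¹
      have := (Subgroup.mem_centralizer_iff.mp (hRY hy')) v₁ (Set.mem_singleton _)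
      rw [← hg]
      calc g * v₁ * g⁻¹ * y = g * (v₁ * (g⁻¹ * y * g)) * g⁻¹ := by group
        _ = g * ((g⁻¹ * y * g) * v₁) * g⁻¹ := by rw [this]
        _ = y * (g * v₁ * g⁻¹) := by group
    intro y hy
    rw [hCdef, Subgroup.mem_centralizer_iff]
    intro a ha
    by_cases ha1 : a = 1
    · rw [ha1, one_mul, mul_one]
    · exact hRinv a (hVinv a ha ha1) y hy
  obtain ⟨x, hxR, hxC, hxodd⟩ := hstep5
  -- Step 6: x acts without fixed points on V
  have hVtype2 : ∀ v : V, v ^ 2 = 1 := fun v => Subtype.ext (by simpa using v.2.2)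
  have hVtypecomm : ∀ a b : V, a * b = b * a := fun a b => Subtype.ext (hVcomm a a.2 b b.2)
  let ρ : G →* MulAut V := MulAut.conjNormal
  have hρ : ∀ (g : G) (v : V), ((ρ g v : V) : G) = g * v * g⁻¹ :=
    fun g v => MulAut.conjNormal_apply g v
  have hρC : ∀ c ∈ C, ρ c = 1 := by
    intro c hc
    apply MulEquiv.ext
    intro v
    apply Subtype.ext
    rw [hρ, MulAut.one_apply]
    have := hCV c hc v v.2
    calc c * (v : G) * c⁻¹ = (v * c) * c⁻¹ := by rw [this]
      _ = v := by group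
  have hRρ : ∀ y ∈ R, ∀ z ∈ R, ρ y * ρ z = ρ z * ρ y := by
    intro y hy z hz
    have hc : ⁅y, z⁆ ∈ C := hRR (Subgroup.commutator_mem_commutator hy hz)
    have h1 : y * z = ⁅y, z⁆ * (z * y) := by rw [commutatorElement_def]; group
    rw [← map_mul, h1, map_mul, hρC _ hc, one_mul, map_mul]
  have htrans : ∀ v w : V, v ≠ 1 → w ≠ 1 → ∃ g : G, ρ g v = w := by
    intro v w hv hw
    have hv' : (v : G) ≠ 1 := fun h => hv (Subtype.ext h)
    have hw' : (w : G) ≠ 1 := fun h => hw (Subtype.ext h)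
    obtain ⟨g, hg⟩ := isConj_iff.mp (hone v w (hVinv v v.2 hv') (hVinv w w.2 hw'))
    exact ⟨g, Subtype.ext (by rw [hρ]; exact hg)⟩
  have hρx : ρ x ≠ 1 := by
    intro h
    apply hxC
    rw [hCdef, Subgroup.mem_centralizer_iff]
    intro a ha
    have h2 : ((ρ x ⟨a, ha⟩ : V) : G) = a := by rw [h, MulAut.one_apply]
    rw [hρ] at h2
    calc a * x = (x * a * x⁻¹) * x := by rw [h2]
      _ = x * a := by group
  have hfix' : ∀ u ∈ V, x * u * x⁻¹ = u → u = 1 := by
    intro u hu h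
    have := fix_trivial hVtypecomm hVtype2 ρ R hRρ htrans x hxR hρx hxodd (pow_orderOf_eq_one x)
      ⟨u, hu⟩ (Subtype.ext (by rw [hρ]; exact h))
    exact congrArg Subtype.val this
  -- Step 7: ambivalence
  obtain ⟨g, hg⟩ := isConj_iff.mp (hamb x)
  obtain ⟨k, m, hm, hkm⟩ := Nat.exists_eq_two_pow_mul_odd (orderOf_pos g).ne'
  obtain ⟨g', hg'def⟩ : ∃ g' : G, g' = g ^ m := ⟨_, rfl⟩
  have hg' : g' * x * g'⁻¹ = x⁻¹ := by rw [hg'def]; exact conj_pow_inv hg hm
  have hg'pow : g' ^ 2 ^ k = 1 := by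
    rw [hg'def, ← pow_mul, mul_comm, ← hkm, pow_orderOf_eq_one]
  have hx1 : x ≠ 1 := fun h => hxC (by rw [h]; exact C.one_mem)
  have hxoddpow : ∀ j : ℕ, x ^ 2 ^ j = 1 → x = 1 := by
    intro j hj
    have h1 : orderOf x ∣ 2 ^ j := orderOf_dvd_of_pow_eq_one hj
    have h2 : Nat.Coprime (orderOf x) (2 ^ j) :=
      Nat.Coprime.pow_right j (Nat.coprime_two_right.mpr hxodd)
    exact orderOf_eq_one_iff.mp (Nat.Coprime.eq_one_of_dvd h2 h1)
  obtain ⟨j, hjk, hj⟩ := (Nat.dvd_prime_pow Nat.prime_two).1 (orderOf_dvd_of_pow_eq_one hg'pow)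
  rcases Nat.eq_zero_or_pos j with h0 | h0
  · rw [h0, pow_zero, orderOf_eq_one_iff] at hj
    rw [hj, one_mul, inv_one, mul_one] at hg'
    apply hx1
    apply hxoddpow 1
    rw [pow_one, pow_two]
    exact mul_eq_one_iff_eq_inv.mpr hg'
  · obtain ⟨z, hzdef⟩ : ∃ z : G, z = g' ^ 2 ^ (j - 1) := ⟨_, rfl⟩
    have hzord : orderOf z = 2 := by
      rw [hzdef, orderOf_pow_of_dvd (pow_ne_zero _ two_ne_zero)
        (by rw [hj]; exact pow_dvd_pow 2 (Nat.sub_le j 1)), hj]
      have : 2 ^ j = 2 ^ (j - 1) * 2 := by rw [← pow_succ]; congr 1; omega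
      rw [this, Nat.mul_div_cancel_left _ (by positivity)]
    have hzV : z ∈ V := hinvV z hzord
    rcases Nat.lt_or_ge 1 j with h2 | h2
    · have hzc : Commute z x := by
        have : z = (g' ^ 2) ^ 2 ^ (j - 2) := by
          rw [hzdef, ← pow_mul]; congr 1; rw [← pow_succ']; congr 1; omega
        rw [this]; exact (commute_sq_of_inv hg').pow_left _
      have := hfix' z hzV (by rw [← hzc.eq]; group)
      rw [this, orderOf_one] at hzord; omega
    · have hj1 : j = 1 := by omega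
      have hzg : z = g' := by rw [hzdef, hj1]; simp
      rw [← hzg] at hg'
      have hmem : x⁻¹ * x⁻¹ ∈ V := by
        have h1 : x * z⁻¹ * x⁻¹ ∈ V := hVn.conj_mem _ (V.inv_mem hzV) x
        have h2 : x⁻¹ * x⁻¹ = z * (x * z⁻¹ * x⁻¹) := by rw [← hg']; group
        rw [h2]; exact V.mul_mem hzV h1
      have h4 : x ^ 2 ^ 2 = 1 := by
        have h5 := hmem.2
        have h6 : (x⁻¹ * x⁻¹) ^ 2 = (x ^ 2 ^ 2)⁻¹ := by group
        rw [h6, inv_eq_one] at h5
        exact h5
      exact hx1 (hxoddpow 2 h4)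


instance oddCore_normal : (Cfsg.oddCore G).Normal := by
  haveI := Cfsg.Agent.Lib.pPrimeCore_characteristic (G := G) 2
  exact Subgroup.normal_of_characteristic _

theorem exists_lift_inv [Finite G] (K : Subgroup G) [K.Normal] (hK : Odd (Nat.card K)) (q : G ⧸ K)
    (hq : orderOf q = 2) : ∃ u : G, orderOf u = 2 ∧ (u : G ⧸ K) = q := by
  obtain ⟨g, rfl⟩ := QuotientGroup.mk_surjective q
  have hq2 : ((g : G ⧸ K)) ^ 2 = 1 := by rw [← hq]; exact pow_orderOf_eq_one _
  have hg2 : g ^ 2 ∈ K := by rw [← QuotientGroup.eq_one_iff, QuotientGroup.mk_pow]; exact hq2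
  have hgm : (g ^ 2) ^ Nat.card K = 1 := by
    have := pow_card_eq_one' (G := K) (x := ⟨g ^ 2, hg2⟩)
    exact congrArg Subtype.val this
  have hmk : ((g ^ Nat.card K : G) : G ⧸ K) = (g : G ⧸ K) := by
    rw [QuotientGroup.mk_pow]
    obtain ⟨k, hk⟩ := hK
    rw [hk, pow_succ, pow_mul, hq2, one_pow, one_mul]
  refine ⟨g ^ Nat.card K, ?_, hmk⟩
  haveI : Fact (Nat.Prime 2) := ⟨Nat.prime_two⟩
  apply orderOf_eq_prime
  · rw [← pow_mul, mul_comm, pow_mul]; exact hgm
  · intro h
    rw [h, QuotientGroup.mk_one] at hmk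
    rw [← hmk, orderOf_one] at hq; omega

theorem oddCore_quotient_eq_bot [Finite G] : Cfsg.oddCore (G ⧸ Cfsg.oddCore G) = ⊥ := by
  haveI : Fact (Nat.Prime 2) := ⟨Nat.prime_two⟩
  set K := Cfsg.oddCore G with hKdef
  have hKodd : Odd (Nat.card K) := Cfsg.Agent.Lib.odd_card_oddCore
  set Nb := Cfsg.oddCore (G ⧸ K) with hNb
  have hNbodd : Odd (Nat.card Nb) := Cfsg.Agent.Lib.odd_card_oddCore
  set N := Nb.comap (QuotientGroup.mk' K) with hN
  have hNn : N.Normal := inferInstance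
  have hNodd : Odd (Nat.card N) := by
    by_contra h
    have h2 : 2 ∣ Nat.card N := by
      rcases Nat.even_or_odd (Nat.card N) with he | ho
      · exact even_iff_two_dvd.mp he
      · exact absurd ho h
    obtain ⟨u', hu'⟩ := exists_prime_orderOf_dvd_card' (G := N) 2 h2
    have hu : orderOf (u' : G) = 2 := by rw [Subgroup.orderOf_coe]; exact hu'
    have hmem : ((u' : G) : G ⧸ K) ∈ Nb := u'.2
    have hd1 : orderOf (((u' : G) : G ⧸ K)) ∣ Nat.card Nb := by
      have := orderOf_dvd_natCard (⟨_, hmem⟩ : Nb)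
      rwa [Subgroup.orderOf_mk] at this
    have hd2 : orderOf (((u' : G) : G ⧸ K)) ∣ 2 := by
      apply orderOf_dvd_of_pow_eq_one
      rw [← QuotientGroup.mk_pow, ← hu, pow_orderOf_eq_one, QuotientGroup.mk_one]
    have h1 : orderOf (((u' : G) : G ⧸ K)) = 1 := by
      have := Nat.dvd_gcd hd2 hd1
      rw [Nat.Coprime.gcd_eq_one (Nat.coprime_two_left.mpr hNbodd)] at this
      exact Nat.dvd_one.mp this
    rw [orderOf_eq_one_iff, QuotientGroup.eq_one_iff] at h1
    have hd3 := orderOf_dvd_natCard (⟨_, h1⟩ : K)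
    rw [Subgroup.orderOf_mk, hu] at hd3
    exact (Nat.not_even_iff_odd.mpr hKodd) (even_iff_two_dvd.mpr hd3)
  have hNK : N ≤ K := Cfsg.Agent.Lib.le_oddCore hNn hNodd
  rw [eq_bot_iff]
  intro q hq
  obtain ⟨g, rfl⟩ := QuotientGroup.mk_surjective q
  rw [Subgroup.mem_bot, QuotientGroup.eq_one_iff]
  exact hNK hq

theorem comm_inv_eq [Finite G] [Group.IsSolvable G]
    (hamb : ∀ x : G, IsConj x x⁻¹)
    (hone : ∀ s t : G, orderOf s = 2 → orderOf t = 2 → IsConj s t)
    (s t : G) (hs : orderOf s = 2) (ht : orderOf t = 2) (hc : Commute s t) : s = t := by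
  haveI : Fact (Nat.Prime 2) := ⟨Nat.prime_two⟩
  set K := Cfsg.oddCore G with hKdef
  have hKodd : Odd (Nat.card K) := Cfsg.Agent.Lib.odd_card_oddCore
  have hamb' : ∀ q : G ⧸ K, IsConj q q⁻¹ := by
    intro q
    obtain ⟨g, rfl⟩ := QuotientGroup.mk_surjective q
    have := (QuotientGroup.mk' K).map_isConj (hamb g)
    simpa using this
  have hone' : ∀ a b : G ⧸ K, orderOf a = 2 → orderOf b = 2 → IsConj a b := by
    intro a b ha hb
    obtain ⟨u, hu, rfl⟩ := exists_lift_inv K hKodd a ha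
    obtain ⟨v, hv, rfl⟩ := exists_lift_inv K hKodd b hb
    exact (QuotientGroup.mk' K).map_isConj (hone u v hu hv)
  have hord : ∀ r : G, orderOf r = 2 → orderOf (r : G ⧸ K) = 2 := by
    intro r hr
    apply orderOf_eq_prime
    · rw [← QuotientGroup.mk_pow, ← hr, pow_orderOf_eq_one, QuotientGroup.mk_one]
    · intro h
      rw [QuotientGroup.eq_one_iff] at h
      have := orderOf_dvd_natCard (⟨r, h⟩ : K)
      rw [Subgroup.orderOf_mk, hr] at this
      exact (Nat.not_even_iff_odd.mpr hKodd) (even_iff_two_dvd.mpr this)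
  have hq := unique_inv_of_oddCore_bot hamb' hone' oddCore_quotient_eq_bot (s : G ⧸ K) (t : G ⧸ K)
    (hord s hs) (hord t ht)
  have hmem : s⁻¹ * t ∈ K := QuotientGroup.eq.mp hq
  have hs2 : s ^ 2 = 1 := by rw [← hs]; exact pow_orderOf_eq_one s
  have ht2 : t ^ 2 = 1 := by rw [← ht]; exact pow_orderOf_eq_one t
  have h2 : (s⁻¹ * t) ^ 2 = 1 := by
    rw [(hc.inv_left).mul_pow, inv_pow, hs2, ht2, inv_one, one_mul]
  have h1 : s⁻¹ * t = 1 := by
    have hd := orderOf_dvd_natCard (⟨s⁻¹ * t, hmem⟩ : K)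
    rw [Subgroup.orderOf_mk] at hd
    have hd2 : orderOf (s⁻¹ * t) ∣ 2 := orderOf_dvd_of_pow_eq_one h2
    have : orderOf (s⁻¹ * t) = 1 := by
      have := Nat.dvd_gcd hd2 hd
      rw [Nat.Coprime.gcd_eq_one (Nat.coprime_two_left.mpr hKodd)] at this
      exact Nat.dvd_one.mp this
    exact orderOf_eq_one_iff.mp this
  exact inv_mul_eq_one.mp h1


theorem eq_one_of_odd_inv {k c : G} (h : k * c * k⁻¹ = c⁻¹) {a : ℕ} (ha : Odd a) (hka : k ^ a = 1)
    {b : ℕ} (hb : Odd b) (hcb : c ^ b = 1) : c = 1 := by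
  have h1 := conj_pow_inv h ha
  rw [hka, one_mul, inv_one, mul_one] at h1
  have h2 : c ^ 2 = 1 := by rw [pow_two]; exact mul_eq_one_iff_eq_inv.mpr h1
  exact eq_one_of_sq_of_odd h2 hb hcb

/-- all involutions of a Sylow 2-subgroup coincide -/
theorem sylow_inv_eq [Finite G] [Group.IsSolvable G]
    (hamb : ∀ x : G, IsConj x x⁻¹) (heven : 2 ∣ Nat.card G)
    (hone : ∀ s t : G, orderOf s = 2 → orderOf t = 2 → IsConj s t) (S : Sylow 2 G)
    (a b : G) (ha : a ∈ S) (hb : b ∈ S) (hao : orderOf a = 2) (hbo : orderOf b = 2) : a = b := by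
  haveI : Fact (Nat.Prime 2) := ⟨Nat.prime_two⟩
  have hS2 : 2 ∣ Nat.card S := S.dvd_card_of_dvd_card heven
  haveI : Nontrivial S := by
    rw [← Finite.one_lt_card_iff_nontrivial]
    exact lt_of_lt_of_le (by norm_num) (Nat.le_of_dvd Nat.card_pos hS2)
  haveI := S.2.center_nontrivial
  have hcp : IsPGroup 2 (Subgroup.center S) := S.2.to_subgroup _
  have hc2 : 2 ∣ Nat.card (Subgroup.center S) := by
    rcases hcp.card_eq_or_dvd with h | h
    · exfalso
      have := Finite.one_lt_card_iff_nontrivial.mpr (inferInstance : Nontrivial (Subgroup.center S))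
      omega
    · exact h
  obtain ⟨z, hz⟩ := exists_prime_orderOf_dvd_card' (G := Subgroup.center S) 2 hc2
  have hzo : orderOf (((z : S) : G)) = 2 := by
    rw [Subgroup.orderOf_coe, Subgroup.orderOf_coe]; exact hz
  have hzc : ∀ y : G, y ∈ S → Commute y ((z : S) : G) := by
    intro y hy
    have := (Subgroup.mem_center_iff.mp z.2) ⟨y, hy⟩
    exact congrArg Subtype.val this
  have h1 := comm_inv_eq hamb hone a _ hao hzo (hzc a ha)
  have h2 := comm_inv_eq hamb hone b _ hbo hzo (hzc b hb)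
  rw [h1, h2]


/-- Let G be a finite solvable group of even order in which every element is conjugate to its inverse and all involutions are conjugate. Then a Sylow 2-subgroup S of G has order 2 or is a generalized quaternion group (of order at least 8). Moreover, if S has order 2, then G is the semidirect product of its largest normal subgroup of odd order O(G) by S, O(G) equals the derived subgroup of G, and the involution of S inverts every element of O(G). -/
theorem result {G : Type*} [Group G] [Finite G] [Group.IsSolvable G]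
    (hamb : ∀ x : G, IsConj x x⁻¹) (heven : 2 ∣ Nat.card G) (hone : ∀ s t : G, orderOf s = 2 → orderOf t = 2 → IsConj s t) (S : Sylow 2 G) :
    (Nat.card S = 2 ∨ ∃ n : ℕ, Nonempty ((S : Subgroup G) ≃* QuaternionGroup (2 ^ (n + 1)))) ∧
    (Nat.card S = 2 → (S : Subgroup G).IsComplement' (Cfsg.oddCore G) ∧ Cfsg.oddCore G = commutator G ∧
        ∀ t : G, t ∈ S → t ≠ 1 → ∀ x : G, x ∈ Cfsg.oddCore G → t * x * t⁻¹ = x⁻¹) := by
  haveI : Fact (Nat.Prime 2) := ⟨Nat.prime_two⟩
  have hminfac : (Nat.card G).minFac = 2 := (Nat.minFac_eq_two_iff _).2 heven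
  have hS2 : 2 ∣ Nat.card S := S.dvd_card_of_dvd_card heven
  have hidx : ¬ 2 ∣ (S : Subgroup G).index := S.not_dvd_index
  have hidxodd : Odd (S : Subgroup G).index := Nat.odd_iff.mpr (Nat.two_dvd_ne_zero.mp hidx)
  -- facts valid whenever S is cyclic
  have hcyc_facts : IsCyclic S → ∃ (hNC : Subgroup.normalizer (S : Set G) ≤ Subgroup.centralizer (S : Set G)),
      (∀ a b : S, a * b = b * a) ∧ (∀ s ∈ S, s ^ 2 = 1) := by
    intro hcyc
    have hNC := hcyc.normalizer_le_centralizer hminfac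
    have hScomm : ∀ a b : S, a * b = b * a := fun a b =>
      Subtype.ext (hNC (Subgroup.le_normalizer b.2) a a.2)
    refine ⟨hNC, hScomm, ?_⟩
    intro s hs
    obtain ⟨c, hc⟩ := isConj_iff.mp (hamb s)
    set f := MonoidHom.transferSylow S hNC with hf
    have h1 : f s = (f s)⁻¹ := by
      have : f (c * s * c⁻¹) = f s := by
        rw [map_mul, map_mul, map_inv, hScomm (f c) (f s), mul_assoc, mul_inv_cancel, mul_one]
      rw [hc, map_inv] at this
      exact this.symm
    have h2 : (f s) ^ 2 = 1 := by rw [pow_two]; exact mul_eq_one_iff_eq_inv.mpr h1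
    have h3 : (s ^ (S : Subgroup G).index) ^ 2 = 1 := by
      have := MonoidHom.transferSylow_eq_pow S hNC s hs
      rw [← hf] at this
      rw [this] at h2
      exact congrArg Subtype.val h2
    obtain ⟨b, hb⟩ := (IsPGroup.iff_orderOf.mp S.2) ⟨s, hs⟩
    rw [Subgroup.orderOf_mk] at hb
    have hd : 2 ^ b ∣ (S : Subgroup G).index * 2 := by
      rw [← hb]; apply orderOf_dvd_of_pow_eq_one; rw [pow_mul]; exact h3
    have hb1 : b ≤ 1 := by
      by_contra hlt
      push Not at hlt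
      have h4 : 2 ^ 2 ∣ (S : Subgroup G).index * 2 := dvd_trans (pow_dvd_pow 2 hlt) hd
      have h5 : 2 ∣ (S : Subgroup G).index := by
        have : 2 * 2 ∣ (S : Subgroup G).index * 2 := by simpa [pow_two] using h4
        exact Nat.dvd_of_mul_dvd_mul_right (by norm_num) this
      exact hidx h5
    apply orderOf_dvd_iff_pow_eq_one.mp
    rw [hb]; exact pow_dvd_pow 2 hb1 |>.trans (by norm_num)
  have hu : Cfsg.Agent.Helper73.UniqueOrderP 2 (S : Subgroup G) := by
    intro x y hx hy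
    have hxo : orderOf (x : G) = 2 := by rw [Subgroup.orderOf_coe]; exact hx
    have hyo : orderOf (y : G) = 2 := by rw [Subgroup.orderOf_coe]; exact hy
    have := sylow_inv_eq hamb heven hone S x y x.2 y.2 hxo hyo
    have hxy : x = y := Subtype.ext this
    rw [hxy]; exact Subgroup.mem_zpowers y
  refine ⟨?_, ?_⟩
  · rcases Cfsg.Agent.Helper73.cyclic_or_quaternion S.2 hu with hcyc | ⟨-, n, hn, ⟨e⟩⟩
    · left
      obtain ⟨hNC, hScomm, hsq⟩ := hcyc_facts hcyc
      obtain ⟨γ, hγ⟩ := hcyc.exists_generator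
      have hγ2 : γ ^ 2 = 1 := Subtype.ext (by simpa using hsq γ γ.2)
      have hcard : Nat.card S = orderOf γ := (orderOf_eq_card_of_forall_mem_zpowers hγ).symm
      have hle : Nat.card S ≤ 2 := by
        rw [hcard]; exact Nat.le_of_dvd (by norm_num) (orderOf_dvd_of_pow_eq_one hγ2)
      have hge : 2 ≤ Nat.card S := Nat.le_of_dvd Nat.card_pos hS2
      omega
    · right
      obtain ⟨n', rfl⟩ : ∃ n', n = n' + 1 := ⟨n - 1, by omega⟩
      exact ⟨n', ⟨e⟩⟩
  · intro hcard2
    have hcyc : IsCyclic S := isCyclic_of_prime_card hcard2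
    obtain ⟨hNC, hScomm, hsq⟩ := hcyc_facts hcyc
    set f := MonoidHom.transferSylow S hNC with hf
    have hcompl : f.ker.IsComplement' S := MonoidHom.ker_transferSylow_isComplement' S hNC
    have hKndvd : ¬ 2 ∣ Nat.card f.ker := MonoidHom.not_dvd_card_ker_transferSylow S hNC
    have hKodd : Odd (Nat.card f.ker) := Nat.odd_iff.mpr (Nat.two_dvd_ne_zero.mp hKndvd)
    have hKeq : Cfsg.oddCore G = f.ker := by
      apply le_antisymm
      · intro x hx
        rw [MonoidHom.mem_ker]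
        have hd1 : orderOf (f x) ∣ Nat.card (Cfsg.oddCore G) :=
          dvd_trans (orderOf_map_dvd f x) (by
            have := orderOf_dvd_natCard (⟨x, hx⟩ : Cfsg.oddCore G)
            rwa [Subgroup.orderOf_mk] at this)
        have hd2 : orderOf (f x) ∣ 2 := by
          have := orderOf_dvd_natCard (f x)
          rwa [hcard2] at this
        have := Nat.dvd_gcd hd2 hd1
        rw [Nat.Coprime.gcd_eq_one (Nat.coprime_two_left.mpr Cfsg.Agent.Lib.odd_card_oddCore)] at this
        exact orderOf_eq_one_iff.mp (Nat.dvd_one.mp this)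
      · exact Cfsg.Agent.Lib.le_oddCore (MonoidHom.normal_ker f) hKodd
    rw [hKeq]
    have hKord : ∀ x ∈ f.ker, Odd (orderOf x) := fun x hx => by
      have := orderOf_dvd_natCard (⟨x, hx⟩ : f.ker)
      rw [Subgroup.orderOf_mk] at this
      exact Odd.of_dvd_nat hKodd this
    refine ⟨hcompl.symm, ?_, ?_⟩
    · apply le_antisymm
      · intro x hx
        obtain ⟨g, hg⟩ := isConj_iff.mp (hamb x)
        have hcm : ⁅g, x⁆ ∈ commutator G := by
          rw [commutator_def]
          exact Subgroup.commutator_mem_commutator (Subgroup.mem_top g) (Subgroup.mem_top x)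
        have hcm' : ⁅g, x⁆ = (x ^ 2)⁻¹ := by rw [commutatorElement_def, hg]; group
        have hx2 : x ^ 2 ∈ commutator G := by
          have := (commutator G).inv_mem hcm
          rwa [hcm', inv_inv] at this
        obtain ⟨j, hj⟩ := hKord x hx
        have : x = (x ^ 2) ^ (j + 1) := by
          rw [← pow_mul, show 2 * (j + 1) = orderOf x + 1 by omega, pow_succ, pow_orderOf_eq_one,
            one_mul]
        rw [this]; exact (commutator G).pow_mem hx2 _
      · rw [commutator_def, Subgroup.commutator_le]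
        intro a _ b _
        rw [MonoidHom.mem_ker, map_commutatorElement, commutatorElement_eq_one_iff_mul_comm]
        exact hScomm _ _
    · intro t htS ht1 x hxK
      have ht2 : t ^ 2 = 1 := hsq t htS
      have htt : t * t = 1 := by rw [← pow_two]; exact ht2
      have ht_inv : t⁻¹ = t := inv_eq_of_mul_eq_one_left htt
      have hft : f t = ⟨t, htS⟩ := by
        have := MonoidHom.transferSylow_eq_pow S hNC t htS
        rw [← hf] at this
        rw [this]
        apply Subtype.ext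
        obtain ⟨j, hj⟩ := hidxodd
        show t ^ (S : Subgroup G).index = t
        rw [hj, pow_succ, pow_mul, ht2, one_pow, one_mul]
      have hS12 : ∀ s : S, s = 1 ∨ s = ⟨t, htS⟩ := by
        intro s
        by_contra hcon
        push Not at hcon
        obtain ⟨y, -, hy⟩ := (Nat.card_eq_two_iff' (1 : S)).mp hcard2
        have h1 := hy s hcon.1
        have h2 := hy ⟨t, htS⟩ (fun h => ht1 (congrArg Subtype.val h))
        exact hcon.2 (h1.trans h2.symm)
      have hdec : ∀ g : G, g ∈ f.ker ∨ g * t⁻¹ ∈ f.ker := by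
        intro g
        rcases hS12 (f g) with h | h
        · left; exact MonoidHom.mem_ker.mpr h
        · right
          rw [MonoidHom.mem_ker, map_mul, map_inv, h, hft, mul_inv_cancel]
      have hCK : ∀ c ∈ f.ker, t * c = c * t → c = 1 := by
        intro c hcK hct
        obtain ⟨g, hg⟩ := isConj_iff.mp (hamb (c * t))
        obtain ⟨j, hj⟩ := hKord c hcK
        have hcomm : Commute c t := hct.symm
        have h1 : (c * t) ^ orderOf c = t := by
          rw [hcomm.mul_pow, pow_orderOf_eq_one, one_mul, hj, pow_succ, pow_mul, ht2, one_pow,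
            one_mul]
        have h2 : (c * t) ^ (orderOf c + 1) = c := by
          rw [hcomm.mul_pow, pow_succ, pow_orderOf_eq_one, one_mul,
            show orderOf c + 1 = 2 * (j + 1) by omega, pow_mul, ht2, one_pow, mul_one]
        have hgt : g * t * g⁻¹ = t := by
          calc g * t * g⁻¹ = g * (c * t) ^ orderOf c * g⁻¹ := by rw [h1]
            _ = (g * (c * t) * g⁻¹) ^ orderOf c := by rw [conj_pow]
            _ = ((c * t)⁻¹) ^ orderOf c := by rw [hg]
            _ = ((c * t) ^ orderOf c)⁻¹ := inv_pow _ _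
            _ = t⁻¹ := by rw [h1]
            _ = t := ht_inv
        have hgc : g * c * g⁻¹ = c⁻¹ := by
          calc g * c * g⁻¹ = g * (c * t) ^ (orderOf c + 1) * g⁻¹ := by rw [h2]
            _ = (g * (c * t) * g⁻¹) ^ (orderOf c + 1) := by rw [conj_pow]
            _ = ((c * t)⁻¹) ^ (orderOf c + 1) := by rw [hg]
            _ = ((c * t) ^ (orderOf c + 1))⁻¹ := inv_pow _ _
            _ = c⁻¹ := by rw [h2]
        rcases hdec g with hgK | hgK
        · exact eq_one_of_odd_inv hgc (hKord g hgK) (pow_orderOf_eq_one g) (hKord c hcK)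
            (pow_orderOf_eq_one c)
        · have hk : (g * t⁻¹) * c * (g * t⁻¹)⁻¹ = c⁻¹ := by
            have h3 : t⁻¹ * c * t = c := by rw [ht_inv, hct, mul_assoc, htt, mul_one]
            calc (g * t⁻¹) * c * (g * t⁻¹)⁻¹ = g * (t⁻¹ * c * t) * g⁻¹ := by group
              _ = g * c * g⁻¹ := by rw [h3]
              _ = c⁻¹ := hgc
          exact eq_one_of_odd_inv hk (hKord _ hgK) (pow_orderOf_eq_one _) (hKord c hcK)
            (pow_orderOf_eq_one c)
      -- the map a ↦ a⁻¹ * (t a t⁻¹) on K is injective, hence surjective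
      haveI hKn : f.ker.Normal := MonoidHom.normal_ker f
      let φ : f.ker → f.ker := fun a => ⟨(a : G)⁻¹ * (t * a * t⁻¹),
        f.ker.mul_mem (f.ker.inv_mem a.2) (hKn.conj_mem a a.2 t)⟩
      have hφinj : Function.Injective φ := by
        intro a b hab
        have h1 : (a : G)⁻¹ * (t * a * t⁻¹) = (b : G)⁻¹ * (t * b * t⁻¹) := congrArg Subtype.val hab
        have h2 : t * ((b : G) * (a : G)⁻¹) = ((b : G) * (a : G)⁻¹) * t := by
          have h3 : (a : G)⁻¹ * t * a = (b : G)⁻¹ * t * b := by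
            calc (a : G)⁻¹ * t * a = ((a : G)⁻¹ * (t * a * t⁻¹)) * t := by group
              _ = ((b : G)⁻¹ * (t * b * t⁻¹)) * t := by rw [h1]
              _ = (b : G)⁻¹ * t * b := by group
          calc t * ((b : G) * (a : G)⁻¹) = b * ((b : G)⁻¹ * t * b) * (a : G)⁻¹ := by group
            _ = b * ((a : G)⁻¹ * t * a) * (a : G)⁻¹ := by rw [h3]
            _ = ((b : G) * (a : G)⁻¹) * t := by group
        have h4 := hCK _ (f.ker.mul_mem b.2 (f.ker.inv_mem a.2)) h2
        apply Subtype.ext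
        exact (mul_inv_eq_one.mp h4).symm
      have hφsurj : Function.Surjective φ := Finite.injective_iff_surjective.mp hφinj
      obtain ⟨a, ha⟩ := hφsurj ⟨x, hxK⟩
      have hxa : x = (a : G)⁻¹ * (t * a * t⁻¹) := (congrArg Subtype.val ha).symm
      rw [hxa, ht_inv]
      calc t * ((a : G)⁻¹ * (t * a * t)) * t = t * (a : G)⁻¹ * t * a * (t * t) := by group
        _ = t * (a : G)⁻¹ * t * a := by rw [htt, mul_one]
        _ = ((a : G)⁻¹ * (t * a * t))⁻¹ := by
          rw [mul_inv_rev, mul_inv_rev, mul_inv_rev, inv_inv, ht_inv]; group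

end Cfsg.Agent.S4061
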