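-- Statement S4066: if every element centralizer is TI then distinct Sylow p-subgroups meet trivially.
import Mathlib
import Cfsg.Statements.S4066

set_option autoImplicit false
open Cfsg

namespace Cfsg.Agent.S4066

/-- Contrapositive form of the TI hypothesis. -/
theorem mem_normalizer_of_ti {G : Type*} [Group G]
    (hTI : ∀ x : G, Cfsg.IsTISubset (Subgroup.centralizer ({x} : Set G) : Set G))
    (x g u : G) (hu : u ∈ Subgroup.centralizer ({x} : Set G)) (hu1 : u ≠ 1)
    (hgu : g * u * g⁻¹ ∈ Subgroup.centralizer ({x} : Set G)) :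
    g ∈ Subgroup.normalizer (Subgroup.centralizer ({x} : Set G) : Set G) := by
  by_contra h
  exact hu1 (hTI x g h u hu hgu)

/-- In a group where every element commutes with all its conjugates, the normal closure of a
`p`-element is a `p`-group. -/
theorem isPGroup_normalClosure {K : Type*} [Group K]
    (hE : ∀ a m : K, Commute (m * a * m⁻¹) a) (p : ℕ) (a : K) (ha : ∃ k : ℕ, a ^ (p ^ k) = 1) :
    IsPGroup p (Subgroup.normalClosure ({a} : Set K)) := by
  obtain ⟨ka, hka⟩ := ha
  -- the generating set consists of pairwise commuting elements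
  have hS : ∀ x ∈ Group.conjugatesOfSet ({a} : Set K), ∀ y ∈ Group.conjugatesOfSet ({a} : Set K),
      x * y = y * x := by
    intro x hx y hy
    rw [Group.mem_conjugatesOfSet_iff] at hx hy
    obtain ⟨a1, ha1, hx⟩ := hx
    obtain ⟨a2, ha2, hy⟩ := hy
    rw [Set.mem_singleton_iff] at ha1 ha2
    rw [ha1] at hx
    rw [ha2] at hy
    obtain ⟨c, rfl⟩ := isConj_iff.mp hx
    obtain ⟨d, rfl⟩ := isConj_iff.mp hy
    -- d a d⁻¹ = (d c⁻¹) (c a c⁻¹) (d c⁻¹)⁻¹
    have h1 := hE (c * a * c⁻¹) (d * c⁻¹)
    have e : d * c⁻¹ * (c * a * c⁻¹) * (d * c⁻¹)⁻¹ = d * a * d⁻¹ := by group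
    rw [e] at h1
    exact h1.symm.eq
  haveI hcomm : IsMulCommutative (Subgroup.closure (Group.conjugatesOfSet ({a} : Set K))) :=
    Subgroup.isMulCommutative_closure hS
  have hcomm' : ∀ x ∈ Subgroup.closure (Group.conjugatesOfSet ({a} : Set K)),
      ∀ y ∈ Subgroup.closure (Group.conjugatesOfSet ({a} : Set K)), Commute x y := by
    intro x hx y hy
    have := hcomm.is_comm.comm (⟨x, hx⟩ : Subgroup.closure (Group.conjugatesOfSet ({a} : Set K))) ⟨y, hy⟩
    exact congrArg Subtype.val this
  have key : ∀ g ∈ Subgroup.closure (Group.conjugatesOfSet ({a} : Set K)), ∃ k : ℕ, g ^ (p ^ k) = 1 := by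
    intro g hg
    induction hg using Subgroup.closure_induction with
    | mem x hx =>
      rw [Group.mem_conjugatesOfSet_iff] at hx
      obtain ⟨a1, ha1, hx⟩ := hx
      rw [Set.mem_singleton_iff] at ha1
      rw [ha1] at hx
      obtain ⟨c, rfl⟩ := isConj_iff.mp hx
      exact ⟨ka, by rw [conj_pow, hka]; group⟩
    | one => exact ⟨0, by simp⟩
    | mul x y hx hy ihx ihy =>
      obtain ⟨kx, hkx⟩ := ihx
      obtain ⟨ky, hky⟩ := ihy
      refine ⟨kx + ky, ?_⟩
      rw [(hcomm' x hx y hy).mul_pow, pow_add, pow_mul, hkx, one_pow, one_mul, mul_comm (p ^ kx), pow_mul,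
        hky, one_pow]
    | inv x hx ih =>
      obtain ⟨kx, hkx⟩ := ih
      exact ⟨kx, by rw [inv_pow, hkx, inv_one]⟩
  intro g
  obtain ⟨k, hk⟩ := key g.1 g.2
  exact ⟨k, Subtype.ext (by simpa using hk)⟩

/-- In a finite group where every element commutes with all its conjugates, there is only one
Sylow `p`-subgroup. -/
theorem sylow_unique_of_engel {K : Type*} [Group K] [Finite K]
    (hE : ∀ a m : K, Commute (m * a * m⁻¹) a) {p : ℕ} [Fact p.Prime] (P Q : Sylow p K) : P = Q := by
  have hle : (P : Subgroup K) ≤ Q := by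
    intro a ha
    have hap : ∃ k : ℕ, a ^ (p ^ k) = 1 := by
      obtain ⟨k, hk⟩ := P.isPGroup' ⟨a, ha⟩
      exact ⟨k, by simpa using congrArg Subtype.val hk⟩
    have hN := isPGroup_normalClosure hE p a hap
    have hsup : IsPGroup p ↥(Subgroup.normalClosure ({a} : Set K) ⊔ (Q : Subgroup K)) :=
      IsPGroup.to_sup_of_normal_left hN Q.isPGroup'
    have heq := Q.is_maximal' hsup le_sup_right
    have : a ∈ Subgroup.normalClosure ({a} : Set K) ⊔ (Q : Subgroup K) :=
      Subgroup.mem_sup_left (Subgroup.subset_normalClosure (Set.mem_singleton a))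
    rw [heq] at this
    exact this
  by_contra hne
  have h2 : (Q : Subgroup K) = P := P.is_maximal' Q.isPGroup' hle
  exact hne (Sylow.ext h2.symm)

/-- Let G be a finite group in which the centralizer of every element meets each of its conjugates by elements outside its normalizer trivially. Then any two distinct Sylow p-subgroups of G, for any prime p, intersect trivially. -/
theorem result {G : Type*} [Group G] [Finite G] (hTI : ∀ x : G, Cfsg.IsTISubset (Subgroup.centralizer ({x} : Set G) : Set G))
    {p : ℕ} [Fact p.Prime] (P Q : Sylow p G) (hPQ : P ≠ Q) : (P : Subgroup G) ⊓ (Q : Subgroup G) = ⊥ := by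
  by_contra hne
  obtain ⟨⟨y, hy⟩, hy1⟩ := Subgroup.ne_bot_iff_exists_ne_one.mp hne
  have hy1' : y ≠ 1 := fun h => hy1 (Subtype.ext h)
  obtain ⟨hyP, hyQ⟩ := Subgroup.mem_inf.mp hy
  -- a nontrivial central element of P
  haveI : Nontrivial (P : Subgroup G) := ⟨⟨⟨y, hyP⟩, 1, fun h => hy1' (congrArg Subtype.val h)⟩⟩
  haveI := IsPGroup.center_nontrivial (P.isPGroup')
  obtain ⟨⟨z, hz⟩, hz1⟩ := exists_ne (1 : Subgroup.center (P : Subgroup G))
  set x : G := (z : G) with hx
  have hxP : x ∈ (P : Subgroup G) := z.2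
  have hx1 : x ≠ 1 := by
    intro h
    apply hz1
    apply Subtype.ext
    apply Subtype.ext
    exact h
  have hxc : ∀ w ∈ (P : Subgroup G), w * x = x * w := by
    intro w hw
    have := Subgroup.mem_center_iff.mp hz ⟨w, hw⟩
    exact congrArg Subtype.val this
  -- Q is a conjugate of P
  obtain ⟨h, hh⟩ := MulAction.exists_smul_eq G P Q
  have hQmem : ∀ q : G, q ∈ (Q : Subgroup G) ↔ h⁻¹ * q * h ∈ (P : Subgroup G) := by
    intro q
    rw [← hh, Sylow.coe_subgroup_smul, Subgroup.mem_pointwise_smul_iff_inv_smul_mem, MulAut.smul_def,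
      MulAut.conj_inv_apply]
  set M : Subgroup G := Subgroup.centralizer ({x} : Set G) with hM
  have hPM : (P : Subgroup G) ≤ M := by
    intro w hw
    rw [hM, Subgroup.mem_centralizer_singleton_iff]
    exact hxc w hw
  -- h normalizes M
  have hhN : h ∈ Subgroup.normalizer (M : Set G) := by
    apply mem_normalizer_of_ti hTI x h (h⁻¹ * y * h) (hPM ((hQmem y).mp hyQ))
    · intro hcon
      apply hy1'
      have : y = h * (h⁻¹ * y * h) * h⁻¹ := by group
      rw [this, hcon]; group
    · have : h * (h⁻¹ * y * h) * h⁻¹ = y := by group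
      rw [this]
      exact hPM hyP
  have hQM : (Q : Subgroup G) ≤ M := by
    intro q hq
    have h1 := hPM ((hQmem q).mp hq)
    have h2 := (Subgroup.mem_normalizer_iff.mp hhN (h⁻¹ * q * h)).mp h1
    have : h * (h⁻¹ * q * h) * h⁻¹ = q := by group
    rwa [this] at h2
  -- every element of M commutes with its M-conjugates
  have hE : ∀ a m : M, Commute (m * a * m⁻¹) a := by
    intro a m
    have ha : (a : G) * x = x * a := Subgroup.mem_centralizer_singleton_iff.mp a.2
    have hm : (m : G) * x = x * m := Subgroup.mem_centralizer_singleton_iff.mp m.2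
    have hxa : x ∈ Subgroup.centralizer ({(a : G)} : Set G) := by
      rw [Subgroup.mem_centralizer_singleton_iff]; exact ha.symm
    have hmN : (m : G) ∈ Subgroup.normalizer (Subgroup.centralizer ({(a : G)} : Set G) : Set G) := by
      apply mem_normalizer_of_ti hTI a m x hxa hx1
      have : (m : G) * x * (m : G)⁻¹ = x := by rw [hm]; group
      rw [this]; exact hxa
    have haa : (a : G) ∈ Subgroup.centralizer ({(a : G)} : Set G) := by
      rw [Subgroup.mem_centralizer_singleton_iff]
    have := (Subgroup.mem_normalizer_iff.mp hmN a).mp haa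
    rw [Subgroup.mem_centralizer_singleton_iff] at this
    apply Subtype.ext
    exact this
  have := sylow_unique_of_engel hE (P.subtype hPM) (Q.subtype hQM)
  have h2 := congrArg (fun S : Sylow p M => (S : Subgroup M)) this
  simp only [Sylow.coe_subtype] at h2
  rw [Subgroup.subgroupOf_inj, inf_eq_left.mpr hPM, inf_eq_left.mpr hQM] at h2
  exact hPQ (Sylow.ext h2)

end Cfsg.Agent.S4066
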