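import Mathlib
import Cfsg.Statements.S4072
import Cfsg.Agent.Helper1.PGroup

set_option autoImplicit false
open Cfsg
set_option linter.style.haveILetI false

namespace Cfsg.Agent.S4072

open Subgroup
open scoped commutatorElement

/-- the hypothesis: every nonabelian subgroup is self-normalizing -/
def SN (G : Type*) [Group G] : Prop :=
  ∀ H : Subgroup G, ¬ IsMulCommutative H → Subgroup.normalizer (H : Set G) = H

/-- image of an abelian subgroup is abelian -/
theorem isMulCommutative_map {G G' : Type*} [Group G] [Group G'] (f : G →* G') (H : Subgroup G)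
    (h : IsMulCommutative H) : IsMulCommutative (H.map f) := by
  refine ⟨⟨?_⟩⟩
  rintro ⟨a, ⟨a', ha', rfl⟩⟩ ⟨b, ⟨b', hb', rfl⟩⟩
  apply Subtype.ext
  have := h.is_comm.comm ⟨a', ha'⟩ ⟨b', hb'⟩
  have h2 : a' * b' = b' * a' := congrArg Subtype.val this
  show f a' * f b' = f b' * f a'
  rw [← map_mul, h2, map_mul]

theorem SN.quotient {G : Type*} [Group G] (h : SN G) (N : Subgroup G) [N.Normal] : SN (G ⧸ N) := by
  intro H hH
  have hsurj : Function.Surjective (QuotientGroup.mk' N) := QuotientGroup.mk'_surjective N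
  have hna : ¬ IsMulCommutative (H.comap (QuotientGroup.mk' N)) := by
    intro hc
    apply hH
    have := isMulCommutative_map (QuotientGroup.mk' N) _ hc
    rwa [Subgroup.map_comap_eq_self_of_surjective hsurj] at this
  have h1 := h _ hna
  rw [← Subgroup.comap_normalizer_eq_of_surjective H hsurj] at h1
  exact Subgroup.comap_injective hsurj h1

theorem SN.abelian_of_normal {G : Type*} [Group G] (h : SN G) (N : Subgroup G) [hN : N.Normal]
    (hne : N ≠ ⊤) : IsMulCommutative N := by
  by_contra hna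
  have h1 := h N hna
  rw [Subgroup.normalizer_eq_top_iff.mpr hN] at h1
  exact hne h1.symm


theorem comm_of_cyclic_selfnormalizing {K : Type*} [Group K] [Finite K] [IsSimpleGroup K]
    (h : ∀ x : K, x ≠ 1 → normalizer ((zpowers x : Subgroup K) : Set K) = zpowers x) :
    ∀ a b : K, a * b = b * a := by
  have hcard : Nat.card K ≠ 1 := by
    intro h1
    haveI := (Nat.card_eq_one_iff_unique.mp h1).1
    exact not_subsingleton K inferInstance
  obtain ⟨r, hr, hrdvd⟩ := Nat.exists_prime_and_dvd hcard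
  haveI : Fact r.Prime := ⟨hr⟩
  obtain ⟨R⟩ : Nonempty (Sylow r K) := inferInstance
  have hRcard : r ∣ Nat.card (R : Subgroup K) := by
    rw [R.card_eq_multiplicity]
    exact dvd_pow_self r (Nat.factorization_def _ hr ▸ (hr.factorization_pos_of_dvd Nat.card_pos.ne' hrdvd).ne')
  haveI : Nontrivial (R : Subgroup K) := by
    rw [← Finite.one_lt_card_iff_nontrivial]
    exact lt_of_lt_of_le hr.one_lt (Nat.le_of_dvd Nat.card_pos hRcard)
  haveI := R.2.center_nontrivial
  obtain ⟨z, hz⟩ := exists_ne (1 : center (R : Subgroup K))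
  set x : K := ((z : (R : Subgroup K)) : K) with hx
  have hx1 : x ≠ 1 := by
    intro h1
    apply hz
    apply Subtype.ext
    apply Subtype.ext
    exact h1
  have hxR : x ∈ (R : Subgroup K) := (z : (R : Subgroup K)).2
  have hcomm : ∀ g ∈ (R : Subgroup K), g * x = x * g := by
    intro g hg
    have := Subgroup.mem_center_iff.mp z.2 ⟨g, hg⟩
    exact congrArg Subtype.val this
  have hRle : (R : Subgroup K) ≤ zpowers x := by
    rw [← h x hx1]
    intro g hg
    rw [Subgroup.mem_normalizer_iff]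
    intro y
    have hgx : g * x * g⁻¹ = x := by rw [hcomm g hg, mul_inv_cancel_right]
    have hconj : ∀ i : ℤ, g * x ^ i * g⁻¹ = x ^ i := by
      intro i; rw [← conj_zpow, hgx]
    constructor
    · rintro ⟨i, rfl⟩
      exact ⟨i, (hconj i).symm⟩
    · rintro ⟨i, hi⟩
      refine ⟨i, ?_⟩
      have hi' : x ^ i = g * y * g⁻¹ := hi
      have e1 : g⁻¹ * x ^ i * g = x ^ i := by
        conv_lhs => rw [← hconj i]
        group
      show x ^ i = y
      calc x ^ i = g⁻¹ * x ^ i * g := e1.symm
        _ = g⁻¹ * (g * y * g⁻¹) * g := by rw [hi']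
        _ = y := by group
  have hReq : (R : Subgroup K) = zpowers x := le_antisymm hRle (by rw [zpowers_le]; exact hxR)
  have hP : normalizer ((R : Subgroup K) : Set K) ≤ centralizer ((R : Subgroup K) : Set K) := by
    rw [hReq, h x hx1]
    intro a ha
    rw [Subgroup.mem_centralizer_iff]
    intro b hb
    obtain ⟨i, rfl⟩ := Subgroup.mem_zpowers_iff.mp ha
    obtain ⟨j, rfl⟩ := Subgroup.mem_zpowers_iff.mp hb
    exact (Commute.refl x).zpow_zpow j i
  have hcompl := MonoidHom.ker_transferSylow_isComplement' R hP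
  rcases (MonoidHom.normal_ker (MonoidHom.transferSylow R hP)).eq_bot_or_eq_top with hk | hk
  · rw [hk, Subgroup.isComplement'_bot_left] at hcompl
    intro a b
    have ha : a ∈ zpowers x := by rw [← hReq, hcompl]; trivial
    have hb : b ∈ zpowers x := by rw [← hReq, hcompl]; trivial
    obtain ⟨i, rfl⟩ := Subgroup.mem_zpowers_iff.mp ha
    obtain ⟨j, rfl⟩ := Subgroup.mem_zpowers_iff.mp hb
    exact (Commute.refl x).zpow_zpow i j
  · rw [hk, Subgroup.isComplement'_top_left] at hcompl
    exfalso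
    rw [hcompl] at hxR
    exact hx1 (Subgroup.mem_bot.mp hxR)


theorem comm_pow_of_commute {Q : Type*} [Group Q] (x y : Q) (h : x * ⁅x, y⁆ = ⁅x, y⁆ * x) (n : ℕ) :
    ⁅x ^ n, y⁆ = ⁅x, y⁆ ^ n := by
  induction n with
  | zero => simp
  | succ n ih =>
    have h1 : ⁅x ^ (n + 1), y⁆ = x * ⁅x ^ n, y⁆ * x⁻¹ * ⁅x, y⁆ := by
      simp only [commutatorElement_def, pow_succ']
      group
    rw [h1, ih]
    have h2 : x * ⁅x, y⁆ ^ n * x⁻¹ = ⁅x, y⁆ ^ n := by
      have : Commute x (⁅x, y⁆ ^ n) := (show Commute x ⁅x, y⁆ from h).pow_right n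
      rw [this.eq, mul_inv_cancel_right]
    rw [h2, pow_succ]

theorem mna {Q : Type*} [Group Q] [Finite Q] {q : ℕ} [Fact q.Prime] (hQ : IsPGroup q Q)
    (x y : Q) (hxy : x * y ≠ y * x)
    (hmin : ∀ H : Subgroup Q, H ≠ ⊤ → IsMulCommutative H) :
    ∃ c : Q, c ∈ center Q ∧ c ^ q = 1 ∧ commutator Q ≤ zpowers c := by
  have hcoatom : ∀ a b : Q, a * b ≠ b * a → IsCoatom (centralizer ({a} : Set Q)) := by
    intro a b hab
    constructor
    · intro htop
      have : b ∈ centralizer ({a} : Set Q) := htop ▸ mem_top b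
      rw [mem_centralizer_singleton_iff] at this
      exact hab this.symm
    · intro H hlt
      by_contra hne
      have hc := hmin H hne
      have haH : a ∈ H := hlt.le (mem_centralizer_singleton_iff.mpr rfl)
      apply hlt.not_ge
      intro h hh
      rw [mem_centralizer_singleton_iff]
      have := hc.is_comm.comm ⟨h, hh⟩ ⟨a, haH⟩
      exact congrArg Subtype.val this
  have hM1 := hcoatom x y hxy
  have hM2 := hcoatom y x (Ne.symm hxy)
  obtain ⟨hM1n, -⟩ := Helper1.coatom_normal_index hQ _ hM1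
  obtain ⟨hM2n, -⟩ := Helper1.coatom_normal_index hQ _ hM2
  have hx1 : x ∈ centralizer ({x} : Set Q) := mem_centralizer_singleton_iff.mpr rfl
  have hy2 : y ∈ centralizer ({y} : Set Q) := mem_centralizer_singleton_iff.mpr rfl
  have hc1 : ⁅x, y⁆ ∈ centralizer ({x} : Set Q) := by
    have h1 : ⁅x, y⁆ = x * (y * x⁻¹ * y⁻¹) := by rw [commutatorElement_def]; group
    rw [h1]
    exact mul_mem hx1 (hM1n.conj_mem _ (inv_mem hx1) y)
  have hc2 : ⁅x, y⁆ ∈ centralizer ({y} : Set Q) := by
    have h1 : ⁅x, y⁆ = (x * y * x⁻¹) * y⁻¹ := by rw [commutatorElement_def]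
    rw [h1]
    exact mul_mem (hM2n.conj_mem _ hy2 x) (inv_mem hy2)
  rw [mem_centralizer_singleton_iff] at hc1 hc2
  have hcl : closure ({x, y} : Set Q) = ⊤ := by
    by_contra hne
    have hc := hmin _ hne
    have hxm : x ∈ closure ({x, y} : Set Q) := subset_closure (by simp)
    have hym : y ∈ closure ({x, y} : Set Q) := subset_closure (by simp)
    have := hc.is_comm.comm ⟨x, hxm⟩ ⟨y, hym⟩
    exact hxy (congrArg Subtype.val this)
  have hcc : ⁅x, y⁆ ∈ center Q := by
    have : closure ({x, y} : Set Q) ≤ centralizer ({⁅x, y⁆} : Set Q) := by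
      rw [closure_le]
      rintro t (rfl | rfl)
      · exact mem_centralizer_singleton_iff.mpr hc1.symm
      · exact mem_centralizer_singleton_iff.mpr hc2.symm
    rw [hcl] at this
    rw [mem_center_iff]
    intro g
    have := mem_centralizer_singleton_iff.mp (this (mem_top g))
    exact this
  refine ⟨⁅x, y⁆, hcc, ?_, ?_⟩
  · rw [← comm_pow_of_commute x y hc1.symm]
    have hxq : x ^ q ∈ centralizer ({y} : Set Q) := Helper1.pow_mem_coatom hQ _ hM2 x
    rw [mem_centralizer_singleton_iff] at hxq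
    rw [commutatorElement_eq_one_iff_mul_comm]
    exact hxq
  · haveI hZn : (zpowers ⁅x, y⁆).Normal := by
      refine ⟨fun n hn g => ?_⟩
      obtain ⟨i, rfl⟩ := mem_zpowers_iff.mp hn
      have : g * ⁅x, y⁆ ^ i * g⁻¹ = ⁅x, y⁆ ^ i := by
        have hc : Commute g (⁅x, y⁆ ^ i) := (show Commute g ⁅x, y⁆ from mem_center_iff.mp hcc g).zpow_right i
        rw [hc.eq, mul_inv_cancel_right]
      rw [this]
      exact zpow_mem (mem_zpowers _) i
    have hcomm_of : ∀ a b : Q, ⁅a, b⁆ ∈ zpowers ⁅x, y⁆ →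
        (QuotientGroup.mk a : Q ⧸ zpowers ⁅x, y⁆) * QuotientGroup.mk b =
          QuotientGroup.mk b * QuotientGroup.mk a := by
      intro a b hab
      rw [← commutatorElement_eq_one_iff_mul_comm]
      have : (QuotientGroup.mk ⁅a, b⁆ : Q ⧸ zpowers ⁅x, y⁆) = 1 := (QuotientGroup.eq_one_iff _).mpr hab
      rw [← this]
      exact (map_commutatorElement (QuotientGroup.mk' (zpowers ⁅x, y⁆)) a b).symm
    have hyx : ⁅y, x⁆ ∈ zpowers ⁅x, y⁆ := by
      rw [← commutatorElement_inv x y]
      exact inv_mem (mem_zpowers _)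
    have hself : ∀ a : Q, ⁅a, a⁆ ∈ zpowers ⁅x, y⁆ := by
      intro a; rw [commutatorElement_self]; exact one_mem _
    -- the image of y is central
    have hcen : ∀ t : Q, (∀ s ∈ ({x, y} : Set Q), ⁅s, t⁆ ∈ zpowers ⁅x, y⁆) →
        ∀ a : Q, (QuotientGroup.mk a : Q ⧸ zpowers ⁅x, y⁆) * QuotientGroup.mk t =
          QuotientGroup.mk t * QuotientGroup.mk a := by
      intro t ht a
      have : closure ({x, y} : Set Q) ≤
          (centralizer ({(QuotientGroup.mk t : Q ⧸ zpowers ⁅x, y⁆)} : Set _)).comap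
            (QuotientGroup.mk' (zpowers ⁅x, y⁆)) := by
        rw [closure_le]
        intro s hs
        rw [SetLike.mem_coe, mem_comap, mem_centralizer_singleton_iff]
        exact hcomm_of s t (ht s hs)
      rw [hcl] at this
      have h2 := this (mem_top a)
      rw [mem_comap, mem_centralizer_singleton_iff] at h2
      exact h2
    have hycen := hcen y (by rintro s (rfl | rfl); exacts [mem_zpowers _, hself _])
    have hxcen := hcen x (by rintro s (rfl | rfl); exacts [hself _, hyx])
    have hall : ∀ a b : Q, (QuotientGroup.mk a : Q ⧸ zpowers ⁅x, y⁆) * QuotientGroup.mk b =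
          QuotientGroup.mk b * QuotientGroup.mk a := by
      intro a b
      have : closure ({x, y} : Set Q) ≤
          (centralizer ({(QuotientGroup.mk a : Q ⧸ zpowers ⁅x, y⁆)} : Set _)).comap
            (QuotientGroup.mk' (zpowers ⁅x, y⁆)) := by
        rw [closure_le]
        intro s hs
        rw [SetLike.mem_coe, mem_comap, mem_centralizer_singleton_iff]
        rcases hs with hs | hs
        · rw [hs]; exact (hxcen a).symm
        · rw [Set.mem_singleton_iff.mp hs]; exact (hycen a).symm
      rw [hcl] at this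
      have h2 := this (mem_top b)
      rw [mem_comap, mem_centralizer_singleton_iff] at h2
      exact h2.symm
    rw [_root_.commutator_def, Subgroup.commutator_le]
    intro a _ b _
    rw [← QuotientGroup.eq_one_iff]
    have : (QuotientGroup.mk ⁅a, b⁆ : Q ⧸ zpowers ⁅x, y⁆) = ⁅(QuotientGroup.mk a : Q ⧸ zpowers ⁅x, y⁆), QuotientGroup.mk b⁆ :=
      map_commutatorElement (QuotientGroup.mk' (zpowers ⁅x, y⁆)) a b
    rw [this, commutatorElement_eq_one_iff_mul_comm]
    exact hall a b


theorem solvable_of_abelian_normal {G : Type*} [Group G] (N : Subgroup G) [N.Normal]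
    (hN : IsMulCommutative N) (hq : Group.IsSolvable (G ⧸ N)) : Group.IsSolvable G := by
  haveI : Group.IsSolvable N := Group.isSolvable_of_comm (fun a b => hN.is_comm.comm a b)
  refine Group.isSolvable_of_ker_le_range N.subtype (QuotientGroup.mk' N) ?_
  rw [QuotientGroup.ker_mk', Subgroup.range_subtype]

/-- comap of a cyclic subgroup of the quotient -/
theorem comap_zpowers_mk {G : Type*} [Group G] (N : Subgroup G) [N.Normal] (x : G) :
    (zpowers (QuotientGroup.mk x : G ⧸ N)).comap (QuotientGroup.mk' N) = zpowers x ⊔ N := by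
  have : zpowers (QuotientGroup.mk x : G ⧸ N) = (zpowers x).map (QuotientGroup.mk' N) := by
    rw [MonoidHom.map_zpowers]; rfl
  rw [this, Subgroup.comap_map_eq, QuotientGroup.ker_mk']

/-- Step A of the main proof. -/
theorem stepA {G : Type*} [Group G] [Finite G] (hSN : SN G)
    (ih : ∀ N : Subgroup G, ∀ _ : N.Normal, N ≠ ⊥ →
      (Group.IsSolvable (G ⧸ N) ∨ IsSimpleGroup (G ⧸ N)))
    (hns : ¬ Group.IsSolvable G) (N : Subgroup G) [hN : N.Normal] (hbot : N ≠ ⊥) (htop : N ≠ ⊤) :
    IsSimpleGroup (G ⧸ N) ∧ ¬ Group.IsSolvable (G ⧸ N) ∧ N ≤ center G := by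
  have hNab := hSN.abelian_of_normal N htop
  have hqns : ¬ Group.IsSolvable (G ⧸ N) := fun h => hns (solvable_of_abelian_normal N hNab h)
  have hsimple : IsSimpleGroup (G ⧸ N) := (ih N hN hbot).resolve_left hqns
  refine ⟨hsimple, hqns, ?_⟩
  have hsurj : Function.Surjective (QuotientGroup.mk' N) := QuotientGroup.mk'_surjective N
  have hNC : N ≤ centralizer (N : Set G) := by
    intro a ha
    rw [mem_centralizer_iff]
    intro b hb
    exact congrArg Subtype.val (hNab.is_comm.comm ⟨b, hb⟩ ⟨a, ha⟩)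
  have hCn : ((centralizer (N : Set G)).map (QuotientGroup.mk' N)).Normal :=
    Subgroup.Normal.map inferInstance _ hsurj
  rcases hCn.eq_bot_or_eq_top with hC | hC
  · exfalso
    have hCN : centralizer (N : Set G) ≤ N := by
      have := (Subgroup.map_eq_bot_iff _).mp hC
      rwa [QuotientGroup.ker_mk'] at this
    apply hqns
    apply Group.isSolvable_of_comm
    apply comm_of_cyclic_selfnormalizing
    intro X hX
    obtain ⟨x, rfl⟩ := QuotientGroup.mk_surjective X
    have hxN : x ∉ N := fun h => hX ((QuotientGroup.eq_one_iff x).mpr h)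
    have hna : ¬ IsMulCommutative ↥(zpowers x ⊔ N) := by
      intro hc
      apply hxN
      apply hCN
      rw [mem_centralizer_iff]
      intro n hn
      have hx' : x ∈ zpowers x ⊔ N := (le_sup_left : zpowers x ≤ zpowers x ⊔ N) (mem_zpowers x)
      have hn' : n ∈ zpowers x ⊔ N := (le_sup_right : N ≤ zpowers x ⊔ N) hn
      exact congrArg Subtype.val (hc.is_comm.comm ⟨n, hn'⟩ ⟨x, hx'⟩)
    have h1 := hSN _ hna
    rw [← comap_zpowers_mk N x, ← Subgroup.comap_normalizer_eq_of_surjective _ hsurj] at h1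
    exact Subgroup.comap_injective hsurj h1
  · have hCtop : centralizer (N : Set G) = ⊤ := by
      have := congrArg (Subgroup.comap (QuotientGroup.mk' N)) hC
      rw [Subgroup.comap_map_eq, QuotientGroup.ker_mk', Subgroup.comap_top, sup_eq_left.mpr hNC] at this
      exact this
    exact (Subgroup.centralizer_eq_top_iff_subset).mp hCtop


/-- The central case: `z` central of prime order `q`, `G` perfect, `G/⟨z⟩` simple and not solvable:
contradiction. -/
theorem central_case {G : Type*} [Group G] [Finite G] (hSN : SN G) (q : ℕ) [Fact q.Prime]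
    (z : G) (hz : z ∈ center G) (hzq : orderOf z = q) [hZn : (zpowers z).Normal]
    (hperf : commutator G = ⊤)
    (hsimple : IsSimpleGroup (G ⧸ zpowers z)) (hqns : ¬ Group.IsSolvable (G ⧸ zpowers z)) :
    False := by
  have hq := (Fact.out : q.Prime)
  obtain ⟨Q⟩ : Nonempty (Sylow q G) := inferInstance
  have hZp : IsPGroup q (zpowers z) :=
    IsPGroup.of_card (n := 1) (by rw [Nat.card_zpowers, hzq, pow_one])
  have hZQ : zpowers z ≤ Q := hZp.le_sylow_of_normal Q
  have hzQ : z ∈ (Q : Subgroup G) := hZQ (mem_zpowers z)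
  -- transfer into the abelianization of `Q`
  let ϕ : (Q : Subgroup G) →* Abelianization (Q : Subgroup G) := Abelianization.of
  have hker : (MonoidHom.transfer ϕ).ker = ⊤ := by
    rw [eq_top_iff, ← hperf]; exact Abelianization.commutator_subset_ker _
  have key : ∀ (k : ℕ) (g₀ : G), g₀⁻¹ * z ^ k * g₀ ∈ (Q : Subgroup G) →
      g₀⁻¹ * z ^ k * g₀ = z ^ k := by
    intro k g₀ _
    have h1 : z ^ k ∈ center G := pow_mem hz k
    rw [mem_center_iff] at h1
    rw [mul_assoc, ← h1 g₀, inv_mul_cancel_left]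
  have h1 := MonoidHom.transfer_eq_pow ϕ z key
  have h2 : MonoidHom.transfer ϕ z = 1 := by
    have : z ∈ (MonoidHom.transfer ϕ).ker := hker ▸ mem_top z
    exact this
  rw [h2] at h1
  have hmem : z ^ (Q : Subgroup G).index ∈ (Q : Subgroup G) := pow_mem hzQ _
  obtain ⟨w, hwdef⟩ : ∃ w : (Q : Subgroup G), w = ⟨z ^ (Q : Subgroup G).index, hmem⟩ := ⟨_, rfl⟩
  have hw : w ∈ commutator (Q : Subgroup G) := by
    rw [← Abelianization.ker_of, MonoidHom.mem_ker, hwdef]; exact h1.symm
  have hw1 : w ≠ 1 := by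
    intro h
    have h3 : z ^ (Q : Subgroup G).index = 1 := by
      have := congrArg Subtype.val h
      rw [hwdef] at this
      exact this
    have h4 := orderOf_dvd_of_pow_eq_one h3
    rw [hzq] at h4
    exact Q.not_dvd_index h4
  have hQna : ¬ IsMulCommutative (Q : Subgroup G) := by
    intro hc
    have : commutator (Q : Subgroup G) = ⊥ := by
      rw [eq_bot_iff, _root_.commutator_def, Subgroup.commutator_le]
      intro a _ b _
      rw [mem_bot, commutatorElement_eq_one_iff_mul_comm]
      exact hc.is_comm.comm a b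
    rw [this, mem_bot] at hw
    exact hw1 hw
  have hmin : ∀ H' : Subgroup (Q : Subgroup G), H' ≠ ⊤ → IsMulCommutative H' := by
    intro H' hH'
    by_contra hna
    have hna' : ¬ IsMulCommutative (H'.map (Q : Subgroup G).subtype) := by
      intro hc
      apply hna
      refine ⟨⟨fun a b => ?_⟩⟩
      have ha : ((a : (Q : Subgroup G)) : G) ∈ H'.map (Q : Subgroup G).subtype := ⟨a, a.2, rfl⟩
      have hb : ((b : (Q : Subgroup G)) : G) ∈ H'.map (Q : Subgroup G).subtype := ⟨b, b.2, rfl⟩
      have := congrArg Subtype.val (hc.is_comm.comm ⟨_, ha⟩ ⟨_, hb⟩)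
      apply Subtype.ext; apply Subtype.ext; exact this
    have h1 := hSN _ hna'
    have hle : H'.map (Q : Subgroup G).subtype ≤ Q := Subgroup.map_subtype_le H'
    have h2 := Subgroup.subgroupOf_normalizer_eq hle
    rw [h1] at h2
    have h3 : (H'.map (Q : Subgroup G).subtype).subgroupOf Q = H' :=
      Subgroup.comap_map_eq_self_of_injective (Subgroup.subtype_injective _) H'
    rw [h3] at h2
    haveI : Group.IsNilpotent (Q : Subgroup G) := Q.2.isNilpotent
    have hnc : NormalizerCondition (Q : Subgroup G) := Group.normalizerCondition_of_isNilpotent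
    have := hnc H' (lt_top_iff_ne_top.mpr hH')
    rw [← h2] at this
    exact lt_irrefl _ this
  obtain ⟨a, b, hab⟩ : ∃ a b : (Q : Subgroup G), a * b ≠ b * a := by
    by_contra h
    push Not at h
    exact hQna ⟨⟨h⟩⟩
  obtain ⟨c, hcc, hcq, hcomm⟩ := mna Q.2 a b hab hmin
  have hwc : w ∈ zpowers c := hcomm hw
  -- c is a power of w
  have hcw : c ∈ zpowers w := by
    obtain ⟨k, hk⟩ := (mem_powers_iff_mem_zpowers.mpr hwc)
    have hk' : c ^ k = w := hk
    have hc1 : c ≠ 1 := by
      intro h; rw [h, one_pow] at hk'; exact hw1 hk'.symm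
    have hoc : orderOf c = q := by
      have := orderOf_dvd_of_pow_eq_one hcq
      rcases (Nat.dvd_prime hq).mp this with h | h
      · exact absurd (orderOf_eq_one_iff.mp h) hc1
      · exact h
    have hcop : k.Coprime (orderOf c) := by
      rw [hoc, Nat.coprime_comm, hq.coprime_iff_not_dvd]
      intro hdvd
      obtain ⟨m, rfl⟩ := hdvd
      rw [pow_mul, hcq, one_pow] at hk'
      exact hw1 hk'.symm
    obtain ⟨m, hm⟩ := exists_pow_eq_self_of_coprime hcop
    rw [hk'] at hm
    rw [← hm]
    exact pow_mem (mem_zpowers w) m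
  have hcZ : (c : G) ∈ zpowers z := by
    obtain ⟨m, hm⟩ := mem_zpowers_iff.mp hcw
    rw [← hm, hwdef]
    show ((⟨z ^ (Q : Subgroup G).index, hmem⟩ : (Q : Subgroup G)) ^ m : (Q : Subgroup G)).1 ∈ zpowers z
    rw [Subgroup.coe_zpow]
    exact zpow_mem (pow_mem (mem_zpowers z) _) m
  have hQZ : ∀ a ∈ (Q : Subgroup G), ∀ b ∈ (Q : Subgroup G), ⁅a, b⁆ ∈ zpowers z := by
    intro a ha b hb
    have h5 : ⁅(⟨a, ha⟩ : (Q : Subgroup G)), ⟨b, hb⟩⁆ ∈ zpowers c := by
      apply hcomm
      rw [_root_.commutator_def]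
      exact Subgroup.commutator_mem_commutator (mem_top _) (mem_top _)
    obtain ⟨j, hj⟩ := mem_zpowers_iff.mp h5
    have h6 : ⁅a, b⁆ = ((c ^ j : (Q : Subgroup G)) : G) := by
      rw [hj]; rfl
    rw [h6, Subgroup.coe_zpow]
    exact zpow_mem hcZ j
  -- pass to the quotient
  have hsurj : Function.Surjective (QuotientGroup.mk' (zpowers z)) :=
    QuotientGroup.mk'_surjective _
  have hcomap : ((Q : Subgroup G).map (QuotientGroup.mk' (zpowers z))).comap
      (QuotientGroup.mk' (zpowers z)) = Q := by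
    rw [Subgroup.comap_map_eq, QuotientGroup.ker_mk', sup_eq_left.mpr hZQ]
  have hnorm : normalizer (((Q : Subgroup G).map (QuotientGroup.mk' (zpowers z)) :
      Subgroup (G ⧸ zpowers z)) : Set (G ⧸ zpowers z)) =
      (Q : Subgroup G).map (QuotientGroup.mk' (zpowers z)) := by
    apply Subgroup.comap_injective hsurj
    rw [Subgroup.comap_normalizer_eq_of_surjective _ hsurj, hcomap]
    exact hSN _ hQna
  have hQbcomm : ∀ a ∈ (Q : Subgroup G).map (QuotientGroup.mk' (zpowers z)),
      ∀ b ∈ (Q : Subgroup G).map (QuotientGroup.mk' (zpowers z)), a * b = b * a := by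
    rintro _ ⟨a, ha, rfl⟩ _ ⟨b, hb, rfl⟩
    rw [← commutatorElement_eq_one_iff_mul_comm, ← map_commutatorElement]
    exact (QuotientGroup.eq_one_iff _).mpr (hQZ a ha b hb)
  obtain ⟨Qb, hQb⟩ : ∃ Qb : Sylow q (G ⧸ zpowers z),
      (Qb : Subgroup (G ⧸ zpowers z)) = (Q : Subgroup G).map (QuotientGroup.mk' (zpowers z)) :=
    ⟨Q.mapSurjective hsurj, rfl⟩
  have hP : normalizer ((Qb : Subgroup (G ⧸ zpowers z)) : Set (G ⧸ zpowers z)) ≤
      centralizer ((Qb : Subgroup (G ⧸ zpowers z)) : Set (G ⧸ zpowers z)) := by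
    rw [hQb, hnorm]
    intro a ha
    rw [mem_centralizer_iff]
    intro b hb
    exact hQbcomm b hb a ha
  have hcompl := MonoidHom.ker_transferSylow_isComplement' Qb hP
  rcases (MonoidHom.normal_ker (MonoidHom.transferSylow Qb hP)).eq_bot_or_eq_top with hk | hk
  · rw [hk, Subgroup.isComplement'_bot_left] at hcompl
    apply hqns
    apply Group.isSolvable_of_comm
    intro a b
    exact hQbcomm a (by rw [← hQb, hcompl]; trivial) b (by rw [← hQb, hcompl]; trivial)
  · rw [hk, Subgroup.isComplement'_top_left] at hcompl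
    have hQZ' : (Q : Subgroup G) ≤ zpowers z := by
      have h7 : (Q : Subgroup G).map (QuotientGroup.mk' (zpowers z)) = ⊥ := hQb ▸ hcompl
      have := (Subgroup.map_eq_bot_iff _).mp h7
      rwa [QuotientGroup.ker_mk'] at this
    apply hQna
    refine ⟨⟨fun a b => ?_⟩⟩
    obtain ⟨i, hi⟩ := mem_zpowers_iff.mp (hQZ' a.2)
    obtain ⟨j, hj⟩ := mem_zpowers_iff.mp (hQZ' b.2)
    apply Subtype.ext
    show (a : G) * b = b * a
    rw [← hi, ← hj]
    exact (Commute.refl z).zpow_zpow i j


universe u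

theorem main : ∀ n : ℕ, ∀ (G : Type u) [Group G] [Finite G], Nat.card G = n → SN G →
    Group.IsSolvable G ∨ IsSimpleGroup G := by
  intro n
  induction n using Nat.strong_induction_on with
  | _ n ih =>
  intro G _ _ hn hSN
  by_contra hcon
  push Not at hcon
  obtain ⟨hns, hnsimple⟩ := hcon
  haveI : Nontrivial G := by
    by_contra h
    rw [not_nontrivial_iff_subsingleton] at h
    exact hns inferInstance
  have hex : ∃ N : Subgroup G, N.Normal ∧ N ≠ ⊥ ∧ N ≠ ⊤ := by
    by_contra h
    push Not at h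
    exact hnsimple ⟨fun N hN => by
      by_cases hb : N = ⊥
      · exact Or.inl hb
      · exact Or.inr (h N hN hb)⟩
  have ih' : ∀ N : Subgroup G, ∀ _ : N.Normal, N ≠ ⊥ →
      (Group.IsSolvable (G ⧸ N) ∨ IsSimpleGroup (G ⧸ N)) := by
    intro N hN hbot
    have hlt : Nat.card (G ⧸ N) < n := by
      rw [← hn, Subgroup.card_eq_card_quotient_mul_card_subgroup N]
      have h1 : 1 < Nat.card N := N.one_lt_card_iff_ne_bot.mpr hbot
      have h2 : 0 < Nat.card (G ⧸ N) := Nat.card_pos
      nlinarith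
    exact ih _ hlt (G ⧸ N) rfl (hSN.quotient N)
  obtain ⟨N, hN, hNbot, hNtop⟩ := hex
  obtain ⟨-, -, hNc⟩ := stepA hSN ih' hns N hNbot hNtop
  have hNcard : Nat.card N ≠ 1 := (N.one_lt_card_iff_ne_bot.mpr hNbot).ne'
  obtain ⟨q, hq, hqdvd⟩ := Nat.exists_prime_and_dvd hNcard
  haveI : Fact q.Prime := ⟨hq⟩
  obtain ⟨z', hz'⟩ := exists_prime_orderOf_dvd_card' q hqdvd
  obtain ⟨z, hzdef⟩ : ∃ z : G, z = (z' : G) := ⟨_, rfl⟩
  have hzq : orderOf z = q := by rw [hzdef, Subgroup.orderOf_coe, hz']
  have hzc : z ∈ center G := hzdef ▸ hNc z'.2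
  haveI hZn : (zpowers z).Normal := by
    refine ⟨fun n hn g => ?_⟩
    obtain ⟨i, rfl⟩ := mem_zpowers_iff.mp hn
    have : g * z ^ i * g⁻¹ = z ^ i := by
      have hc : Commute g (z ^ i) := (show Commute g z from mem_center_iff.mp hzc g).zpow_right i
      rw [hc.eq, mul_inv_cancel_right]
    rw [this]
    exact zpow_mem (mem_zpowers _) i
  have hz1 : z ≠ 1 := by
    intro h
    rw [h, orderOf_one] at hzq
    exact hq.one_lt.ne hzq
  have hZbot : zpowers z ≠ ⊥ := by
    rw [Ne, zpowers_eq_bot]; exact hz1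
  have hZtop : zpowers z ≠ ⊤ := by
    intro htop
    apply hns
    apply Group.isSolvable_of_comm
    intro a b
    have ha : a ∈ zpowers z := htop ▸ mem_top a
    have hb : b ∈ zpowers z := htop ▸ mem_top b
    obtain ⟨i, rfl⟩ := mem_zpowers_iff.mp ha
    obtain ⟨j, rfl⟩ := mem_zpowers_iff.mp hb
    exact (Commute.refl z).zpow_zpow i j
  obtain ⟨hs, hqns, -⟩ := stepA hSN ih' hns (zpowers z) hZbot hZtop
  have hperf : commutator G = ⊤ := by
    by_contra hne
    have hab := hSN.abelian_of_normal (commutator G) hne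
    apply hns
    apply solvable_of_abelian_normal (commutator G) hab
    exact (inferInstance : Group.IsSolvable (Abelianization G))
  exact central_case hSN q z hzc hzq hperf hs hqns


/-- A finite group in which every non-abelian subgroup is self-normalizing is solvable or simple. -/
theorem result {G : Type*} [Group G] [Finite G] (hS : ∀ H : Subgroup G, ¬ IsMulCommutative H → Subgroup.normalizer (H : Set G) = H) :
    Group.IsSolvable G ∨ IsSimpleGroup G := by
  exact main (Nat.card G) G rfl hS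

end Cfsg.Agent.S4072
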