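import Mathlib
import Cfsg.Statements.S4071
import Cfsg.Agent.S4072

set_option autoImplicit false
open Cfsg
set_option linter.style.haveILetI false

namespace Cfsg.Agent.S4071

open Subgroup
open scoped commutatorElement

/-- A nontrivial finite solvable group has a normal subgroup of prime index
(copied from helper95's `S0536`). -/
lemma exists_normal_prime_index {G : Type*} [Group G] [Finite G] [Nontrivial G]
    [Group.IsSolvable G] : ∃ M : Subgroup G, M.Normal ∧ M.index.Prime := by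
  have hlt : commutator G < ⊤ := Group.IsSolvable.commutator_lt_top_of_nontrivial G
  obtain ⟨M, hM, hcM⟩ := (eq_top_or_exists_le_coatom (commutator G)).resolve_left hlt.ne
  have hMn : M.Normal := by
    rw [← commutator_top_left_le_iff]
    refine le_trans (commutator_mono le_rfl le_top) ?_
    exact hcM
  refine ⟨M, hMn, ?_⟩
  have hcomm : IsMulCommutative (G ⧸ M) :=
    Subgroup.Normal.quotient_commutative_iff_commutator_le.mpr hcM
  have hsurj : Function.Surjective (QuotientGroup.mk' M) := QuotientGroup.mk'_surjective _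
  have hnt : Nontrivial (G ⧸ M) := by
    rw [← Finite.one_lt_card_iff_nontrivial, ← Subgroup.index_eq_card]
    have h1 : M.index ≠ 1 := fun h => hM.1 (Subgroup.index_eq_one.mp h)
    have h0 : M.index ≠ 0 := M.index_ne_zero_of_finite
    omega
  have hsimple : IsSimpleGroup (G ⧸ M) := by
    refine ⟨fun N hN => ?_⟩
    have hle : M ≤ N.comap (QuotientGroup.mk' M) := by
      intro x hx
      rw [Subgroup.mem_comap, QuotientGroup.mk'_apply, (QuotientGroup.eq_one_iff x).mpr hx]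
      exact N.one_mem
    rcases eq_or_lt_of_le hle with h | h
    · left
      rw [← Subgroup.map_comap_eq_self_of_surjective hsurj N, ← h]
      exact QuotientGroup.map_mk'_self M
    · right
      have := hM.2 _ h
      rw [← Subgroup.map_comap_eq_self_of_surjective hsurj N, this]
      exact Subgroup.map_top_of_surjective _ hsurj
  have := Group.is_simple_iff_prime_card.mp hsimple
  rwa [← Subgroup.index_eq_card] at this

/-- the `p'`-part of an abelian subgroup -/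
def pPrimePart {G : Type*} [Group G] (M : Subgroup G) (hM : ∀ u ∈ M, ∀ v ∈ M, u * v = v * u)
    (p : ℕ) : Subgroup G where
  carrier := {g | g ∈ M ∧ (orderOf g).Coprime p}
  one_mem' := ⟨M.one_mem, by rw [orderOf_one]; exact Nat.coprime_one_left p⟩
  mul_mem' := by
    rintro g h ⟨hg, hgo⟩ ⟨hh, hho⟩
    refine ⟨M.mul_mem hg hh, ?_⟩
    have hc : Commute g h := hM g hg h hh
    have h1 := hc.orderOf_mul_dvd_lcm.trans (Nat.lcm_dvd_mul _ _)
    exact Nat.Coprime.coprime_dvd_left h1 (Nat.Coprime.mul_left hgo hho)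
  inv_mem' := by
    rintro g ⟨hg, hgo⟩
    exact ⟨M.inv_mem hg, by rw [orderOf_inv]; exact hgo⟩

theorem mem_pPrimePart {G : Type*} [Group G] (M : Subgroup G)
    (hM : ∀ u ∈ M, ∀ v ∈ M, u * v = v * u) (p : ℕ) (g : G) :
    g ∈ pPrimePart M hM p ↔ g ∈ M ∧ (orderOf g).Coprime p := Iff.rfl


theorem forward {G : Type*} [Group G] [Finite G] [Group.IsSolvable G] (hnn : ¬ Group.IsNilpotent G)
    (hSN : ∀ H : Subgroup G, ¬ IsMulCommutative H → Subgroup.normalizer (H : Set G) = H) :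
    ∃ (x : G) (A : Subgroup G) (p : ℕ), p.Prime ∧ A.Normal ∧ IsMulCommutative A ∧
      (∃ k : ℕ, orderOf x = p ^ k) ∧ ¬ p ∣ Nat.card A ∧ (Subgroup.zpowers x).IsComplement' A ∧
      x ^ p ∈ Subgroup.center G ∧ ∀ a : G, a ∈ A → a ≠ 1 → x * a * x⁻¹ ≠ a := by
  haveI : Nontrivial G := by
    by_contra h
    rw [not_nontrivial_iff_subsingleton] at h
    exact hnn inferInstance
  obtain ⟨M, hMn, hMp⟩ := exists_normal_prime_index (G := G)
  obtain ⟨p, hpdef⟩ : ∃ p, p = M.index := ⟨_, rfl⟩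
  have hp : p.Prime := hpdef ▸ hMp
  haveI : Fact p.Prime := ⟨hp⟩
  have hMtop : M ≠ ⊤ := by
    intro h; rw [h, Subgroup.index_top] at hMp; exact Nat.not_prime_one hMp
  have hMab : IsMulCommutative M := S4072.SN.abelian_of_normal hSN M hMtop
  have hMc : ∀ u ∈ M, ∀ v ∈ M, u * v = v * u := fun u hu v hv =>
    congrArg Subtype.val (hMab.is_comm.comm ⟨u, hu⟩ ⟨v, hv⟩)
  obtain ⟨A, hAdef⟩ : ∃ A, A = pPrimePart M hMc p := ⟨_, rfl⟩
  have hmemA : ∀ g, g ∈ A ↔ g ∈ M ∧ (orderOf g).Coprime p := by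
    intro g; rw [hAdef]; exact mem_pPrimePart M hMc p g
  have hAM : A ≤ M := fun g hg => ((hmemA g).mp hg).1
  haveI hAn : A.Normal := by
    refine ⟨fun n hn g => ?_⟩
    rw [hmemA] at hn ⊢
    refine ⟨hMn.conj_mem n hn.1 g, ?_⟩
    rw [← SemiconjBy.orderOf_eq g (SemiconjBy.conj_mk g n)]
    exact hn.2
  have hAc : ∀ u ∈ A, ∀ v ∈ A, u * v = v * u := fun u hu v hv => hMc u (hAM hu) v (hAM hv)
  have hAcomm : IsMulCommutative A := ⟨⟨fun a b => Subtype.ext (hAc a a.2 b b.2)⟩⟩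
  have hpA : ¬ p ∣ Nat.card A := by
    intro hdvd
    obtain ⟨a, ha⟩ := exists_prime_orderOf_dvd_card' p hdvd
    have h1 := ((hmemA a).mp a.2).2
    rw [Subgroup.orderOf_coe, ha] at h1
    exact hp.one_lt.ne' ((Nat.coprime_self p).mp h1)
  -- G/A is a p-group
  have hGA : IsPGroup p (G ⧸ A) := by
    intro y
    obtain ⟨g, rfl⟩ := QuotientGroup.mk_surjective y
    have h1 : g ^ p ∈ M := by rw [hpdef]; exact Subgroup.pow_index_mem M g
    obtain ⟨o, ho⟩ : ∃ o, o = orderOf (g ^ p) := ⟨_, rfl⟩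
    have ho0 : o ≠ 0 := ho ▸ (orderOf_pos _).ne'
    refine ⟨o.factorization p + 1, ?_⟩
    rw [← QuotientGroup.mk_pow, QuotientGroup.eq_one_iff, hmemA]
    have e : g ^ p ^ (o.factorization p + 1) = (g ^ p) ^ (p ^ o.factorization p) := by
      rw [pow_succ', pow_mul]
    rw [e]
    refine ⟨M.pow_mem h1 _, ?_⟩
    have h2 : ((g ^ p) ^ (p ^ o.factorization p)) ^ (ordCompl[p] o) = 1 := by
      rw [← pow_mul, Nat.ordProj_mul_ordCompl_eq_self, ho, pow_orderOf_eq_one]
    have h3 := orderOf_dvd_of_pow_eq_one h2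
    exact Nat.Coprime.coprime_dvd_left h3 (Nat.Coprime.symm (Nat.coprime_ordCompl hp ho0))
  obtain ⟨e, he⟩ := hGA.exists_card_eq
  have hidx : A.index = p ^ e := by rw [Subgroup.index_eq_card]; exact he
  have hcopA : Nat.Coprime (Nat.card A) A.index := by
    rw [hidx]
    exact Nat.Coprime.pow_right e (Nat.Coprime.symm ((Nat.Prime.coprime_iff_not_dvd hp).mpr hpA))
  obtain ⟨P, hP⟩ := Subgroup.exists_right_complement'_of_coprime hcopA
  have hPcard : Nat.card P = p ^ e := by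
    rw [← hidx]; exact (Subgroup.IsComplement'.index_eq_card hP.symm).symm
  have hPp : IsPGroup p P := IsPGroup.of_card hPcard
  have hsup : A ⊔ P = ⊤ := Subgroup.IsComplement'.sup_eq_top hP
  have hex : ∃ x ∈ P, x ∉ centralizer (A : Set G) := by
    by_contra hcon
    push Not at hcon
    apply hnn
    have hAcen : A ≤ center G := by
      have h1 : A ⊔ P ≤ centralizer (A : Set G) := by
        apply sup_le
        · intro a ha; rw [mem_centralizer_iff]; intro b hb; exact hAc b hb a ha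
        · exact fun x hx => hcon x hx
      rw [hsup] at h1
      exact Subgroup.centralizer_eq_top_iff_subset.mp (top_le_iff.mp h1)
    haveI : Group.IsNilpotent (G ⧸ A) := hGA.isNilpotent
    refine Subgroup.isNilpotent_of_ker_le_center (QuotientGroup.mk' A) ?_
    rw [QuotientGroup.ker_mk']; exact hAcen
  obtain ⟨x, hxP, hxA⟩ := hex
  have hHna : ¬ IsMulCommutative ↥(zpowers x ⊔ A) := by
    intro hc
    apply hxA
    rw [mem_centralizer_iff]
    intro a ha
    have hx' : x ∈ zpowers x ⊔ A := (le_sup_left : zpowers x ≤ _) (mem_zpowers x)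
    have ha' : a ∈ zpowers x ⊔ A := (le_sup_right : A ≤ _) ha
    exact congrArg Subtype.val (hc.is_comm.comm ⟨a, ha'⟩ ⟨x, hx'⟩)
  have hHtop : zpowers x ⊔ A = ⊤ := by
    have h1 := hSN _ hHna
    have hsurj := QuotientGroup.mk'_surjective A
    have hcomap : ((zpowers x ⊔ A).map (QuotientGroup.mk' A)).comap (QuotientGroup.mk' A) =
        zpowers x ⊔ A := by
      rw [Subgroup.comap_map_eq, QuotientGroup.ker_mk', sup_assoc, sup_idem]
    have hnorm : normalizer (((zpowers x ⊔ A).map (QuotientGroup.mk' A) : Subgroup (G ⧸ A)) :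
        Set (G ⧸ A)) = (zpowers x ⊔ A).map (QuotientGroup.mk' A) := by
      apply Subgroup.comap_injective hsurj
      rw [Subgroup.comap_normalizer_eq_of_surjective _ hsurj, hcomap]
      exact h1
    haveI : Group.IsNilpotent (G ⧸ A) := hGA.isNilpotent
    have hnc : NormalizerCondition (G ⧸ A) := Group.normalizerCondition_of_isNilpotent
    have hmaptop : (zpowers x ⊔ A).map (QuotientGroup.mk' A) = ⊤ := by
      by_contra hne
      have := hnc _ (lt_top_iff_ne_top.mpr hne)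
      rw [hnorm] at this
      exact lt_irrefl _ this
    rw [← hcomap, hmaptop, Subgroup.comap_top]
  obtain ⟨k, hk⟩ : ∃ k, orderOf x = p ^ k := by
    obtain ⟨k, hk⟩ := (IsPGroup.iff_orderOf.mp hPp) ⟨x, hxP⟩
    exact ⟨k, by rw [← hk, Subgroup.orderOf_mk]⟩
  have hdisj : Disjoint (zpowers x) A := by
    apply Subgroup.disjoint_of_coprime_natCard
    rw [Nat.card_zpowers, hk]
    exact Nat.Coprime.pow_left k ((Nat.Prime.coprime_iff_not_dvd hp).mpr hpA)
  have hcompl : (zpowers x).IsComplement' A := by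
    apply Subgroup.isComplement'_of_disjoint_and_mul_eq_univ hdisj
    rw [← Subgroup.mul_normal, hHtop]; rfl
  have hxpM : x ^ p ∈ M := by rw [hpdef]; exact Subgroup.pow_index_mem M x
  have hxpc : x ^ p ∈ center G := by
    have h1 : zpowers x ⊔ A ≤ centralizer ({x ^ p} : Set G) := by
      apply sup_le
      · rw [zpowers_le, mem_centralizer_singleton_iff]
        exact ((Commute.refl x).pow_right p).eq
      · intro a ha; rw [mem_centralizer_singleton_iff]; exact hMc a (hAM ha) _ hxpM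
    rw [hHtop] at h1
    rw [mem_center_iff]; intro g
    exact mem_centralizer_singleton_iff.mp (h1 (mem_top g))
  refine ⟨x, A, p, hp, hAn, hAcomm, ⟨k, hk⟩, hpA, hcompl, hxpc, ?_⟩
  intro a₀ ha₀ ha₀1 hfix
  have hG'A : commutator G ≤ A := by
    rw [← Subgroup.Normal.quotient_commutative_iff_commutator_le]
    refine ⟨⟨fun y₁ y₂ => ?_⟩⟩
    obtain ⟨g₁, rfl⟩ := QuotientGroup.mk_surjective y₁
    obtain ⟨g₂, rfl⟩ := QuotientGroup.mk_surjective y₂
    have hdec : ∀ g : G, ∃ i : ℤ, (QuotientGroup.mk g : G ⧸ A) = (QuotientGroup.mk x) ^ i := by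
      intro g
      have hg : g ∈ zpowers x ⊔ A := hHtop ▸ mem_top g
      obtain ⟨y, hy, a, ha, rfl⟩ := Subgroup.mem_sup_of_normal_right.mp hg
      obtain ⟨i, rfl⟩ := mem_zpowers_iff.mp hy
      exact ⟨i, by rw [QuotientGroup.mk_mul, (QuotientGroup.eq_one_iff a).mpr ha, mul_one,
        QuotientGroup.mk_zpow]⟩
    obtain ⟨i₁, e₁⟩ := hdec g₁
    obtain ⟨i₂, e₂⟩ := hdec g₂
    rw [e₁, e₂]
    exact ((Commute.refl _).zpow_zpow i₁ i₂).eq
  have hH'n : (zpowers x ⊔ commutator G).Normal := by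
    rw [← commutator_top_left_le_iff]
    refine le_trans (commutator_mono le_rfl le_top) ?_
    rw [← _root_.commutator_def]; exact le_sup_right
  have hH'na : ¬ IsMulCommutative ↥(zpowers x ⊔ commutator G) := by
    intro hc
    apply hxA
    rw [mem_centralizer_iff]
    intro a ha
    obtain ⟨c, hcdef⟩ : ∃ c, c = ⁅x, a⁆ := ⟨_, rfl⟩
    have hcG' : c ∈ commutator G := by
      rw [hcdef, _root_.commutator_def]
      exact Subgroup.commutator_mem_commutator (mem_top x) (mem_top a)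
    have hcA : c ∈ A := hG'A hcG'
    have hxc : x * c = c * x := by
      have hx' : x ∈ zpowers x ⊔ commutator G := (le_sup_left : zpowers x ≤ _) (mem_zpowers x)
      have hc' : c ∈ zpowers x ⊔ commutator G := (le_sup_right : commutator G ≤ _) hcG'
      exact congrArg Subtype.val (hc.is_comm.comm ⟨x, hx'⟩ ⟨c, hc'⟩)
    have hpow : ∀ j : ℕ, x ^ j * a * (x ^ j)⁻¹ = c ^ j * a := by
      intro j
      induction j with
      | zero => simp
      | succ j ih =>
        have e1 : x ^ (j + 1) * a * (x ^ (j + 1))⁻¹ = x * (x ^ j * a * (x ^ j)⁻¹) * x⁻¹ := by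
          rw [pow_succ']; group
        rw [e1, ih]
        have e2 : x * (c ^ j * a) * x⁻¹ = (x * c ^ j * x⁻¹) * (x * a * x⁻¹) := by group
        have e3 : x * c ^ j * x⁻¹ = c ^ j := by
          have : Commute x (c ^ j) := (show Commute x c from hxc).pow_right j
          rw [this.eq, mul_inv_cancel_right]
        have e4 : x * a * x⁻¹ = c * a := by rw [hcdef, commutatorElement_def]; group
        rw [e2, e3, e4, pow_succ, mul_assoc]
    have h1 := hpow (orderOf x)
    rw [pow_orderOf_eq_one, one_mul, inv_one, mul_one] at h1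
    have h2 : c ^ orderOf x = 1 := by
      have : c ^ orderOf x * a = 1 * a := by rw [one_mul]; exact h1.symm
      exact mul_right_cancel this
    have h3 : orderOf c ∣ p ^ k := hk ▸ orderOf_dvd_of_pow_eq_one h2
    have h4 : (orderOf c).Coprime p := ((hmemA c).mp hcA).2
    have h5 : orderOf c = 1 := Nat.Coprime.eq_one_of_dvd (Nat.Coprime.pow_right k h4) h3
    have h6 : c = 1 := orderOf_eq_one_iff.mp h5
    rw [hcdef, commutatorElement_eq_one_iff_mul_comm] at h6
    exact h6.symm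
  have hH'top : zpowers x ⊔ commutator G = ⊤ := by
    have h1 := hSN _ hH'na
    rw [Subgroup.normalizer_eq_top_iff.mpr hH'n] at h1
    exact h1.symm
  have ha₀G' : a₀ ∈ commutator G := by
    have h1 : a₀ ∈ zpowers x ⊔ commutator G := hH'top ▸ mem_top a₀
    obtain ⟨y, hy, c, hc, hyc⟩ := Subgroup.mem_sup_of_normal_right.mp h1
    have hyA : y ∈ A := by
      have : y = a₀ * c⁻¹ := by rw [← hyc]; group
      rw [this]; exact A.mul_mem ha₀ (A.inv_mem (hG'A hc))
    have hy1 : y = 1 := by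
      have : y ∈ zpowers x ⊓ A := mem_inf.mpr ⟨hy, hyA⟩
      rw [hdisj.eq_bot] at this
      exact mem_bot.mp this
    rw [← hyc, hy1, one_mul]; exact hc
  have ha₀c : a₀ ∈ center G := by
    have h1 : zpowers x ⊔ A ≤ centralizer ({a₀} : Set G) := by
      apply sup_le
      · rw [zpowers_le, mem_centralizer_singleton_iff]
        calc x * a₀ = (x * a₀ * x⁻¹) * x := by group
          _ = a₀ * x := by rw [hfix]
      · intro a ha; rw [mem_centralizer_singleton_iff]; exact hAc a ha a₀ ha₀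
    rw [hHtop] at h1
    rw [mem_center_iff]; intro g
    exact mem_centralizer_singleton_iff.mp (h1 (mem_top g))
  let ϕ : A →* Abelianization A := Abelianization.of
  have hker : commutator G ≤ (MonoidHom.transfer ϕ).ker := Abelianization.commutator_subset_ker _
  have key : ∀ (k : ℕ) (g₀ : G), g₀⁻¹ * a₀ ^ k * g₀ ∈ A → g₀⁻¹ * a₀ ^ k * g₀ = a₀ ^ k := by
    intro k g₀ _
    have h1 : a₀ ^ k ∈ center G := pow_mem ha₀c k
    rw [mem_center_iff] at h1
    rw [mul_assoc, ← h1 g₀, inv_mul_cancel_left]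
  have h1 := MonoidHom.transfer_eq_pow ϕ a₀ key
  have h2 : MonoidHom.transfer ϕ a₀ = 1 := hker ha₀G'
  rw [h2] at h1
  have hmem : a₀ ^ A.index ∈ A := A.pow_mem ha₀ _
  have hw : (⟨a₀ ^ A.index, hmem⟩ : A) ∈ commutator A := by
    rw [← Abelianization.ker_of, MonoidHom.mem_ker]; exact h1.symm
  have hcomA : commutator A = ⊥ := by
    rw [eq_bot_iff, _root_.commutator_def, Subgroup.commutator_le]
    intro a _ b _
    rw [mem_bot, commutatorElement_eq_one_iff_mul_comm]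
    exact hAcomm.is_comm.comm a b
  rw [hcomA, mem_bot] at hw
  have h3 : a₀ ^ A.index = 1 := congrArg Subtype.val hw
  have h4 : orderOf a₀ ∣ p ^ e := hidx ▸ orderOf_dvd_of_pow_eq_one h3
  have h5 : (orderOf a₀).Coprime p := ((hmemA a₀).mp ha₀).2
  have h6 : orderOf a₀ = 1 := Nat.Coprime.eq_one_of_dvd (Nat.Coprime.pow_right e h5) h4
  exact ha₀1 (orderOf_eq_one_iff.mp h6)


/-- The backward direction. -/
theorem backward {G : Type*} [Group G] [Finite G]
    (x : G) (A : Subgroup G) (p : ℕ) (hp : p.Prime) [hAn : A.Normal] (hAc : IsMulCommutative A)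
    (hxo : ∃ k : ℕ, orderOf x = p ^ k)
    (hcompl : (Subgroup.zpowers x).IsComplement' A) (hxp : x ^ p ∈ Subgroup.center G)
    (hfpf : ∀ a : G, a ∈ A → a ≠ 1 → x * a * x⁻¹ ≠ a)
    (H : Subgroup G) (hH : ¬ IsMulCommutative H) : Subgroup.normalizer (H : Set G) = H := by
  have hAcomm : ∀ u ∈ A, ∀ v ∈ A, u * v = v * u := by
    intro u hu v hv
    exact congrArg Subtype.val (hAc.is_comm.comm ⟨u, hu⟩ ⟨v, hv⟩)
  -- decomposition of elements
  have hdec : ∀ g : G, ∃ i : ℕ, ∃ a ∈ A, g = x ^ i * a := by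
    intro g
    have hg : g ∈ zpowers x ⊔ A := by
      rw [Subgroup.IsComplement'.sup_eq_top hcompl]; trivial
    obtain ⟨y, hy, a, ha, rfl⟩ := Subgroup.mem_sup_of_normal_right.mp hg
    obtain ⟨i, rfl⟩ := mem_powers_iff_mem_zpowers.mpr hy
    exact ⟨i, a, ha, rfl⟩
  have hzc : ∀ j : ℕ, (x ^ p) ^ j ∈ center G := fun j => pow_mem hxp j
  -- (i)
  obtain ⟨h, hhH, i, a, haA, hh, hpi⟩ : ∃ h ∈ H, ∃ i : ℕ, ∃ a ∈ A, h = x ^ i * a ∧ ¬ p ∣ i := by
    by_contra hcon
    push Not at hcon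
    apply hH
    refine ⟨⟨fun h₁ h₂ => ?_⟩⟩
    obtain ⟨i₁, a₁, ha₁, e₁⟩ := hdec h₁
    obtain ⟨i₂, a₂, ha₂, e₂⟩ := hdec h₂
    obtain ⟨j₁, rfl⟩ := hcon h₁ h₁.2 i₁ a₁ ha₁ e₁
    obtain ⟨j₂, rfl⟩ := hcon h₂ h₂.2 i₂ a₂ ha₂ e₂
    apply Subtype.ext
    show (h₁ : G) * h₂ = h₂ * h₁
    rw [e₁, e₂, pow_mul, pow_mul]
    have c₁ := mem_center_iff.mp (hzc j₁)
    have c₂ := mem_center_iff.mp (hzc j₂)
    calc (x ^ p) ^ j₁ * a₁ * ((x ^ p) ^ j₂ * a₂)
        = (x ^ p) ^ j₁ * (a₁ * (x ^ p) ^ j₂) * a₂ := by group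
      _ = (x ^ p) ^ j₁ * ((x ^ p) ^ j₂ * a₁) * a₂ := by rw [c₂ a₁]
      _ = ((x ^ p) ^ j₁ * (x ^ p) ^ j₂) * (a₁ * a₂) := by group
      _ = ((x ^ p) ^ j₂ * (x ^ p) ^ j₁) * (a₂ * a₁) := by
          rw [hAcomm a₁ ha₁ a₂ ha₂, ← c₂ ((x ^ p) ^ j₁)]
      _ = (x ^ p) ^ j₂ * ((x ^ p) ^ j₁ * a₂) * a₁ := by group
      _ = (x ^ p) ^ j₂ * (a₂ * (x ^ p) ^ j₁) * a₁ := by rw [c₁ a₂]
      _ = (x ^ p) ^ j₂ * a₂ * ((x ^ p) ^ j₁ * a₁) := by group
  -- (ii) `h` acts fixed-point-freely on `A`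
  have hfix : ∀ b ∈ A, h * b * h⁻¹ = b → b = 1 := by
    intro b hb hfixb
    by_contra hb1
    apply hfpf b hb hb1
    -- x ^ i commutes with b
    have h1 : x ^ i * b = b * x ^ i := by
      have e : h * b * h⁻¹ = x ^ i * (a * b * a⁻¹) * (x ^ i)⁻¹ := by rw [hh]; group
      have e2 : a * b * a⁻¹ = b := by rw [hAcomm a haA b hb, mul_inv_cancel_right]
      rw [e, e2] at hfixb
      calc x ^ i * b = (x ^ i * b * (x ^ i)⁻¹) * x ^ i := by group
        _ = b * x ^ i := by rw [hfixb]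
    have hcop : Nat.Coprime i p := (Nat.Coprime.symm ((Nat.Prime.coprime_iff_not_dvd hp).mpr hpi))
    obtain ⟨j, -, hj⟩ := Nat.exists_mul_mod_eq_one_of_coprime hcop hp.one_lt
    have h2 : i * j = p * (i * j / p) + 1 := by
      have := Nat.div_add_mod (i * j) p
      rw [hj] at this
      exact this.symm
    have h3 : x ^ (i * j) * b = b * x ^ (i * j) := by
      rw [pow_mul]
      exact ((show Commute (x ^ i) b from h1).pow_left j).eq
    rw [h2, pow_succ, pow_mul] at h3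
    have c := mem_center_iff.mp (hzc (i * j / p))
    -- (x^p)^l * x * b = b * ((x^p)^l * x)
    have h4 : x * b = b * x := by
      have e1 : (x ^ p) ^ (i * j / p) * x * b = (x ^ p) ^ (i * j / p) * (x * b) := by group
      have e2 : b * ((x ^ p) ^ (i * j / p) * x) = (x ^ p) ^ (i * j / p) * (b * x) := by
        rw [← mul_assoc, c b, mul_assoc]
      rw [e1, e2] at h3
      exact mul_left_cancel h3
    rw [h4, mul_inv_cancel_right]
  -- injectivity of `b ↦ h b h⁻¹ b⁻¹` on `A`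
  have hinj : ∀ b₁ ∈ A, ∀ b₂ ∈ A, h * b₁ * h⁻¹ * b₁⁻¹ = h * b₂ * h⁻¹ * b₂⁻¹ → b₁ = b₂ := by
    intro b₁ hb₁ b₂ hb₂ he
    have h1 : h * (b₂⁻¹ * b₁) * h⁻¹ = b₂⁻¹ * b₁ := by
      have e1 : h * (b₂⁻¹ * b₁) * h⁻¹ = (h * b₂ * h⁻¹)⁻¹ * (h * b₁ * h⁻¹ * b₁⁻¹) * b₁ := by group
      rw [e1, he]; group
    have := hfix _ (A.mul_mem (A.inv_mem hb₂) hb₁) h1
    calc b₁ = b₂ * (b₂⁻¹ * b₁) := by group
      _ = b₂ := by rw [this, mul_one]
  -- (iii)
  have hkey : ∀ b ∈ A, h * b * h⁻¹ * b⁻¹ ∈ H → b ∈ H := by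
    intro b hb hbH
    let φ : ↥(H ⊓ A) → ↥(H ⊓ A) := fun b₀ =>
      ⟨h * b₀.1 * h⁻¹ * b₀.1⁻¹, mem_inf.mpr
        ⟨H.mul_mem (H.mul_mem (H.mul_mem hhH (mem_inf.mp b₀.2).1) (H.inv_mem hhH))
          (H.inv_mem (mem_inf.mp b₀.2).1),
         A.mul_mem (hAn.conj_mem _ (mem_inf.mp b₀.2).2 h) (A.inv_mem (mem_inf.mp b₀.2).2)⟩⟩
    have hφinj : Function.Injective φ := by
      intro b₁ b₂ he
      have he' : h * b₁.1 * h⁻¹ * b₁.1⁻¹ = h * b₂.1 * h⁻¹ * b₂.1⁻¹ := congrArg Subtype.val he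
      exact Subtype.ext (hinj _ (mem_inf.mp b₁.2).2 _ (mem_inf.mp b₂.2).2 he')
    have hφsurj := Finite.injective_iff_surjective.mp hφinj
    obtain ⟨b₀, hb₀⟩ := hφsurj ⟨h * b * h⁻¹ * b⁻¹, mem_inf.mpr
      ⟨hbH, A.mul_mem (hAn.conj_mem _ hb h) (A.inv_mem hb)⟩⟩
    have he' : h * b₀.1 * h⁻¹ * b₀.1⁻¹ = h * b * h⁻¹ * b⁻¹ := congrArg Subtype.val hb₀
    have := hinj _ (mem_inf.mp b₀.2).2 _ hb he'
    rw [← this]
    exact (mem_inf.mp b₀.2).1
  -- (iv) H A = G
  have hHA : ∀ g : G, ∃ h' ∈ H, h'⁻¹ * g ∈ A := by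
    intro g
    obtain ⟨s, a'', ha'', rfl⟩ := hdec g
    have hmk : (QuotientGroup.mk h : G ⧸ A) = (QuotientGroup.mk x) ^ i := by
      rw [hh, QuotientGroup.mk_mul, (QuotientGroup.eq_one_iff a).mpr haA, mul_one,
        QuotientGroup.mk_pow]
    have hord : orderOf (QuotientGroup.mk x : G ⧸ A) ∣ orderOf x :=
      orderOf_dvd_of_pow_eq_one (by rw [← QuotientGroup.mk_pow, pow_orderOf_eq_one]; rfl)
    have hcop : Nat.Coprime i (orderOf (QuotientGroup.mk x : G ⧸ A)) := by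
      obtain ⟨k, hk⟩ := hxo
      rw [hk] at hord
      have : Nat.Coprime i (p ^ k) :=
        Nat.Coprime.pow_right k (Nat.Coprime.symm ((Nat.Prime.coprime_iff_not_dvd hp).mpr hpi))
      exact Nat.Coprime.coprime_dvd_right hord this
    obtain ⟨m, hm⟩ := exists_pow_eq_self_of_coprime hcop
    refine ⟨h ^ (m * s), H.pow_mem hhH _, ?_⟩
    rw [← QuotientGroup.eq, QuotientGroup.mk_pow, hmk, pow_mul, hm, QuotientGroup.mk_mul,
      (QuotientGroup.eq_one_iff a'').mpr ha'', mul_one, QuotientGroup.mk_pow]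
  -- (v)
  apply le_antisymm _ le_normalizer
  intro g hg
  obtain ⟨h', hh', hu⟩ := hHA g
  have huN : h'⁻¹ * g ∈ normalizer (H : Set G) :=
    (normalizer (H : Set G)).mul_mem ((normalizer (H : Set G)).inv_mem (le_normalizer hh')) hg
  have hcomm : h * (h'⁻¹ * g) * h⁻¹ * (h'⁻¹ * g)⁻¹ ∈ H := by
    have h1 : (h'⁻¹ * g) * h⁻¹ * (h'⁻¹ * g)⁻¹ ∈ H :=
      (mem_normalizer_iff.mp huN h⁻¹).mp (H.inv_mem hhH)
    have e : h * (h'⁻¹ * g) * h⁻¹ * (h'⁻¹ * g)⁻¹ = h * ((h'⁻¹ * g) * h⁻¹ * (h'⁻¹ * g)⁻¹) := by group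
    rw [e]
    exact H.mul_mem hhH h1
  have := hkey _ hu hcomm
  have e : g = h' * (h'⁻¹ * g) := by group
  rw [e]
  exact H.mul_mem hh' this


/-- Let G be a finite solvable non-nilpotent group. Every non-abelian subgroup of G is self-normalizing if and only if G is a semidirect product ⟨x⟩ ⋉ A in which ⟨x⟩ is a p-group for some prime p, A is a normal abelian subgroup of order prime to p, x^p is central in G, and x acts fixed-point-freely on A (no non-identity element of A commutes with x). -/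
theorem result {G : Type*} [Group G] [Finite G]
    [Group.IsSolvable G] (hnn : ¬ Group.IsNilpotent G) :
    (∀ H : Subgroup G, ¬ IsMulCommutative H → Subgroup.normalizer (H : Set G) = H) ↔
    ∃ (x : G) (A : Subgroup G) (p : ℕ), p.Prime ∧ A.Normal ∧ IsMulCommutative A ∧ (∃ k : ℕ, orderOf x = p ^ k) ∧
      ¬ p ∣ Nat.card A ∧ (Subgroup.zpowers x).IsComplement' A ∧ x ^ p ∈ Subgroup.center G ∧
      ∀ a : G, a ∈ A → a ≠ 1 → x * a * x⁻¹ ≠ a := by
  constructor
  · intro hSN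
    exact forward hnn hSN
  · rintro ⟨x, A, p, hp, hAn, hAc, hxo, -, hcompl, hxp, hfpf⟩ H hH
    exact backward x A p hp hAc hxo hcompl hxp hfpf H hH

end Cfsg.Agent.S4071
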