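-- Statement S4074: dihedral groups in which every non-abelian subgroup is self-normalizing.
import Mathlib
import Cfsg.Statements.S4074

set_option autoImplicit false
open Cfsg

namespace Cfsg.Agent.S4074

open DihedralGroup

/-- powers of a rotation -/
theorem r_pow' {n : ℕ} (a : ZMod n) (m : ℕ) : (r a : DihedralGroup n) ^ m = r ((m : ZMod n) * a) := by
  induction m with
  | zero => simp
  | succ m ih =>
    rw [pow_succ, ih, r_mul_r]
    congr 1
    push_cast
    ring

/-- A non-commutative subgroup of a dihedral group contains a reflection and a rotation `r j`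
with `j + j ≠ 0`. -/
theorem exists_of_not_comm {n : ℕ} (H : Subgroup (DihedralGroup n)) (h : ¬ IsMulCommutative H) :
    ∃ i j : ZMod n, sr i ∈ H ∧ r j ∈ H ∧ j + j ≠ 0 := by
  by_contra hcon
  push Not at hcon
  apply h
  refine ⟨⟨?_⟩⟩
  rintro ⟨a, ha⟩ ⟨b, hb⟩
  apply Subtype.ext
  show a * b = b * a
  rcases a with a | a <;> rcases b with b | b
  · rw [r_mul_r, r_mul_r, add_comm]
  · rw [r_mul_sr, sr_mul_r]
    have := hcon b a hb ha
    congr 1
    have h2 : -a = a := by
      rw [neg_eq_iff_add_eq_zero]; exact this
    rw [sub_eq_add_neg, h2]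
  · rw [r_mul_sr, sr_mul_r]
    have := hcon a b ha hb
    congr 1
    have h2 : -b = b := by
      rw [neg_eq_iff_add_eq_zero]; exact this
    rw [sub_eq_add_neg, h2]
  · rw [sr_mul_sr, sr_mul_sr]
    have hmem : r (b - a) ∈ H := by
      have := H.mul_mem ha hb
      rwa [sr_mul_sr] at this
    have := hcon a (b - a) ha hmem
    congr 1
    have h2 : -(b - a) = b - a := by
      rw [neg_eq_iff_add_eq_zero]; exact this
    rw [← h2]; ring

/-- For odd `n`, a rotation normalizing a subgroup that contains a reflection lies in it. -/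
theorem r_mem_of_mem_normalizer {n : ℕ} (hn : Odd n) (H : Subgroup (DihedralGroup n))
    (i k : ZMod n) (hi : sr i ∈ H) (hk : r k ∈ Subgroup.normalizer (H : Set (DihedralGroup n))) :
    r k ∈ H := by
  have h1 : r k * sr i * (r k)⁻¹ ∈ H := (Subgroup.mem_normalizer_iff.mp hk (sr i)).mp hi
  rw [inv_r, r_mul_sr, sr_mul_r] at h1
  have h2 : r (i - k + -k - i) ∈ H := by
    have := H.mul_mem hi h1
    rwa [sr_mul_sr] at this
  have h3 : r (k + k) ∈ H := by
    have := H.inv_mem h2
    rw [inv_r] at this
    have e : -(i - k + -k - i) = k + k := by ring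
    rwa [e] at this
  obtain ⟨m, hm⟩ := hn
  have h4 : (r (k + k)) ^ (m + 1) ∈ H := H.pow_mem h3 _
  rw [r_pow'] at h4
  have e : ((m + 1 : ℕ) : ZMod n) * (k + k) = k := by
    have hn0 : ((2 * m + 1 : ℕ) : ZMod n) = 0 := by
      rw [← hm]; exact ZMod.natCast_self n
    push_cast at hn0 ⊢
    have : ((m : ZMod n) + 1) * (k + k) = (2 * (m : ZMod n) + 1) * k + k := by ring
    rw [this, hn0, zero_mul, zero_add]
  rwa [e] at h4

/-- The parity homomorphism of a dihedral group of even degree. -/
noncomputable def parity {n : ℕ} (h2 : 2 ∣ n) : DihedralGroup n →* Multiplicative (ZMod 2) where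
  toFun
    | r i => Multiplicative.ofAdd (ZMod.castHom h2 (ZMod 2) i)
    | sr i => Multiplicative.ofAdd (ZMod.castHom h2 (ZMod 2) i)
  map_one' := by
    show Multiplicative.ofAdd (ZMod.castHom h2 (ZMod 2) 0) = 1
    simp
  map_mul' := by
    have key : ∀ a b : ZMod 2, a - b = b + a := by decide
    rintro (i | i) (j | j)
    · show Multiplicative.ofAdd (ZMod.castHom h2 (ZMod 2) (i + j)) = _
      rw [map_add]; rfl
    · show Multiplicative.ofAdd (ZMod.castHom h2 (ZMod 2) (j - i)) = _
      rw [map_sub, key]; rfl
    · show Multiplicative.ofAdd (ZMod.castHom h2 (ZMod 2) (i + j)) = _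
      rw [map_add]; rfl
    · show Multiplicative.ofAdd (ZMod.castHom h2 (ZMod 2) (j - i)) = _
      rw [map_sub, key]; rfl

/-- For n > 2, every non-abelian subgroup of the dihedral group of order 2n is self-normalizing if and only if n = 4 or n is odd. -/
theorem result (n : ℕ) (hn : 2 < n) :
    (∀ H : Subgroup (DihedralGroup n), ¬ IsMulCommutative H → Subgroup.normalizer (H : Set (DihedralGroup n)) = H) ↔
    (n = 4 ∨ Odd n) := by
  constructor
  · intro hP
    by_contra hcon
    push Not at hcon
    obtain ⟨hn4, hodd⟩ := hcon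
    have heven : Even n := Nat.not_odd_iff_even.mp hodd
    have h2 : 2 ∣ n := heven.two_dvd
    have hn6 : 6 ≤ n := by
      obtain ⟨m, hm⟩ := heven
      omega
    set φ := parity h2 with hφ
    have hr2 : (r 2 : DihedralGroup n) ∈ φ.ker := by
      rw [MonoidHom.mem_ker]
      show Multiplicative.ofAdd (ZMod.castHom h2 (ZMod 2) 2) = 1
      have : (ZMod.castHom h2 (ZMod 2)) 2 = 0 := by
        rw [map_ofNat]; decide
      rw [this]; rfl
    have hs0 : (sr 0 : DihedralGroup n) ∈ φ.ker := by
      rw [MonoidHom.mem_ker]
      show Multiplicative.ofAdd (ZMod.castHom h2 (ZMod 2) 0) = 1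
      simp
    have hr1 : (r 1 : DihedralGroup n) ∉ φ.ker := by
      rw [MonoidHom.mem_ker]
      show ¬ Multiplicative.ofAdd (ZMod.castHom h2 (ZMod 2) 1) = 1
      rw [map_one]
      decide
    have hnc : ¬ IsMulCommutative φ.ker := by
      intro hc
      have := hc.is_comm.comm (⟨r 2, hr2⟩ : φ.ker) ⟨sr 0, hs0⟩
      have h' := congrArg Subtype.val this
      simp only [Subgroup.coe_mul] at h'
      rw [r_mul_sr, sr_mul_r] at h'
      have h'' : (0 : ZMod n) - 2 = 0 + 2 := by
        injection h'
      have h4 : ((4 : ℕ) : ZMod n) = 0 := by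
        push_cast
        have : (4 : ZMod n) = (0 + 2) - (0 - 2) := by ring
        rw [this, h'']; ring
      rw [ZMod.natCast_eq_zero_iff] at h4
      have := Nat.le_of_dvd (by norm_num) h4
      omega
    have := hP φ.ker hnc
    rw [Subgroup.normalizer_eq_top] at this
    apply hr1
    rw [← this]
    exact Subgroup.mem_top _
  · intro hcase H hH
    apply le_antisymm _ Subgroup.le_normalizer
    intro g hg
    obtain ⟨i, j, hi, hj, hjj⟩ := exists_of_not_comm H hH
    rcases hcase with h4 | hodd
    · subst h4
      -- r 1 ∈ H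
      have hall : ∀ j : ZMod 4, j + j ≠ 0 → j = 1 ∨ j = 3 := by decide
      have hj13 : j = 1 ∨ j = 3 := hall j hjj
      have hr1 : (r 1 : DihedralGroup 4) ∈ H := by
        rcases hj13 with rfl | rfl
        · exact hj
        · have := H.inv_mem hj
          rw [inv_r] at this
          have e : (-3 : ZMod 4) = 1 := by decide
          rwa [e] at this
      have hrk : ∀ k : ZMod 4, (r k : DihedralGroup 4) ∈ H := by
        intro k
        have := H.pow_mem hr1 k.val
        rw [r_one_pow, ZMod.natCast_zmod_val] at this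
        exact this
      rcases g with k | k
      · exact hrk k
      · have := H.mul_mem hi (hrk (k - i))
        rw [sr_mul_r] at this
        have e : i + (k - i) = k := by ring
        rwa [e] at this
    · rcases g with k | k
      · exact r_mem_of_mem_normalizer hodd H i k hi hg
      · have hmem : r (k - i) ∈ Subgroup.normalizer (H : Set (DihedralGroup n)) := by
          have h1 : (sr i)⁻¹ * sr k ∈ Subgroup.normalizer (H : Set (DihedralGroup n)) :=
            Subgroup.mul_mem _ (Subgroup.inv_mem _ (Subgroup.le_normalizer hi)) hg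
          rwa [inv_sr, sr_mul_sr] at h1
        have h2 := r_mem_of_mem_normalizer hodd H i (k - i) hi hmem
        have := H.mul_mem hi h2
        rw [sr_mul_r] at this
        have e : i + (k - i) = k := by ring
        rwa [e] at this

end Cfsg.Agent.S4074
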