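-- Statement S4080: automorphisms of order p of C_{p²} × C_{p²} fix Ω₁ (p > 3).
import Mathlib
import Cfsg.Statements.S4080

set_option autoImplicit false
open Cfsg

namespace Cfsg.Agent.S4080


/-- Cayley–Hamilton for 2×2 matrices. -/
theorem sq_eq_fin_two {F : Type*} [CommRing F] (A : Matrix (Fin 2) (Fin 2) F) :
    A ^ 2 = A.trace • A - A.det • (1 : Matrix (Fin 2) (Fin 2) F) := by
  rw [Matrix.trace_fin_two, Matrix.det_fin_two, sq]
  ext i j
  fin_cases i <;> fin_cases j <;>
    simp [Matrix.mul_apply, Fin.sum_univ_two] <;> ring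

/-- A nilpotent 2×2 matrix over a field squares to zero. -/
theorem sq_eq_zero_of_pow_eq_zero {F : Type*} [Field F] (A : Matrix (Fin 2) (Fin 2) F) (k : ℕ)
    (hA : A ^ k = 0) : A ^ 2 = 0 := by
  have hdet : A.det = 0 := by
    have h1 : A.det ^ k = 0 := by rw [← Matrix.det_pow, hA]; simp [Matrix.det_zero]
    exact eq_zero_of_pow_eq_zero h1
  have hsq : A ^ 2 = A.trace • A := by
    rw [sq_eq_fin_two, hdet, zero_smul, sub_zero]
  -- A^(m+1) = t^m • A
  have hpow : ∀ m : ℕ, A ^ (m + 1) = A.trace ^ m • A := by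
    intro m
    induction m with
    | zero => simp
    | succ m ih =>
      rw [pow_succ, ih, smul_mul_assoc, ← sq, hsq, smul_smul, pow_succ]
  rcases Nat.eq_zero_or_pos k with h0 | h0
  · subst h0; simp at hA
  · obtain ⟨m, rfl⟩ : ∃ m, k = m + 1 := ⟨k - 1, by omega⟩
    rw [hpow] at hA
    rcases smul_eq_zero.mp hA with h1 | h1
    · have : A.trace = 0 := eq_zero_of_pow_eq_zero h1
      rw [hsq, this, zero_smul]
    · rw [h1]; simp




/-- an element of `ZMod (p^2)` reducing to zero mod `p` is a multiple of `p` -/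
theorem exists_mul_of_cast_eq_zero (p : ℕ) [Fact p.Prime] (r : ZMod (p ^ 2))
    (h : (ZMod.castHom (dvd_pow_self p two_ne_zero) (ZMod p)) r = 0) :
    ∃ s : ZMod (p ^ 2), r = (p : ZMod (p ^ 2)) * s := by
  haveI : NeZero (p ^ 2) := ⟨pow_ne_zero 2 (Fact.out : p.Prime).ne_zero⟩
  rw [ZMod.castHom_apply, ZMod.cast_eq_val, ZMod.natCast_eq_zero_iff] at h
  obtain ⟨c, hc⟩ := h
  refine ⟨(c : ZMod (p ^ 2)), ?_⟩
  rw [← ZMod.natCast_zmod_val r, hc]
  push_cast
  rfl

theorem p_mul_p (p : ℕ) : (p : ZMod (p ^ 2)) * (p : ZMod (p ^ 2)) = 0 := by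
  rw [← Nat.cast_mul, ← sq, ZMod.natCast_self]

theorem matrix_key (p : ℕ) [Fact p.Prime] (hp : 3 < p) (M : Matrix (Fin 2) (Fin 2) (ZMod (p ^ 2)))
    (hM : M ^ p = 1) : (p : ZMod (p ^ 2)) • (M - 1) = 0 := by
  have hpp : p.Prime := Fact.out
  let red : ZMod (p ^ 2) →+* ZMod p := ZMod.castHom (dvd_pow_self p two_ne_zero) (ZMod p)
  set N := M - 1 with hN
  -- reduction mod p
  have hMbar : (red.mapMatrix M) ^ p = 1 := by rw [← map_pow, hM, map_one]
  have hNbar : (red.mapMatrix N) ^ p = 0 := by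
    rw [hN, map_sub, map_one, sub_pow_char_of_commute p (Commute.one_right _), hMbar, one_pow, sub_self]
  have hNbar2 : (red.mapMatrix N) ^ 2 = 0 := sq_eq_zero_of_pow_eq_zero _ p hNbar
  -- N² = p • K
  have hK : ∃ K : Matrix (Fin 2) (Fin 2) (ZMod (p ^ 2)), N ^ 2 = (p : ZMod (p ^ 2)) • K := by
    have hent : ∀ i j, ∃ s : ZMod (p ^ 2), (N ^ 2) i j = (p : ZMod (p ^ 2)) * s := by
      intro i j
      apply exists_mul_of_cast_eq_zero
      have := congrFun (congrFun hNbar2 i) j
      rw [← map_pow] at this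
      exact this
    choose K hK using hent
    exact ⟨Matrix.of K, by ext i j; simp [hK i j]⟩
  obtain ⟨K, hK⟩ := hK
  -- binomial expansion
  have hM' : M = N + 1 := by rw [hN]; abel
  have hexp := (Commute.one_right N).add_pow p
  rw [← hM', hM] at hexp
  simp only [one_pow, mul_one] at hexp
  -- split the sum
  obtain ⟨q, hq⟩ : ∃ q, p = q + 2 := ⟨p - 2, by omega⟩
  have hpmat : ((p : ℕ) : Matrix (Fin 2) (Fin 2) (ZMod (p ^ 2))) = (p : ZMod (p ^ 2)) • (1 : Matrix (Fin 2) (Fin 2) (ZMod (p ^ 2))) := by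
    rw [Nat.cast_smul_eq_nsmul, nsmul_eq_mul, mul_one]
  have hzero : ∀ m, m < q → N ^ (m + 2) * ((p.choose (m + 2) : ℕ) : Matrix (Fin 2) (Fin 2) (ZMod (p ^ 2))) = 0 := by
    intro m hm
    have hdvd : p ∣ p.choose (m + 2) := hpp.dvd_choose_self (by omega) (by omega)
    obtain ⟨c, hc⟩ := hdvd
    rw [hc, pow_add, hK, Nat.cast_mul, hpmat]
    simp only [Matrix.mul_smul, Matrix.smul_mul, smul_smul, mul_one, Matrix.mul_one]
    rw [p_mul_p, zero_smul]
  have htop : N ^ p = 0 := by
    have h4 : N ^ p = N ^ 2 * N ^ 2 * N ^ (p - 4) := by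
      rw [← pow_add, ← pow_add]
      congr 1
      omega
    rw [h4, hK]
    simp only [Matrix.mul_smul, Matrix.smul_mul, smul_smul]
    rw [p_mul_p, zero_smul]
  rw [Finset.sum_range_succ, Nat.choose_self, Nat.cast_one, mul_one, htop, add_zero] at hexp
  have hp2 : p = q + 1 + 1 := by omega
  have hsum : ∑ x ∈ Finset.range p, N ^ x * ((p.choose x : ℕ) : Matrix (Fin 2) (Fin 2) (ZMod (p ^ 2)))
      = 1 + (p : ZMod (p ^ 2)) • N := by
    rw [congrArg Finset.range hp2]
    rw [Finset.sum_range_succ', Finset.sum_range_succ']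
    rw [Finset.sum_eq_zero]
    · simp only [zero_add, pow_zero, Nat.choose_zero_right, Nat.cast_one, mul_one, pow_one,
        Nat.choose_one_right]
      rw [add_comm]
      congr 1
      rw [hpmat]
      simp
    · intro m hm
      rw [Finset.mem_range] at hm
      exact hzero m (by omega)
  rw [hsum] at hexp
  have : (p : ZMod (p ^ 2)) • N = 0 := by
    have h1 : (1 : Matrix (Fin 2) (Fin 2) (ZMod (p ^ 2))) + (p : ZMod (p ^ 2)) • N = 1 + 0 := by rw [add_zero]; exact hexp.symm
    exact add_left_cancel h1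
  exact this




theorem matrix_key' (p n : ℕ) [Fact p.Prime] (hp : 3 < p) (hn : p ^ 2 = n) (M : Matrix (Fin 2) (Fin 2) (ZMod n))
    (hM : M ^ p = 1) : (p : ZMod n) • (M - 1) = 0 := by
  subst hn
  exact matrix_key p hp M hM

/-- an element of `ZMod (p^2)` killed by `p` is a multiple of `p` -/
theorem exists_mul_of_nsmul_eq_zero (p n : ℕ) [Fact p.Prime] (hn : p ^ 2 = n) (u : ZMod n)
    (h : p • u = 0) : ∃ s : ZMod n, u = (p : ZMod n) * s := by
  have hpp : p.Prime := Fact.out
  haveI : NeZero n := ⟨by rw [← hn]; exact pow_ne_zero 2 hpp.ne_zero⟩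
  rw [nsmul_eq_mul, ← ZMod.natCast_zmod_val u, ← Nat.cast_mul, ZMod.natCast_eq_zero_iff] at h
  have h' : p * p ∣ p * u.val := by rw [← pow_two, hn]; exact h
  have h2 : p ∣ u.val := Nat.dvd_of_mul_dvd_mul_left hpp.pos h'
  obtain ⟨c, hc⟩ := h2
  refine ⟨(c : ZMod n), ?_⟩
  rw [← ZMod.natCast_zmod_val u, hc]
  push_cast
  rfl

theorem result' {p n : ℕ} [Fact p.Prime] (hp : 3 < p) (hn : p ^ 2 = n)
    (a : MulAut (Multiplicative (ZMod n × ZMod n))) (ha : orderOf a = p)
    (x : Multiplicative (ZMod n × ZMod n)) (hx : orderOf x = p) : a x = x := by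
  -- additive version
  let f : (ZMod n × ZMod n) ≃+ (ZMod n × ZMod n) := AddEquiv.toMultiplicative.symm a
  have hf : ∀ v, f v = Multiplicative.toAdd (a (Multiplicative.ofAdd v)) := fun v => rfl
  let φ : (ZMod n × ZMod n) →ₗ[ZMod n] (ZMod n × ZMod n) :=
    (f : (ZMod n × ZMod n) →+ (ZMod n × ZMod n)).toZModLinearMap n
  have hφ : ∀ v, φ v = f v := fun v => rfl
  have hpow : ∀ k : ℕ, ∀ v, (φ ^ k) v = Multiplicative.toAdd ((a ^ k) (Multiplicative.ofAdd v)) := by
    intro k
    induction k with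
    | zero => intro v; simp
    | succ k ih =>
      intro v
      rw [pow_succ', pow_succ', Module.End.mul_apply, MulAut.mul_apply, ih, hφ, hf]
      rfl
  have hφp : φ ^ p = 1 := by
    refine LinearMap.ext fun v => ?_
    rw [hpow, ← ha, pow_orderOf_eq_one]
    rfl
  -- matrix
  let b := Module.Basis.finTwoProd (ZMod n)
  have hM : (LinearMap.toMatrixAlgEquiv b φ) ^ p = 1 := by rw [← map_pow, hφp, map_one]
  have key := matrix_key' p n hp hn _ hM
  have hφkey : (p : ZMod n) • (φ - 1) = 0 := by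
    apply (LinearMap.toMatrixAlgEquiv b).injective
    rw [map_smul, map_sub, map_one, map_zero]
    exact key
  -- x = p • y
  have hxp : x ^ p = 1 := by rw [← hx]; exact pow_orderOf_eq_one x
  have hxp' : p • Multiplicative.toAdd x = 0 := by
    have := congrArg Multiplicative.toAdd hxp
    simpa using this
  obtain ⟨u', hu'⟩ := exists_mul_of_nsmul_eq_zero p n hn (Multiplicative.toAdd x).1
    (by have := congrArg Prod.fst hxp'; simpa using this)
  obtain ⟨v', hv'⟩ := exists_mul_of_nsmul_eq_zero p n hn (Multiplicative.toAdd x).2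
    (by have := congrArg Prod.snd hxp'; simpa using this)
  have hxy : Multiplicative.toAdd x = (p : ZMod n) • ((u', v') : ZMod n × ZMod n) := by
    ext
    · simp [hu']
    · simp [hv']
  have h1 : (φ - 1) (Multiplicative.toAdd x) = 0 := by
    rw [hxy, map_smul, ← LinearMap.smul_apply, hφkey]
    rfl
  have h2 : φ (Multiplicative.toAdd x) = Multiplicative.toAdd x := by
    have : (φ - 1) (Multiplicative.toAdd x) = φ (Multiplicative.toAdd x) - Multiplicative.toAdd x := rfl
    rw [this] at h1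
    exact sub_eq_zero.mp h1
  rw [hφ, hf] at h2
  exact Multiplicative.toAdd.injective h2

/-- Let p > 3 be a prime and L the direct product of two cyclic groups of order p². Every automorphism of L of order p fixes every element of order p of L. -/
theorem result {p : ℕ} [Fact p.Prime] (hp : 3 < p)
    (a : MulAut (Multiplicative (ZMod (p ^ 2) × ZMod (p ^ 2)))) (ha : orderOf a = p)
    (x : Multiplicative (ZMod (p ^ 2) × ZMod (p ^ 2))) (hx : orderOf x = p) : a x = x :=
  result' hp rfl a ha x hx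

end Cfsg.Agent.S4080
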