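import Cfsg.Statements.S4081
import Cfsg.Agent.Lib.BurnsidePQ
import Cfsg.Agent.Helper57.ThreeOrbH
import Cfsg.Agent.Helper57.ThreeOrbI

set_option autoImplicit false
open Cfsg

namespace Cfsg.Agent.S4081

open Cfsg.Agent.Helper57.ThreeOrb
open scoped commutatorElement

theorem factorization_aux2 {p q n : ℕ} (hp : p.Prime) (hq : q.Prime) (hpq : p ≠ q) :
    (p ^ n * q).factorization p = n := by
  rw [Nat.factorization_mul (pow_ne_zero _ hp.ne_zero) hq.ne_zero, Nat.factorization_pow,
    hp.factorization, hq.factorization]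
  simp [Finsupp.single_apply, Ne.symm hpq]

/-- The direction `⇐`. -/
theorem backward {G : Type*} [Group G] [Finite G] {p q n : ℕ} [hp : Fact p.Prime]
    [hq : Fact q.Prime] (hpq : p ≠ q) (hn : 1 ≤ n) (hcard : Nat.card G = p ^ n * q)
    (hS : ∀ P : Sylow p G, (P : Subgroup G).Normal ∧ Cfsg.IsElementaryAbelian p (P : Subgroup G))
    (hord : orderOf (p : ZMod q) = q - 1)
    (hfpf : ∀ x y : G, orderOf x = q → orderOf y = p → x * y * x⁻¹ ≠ y) :
    Nat.card (MulAction.orbitRel.Quotient (MulAut G) G) = 3 := by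
  classical
  have hpp : p.Prime := hp.out
  have hqp : q.Prime := hq.out
  let P₀ : Sylow p G := Classical.arbitrary _
  obtain ⟨hPn, hPea⟩ := hS P₀
  have hPcard : Nat.card (P₀ : Subgroup G) = p ^ n := by
    rw [P₀.card_eq_multiplicity, hcard, factorization_aux2 hpp hqp hpq]
  have hPcomm : ∀ a b : (P₀ : Subgroup G), a * b = b * a := fun a b => hPea.1.is_comm.comm a b
  have hPexp : ∀ a : (P₀ : Subgroup G), a ^ p = 1 := by
    intro a
    apply Subtype.ext
    exact hPea.2 a a.2
  obtain ⟨x, hx⟩ := exists_prime_orderOf_dvd_card' (G := G) q (by rw [hcard]; exact dvd_mul_left _ _)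
  have hc : Subgroup.IsComplement' (P₀ : Subgroup G) (Subgroup.zpowers x) := by
    apply Subgroup.isComplement'_of_coprime
    · rw [hPcard, Nat.card_zpowers, hx, hcard]
    · rw [hPcard, Nat.card_zpowers, hx]
      exact Nat.Coprime.pow_left n ((Nat.coprime_primes hpp hqp).2 hpq)
  have h1 : ∀ g ∈ (P₀ : Subgroup G), g ≠ 1 → orderOf g = p := fun g hg hg1 =>
    orderOf_eq_of_mem (P₀ : Subgroup G) hPexp hg hg1
  have h2 : ∀ g ∉ (P₀ : Subgroup G), orderOf g = q := fun g hg =>
    orderOf_eq_of_not_mem hpq hcard (P₀ : Subgroup G) hPcard hPexp hfpf hg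
  have hP : ∃ y ∈ (P₀ : Subgroup G), y ≠ 1 := by
    have hne : (P₀ : Subgroup G) ≠ ⊥ := by
      intro h
      have h3 : Nat.card (P₀ : Subgroup G) = 1 := by rw [h]; exact Subgroup.card_bot
      rw [hPcard] at h3
      have h4 : p ^ 1 ≤ p ^ n := Nat.pow_le_pow_right hpp.pos hn
      rw [pow_one] at h4
      have := hpp.two_le
      omega
    obtain ⟨y, hy⟩ := Subgroup.ne_bot_iff_exists_ne_one.1 hne
    exact ⟨y, y.2, fun h => hy (Subtype.ext h)⟩
  have hxP : x ∉ (P₀ : Subgroup G) := by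
    intro hxP
    by_cases hx1 : x = 1
    · rw [hx1, orderOf_one] at hx
      exact hqp.one_lt.ne hx
    · have := h1 x hxP hx1
      rw [hx] at this
      exact hpq this.symm
  apply card_orbits_eq_three (P₀ : Subgroup G) hpp.one_lt.ne' hqp.one_lt.ne' hpq h1 h2 hP ⟨x, hxP⟩
  · intro y hy y' hy' hy1 hy'1
    exact exists_aut_P hpq (P₀ : Subgroup G) x hx hc hPcomm hPexp hord hfpf hy hy' hy1 hy'1
  · intro g hg g' hg'
    obtain ⟨β, hβ⟩ := exists_aut_x hpq hcard (P₀ : Subgroup G) hPcard x hx hc hPcomm hPexp hord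
      hfpf hg
    obtain ⟨β', hβ'⟩ := exists_aut_x hpq hcard (P₀ : Subgroup G) hPcard x hx hc hPcomm hPexp hord
      hfpf hg'
    refine ⟨β' * β⁻¹, ?_⟩
    rw [MulAut.mul_apply, ← hβ, MulAut.inv_apply_self, hβ']

/-- The direction `⇒`. -/
theorem forward {G : Type*} [Group G] [Finite G] (hnpp : ¬ IsPrimePow (Nat.card G))
    (hnt : Nat.card G ≠ 1)
    (h3 : Nat.card (MulAction.orbitRel.Quotient (MulAut G) G) = 3) :
    ∃ (p q n : ℕ) (_ : Fact p.Prime) (_ : Fact q.Prime), p ≠ q ∧ 1 ≤ n ∧ Nat.card G = p ^ n * q ∧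
      (∀ P : Sylow p G, (P : Subgroup G).Normal ∧ Cfsg.IsElementaryAbelian p (P : Subgroup G)) ∧
      orderOf (p : ZMod q) = q - 1 ∧
      ∀ x y : G, orderOf x = q → orderOf y = p → x * y * x⁻¹ ≠ y := by
  classical
  -- two distinct primes
  obtain ⟨p, hp, hpG⟩ := Nat.exists_prime_and_dvd hnt
  have hex : ∃ q : ℕ, q.Prime ∧ q ∣ Nat.card G ∧ q ≠ p := by
    by_contra hcon
    push Not at hcon
    apply hnpp
    rw [isPrimePow_iff_unique_prime_dvd]
    exact ⟨p, ⟨hp, hpG⟩, fun r hr => hcon r hr.1 hr.2⟩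
  obtain ⟨q, hq, hqG, hqp⟩ := hex
  have hpq : p ≠ q := Ne.symm hqp
  obtain ⟨H1, H2⟩ := extract hp hq hpq hpG hqG h3
  have hpF : Fact p.Prime := ⟨hp⟩
  have hqF : Fact q.Prime := ⟨hq⟩
  obtain ⟨a, ha⟩ := exists_prime_orderOf_dvd_card' (G := G) p hpG
  obtain ⟨b, hb⟩ := exists_prime_orderOf_dvd_card' (G := G) q hqG
  -- solvability
  have hsolv : Group.IsSolvable G := by
    apply Cfsg.Agent.Lib.isSolvable_of_prime_dvd_card hp hq
    intro r hr hrG
    have : Fact r.Prime := ⟨hr⟩
    obtain ⟨c, hc⟩ := exists_prime_orderOf_dvd_card' (G := G) r hrG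
    rcases H1 c with h | h | h
    · exfalso; rw [hc] at h; exact hr.one_lt.ne' h
    · left; rw [← hc, h]
    · right; rw [← hc, h]
  -- a nontrivial characteristic abelian subgroup
  have hnontriv : Nontrivial G := by
    rw [← Finite.one_lt_card_iff_nontrivial]
    have := Nat.card_pos (α := G)
    omega
  obtain ⟨k, hk⟩ := hsolv.solvable
  have hfind : ∃ k, derivedSeries G k = ⊥ := ⟨k, hk⟩
  let k₀ := Nat.find hfind
  have hk₀ : derivedSeries G k₀ = ⊥ := Nat.find_spec hfind
  have hk₀pos : k₀ ≠ 0 := by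
    intro h
    rw [h, derivedSeries_zero] at hk₀
    exact top_ne_bot hk₀
  obtain ⟨m, hm⟩ := Nat.exists_eq_succ_of_ne_zero hk₀pos
  have hAne : derivedSeries G m ≠ ⊥ := by
    intro h
    have := Nat.find_min' hfind h
    omega
  have hAchar : ∀ (α : MulAut G) (g : G), g ∈ derivedSeries G m → α g ∈ derivedSeries G m := by
    intro α g hg
    have hch : (derivedSeries G m).Characteristic := derivedSeries_characteristic G m
    have := Subgroup.characteristic_iff_comap_eq.1 hch α
    rw [← this] at hg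
    exact hg
  have hAcomm : ∀ a b : G, a ∈ derivedSeries G m → b ∈ derivedSeries G m → a * b = b * a := by
    intro a b ha hb
    have h1 : ⁅a, b⁆ ∈ derivedSeries G (m + 1) := by
      rw [derivedSeries_succ]
      exact Subgroup.commutator_mem_commutator ha hb
    rw [← Nat.succ_eq_add_one, ← hm, hk₀, Subgroup.mem_bot] at h1
    exact (commutatorElement_eq_one_iff_commute.1 h1).eq
  obtain ⟨a₀, ha₀1⟩ := Subgroup.ne_bot_iff_exists_ne_one.1 hAne
  have ha₀1' : (a₀ : G) ≠ 1 := fun h => ha₀1 (Subtype.ext h)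
  rcases H1 (a₀ : G) with h | h | h
  · exact absurd (orderOf_eq_one_iff.1 h) ha₀1'
  · obtain ⟨n, hn, hcard, hS, hord, hfpf⟩ := structure_of_char (r := p) (s := q) hpq H1 H2
      (derivedSeries G m) hAchar hAcomm (a₀ : G) a₀.2 h b hb
    exact ⟨p, q, n, hpF, hqF, hpq, hn, hcard, hS, hord, hfpf⟩
  · have H1' : ∀ g : G, orderOf g = 1 ∨ orderOf g = q ∨ orderOf g = p := by
      intro g
      rcases H1 g with h' | h' | h'
      · exact Or.inl h'
      · exact Or.inr (Or.inr h')
      · exact Or.inr (Or.inl h')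
    obtain ⟨n, hn, hcard, hS, hord, hfpf⟩ := structure_of_char (r := q) (s := p) hqp H1' H2
      (derivedSeries G m) hAchar hAcomm (a₀ : G) a₀.2 h a ha
    exact ⟨q, p, n, hqF, hpF, hqp, hn, hcard, hS, hord, hfpf⟩

/-- Let G be a finite group whose order is not a prime power. Then the automorphism group of G has exactly three orbits on G if and only if there are distinct primes p, q with #G = pⁿ·q (n ≥ 1) such that G has a normal elementary abelian Sylow p-subgroup P, p is a primitive root modulo q (the multiplicative order of p mod q is q − 1), and every element of order q of G acts on P without non-identity fixed points. -/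
theorem result {G : Type*} [Group G] [Finite G] (hnpp : ¬ IsPrimePow (Nat.card G)) (hnt : Nat.card G ≠ 1) :
    Nat.card (MulAction.orbitRel.Quotient (MulAut G) G) = 3 ↔
    ∃ (p q n : ℕ) (_ : Fact p.Prime) (_ : Fact q.Prime), p ≠ q ∧ 1 ≤ n ∧ Nat.card G = p ^ n * q ∧
      (∀ P : Sylow p G, (P : Subgroup G).Normal ∧ Cfsg.IsElementaryAbelian p (P : Subgroup G)) ∧
      orderOf (p : ZMod q) = q - 1 ∧
      ∀ x y : G, orderOf x = q → orderOf y = p → x * y * x⁻¹ ≠ y := by
  constructor
  · intro h3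
    exact forward hnpp hnt h3
  · rintro ⟨p, q, n, hpF, hqF, hpq, hn, hcard, hS, hord, hfpf⟩
    exact backward hpq hn hcard hS hord hfpf

end Cfsg.Agent.S4081
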