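import Mathlib
import Cfsg.Statements.S4082
import Cfsg.Agent.Helper45.Dihedral

set_option autoImplicit false
set_option linter.style.haveILetI false
open Cfsg

namespace Cfsg.Agent.S4082

open Subgroup

/-- a group with a normal `p`-subgroup with cyclic quotient is "p-by-cyclic" in the sense of the
statement -/
theorem pbc_of_normal {K : Type*} [Group K] [Finite K] (p : ℕ) [Fact p.Prime] (S₀ : Subgroup K)
    [hn : S₀.Normal] (hS₀ : IsPGroup p S₀) (hcyc : IsCyclic (K ⧸ S₀)) :
    (∀ S : Sylow p K, (S : Subgroup K).Normal) ∧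
    (∀ (S : Sylow p K) [(S : Subgroup K).Normal], IsCyclic (K ⧸ (S : Subgroup K))) := by
  have hle : ∀ S : Sylow p K, S₀ ≤ (S : Subgroup K) := fun S => hS₀.le_sylow_of_normal S
  have hcomm : _root_.commutator K ≤ S₀ := by
    letI : CommGroup (K ⧸ S₀) := IsCyclic.commGroup
    have := Abelianization.commutator_subset_ker (QuotientGroup.mk' S₀)
    rwa [QuotientGroup.ker_mk'] at this
  refine ⟨fun S => Subgroup.Normal.of_commutator_le K (hcomm.trans (hle S)), ?_⟩
  intro S hS
  have hsurj : Function.Surjective (QuotientGroup.map S₀ (S : Subgroup K) (MonoidHom.id K)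
      (fun x hx => hle S hx)) := by
    intro q
    obtain ⟨k, rfl⟩ := QuotientGroup.mk_surjective q
    exact ⟨(k : K ⧸ S₀), rfl⟩
  exact isCyclic_of_surjective _ hsurj

/-- in a cyclic or dihedral group, an element either centralizes or inverts all elements of odd
order (and in the latter case is an involution) -/
theorem comm_or_invert {K : Type*} [Group K] {m : ℕ}
    (h : IsCyclic K ∨ Nonempty (K ≃* DihedralGroup m)) (x : K) :
    (∀ a : K, Odd (orderOf a) → x * a = a * x) ∨
    (orderOf x = 2 ∧ ∀ a : K, Odd (orderOf a) → x * a * x⁻¹ = a⁻¹) := by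
  rcases h with h | ⟨⟨f⟩⟩
  · left
    intro a _
    letI : CommGroup K := IsCyclic.commGroup
    exact mul_comm x a
  · have hodd : ∀ a : K, Odd (orderOf a) → ∃ i, f a = DihedralGroup.r i := by
      intro a ha
      rcases hfa : f a with i | i
      · exact ⟨i, rfl⟩
      · exfalso
        have h1 : orderOf (f a) = orderOf a := MulEquiv.orderOf_eq f a
        rw [hfa, DihedralGroup.orderOf_sr] at h1
        rw [← h1] at ha
        exact absurd ha (by decide)
    rcases hfx : f x with j | j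
    · left
      intro a ha
      obtain ⟨i, hi⟩ := hodd a ha
      apply f.injective
      rw [map_mul, map_mul, hfx, hi]
      simp [add_comm]
    · right
      refine ⟨?_, ?_⟩
      · rw [← MulEquiv.orderOf_eq f x, hfx, DihedralGroup.orderOf_sr]
      · intro a ha
        obtain ⟨i, hi⟩ := hodd a ha
        apply f.injective
        rw [map_mul, map_mul, map_inv, map_inv, hfx, hi]
        simp

variable {G : Type*} [Group G]

theorem le_normalizer_of_conj_mem' {S H : Subgroup G}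
    (h : ∀ g ∈ S, ∀ x ∈ H, g * x * g⁻¹ ∈ H) : S ≤ normalizer (H : Set G) := by
  intro g hg
  rw [mem_normalizer_iff]
  intro x
  constructor
  · exact h g hg x
  · intro hx
    have := h g⁻¹ (S.inv_mem hg) _ hx
    have e : g⁻¹ * (g * x * g⁻¹) * g⁻¹⁻¹ = x := by group
    rwa [e] at this

/-- `S₀ ⊔ ⟨x⟩` for `x` normalizing the `p`-group `S₀` is `p`-by-cyclic -/
theorem pbc_sup [Finite G] (p : ℕ) [Fact p.Prime] (S₀ : Subgroup G) (hS₀ : IsPGroup p S₀) (x : G)
    (hx : x ∈ normalizer (S₀ : Set G)) :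
    (∀ S : Sylow p ↥(S₀ ⊔ zpowers x), (S : Subgroup ↥(S₀ ⊔ zpowers x)).Normal) ∧
    (∀ (S : Sylow p ↥(S₀ ⊔ zpowers x)) [(S : Subgroup ↥(S₀ ⊔ zpowers x)).Normal],
      IsCyclic (↥(S₀ ⊔ zpowers x) ⧸ (S : Subgroup ↥(S₀ ⊔ zpowers x)))) := by
  set H : Subgroup G := S₀ ⊔ zpowers x with hH
  have hS₀H : S₀ ≤ H := le_sup_left
  have hxH : x ∈ H := (le_sup_right : zpowers x ≤ H) (mem_zpowers x)
  have hzN : zpowers x ≤ normalizer (S₀ : Set G) := by rw [zpowers_le]; exact hx
  have hHN : H ≤ normalizer (S₀ : Set G) := sup_le le_normalizer hzN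
  haveI hn : (S₀.subgroupOf H).Normal :=
    (Subgroup.normal_subgroupOf_iff_le_normalizer hS₀H).mpr hHN
  have hp' : IsPGroup p (S₀.subgroupOf H) := hS₀.comap_subtype
  refine pbc_of_normal p (S₀.subgroupOf H) hp' ?_
  rw [isCyclic_iff_exists_zpowers_eq_top]
  refine ⟨((⟨x, hxH⟩ : ↥H) : ↥H ⧸ S₀.subgroupOf H), ?_⟩
  rw [eq_top_iff]
  intro q _
  obtain ⟨h, rfl⟩ := QuotientGroup.mk_surjective q
  have hmem : (h : G) ∈ ((S₀ ⊔ zpowers x : Subgroup G) : Set G) := h.2
  rw [Subgroup.coe_mul_of_right_le_normalizer_left S₀ (zpowers x) hzN] at hmem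
  obtain ⟨s, hs, z, hz, hsz⟩ := Set.mem_mul.mp hmem
  obtain ⟨k, rfl⟩ := mem_zpowers_iff.mp hz
  rw [mem_zpowers_iff]
  refine ⟨k, ?_⟩
  have e : h = (⟨s, hS₀H hs⟩ : ↥H) * (⟨x, hxH⟩ : ↥H) ^ k := by
    apply Subtype.ext
    simp only [Subgroup.coe_mul, Subgroup.coe_zpow]
    exact hsz.symm
  rw [e, QuotientGroup.mk_mul, QuotientGroup.mk_zpow]
  have : ((⟨s, hS₀H hs⟩ : ↥H) : ↥H ⧸ S₀.subgroupOf H) = 1 := by
    rw [QuotientGroup.eq_one_iff, mem_subgroupOf]
    exact hs
  rw [this, one_mul]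

/-- under the hypothesis on `p`-by-cyclic subgroups, an element normalizing a `p`-subgroup
centralizes it, or is an involution inverting it -/
theorem dichotomy [Finite G] {p : ℕ} [Fact p.Prime] (hp : p ≠ 2)
    (hL : ∀ H : Subgroup G, (∀ S : Sylow p ↥H, (S : Subgroup ↥H).Normal) →
        (∀ (S : Sylow p ↥H) [(S : Subgroup ↥H).Normal], IsCyclic (↥H ⧸ (S : Subgroup ↥H))) →
        IsCyclic H ∨ (∃ n : ℕ, Nonempty (H ≃* DihedralGroup (p ^ n))))
    (S₀ : Subgroup G) (hS₀ : IsPGroup p S₀) (x : G) (hx : x ∈ normalizer (S₀ : Set G)) :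
    (∀ a ∈ S₀, x * a = a * x) ∨ (orderOf x = 2 ∧ ∀ a ∈ S₀, x * a * x⁻¹ = a⁻¹) := by
  have hpodd : Odd p := (Fact.out : p.Prime).odd_of_ne_two hp
  obtain ⟨h1, h2⟩ := pbc_sup p S₀ hS₀ x hx
  set H : Subgroup G := S₀ ⊔ zpowers x with hH
  have hS₀H : S₀ ≤ H := le_sup_left
  have hxH : x ∈ H := (le_sup_right : zpowers x ≤ H) (mem_zpowers x)
  have hodd : ∀ a (ha : a ∈ S₀), Odd (orderOf (⟨a, hS₀H ha⟩ : ↥H)) := by
    intro a ha
    obtain ⟨k, hk⟩ := (IsPGroup.iff_orderOf.mp hS₀) ⟨a, ha⟩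
    rw [Subgroup.orderOf_mk] at hk ⊢
    rw [hk]
    exact hpodd.pow
  have hcd : ∃ m : ℕ, IsCyclic ↥H ∨ Nonempty (↥H ≃* DihedralGroup m) := by
    rcases hL H h1 h2 with h | ⟨n, h⟩
    · exact ⟨0, Or.inl h⟩
    · exact ⟨p ^ n, Or.inr h⟩
  obtain ⟨m, hm⟩ := hcd
  rcases comm_or_invert hm (⟨x, hxH⟩ : ↥H) with h | ⟨h3, h4⟩
  · left
    intro a ha
    have := h ⟨a, hS₀H ha⟩ (hodd a ha)
    exact congrArg Subtype.val this
  · right
    refine ⟨?_, ?_⟩
    · rw [Subgroup.orderOf_mk] at h3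
      exact h3
    · intro a ha
      have := h4 ⟨a, hS₀H ha⟩ (hodd a ha)
      exact congrArg Subtype.val this

theorem forward [Finite G] {p : ℕ} [Fact p.Prime] (hp : p ≠ 2) (P : Sylow p G)
    (hL : ∀ H : Subgroup G, (∀ S : Sylow p ↥H, (S : Subgroup ↥H).Normal) →
        (∀ (S : Sylow p ↥H) [(S : Subgroup ↥H).Normal], IsCyclic (↥H ⧸ (S : Subgroup ↥H))) →
        IsCyclic H ∨ (∃ n : ℕ, Nonempty (H ≃* DihedralGroup (p ^ n)))) :
    (IsCyclic P ∧
      (Subgroup.normalizer ((P : Subgroup G) : Set G) = Subgroup.centralizer ((P : Subgroup G) : Set G) ∨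
       ((Subgroup.centralizer ((P : Subgroup G) : Set G)).relIndex (Subgroup.normalizer ((P : Subgroup G) : Set G)) = 2 ∧
        ∀ Q : Subgroup G, Q ≤ P → Nat.card Q = p →
          IsMulCommutative ↥(Subgroup.centralizer (Q : Set G)) ∧
          ∀ x : G, x ∈ Subgroup.normalizer (Q : Set G) → x ∉ Subgroup.centralizer (Q : Set G) →
            orderOf x = 2 ∧ ∀ c : G, c ∈ Subgroup.centralizer (Q : Set G) → x * c * x⁻¹ = c⁻¹))) := by
  have hpp := (Fact.out : p.Prime)
  have hpodd : Odd p := hpp.odd_of_ne_two hp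
  refine ⟨?_, ?_⟩
  · -- `P` is cyclic
    haveI : Subsingleton (↥(P : Subgroup G) ⧸ (⊤ : Subgroup ↥(P : Subgroup G))) :=
      QuotientGroup.subsingleton_quotient_top
    have hpbc := pbc_of_normal p (⊤ : Subgroup ↥(P : Subgroup G)) (P.2.to_subgroup ⊤)
      isCyclic_of_subsingleton
    rcases hL (P : Subgroup G) hpbc.1 hpbc.2 with h | ⟨n, ⟨f⟩⟩
    · exact h
    · exfalso
      obtain ⟨k, hk⟩ := IsPGroup.iff_card.mp P.2
      have h1 : Nat.card ↥(P : Subgroup G) = Nat.card (DihedralGroup (p ^ n)) :=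
        Nat.card_congr f.toEquiv
      rw [hk, DihedralGroup.nat_card] at h1
      have h2 : 2 ∣ p ^ k := ⟨p ^ n, h1⟩
      have h3 : 2 ∣ p := Nat.Prime.dvd_of_dvd_pow Nat.prime_two h2
      exact hp ((Nat.prime_dvd_prime_iff_eq Nat.prime_two hpp).mp h3).symm
  · have hdich := fun x hx => dichotomy hp hL (P : Subgroup G) P.2 x hx
    have hCN : centralizer ((P : Subgroup G) : Set G) ≤ normalizer ((P : Subgroup G) : Set G) :=
      Subgroup.centralizer_le_normalizer _
    by_cases hNC : normalizer ((P : Subgroup G) : Set G) ≤ centralizer ((P : Subgroup G) : Set G)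
    · left
      exact le_antisymm hNC hCN
    · right
      obtain ⟨x₀, hx₀N, hx₀C⟩ := Set.not_subset.mp hNC
      have hinv₀ : ∀ a ∈ (P : Subgroup G), x₀ * a * x₀⁻¹ = a⁻¹ := by
        rcases hdich x₀ hx₀N with h | h
        · exfalso
          apply hx₀C
          rw [SetLike.mem_coe, Subgroup.mem_centralizer_iff]
          intro a ha
          exact (h a ha).symm
        · exact h.2
      refine ⟨?_, ?_⟩
      · rw [Subgroup.relIndex_eq_two_iff_exists_notMem_and]
        refine ⟨x₀, hx₀N, hx₀C, ?_⟩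
        intro b hb
        by_cases hbC : b ∈ centralizer ((P : Subgroup G) : Set G)
        · exact Or.inr hbC
        · left
          have hinvb : ∀ a ∈ (P : Subgroup G), b * a * b⁻¹ = a⁻¹ := by
            rcases hdich b hb with h | h
            · exfalso
              apply hbC
              rw [Subgroup.mem_centralizer_iff]
              intro a ha
              exact (h a ha).symm
            · exact h.2
          rw [Subgroup.mem_centralizer_iff]
          intro a ha
          have h1 := hinv₀ a ha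
          have h2 := hinvb a⁻¹ (inv_mem ha)
          rw [inv_inv] at h2
          -- b x₀ a x₀⁻¹ b⁻¹ = a
          have h3 : b * x₀ * a * (b * x₀)⁻¹ = a := by
            have : b * x₀ * a * (b * x₀)⁻¹ = b * (x₀ * a * x₀⁻¹) * b⁻¹ := by group
            rw [this, h1, h2]
          have h4 : a * (b * x₀) = b * x₀ * a * (b * x₀)⁻¹ * (b * x₀) := by rw [h3]
          rw [h4]; group
      · intro Q hQP hQcard
        have hQp : IsPGroup p Q := P.2.to_le hQP
        have hCNQ : centralizer (Q : Set G) ≤ normalizer (Q : Set G) :=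
          Subgroup.centralizer_le_normalizer _
        -- elements outside the centralizer are inverting involutions
        have hstep : ∀ x : G, x ∈ normalizer (Q : Set G) → x ∉ centralizer (Q : Set G) →
            orderOf x = 2 := by
          intro x hxN hxC
          rcases dichotomy hp hL Q hQp x hxN with h | h
          · exfalso
            apply hxC
            rw [Subgroup.mem_centralizer_iff]
            intro a ha
            exact (h a ha).symm
          · exact h.1
        have hinvC : ∀ x : G, x ∈ normalizer (Q : Set G) → x ∉ centralizer (Q : Set G) →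
            ∀ c : G, c ∈ centralizer (Q : Set G) → x * c * x⁻¹ = c⁻¹ := by
          intro x hxN hxC c hc
          have hxcN : x * c ∈ normalizer (Q : Set G) := mul_mem hxN (hCNQ hc)
          have hxcC : x * c ∉ centralizer (Q : Set G) := by
            intro h
            apply hxC
            have : x = (x * c) * c⁻¹ := by group
            rw [this]
            exact mul_mem h (inv_mem hc)
          have h1 := hstep x hxN hxC
          have h2 := hstep (x * c) hxcN hxcC
          have h3 : x ^ 2 = 1 := by rw [← h1]; exact pow_orderOf_eq_one x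
          have h4 : (x * c) ^ 2 = 1 := by rw [← h2]; exact pow_orderOf_eq_one _
          have h5 : x⁻¹ = x := by
            rw [inv_eq_iff_mul_eq_one, ← pow_two]; exact h3
          rw [h5]
          -- x c x c = 1
          rw [pow_two] at h4
          have : x * c * x = c⁻¹ := by
            have h6 : x * c * x * c = 1 := by rw [← h4]; group
            exact eq_inv_of_mul_eq_one_left h6
          exact this
        -- an element of `N(Q) \ C(Q)`
        have hx₀NQ : x₀ ∈ normalizer (Q : Set G) := by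
          rw [mem_normalizer_iff]
          intro a
          constructor
          · intro ha
            rw [hinv₀ a (hQP ha)]
            exact inv_mem ha
          · intro hb
            have h1 := hinv₀ _ (hQP (inv_mem hb))
            rw [inv_inv] at h1
            have h2 : (x₀ * a * x₀⁻¹)⁻¹ = a := mul_left_cancel (mul_right_cancel h1)
            rw [← h2]
            exact inv_mem hb
        have hx₀CQ : x₀ ∉ centralizer (Q : Set G) := by
          intro h
          -- a nontrivial element of `Q`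
          have hQnt : Nontrivial ↥Q := by
            rw [← Finite.one_lt_card_iff_nontrivial, hQcard]
            exact hpp.one_lt
          obtain ⟨⟨q, hq⟩, hq1⟩ := exists_ne (1 : ↥Q)
          have hq1' : q ≠ 1 := fun h => hq1 (Subtype.ext h)
          have h1 := hinv₀ q (hQP hq)
          have h2 := (Subgroup.mem_centralizer_iff.mp h) q hq
          -- q * x₀ = x₀ * q, so q = q⁻¹
          have h3 : q = q⁻¹ := by
            rw [← h1, ← h2]; group
          have h4 : q ^ 2 = 1 := by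
            rw [pow_two]
            nth_rewrite 1 [h3]
            exact inv_mul_cancel q
          have h5 : orderOf q ∣ 2 := orderOf_dvd_of_pow_eq_one h4
          obtain ⟨k, hk⟩ := (IsPGroup.iff_orderOf.mp hQp) ⟨q, hq⟩
          rw [Subgroup.orderOf_mk] at hk
          rw [hk] at h5
          have h6 : k = 0 := by
            by_contra hk0
            have : p ∣ 2 := (dvd_pow_self p hk0).trans h5
            exact hp ((Nat.prime_dvd_prime_iff_eq hpp Nat.prime_two).mp this)
          rw [h6, pow_zero] at hk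
          exact hq1' (orderOf_eq_one_iff.mp hk)
        refine ⟨?_, fun x hxN hxC => ⟨hstep x hxN hxC, hinvC x hxN hxC⟩⟩
        -- `C(Q)` is abelian, being inverted by `x₀`
        refine ⟨⟨fun a b => ?_⟩⟩
        apply Subtype.ext
        simp only [Subgroup.coe_mul]
        have ha := hinvC x₀ hx₀NQ hx₀CQ a a.2
        have hb := hinvC x₀ hx₀NQ hx₀CQ b b.2
        have hab := hinvC x₀ hx₀NQ hx₀CQ (a * b) (mul_mem a.2 b.2)
        have h1 : x₀ * (↑a * ↑b) * x₀⁻¹ = (x₀ * ↑a * x₀⁻¹) * (x₀ * ↑b * x₀⁻¹) := by group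
        rw [h1, ha, hb] at hab
        -- a⁻¹ b⁻¹ = (a b)⁻¹ = b⁻¹ a⁻¹
        have h2 : ((a : G))⁻¹ * ((b : G))⁻¹ = ((b : G))⁻¹ * ((a : G))⁻¹ := by
          rw [hab, mul_inv_rev]
        have h3 := congrArg (fun t => t⁻¹) h2
        simp only [mul_inv_rev, inv_inv] at h3
        exact h3.symm

theorem mem_normalizer_of_conj_le [Finite G] {H : Subgroup G} {g : G}
    (h : ∀ a ∈ H, g * a * g⁻¹ ∈ H) : g ∈ normalizer (H : Set G) := by
  rw [mem_normalizer_iff_map_conj_eq]
  apply Subgroup.eq_of_le_of_card_ge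
  · rintro _ ⟨a, ha, rfl⟩
    simpa using h a ha
  · rw [Subgroup.card_map_of_injective (MulAut.conj g).injective]

/-- Frattini-type argument: for an abelian Sylow `p`-subgroup `P` with `N(P) = C(P)`, every
subgroup `Q ≤ P` has `N(Q) = C(Q)` -/
theorem normalizer_le_centralizer_of_le_sylow [Finite G] {p : ℕ} [Fact p.Prime] (P : Sylow p G)
    (hPab : ∀ a ∈ (P : Subgroup G), ∀ b ∈ (P : Subgroup G), a * b = b * a)
    (hNC : normalizer ((P : Subgroup G) : Set G) ≤ centralizer ((P : Subgroup G) : Set G))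
    (Q : Subgroup G) (hQP : Q ≤ P) : normalizer (Q : Set G) ≤ centralizer (Q : Set G) := by
  intro x hx
  set C : Subgroup G := centralizer (Q : Set G) with hC
  have hPC : (P : Subgroup G) ≤ C := by
    intro a ha
    rw [hC, Subgroup.mem_centralizer_iff]
    intro q hq
    exact hPab q (hQP hq) a ha
  have hxPC : ((x • P : Sylow p G) : Subgroup G) ≤ C := by
    intro y hy
    rw [Sylow.smul_def, Sylow.pointwise_smul_def, Subgroup.mem_pointwise_smul_iff_inv_smul_mem] at hy
    simp only [MulAut.smul_def, MulAut.conj_inv_apply] at hy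
    -- hy : x⁻¹ * y * x ∈ P
    rw [hC, Subgroup.mem_centralizer_iff]
    intro q hq
    have hq' : x⁻¹ * q * x⁻¹⁻¹ ∈ Q := (mem_normalizer_iff.mp (inv_mem hx) q).mp hq
    have h1 := hPab _ (hQP hq') _ hy
    -- (x⁻¹ q x) (x⁻¹ y x) = (x⁻¹ y x) (x⁻¹ q x)
    have e1 : q * y = x * ((x⁻¹ * q * x⁻¹⁻¹) * (x⁻¹ * y * x)) * x⁻¹ := by group
    have e2 : y * q = x * ((x⁻¹ * y * x) * (x⁻¹ * q * x⁻¹⁻¹)) * x⁻¹ := by group
    rw [e1, e2, h1]
  obtain ⟨c, hc⟩ := MulAction.exists_smul_eq ↥C (P.subtype hPC) ((x • P).subtype hxPC)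
  -- `c⁻¹ x` normalizes `P`
  have hcx : (c : G)⁻¹ * x ∈ normalizer ((P : Subgroup G) : Set G) := by
    apply mem_normalizer_of_conj_le
    intro a ha
    have hy : x * a * x⁻¹ ∈ ((x • P : Sylow p G) : Subgroup G) := by
      rw [Sylow.smul_def, Sylow.pointwise_smul_def, Subgroup.mem_pointwise_smul_iff_inv_smul_mem]
      simp only [MulAut.smul_def, MulAut.conj_inv_apply]
      have e : x⁻¹ * (x * a * x⁻¹) * x = a := by group
      rw [e]; exact ha
    have h1 : (⟨x * a * x⁻¹, hxPC hy⟩ : ↥C) ∈ (((x • P).subtype hxPC : Sylow p ↥C) : Subgroup ↥C) := by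
      rw [Sylow.coe_subtype, mem_subgroupOf]
      exact hy
    rw [← hc, Sylow.smul_def, Sylow.pointwise_smul_def,
      Subgroup.mem_pointwise_smul_iff_inv_smul_mem] at h1
    simp only [MulAut.smul_def, MulAut.conj_inv_apply] at h1
    rw [Sylow.coe_subtype, mem_subgroupOf] at h1
    simp only [Subgroup.coe_mul, Subgroup.coe_inv] at h1
    have e : (c : G)⁻¹ * x * a * ((c : G)⁻¹ * x)⁻¹ = (c : G)⁻¹ * (x * a * x⁻¹) * (c : G) := by group
    rw [e]
    exact h1
  have h2 : (c : G)⁻¹ * x ∈ C := (Subgroup.centralizer_le hQP) (hNC hcx)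
  have e : x = (c : G) * ((c : G)⁻¹ * x) := by group
  rw [e]
  exact C.mul_mem c.2 h2

/-- the condition on subgroups of order `p`, for all such subgroups of `G` -/
theorem star [Finite G] {p : ℕ} [Fact p.Prime] (P : Sylow p G)
    (hPab : ∀ a ∈ (P : Subgroup G), ∀ b ∈ (P : Subgroup G), a * b = b * a)
    (hor : Subgroup.normalizer ((P : Subgroup G) : Set G) = Subgroup.centralizer ((P : Subgroup G) : Set G) ∨
       ((Subgroup.centralizer ((P : Subgroup G) : Set G)).relIndex (Subgroup.normalizer ((P : Subgroup G) : Set G)) = 2 ∧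
        ∀ Q : Subgroup G, Q ≤ P → Nat.card Q = p →
          IsMulCommutative ↥(Subgroup.centralizer (Q : Set G)) ∧
          ∀ x : G, x ∈ Subgroup.normalizer (Q : Set G) → x ∉ Subgroup.centralizer (Q : Set G) →
            orderOf x = 2 ∧ ∀ c : G, c ∈ Subgroup.centralizer (Q : Set G) → x * c * x⁻¹ = c⁻¹))
    (Q' : Subgroup G) (hQ' : Nat.card Q' = p) (x : G) (hxN : x ∈ normalizer (Q' : Set G))
    (hxC : x ∉ centralizer (Q' : Set G)) :
    orderOf x = 2 ∧ ∀ c : G, c ∈ centralizer (Q' : Set G) → x * c * x⁻¹ = c⁻¹ := by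
  have hQ'p : IsPGroup p Q' := IsPGroup.of_card (n := 1) (by rw [hQ', pow_one])
  obtain ⟨R, hR⟩ := hQ'p.exists_le_sylow
  obtain ⟨g, hg⟩ := MulAction.exists_smul_eq G P R
  -- conjugating back into `P`
  have hback : ∀ q ∈ Q', g⁻¹ * q * g ∈ (P : Subgroup G) := by
    intro q hq
    have := hR hq
    rw [← hg, Sylow.smul_def, Sylow.pointwise_smul_def,
      Subgroup.mem_pointwise_smul_iff_inv_smul_mem] at this
    simpa only [MulAut.smul_def, MulAut.conj_inv_apply] using this
  set Q₀ : Subgroup G := Q'.map (MulAut.conj g⁻¹).toMonoidHom with hQ₀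
  have hmemQ₀ : ∀ y : G, y ∈ Q₀ ↔ g * y * g⁻¹ ∈ Q' := by
    intro y
    rw [hQ₀, Subgroup.mem_map]
    constructor
    · rintro ⟨q, hq, rfl⟩
      have e : g * ((MulAut.conj g⁻¹).toMonoidHom q) * g⁻¹ = q := by
        simp only [MulEquiv.toMonoidHom_eq_coe, MonoidHom.coe_coe, MulAut.conj_apply]
        group
      rw [e]; exact hq
    · intro h
      refine ⟨g * y * g⁻¹, h, ?_⟩
      simp only [MulEquiv.toMonoidHom_eq_coe, MonoidHom.coe_coe, MulAut.conj_apply]
      group
  have hQ₀P : Q₀ ≤ P := by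
    intro y hy
    have := hback _ ((hmemQ₀ y).mp hy)
    have e : g⁻¹ * (g * y * g⁻¹) * g = y := by group
    rwa [e] at this
  have hQ₀card : Nat.card Q₀ = p := by
    rw [hQ₀, Subgroup.card_map_of_injective (MulAut.conj g⁻¹).injective, hQ']
  set x₀ : G := g⁻¹ * x * g with hx₀
  have hx₀N : x₀ ∈ normalizer (Q₀ : Set G) := by
    rw [mem_normalizer_iff]
    intro y
    rw [hmemQ₀, hmemQ₀, mem_normalizer_iff.mp hxN (g * y * g⁻¹)]
    have e : g * (x₀ * y * x₀⁻¹) * g⁻¹ = x * (g * y * g⁻¹) * x⁻¹ := by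
      rw [hx₀]; group
    rw [e]
  have hcent : ∀ c : G, c ∈ centralizer (Q₀ : Set G) ↔ g * c * g⁻¹ ∈ centralizer (Q' : Set G) := by
    intro c
    rw [Subgroup.mem_centralizer_iff, Subgroup.mem_centralizer_iff]
    constructor
    · intro h q hq
      have hq0 : g⁻¹ * q * g ∈ Q₀ := by
        rw [hmemQ₀]
        have e : g * (g⁻¹ * q * g) * g⁻¹ = q := by group
        rw [e]; exact hq
      have := h _ hq0
      have e1 : q * (g * c * g⁻¹) = g * ((g⁻¹ * q * g) * c) * g⁻¹ := by group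
      have e2 : g * c * g⁻¹ * q = g * (c * (g⁻¹ * q * g)) * g⁻¹ := by group
      rw [e1, e2, this]
    · intro h y hy
      have := h _ ((hmemQ₀ y).mp hy)
      have e1 : y * c = g⁻¹ * ((g * y * g⁻¹) * (g * c * g⁻¹)) * g := by group
      have e2 : c * y = g⁻¹ * ((g * c * g⁻¹) * (g * y * g⁻¹)) * g := by group
      rw [e1, e2, this]
  have hx₀C : x₀ ∉ centralizer (Q₀ : Set G) := by
    rw [hcent]
    have e : g * x₀ * g⁻¹ = x := by rw [hx₀]; group
    rw [e]; exact hxC
  rcases hor with hNC | ⟨-, hQc⟩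
  · exfalso
    exact hx₀C (normalizer_le_centralizer_of_le_sylow P hPab hNC.le Q₀ hQ₀P hx₀N)
  · obtain ⟨-, h2⟩ := hQc Q₀ hQ₀P hQ₀card
    obtain ⟨h3, h4⟩ := h2 x₀ hx₀N hx₀C
    refine ⟨?_, ?_⟩
    · have e : x = MulAut.conj g x₀ := by
        rw [MulAut.conj_apply, hx₀]; group
      rw [e, MulEquiv.orderOf_eq]
      exact h3
    · intro c hc
      have hc0 : g⁻¹ * c * g ∈ centralizer (Q₀ : Set G) := by
        rw [hcent]
        have e : g * (g⁻¹ * c * g) * g⁻¹ = c := by group
        rw [e]; exact hc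
      have := h4 _ hc0
      have e1 : x * c * x⁻¹ = g * (x₀ * (g⁻¹ * c * g) * x₀⁻¹) * g⁻¹ := by
        rw [hx₀]; group
      rw [e1, this]
      group

/-- number theory: a unit `≡ 1 mod p` of order prime to `p` modulo `p^k` is `1` -/
theorem nt_aux {p k U m' : ℕ} (hk : 1 ≤ k) (hU1 : U ≡ 1 [MOD p])
    (hUm : U ^ m' ≡ 1 [MOD p ^ k]) (hcop : Nat.Coprime m' p) : U ≡ 1 [MOD p ^ k] := by
  have h1 : ((p : ℤ)) ∣ (U : ℤ) - 1 := by
    have := (Nat.modEq_iff_dvd.mp hU1.symm)
    simpa using this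
  have h2 := dvd_sub_pow_of_dvd_sub h1 (k - 1)
  rw [Nat.sub_add_cancel hk, one_pow] at h2
  have h3 : U ^ p ^ (k - 1) ≡ 1 [MOD p ^ k] := by
    apply Nat.ModEq.symm
    rw [Nat.modEq_iff_dvd]
    push_cast
    exact h2
  have e1 : ((U : ZMod (p ^ k))) ^ m' = 1 := by
    have := (ZMod.natCast_eq_natCast_iff (U ^ m') 1 (p ^ k)).mpr hUm
    simpa using this
  have e2 : ((U : ZMod (p ^ k))) ^ (p ^ (k - 1)) = 1 := by
    have := (ZMod.natCast_eq_natCast_iff (U ^ p ^ (k - 1)) 1 (p ^ k)).mpr h3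
    simpa using this
  have d1 := orderOf_dvd_of_pow_eq_one e1
  have d2 := orderOf_dvd_of_pow_eq_one e2
  have hc : Nat.Coprime m' (p ^ (k - 1)) := Nat.Coprime.pow_right _ hcop
  have h4 : orderOf ((U : ZMod (p ^ k))) = 1 := Nat.eq_one_of_dvd_coprimes hc d1 d2
  have h5 : ((U : ZMod (p ^ k))) = 1 := orderOf_eq_one_iff.mp h4
  have h6 : ((U : ZMod (p ^ k))) = ((1 : ℕ) : ZMod (p ^ k)) := by rw [h5]; simp
  exact (ZMod.natCast_eq_natCast_iff U 1 (p ^ k)).mp h6


/-- conjugation by powers: if `y s y⁻¹ = s^u` then `y^j s y^{-j} = s^(u^j)` -/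
theorem conj_pow_eq {s y : G} {u : ℕ} (h : y * s * y⁻¹ = s ^ u) (j : ℕ) :
    y ^ j * s * (y ^ j)⁻¹ = s ^ (u ^ j) := by
  induction j with
  | zero => simp
  | succ j ih =>
    have e : y ^ (j + 1) * s * (y ^ (j + 1))⁻¹ = y * (y ^ j * s * (y ^ j)⁻¹) * y⁻¹ := by
      rw [pow_succ']; group
    rw [e, ih]
    have : y * s ^ u ^ j * y⁻¹ = (y * s * y⁻¹) ^ (u ^ j) := by
      rw [conj_pow]
    rw [this, h, ← pow_mul, pow_succ, mul_comm]

/-- the cyclic case of the core lemma -/
theorem core_cyclic [Finite G] {p : ℕ} [hp : Fact p.Prime] (H : Subgroup G) (s y : G) (hs : s ∈ H)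
    (hy : y ∈ H) (hgen : ∀ h ∈ H, ∃ j : ℤ, (y ^ j)⁻¹ * h ∈ Subgroup.zpowers s)
    (k : ℕ) (hk : 1 ≤ k) (hsord : orderOf s = p ^ k)
    (hnorm : y * s * y⁻¹ ∈ Subgroup.zpowers s)
    (hsyl : ∀ h ∈ H, (∃ j : ℕ, orderOf h = p ^ j) → h ∈ Subgroup.zpowers s)
    (hq : y * s ^ (p ^ (k - 1)) = s ^ (p ^ (k - 1)) * y) : IsCyclic H := by
  have hpp := hp.out
  obtain ⟨u, hu⟩ : ∃ u : ℕ, y * s * y⁻¹ = s ^ u := by
    have := hnorm
    rw [← mem_powers_iff_mem_zpowers] at this
    obtain ⟨u, hu⟩ := this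
    exact ⟨u, hu.symm⟩
  -- u ≡ 1 mod p
  have hqord : orderOf (s ^ (p ^ (k - 1))) = p := by
    rw [orderOf_pow_of_dvd (pow_ne_zero _ hpp.ne_zero) (by rw [hsord]; exact pow_dvd_pow p (by omega)),
      hsord]
    have : p ^ k = p ^ (k - 1) * p := by rw [← pow_succ]; congr 1; omega
    rw [this, Nat.mul_div_cancel_left _ (pow_pos hpp.pos _)]
  have hu1 : u ≡ 1 [MOD p] := by
    have h1 : y * s ^ (p ^ (k - 1)) * y⁻¹ = (s ^ (p ^ (k - 1))) ^ u := by
      rw [← conj_pow, hu, ← pow_mul, ← pow_mul, mul_comm]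
    have h2 : y * s ^ (p ^ (k - 1)) * y⁻¹ = s ^ (p ^ (k - 1)) := by
      rw [hq]; group
    rw [h2] at h1
    have h3 : (s ^ (p ^ (k - 1))) ^ u = (s ^ (p ^ (k - 1))) ^ 1 := by rw [pow_one]; exact h1.symm
    rw [pow_eq_pow_iff_modEq, hqord] at h3
    exact h3
  -- decomposition of the order of y
  have hyord : 0 < orderOf y := orderOf_pos y
  obtain ⟨a, m', hm', hm⟩ := Nat.exists_eq_pow_mul_and_not_dvd hyord.ne' p hpp.ne_one
  have hcop : Nat.Coprime m' p := (Nat.Coprime.symm ((Nat.Prime.coprime_iff_not_dvd hpp).mpr hm'))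
  set w := y ^ (p ^ a) with hw
  set y₁ := y ^ m' with hy₁
  have hwH : w ∈ H := pow_mem hy _
  have hy₁ord : orderOf y₁ = p ^ a := by
    have hm'0 : m' ≠ 0 := by
      rintro rfl
      simp at hm'
    rw [hy₁, orderOf_pow_of_dvd hm'0 (by rw [hm]; exact dvd_mul_left _ _), hm,
      Nat.mul_div_cancel _ (Nat.pos_of_ne_zero hm'0)]
  have hy₁s : y₁ ∈ Subgroup.zpowers s := hsyl y₁ (pow_mem hy _) ⟨a, hy₁ord⟩
  have hwm' : w ^ m' = 1 := by
    rw [hw, ← pow_mul, ← hm]
    exact pow_orderOf_eq_one y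
  -- w centralizes s
  have hwU := conj_pow_eq hu (p ^ a)
  rw [← hw] at hwU
  set U := u ^ (p ^ a) with hU
  have hU1 : U ≡ 1 [MOD p] := by
    have := Nat.ModEq.pow (p ^ a) hu1
    rwa [one_pow] at this
  have hUm : U ^ m' ≡ 1 [MOD p ^ k] := by
    have h1 := conj_pow_eq hwU m'
    rw [hwm'] at h1
    simp only [one_mul, inv_one, mul_one] at h1
    have h2 : s ^ (U ^ m') = s ^ 1 := by rw [pow_one]; exact h1.symm
    rw [pow_eq_pow_iff_modEq, hsord] at h2
    exact h2
  have hUk : U ≡ 1 [MOD p ^ k] := nt_aux hk hU1 hUm hcop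
  have hws : w * s * w⁻¹ = s := by
    rw [hwU]
    have : s ^ U = s ^ 1 := by
      rw [pow_eq_pow_iff_modEq, hsord]; exact hUk
    rw [this, pow_one]
  have hcomm : Commute s w := by
    have : w * s = s * w := by
      have h := congrArg (fun t => t * w) hws
      simpa [mul_assoc] using h
    exact this.symm
  -- Bezout
  have hcop2 : IsCoprime (m' : ℤ) ((p ^ k : ℕ) : ℤ) :=
    Nat.isCoprime_iff_coprime.mpr (Nat.Coprime.pow_right _ hcop)
  have hcop3 : IsCoprime (m' : ℤ) ((p ^ a : ℕ) : ℤ) :=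
    Nat.isCoprime_iff_coprime.mpr (Nat.Coprime.pow_right _ hcop)
  set g₀ := s * w with hg₀
  have hg₀H : g₀ ∈ H := mul_mem hs hwH
  have hs_mem : s ∈ Subgroup.zpowers g₀ := by
    obtain ⟨α, β, hαβ⟩ := hcop2
    have h1 : g₀ ^ m' = s ^ m' := by
      rw [hg₀, hcomm.mul_pow, hwm', mul_one]
    have h2 : s = (g₀ ^ m') ^ α := by
      have e : s ^ (α * (m' : ℤ) + β * ((p ^ k : ℕ) : ℤ)) = s := by rw [hαβ, zpow_one]
      rw [zpow_add, zpow_mul', zpow_mul' s β, zpow_natCast, zpow_natCast, ← hsord,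
        pow_orderOf_eq_one, one_zpow, mul_one] at e
      rw [h1]
      exact e.symm
    rw [h2]
    exact Subgroup.zpow_mem _ (Subgroup.pow_mem _ (Subgroup.mem_zpowers g₀) _) _
  have hw_mem : w ∈ Subgroup.zpowers g₀ := by
    have : w = s⁻¹ * g₀ := by rw [hg₀]; group
    rw [this]
    exact Subgroup.mul_mem _ (Subgroup.inv_mem _ hs_mem) (Subgroup.mem_zpowers g₀)
  have hy_mem : y ∈ Subgroup.zpowers g₀ := by
    obtain ⟨α, β, hαβ⟩ := hcop3
    have h2 : y = y₁ ^ α * w ^ β := by
      have e : y ^ (α * (m' : ℤ) + β * ((p ^ a : ℕ) : ℤ)) = y := by rw [hαβ, zpow_one]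
      rw [zpow_add, zpow_mul', zpow_mul' y β, zpow_natCast, zpow_natCast] at e
      exact e.symm
    rw [h2]
    have hzs : Subgroup.zpowers s ≤ Subgroup.zpowers g₀ := by
      rw [Subgroup.zpowers_le]; exact hs_mem
    exact Subgroup.mul_mem _ (Subgroup.zpow_mem _ (hzs hy₁s) _) (Subgroup.zpow_mem _ hw_mem _)
  have hHeq : H = Subgroup.zpowers g₀ := by
    apply le_antisymm
    · intro h hh
      obtain ⟨j, hj⟩ := hgen h hh
      have hzs : Subgroup.zpowers s ≤ Subgroup.zpowers g₀ := by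
        rw [Subgroup.zpowers_le]; exact hs_mem
      have : h = y ^ j * ((y ^ j)⁻¹ * h) := by group
      rw [this]
      exact Subgroup.mul_mem _ (Subgroup.zpow_mem _ hy_mem _) (hzs hj)
    · rw [Subgroup.zpowers_le]; exact hg₀H
  rw [hHeq]
  infer_instance

/-- the dihedral case of the core lemma -/
theorem core_dihedral {p : ℕ} [hp : Fact p.Prime] (hp2 : p ≠ 2) (H : Subgroup G) (s y : G)
    (hs : s ∈ H) (hy : y ∈ H)
    (hgen : ∀ h ∈ H, ∃ j : ℤ, (y ^ j)⁻¹ * h ∈ Subgroup.zpowers s)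
    (k : ℕ) (hk : 1 ≤ k) (hsord : orderOf s = p ^ k)
    (hy2 : orderOf y = 2) (hinv : y * s * y⁻¹ = s⁻¹) :
    Nonempty (↥H ≃* DihedralGroup (p ^ k)) := by
  have hpp := hp.out
  have hyy : y * y = 1 := by
    have := pow_orderOf_eq_one y
    rwa [hy2, pow_two] at this
  have hyinv : y⁻¹ = y := inv_eq_of_mul_eq_one_left hyy
  have hmem : ∀ g : ↥H, (g : G) ∈ Subgroup.zpowers s → g ∈ Subgroup.zpowers (⟨s, hs⟩ : ↥H) := by
    intro g hg
    obtain ⟨i, hi⟩ := Subgroup.mem_zpowers_iff.mp hg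
    rw [Subgroup.mem_zpowers_iff]
    exact ⟨i, Subtype.ext (by simpa using hi)⟩
  apply Helper45.nonempty_mulEquiv_dihedral (p ^ k) (⟨s, hs⟩ : ↥H) (⟨y, hy⟩ : ↥H)
  · rw [Subgroup.orderOf_mk]; exact hsord
  · exact Subtype.ext hyy
  · exact Subtype.ext hinv
  · intro hmemy
    obtain ⟨i, hi⟩ := Subgroup.mem_zpowers_iff.mp hmemy
    have hi' : s ^ i = y := by
      have := congrArg Subtype.val hi
      simpa using this
    have hc : y * s = s * y := by
      rw [← hi']
      exact ((Commute.refl s).zpow_left i).eq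
    have h1 : s = s⁻¹ := by
      rw [← hinv, hc]; group
    have h2 : s ^ 2 = 1 := by
      rw [pow_two]
      nth_rewrite 1 [h1]
      exact inv_mul_cancel s
    have h3 : orderOf s ∣ 2 := orderOf_dvd_of_pow_eq_one h2
    rw [hsord] at h3
    have h4 : p ∣ 2 := (dvd_pow_self p (by omega)).trans h3
    exact hp2 ((Nat.prime_dvd_prime_iff_eq hpp Nat.prime_two).mp h4)
  · intro g
    obtain ⟨j, hj⟩ := hgen g.1 g.2
    have hjm : y ^ j = y ^ (j % 2) := by
      have := zpow_mod_orderOf y j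
      rw [hy2] at this
      exact this.symm
    rcases Int.emod_two_eq_zero_or_one j with h0 | h1
    · left
      apply hmem
      rw [hjm, h0, zpow_zero, inv_one, one_mul] at hj
      exact hj
    · right
      apply hmem
      rw [hjm, h1, zpow_one, hyinv] at hj
      simpa using hj


theorem backward [Finite G] {p : ℕ} [hpf : Fact p.Prime] (hp : p ≠ 2) (P : Sylow p G)
    (hcyc : IsCyclic P)
    (hor : Subgroup.normalizer ((P : Subgroup G) : Set G) = Subgroup.centralizer ((P : Subgroup G) : Set G) ∨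
       ((Subgroup.centralizer ((P : Subgroup G) : Set G)).relIndex (Subgroup.normalizer ((P : Subgroup G) : Set G)) = 2 ∧
        ∀ Q : Subgroup G, Q ≤ P → Nat.card Q = p →
          IsMulCommutative ↥(Subgroup.centralizer (Q : Set G)) ∧
          ∀ x : G, x ∈ Subgroup.normalizer (Q : Set G) → x ∉ Subgroup.centralizer (Q : Set G) →
            orderOf x = 2 ∧ ∀ c : G, c ∈ Subgroup.centralizer (Q : Set G) → x * c * x⁻¹ = c⁻¹))
    (H : Subgroup G) (h1 : ∀ S : Sylow p ↥H, (S : Subgroup ↥H).Normal)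
    (h2 : ∀ (S : Sylow p ↥H) [(S : Subgroup ↥H).Normal], IsCyclic (↥H ⧸ (S : Subgroup ↥H))) :
    IsCyclic H ∨ (∃ n : ℕ, Nonempty (H ≃* DihedralGroup (p ^ n))) := by
  have hpp := hpf.out
  have hPab : ∀ a ∈ (P : Subgroup G), ∀ b ∈ (P : Subgroup G), a * b = b * a := by
    intro a ha b hb
    letI : CommGroup ↥(P : Subgroup G) := IsCyclic.commGroup
    exact congrArg Subtype.val (mul_comm (⟨a, ha⟩ : ↥(P : Subgroup G)) ⟨b, hb⟩)
  obtain ⟨S⟩ : Nonempty (Sylow p ↥H) := inferInstance
  haveI hSn : (S : Subgroup ↥H).Normal := h1 S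
  have hq : IsCyclic (↥H ⧸ (S : Subgroup ↥H)) := h2 S
  obtain ⟨ybar, hybar⟩ := isCyclic_iff_exists_zpowers_eq_top.mp hq
  obtain ⟨y', rfl⟩ := QuotientGroup.mk_surjective ybar
  have hgen0 : ∀ h : ↥H, ∃ j : ℤ, (y' ^ j)⁻¹ * h ∈ (S : Subgroup ↥H) := by
    intro h
    have hmem : (h : ↥H ⧸ (S : Subgroup ↥H)) ∈ Subgroup.zpowers (y' : ↥H ⧸ (S : Subgroup ↥H)) := by
      rw [hybar]; exact Subgroup.mem_top _
    obtain ⟨j, hj⟩ := Subgroup.mem_zpowers_iff.mp hmem
    refine ⟨j, ?_⟩
    rw [← QuotientGroup.mk_zpow] at hj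
    exact QuotientGroup.eq.mp hj
  -- `S` is cyclic
  have hScyc : IsCyclic ↥(S : Subgroup ↥H) := by
    have hSp : IsPGroup p ((S : Subgroup ↥H).map H.subtype) := S.2.map _
    obtain ⟨R, hR⟩ := hSp.exists_le_sylow
    obtain ⟨g, rfl⟩ := MulAction.exists_smul_eq G P R
    haveI : IsCyclic ↥((g • P : Sylow p G) : Subgroup G) :=
      isCyclic_of_surjective (Sylow.equivSMul P g) (MulEquiv.surjective _)
    let f : ↥(S : Subgroup ↥H) →* ↥((g • P : Sylow p G) : Subgroup G) :=
      { toFun := fun x => ⟨x.1.1, hR ⟨x.1, x.2, rfl⟩⟩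
        map_one' := rfl
        map_mul' := fun a b => rfl }
    have hf : Function.Injective f := by
      intro a b hab
      have : (f a).1 = (f b).1 := by rw [hab]
      exact Subtype.ext (Subtype.ext this)
    exact isCyclic_of_injective f hf
  obtain ⟨s', hs'⟩ := (Subgroup.isCyclic_iff_exists_zpowers_eq_top (S : Subgroup ↥H)).mp hScyc
  obtain ⟨k, hk⟩ := IsPGroup.iff_card.mp S.2
  have hs'ord : orderOf s' = p ^ k := by
    rw [← Nat.card_zpowers, hs', hk]
  set s : G := s'.1 with hs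
  set y : G := y'.1 with hy
  have hsH : s ∈ H := s'.2
  have hyH : y ∈ H := y'.2
  have hsord : orderOf s = p ^ k := by
    rw [hs, Subgroup.orderOf_coe]; exact hs'ord
  have hcoe : ∀ h : ↥H, h ∈ (S : Subgroup ↥H) → (h : G) ∈ Subgroup.zpowers s := by
    intro h hh
    rw [← hs'] at hh
    obtain ⟨i, hi⟩ := Subgroup.mem_zpowers_iff.mp hh
    rw [Subgroup.mem_zpowers_iff]
    refine ⟨i, ?_⟩
    have := congrArg Subtype.val hi
    simpa using this
  have hgen : ∀ h ∈ H, ∃ j : ℤ, (y ^ j)⁻¹ * h ∈ Subgroup.zpowers s := by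
    intro h hh
    obtain ⟨j, hj⟩ := hgen0 ⟨h, hh⟩
    refine ⟨j, ?_⟩
    have := hcoe _ hj
    simpa using this
  by_cases hk0 : k = 0
  · -- trivial Sylow subgroup: `H = ⟨y⟩`
    left
    have hs1 : s = 1 := by
      rw [hk0, pow_zero] at hsord
      exact orderOf_eq_one_iff.mp hsord
    have hHeq : H = Subgroup.zpowers y := by
      apply le_antisymm
      · intro h hh
        obtain ⟨j, hj⟩ := hgen h hh
        rw [hs1, Subgroup.zpowers_one_eq_bot, Subgroup.mem_bot] at hj
        have : h = y ^ j := by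
          have := congrArg (fun t => y ^ j * t) hj
          simpa using this
        rw [this]
        exact Subgroup.zpow_mem_zpowers y j
      · rw [Subgroup.zpowers_le]; exact hyH
    rw [hHeq]
    infer_instance
  have hk1 : 1 ≤ k := Nat.one_le_iff_ne_zero.mpr hk0
  have hnorm : y * s * y⁻¹ ∈ Subgroup.zpowers s := by
    have h3 : y' * s' * y'⁻¹ ∈ (S : Subgroup ↥H) := by
      apply hSn.conj_mem
      rw [← hs']; exact Subgroup.mem_zpowers s'
    have := hcoe _ h3
    simpa using this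
  have hsyl : ∀ h ∈ H, (∃ j : ℕ, orderOf h = p ^ j) → h ∈ Subgroup.zpowers s := by
    rintro h hh ⟨j, hj⟩
    have hT : IsPGroup p (Subgroup.zpowers (⟨h, hh⟩ : ↥H)) := by
      apply IsPGroup.of_card (n := j)
      rw [Nat.card_zpowers, Subgroup.orderOf_mk, hj]
    obtain ⟨S₂, hS₂⟩ := hT.exists_le_sylow
    haveI := Sylow.unique_of_normal S hSn
    have : S₂ = S := Subsingleton.elim _ _
    rw [this] at hS₂
    exact hcoe _ (hS₂ (Subgroup.mem_zpowers _))
  set q : G := s ^ (p ^ (k - 1)) with hqdef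
  set Q : Subgroup G := Subgroup.zpowers q with hQ
  have hqord : orderOf q = p := by
    rw [hqdef, orderOf_pow_of_dvd (pow_ne_zero _ hpp.ne_zero)
      (by rw [hsord]; exact pow_dvd_pow p (by omega)), hsord]
    have : p ^ k = p ^ (k - 1) * p := by rw [← pow_succ]; congr 1; omega
    rw [this, Nat.mul_div_cancel_left _ (pow_pos hpp.pos _)]
  have hQcard : Nat.card Q = p := by rw [hQ, Nat.card_zpowers, hqord]
  have hyN : y ∈ normalizer (Q : Set G) := by
    apply mem_normalizer_of_conj_le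
    intro a ha
    obtain ⟨i, rfl⟩ := Subgroup.mem_zpowers_iff.mp ha
    obtain ⟨u, hu⟩ := Subgroup.mem_zpowers_iff.mp hnorm
    have h3 : y * q * y⁻¹ = q ^ u := by
      rw [hqdef, ← conj_pow, ← hu, ← zpow_natCast, ← zpow_natCast, ← zpow_mul, ← zpow_mul, mul_comm]
    rw [← conj_zpow, h3]
    exact Subgroup.zpow_mem _ (Subgroup.zpow_mem _ (Subgroup.mem_zpowers q) _) _
  by_cases hyC : y ∈ centralizer (Q : Set G)
  · left
    have hq' : y * q = q * y := ((Subgroup.mem_centralizer_iff.mp hyC) q (Subgroup.mem_zpowers q)).symm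
    exact core_cyclic H s y hsH hyH hgen k hk1 hsord hnorm hsyl hq'
  · right
    obtain ⟨hy2, hinvC⟩ := star P hPab hor Q hQcard y hyN hyC
    have hsC : s ∈ centralizer (Q : Set G) := by
      rw [Subgroup.mem_centralizer_iff]
      intro a ha
      obtain ⟨i, rfl⟩ := Subgroup.mem_zpowers_iff.mp ha
      rw [hqdef]
      exact (((Commute.refl s).pow_left (p ^ (k - 1))).zpow_left i).eq
    exact ⟨k, core_dihedral hp H s y hsH hyH hgen k hk1 hsord hy2 (hinvC s hsC)⟩

/-- Let p be an odd prime and G a finite group with Sylow p-subgroup P. Say that G has restricted p-by-cyclic subgroups when every subgroup H of G whose Sylow p-subgroup is normal in H with cyclic quotient is itself cyclic or dihedral of order 2pⁿ for some n. Then G has restricted p-by-cyclic subgroups if and only if P is cyclic and one of the following holds: (1) N_G(P) = C_G(P); or (2) N_G(P)/C_G(P) has order 2 and, for the subgroup Q of order p of P, the centralizer C_G(Q) is abelian and every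 element of N_G(Q) outside C_G(Q) is an involution inverting every element of C_G(Q). -/
theorem result {G : Type*} [Group G] [Finite G] {p : ℕ}
    [Fact p.Prime] (hp : p ≠ 2) (P : Sylow p G) :
    (∀ H : Subgroup G, (∀ S : Sylow p ↥H, (S : Subgroup ↥H).Normal) →
        (∀ (S : Sylow p ↥H) [(S : Subgroup ↥H).Normal], IsCyclic (↥H ⧸ (S : Subgroup ↥H))) →
        IsCyclic H ∨ (∃ n : ℕ, Nonempty (H ≃* DihedralGroup (p ^ n)))) ↔
    (IsCyclic P ∧
      (Subgroup.normalizer ((P : Subgroup G) : Set G) = Subgroup.centralizer ((P : Subgroup G) : Set G) ∨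
       ((Subgroup.centralizer ((P : Subgroup G) : Set G)).relIndex (Subgroup.normalizer ((P : Subgroup G) : Set G)) = 2 ∧
        ∀ Q : Subgroup G, Q ≤ P → Nat.card Q = p →
          IsMulCommutative ↥(Subgroup.centralizer (Q : Set G)) ∧
          ∀ x : G, x ∈ Subgroup.normalizer (Q : Set G) → x ∉ Subgroup.centralizer (Q : Set G) →
            orderOf x = 2 ∧ ∀ c : G, c ∈ Subgroup.centralizer (Q : Set G) → x * c * x⁻¹ = c⁻¹))) := by
  constructor
  · intro hL
    exact forward hp P hL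
  · rintro ⟨hcyc, hor⟩ H h1 h2
    exact backward hp P hcyc hor H h1 h2

end Cfsg.Agent.S4082
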