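-- Statement S4083: groups whose 2-by-cyclic subgroups are cyclic, dihedral or A₄.
import Cfsg.Statements.S4083
import Cfsg.Agent.Helper9.DihedralSylow
import Cfsg.Agent.Helper55.DihFourNorm
import Cfsg.Agent.Helper55.TwoByCyclicDih

set_option autoImplicit false
open Cfsg

namespace Cfsg.Agent.S4083

open Cfsg.Agent.Helper55 Cfsg.Agent.Helper55.TwoByCyclic

/-- A group of order 4 and exponent 2 is not cyclic. -/
theorem not_isCyclic_four {X : Type*} [Group X] (h4 : Nat.card X = 4) (h2 : ∀ k : X, k ^ 2 = 1) :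
    ¬ IsCyclic X := by
  intro hc
  obtain ⟨g, hg⟩ := hc.exists_generator
  have ho : orderOf g = 4 := by rw [orderOf_eq_card_of_forall_mem_zpowers hg, h4]
  have := orderOf_dvd_of_pow_eq_one (h2 g)
  rw [ho] at this
  norm_num at this

theorem card_a4 : Nat.card (alternatingGroup (Fin 4)) = 12 := by
  rw [nat_card_alternatingGroup]
  simp [Nat.factorial]

theorem not_two_pow_twelve (k : ℕ) : 2 ^ k ≠ 12 := by
  intro h
  have h3 : 3 ∣ 2 ^ k := by rw [h]; norm_num
  have := Nat.Prime.dvd_of_dvd_pow (by norm_num) h3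
  norm_num at this

/-- A subgroup with more than two elements has two distinct nonidentity elements. -/
theorem exists_two_ne_one {G : Type*} [Group G] [Finite G] (K : Subgroup G)
    (h : 2 < Nat.card K) : ∃ a ∈ K, ∃ b ∈ K, a ≠ 1 ∧ b ≠ 1 ∧ a ≠ b := by
  classical
  have : Fintype K := Fintype.ofFinite K
  rw [Nat.card_eq_fintype_card, Fintype.two_lt_card_iff] at h
  obtain ⟨a, b, c, hab, hac, hbc⟩ := h
  have hab' : (a : G) ≠ b := fun h => hab (Subtype.ext h)
  have hac' : (a : G) ≠ c := fun h => hac (Subtype.ext h)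
  have hbc' : (b : G) ≠ c := fun h => hbc (Subtype.ext h)
  by_cases ha : (a : G) = 1
  · refine ⟨b, b.2, c, c.2, ?_, ?_, hbc'⟩
    · intro hb; exact hab' (ha.trans hb.symm)
    · intro hc; exact hac' (ha.trans hc.symm)
  · by_cases hb : (b : G) = 1
    · refine ⟨a, a.2, c, c.2, ha, ?_, hac'⟩
      intro hc; exact hbc' (hb.trans hc.symm)
    · exact ⟨a, a.2, b, b.2, ha, hb, hab'⟩

/-- In a group with a normal Sylow `p`-subgroup, every `p`-subgroup lies in it. -/
theorem le_sylow_of_normal {X : Type*} [Group X] [Finite X] {p : ℕ} [Fact p.Prime] (S : Sylow p X)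
    [hn : (S : Subgroup X).Normal] (Q : Subgroup X) (hQ : IsPGroup p Q) : Q ≤ (S : Subgroup X) := by
  obtain ⟨R, hR⟩ := hQ.exists_le_sylow
  obtain ⟨g, rfl⟩ := MulAction.exists_smul_eq X S R
  rw [Sylow.smul_eq_of_normal] at hR
  exact hR

section Forward

variable {G : Type*} [Group G] [Finite G]
  (hyp : ∀ H : Subgroup G, (∀ S : Sylow 2 ↥H, (S : Subgroup ↥H).Normal) →
        (∀ (S : Sylow 2 ↥H) [(S : Subgroup ↥H).Normal], IsCyclic (↥H ⧸ (S : Subgroup ↥H))) →
        IsCyclic H ∨ (∃ n : ℕ, Nonempty (H ≃* DihedralGroup (2 ^ n))) ∨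
          Nonempty (H ≃* alternatingGroup (Fin 4)))
  (K : Subgroup G) (hK4 : Nat.card K = 4) (hK2 : ∀ k ∈ K, k ^ 2 = 1)

omit [Finite G] in
include hK2 in
theorem comm_of_exp_two : ∀ a ∈ K, ∀ b ∈ K, a * b = b * a := by
  have hinv : ∀ a ∈ K, a⁻¹ = a := fun a ha =>
    inv_eq_of_mul_eq_one_right (by rw [← pow_two]; exact hK2 a ha)
  intro a ha b hb
  have := hinv (a * b) (K.mul_mem ha hb)
  rw [mul_inv_rev, hinv a ha, hinv b hb] at this
  exact this.symm

omit [Finite G] in
include hK4 hK2 in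
theorem not_isCyclic_K : ¬ IsCyclic K := by
  apply not_isCyclic_four hK4
  rintro ⟨k, hk⟩
  apply Subtype.ext
  exact hK2 k hk

include hyp hK4 hK2 in
/-- Elements of odd order centralizing `K` are trivial. -/
theorem odd_centralizer_trivial (y : G) (hy : y ∈ Subgroup.centralizer (K : Set G))
    (hodd : Odd (orderOf y)) : y = 1 := by
  classical
  have : Fact (Nat.Prime 2) := ⟨Nat.prime_two⟩
  have hKcomm := comm_of_exp_two K hK2
  have hKnc := not_isCyclic_K K hK4 hK2
  set T : Set G := (K : Set G) ∪ {y} with hT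
  have hTcomm : ∀ a ∈ T, ∀ b ∈ T, a * b = b * a := by
    rintro a (ha | ha) b (hb | hb)
    · exact hKcomm a ha b hb
    · rw [Set.mem_singleton_iff] at hb; subst hb
      exact Subgroup.mem_centralizer_iff.mp hy a ha
    · rw [Set.mem_singleton_iff] at ha; subst ha
      exact (Subgroup.mem_centralizer_iff.mp hy b hb).symm
    · rw [Set.mem_singleton_iff] at ha hb; rw [ha, hb]
  set H₁ := Subgroup.closure T with hH₁
  have hcommI : IsMulCommutative ↥H₁ := Subgroup.isMulCommutative_closure hTcomm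
  have hKH : K ≤ H₁ := fun k hk => Subgroup.subset_closure (Or.inl hk)
  have hyH : y ∈ H₁ := Subgroup.subset_closure (Or.inr rfl)
  have hN : ∀ S : Sylow 2 ↥H₁, (S : Subgroup ↥H₁).Normal := fun S => inferInstance
  have hC : ∀ (S : Sylow 2 ↥H₁) [(S : Subgroup ↥H₁).Normal],
      IsCyclic (↥H₁ ⧸ (S : Subgroup ↥H₁)) := by
    intro S _
    refine ⟨⟨((⟨y, hyH⟩ : ↥H₁) : ↥H₁ ⧸ (S : Subgroup ↥H₁)), ?_⟩⟩
    intro q
    obtain ⟨h, rfl⟩ := QuotientGroup.mk_surjective q
    set π := QuotientGroup.mk' (S : Subgroup ↥H₁) with hπ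
    set M : Subgroup G := ((Subgroup.zpowers (π ⟨y, hyH⟩)).comap π).map H₁.subtype with hM
    have hTM : T ⊆ M := by
      rintro t (ht | ht)
      · refine ⟨⟨t, hKH ht⟩, ?_, rfl⟩
        have hmem : (⟨t, hKH ht⟩ : ↥H₁) ∈ (S : Subgroup ↥H₁) := by
          have hpK : IsPGroup 2 K := IsPGroup.of_card (n := 2) (by rw [hK4]; norm_num)
          have hp : IsPGroup 2 (K.subgroupOf H₁) := hpK.comap_subtype
          exact le_sylow_of_normal S _ hp (Subgroup.mem_subgroupOf.mpr ht)
        show π ⟨t, hKH ht⟩ ∈ Subgroup.zpowers (π ⟨y, hyH⟩)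
        have h1 : π ⟨t, hKH ht⟩ = 1 := (QuotientGroup.eq_one_iff _).mpr hmem
        rw [h1]
        exact one_mem _
      · rw [Set.mem_singleton_iff] at ht; subst ht
        exact ⟨⟨t, hyH⟩, Subgroup.mem_zpowers _, rfl⟩
    have hHM : H₁ ≤ M := (Subgroup.closure_le M).mpr hTM
    obtain ⟨h', hh', hEq⟩ := hHM h.2
    have hh : h' = h := Subtype.ext hEq
    rw [hh] at hh'
    exact hh'
  rcases hyp H₁ hN hC with hcyc | ⟨m, ⟨e⟩⟩ | ⟨⟨e⟩⟩
  · exfalso
    have := hcyc
    exact hKnc (Subgroup.isCyclic_of_le hKH)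
  · have hcard : Nat.card H₁ = 2 ^ (m + 1) := by
      rw [Nat.card_congr e.toEquiv, DihedralGroup.nat_card, pow_succ']
    have hdvd : orderOf y ∣ 2 ^ (m + 1) := by
      have := orderOf_dvd_natCard (⟨y, hyH⟩ : ↥H₁)
      rw [hcard, Subgroup.orderOf_mk] at this
      exact this
    have hcop : Nat.Coprime (orderOf y) (2 ^ (m + 1)) :=
      Nat.Coprime.pow_right _ (Nat.coprime_two_right.mpr hodd)
    exact orderOf_eq_one_iff.mp (Nat.Coprime.eq_one_of_dvd hcop hdvd)
  · exfalso
    have hcen : Subgroup.center (alternatingGroup (Fin 4)) = ⊥ :=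
      alternatingGroup.center_eq_bot (by simp)
    obtain ⟨k, hkK, -, -, hk1, -, -⟩ := exists_two_ne_one K (by rw [hK4]; norm_num)
    have hmem : e ⟨k, hKH hkK⟩ ∈ Subgroup.center (alternatingGroup (Fin 4)) := by
      rw [Subgroup.mem_center_iff]
      intro b
      obtain ⟨b', rfl⟩ := e.surjective b
      rw [← map_mul, ← map_mul, mul_comm']
    rw [hcen, Subgroup.mem_bot] at hmem
    have := e.injective (hmem.trans (map_one e).symm)
    exact hk1 (congrArg Subtype.val this)

include hyp hK4 hK2 in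
theorem centralizer_eq : Subgroup.centralizer (K : Set G) = K := by
  classical
  have : Fact (Nat.Prime 2) := ⟨Nat.prime_two⟩
  have hKcomm := comm_of_exp_two K hK2
  have hKnc := not_isCyclic_K K hK4 hK2
  have hodd_triv := odd_centralizer_trivial hyp K hK4 hK2
  set H₂ := Subgroup.centralizer (K : Set G) with hH₂
  have hKH₂ : K ≤ H₂ := fun k hk =>
    Subgroup.mem_centralizer_iff.mpr (fun a ha => hKcomm a ha k hk)
  have hp2 : IsPGroup 2 ↥H₂ := by
    rintro ⟨g, hg⟩
    obtain ⟨a, m, hm, hgo⟩ := Nat.exists_eq_two_pow_mul_odd (orderOf_pos g).ne'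
    refine ⟨a, ?_⟩
    apply Subtype.ext
    show g ^ 2 ^ a = 1
    apply hodd_triv (g ^ 2 ^ a) (H₂.pow_mem hg _)
    rw [orderOf_pow_of_dvd (by positivity) (hgo ▸ Dvd.intro _ rfl), hgo,
      Nat.mul_div_cancel_left _ (by positivity)]
    exact hm
  obtain ⟨h1, h2⟩ := hyps_of_isPGroup (X := ↥H₂) hp2
  rcases hyp H₂ h1 h2 with hcyc | ⟨n, ⟨e⟩⟩ | ⟨⟨e⟩⟩
  · exfalso
    have := hcyc
    exact hKnc (Subgroup.isCyclic_of_le hKH₂)
  · by_cases hn : n ≤ 1
    · have hcard : Nat.card H₂ ≤ 4 := by
        rw [Nat.card_congr e.toEquiv, DihedralGroup.nat_card]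
        have : 2 ^ n ≤ 2 ^ 1 := Nat.pow_le_pow_right (by norm_num) hn
        omega
      exact (Subgroup.eq_of_le_of_card_ge hKH₂ (by rw [hK4]; exact hcard)).symm
    · exfalso
      push Not at hn
      have h4m : 2 ^ 2 ∣ 2 ^ n := pow_dvd_pow 2 hn
      have hm4 : 4 ≤ 2 ^ n := Nat.le_of_dvd (by positivity) h4m
      have h2m : 2 ∣ 2 ^ n := Dvd.dvd.trans (by norm_num) h4m
      have hkey : ∀ k (hk : k ∈ K), k ≠ 1 → e ⟨k, hKH₂ hk⟩ = dz (2 ^ n) := by
        intro k hk hk1
        have hd2 : e ⟨k, hKH₂ hk⟩ * e ⟨k, hKH₂ hk⟩ = 1 := by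
          rw [← map_mul, ← map_one e]
          congr 1
          apply Subtype.ext
          show k * k = 1
          rw [← pow_two]; exact hK2 k hk
        have hd1 : e ⟨k, hKH₂ hk⟩ ≠ 1 := by
          intro h
          have := e.injective (h.trans (map_one e).symm)
          exact hk1 (congrArg Subtype.val this)
        rcases invol_cases (by omega) h2m _ hd2 hd1 with h | ⟨j, hj⟩
        · exact h
        · exfalso
          -- e k is central
          have hcen : ∀ b : DihedralGroup (2 ^ n), b * e ⟨k, hKH₂ hk⟩ = e ⟨k, hKH₂ hk⟩ * b := by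
            intro b
            obtain ⟨b', rfl⟩ := e.surjective b
            rw [← map_mul, ← map_mul]
            congr 1
            apply Subtype.ext
            show (b' : G) * k = k * b'
            exact (Subgroup.mem_centralizer_iff.mp b'.2 k hk).symm
          have h3 := hcen (DihedralGroup.r 1)
          rw [hj, DihedralGroup.r_mul_sr, DihedralGroup.sr_mul_r] at h3
          have h4 : j - 1 = j + 1 := by simpa using h3
          have h5 : ((2 : ℕ) : ZMod (2 ^ n)) = 0 := by
            have : (1 : ZMod (2 ^ n)) + 1 = 0 := by linear_combination -h4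
            push_cast
            rw [← this]; norm_num
          have h6 := (ZMod.natCast_eq_zero_iff 2 (2 ^ n)).mp h5
          have := Nat.le_of_dvd (by norm_num) h6
          omega
      obtain ⟨a, ha, b, hb, ha1, hb1, hab⟩ := exists_two_ne_one K (by rw [hK4]; norm_num)
      have := e.injective ((hkey a ha ha1).trans (hkey b hb hb1).symm)
      exact hab (congrArg Subtype.val this)
  · exfalso
    have h12 : Nat.card H₂ = 12 := by rw [Nat.card_congr e.toEquiv, card_a4]
    obtain ⟨k, hk⟩ := IsPGroup.iff_card.mp hp2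
    rw [hk] at h12
    exact not_two_pow_twelve k h12

end Forward

/-- Let G be a finite group with Sylow 2-subgroup P. Every subgroup H of G whose Sylow 2-subgroup is normal in H with cyclic quotient is cyclic, dihedral of 2-power order, or isomorphic to the alternating group of degree 4, if and only if either P is cyclic, or P is dihedral (of order at least 4) and every elementary abelian subgroup K of order 4 of P satisfies C_G(K) = K. -/
theorem result {G : Type*} [Group G] [Finite G] (P : Sylow 2 G) :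
    (∀ H : Subgroup G, (∀ S : Sylow 2 ↥H, (S : Subgroup ↥H).Normal) →
        (∀ (S : Sylow 2 ↥H) [(S : Subgroup ↥H).Normal], IsCyclic (↥H ⧸ (S : Subgroup ↥H))) →
        IsCyclic H ∨ (∃ n : ℕ, Nonempty (H ≃* DihedralGroup (2 ^ n))) ∨ Nonempty (H ≃* alternatingGroup (Fin 4))) ↔
    (IsCyclic P ∨
      ((∃ n : ℕ, 1 ≤ n ∧ Nonempty ((P : Subgroup G) ≃* DihedralGroup (2 ^ n))) ∧
        ∀ K : Subgroup G, K ≤ P → Nat.card K = 4 → (∀ k ∈ K, k ^ 2 = 1) → Subgroup.centralizer (K : Set G) = K)) := by
  classical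
  have : Fact (Nat.Prime 2) := ⟨Nat.prime_two⟩
  constructor
  · intro hyp
    have hP2 : IsPGroup 2 (P : Subgroup G) := P.isPGroup'
    obtain ⟨h1, h2⟩ := hyps_of_isPGroup (X := ↥(P : Subgroup G)) hP2
    rcases hyp (P : Subgroup G) h1 h2 with hcyc | ⟨n, ⟨e⟩⟩ | ⟨⟨e⟩⟩
    · exact Or.inl hcyc
    · rcases Nat.eq_zero_or_pos n with hn0 | hnpos
      · left
        subst hn0
        have hc2 : Nat.card (P : Subgroup G) = 2 := by
          rw [Nat.card_congr e.toEquiv, DihedralGroup.nat_card]; norm_num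
        exact isCyclic_of_prime_card hc2
      · right
        refine ⟨⟨n, hnpos, ⟨e⟩⟩, ?_⟩
        intro K _ hK4 hK2
        exact centralizer_eq hyp K hK4 hK2
    · exfalso
      have h12 : Nat.card (P : Subgroup G) = 12 := by rw [Nat.card_congr e.toEquiv, card_a4]
      obtain ⟨k, hk⟩ := IsPGroup.iff_card.mp hP2
      rw [hk] at h12
      exact not_two_pow_twelve k h12
  · intro hP H hN hC
    let S : Sylow 2 ↥H := default
    have : (S : Subgroup ↥H).Normal := hN S
    have hc := hC S
    rcases hP with hPc | ⟨⟨n, hn1, ⟨e⟩⟩, hcent⟩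
    · obtain ⟨ψ, hψ⟩ := Cfsg.Agent.Helper9.exists_embedding_of_isPGroup P ⟨MulEquiv.refl _⟩ H
        (S : Subgroup ↥H) S.isPGroup'
      have hScyc : IsCyclic (S : Subgroup ↥H) := isCyclic_of_injective ψ hψ
      exact Or.inl (isCyclic_of_cyclic_sylow S hc hScyc)
    · obtain ⟨ψ, hψ⟩ := Cfsg.Agent.Helper9.exists_embedding_of_isPGroup P ⟨e⟩ H
        (S : Subgroup ↥H) S.isPGroup'
      have hD : DihType (S : Subgroup ↥H) :=
        DihType.of_map H.subtype H.subtype_injective
          (dihType_of_sylow_dihedral P (2 ^ n) ⟨e⟩ _ (S.isPGroup'.map _))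
      have hK : ∀ K : Subgroup ↥H, Nat.card K = 4 → (∀ k ∈ K, k ^ 2 = 1) →
          ∀ y ∈ Subgroup.centralizer (K : Set ↥H), Odd (orderOf y) → y = 1 := by
        intro K hK4 hK2 y hy hodd
        set K' : Subgroup G := K.map H.subtype with hK'
        have hK'4 : Nat.card K' = 4 := by
          rw [hK', Subgroup.card_map_of_injective H.subtype_injective, hK4]
        have hK'p : IsPGroup 2 K' := IsPGroup.of_card (n := 2) (by rw [hK'4]; norm_num)
        obtain ⟨Q, hQ⟩ := hK'p.exists_le_sylow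
        obtain ⟨g, rfl⟩ := MulAction.exists_smul_eq G P Q
        set c : G →* G := (MulAut.conj g⁻¹).toMonoidHom with hc
        have hcinj : Function.Injective c := (MulAut.conj g⁻¹).injective
        set K'' : Subgroup G := K'.map c with hK''
        have hK''P : K'' ≤ P := by
          rintro _ ⟨k, hk, rfl⟩
          have := (mem_smul_sylow_iff g P k).mp (hQ hk)
          simpa [hc, MulAut.conj_apply] using this
        have hK''4 : Nat.card K'' = 4 := by
          rw [hK'', Subgroup.card_map_of_injective hcinj, hK'4]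
        have hK''2 : ∀ k ∈ K'', k ^ 2 = 1 := by
          rintro _ ⟨_, ⟨k, hk, rfl⟩, rfl⟩
          rw [← map_pow, ← map_pow, hK2 k hk, map_one, map_one]
        have hcen := hcent K'' hK''P hK''4 hK''2
        have hy' : c (y : G) ∈ Subgroup.centralizer (K'' : Set G) := by
          rw [Subgroup.mem_centralizer_iff]
          rintro _ ⟨_, ⟨k, hk, rfl⟩, rfl⟩
          rw [← map_mul, ← map_mul]
          congr 1
          have := Subgroup.mem_centralizer_iff.mp hy k hk
          exact congrArg Subtype.val this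
        rw [hcen] at hy'
        have h2 := hK''2 _ hy'
        rw [← map_pow] at h2
        have h3 : (y : G) ^ 2 = 1 := hcinj (h2.trans (map_one c).symm)
        have h4 : y ^ 2 = 1 := Subtype.ext h3
        have h5 : orderOf y ∣ 2 := orderOf_dvd_of_pow_eq_one h4
        have h6 : orderOf y = 1 := by
          rcases (Nat.dvd_prime Nat.prime_two).mp h5 with h | h
          · exact h
          · rw [h] at hodd; exact absurd hodd (by decide)
        exact orderOf_eq_one_iff.mp h6
      exact concl_of_dihType S hc hD ψ hψ hK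

end Cfsg.Agent.S4083
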