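-- Statement S4084: isomorphic commuting graphs give the same prime graph.
import Mathlib
import Cfsg.Statements.S4084

set_option autoImplicit false
open Cfsg

namespace Cfsg.Agent.S4084

/-- One direction: an element of order `p * q` is transported along a commuting-graph isomorphism. -/
theorem aux {G H : Type*} [Group G] [Finite G] [Group H] [Finite H] (e : G ≃ H)
    (he : ∀ x y : G, Commute x y ↔ Commute (e x) (e y))
    {p q : ℕ} (hp : p.Prime) (hq : q.Prime) (hpq : p ≠ q)
    (h : ∃ g : G, orderOf g = p * q) : ∃ h : H, orderOf h = p * q := by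
  obtain ⟨g, hg⟩ := h
  set A : Subgroup G := Subgroup.centralizer (Subgroup.centralizer ({g} : Set G) : Set G) with hA
  set B : Subgroup H := Subgroup.centralizer (Subgroup.centralizer ({e g} : Set H) : Set H) with hB
  have hgA : g ∈ A := by
    rw [hA, Subgroup.mem_centralizer_iff]
    intro w hw
    exact Subgroup.mem_centralizer_singleton_iff.mp hw
  have hAB : ∀ z, z ∈ A ↔ e z ∈ B := by
    intro z
    rw [hA, hB, Subgroup.mem_centralizer_iff, Subgroup.mem_centralizer_iff]
    constructor
    · intro hz w' hw'
      obtain ⟨w, rfl⟩ := e.surjective w'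
      have hw : w ∈ Subgroup.centralizer ({g} : Set G) := by
        rw [Subgroup.mem_centralizer_singleton_iff]
        have : Commute (e w) (e g) := Subgroup.mem_centralizer_singleton_iff.mp hw'
        exact ((he w g).mpr this)
      have : Commute w z := hz w hw
      exact (he w z).mp this
    · intro hz w hw
      have hw' : e w ∈ Subgroup.centralizer ({e g} : Set H) := by
        rw [Subgroup.mem_centralizer_singleton_iff]
        have : Commute w g := Subgroup.mem_centralizer_singleton_iff.mp hw
        exact (he w g).mp this
      have : Commute (e w) (e z) := hz (e w) hw'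
      exact (he w z).mpr this
  have hcard : Nat.card A = Nat.card B := Nat.card_congr (e.subtypeEquiv hAB)
  have hdvd : p * q ∣ Nat.card B := by
    rw [← hcard, ← hg, ← Subgroup.orderOf_mk g hgA]
    exact orderOf_dvd_natCard _
  haveI : Fact p.Prime := ⟨hp⟩
  haveI : Fact q.Prime := ⟨hq⟩
  obtain ⟨b1, hb1⟩ := exists_prime_orderOf_dvd_card' (G := B) p (dvd_of_mul_right_dvd hdvd)
  obtain ⟨b2, hb2⟩ := exists_prime_orderOf_dvd_card' (G := B) q (dvd_of_mul_left_dvd hdvd)
  -- B is contained in the centralizer of e g
  have hBle : ∀ b ∈ B, b ∈ Subgroup.centralizer ({e g} : Set H) := by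
    intro b hb
    rw [hB, Subgroup.mem_centralizer_iff] at hb
    rw [Subgroup.mem_centralizer_singleton_iff]
    have hself : e g ∈ Subgroup.centralizer ({e g} : Set H) := by
      rw [Subgroup.mem_centralizer_singleton_iff]
    exact (hb (e g) hself).symm
  have hcomm : Commute (b1 : H) (b2 : H) := by
    have h1 : (b1 : H) ∈ Subgroup.centralizer (Subgroup.centralizer ({e g} : Set H) : Set H) := b1.2
    rw [Subgroup.mem_centralizer_iff] at h1
    exact (h1 (b2 : H) (hBle _ b2.2)).symm
  refine ⟨(b1 : H) * (b2 : H), ?_⟩
  have ho1 : orderOf (b1 : H) = p := by rw [Subgroup.orderOf_coe]; exact hb1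
  have ho2 : orderOf (b2 : H) = q := by rw [Subgroup.orderOf_coe]; exact hb2
  rw [hcomm.orderOf_mul_eq_mul_orderOf_of_coprime, ho1, ho2]
  rw [ho1, ho2]
  exact (Nat.coprime_primes hp hq).mpr hpq

/-- Let G and H be finite groups whose commuting graphs are isomorphic: there is a bijection e : G → H with x, y commuting exactly when e(x), e(y) commute. Then G and H have the same prime graph: for distinct primes p, q, G has an element of order pq if and only if H does (and #G = #H, so the prime divisors agree). -/
theorem result {G H : Type*} [Group G] [Finite G] [Group H] [Finite H] (e : G ≃ H)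
    (he : ∀ x y : G, Commute x y ↔ Commute (e x) (e y))
    {p q : ℕ} (hp : p.Prime) (hq : q.Prime) (hpq : p ≠ q) :
    (∃ g : G, orderOf g = p * q) ↔ (∃ h : H, orderOf h = p * q) := by
  constructor
  · exact aux e he hp hq hpq
  · refine aux e.symm ?_ hp hq hpq
    intro x y
    have := he (e.symm x) (e.symm y)
    simp only [Equiv.apply_symm_apply] at this
    exact this.symm

end Cfsg.Agent.S4084
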