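import Mathlib
import Cfsg.Statements.S4085

set_option autoImplicit false
open Cfsg

namespace Cfsg.Agent.S4085

/-- comparability in the power graph -/
def Cmp {G : Type*} [Group G] (x y : G) : Prop :=
  x ∈ Subgroup.zpowers y ∨ y ∈ Subgroup.zpowers x

section basic
variable {G : Type*} [Group G]

theorem cmp_comm {x y : G} : Cmp x y ↔ Cmp y x := or_comm

theorem cmp_one_left (x : G) : Cmp 1 x := Or.inl (one_mem _)
theorem cmp_one_right (x : G) : Cmp x 1 := Or.inr (one_mem _)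
theorem cmp_self (x : G) : Cmp x x := Or.inl (Subgroup.mem_zpowers x)

theorem cmp_congr_right {x y z : G} (h : Subgroup.zpowers y = Subgroup.zpowers z) :
    Cmp x y ↔ Cmp x z := by
  unfold Cmp
  rw [← Subgroup.zpowers_le (g := y), ← Subgroup.zpowers_le (g := z), h]

theorem not_cmp_of_not_dvd {s t : G} (h1 : ¬ orderOf s ∣ orderOf t)
    (h2 : ¬ orderOf t ∣ orderOf s) : ¬ Cmp s t := by
  rintro (h | h)
  · exact h1 (orderOf_dvd_of_mem_zpowers h)
  · exact h2 (orderOf_dvd_of_mem_zpowers h)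

variable [Finite G]

theorem mem_zpowers_of_le {y w : G} (h : y ∈ Subgroup.zpowers w)
    (hle : orderOf w ≤ orderOf y) : w ∈ Subgroup.zpowers y := by
  have h1 : Subgroup.zpowers y ≤ Subgroup.zpowers w := Subgroup.zpowers_le.mpr h
  have h2 : Subgroup.zpowers y = Subgroup.zpowers w := by
    apply Subgroup.eq_of_le_of_card_ge h1
    rw [Nat.card_zpowers, Nat.card_zpowers]; exact hle
  rw [h2]; exact Subgroup.mem_zpowers w

theorem zpowers_eq_of_mem_of_orderOf_eq {y g : G} (h : g ∈ Subgroup.zpowers y)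
    (ho : orderOf g = orderOf y) : Subgroup.zpowers g = Subgroup.zpowers y := by
  apply Subgroup.eq_of_le_of_card_ge (Subgroup.zpowers_le.mpr h)
  rw [Nat.card_zpowers, Nat.card_zpowers, ho]

theorem orderOf_pow_div {y : G} {d : ℕ} (hd : d ∣ orderOf y) :
    orderOf (y ^ (orderOf y / d)) = d :=
  orderOf_pow_orderOf_div (orderOf_pos y).ne' hd

/-- In a cyclic group, divisibility of orders implies membership. -/
theorem mem_zpowers_of_orderOf_dvd {g z₁ z₂ : G} (h1 : z₁ ∈ Subgroup.zpowers g)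
    (h2 : z₂ ∈ Subgroup.zpowers g) (hd : orderOf z₁ ∣ orderOf z₂) :
    z₁ ∈ Subgroup.zpowers z₂ := by
  classical
  set C := Subgroup.zpowers g with hC
  have : Fintype C := Fintype.ofFinite C
  set c₁ : C := ⟨z₁, h1⟩
  set c₂ : C := ⟨z₂, h2⟩
  set n := orderOf z₂ with hn
  have hn0 : 0 < n := orderOf_pos z₂
  have hc2 : orderOf c₂ = n := by
    rw [hn]; exact Subgroup.orderOf_mk z₂ h2
  have hcard := IsCyclic.card_pow_eq_one_le (α := C) hn0
  have hsub : (Subgroup.zpowers c₂ : Set C).toFinset ⊆ Finset.univ.filter (fun a : C => a ^ n = 1) := by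
    intro c hc
    rw [Set.mem_toFinset] at hc
    rw [Finset.mem_filter]
    refine ⟨Finset.mem_univ _, ?_⟩
    obtain ⟨k, rfl⟩ := Subgroup.mem_zpowers_iff.mp hc
    rw [← zpow_natCast, ← zpow_mul, mul_comm, zpow_mul, zpow_natCast, ← hc2, pow_orderOf_eq_one, one_zpow]
  have hcard2 : (Subgroup.zpowers c₂ : Set C).toFinset.card = n := by
    rw [Set.toFinset_card, ← Nat.card_eq_fintype_card]
    rw [← hc2]; exact Nat.card_zpowers c₂
  have heq := Finset.eq_of_subset_of_card_le hsub (by rw [hcard2]; exact hcard)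
  have hc1 : c₁ ∈ Finset.univ.filter (fun a : C => a ^ n = 1) := by
    rw [Finset.mem_filter]
    refine ⟨Finset.mem_univ _, ?_⟩
    apply Subtype.ext
    rw [Subgroup.coe_pow, Subgroup.coe_one]
    exact orderOf_dvd_iff_pow_eq_one.mp hd
  rw [← heq, Set.mem_toFinset] at hc1
  obtain ⟨k, hk⟩ := Subgroup.mem_zpowers_iff.mp hc1
  refine Subgroup.mem_zpowers_iff.mpr ⟨k, ?_⟩
  have := congrArg Subtype.val hk
  rw [Subgroup.coe_zpow] at this
  exact this

omit [Finite G] in
theorem cmp_swap [DecidableEq G] (v : G) (hv : ∀ h, Cmp h v) (h₁ h₂ : G) :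
    Cmp (Equiv.swap v 1 h₁) (Equiv.swap v 1 h₂) ↔ Cmp h₁ h₂ := by
  have dom : ∀ w : G, (w = v ∨ w = 1) → ∀ h, Cmp h w := by
    rintro w (rfl | rfl) h
    · exact hv h
    · exact cmp_one_right h
  have hsw : ∀ w : G, (w = v ∨ w = 1) → (Equiv.swap v 1 w = v ∨ Equiv.swap v 1 w = 1) := by
    rintro w (rfl | rfl)
    · right; exact Equiv.swap_apply_left _ _
    · left; exact Equiv.swap_apply_right _ _
  by_cases c1 : h₁ = v ∨ h₁ = 1
  · exact ⟨fun _ => cmp_comm.mp (dom h₁ c1 h₂), fun _ => cmp_comm.mp (dom _ (hsw h₁ c1) _)⟩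
  by_cases c2 : h₂ = v ∨ h₂ = 1
  · exact ⟨fun _ => dom h₂ c2 h₁, fun _ => dom _ (hsw h₂ c2) _⟩
  rw [not_or] at c1 c2
  rw [Equiv.swap_apply_of_ne_of_ne c1.1 c1.2, Equiv.swap_apply_of_ne_of_ne c2.1 c2.2]

theorem exists_max_cyclic (x : G) :
    ∃ y : G, x ∈ Subgroup.zpowers y ∧ ∀ w, y ∈ Subgroup.zpowers w → w ∈ Subgroup.zpowers y := by
  have : Nonempty {y : G // x ∈ Subgroup.zpowers y} := ⟨⟨x, Subgroup.mem_zpowers x⟩⟩
  obtain ⟨⟨y, hy⟩, hmax⟩ := Finite.exists_max (fun y : {y : G // x ∈ Subgroup.zpowers y} => orderOf y.1)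
  refine ⟨y, hy, fun w hw => ?_⟩
  have hxw : x ∈ Subgroup.zpowers w := (Subgroup.zpowers_le.mpr hw) hy
  exact mem_zpowers_of_le hw (hmax ⟨w, hxw⟩)

theorem prime_ne_of_mul_dvd {p q N : ℕ} (hp : p.Prime) (hq : q.Prime) (hN0 : 0 < N)
    (h : p * q ∣ N) : p ≠ N := by
  have := Nat.le_of_dvd hN0 h
  have h2 := hq.two_le
  have h3 := hp.pos
  nlinarith

theorem not_both_dvd_prime_pow {p q r k : ℕ} (hp : p.Prime) (hq : q.Prime) (hr : r.Prime)
    (hpq : p ≠ q) (h1 : p ∣ r ^ k) (h2 : q ∣ r ^ k) : False := by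
  have e1 : p = r := (Nat.prime_dvd_prime_iff_eq hp hr).mp (hp.dvd_of_dvd_pow h1)
  have e2 : q = r := (Nat.prime_dvd_prime_iff_eq hq hr).mp (hq.dvd_of_dvd_pow h2)
  exact hpq (e1.trans e2.symm)

theorem color_lemma {y : G} {p q : ℕ} (hp : p.Prime) (hq : q.Prime) (hpq : p ≠ q)
    (hN : p * q ∣ orderOf y) (col : G → Prop)
    (KP : ∀ t₁ t₂, t₁ ∈ Subgroup.zpowers y → t₂ ∈ Subgroup.zpowers y → ¬ Cmp t₁ t₂ →
      (col t₁ ↔ col t₂))
    (t : G) (ht : t ∈ Subgroup.zpowers y) (ht1 : orderOf t ≠ 1) (htN : orderOf t ≠ orderOf y) :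
    (col t ↔ col (y ^ (orderOf y / p))) ∧
      ∃ t₂, t₂ ∈ Subgroup.zpowers y ∧ orderOf t₂ ≠ 1 ∧ orderOf t₂ ≠ orderOf y ∧ ¬ Cmp t t₂ := by
  have hN0 : 0 < orderOf y := orderOf_pos y
  have hpN : p ∣ orderOf y := (dvd_mul_right p q).trans hN
  have hqN : q ∣ orderOf y := (dvd_mul_left q p).trans hN
  have ha : orderOf (y ^ (orderOf y / p)) = p := orderOf_pow_div hpN
  have hb : orderOf (y ^ (orderOf y / q)) = q := orderOf_pow_div hqN
  have hay : y ^ (orderOf y / p) ∈ Subgroup.zpowers y := pow_mem (Subgroup.mem_zpowers y) _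
  have hby : y ^ (orderOf y / q) ∈ Subgroup.zpowers y := pow_mem (Subgroup.mem_zpowers y) _
  have hpne : p ≠ orderOf y := prime_ne_of_mul_dvd hp hq hN0 hN
  have hqne : q ≠ orderOf y := prime_ne_of_mul_dvd hq hp hN0 (mul_comm p q ▸ hN)
  have hab : ¬ Cmp (y ^ (orderOf y / p)) (y ^ (orderOf y / q)) := by
    apply not_cmp_of_not_dvd
    · rw [ha, hb]; exact fun h => hpq ((Nat.prime_dvd_prime_iff_eq hp hq).mp h)
    · rw [ha, hb]; exact fun h => hpq ((Nat.prime_dvd_prime_iff_eq hq hp).mp h).symm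
  have hcolab : col (y ^ (orderOf y / p)) ↔ col (y ^ (orderOf y / q)) := KP _ _ hay hby hab
  -- case 1
  have case1 : ∀ t : G, orderOf t ≠ 1 → ¬ p ∣ orderOf t → ¬ Cmp t (y ^ (orderOf y / p)) := by
    intro t h1 hnd
    apply not_cmp_of_not_dvd
    · rw [ha]; intro h
      rcases (Nat.dvd_prime hp).mp h with h' | h'
      · exact h1 h'
      · exact hnd (h' ▸ dvd_refl _)
    · rw [ha]; exact hnd
  have case2 : ∀ t : G, orderOf t ≠ 1 → ¬ q ∣ orderOf t → ¬ Cmp t (y ^ (orderOf y / q)) := by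
    intro t h1 hnd
    apply not_cmp_of_not_dvd
    · rw [hb]; intro h
      rcases (Nat.dvd_prime hq).mp h with h' | h'
      · exact h1 h'
      · exact hnd (h' ▸ dvd_refl _)
    · rw [hb]; exact hnd
  by_cases hpd : p ∣ orderOf t
  · by_cases hqd : q ∣ orderOf t
    · have hdN : orderOf t ∣ orderOf y := orderOf_dvd_of_mem_zpowers ht
      have hnd : ¬ orderOf y ∣ orderOf t := fun h => htN (Nat.dvd_antisymm hdN h)
      rw [Nat.dvd_iff_prime_pow_dvd_dvd] at hnd
      push Not at hnd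
      obtain ⟨r, k, hr, hrN, hrd⟩ := hnd
      have hc : orderOf (y ^ (orderOf y / r ^ k)) = r ^ k := orderOf_pow_div hrN
      have hcy : y ^ (orderOf y / r ^ k) ∈ Subgroup.zpowers y :=
        pow_mem (Subgroup.mem_zpowers y) _
      have hc1 : orderOf (y ^ (orderOf y / r ^ k)) ≠ 1 := by
        rw [hc]; intro h; exact hrd (h ▸ one_dvd _)
      have hcN : orderOf (y ^ (orderOf y / r ^ k)) ≠ orderOf y := by
        rw [hc]; intro h
        exact not_both_dvd_prime_pow hp hq hr hpq (h ▸ hpN) (h ▸ hqN)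
      have hnc : ¬ Cmp t (y ^ (orderOf y / r ^ k)) := by
        apply not_cmp_of_not_dvd
        · rw [hc]; intro h
          exact not_both_dvd_prime_pow hp hq hr hpq (hpd.trans h) (hqd.trans h)
        · rw [hc]; exact hrd
      have hcolc : col (y ^ (orderOf y / r ^ k)) ↔ col (y ^ (orderOf y / p)) := by
        by_cases hpr : p ∣ r ^ k
        · have hqr : ¬ q ∣ r ^ k := fun h => not_both_dvd_prime_pow hp hq hr hpq hpr h
          rw [hcolab]
          exact KP _ _ hcy hby (case2 _ hc1 (by rw [hc]; exact hqr))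
        · exact KP _ _ hcy hay (case1 _ hc1 (by rw [hc]; exact hpr))
      exact ⟨(KP _ _ ht hcy hnc).trans hcolc, _, hcy, hc1, hcN, hnc⟩
    · have hnc := case2 t ht1 hqd
      exact ⟨(KP _ _ ht hby hnc).trans hcolab.symm, _, hby, by rw [hb]; exact hq.ne_one,
        by rw [hb]; exact hqne, hnc⟩
  · have hnc := case1 t ht1 hpd
    exact ⟨KP _ _ ht hay hnc, _, hay, by rw [ha]; exact hp.ne_one, by rw [ha]; exact hpne, hnc⟩

theorem twin_lemma {y : G} {p q : ℕ} (hp : p.Prime) (hq : q.Prime) (hpq : p ≠ q)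
    (hN : p * q ∣ orderOf y) (v : G)
    (hv : ∀ w, Cmp w v ↔ Cmp w (y ^ (orderOf y / p))) :
    v ∈ Subgroup.zpowers (y ^ (orderOf y / p)) ∧ v ≠ 1 := by
  have hpN : p ∣ orderOf y := (dvd_mul_right p q).trans hN
  have hqN : q ∣ orderOf y := (dvd_mul_left q p).trans hN
  have ha : orderOf (y ^ (orderOf y / p)) = p := orderOf_pow_div hpN
  have hb : orderOf (y ^ (orderOf y / q)) = q := orderOf_pow_div hqN
  have hx₀ : orderOf (y ^ (orderOf y / (p * q))) = p * q := orderOf_pow_div hN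
  have hax : y ^ (orderOf y / p) ∈ Subgroup.zpowers (y ^ (orderOf y / (p * q))) := by
    obtain ⟨m, hm⟩ := hN
    have h1 : orderOf y / (p * q) = m := by
      rw [hm]; exact Nat.mul_div_cancel_left m (Nat.mul_pos hp.pos hq.pos)
    have h2 : orderOf y / p = m * q := by
      rw [hm, mul_assoc, Nat.mul_div_cancel_left _ hp.pos, mul_comm]
    rw [h1, h2, pow_mul]
    exact pow_mem (Subgroup.mem_zpowers _) _
  have hbx : y ^ (orderOf y / q) ∈ Subgroup.zpowers (y ^ (orderOf y / (p * q))) := by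
    obtain ⟨m, hm⟩ := hN
    have h1 : orderOf y / (p * q) = m := by
      rw [hm]; exact Nat.mul_div_cancel_left m (Nat.mul_pos hp.pos hq.pos)
    have h2 : orderOf y / q = m * p := by
      rw [hm, mul_comm p q, mul_assoc, Nat.mul_div_cancel_left _ hq.pos, mul_comm]
    rw [h1, h2, pow_mul]
    exact pow_mem (Subgroup.mem_zpowers _) _
  have hba : ¬ Cmp (y ^ (orderOf y / q)) (y ^ (orderOf y / p)) := by
    apply not_cmp_of_not_dvd
    · rw [ha, hb]; exact fun h => hpq ((Nat.prime_dvd_prime_iff_eq hq hp).mp h).symm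
    · rw [ha, hb]; exact fun h => hpq ((Nat.prime_dvd_prime_iff_eq hp hq).mp h)
  have hv1 : v ≠ 1 := by
    rintro rfl
    exact hba ((hv _).mp (cmp_one_right _))
  refine ⟨?_, hv1⟩
  rcases (hv _).mpr (cmp_self _) with h | h
  · -- a ∈ zpowers v
    rcases (hv _).mpr (Or.inr hax) with h' | h'
    · -- x₀ ∈ zpowers v
      exfalso
      apply hba
      rw [← hv]
      exact Or.inl ((Subgroup.zpowers_le.mpr h') hbx)
    · -- v ∈ zpowers x₀
      have hn1 : orderOf v ∣ p * q := hx₀ ▸ orderOf_dvd_of_mem_zpowers h'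
      have hn2 : p ∣ orderOf v := ha ▸ orderOf_dvd_of_mem_zpowers h
      obtain ⟨k, hk⟩ := hn2
      rw [hk] at hn1
      have hkq : k ∣ q := Nat.dvd_of_mul_dvd_mul_left hp.pos hn1
      rcases (Nat.dvd_prime hq).mp hkq with rfl | rfl
      · apply mem_zpowers_of_le h
        rw [ha, hk, mul_one]
      · exfalso
        apply hba
        rw [← hv]
        left
        rw [zpowers_eq_of_mem_of_orderOf_eq h' (by rw [hk, hx₀])]
        exact hbx
  · exact h

end basic

theorem totient_le_of_twins {G H : Type*} [Group G] [Finite G] [Group H] [Finite H]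
    (e : G ≃ H) (a : G) (a' : H) {p : ℕ} (ha : orderOf a = p)
    (htw : ∀ h : H, Subgroup.zpowers h = Subgroup.zpowers a' →
      e.symm h ∈ Subgroup.zpowers a ∧ e.symm h ≠ 1) :
    Nat.totient (orderOf a') ≤ p - 1 := by
  classical
  rw [Nat.totient_eq_card_coprime]
  set F := (Finset.range (orderOf a')).filter (fun k => (orderOf a').Coprime k) with hF
  have hcard : ((Subgroup.zpowers a : Set G) \ {1}).ncard = p - 1 := by
    rw [Set.ncard_sdiff_singleton_of_mem (one_mem _), ← Nat.card_coe_set_eq]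
    rw [← ha]; congr 1; exact Nat.card_zpowers a
  rw [← hcard, ← Set.ncard_coe_finset F]
  apply Set.ncard_le_ncard_of_injOn (fun k => e.symm (a' ^ k))
  · intro k hk
    rw [Finset.mem_coe, hF, Finset.mem_filter] at hk
    have h1 : Subgroup.zpowers (a' ^ k) = Subgroup.zpowers a' :=
      zpowers_eq_of_mem_of_orderOf_eq (pow_mem (Subgroup.mem_zpowers _) _)
        (Nat.Coprime.orderOf_pow hk.2)
    obtain ⟨h2, h3⟩ := htw _ h1
    exact ⟨h2, h3⟩
  · intro k₁ hk₁ k₂ hk₂ heq
    rw [Finset.mem_coe, hF, Finset.mem_filter, Finset.mem_range] at hk₁ hk₂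
    have := e.symm.injective heq
    exact pow_injOn_Iio_orderOf hk₁.1 hk₂.1 this

theorem le_two_totient_of_clique {H : Type*} [Group H] [Finite H] (z : H)
    (hcl : ∀ h₁ h₂, h₁ ∈ Subgroup.zpowers z → h₂ ∈ Subgroup.zpowers z → Cmp h₁ h₂) :
    orderOf z ≤ 2 * Nat.totient (orderOf z) := by
  have hR0 : 0 < orderOf z := orderOf_pos z
  have huniq : ∀ r₁ r₂ : ℕ, r₁.Prime → r₂.Prime → r₁ ∣ orderOf z → r₂ ∣ orderOf z → r₁ = r₂ := by
    intro r₁ r₂ h1 h2 hd1 hd2
    have hw1 : orderOf (z ^ (orderOf z / r₁)) = r₁ := orderOf_pow_div hd1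
    have hw2 : orderOf (z ^ (orderOf z / r₂)) = r₂ := orderOf_pow_div hd2
    have hc := hcl _ _ (pow_mem (Subgroup.mem_zpowers z) (orderOf z / r₁))
      (pow_mem (Subgroup.mem_zpowers z) (orderOf z / r₂))
    rcases hc with h | h
    · have := orderOf_dvd_of_mem_zpowers h
      rw [hw1, hw2] at this
      exact (Nat.prime_dvd_prime_iff_eq h1 h2).mp this
    · have := orderOf_dvd_of_mem_zpowers h
      rw [hw1, hw2] at this
      exact ((Nat.prime_dvd_prime_iff_eq h2 h1).mp this).symm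
  by_cases hR1 : orderOf z = 1
  · rw [hR1]; simp
  · set r := (orderOf z).minFac with hr
    have hrp : r.Prime := Nat.minFac_prime hR1
    have hrd : r ∣ orderOf z := Nat.minFac_dvd _
    obtain ⟨k, hk⟩ : ∃ k, orderOf z = r ^ k :=
      ⟨_, Nat.eq_prime_pow_of_unique_prime_dvd hR0.ne' (fun {d} hd hdd => huniq d r hd hrp hdd hrd)⟩
    have hk0 : 0 < k := by
      rcases Nat.eq_zero_or_pos k with rfl | h
      · exact absurd hk (by simpa using hR1)
      · exact h
    rw [hk, Nat.totient_prime_pow hrp hk0]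
    have h2 := hrp.two_le
    have : r ^ k = r ^ (k - 1) * r := by
      rw [← pow_succ, Nat.sub_add_cancel hk0]
    rw [this]
    have h3 : r ≤ 2 * (r - 1) := by omega
    calc r ^ (k - 1) * r ≤ r ^ (k - 1) * (2 * (r - 1)) := Nat.mul_le_mul_left _ h3
      _ = 2 * (r ^ (k - 1) * (r - 1)) := by ring

theorem lower_bound {G H : Type*} [Group G] [Finite G] [Group H] [Finite H] (e : G ≃ H)
    (y : G) (z' : H) (hy1 : orderOf y ≠ 1)
    (hS : ∀ g, g ∈ Subgroup.zpowers y → (g = 1 ∨ orderOf g = orderOf y) →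
      e g ∈ Subgroup.zpowers z') :
    1 + Nat.totient (orderOf y) ≤ orderOf z' := by
  classical
  rw [Nat.totient_eq_card_coprime]
  set F := (Finset.range (orderOf y)).filter (fun k => (orderOf y).Coprime k) with hF
  have h0F : 0 ∉ F := by
    rw [hF, Finset.mem_filter]
    rintro ⟨-, h⟩
    exact hy1 ((Nat.coprime_zero_right _).mp h)
  have hcard : (insert 0 F).card = 1 + F.card := by
    rw [Finset.card_insert_of_notMem h0F, add_comm]
  have hz : (Subgroup.zpowers z' : Set H).ncard = orderOf z' := by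
    rw [← Nat.card_coe_set_eq]; exact Nat.card_zpowers z'
  rw [← hcard, ← hz, ← Set.ncard_coe_finset (insert 0 F)]
  apply Set.ncard_le_ncard_of_injOn (fun k => e (y ^ k))
  · intro k hk
    rw [Finset.mem_coe, Finset.mem_insert] at hk
    rcases hk with rfl | hk
    · simp only [pow_zero]
      exact hS 1 (one_mem _) (Or.inl rfl)
    · rw [hF, Finset.mem_filter] at hk
      exact hS _ (pow_mem (Subgroup.mem_zpowers _) _) (Or.inr (Nat.Coprime.orderOf_pow hk.2))
  · have hsub : ∀ k ∈ (insert 0 F : Finset ℕ), k < orderOf y := by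
      intro k hk
      rw [Finset.mem_insert] at hk
      rcases hk with rfl | hk
      · exact orderOf_pos y
      · rw [hF, Finset.mem_filter, Finset.mem_range] at hk
        exact hk.1
    intro k₁ hk₁ k₂ hk₂ heq
    have := e.injective heq
    exact pow_injOn_Iio_orderOf (hsub k₁ hk₁) (hsub k₂ hk₂) this

theorem arith {p q : ℕ} (hp : p.Prime) (hq : q.Prime) (hpq : p ≠ q)
    (h1 : 1 + (p - 1) * (q - 1) ≤ 2 * (p - 1)) (h2 : 1 + (p - 1) * (q - 1) ≤ 2 * (q - 1)) :
    False := by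
  obtain ⟨P, rfl⟩ : ∃ P, p = P + 2 := ⟨p - 2, by have := hp.two_le; omega⟩
  obtain ⟨Q, rfl⟩ : ∃ Q, q = Q + 2 := ⟨q - 2, by have := hq.two_le; omega⟩
  simp only [show P + 2 - 1 = P + 1 by omega, show Q + 2 - 1 = Q + 1 by omega] at h1 h2
  have hne : P ≠ Q := fun h => hpq (by rw [h])
  rcases Nat.eq_zero_or_pos P with rfl | hP
  · rcases Nat.eq_zero_or_pos Q with rfl | hQ
    · exact hne rfl
    · nlinarith
  · nlinarith


theorem core {G H : Type*} [Group G] [Finite G] [Group H] [Finite H] (e : G ≃ H)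
    (he : ∀ x y : G, Cmp x y ↔ Cmp (e x) (e y)) (he1 : e 1 = 1)
    {p q : ℕ} (hp : p.Prime) (hq : q.Prime) (hpq : p ≠ q) (x : G) (hx : orderOf x = p * q) :
    ∃ h : H, orderOf h = p * q := by
  obtain ⟨y, hxy, hup⟩ := exists_max_cyclic x
  have hpqN : p * q ∣ orderOf y := hx ▸ orderOf_dvd_of_mem_zpowers hxy
  have hN0 : 0 < orderOf y := orderOf_pos y
  have hpN : p ∣ orderOf y := (dvd_mul_right p q).trans hpqN
  have hqN : q ∣ orderOf y := (dvd_mul_left q p).trans hpqN
  have hN1 : orderOf y ≠ 1 := by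
    intro h; rw [h] at hpN; exact hp.ne_one (Nat.dvd_one.mp hpN)
  have hy1 : y ≠ 1 := by
    rintro rfl; exact hN1 orderOf_one
  have hNy : ∀ w, Cmp w y → w ∈ Subgroup.zpowers y := fun w h => h.elim id (hup w)
  have hy' : ∀ g, Cmp (e g) (e y) ↔ g ∈ Subgroup.zpowers y := fun g =>
    ⟨fun h => hNy g ((he g y).mpr h), fun h => (he g y).mp (Or.inl h)⟩
  have KP : ∀ t₁ t₂, t₁ ∈ Subgroup.zpowers y → t₂ ∈ Subgroup.zpowers y → ¬ Cmp t₁ t₂ →
      (e t₁ ∈ Subgroup.zpowers (e y) ↔ e t₂ ∈ Subgroup.zpowers (e y)) := by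
    have key : ∀ t₁ t₂, t₁ ∈ Subgroup.zpowers y → t₂ ∈ Subgroup.zpowers y → ¬ Cmp t₁ t₂ →
        e t₁ ∈ Subgroup.zpowers (e y) → e t₂ ∈ Subgroup.zpowers (e y) := by
      intro t₁ t₂ _ h2 hnc hc1
      by_contra hc2
      rcases (hy' t₂).mpr h2 with h | h
      · exact hc2 h
      · apply hnc
        rw [he]
        exact Or.inl ((Subgroup.zpowers_le.mpr h) hc1)
    intro t₁ t₂ h1 h2 hnc
    exact ⟨key t₁ t₂ h1 h2 hnc, key t₂ t₁ h2 h1 (fun h => hnc (cmp_comm.mp h))⟩
  have CL := color_lemma hp hq hpq hpqN (fun t => e t ∈ Subgroup.zpowers (e y)) KP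
  -- Step 4
  have : Nonempty {g : G // g ∈ Subgroup.zpowers y ∧ (g = 1 ∨ orderOf g = orderOf y)} :=
    ⟨⟨y, Subgroup.mem_zpowers y, Or.inr rfl⟩⟩
  obtain ⟨⟨z, hzy, hzS⟩, hzmax⟩ := Finite.exists_max
    (fun g : {g : G // g ∈ Subgroup.zpowers y ∧ (g = 1 ∨ orderOf g = orderOf y)} =>
      orderOf (e g.1))
  have hz1 : z ≠ 1 := by
    rintro rfl
    have h1 := hzmax ⟨y, Subgroup.mem_zpowers y, Or.inr rfl⟩
    simp only [he1, orderOf_one] at h1
    have h2 : e y = 1 := orderOf_eq_one_iff.mp (le_antisymm h1 (orderOf_pos _))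
    exact hy1 (e.injective (h2.trans he1.symm))
  have hzN : orderOf z = orderOf y := hzS.resolve_left hz1
  have hzz : Subgroup.zpowers z = Subgroup.zpowers y := zpowers_eq_of_mem_of_orderOf_eq hzy hzN
  have hz' : ∀ g, Cmp (e g) (e z) ↔ g ∈ Subgroup.zpowers y := by
    intro g
    rw [← he, cmp_congr_right hzz]
    exact ⟨hNy g, fun h => Or.inl h⟩
  have hScl : ∀ g₁ g₂, g₁ ∈ Subgroup.zpowers y → g₂ ∈ Subgroup.zpowers y →
      (g₂ = 1 ∨ orderOf g₂ = orderOf y) → Cmp g₁ g₂ := by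
    intro g₁ g₂ h1 h2 h2'
    rcases h2' with rfl | h2'
    · exact cmp_one_right _
    · left; rw [zpowers_eq_of_mem_of_orderOf_eq h2 h2']; exact h1
  have claim1 : ∀ g, g ∈ Subgroup.zpowers y → (g = 1 ∨ orderOf g = orderOf y) →
      e g ∈ Subgroup.zpowers (e z) := by
    intro g hg hg'
    rcases (he g z).mp (hScl g z hg hzy hzS) with h | h
    · exact h
    · exact mem_zpowers_of_le h (hzmax ⟨g, hg, hg'⟩)
  have hy'z' : e y ∈ Subgroup.zpowers (e z) := claim1 y (Subgroup.mem_zpowers y) (Or.inr rfl)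
  have hsub : ∀ g, e g ∈ Subgroup.zpowers (e z) → g ∈ Subgroup.zpowers y :=
    fun g h => (hz' g).mp (Or.inl h)
  by_cases hcase : e (y ^ (orderOf y / p)) ∈ Subgroup.zpowers (e y)
  · -- case β'
    have hall : ∀ g, g ∈ Subgroup.zpowers y → e g ∈ Subgroup.zpowers (e z) := by
      intro g hg
      by_cases hS : orderOf g = 1 ∨ orderOf g = orderOf y
      · exact claim1 g hg (hS.imp orderOf_eq_one_iff.mp id)
      · rw [not_or] at hS
        have := ((CL g hg hS.1 hS.2).1).mpr hcase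
        exact (Subgroup.zpowers_le.mpr hy'z') this
    have hcard : Nat.card (Subgroup.zpowers y) = Nat.card (Subgroup.zpowers (e z)) :=
      Nat.card_congr (e.subtypeEquiv (fun g => ⟨hall g, hsub g⟩))
    rw [Nat.card_zpowers, Nat.card_zpowers] at hcard
    refine ⟨(e z) ^ (orderOf (e z) / (p * q)), orderOf_pow_div ?_⟩
    rw [← hcard]; exact hpqN
  · -- case α'
    exfalso
    have hT : ∀ t, t ∈ Subgroup.zpowers y → orderOf t ≠ 1 → orderOf t ≠ orderOf y →
        e y ∈ Subgroup.zpowers (e t) := by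
      intro t ht h1 h2
      have hnc : ¬ e t ∈ Subgroup.zpowers (e y) := fun h => hcase ((CL t ht h1 h2).1.mp h)
      rcases (hy' t).mpr ht with h | h
      · exact absurd h hnc
      · exact h
    have hm_ne : orderOf (e y) ≠ 1 := by
      intro h
      have h2 : e y = 1 := orderOf_eq_one_iff.mp h
      exact hy1 (e.injective (h2.trans he1.symm))
    have claim2 : ∀ u, u ∈ Subgroup.zpowers y → orderOf u ≠ 1 → orderOf u ≠ orderOf y →
        e u ∉ Subgroup.zpowers (e z) := by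
      intro u hu hu1 huN huz
      obtain ⟨t₂, ht₂, ht₂1, ht₂N, hnc⟩ := (CL u hu hu1 huN).2
      have ht₂z : e t₂ ∈ Subgroup.zpowers (e z) := by
        rcases (hz' t₂).mpr ht₂ with h | h
        · exact h
        · exfalso; apply hnc; rw [he]; exact Or.inl ((Subgroup.zpowers_le.mpr h) huz)
      have hnc' : ¬ Cmp (e u) (e t₂) := fun h => hnc ((he u t₂).mpr h)
      have hd1 : ¬ orderOf (e u) ∣ orderOf (e t₂) :=
        fun h => hnc' (Or.inl (mem_zpowers_of_orderOf_dvd huz ht₂z h))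
      have hd2 : ¬ orderOf (e t₂) ∣ orderOf (e u) :=
        fun h => hnc' (Or.inr (mem_zpowers_of_orderOf_dvd ht₂z huz h))
      rw [Nat.dvd_iff_prime_pow_dvd_dvd] at hd1 hd2
      push Not at hd1 hd2
      obtain ⟨s₁, k₁, hs₁, hs₁d, hs₁n⟩ := hd1
      obtain ⟨s₂, k₂, hs₂, hs₂d, hs₂n⟩ := hd2
      have hm1 : orderOf (e y) ∣ orderOf (e u) := orderOf_dvd_of_mem_zpowers (hT u hu hu1 huN)
      have hm2 : orderOf (e y) ∣ orderOf (e t₂) :=
        orderOf_dvd_of_mem_zpowers (hT t₂ ht₂ ht₂1 ht₂N)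
      have gen : ∀ (s k : ℕ) (h : H), h ∈ Subgroup.zpowers (e z) → s ^ k ∣ orderOf h →
          ¬ s ^ k ∣ orderOf (e y) → orderOf (e y) ∣ s ^ k := by
        intro s k h hh hsk hnm
        have hR : s ^ k ∣ orderOf (e z) := hsk.trans (orderOf_dvd_of_mem_zpowers hh)
        have hw : orderOf ((e z) ^ (orderOf (e z) / s ^ k)) = s ^ k := orderOf_pow_div hR
        have hwz : (e z) ^ (orderOf (e z) / s ^ k) ∈ Subgroup.zpowers (e z) :=
          pow_mem (Subgroup.mem_zpowers (e z)) _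
        obtain ⟨g, hg⟩ := e.surjective ((e z) ^ (orderOf (e z) / s ^ k))
        have hgy : g ∈ Subgroup.zpowers y := hsub g (hg ▸ hwz)
        rcases (hy' g).mpr hgy with h' | h'
        · rw [hg] at h'; exact absurd (hw ▸ orderOf_dvd_of_mem_zpowers h') hnm
        · rw [hg] at h'; exact hw ▸ orderOf_dvd_of_mem_zpowers h'
      have g1 : orderOf (e y) ∣ s₁ ^ k₁ :=
        gen s₁ k₁ (e u) huz hs₁d (fun h => hs₁n (h.trans hm2))
      have g2 : orderOf (e y) ∣ s₂ ^ k₂ :=
        gen s₂ k₂ (e t₂) ht₂z hs₂d (fun h => hs₂n (h.trans hm1))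
      by_cases hss : s₁ = s₂
      · subst hss
        rcases le_total k₁ k₂ with hk | hk
        · exact hs₁n ((pow_dvd_pow s₁ hk).trans hs₂d)
        · exact hs₂n ((pow_dvd_pow s₁ hk).trans hs₁d)
      · have hcop : Nat.Coprime (s₁ ^ k₁) (s₂ ^ k₂) :=
          Nat.Coprime.pow _ _ ((Nat.coprime_primes hs₁ hs₂).mpr hss)
        exact hm_ne (Nat.eq_one_of_dvd_coprimes hcop g1 g2)
    have hzS' : ∀ h, h ∈ Subgroup.zpowers (e z) →
        ∃ g, g ∈ Subgroup.zpowers y ∧ (g = 1 ∨ orderOf g = orderOf y) ∧ e g = h := by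
      intro h hh
      obtain ⟨g, rfl⟩ := e.surjective h
      have hg := hsub g hh
      refine ⟨g, hg, ?_, rfl⟩
      by_contra hS
      rw [not_or] at hS
      exact claim2 g hg (fun h1 => hS.1 (orderOf_eq_one_iff.mp h1)) hS.2 hh
    have hclique : ∀ h₁ h₂, h₁ ∈ Subgroup.zpowers (e z) → h₂ ∈ Subgroup.zpowers (e z) →
        Cmp h₁ h₂ := by
      intro h₁ h₂ hh₁ hh₂
      obtain ⟨g₁, hg₁, _, rfl⟩ := hzS' h₁ hh₁
      obtain ⟨g₂, hg₂, hg₂', rfl⟩ := hzS' h₂ hh₂
      exact (he g₁ g₂).mp (hScl g₁ g₂ hg₁ hg₂ hg₂')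
    have hR2 := le_two_totient_of_clique (e z) hclique
    have hRlow := lower_bound e y (e z) hN1 claim1
    have upper : ∀ (p' q' : ℕ), p'.Prime → q'.Prime → p' ≠ q' → p' * q' ∣ orderOf y →
        Nat.totient (orderOf (e z)) ≤ p' - 1 := by
      intro p' q' hp' hq' hne hdvd
      have hp'N : p' ∣ orderOf y := (dvd_mul_right p' q').trans hdvd
      have ha₁ : orderOf (y ^ (orderOf y / p')) = p' := orderOf_pow_div hp'N
      have ha₁y : y ^ (orderOf y / p') ∈ Subgroup.zpowers y :=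
        pow_mem (Subgroup.mem_zpowers y) _
      have ha₁1 : orderOf (y ^ (orderOf y / p')) ≠ 1 := by
        rw [ha₁]; exact hp'.ne_one
      have ha₁N : orderOf (y ^ (orderOf y / p')) ≠ orderOf y := by
        rw [ha₁]; exact prime_ne_of_mul_dvd hp' hq' hN0 hdvd
      have hnz := claim2 _ ha₁y ha₁1 ha₁N
      have hza : e z ∈ Subgroup.zpowers (e (y ^ (orderOf y / p'))) := by
        rcases (hz' _).mpr ha₁y with h | h
        · exact absurd h hnz
        · exact h
      have hdv : orderOf (e z) ∣ orderOf (e (y ^ (orderOf y / p'))) :=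
        orderOf_dvd_of_mem_zpowers hza
      have h1 : Nat.totient (orderOf (e z)) ≤ Nat.totient (orderOf (e (y ^ (orderOf y / p')))) :=
        Nat.le_of_dvd (Nat.totient_pos.mpr (orderOf_pos _)) (Nat.totient_dvd_of_dvd hdv)
      refine h1.trans (totient_le_of_twins e _ _ ha₁ ?_)
      intro h hh
      apply twin_lemma hp' hq' hne hdvd
      intro w
      rw [he w (e.symm h), he w (y ^ (orderOf y / p')), Equiv.apply_symm_apply]
      exact cmp_congr_right hh
    have hu1 := upper p q hp hq hpq hpqN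
    have hu2 := upper q p hq hp hpq.symm (mul_comm p q ▸ hpqN)
    have hphi : (p - 1) * (q - 1) ≤ Nat.totient (orderOf y) := by
      have := Nat.le_of_dvd (Nat.totient_pos.mpr hN0) (Nat.totient_dvd_of_dvd hpqN)
      rwa [Nat.totient_mul ((Nat.coprime_primes hp hq).mpr hpq), Nat.totient_prime hp,
        Nat.totient_prime hq] at this
    exact arith hp hq hpq (by omega) (by omega)

/-- one direction, for an arbitrary power-graph isomorphism -/
theorem core' {G H : Type*} [Group G] [Finite G] [Group H] [Finite H] (e : G ≃ H)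
    (he : ∀ x y : G, Cmp x y ↔ Cmp (e x) (e y))
    {p q : ℕ} (hp : p.Prime) (hq : q.Prime) (hpq : p ≠ q) (x : G) (hx : orderOf x = p * q) :
    ∃ h : H, orderOf h = p * q := by
  classical
  by_cases he1 : e 1 = 1
  · exact core e he he1 hp hq hpq x hx
  · have hv : ∀ h : H, Cmp h (e 1) := by
      intro h
      obtain ⟨g, rfl⟩ := e.surjective h
      exact (he g 1).mp (cmp_one_right g)
    refine core (e.trans (Equiv.swap (e 1) 1)) ?_ ?_ hp hq hpq x hx
    · intro x y
      rw [Equiv.trans_apply, Equiv.trans_apply, cmp_swap (e 1) hv]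
      exact he x y
    · rw [Equiv.trans_apply, Equiv.swap_apply_left]


/-- Let G and H be finite groups whose power graphs are isomorphic: there is a bijection e : G → H such that, for all x, y, one of x, y is a power of the other exactly when one of e(x), e(y) is a power of the other. Then G and H have the same prime graph: for distinct primes p, q, G has an element of order pq if and only if H does. -/
theorem result {G H : Type*} [Group G] [Finite G] [Group H] [Finite H] (e : G ≃ H)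
    (he : ∀ x y : G, (x ∈ Subgroup.zpowers y ∨ y ∈ Subgroup.zpowers x) ↔
      (e x ∈ Subgroup.zpowers (e y) ∨ e y ∈ Subgroup.zpowers (e x)))
    {p q : ℕ} (hp : p.Prime) (hq : q.Prime) (hpq : p ≠ q) :
    (∃ g : G, orderOf g = p * q) ↔ (∃ h : H, orderOf h = p * q) := by
  constructor
  · rintro ⟨x, hx⟩
    exact core' e he hp hq hpq x hx
  · rintro ⟨x, hx⟩
    refine core' e.symm ?_ hp hq hpq x hx
    intro a b
    have := he (e.symm a) (e.symm b)
    rw [Equiv.apply_symm_apply, Equiv.apply_symm_apply] at this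
    exact this.symm

end Cfsg.Agent.S4085
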