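-- Statement S4086: all elements of prime power order iff cyclic pairs are comparable.
import Mathlib
import Cfsg.Statements.S4086

set_option autoImplicit false
open Cfsg

namespace Cfsg.Agent.S4086

/-- In a finite cyclic group, `orderOf x ∣ orderOf y` forces `x ∈ zpowers y`. -/
theorem mem_zpowers_of_orderOf_dvd {K : Type*} [Group K] [Finite K] [IsCyclic K] (x y : K)
    (h : orderOf x ∣ orderOf y) : x ∈ Subgroup.zpowers y := by
  classical
  letI := Fintype.ofFinite K
  have hn : 0 < orderOf y := orderOf_pos y
  have hcard := IsCyclic.card_pow_eq_one_le (α := K) hn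
  -- the finset of solutions of `a ^ orderOf y = 1`
  set S : Finset K := {a | a ^ orderOf y = 1} with hS
  -- the finset of powers of y
  have hfin : (Subgroup.zpowers y : Set K).Finite := Set.toFinite _
  set T : Finset K := hfin.toFinset with hT
  have hTS : T ⊆ S := by
    intro a ha
    rw [hT, Set.Finite.mem_toFinset] at ha
    have ha' : a ∈ Subgroup.zpowers y := ha
    rw [hS, Finset.mem_filter]
    refine ⟨Finset.mem_univ _, ?_⟩
    have := orderOf_dvd_of_mem_zpowers ha'
    exact orderOf_dvd_iff_pow_eq_one.mp this
  have hTcard : T.card = orderOf y := by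
    rw [← Nat.card_zpowers y, hT]
    rw [← Set.ncard_eq_toFinset_card _ hfin]
    rfl
  have hST : T = S := Finset.eq_of_subset_of_card_le hTS (by rw [hTcard]; exact hcard)
  have hx : x ∈ S := by
    rw [hS, Finset.mem_filter]
    exact ⟨Finset.mem_univ _, orderOf_dvd_iff_pow_eq_one.mp h⟩
  rw [← hST, hT, Set.Finite.mem_toFinset] at hx
  exact hx

/-- For a finite group G the following are equivalent: every non-identity element has prime-power order; whenever two elements generate a cyclic subgroup, one of them is a power of the other (the enhanced power graph of G coincides with its power graph). -/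
theorem result {G : Type*} [Group G] [Finite G] :
    (∀ g : G, g ≠ 1 → IsPrimePow (orderOf g)) ↔
    (∀ x y : G, IsCyclic ↥(Subgroup.closure ({x, y} : Set G)) → (x ∈ Subgroup.zpowers y ∨ y ∈ Subgroup.zpowers x)) := by
  constructor
  · intro h x y hcyc
    set K : Subgroup G := Subgroup.closure ({x, y} : Set G) with hK
    have hxK : x ∈ K := Subgroup.subset_closure (by simp)
    have hyK : y ∈ K := Subgroup.subset_closure (by simp)
    obtain ⟨z, hz⟩ := hcyc.exists_generator
    have hzcard : orderOf z = Nat.card K := orderOf_eq_card_of_forall_mem_zpowers hz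
    -- key: orders of x', y' are comparable under divisibility
    have key : orderOf (⟨x, hxK⟩ : K) ∣ orderOf (⟨y, hyK⟩ : K) ∨
        orderOf (⟨y, hyK⟩ : K) ∣ orderOf (⟨x, hxK⟩ : K) := by
      by_cases hz1 : z = 1
      · -- K trivial
        have hx1 : (⟨x, hxK⟩ : K) = 1 := by
          have := hz ⟨x, hxK⟩
          rw [hz1, Subgroup.zpowers_one_eq_bot, Subgroup.mem_bot] at this
          exact this
        left
        rw [hx1, orderOf_one]
        exact one_dvd _
      · have hz' : (z : G) ≠ 1 := fun hh => hz1 (Subtype.ext hh)
        have hpp := h (z : G) hz'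
        rw [Subgroup.orderOf_coe] at hpp
        obtain ⟨p, k, hp, _, hpk⟩ := (isPrimePow_nat_iff _).mp hpp
        have hx_dvd : orderOf (⟨x, hxK⟩ : K) ∣ p ^ k := by
          rw [hpk, hzcard]; exact orderOf_dvd_natCard _
        have hy_dvd : orderOf (⟨y, hyK⟩ : K) ∣ p ^ k := by
          rw [hpk, hzcard]; exact orderOf_dvd_natCard _
        obtain ⟨i, _, hi⟩ := (Nat.dvd_prime_pow hp).mp hx_dvd
        obtain ⟨j, _, hj⟩ := (Nat.dvd_prime_pow hp).mp hy_dvd
        rw [hi, hj]
        rcases le_total i j with hij | hij
        · left; exact Nat.pow_dvd_pow p hij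
        · right; exact Nat.pow_dvd_pow p hij
    rcases key with hk | hk
    · left
      have := mem_zpowers_of_orderOf_dvd (⟨x, hxK⟩ : K) ⟨y, hyK⟩ hk
      obtain ⟨n, hn⟩ := Subgroup.mem_zpowers_iff.mp this
      refine Subgroup.mem_zpowers_iff.mpr ⟨n, ?_⟩
      have := congrArg (Subtype.val) hn
      simpa using this
    · right
      have := mem_zpowers_of_orderOf_dvd (⟨y, hyK⟩ : K) ⟨x, hxK⟩ hk
      obtain ⟨n, hn⟩ := Subgroup.mem_zpowers_iff.mp this
      refine Subgroup.mem_zpowers_iff.mpr ⟨n, ?_⟩
      have := congrArg (Subtype.val) hn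
      simpa using this
  · intro h g hg
    by_contra hnpp
    have hpos : 0 < orderOf g := orderOf_pos g
    have hne1 : orderOf g ≠ 1 := fun h1 => hg (orderOf_eq_one_iff.mp h1)
    set n := orderOf g with hn
    set p := n.minFac with hp
    have hpprime : p.Prime := Nat.minFac_prime hne1
    set a := p ^ n.factorization p with ha
    set b := n / p ^ n.factorization p with hb
    have hab : a * b = n := Nat.ordProj_mul_ordCompl_eq_self n p
    have hcop : a.Coprime b := by
      rw [ha]
      exact Nat.Coprime.pow_left _ (Nat.coprime_ordCompl hpprime hpos.ne')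
    have hfac_pos : 0 < n.factorization p :=
      hpprime.factorization_pos_of_dvd hpos.ne' (Nat.minFac_dvd n)
    have ha1 : a ≠ 1 := by
      rw [ha]
      intro h1
      have := (Nat.pow_eq_one.mp h1)
      rcases this with h2 | h2
      · exact hpprime.one_lt.ne' h2
      · omega
    have hb1 : b ≠ 1 := by
      intro h1
      apply hnpp
      rw [(isPrimePow_nat_iff _)]
      have han : a = n := by rw [← hab, h1, mul_one]
      exact ⟨p, n.factorization p, hpprime, hfac_pos, han⟩
    -- x = g ^ a has order b, y = g ^ b has order a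
    have hox : orderOf (g ^ a) = b := by
      rw [orderOf_pow, ← hn, ← hab, Nat.gcd_eq_right (Dvd.intro _ rfl)]
      exact Nat.mul_div_cancel_left _ (Nat.pos_of_ne_zero (by rw [ha]; exact (pow_pos hpprime.pos _).ne'))
    have hoy : orderOf (g ^ b) = a := by
      rw [orderOf_pow, ← hn, ← hab, Nat.gcd_eq_right (Dvd.intro_left _ rfl)]
      have hbpos : 0 < b := by
        rcases Nat.eq_zero_or_pos b with h0 | h0
        · rw [h0, mul_zero] at hab; omega
        · exact h0
      exact Nat.mul_div_cancel _ hbpos
    have hcyc : IsCyclic ↥(Subgroup.closure ({g ^ a, g ^ b} : Set G)) := by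
      have hle : Subgroup.closure ({g ^ a, g ^ b} : Set G) ≤ Subgroup.zpowers g := by
        rw [Subgroup.closure_le]
        intro t ht
        rcases ht with rfl | rfl
        · exact Subgroup.npow_mem_zpowers g a
        · exact Subgroup.npow_mem_zpowers g b
      exact isCyclic_of_injective (Subgroup.inclusion hle) (Subgroup.inclusion_injective hle)
    rcases h (g ^ a) (g ^ b) hcyc with hm | hm
    · have := orderOf_dvd_of_mem_zpowers hm
      rw [hox, hoy] at this
      exact hb1 (Nat.Coprime.eq_one_of_dvd hcop.symm this)
    · have := orderOf_dvd_of_mem_zpowers hm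
      rw [hox, hoy] at this
      exact ha1 (Nat.Coprime.eq_one_of_dvd hcop this)

end Cfsg.Agent.S4086
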