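import Mathlib
import Cfsg.Statements.S4090
import Cfsg.Agent.S4088
import Cfsg.Agent.Helper68.Casolo4

set_option autoImplicit false
open Cfsg

namespace Cfsg.Agent.S4090

open Subgroup in
theorem card_sylow_eq_prod {G : Type*} [Group G] [Finite G] (p : ℕ) [Fact p.Prime] (P : Sylow p G)
    (n : ℕ) (M : Fin (n + 1) → Subgroup G) (h0 : M 0 = ⊥) (hn : M (Fin.last n) = ⊤)
    (hmono : Monotone M)
    (hfac : ∀ i : Fin n, (∃ m : ℕ, (M i.castSucc).relIndex (M i.succ) = p ^ m) ∨
      ((M i.castSucc).relIndex (M i.succ)).Coprime p) :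
    ∏ i : Fin n, (if ((M i.castSucc).relIndex (M i.succ)).Coprime p then 1
      else (M i.castSucc).relIndex (M i.succ)) = Nat.card (P : Subgroup G) := by
  have hp := (Fact.out : p.Prime)
  -- the product of all the indices is |G|
  have htel := Helper68.telescope_fin n (fun _ => 1) (fun i => Nat.card (M i))
    (fun i => (M i.castSucc).relIndex (M i.succ))
    (fun i => by
      simp only [one_mul]
      exact (Helper68.card_mul_relIndex_of_le (hmono (Fin.castSucc_le_succ i))).symm)
    (fun i => Nat.card_pos)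
  simp only [one_mul, h0, hn, Subgroup.card_bot, Subgroup.card_top] at htel
  have hsplit : ∏ i : Fin n, (M i.castSucc).relIndex (M i.succ) =
      (∏ i : Fin n, (if ((M i.castSucc).relIndex (M i.succ)).Coprime p then 1
        else (M i.castSucc).relIndex (M i.succ))) *
      (∏ i : Fin n, (if ((M i.castSucc).relIndex (M i.succ)).Coprime p then
        (M i.castSucc).relIndex (M i.succ) else 1)) := by
    rw [← Finset.prod_mul_distrib]
    apply Finset.prod_congr rfl
    intro i _
    split_ifs <;> simp
  obtain ⟨k, hk⟩ : ∃ k : ℕ, (∏ i : Fin n, (if ((M i.castSucc).relIndex (M i.succ)).Coprime p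
      then 1 else (M i.castSucc).relIndex (M i.succ))) = p ^ k := by
    apply Finset.prod_induction _ (fun a => ∃ k : ℕ, a = p ^ k)
    · rintro a b ⟨k1, rfl⟩ ⟨k2, rfl⟩
      exact ⟨k1 + k2, (pow_add p k1 k2).symm⟩
    · exact ⟨0, (pow_zero p).symm⟩
    · intro i _
      by_cases hc : ((M i.castSucc).relIndex (M i.succ)).Coprime p
      · rw [if_pos hc]; exact ⟨0, (pow_zero p).symm⟩
      · rw [if_neg hc]; exact (hfac i).resolve_right hc
  have hcop : (∏ i : Fin n, (if ((M i.castSucc).relIndex (M i.succ)).Coprime p then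
        (M i.castSucc).relIndex (M i.succ) else 1)).Coprime p := by
    apply Nat.Coprime.prod_left
    intro i _
    split_ifs with hc
    · exact hc
    · exact Nat.coprime_one_left p
  rw [hk]
  rw [hsplit, hk] at htel
  set c := ∏ i : Fin n, (if ((M i.castSucc).relIndex (M i.succ)).Coprime p then
        (M i.castSucc).relIndex (M i.succ) else 1) with hc_def
  have hc0 : c ≠ 0 := by
    intro h0'
    rw [h0', mul_zero] at htel
    exact (Nat.card_pos (α := G)).ne' htel
  have hnd : ¬ p ∣ c := fun h => by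
    have := Nat.Coprime.eq_one_of_dvd hcop.symm h
    exact hp.one_lt.ne' this
  rw [Sylow.card_eq_multiplicity, htel, Nat.factorization_mul (pow_ne_zero _ hp.ne_zero) hc0]
  simp [hp.factorization_pow, Nat.factorization_eq_zero_of_not_dvd hnd]

/-- Let G be a finite p-solvable group, H a p-subgroup of G and P a Sylow p-subgroup, and fix a chain of normal subgroups 1 = M₀ ≤ M₁ ≤ ⋯ ≤ Mₙ = G of G each of whose factors is a p-group or a p'-group. Then the number of elements g of G such that H is subnormal in the subgroup generated by H and g equals the order of P times the product, over the factors Mᵢ₊₁/Mᵢ of order prime to p, of the order of the centralizer of H in Mᵢ₊₁/Mᵢ (counted as the number of u ∈ Mᵢ₊₁ with [h, u] ∈ Mᵢ for all h ∈ H, divided by the order of Mᵢ). -/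
theorem result {G : Type*} [Group G] [Finite G] (p : ℕ) [Fact p.Prime]
    (hG : Cfsg.IsPSolvable p G) (H : Subgroup G) (hH : IsPGroup p H) (P : Sylow p G)
    (n : ℕ) (M : Fin (n + 1) → Subgroup G) (h0 : M 0 = ⊥) (hn : M (Fin.last n) = ⊤) (hmono : Monotone M)
    (hnormal : ∀ i, (M i).Normal)
    (hfac : ∀ i : Fin n, (∃ m : ℕ, (M i.castSucc).relIndex (M i.succ) = p ^ m) ∨ ((M i.castSucc).relIndex (M i.succ)).Coprime p) :
    Nat.card {g : G // ((H).subgroupOf (H ⊔ Subgroup.zpowers g)).IsSubnormal} =
      Nat.card (P : Subgroup G) *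
        ∏ i : Fin n, (if ((M i.castSucc).relIndex (M i.succ)).Coprime p then
          Nat.card {u : G // u ∈ M i.succ ∧ ∀ h ∈ H, h * u * h⁻¹ * u⁻¹ ∈ M i.castSucc} / Nat.card (M i.castSucc)
          else 1) := by
  have hp := (Fact.out : p.Prime)
  have hpG : p ∣ Nat.card G ∨ ¬ p ∣ Nat.card G := em _
  -- |S_G(H)| = #{g | g H g⁻¹ ≤ P}
  have hS : Nat.card {g : G // ((H).subgroupOf (H ⊔ Subgroup.zpowers g)).IsSubnormal} =
      Nat.card {g : G // H.map (MulAut.conj g).toMonoidHom ≤ (P : Subgroup G)} := by
    rw [Helper68.card_conj_le_eq_left]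
    have h1 : (Nat.card {g : G // ((H).subgroupOf (H ⊔ Subgroup.zpowers g)).IsSubnormal} : ℤ) =
        (Nat.card {Q : Sylow p G // H ≤ (Q : Subgroup G)} : ℤ) *
          (Nat.card (Subgroup.normalizer ((P : Subgroup G) : Set G)) : ℤ) := by
      rw [Helper68.card_subnormalizer_eq_sum p H hH, Finset.sum_sigma']
      exact (Helper68.sum_flags_eq p H).trans (Helper68.sum_good_empty p H P)
    exact_mod_cast h1
  rw [hS]
  have htel := Helper68.telescope_fin n
    (fun i => Nat.card {g : G // H.map (MulAut.conj g).toMonoidHom ≤ (P : Subgroup G) ⊔ M i})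
    (fun i => Nat.card (M i))
    (fun i => if ((M i.castSucc).relIndex (M i.succ)).Coprime p then
        Nat.card {u : G // u ∈ M i.succ ∧ ∀ h ∈ H, h * u * h⁻¹ * u⁻¹ ∈ M i.castSucc} /
          Nat.card (M i.castSucc)
      else (M i.castSucc).relIndex (M i.succ))
    (fun i => by
      haveI := hnormal i.castSucc
      haveI := hnormal i.succ
      exact Helper68.card_step p P (hmono (Fin.castSucc_le_succ i)) (hfac i) H hH)
    (fun i => Nat.card_pos)
  simp only [h0, hn, Subgroup.card_bot, Subgroup.card_top, sup_bot_eq, mul_one] at htel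
  have htop : Nat.card {g : G // H.map (MulAut.conj g).toMonoidHom ≤ (P : Subgroup G) ⊔ ⊤} =
      Nat.card G := by
    rw [sup_top_eq]
    exact Nat.card_congr (Equiv.subtypeUnivEquiv (fun g => le_top))
  rw [htop] at htel
  have h2 := Nat.eq_of_mul_eq_mul_left (Nat.card_pos (α := G)) ((mul_comm _ _).trans htel)
  rw [h2, ← card_sylow_eq_prod p P n M h0 hn hmono hfac, ← Finset.prod_mul_distrib]
  apply Finset.prod_congr rfl
  intro i _
  split_ifs <;> simp

end Cfsg.Agent.S4090
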