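import Mathlib
import Cfsg.Statements.S4091
import Cfsg.Agent.Helper68.SylowCount

set_option autoImplicit false
set_option linter.style.haveILetI false
open Cfsg

namespace Cfsg.Agent.S4091

/-- AM–GM with natural powers -/
theorem amgm_pow {ι : Type*} (s : Finset ι) (z : ι → ℝ) (hz : ∀ i ∈ s, 0 ≤ z i) :
    (∏ i ∈ s, z i) * (s.card : ℝ) ^ s.card ≤ (∑ i ∈ s, z i) ^ s.card := by
  rcases s.eq_empty_or_nonempty with rfl | hne
  · simp
  · have hm : 0 < s.card := Finset.card_pos.mpr hne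
    have hm' : (0 : ℝ) < s.card := by exact_mod_cast hm
    have h := Real.geom_mean_le_arith_mean_weighted s (fun _ => (1 : ℝ) / s.card) z
      (fun _ _ => by positivity)
      (by rw [Finset.sum_const, nsmul_eq_mul]; field_simp) hz
    have h2 : (∏ i ∈ s, z i ^ ((1 : ℝ) / s.card)) ^ s.card = ∏ i ∈ s, z i := by
      rw [← Finset.prod_pow]
      apply Finset.prod_congr rfl
      intro i hi
      rw [← Real.rpow_natCast, ← Real.rpow_mul (hz i hi)]
      rw [one_div, inv_mul_cancel₀ hm'.ne', Real.rpow_one]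
    have h3 : ∑ i ∈ s, (1 : ℝ) / s.card * z i = (∑ i ∈ s, z i) / s.card := by
      rw [← Finset.mul_sum]; ring
    have h4 := pow_le_pow_left₀
      (Finset.prod_nonneg (fun i hi => Real.rpow_nonneg (hz i hi) _)) h s.card
    rw [h2, h3, div_pow] at h4
    rwa [le_div_iff₀ (by positivity)] at h4

open Subgroup Helper68 in
/-- each Sylow subgroup contributes at least `m / n^(1/p)` -/
theorem sylow_sum_bound {G : Type*} [Group G] [Finite G] (p : ℕ) [hp : Fact p.Prime]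
    (Q : Sylow p G) [Fintype ↥(Q : Subgroup G)] (n : ℕ)
    (M : Fin (n + 1) → Subgroup G)
    (h0 : M 0 = ⊥) (hn : M (Fin.last n) = ⊤) (hmono : Monotone M) (hnormal : ∀ i, (M i).Normal)
    (hfac : ∀ i : Fin n, (∃ m : ℕ, (M i.castSucc).relIndex (M i.succ) = p ^ m) ∨
      ((M i.castSucc).relIndex (M i.succ)).Coprime p) :
    ((Fintype.card ↥(Q : Subgroup G) : ℝ)) ^ p ≤ (Nat.card (Sylow p G) : ℝ) *
      (∑ x : ↥(Q : Subgroup G), (1 : ℝ) / (lamN p (zpowers (x : G)) : ℝ)) ^ p := by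
  set m := Fintype.card ↥(Q : Subgroup G) with hm
  have hmpos : 0 < m := Fintype.card_pos
  set S : ℝ := ∑ x : ↥(Q : Subgroup G), (1 : ℝ) / (lamN p (zpowers (x : G)) : ℝ) with hS
  have hlam_pos : ∀ x : ↥(Q : Subgroup G), 0 < lamN p (zpowers (x : G)) := by
    intro x
    rw [lamN, Nat.card_pos_iff]
    exact ⟨⟨⟨Q, Subgroup.zpowers_le.mpr x.2⟩⟩, inferInstance⟩
  have hlam_pos' : ∀ x : ↥(Q : Subgroup G), (0 : ℝ) < (lamN p (zpowers (x : G)) : ℝ) :=
    fun x => by exact_mod_cast hlam_pos x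
  set Λ : ℝ := ∏ x : ↥(Q : Subgroup G), (lamN p (zpowers (x : G)) : ℝ) with hΛ
  have hΛpos : 0 < Λ := Finset.prod_pos (fun x _ => hlam_pos' x)
  have hSnn : 0 ≤ S := Finset.sum_nonneg (fun x _ => by positivity)
  have hΛle : Λ ^ p ≤ (Nat.card (Sylow p G) : ℝ) ^ m := by
    have := prod_lam_pow_le p Q n M h0 hn hmono hnormal hfac
    rw [hΛ]
    exact_mod_cast this
  have hamgm := amgm_pow (Finset.univ : Finset ↥(Q : Subgroup G))
    (fun x => (1 : ℝ) / (lamN p (zpowers (x : G)) : ℝ)) (fun x _ => by positivity)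
  rw [Finset.card_univ, ← hm, ← hS] at hamgm
  have hprod : ∏ x : ↥(Q : Subgroup G), (1 : ℝ) / (lamN p (zpowers (x : G)) : ℝ) = 1 / Λ := by
    rw [hΛ, Finset.prod_div_distrib, Finset.prod_const_one]
  rw [hprod, div_mul_eq_mul_div, one_mul, div_le_iff₀ hΛpos] at hamgm
  -- hamgm : m^m ≤ S^m * Λ
  have hns : (0 : ℝ) ≤ (Nat.card (Sylow p G) : ℝ) := Nat.cast_nonneg _
  have h1 : (((m : ℝ)) ^ p) ^ m ≤ ((Nat.card (Sylow p G) : ℝ) * S ^ p) ^ m := by
    calc (((m : ℝ)) ^ p) ^ m = ((m : ℝ) ^ m) ^ p := by rw [← pow_mul, ← pow_mul, mul_comm]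
      _ ≤ (S ^ m * Λ) ^ p := pow_le_pow_left₀ (by positivity) hamgm p
      _ = (S ^ p) ^ m * Λ ^ p := by rw [mul_pow, ← pow_mul, ← pow_mul, mul_comm m p]
      _ ≤ (S ^ p) ^ m * (Nat.card (Sylow p G) : ℝ) ^ m :=
          mul_le_mul_of_nonneg_left hΛle (by positivity)
      _ = ((Nat.card (Sylow p G) : ℝ) * S ^ p) ^ m := by rw [mul_pow, mul_comm]
  exact le_of_pow_le_pow_left₀ hmpos.ne' (by positivity) h1

open Subgroup Helper68 in
/-- double counting: the number of `p`-elements is `∑_Q ∑_{x ∈ Q} 1/λ(x)` -/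
theorem card_pElements_eq_sum {G : Type*} [Group G] [Fintype G] (p : ℕ) [hp : Fact p.Prime]
    [Fintype (Sylow p G)] [∀ Q : Sylow p G, Fintype ↥(Q : Subgroup G)] :
    (Nat.card {g : G // ∃ k : ℕ, orderOf g = p ^ k} : ℝ) =
      ∑ Q : Sylow p G, ∑ x : ↥(Q : Subgroup G), (1 : ℝ) / (lamN p (zpowers (x : G)) : ℝ) := by
  classical
  have hlam : ∀ g : G, lamN p (zpowers g) =
      (Finset.univ.filter (fun Q : Sylow p G => g ∈ (Q : Subgroup G))).card := by
    intro g
    rw [lamN, Nat.card_eq_fintype_card, Fintype.card_subtype]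
    congr 1
    ext Q
    simp only [Finset.mem_filter, Finset.mem_univ, true_and, Subgroup.zpowers_le]
  have hiff : ∀ g : G, (∃ k : ℕ, orderOf g = p ^ k) ↔ lamN p (zpowers g) ≠ 0 := by
    intro g
    rw [hlam, Finset.card_ne_zero]
    constructor
    · rintro ⟨k, hk⟩
      have h1 : IsPGroup p (zpowers g) := IsPGroup.of_card (n := k) (by rw [Nat.card_zpowers, hk])
      obtain ⟨Q, hQ⟩ := h1.exists_le_sylow
      exact ⟨Q, by
        rw [Finset.mem_filter]
        exact ⟨Finset.mem_univ _, Subgroup.zpowers_le.mp hQ⟩⟩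
    · rintro ⟨Q, hQ⟩
      rw [Finset.mem_filter] at hQ
      obtain ⟨k, hk⟩ := (IsPGroup.iff_orderOf.mp Q.2) ⟨g, hQ.2⟩
      exact ⟨k, by rw [← hk, Subgroup.orderOf_mk]⟩
  have h1 : ∀ Q : Sylow p G,
      ∑ x : ↥(Q : Subgroup G), (1 : ℝ) / (lamN p (zpowers (x : G)) : ℝ) =
      ∑ g : G, if g ∈ (Q : Subgroup G) then (1 : ℝ) / (lamN p (zpowers g) : ℝ) else 0 := by
    intro Q
    rw [← Finset.sum_filter]
    exact (Finset.sum_subtype (Finset.univ.filter (fun g : G => g ∈ (Q : Subgroup G)))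
      (by intro g; simp) (fun g => (1 : ℝ) / (lamN p (zpowers g) : ℝ))).symm
  have h2 : ∑ Q : Sylow p G,
      ∑ x : ↥(Q : Subgroup G), (1 : ℝ) / (lamN p (zpowers (x : G)) : ℝ) =
      ∑ g : G, if lamN p (zpowers g) ≠ 0 then (1 : ℝ) else 0 := by
    rw [Finset.sum_congr rfl (fun Q _ => h1 Q), Finset.sum_comm]
    apply Finset.sum_congr rfl
    intro g _
    rw [← Finset.sum_filter, Finset.sum_const, nsmul_eq_mul, ← hlam g]
    by_cases h0 : lamN p (zpowers g) = 0
    · simp [h0]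
    · rw [if_pos h0]
      have : ((lamN p (zpowers g) : ℕ) : ℝ) ≠ 0 := by exact_mod_cast h0
      field_simp
  have h3 : (Nat.card {g : G // ∃ k : ℕ, orderOf g = p ^ k} : ℝ) =
      ∑ g : G, if lamN p (zpowers g) ≠ 0 then (1 : ℝ) else 0 := by
    rw [Nat.card_eq_fintype_card, Fintype.card_subtype, Finset.sum_boole]
    congr 2
    ext g
    simp only [Finset.mem_filter, Finset.mem_univ, true_and]
    exact hiff g
  rw [h3, ← h2]

/-- Let G be a finite p-solvable group, P a Sylow p-subgroup of G, u the number of p-elements of G (elements of p-power order, the identity included) and n the number of Sylow p-subgroups of G. Then u/#P ≥ n^((p−1)/p), stated as u^p ≥ #P^p · n^(p−1). -/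
theorem result {G : Type*} [Group G] [Finite G] (p : ℕ) [Fact p.Prime]
    (hG : Cfsg.IsPSolvable p G) (P : Sylow p G) :
    Nat.card (P : Subgroup G) ^ p * Nat.card (Sylow p G) ^ (p - 1) ≤ Nat.card {g : G // ∃ k : ℕ, orderOf g = p ^ k} ^ p := by
  classical
  obtain ⟨n, M, h0, hn, hmono, hnormal, hfac⟩ := hG
  have hp := (Fact.out : p.Prime)
  haveI : Fintype G := Fintype.ofFinite G
  haveI : Fintype (Sylow p G) := Fintype.ofFinite _
  haveI : ∀ Q : Sylow p G, Fintype ↥(Q : Subgroup G) := fun Q => Fintype.ofFinite _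
  set m := Nat.card (P : Subgroup G) with hm
  set ns := Nat.card (Sylow p G) with hns
  have hcardQ : ∀ Q : Sylow p G, Fintype.card ↥(Q : Subgroup G) = m := by
    intro Q
    rw [← Nat.card_eq_fintype_card, hm, Sylow.card_eq_multiplicity, Sylow.card_eq_multiplicity]
  set S : Sylow p G → ℝ := fun Q =>
    ∑ x : ↥(Q : Subgroup G), (1 : ℝ) / (Helper68.lamN p (Subgroup.zpowers (x : G)) : ℝ) with hS
  have hSnn : ∀ Q, 0 ≤ S Q := fun Q => Finset.sum_nonneg (fun x _ => by positivity)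
  have hA : ∀ Q : Sylow p G, (m : ℝ) ^ p ≤ (ns : ℝ) * (S Q) ^ p := by
    intro Q
    have := sylow_sum_bound p Q n M h0 hn hmono hnormal hfac
    rw [hcardQ Q] at this
    exact this
  have hB : (Nat.card {g : G // ∃ k : ℕ, orderOf g = p ^ k} : ℝ) = ∑ Q : Sylow p G, S Q :=
    card_pElements_eq_sum p
  obtain ⟨Q₀, -, hQ₀⟩ := Finset.exists_min_image (Finset.univ : Finset (Sylow p G)) S
    ⟨P, Finset.mem_univ P⟩
  have hC : (ns : ℝ) * S Q₀ ≤ (Nat.card {g : G // ∃ k : ℕ, orderOf g = p ^ k} : ℝ) := by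
    rw [hB]
    have : (ns : ℝ) * S Q₀ = ∑ _Q : Sylow p G, S Q₀ := by
      rw [Finset.sum_const, Finset.card_univ, nsmul_eq_mul, hns, Nat.card_eq_fintype_card]
    rw [this]
    exact Finset.sum_le_sum (fun Q _ => hQ₀ Q (Finset.mem_univ Q))
  have hns0 : (0 : ℝ) ≤ (ns : ℝ) := Nat.cast_nonneg _
  have hfinal : ((m : ℝ)) ^ p * (ns : ℝ) ^ (p - 1) ≤
      (Nat.card {g : G // ∃ k : ℕ, orderOf g = p ^ k} : ℝ) ^ p := by
    calc ((m : ℝ)) ^ p * (ns : ℝ) ^ (p - 1)
        ≤ ((ns : ℝ) * (S Q₀) ^ p) * (ns : ℝ) ^ (p - 1) :=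
          mul_le_mul_of_nonneg_right (hA Q₀) (by positivity)
      _ = ((ns : ℝ) * S Q₀) ^ p := by
          have : p = (p - 1) + 1 := by have := hp.one_lt; omega
          conv_rhs => rw [mul_pow, this, pow_succ]
          rw [← this]
          ring
      _ ≤ (Nat.card {g : G // ∃ k : ℕ, orderOf g = p ^ k} : ℝ) ^ p :=
          pow_le_pow_left₀ (mul_nonneg hns0 (hSnn Q₀)) hC p
  exact_mod_cast hfinal

end Cfsg.Agent.S4091
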