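import Mathlib
import Cfsg.Statements.S4092
import Cfsg.Agent.Helper17.MaxInter

set_option autoImplicit false
open Cfsg

namespace Cfsg.Agent.S4092

open Subgroup

/-- counting lemma: a finite family of subgroups `T i`, all of order `a`, pairwise meeting in `D`,
all inside a set `X`: `|D| + n (a - |D|) ≤ |X|`. -/
theorem card_union_ge {G : Type*} [Group G] [Finite G] {ι : Type*} [Finite ι]
    (T : ι → Subgroup G) (D : Subgroup G)
    (a : ℕ) (hcard : ∀ i, Nat.card (T i) = a) (hD : ∀ i, D ≤ T i)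
    (hinter : ∀ i j, i ≠ j → T i ⊓ T j = D) (X : Set G) (hDX : (D : Set G) ⊆ X)
    (hX : ∀ i, (T i : Set G) ⊆ X) :
    Nat.card D + Nat.card ι * (a - Nat.card D) ≤ Nat.card X := by
  classical
  haveI : Fintype ι := Fintype.ofFinite ι
  have hA : ∀ i, Nat.card {g : G // g ∈ T i ∧ g ∉ D} = a - Nat.card D := by
    intro i
    have h1 : Nat.card {g : G // g ∈ T i ∧ g ∉ D} = Set.ncard ((T i : Set G) \ (D : Set G)) := by
      rw [← Nat.card_coe_set_eq]; rfl
    have h2 : Set.ncard (T i : Set G) = Nat.card (T i) := by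
      rw [← Nat.card_coe_set_eq]; rfl
    have h3 : Set.ncard (D : Set G) = Nat.card D := by
      rw [← Nat.card_coe_set_eq]; rfl
    rw [h1, Set.ncard_sdiff (show (D : Set G) ⊆ T i from hD i), h2, h3, hcard i]
  let Φ : D ⊕ (Σ i, {g : G // g ∈ T i ∧ g ∉ D}) → X :=
    Sum.elim (fun d => ⟨d.1, hDX d.2⟩) (fun s => ⟨s.2.1, hX s.1 s.2.2.1⟩)
  have hΦ : Function.Injective Φ := by
    rintro (d | ⟨i, g⟩) (d' | ⟨j, g'⟩) h
    · have h' : d.1 = d'.1 := congrArg (fun x : X => (x : G)) h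
      exact congrArg Sum.inl (Subtype.ext h')
    · have h' : d.1 = g'.1 := congrArg (fun x : X => (x : G)) h
      exact absurd (h' ▸ d.2) g'.2.2
    · have h' : g.1 = d'.1 := congrArg (fun x : X => (x : G)) h
      exact absurd (h' ▸ d'.2) g.2.2
    · have h' : g.1 = g'.1 := congrArg (fun x : X => (x : G)) h
      by_cases hij : i = j
      · subst hij
        have : g = g' := Subtype.ext h'
        rw [this]
      · exfalso
        apply g.2.2
        have hmem : g.1 ∈ T i ⊓ T j := mem_inf.mpr ⟨g.2.1, h' ▸ g'.2.1⟩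
        rw [hinter i j hij] at hmem
        exact hmem
  have hle := Nat.card_le_card_of_injective Φ hΦ
  rw [Nat.card_sum, Nat.card_sigma] at hle
  simp only [hA, Finset.sum_const, Finset.card_univ, smul_eq_mul] at hle
  rw [Nat.card_eq_fintype_card (α := ι)]
  exact hle

theorem result {G : Type*} [Group G] [Finite G] (p : ℕ) [Fact p.Prime]
    (P : Sylow p G) (hP : ¬ (P : Subgroup G).Normal) :
    p * Nat.card (P : Subgroup G) ≤ Nat.card {g : G // ∃ k : ℕ, orderOf g = p ^ k} := by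
  classical
  have hp := (Fact.out : p.Prime)
  have hex : ∃ Q : Sylow p G, Q ≠ P := by
    by_contra h
    push Not at h
    haveI : Subsingleton (Sylow p G) := ⟨fun a b => (h a).trans (h b).symm⟩
    exact hP (Sylow.normal_of_subsingleton P)
  obtain ⟨Q, hQP⟩ := hex
  haveI : Nonempty {pq : Sylow p G × Sylow p G // pq.1 ≠ pq.2} := ⟨⟨(Q, P), hQP⟩⟩
  obtain ⟨⟨⟨P1, Q1⟩, hne⟩, hmax⟩ := Finite.exists_max
    (fun pq : {pq : Sylow p G × Sylow p G // pq.1 ≠ pq.2} =>
      Nat.card ↥((pq.1.1 : Subgroup G) ⊓ (pq.1.2 : Subgroup G)))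
  have hne' : P1 ≠ Q1 := hne
  obtain ⟨D, hD⟩ : ∃ D : Subgroup G, D = (P1 : Subgroup G) ⊓ (Q1 : Subgroup G) := ⟨_, rfl⟩
  have hmax' : ∀ P' Q' : Sylow p G, P' ≠ Q' →
      Nat.card ↥((P' : Subgroup G) ⊓ (Q' : Subgroup G)) ≤ Nat.card D := by
    intro P' Q' h
    have := hmax ⟨(P', Q'), h⟩
    rw [hD]
    exact this
  obtain ⟨h1, -, h3⟩ := Helper17.max_inter_main P1 Q1 hne' D hD hmax'
  choose f hf hfuniq using h3
  have hDp : IsPGroup p D := P1.2.to_le (hD ▸ inf_le_left)
  have hDf : ∀ S, D ≤ (f S : Subgroup G) := by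
    intro S d hd
    have hp' : IsPGroup p (D.subgroupOf (normalizer (D : Set G))) := hDp.comap_subtype
    have h1 : D.subgroupOf (normalizer (D : Set G)) ≤ S.toSubgroup := hp'.le_sylow_of_normal S
    exact hf S ⟨⟨d, le_normalizer hd⟩, h1 (mem_subgroupOf.mpr hd), rfl⟩
  have hfinj : Function.Injective f := by
    intro S T heq
    have hK : IsPGroup p (((f S : Subgroup G) ⊓ normalizer (D : Set G)).subgroupOf
        (normalizer (D : Set G))) := ((f S).2.to_le inf_le_left).comap_subtype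
    have hSK : S.toSubgroup ≤ ((f S : Subgroup G) ⊓ normalizer (D : Set G)).subgroupOf
        (normalizer (D : Set G)) := by
      intro y hy
      exact mem_subgroupOf.mpr (mem_inf.mpr ⟨hf S ((Helper17.mem_map_subtype_iff _ _).mpr hy), y.2⟩)
    have hTK : T.toSubgroup ≤ ((f S : Subgroup G) ⊓ normalizer (D : Set G)).subgroupOf
        (normalizer (D : Set G)) := by
      intro y hy
      exact mem_subgroupOf.mpr (mem_inf.mpr
        ⟨heq ▸ hf T ((Helper17.mem_map_subtype_iff _ _).mpr hy), y.2⟩)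
    have e1 := S.3 hK hSK
    have e2 := T.3 hK hTK
    exact Sylow.ext (e1.symm.trans e2)
  have hinter : ∀ S T, S ≠ T → (f S : Subgroup G) ⊓ (f T : Subgroup G) = D := by
    intro S T hST
    have hne2 : f S ≠ f T := fun h => hST (hfinj h)
    exact (Subgroup.eq_of_le_of_card_ge (le_inf (hDf S) (hDf T)) (hmax' _ _ hne2)).symm
  have hcardf : ∀ S, Nat.card (f S : Subgroup G) = Nat.card (P : Subgroup G) := by
    intro S
    rw [(f S).card_eq_multiplicity, P.card_eq_multiplicity]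
  have hXD : (D : Set G) ⊆ {g : G | ∃ k : ℕ, orderOf g = p ^ k} := by
    intro g hg
    obtain ⟨k, hk⟩ := hDp ⟨g, hg⟩
    have hk' : g ^ p ^ k = 1 := by simpa using congrArg Subtype.val hk
    obtain ⟨j, -, hj⟩ := (Nat.dvd_prime_pow hp).mp (orderOf_dvd_of_pow_eq_one hk')
    exact ⟨j, hj⟩
  have hXf : ∀ S, ((f S : Subgroup G) : Set G) ⊆ {g : G | ∃ k : ℕ, orderOf g = p ^ k} := by
    intro S g hg
    obtain ⟨k, hk⟩ := (f S).2 ⟨g, hg⟩
    have hk' : g ^ p ^ k = 1 := by simpa using congrArg Subtype.val hk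
    obtain ⟨j, -, hj⟩ := (Nat.dvd_prime_pow hp).mp (orderOf_dvd_of_pow_eq_one hk')
    exact ⟨j, hj⟩
  have hcount := card_union_ge (fun S => (f S : Subgroup G)) D (Nat.card (P : Subgroup G))
    hcardf hDf hinter _ hXD hXf
  -- number of Sylow subgroups of the normalizer is at least p + 1
  have hn : p + 1 ≤ Nat.card (Sylow p ↥(normalizer (D : Set G))) := by
    have hmod := card_sylow_modEq_one p (normalizer (D : Set G))
    have hdvd : p ∣ Nat.card (Sylow p ↥(normalizer (D : Set G))) - 1 :=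
      (Nat.modEq_iff_dvd' (by omega)).mp hmod.symm
    have := Nat.le_of_dvd (by omega) hdvd
    omega
  -- p * |D| ≤ |P|
  have hDP : p * Nat.card D ≤ Nat.card (P : Subgroup G) := by
    have hlt : D < (P1 : Subgroup G) := hD ▸ Helper17.sylow_inf_lt_left hne'
    have hc1 : Nat.card D < Nat.card (P1 : Subgroup G) := Helper17.card_lt_of_lt' hlt
    have hc2 : Nat.card (P1 : Subgroup G) = Nat.card (P : Subgroup G) := by
      rw [P1.card_eq_multiplicity, P.card_eq_multiplicity]
    obtain ⟨a, ha⟩ := P1.2.exists_card_eq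
    obtain ⟨d, hd⟩ := hDp.exists_card_eq
    rw [← hc2, ha, hd]
    rw [ha, hd] at hc1
    have hda : d < a := (Nat.pow_lt_pow_iff_right hp.one_lt).mp hc1
    calc p * p ^ d = p ^ (d + 1) := by rw [pow_succ, mul_comm]
      _ ≤ p ^ a := Nat.pow_le_pow_right hp.pos hda
  have hfinal : Nat.card ↥{g : G | ∃ k : ℕ, orderOf g = p ^ k} =
      Nat.card {g : G // ∃ k : ℕ, orderOf g = p ^ k} := rfl
  rw [hfinal] at hcount
  refine le_trans ?_ hcount
  have hDle : Nat.card D ≤ Nat.card (P : Subgroup G) := by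
    have : 1 * Nat.card D ≤ p * Nat.card D := Nat.mul_le_mul_right _ hp.pos
    omega
  obtain ⟨e, he⟩ : ∃ e, Nat.card (P : Subgroup G) = Nat.card D + e := ⟨_, (Nat.add_sub_cancel' hDle).symm⟩
  rw [he, Nat.add_sub_cancel_left]
  rw [he] at hDP
  have h5 : (p + 1) * e ≤ Nat.card (Sylow p ↥(normalizer (D : Set G))) * e :=
    Nat.mul_le_mul_right _ hn
  nlinarith
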