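-- Statement S4093: number of p-elements of a p-nilpotent group.
import Mathlib
import Cfsg.Statements.S4093

set_option autoImplicit false
open Cfsg
open scoped BigOperators

namespace Cfsg.Agent.S4093

/-- the conjugation action of a subgroup on the group -/
@[reducible] noncomputable def conjAction {G : Type*} [Group G] (N : Subgroup G) : MulAction N G :=
  MulAction.compHom G ((MulAut.conj : G →* MulAut G).comp N.subtype)

theorem conjAction_smul {G : Type*} [Group G] (N : Subgroup G) (m : N) (g : G) :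
    (letI := conjAction N; m • g) = (m : G) * g * (m : G)⁻¹ := rfl

/-- size of a conjugation orbit of a subgroup -/
theorem card_orbit {G : Type*} [Group G] [Finite G] (N : Subgroup G) (x : G) :
    (letI := conjAction N; Nat.card (MulAction.orbit N x)) =
      Nat.card N / Nat.card ↥(N ⊓ Subgroup.centralizer ({x} : Set G)) := by
  letI := conjAction N
  have h1 : (MulAction.stabilizer N x).index = (MulAction.orbit N x).ncard :=
    MulAction.index_stabilizer N x
  have h2 : (MulAction.stabilizer N x).index * Nat.card (MulAction.stabilizer N x) = Nat.card N :=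
    Subgroup.index_mul_card _
  have h3 : MulAction.stabilizer N x = (N ⊓ Subgroup.centralizer ({x} : Set G)).subgroupOf N := by
    ext m
    rw [MulAction.mem_stabilizer_iff, Subgroup.mem_subgroupOf, Subgroup.mem_inf,
      Subgroup.mem_centralizer_singleton_iff]
    show (m : G) * x * (m : G)⁻¹ = x ↔ _
    constructor
    · intro h
      refine ⟨m.2, ?_⟩
      have : (m : G) * x = ((m : G) * x * (m : G)⁻¹) * m := by group
      rw [this, h]
    · rintro ⟨_, h⟩
      rw [h]; group
  have h4 : Nat.card (MulAction.stabilizer N x) = Nat.card ↥(N ⊓ Subgroup.centralizer ({x} : Set G)) := by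
    rw [h3]
    exact Nat.card_congr (Subgroup.subgroupOfEquivOfLe (inf_le_left)).toEquiv
  rw [Nat.card_coe_set_eq, ← h1, ← h2, h4]
  have hpos : 0 < Nat.card ↥(N ⊓ Subgroup.centralizer ({x} : Set G)) := Nat.card_pos
  rw [Nat.mul_div_cancel _ hpos]

/-- Let G be a finite group with a normal subgroup N complementing a Sylow p-subgroup P (a normal p-complement). Then the number of elements of G of p-power order equals the sum over x ∈ P of the index of C_N(x) in N. -/
theorem result {G : Type*} [Group G] [Finite G] (p : ℕ) [Fact p.Prime]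
    (P : Sylow p G) (N : Subgroup G) [N.Normal] (hNP : N.IsComplement' (P : Subgroup G)) :
    Nat.card {g : G // ∃ k : ℕ, orderOf g = p ^ k} =
      ∑ᶠ x : (P : Subgroup G), Nat.card N / Nat.card ↥(N ⊓ Subgroup.centralizer ({(x : G)} : Set G)) := by
  classical
  letI := conjAction N
  have hNn : N.Normal := inferInstance
  have hdisj : ∀ z : G, z ∈ N → z ∈ (P : Subgroup G) → z = 1 := by
    intro z hz1 hz2
    have : z ∈ N ⊓ (P : Subgroup G) := Subgroup.mem_inf.mpr ⟨hz1, hz2⟩
    rw [(Subgroup.IsComplement'.disjoint hNP).eq_bot] at this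
    exact Subgroup.mem_bot.mp this
  have hfac : ∀ g : G, ∃ n ∈ N, ∃ y ∈ (P : Subgroup G), n * y = g := by
    intro g
    have : g ∈ N ⊔ (P : Subgroup G) := by rw [Subgroup.IsComplement'.sup_eq_top hNP]; exact Subgroup.mem_top g
    exact Subgroup.mem_sup_of_normal_left.mp this
  -- the bijection
  let F : (Σ x : (P : Subgroup G), MulAction.orbit N (x : G)) → {g : G // ∃ k : ℕ, orderOf g = p ^ k} :=
    fun s => ⟨(s.2 : G), by
      obtain ⟨m, hm⟩ := MulAction.mem_orbit_iff.mp s.2.2
      have hm' : (m : G) * (s.1 : G) * (m : G)⁻¹ = (s.2 : G) := hm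
      obtain ⟨k, hk⟩ := (IsPGroup.iff_orderOf.mp P.isPGroup') s.1
      refine ⟨k, ?_⟩
      rw [← hm', ← (SemiconjBy.orderOf_eq (m : G) (SemiconjBy.conj_mk (m : G) (s.1 : G))),
        Subgroup.orderOf_coe, hk]⟩
  have hFinj : Function.Injective F := by
    rintro ⟨x, g, hg⟩ ⟨x', g', hg'⟩ h
    have hgg : g = g' := congrArg Subtype.val h
    subst hgg
    obtain ⟨m, hm⟩ := MulAction.mem_orbit_iff.mp hg
    obtain ⟨m', hm'⟩ := MulAction.mem_orbit_iff.mp hg'
    have e1 : (m : G) * (x : G) * (m : G)⁻¹ = g := hm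
    have e2 : (m' : G) * (x' : G) * (m' : G)⁻¹ = g := hm'
    -- x⁻¹ x' ∈ N ∩ P
    have hx' : (x' : G) = ((m' : G)⁻¹ * m) * (x : G) * ((m' : G)⁻¹ * m)⁻¹ := by
      have : (x' : G) = (m' : G)⁻¹ * ((m' : G) * (x' : G) * (m' : G)⁻¹) * (m' : G) := by group
      rw [this, e2, ← e1]; group
    have hk : (m' : G)⁻¹ * m ∈ N := N.mul_mem (N.inv_mem m'.2) m.2
    have hinN : (x : G)⁻¹ * (x' : G) ∈ N := by
      have h1 : (x : G)⁻¹ * ((m' : G)⁻¹ * m) * (x : G)⁻¹⁻¹ ∈ N := hNn.conj_mem _ hk _
      have h2 := N.mul_mem h1 (N.inv_mem hk)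
      have e : (x : G)⁻¹ * ((m' : G)⁻¹ * m) * (x : G)⁻¹⁻¹ * ((m' : G)⁻¹ * m)⁻¹ = (x : G)⁻¹ * (x' : G) := by
        rw [hx']; group
      rwa [e] at h2
    have hinP : (x : G)⁻¹ * (x' : G) ∈ (P : Subgroup G) :=
      Subgroup.mul_mem _ (Subgroup.inv_mem _ x.2) x'.2
    have h1 := hdisj _ hinN hinP
    have hxx : x = x' := by
      apply Subtype.ext
      have : (x' : G) = (x : G) * ((x : G)⁻¹ * (x' : G)) := by group
      rw [this, h1, mul_one]
    subst hxx
    rfl
  have hFsurj : Function.Surjective F := by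
    rintro ⟨g, k, hk⟩
    -- g lies in a Sylow subgroup, conjugate to P
    have hpg : IsPGroup p (Subgroup.zpowers g) := by
      rw [IsPGroup.iff_card]
      exact ⟨k, by rw [Nat.card_zpowers, hk]⟩
    obtain ⟨Q, hQ⟩ := hpg.exists_le_sylow
    have hgQ : g ∈ (Q : Subgroup G) := hQ (Subgroup.mem_zpowers g)
    obtain ⟨h, hh⟩ := MulAction.exists_smul_eq G P Q
    have hgP : h⁻¹ * g * h ∈ (P : Subgroup G) := by
      rw [← hh, Sylow.coe_subgroup_smul, Subgroup.mem_pointwise_smul_iff_inv_smul_mem, MulAut.smul_def,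
        MulAut.conj_inv_apply] at hgQ
      exact hgQ
    obtain ⟨n, hn, y, hy, hny⟩ := hfac h
    -- x = n⁻¹ g n ∈ P
    have hxP : n⁻¹ * g * n ∈ (P : Subgroup G) := by
      have h1 : y * (h⁻¹ * g * h) * y⁻¹ ∈ (P : Subgroup G) :=
        Subgroup.mul_mem _ (Subgroup.mul_mem _ hy hgP) (Subgroup.inv_mem _ hy)
      have e : y * (h⁻¹ * g * h) * y⁻¹ = n⁻¹ * g * n := by
        rw [← hny]; group
      rwa [e] at h1
    refine ⟨⟨⟨n⁻¹ * g * n, hxP⟩, ⟨g, ?_⟩⟩, rfl⟩
    rw [MulAction.mem_orbit_iff]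
    refine ⟨⟨n, hn⟩, ?_⟩
    show n * (n⁻¹ * g * n) * n⁻¹ = g
    group
  have hcard : Nat.card {g : G // ∃ k : ℕ, orderOf g = p ^ k} =
      Nat.card (Σ x : (P : Subgroup G), MulAction.orbit N (x : G)) :=
    (Nat.card_congr (Equiv.ofBijective F ⟨hFinj, hFsurj⟩)).symm
  letI : Fintype (P : Subgroup G) := Fintype.ofFinite _
  rw [hcard, Nat.card_sigma, finsum_eq_sum_of_fintype]
  apply Finset.sum_congr rfl
  intro x _
  exact card_orbit N (x : G)

end Cfsg.Agent.S4093
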