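import Cfsg.Statements.S4097
import Cfsg.Agent.S0034
import Cfsg.Agent.S0035
import Cfsg.Agent.Helper1.CoprimeSylow
import Cfsg.Agent.Helper21.Fitting
import Cfsg.Agent.Helper63.Frobenius

set_option autoImplicit false
open Cfsg
open scoped Pointwise

namespace Cfsg.Agent.S4097

universe u

open Cfsg.Agent.Helper63 in
/-- Core of S4097, by strong induction on the order of the group. -/
theorem core (n : ℕ) : ∀ (G : Type u) [Group G] [Finite G], Nat.card G = n →
    ∀ A : Subgroup G, Group.IsSolvable A →
    (∀ S : Subgroup G, A ≤ S → Group.IsSolvable S → ∀ a ∈ A, ∀ s ∈ S, a * s = s * a) →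
    A ≤ Subgroup.center G := by
  induction n using Nat.strong_induction_on with
  | _ n ih =>
  intro G _ _ hn A hA hc
  by_contra hne
  -- (0) `A` is abelian
  have hcomm : ∀ a ∈ A, ∀ b ∈ A, a * b = b * a := fun a ha b hb => hc A le_rfl hA a ha b hb
  -- (1) `A` is central in every proper subgroup containing it
  have sub : ∀ H : Subgroup G, H ≠ ⊤ → A ≤ H → ∀ a ∈ A, ∀ h ∈ H, a * h = h * a := by
    intro H hH hAH a ha h hh
    have hlt : Nat.card H < n := by
      rw [← hn]
      apply lt_of_le_of_ne (Subgroup.card_le_card_group H)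
      intro he
      exact hH (Subgroup.eq_top_of_card_eq H he)
    have hsolv' : Group.IsSolvable ↥(A.subgroupOf H) :=
      solvable_of_solvable_injective (f := (Subgroup.subgroupOfEquivOfLe hAH).toMonoidHom)
        (Subgroup.subgroupOfEquivOfLe hAH).injective
    have key := ih (Nat.card H) hlt ↥H rfl (A.subgroupOf H) hsolv' (by
      intro S' hAS' hS' a' ha' s' hs'
      have hAS : A ≤ S'.map H.subtype := by
        intro b hb
        exact ⟨⟨b, hAH hb⟩, hAS' (Subgroup.mem_subgroupOf.2 hb), rfl⟩
      have hSsolv : Group.IsSolvable ↥(S'.map H.subtype) :=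
        solvable_of_surjective (f := (S'.equivMapOfInjective H.subtype H.subtype_injective).toMonoidHom)
          (S'.equivMapOfInjective H.subtype H.subtype_injective).surjective
      have := hc _ hAS hSsolv (a' : G) (Subgroup.mem_subgroupOf.1 ha') (s' : G) ⟨s', hs', rfl⟩
      exact Subtype.ext this)
    have hmem : (⟨a, hAH ha⟩ : ↥H) ∈ Subgroup.center ↥H := key (Subgroup.mem_subgroupOf.2 ha)
    have := (Subgroup.mem_center_iff.1 hmem ⟨h, hh⟩).symm
    exact congrArg Subtype.val this
  -- (2) the centralizer `C` of `A` is the unique maximal subgroup containing `A`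
  set C : Subgroup G := Subgroup.centralizer (A : Set G) with hC
  have memC : ∀ g : G, g ∈ C ↔ ∀ a ∈ A, a * g = g * a := fun g => Subgroup.mem_centralizer_iff
  have hAC : A ≤ C := fun b hb => (memC b).2 (fun a ha => hcomm a ha b hb)
  have hCtop : C ≠ ⊤ := by
    intro htop
    apply hne
    intro a ha
    rw [Subgroup.mem_center_iff]
    intro g
    have : g ∈ C := htop ▸ Subgroup.mem_top g
    exact ((memC g).1 this a ha).symm
  have hmax : ∀ H : Subgroup G, H ≠ ⊤ → A ≤ H → H ≤ C := by
    intro H hH hAH h hh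
    exact (memC h).2 (fun a ha => sub H hH hAH a ha h hh)
  have hZC : Subgroup.center G ≤ C := by
    intro z hz
    exact (memC z).2 (fun a ha => Subgroup.mem_center_iff.1 hz a)
  -- (3) `C` is not normal
  have hCn : ¬ C.Normal := by
    intro hCn
    haveI := hCn
    set W : Subgroup G := (Subgroup.center ↥C).map C.subtype with hW
    haveI hWn : W.Normal := ConjAct.normal_of_characteristic_of_normal
    haveI hZsolv : Group.IsSolvable ↥(Subgroup.center ↥C) :=
      isSolvable_of_comm (fun a b => Subtype.ext (Subgroup.mem_center_iff.1 b.2 a.1))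
    have hWsolv : Group.IsSolvable ↥W :=
      solvable_of_surjective
        (f := ((Subgroup.center ↥C).equivMapOfInjective C.subtype C.subtype_injective).toMonoidHom)
        ((Subgroup.center ↥C).equivMapOfInjective C.subtype C.subtype_injective).surjective
    have hAW : A ≤ W := by
      intro a ha
      refine ⟨⟨a, hAC ha⟩, ?_, rfl⟩
      rw [SetLike.mem_coe, Subgroup.mem_center_iff]
      rintro ⟨c, hc'⟩
      exact Subtype.ext (((memC c).1 hc' a ha).symm)
    apply hne
    intro a ha
    rw [Subgroup.mem_center_iff]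
    intro g
    have hS : Group.IsSolvable ↥(Subgroup.zpowers g ⊔ W) := by
      apply Cfsg.Agent.Helper21.isSolvable_sup inferInstance hWsolv
      rw [Subgroup.normalizer_eq_top]
      exact le_top
    exact (hc _ (hAW.trans le_sup_right) hS a ha g
      (le_sup_left (b := W) (Subgroup.mem_zpowers g))).symm
  -- (4) `C` is self-normalizing and meets its other conjugates in the centre
  have hNC : Subgroup.normalizer (C : Set G) = C := by
    apply le_antisymm _ Subgroup.le_normalizer
    apply hmax _ _ (hAC.trans Subgroup.le_normalizer)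
    intro htop
    exact hCn (Subgroup.normalizer_eq_top_iff.1 htop)
  have hTI : ∀ x : G, x ∉ C → C ⊓ MulAut.conj x • C ≤ Subgroup.center G := by
    intro x hx
    have hgen : A ⊔ MulAut.conj x • A = ⊤ := by
      by_contra hH
      -- the conjugate by `x⁻¹` contains `A` and is proper
      have h1 : A ≤ MulAut.conj x⁻¹ • (A ⊔ MulAut.conj x • A) := by
        intro a ha
        rw [mem_conj_smul, inv_inv]
        apply le_sup_right (a := A)
        rw [mem_conj_smul]
        have : x⁻¹ * (x * a * x⁻¹) * x = a := by group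
        rw [this]; exact ha
      have h2 : MulAut.conj x⁻¹ • (A ⊔ MulAut.conj x • A) ≠ ⊤ := by
        intro htop
        apply hH
        rw [eq_top_iff]
        intro g _
        have : x⁻¹ * g * x ∈ MulAut.conj x⁻¹ • (A ⊔ MulAut.conj x • A) := htop ▸ Subgroup.mem_top _
        rw [mem_conj_smul, inv_inv] at this
        have e : x * (x⁻¹ * g * x) * x⁻¹ = g := by group
        rwa [e] at this
      have h3 := hmax _ h2 h1
      -- so `A ≤ C^x`
      have h4 : A ≤ MulAut.conj x • C := by
        intro a ha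
        rw [mem_conj_smul]
        apply h3
        rw [mem_conj_smul, inv_inv]
        have e : x * (x⁻¹ * a * x) * x⁻¹ = a := by group
        rw [e]
        exact le_sup_left (b := MulAut.conj x • A) ha
      have h5 : MulAut.conj x • C ≠ ⊤ := by
        intro htop
        apply hCtop
        rw [eq_top_iff]
        intro g _
        have : x * g * x⁻¹ ∈ MulAut.conj x • C := htop ▸ Subgroup.mem_top _
        rw [mem_conj_smul] at this
        have e : x⁻¹ * (x * g * x⁻¹) * x = g := by group
        rwa [e] at this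
      have h6 : MulAut.conj x • C ≤ C := hmax _ h5 h4
      have h7 : x ∈ Subgroup.normalizer (C : Set G) := by
        have hcard : Nat.card ↥C ≤ Nat.card ↥(MulAut.conj x • C) := by
          rw [Cfsg.Agent.Helper1.card_conj_smul]
        have heq : MulAut.conj x • C = C := Subgroup.eq_of_le_of_card_ge h6 hcard
        rw [Subgroup.mem_normalizer_iff]
        intro g
        constructor
        · intro hg
          have : x * g * x⁻¹ ∈ MulAut.conj x • C := conj_mem_conj_smul C x g hg
          rwa [heq] at this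
        · intro hg
          have : x * g * x⁻¹ ∈ MulAut.conj x • C := heq.symm ▸ hg
          rw [mem_conj_smul] at this
          have e : x⁻¹ * (x * g * x⁻¹) * x = g := by group
          rwa [e] at this
      rw [hNC] at h7
      exact hx h7
    intro d hd
    obtain ⟨hd1, hd2⟩ := Subgroup.mem_inf.1 hd
    rw [mem_conj_smul] at hd2
    have hle : A ⊔ MulAut.conj x • A ≤ Subgroup.centralizer ({d} : Set G) := by
      apply sup_le
      · intro a ha
        rw [Subgroup.mem_centralizer_iff]
        intro y hy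
        rw [Set.mem_singleton_iff] at hy
        rw [hy]
        exact ((memC d).1 hd1 a ha).symm
      · intro b hb
        rw [mem_conj_smul] at hb
        rw [Subgroup.mem_centralizer_iff]
        intro y hy
        rw [Set.mem_singleton_iff] at hy
        rw [hy]
        have h := (memC _).1 hd2 _ hb
        -- h : x⁻¹ b x * (x⁻¹ d x) = (x⁻¹ d x) * (x⁻¹ b x)
        have e1 : d * b = x * ((x⁻¹ * d * x) * (x⁻¹ * b * x)) * x⁻¹ := by group
        have e2 : b * d = x * ((x⁻¹ * b * x) * (x⁻¹ * d * x)) * x⁻¹ := by group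
        rw [e1, e2, h]
    rw [hgen] at hle
    rw [Subgroup.mem_center_iff]
    intro g
    have := Subgroup.mem_centralizer_iff.1 (hle (Subgroup.mem_top g)) d (Set.mem_singleton d)
    exact this.symm
  -- (5) `G / Z(G)` is a Frobenius group with complement `C / Z(G)`
  set Z : Subgroup G := Subgroup.center G with hZ
  set π := QuotientGroup.mk' Z with hπ
  have hπs : Function.Surjective π := QuotientGroup.mk'_surjective Z
  have hker : π.ker = Z := QuotientGroup.ker_mk' Z
  set Mb : Subgroup (G ⧸ Z) := C.map π with hMb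
  have hcomapMb : Mb.comap π = C := by
    rw [hMb, Subgroup.comap_map_eq, hker, sup_eq_left.2 hZC]
  have hMb1 : Mb ≠ ⊥ := by
    intro h
    apply hne
    rw [hMb, Subgroup.map_eq_bot_iff, hker] at h
    exact hAC.trans h
  have hMb2 : Mb ≠ ⊤ := by
    intro h
    apply hCtop
    rw [← hcomapMb, h, Subgroup.comap_top]
  have hFrob : IsFrobeniusComplement Mb := by
    refine ⟨hMb1, hMb2, ?_⟩
    intro gb hgb
    obtain ⟨x, rfl⟩ := hπs gb
    have hx : x ∉ C := fun hx => hgb (Subgroup.mem_map_of_mem π hx)
    rw [eq_bot_iff]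
    intro yb hyb
    obtain ⟨hy1, hy2⟩ := Subgroup.mem_inf.1 hyb
    obtain ⟨c₁, hc₁, rfl⟩ := hy1
    rw [mem_conj_smul] at hy2
    have hy2' : π (x⁻¹ * c₁ * x) ∈ Mb := by
      rw [map_mul, map_mul, map_inv]; exact hy2
    have hc₂ : x⁻¹ * c₁ * x ∈ C := by
      rw [← hcomapMb]; exact hy2'
    have hc₁' : c₁ ∈ MulAut.conj x • C := by
      rw [mem_conj_smul]; exact hc₂
    have hcz : c₁ ∈ Z := hTI x hx (Subgroup.mem_inf.2 ⟨hc₁, hc₁'⟩)
    rw [Subgroup.mem_bot]
    rw [hπ, QuotientGroup.mk'_apply, QuotientGroup.eq_one_iff]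
    exact hcz
  -- (6) the Frobenius kernel
  obtain ⟨Kb, -, hKbn, hKbc⟩ := Cfsg.Agent.S0035.result Mb hFrob
  haveI := hKbn
  have hKM : Kb ⊓ Mb = ⊥ := hKbc.disjoint.eq_bot
  have hcardKM : Nat.card ↥Kb * Nat.card ↥Mb = Nat.card (G ⧸ Z) := hKbc.card_mul
  have hKidx : Nat.card ↥Kb = Mb.index := by
    have h1 := Subgroup.card_mul_index Mb
    have hpos : 0 < Nat.card ↥Mb := Nat.card_pos
    exact (Nat.eq_of_mul_eq_mul_left hpos (h1.trans (hcardKM.symm.trans (mul_comm _ _)))).symm
  have hcopKM : (Nat.card ↥Mb).Coprime (Nat.card ↥Kb) := by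
    rw [hKidx]
    have hmod := Cfsg.Agent.S0034.index_mod Mb hFrob
    have h1 : Nat.gcd Mb.index (Nat.card ↥Mb) = Nat.gcd 1 (Nat.card ↥Mb) := Nat.ModEq.gcd_eq hmod
    rw [Nat.gcd_one_left] at h1
    exact Nat.Coprime.symm h1
  have hKb1 : Kb ≠ ⊥ := by
    intro h
    apply hMb2
    have := hKbc.sup_eq_top
    rwa [h, bot_sup_eq] at this
  -- (7) an `A`-invariant Sylow subgroup of the kernel
  have hKcard : Nat.card ↥Kb ≠ 1 := fun h => hKb1 (Subgroup.card_eq_one.1 h)
  obtain ⟨q, hq, hqK⟩ := Nat.exists_prime_and_dvd hKcard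
  haveI := Fact.mk hq
  set Ab : Subgroup (G ⧸ Z) := A.map π with hAb
  have hAbMb : Ab ≤ Mb := Subgroup.map_mono hAC
  have hAbK : Ab ≤ Subgroup.normalizer (Kb : Set (G ⧸ Z)) := by
    rw [Subgroup.normalizer_eq_top]; exact le_top
  have hcop : (Nat.card ↥Ab).Coprime (Nat.card ↥Kb) :=
    Nat.Coprime.coprime_dvd_left (Subgroup.card_dvd_of_le hAbMb) hcopKM
  haveI := hA
  have hAbsolv : Group.IsSolvable ↥Ab := Cfsg.Agent.Helper1.isSolvable_map A π
  obtain ⟨Q, hQ⟩ := Cfsg.Agent.Helper1.exists_invariant_sylow Ab Kb hAbK hcop (Or.inl hAbsolv) q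
  set Qb : Subgroup (G ⧸ Z) := (Q : Subgroup ↥Kb).map Kb.subtype with hQb
  have hQb1 : Qb ≠ ⊥ := by
    rw [hQb, Ne, Subgroup.map_eq_bot_iff_of_injective _ Kb.subtype_injective]
    exact Q.ne_bot_of_dvd_card hqK
  have hQbK : Qb ≤ Kb := Subgroup.map_subtype_le _
  have hQbp : IsPGroup q ↥Qb := Q.2.map Kb.subtype
  haveI hQbsolv : Group.IsSolvable ↥Qb := by
    haveI := hQbp.isNilpotent
    infer_instance
  -- (8) its preimage is solvable and normalized by `A`
  set Qg : Subgroup G := Qb.comap π with hQg
  have hZQ : Z ≤ Qg := by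
    intro z hz
    rw [hQg, Subgroup.mem_comap]
    have : π z = 1 := by rw [hπ, QuotientGroup.mk'_apply, QuotientGroup.eq_one_iff]; exact hz
    rw [this]; exact Qb.one_mem
  haveI hZsolv : Group.IsSolvable ↥Z :=
    isSolvable_of_comm (fun a b => Subtype.ext (Subgroup.mem_center_iff.1 b.2 a.1))
  have hQgsolv : Group.IsSolvable ↥Qg := by
    apply solvable_of_ker_le_range (Subgroup.inclusion hZQ) (π.subgroupComap Qb)
    intro y hy
    rw [MonoidHom.mem_ker] at hy
    have hy' : π (y : G) = 1 := congrArg Subtype.val hy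
    rw [hπ, QuotientGroup.mk'_apply, QuotientGroup.eq_one_iff] at hy'
    exact ⟨⟨(y : G), hy'⟩, Subtype.ext rfl⟩
  have hAnorm : A ≤ Subgroup.normalizer (Qg : Set G) := by
    intro a ha
    have h1 : π a ∈ Subgroup.normalizer (Qb : Set (G ⧸ Z)) := hQ (Subgroup.mem_map_of_mem π ha)
    rw [Subgroup.mem_normalizer_iff] at h1 ⊢
    intro y
    rw [hQg, Subgroup.mem_comap, Subgroup.mem_comap, map_mul, map_mul, map_inv]
    exact h1 (π y)
  have hS : Group.IsSolvable ↥(A ⊔ Qg) := Cfsg.Agent.Helper21.isSolvable_sup hA hQgsolv hAnorm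
  -- (9) contradiction
  have hQC : Qg ≤ C := by
    intro y hy
    exact (memC y).2 (fun a ha => hc _ le_sup_left hS a ha y (le_sup_right (a := A) hy))
  have hQbMb : Qb ≤ Mb := by
    rw [← Subgroup.map_comap_eq_self_of_surjective hπs Qb]
    exact Subgroup.map_mono hQC
  apply hQb1
  rw [eq_bot_iff, ← hKM]
  exact le_inf hQbK hQbMb

/-- Let A be a solvable subgroup of a finite group G such that A lies in the centre of every solvable subgroup of G containing A. Then A lies in the centre of G. -/
theorem result {G : Type*} [Group G] [Finite G]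
    (A : Subgroup G) (hA : Group.IsSolvable A)
    (hc : ∀ S : Subgroup G, A ≤ S → Group.IsSolvable S → ∀ a ∈ A, ∀ s ∈ S, a * s = s * a) : A ≤ Subgroup.center G :=
  core (Nat.card G) G rfl A hA hc

end Cfsg.Agent.S4097
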