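import Mathlib
import Cfsg.Statements.S4106

set_option autoImplicit false
open Cfsg
set_option linter.style.haveILetI false

namespace Cfsg.Agent.S4106

open Subgroup
open scoped Pointwise

/-- the classes of `L`-elements -/
abbrev PiClass (L : Set ℕ) (H : Type*) [Group H] : Type _ :=
  {C : ConjClasses H // ∀ q : ℕ, q.Prime → (∃ g : H, ConjClasses.mk g = C ∧ q ∣ orderOf g) → q ∈ L}

theorem orderOf_conj' {H : Type*} [Group H] (c a : H) : orderOf (c * a * c⁻¹) = orderOf a :=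
  (SemiconjBy.orderOf_eq c (SemiconjBy.conj_mk c a)).symm

theorem mk_mem_iff {H : Type*} [Group H] (L : Set ℕ) (g : H) :
    (∀ q : ℕ, q.Prime → (∃ g' : H, ConjClasses.mk g' = ConjClasses.mk g ∧ q ∣ orderOf g') → q ∈ L) ↔
    (∀ q : ℕ, q.Prime → q ∣ orderOf g → q ∈ L) := by
  constructor
  · intro h q hq hdvd
    exact h q hq ⟨g, rfl, hdvd⟩
  · rintro h q hq ⟨g', hg', hdvd⟩
    rw [ConjClasses.mk_eq_mk_iff_isConj, isConj_iff] at hg'
    obtain ⟨c, rfl⟩ := hg'
    rw [orderOf_conj'] at h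
    exact h q hq hdvd

theorem exists_decomp {G : Type*} [Group G] [Finite G] (p : ℕ) [Fact p.Prime] (t : G) :
    ∃ x y : G, x * y = t ∧ Commute x y ∧ (∃ k, orderOf x = p ^ k) ∧ orderOf y ∣ orderOf t ∧
      ¬ p ∣ orderOf y := by
  have hp := (Fact.out : p.Prime)
  have hn : orderOf t ≠ 0 := (orderOf_pos t).ne'
  obtain ⟨a, ha⟩ : ∃ a, a = ordProj[p] (orderOf t) := ⟨_, rfl⟩
  obtain ⟨b, hb⟩ : ∃ b, b = ordCompl[p] (orderOf t) := ⟨_, rfl⟩
  have hab : a * b = orderOf t := by rw [ha, hb]; exact Nat.ordProj_mul_ordCompl_eq_self _ p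
  have hpb : Nat.Coprime p b := hb ▸ Nat.coprime_ordCompl hp hn
  have hcop : Nat.Coprime a b := by rw [ha]; exact Nat.Coprime.pow_left _ hpb
  have hbez : (1 : ℤ) = a * Nat.gcdA a b + b * Nat.gcdB a b := by
    have := Nat.gcd_eq_gcd_ab a b
    rw [hcop] at this
    exact_mod_cast this
  refine ⟨t ^ ((b : ℤ) * Nat.gcdB a b), t ^ ((a : ℤ) * Nat.gcdA a b), ?_, ?_, ?_, ?_, ?_⟩
  · rw [← zpow_add, add_comm, ← hbez, zpow_one]
  · exact (Commute.refl t).zpow_zpow _ _
  · have h1 : (t ^ ((b : ℤ) * Nat.gcdB a b)) ^ a = 1 := by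
      rw [← zpow_natCast, ← zpow_mul]
      have : (b : ℤ) * Nat.gcdB a b * (a : ℤ) = ((a * b : ℕ) : ℤ) * Nat.gcdB a b := by push_cast; ring
      rw [this, hab, zpow_mul, zpow_natCast, pow_orderOf_eq_one, one_zpow]
    have h2 := orderOf_dvd_of_pow_eq_one h1
    obtain ⟨j, -, hj⟩ := (Nat.dvd_prime_pow hp).mp (h2.trans (dvd_of_eq ha))
    exact ⟨j, hj⟩
  · have h1 : (t ^ ((a : ℤ) * Nat.gcdA a b)) ^ b = 1 := by
      rw [← zpow_natCast, ← zpow_mul]
      have : (a : ℤ) * Nat.gcdA a b * (b : ℤ) = ((a * b : ℕ) : ℤ) * Nat.gcdA a b := by push_cast; ring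
      rw [this, hab, zpow_mul, zpow_natCast, pow_orderOf_eq_one, one_zpow]
    exact (orderOf_dvd_of_pow_eq_one h1).trans (Dvd.intro_left a hab)
  · have h1 : (t ^ ((a : ℤ) * Nat.gcdA a b)) ^ b = 1 := by
      rw [← zpow_natCast, ← zpow_mul]
      have : (a : ℤ) * Nat.gcdA a b * (b : ℤ) = ((a * b : ℕ) : ℤ) * Nat.gcdA a b := by push_cast; ring
      rw [this, hab, zpow_mul, zpow_natCast, pow_orderOf_eq_one, one_zpow]
    intro hdvd
    have := hdvd.trans (orderOf_dvd_of_pow_eq_one h1)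
    exact hp.one_lt.ne' (Nat.Coprime.eq_one_of_dvd hpb this)

theorem exists_conj_mem_sylow {G : Type*} [Group G] [Finite G] {p : ℕ} [Fact p.Prime]
    (P : Sylow p G) (x : G) (hx : ∃ k, orderOf x = p ^ k) :
    ∃ g : G, g * x * g⁻¹ ∈ (P : Subgroup G) := by
  obtain ⟨k, hk⟩ := hx
  have hZ : IsPGroup p (zpowers x) := IsPGroup.of_card (n := k) (by rw [Nat.card_zpowers, hk])
  obtain ⟨Q, hQ⟩ := hZ.exists_le_sylow
  obtain ⟨g, hg⟩ := MulAction.exists_smul_eq G P Q
  refine ⟨g⁻¹, ?_⟩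
  have h1 : x ∈ (Q : Subgroup G) := hQ (mem_zpowers x)
  rw [← hg, Sylow.coe_subgroup_smul, Subgroup.mem_pointwise_smul_iff_inv_smul_mem, MulAut.smul_def,
    MulAut.conj_inv_apply] at h1
  rw [inv_inv]
  exact h1


theorem prod_isPi {G : Type*} [Group G] (π : Set ℕ) (p : ℕ) [Fact p.Prime] (hpπ : p ∈ π)
    (x y : G) (hc : Commute x y) (hx : ∃ k, orderOf x = p ^ k)
    (hy : ∀ q : ℕ, q.Prime → q ∣ orderOf y → q ∈ π \ {p}) :
    ∀ q : ℕ, q.Prime → q ∣ orderOf (x * y) → q ∈ π := by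
  have hp := (Fact.out : p.Prime)
  intro q hq hdvd
  have h1 := hdvd.trans (hc.orderOf_mul_dvd_lcm)
  have h2 := h1.trans (Nat.lcm_dvd_mul _ _)
  rcases (hq.dvd_mul).mp h2 with h | h
  · obtain ⟨k, hk⟩ := hx
    rw [hk] at h
    have := (Nat.prime_dvd_prime_iff_eq hq hp).mp (hq.dvd_of_dvd_pow h)
    rw [this]; exact hpπ
  · exact (hy q hq h).1

theorem step {G : Type*} [Group G] [Finite G] (π : Set ℕ) (p : ℕ) [Fact p.Prime] (hpπ : p ∈ π)
    (P : Sylow p G) (m' : ℕ)
    (h : ∀ x : (P : Subgroup G),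
      Nat.card (PiClass (π \ {p}) ↥(centralizer ({(x : G)} : Set G))) ≤ m') :
    Nat.card (PiClass π G) ≤ Nat.card (P : Subgroup G) * m' := by
  classical
  have hp := (Fact.out : p.Prime)
  have hPx : ∀ x : (P : Subgroup G), ∃ k, orderOf (x : G) = p ^ k := by
    intro x
    obtain ⟨k, hk⟩ := (IsPGroup.iff_orderOf.mp P.2) x
    exact ⟨k, by rw [Subgroup.orderOf_coe, hk]⟩
  have hrep : ∀ {H : Type _} [Group H] (C : ConjClasses H), ∃ y : H, ConjClasses.mk y = C :=
    fun C => ConjClasses.exists_rep C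
  let Φ : (Σ x : (P : Subgroup G), PiClass (π \ {p}) ↥(centralizer ({(x : G)} : Set G))) →
      PiClass π G :=
    fun s => ⟨ConjClasses.mk ((s.1 : G) * (((hrep s.2.1).choose :
        ↥(centralizer ({(s.1 : G)} : Set G))) : G)), by
      rw [mk_mem_iff]
      have hy := (hrep s.2.1).choose_spec
      have hmem := s.2.2
      rw [← hy, mk_mem_iff] at hmem
      refine prod_isPi π p hpπ _ _ ?_ (hPx s.1) ?_
      · exact (mem_centralizer_singleton_iff.mp (hrep s.2.1).choose.2).symm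
      · intro q hq hdvd
        rw [Subgroup.orderOf_coe] at hdvd
        exact hmem q hq hdvd⟩
  have hsurj : Function.Surjective Φ := by
    rintro ⟨C, hC⟩
    obtain ⟨t, rfl⟩ := ConjClasses.exists_rep C
    have hC' := (mk_mem_iff π t).mp hC
    obtain ⟨x, y, hxy, hcomm, hx, hyt, hyp⟩ := exists_decomp p t
    obtain ⟨g, hg⟩ := exists_conj_mem_sylow P x hx
    have hy'mem : g * y * g⁻¹ ∈ centralizer ({g * x * g⁻¹} : Set G) := by
      rw [mem_centralizer_singleton_iff]
      have := hcomm.eq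
      calc g * y * g⁻¹ * (g * x * g⁻¹) = g * (y * x) * g⁻¹ := by group
        _ = g * (x * y) * g⁻¹ := by rw [this]
        _ = g * x * g⁻¹ * (g * y * g⁻¹) := by group
    have hC'' : ∀ q : ℕ, q.Prime → (∃ g' : ↥(centralizer ({g * x * g⁻¹} : Set G)),
        ConjClasses.mk g' = ConjClasses.mk ⟨g * y * g⁻¹, hy'mem⟩ ∧ q ∣ orderOf g') → q ∈ π \ {p} := by
      rw [mk_mem_iff]
      intro q hq hdvd
      rw [← Subgroup.orderOf_coe] at hdvd
      have hdvd' : q ∣ orderOf y := by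
        have := orderOf_conj' g y
        rw [← this]; exact hdvd
      refine ⟨hC' q hq (hdvd'.trans hyt), ?_⟩
      intro hqp
      rw [Set.mem_singleton_iff] at hqp
      exact hyp (hqp ▸ hdvd')
    refine ⟨⟨⟨g * x * g⁻¹, hg⟩, ⟨ConjClasses.mk ⟨g * y * g⁻¹, hy'mem⟩, hC''⟩⟩, ?_⟩
    apply Subtype.ext
    show ConjClasses.mk (g * x * g⁻¹ * _) = ConjClasses.mk t
    have hspec := (hrep (ConjClasses.mk (⟨g * y * g⁻¹, hy'mem⟩ :
      ↥(centralizer ({g * x * g⁻¹} : Set G))))).choose_spec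
    rw [ConjClasses.mk_eq_mk_iff_isConj, isConj_iff] at hspec
    obtain ⟨c, hc⟩ := hspec
    have hc' : (c : G) * ((hrep (ConjClasses.mk (⟨g * y * g⁻¹, hy'mem⟩ :
      ↥(centralizer ({g * x * g⁻¹} : Set G))))).choose : G) * (c : G)⁻¹ = g * y * g⁻¹ := by
      have := congrArg Subtype.val hc
      simpa using this
    have hcx : (c : G) * (g * x * g⁻¹) = (g * x * g⁻¹) * (c : G) :=
      mem_centralizer_singleton_iff.mp c.2
    rw [ConjClasses.mk_eq_mk_iff_isConj, isConj_iff]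
    refine ⟨g⁻¹ * c, ?_⟩
    obtain ⟨o, ho⟩ : ∃ o : G, o = ((hrep (ConjClasses.mk (⟨g * y * g⁻¹, hy'mem⟩ :
      ↥(centralizer ({g * x * g⁻¹} : Set G))))).choose : G) := ⟨_, rfl⟩
    rw [← ho] at hc' ⊢
    calc g⁻¹ * ↑c * (g * x * g⁻¹ * o) * (g⁻¹ * ↑c)⁻¹
        = g⁻¹ * ((↑c * (g * x * g⁻¹)) * o * (↑c)⁻¹) * g := by group
      _ = g⁻¹ * ((g * x * g⁻¹) * (↑c * o * (↑c)⁻¹)) * g := by rw [hcx]; group
      _ = g⁻¹ * ((g * x * g⁻¹) * (g * y * g⁻¹)) * g := by rw [hc']
      _ = x * y := by group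
      _ = t := hxy
  have h1 := Nat.card_le_card_of_surjective Φ hsurj
  haveI : Fintype (P : Subgroup G) := Fintype.ofFinite _
  rw [Nat.card_sigma] at h1
  calc Nat.card (PiClass π G)
      ≤ ∑ x : (P : Subgroup G), Nat.card (PiClass (π \ {p}) ↥(centralizer ({(x : G)} : Set G))) := h1
    _ ≤ ∑ _x : (P : Subgroup G), m' := Finset.sum_le_sum (fun x _ => h x)
    _ = Nat.card (P : Subgroup G) * m' := by
      rw [Finset.sum_const, Finset.card_univ, smul_eq_mul, Nat.card_eq_fintype_card]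


universe u

theorem main : ∀ m : ℕ, 0 < m → ∀ (G : Type u) [Group G] [Finite G] (π : Set ℕ) (r : ℕ),
    (∀ q ∈ π, q.Prime) → (∀ q ∈ π, ¬ q ∣ r) → Nat.card G ∣ m * r →
    Nat.card (PiClass π G) ≤ m := by
  intro m
  induction m using Nat.strong_induction_on with
  | _ m ih =>
  intro hm G _ _ π r hπ hr hdvd
  by_cases hex : ∃ p ∈ π, p ∣ Nat.card G
  · obtain ⟨p, hpπ, hpG⟩ := hex
    have hp := hπ p hpπ
    haveI : Fact p.Prime := ⟨hp⟩
    obtain ⟨P⟩ : Nonempty (Sylow p G) := inferInstance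
    have hPcard : Nat.card (P : Subgroup G) ∣ m := by
      have h1 : Nat.card (P : Subgroup G) ∣ m * r :=
        (Subgroup.card_subgroup_dvd_card _).trans hdvd
      have hcop : Nat.Coprime (Nat.card (P : Subgroup G)) r := by
        obtain ⟨a, ha⟩ := P.2.exists_card_eq
        rw [ha]
        apply Nat.Coprime.pow_left
        exact (Nat.Prime.coprime_iff_not_dvd hp).mpr (hr p hpπ)
      exact hcop.dvd_of_dvd_mul_right h1
    have hPgt : 1 < Nat.card (P : Subgroup G) := by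
      have : p ∣ Nat.card (P : Subgroup G) := P.dvd_card_of_dvd_card hpG
      exact lt_of_lt_of_le hp.one_lt (Nat.le_of_dvd Nat.card_pos this)
    obtain ⟨m', hm'⟩ := hPcard
    have hm'pos : 0 < m' := by
      rcases Nat.eq_zero_or_pos m' with h | h
      · rw [h, mul_zero] at hm'; omega
      · exact h
    have hm'lt : m' < m := by rw [hm']; nlinarith
    have hstep := step π p hpπ P m' (fun x => ?_)
    · rw [hm']; exact hstep
    · apply ih m' hm'lt hm'pos _ (π \ {p}) (Nat.card (P : Subgroup G) * r)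
      · exact fun q hq => hπ q hq.1
      · intro q hq hqdvd
        have hqp := hπ q hq.1
        rcases (hqp.dvd_mul).mp hqdvd with h | h
        · obtain ⟨a, ha⟩ := P.2.exists_card_eq
          rw [ha] at h
          have := (Nat.prime_dvd_prime_iff_eq hqp hp).mp (hqp.dvd_of_dvd_pow h)
          exact hq.2 this
        · exact hr q hq.1 h
      · have := (Subgroup.card_subgroup_dvd_card (centralizer ({(x : G)} : Set G))).trans hdvd
        rw [hm'] at this
        have e : m' * (Nat.card (P : Subgroup G) * r) = Nat.card (P : Subgroup G) * m' * r := by ring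
        rw [e]; exact this
  · push Not at hex
    have hsub : Subsingleton (PiClass π G) := by
      refine ⟨fun a b => ?_⟩
      have key : ∀ c : PiClass π G, c.1 = ConjClasses.mk 1 := by
        rintro ⟨C, hC⟩
        obtain ⟨t, rfl⟩ := ConjClasses.exists_rep C
        have hC' := (mk_mem_iff π t).mp hC
        have : orderOf t = 1 := by
          by_contra hne
          obtain ⟨q, hq, hqdvd⟩ := Nat.exists_prime_and_dvd hne
          exact hex q (hC' q hq hqdvd) (hqdvd.trans (orderOf_dvd_natCard t))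
        rw [orderOf_eq_one_iff] at this
        show ConjClasses.mk t = ConjClasses.mk 1
        rw [this]
      exact Subtype.ext ((key a).trans (key b).symm)
    have := Finite.card_le_one_iff_subsingleton.mpr hsub
    omega


/-- Let G be a finite group, π a set of primes and m the π-part of the order of G. Then the number of conjugacy classes of G consisting of π-elements (elements whose order is divisible only by primes in π) is at most m. -/
theorem result {G : Type*} [Group G] [Finite G]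
    (π : Set ℕ) (hπ : ∀ q ∈ π, q.Prime)
    (m : ℕ) (hm : m ∣ Nat.card G) (hmπ : ∀ q : ℕ, q.Prime → q ∣ m → q ∈ π)
    (hm' : ∀ q ∈ π, ¬ q ∣ Nat.card G / m) :
    Nat.card {C : ConjClasses G // ∀ q : ℕ, q.Prime → (∃ g : G, ConjClasses.mk g = C ∧ q ∣ orderOf g) → q ∈ π} ≤ m := by
  have hmpos : 0 < m := Nat.pos_of_dvd_of_pos hm Nat.card_pos
  exact main m hmpos G π (Nat.card G / m) hπ hm' (dvd_of_eq (Nat.mul_div_cancel' hm).symm)

end Cfsg.Agent.S4106
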