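-- Statement S4107: equal order pairs: N and F(G) are comparable.
import Mathlib
import Cfsg.Statements.S4107
import Cfsg.Agent.Lib.Cores

set_option autoImplicit false
open Cfsg

namespace Cfsg.Agent.S4107

/-- If `x ^ n ∈ K` and `n` is coprime to the order of `x`, then `x ∈ K`. -/
theorem mem_of_pow_mem_of_coprime {G : Type*} [Group G] (K : Subgroup G) (x : G) (n : ℕ)
    (hn : n.Coprime (orderOf x)) (hx : x ^ n ∈ K) : x ∈ K := by
  obtain ⟨m, hm⟩ := exists_pow_eq_self_of_coprime hn
  rw [← hm]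
  exact K.pow_mem hx m

/-- An element outside a subgroup has a power of prime power order outside the subgroup. -/
theorem exists_pow_prime_pow_not_mem {G : Type*} [Group G] [Finite G] (N : Subgroup G) :
    ∀ (o : ℕ) (x : G), orderOf x = o → x ∉ N →
      ∃ m : ℕ, x ^ m ∉ N ∧ ∃ p k : ℕ, p.Prime ∧ orderOf (x ^ m) = p ^ k := by
  intro o
  induction o using Nat.strong_induction_on with
  | _ o ih =>
  intro x hxo hxN
  have hpos : 0 < o := by rw [← hxo]; exact orderOf_pos x
  have hne1 : o ≠ 1 := by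
    intro h1
    rw [h1] at hxo
    rw [orderOf_eq_one_iff.mp hxo] at hxN
    exact hxN N.one_mem
  by_cases hpp : IsPrimePow o
  · obtain ⟨p, k, hp, _, hpk⟩ := (isPrimePow_nat_iff _).mp hpp
    exact ⟨1, by rwa [pow_one], p, k, hp, by rw [pow_one, hxo, hpk]⟩
  · set p := o.minFac with hp
    have hpprime : p.Prime := Nat.minFac_prime hne1
    set a := p ^ o.factorization p with ha
    set b := o / p ^ o.factorization p with hb
    have hab : a * b = o := Nat.ordProj_mul_ordCompl_eq_self o p
    have hcop : a.Coprime b := by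
      rw [ha]
      exact Nat.Coprime.pow_left _ (Nat.coprime_ordCompl hpprime hpos.ne')
    have hfac_pos : 0 < o.factorization p :=
      hpprime.factorization_pos_of_dvd hpos.ne' (Nat.minFac_dvd o)
    have hapos : 0 < a := by rw [ha]; exact pow_pos hpprime.pos _
    have hbpos : 0 < b := by
      rcases Nat.eq_zero_or_pos b with h0 | h0
      · rw [h0, mul_zero] at hab; omega
      · exact h0
    have ha1 : a ≠ 1 := by
      rw [ha]
      intro h1
      rcases Nat.pow_eq_one.mp h1 with h2 | h2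
      · exact hpprime.one_lt.ne' h2
      · omega
    have hb1 : b ≠ 1 := by
      intro h1
      apply hpp
      rw [isPrimePow_nat_iff]
      have han : a = o := by rw [← hab, h1, mul_one]
      exact ⟨p, o.factorization p, hpprime, hfac_pos, han⟩
    have hox : orderOf (x ^ a) = b := by
      rw [orderOf_pow, hxo, ← hab, Nat.gcd_eq_right (Dvd.intro _ rfl)]
      exact Nat.mul_div_cancel_left _ hapos
    have hoy : orderOf (x ^ b) = a := by
      rw [orderOf_pow, hxo, ← hab, Nat.gcd_eq_right (Dvd.intro_left _ rfl)]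
      exact Nat.mul_div_cancel _ hbpos
    have hblt : b < o := by
      rw [← hab]
      have : 1 < a := by omega
      calc b = 1 * b := (one_mul b).symm
        _ < a * b := Nat.mul_lt_mul_of_pos_right this hbpos
    have halt : a < o := by
      rw [← hab]
      have : 1 < b := by omega
      calc a = a * 1 := (mul_one a).symm
        _ < a * b := Nat.mul_lt_mul_of_pos_left this hapos
    -- one of x^a, x^b is outside N
    have hor : x ^ a ∉ N ∨ x ^ b ∉ N := by
      by_contra hcon
      push Not at hcon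
      obtain ⟨h1, h2⟩ := hcon
      apply hxN
      have hbez := Nat.gcd_eq_gcd_ab a b
      rw [hcop.gcd_eq_one] at hbez
      have : x = (x ^ a) ^ (a.gcdA b) * (x ^ b) ^ (a.gcdB b) := by
        rw [← zpow_natCast x a, ← zpow_natCast x b, ← zpow_mul, ← zpow_mul, ← zpow_add, ← hbez]
        simp
      rw [this]
      exact N.mul_mem (N.zpow_mem h1 _) (N.zpow_mem h2 _)
    rcases hor with h | h
    · obtain ⟨m, hm, q, k, hq, hqk⟩ := ih b hblt (x ^ a) hox h
      refine ⟨a * m, by rwa [pow_mul], q, k, hq, by rwa [pow_mul]⟩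
    · obtain ⟨m, hm, q, k, hq, hqk⟩ := ih a halt (x ^ b) hoy h
      refine ⟨b * m, by rwa [pow_mul], q, k, hq, by rwa [pow_mul]⟩

/-- `O_p(G)` is normal. -/
theorem pCore_normal {G : Type*} [Group G] (p : ℕ) : (Cfsg.pCore p G).Normal := by
  haveI := Cfsg.Agent.Lib.pCore_characteristic (G := G) p
  exact Subgroup.normal_of_characteristic _

/-- A `p`-element of the Fitting subgroup lies in `O_p(G)`. -/
theorem mem_pCore_of_mem_fitting {G : Type*} [Group G] [Finite G] (p : ℕ) [Fact p.Prime] (x : G)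
    (hx : x ∈ Cfsg.fittingSubgroup G) (k : ℕ) (hk : orderOf x = p ^ k) : x ∈ Cfsg.pCore p G := by
  have hcop := Cfsg.Agent.Lib.relIndex_pCore_fittingSubgroup_coprime (G := G) p
  haveI : (Cfsg.pCore p G).Normal := pCore_normal (G := G) p
  set F := Cfsg.fittingSubgroup G with hF
  set K : Subgroup F := (Cfsg.pCore p G).subgroupOf F with hK
  have h1 : (⟨x, hx⟩ : F) ^ K.index ∈ K := Subgroup.pow_index_mem K _
  have h2 : K.index = (Cfsg.pCore p G).relIndex F := rfl
  have h3 : (K.index).Coprime (orderOf (⟨x, hx⟩ : F)) := by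
    rw [Subgroup.orderOf_mk, hk, h2]
    exact Nat.Coprime.pow_right k hcop
  have h4 := mem_of_pow_mem_of_coprime K _ _ h3 h1
  exact Subgroup.mem_subgroupOf.mp h4

/-- Let G be a finite group and N a proper non-trivial normal subgroup such that for every x outside N all elements of the coset xN have the same order as x. Then N ≤ F(G) or F(G) ≤ N, where F(G) is the Fitting subgroup; and if N is properly contained in F(G) then F(G) has prime-power order. -/
theorem result {G : Type*} [Group G] [Finite G] (N : Subgroup G) [N.Normal] (hN1 : N ≠ ⊥) (hN2 : N ≠ ⊤)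
    (heq : ∀ x : G, x ∉ N → ∀ n ∈ N, orderOf (x * n) = orderOf x) :
    (N ≤ Cfsg.fittingSubgroup G ∨ Cfsg.fittingSubgroup G ≤ N) ∧
    (N < Cfsg.fittingSubgroup G → IsPrimePow (Nat.card (Cfsg.fittingSubgroup G))) := by
  have hNn : N.Normal := inferInstance
  -- main claim: an element of F(G) outside N forces N to be a p-group, for the right p
  have main : ∀ x : G, x ∈ Cfsg.fittingSubgroup G → x ∉ N →
      ∃ (p : ℕ) (_ : Fact p.Prime), IsPGroup p N ∧ ∃ y : G, y ∈ Cfsg.pCore p G ∧ y ∉ N := by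
    intro x₀ hx₀F hx₀N
    obtain ⟨m, hxN, p, k, hp, hxo⟩ := exists_pow_prime_pow_not_mem N (orderOf x₀) x₀ rfl hx₀N
    set x := x₀ ^ m with hx
    have hxF : x ∈ Cfsg.fittingSubgroup G := Subgroup.pow_mem _ hx₀F m
    haveI : Fact p.Prime := ⟨hp⟩
    have hxP : x ∈ Cfsg.pCore p G := mem_pCore_of_mem_fitting p x hxF k hxo
    haveI hPn : (Cfsg.pCore p G).Normal := pCore_normal (G := G) p
    refine ⟨p, ⟨hp⟩, ?_, x, hxP, hxN⟩
    -- N is a p-group: every prime divisor of |N| is p
    have hprimes : ∀ q : ℕ, q.Prime → q ∣ Nat.card N → q = p := by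
      intro q hq hqN
      by_contra hqp
      haveI : Fact q.Prime := ⟨hq⟩
      obtain ⟨n, hn⟩ := exists_prime_orderOf_dvd_card' (G := N) q hqN
      have hno : orderOf (n : G) = q := by rw [Subgroup.orderOf_coe, hn]
      -- D = N ⊓ O_p(G)
      set D : Subgroup G := N ⊓ Cfsg.pCore p G with hD
      haveI hDn : D.Normal := Subgroup.normal_inf_normal N (Cfsg.pCore p G)
      -- x and n commute modulo D
      have hcomm : Commute ((x : G) : G ⧸ D) ((n : G) : G ⧸ D) := by
        show ((x : G) : G ⧸ D) * ((n : G) : G ⧸ D) = ((n : G) : G ⧸ D) * ((x : G) : G ⧸ D)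
        rw [← QuotientGroup.mk_mul, ← QuotientGroup.mk_mul, QuotientGroup.eq]
        rw [hD, Subgroup.mem_inf]
        constructor
        · -- in N
          have h1 : x⁻¹ * (n : G) * x⁻¹⁻¹ ∈ N := hNn.conj_mem _ n.2 _
          have h2 := N.mul_mem (N.mul_mem (N.inv_mem n.2) h1) (N.one_mem)
          have e : (n : G)⁻¹ * (x⁻¹ * (n : G) * x⁻¹⁻¹) * 1 = (x * (n : G))⁻¹ * ((n : G) * x) := by group
          rwa [e] at h2
        · -- in O_p(G)
          have h1 : (n : G) * x * (n : G)⁻¹ ∈ Cfsg.pCore p G := hPn.conj_mem _ hxP _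
          have h2 := (Cfsg.pCore p G).mul_mem ((Cfsg.pCore p G).inv_mem hxP) h1
          have h3 : (n : G)⁻¹ * (x⁻¹ * ((n : G) * x * (n : G)⁻¹)) * (n : G)⁻¹⁻¹ ∈ Cfsg.pCore p G :=
            hPn.conj_mem _ h2 _
          have e : (n : G)⁻¹ * (x⁻¹ * ((n : G) * x * (n : G)⁻¹)) * (n : G)⁻¹⁻¹ = (x * (n : G))⁻¹ * ((n : G) * x) := by
            group
          rwa [e] at h3
      -- (x n)^(p^k) = 1
      have h1 : (x * (n : G)) ^ (p ^ k) = 1 := by
        rw [← hxo, ← heq x hxN n n.2]
        exact pow_orderOf_eq_one _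
      have h2 : (((x * (n : G) : G) : G ⧸ D)) ^ (p ^ k) = 1 := by
        rw [← QuotientGroup.mk_pow, h1]; rfl
      rw [QuotientGroup.mk_mul, hcomm.mul_pow, ← QuotientGroup.mk_pow, ← QuotientGroup.mk_pow] at h2
      have h3 : x ^ (p ^ k) = 1 := by rw [← hxo]; exact pow_orderOf_eq_one _
      rw [h3, QuotientGroup.mk_one, one_mul, QuotientGroup.eq_one_iff] at h2
      -- n^(p^k) ∈ D, a p-group
      have h4 : (n : G) ^ (p ^ k) ∈ Cfsg.pCore p G := (Subgroup.mem_inf.mp h2).2
      obtain ⟨j, hj⟩ := (IsPGroup.iff_orderOf.mp (Cfsg.Agent.Lib.isPGroup_pCore (G := G) p)) ⟨_, h4⟩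
      rw [Subgroup.orderOf_mk] at hj
      -- order of n^(p^k) is q
      have hcop : q.Coprime (p ^ k) := Nat.Coprime.pow_right k ((Nat.coprime_primes hq hp).mpr hqp)
      have h5 : orderOf ((n : G) ^ (p ^ k)) = q := by
        rw [orderOf_pow, hno, hcop.gcd_eq_one, Nat.div_one]
      rw [h5] at hj
      -- q = p^j: impossible
      have : q ∣ p ^ j := by rw [← hj]
      have := (Nat.prime_dvd_prime_iff_eq hq hp).mp (hq.dvd_of_dvd_pow this)
      exact hqp this
    have hcard : Nat.card N = p ^ (Nat.card N).primeFactorsList.length :=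
      Nat.eq_prime_pow_of_unique_prime_dvd Nat.card_pos.ne' (fun {d} hd hdN => hprimes d hd hdN)
    exact IsPGroup.of_card hcard
  constructor
  · by_cases hFN : Cfsg.fittingSubgroup G ≤ N
    · exact Or.inr hFN
    · left
      obtain ⟨x, hxF, hxN⟩ := SetLike.not_le_iff_exists.mp hFN
      obtain ⟨p, hp, hNp, _⟩ := main x hxF hxN
      exact le_trans (Cfsg.Agent.Lib.le_pCore hNn hNp) (Cfsg.Agent.Lib.pCore_le_fittingSubgroup p)
  · intro hlt
    obtain ⟨x, hxF, hxN⟩ := SetLike.exists_of_lt hlt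
    obtain ⟨p, hp, hNp, y, hyP, hyN⟩ := main x hxF hxN
    -- F(G) is a p-group
    have hprimes : ∀ r : ℕ, r.Prime → r ∣ Nat.card (Cfsg.fittingSubgroup G) → r = p := by
      intro r hr hrF
      by_contra hrp
      haveI : Fact r.Prime := ⟨hr⟩
      obtain ⟨y, hy⟩ := exists_prime_orderOf_dvd_card' (G := Cfsg.fittingSubgroup G) r hrF
      have hyo : orderOf (y : G) = r := by rw [Subgroup.orderOf_coe, hy]
      have hyR : (y : G) ∈ Cfsg.pCore r G := mem_pCore_of_mem_fitting r (y : G) y.2 1 (by rw [hyo, pow_one])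
      have hNP : N ≤ Cfsg.pCore p G := Cfsg.Agent.Lib.le_pCore hNn hNp
      -- y ∉ N
      have hyN : (y : G) ∉ N := by
        intro hcon
        obtain ⟨j, hj⟩ := (IsPGroup.iff_orderOf.mp hNp) ⟨_, hcon⟩
        rw [Subgroup.orderOf_mk, hyo] at hj
        have : r ∣ p ^ j := by rw [← hj]
        exact hrp ((Nat.prime_dvd_prime_iff_eq hr hp.out).mp (hr.dvd_of_dvd_pow this))
      -- O_r(G) and O_p(G) are disjoint
      have hdisj : Disjoint (Cfsg.pCore r G) (Cfsg.pCore p G) := by
        rw [Subgroup.disjoint_def]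
        intro z hz1 hz2
        obtain ⟨j1, hj1⟩ := (IsPGroup.iff_orderOf.mp (Cfsg.Agent.Lib.isPGroup_pCore (G := G) r)) ⟨_, hz1⟩
        obtain ⟨j2, hj2⟩ := (IsPGroup.iff_orderOf.mp (Cfsg.Agent.Lib.isPGroup_pCore (G := G) p)) ⟨_, hz2⟩
        rw [Subgroup.orderOf_mk] at hj1 hj2
        have hc : (r ^ j1).Coprime (p ^ j2) :=
          Nat.Coprime.pow _ _ ((Nat.coprime_primes hr hp.out).mpr hrp)
        rw [← hj1, ← hj2, Nat.coprime_self] at hc
        exact orderOf_eq_one_iff.mp hc
      -- a nontrivial element of N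
      obtain ⟨⟨n, hn⟩, hn1⟩ := Subgroup.ne_bot_iff_exists_ne_one.mp hN1
      have hn1' : n ≠ 1 := fun h => hn1 (Subtype.ext h)
      have hcomm : Commute (y : G) n :=
        Subgroup.commute_of_normal_of_disjoint _ _
          (pCore_normal (G := G) r)
          (pCore_normal (G := G) p) hdisj _ _ hyR (hNP hn)
      obtain ⟨j, hj⟩ := (IsPGroup.iff_orderOf.mp hNp) ⟨n, hn⟩
      rw [Subgroup.orderOf_mk] at hj
      have hcop : (orderOf (y : G)).Coprime (orderOf n) := by
        rw [hyo, hj]
        exact Nat.Coprime.pow_right j ((Nat.coprime_primes hr hp.out).mpr hrp)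
      have h1 := heq (y : G) hyN n hn
      rw [hcomm.orderOf_mul_eq_mul_orderOf_of_coprime hcop] at h1
      have hpos : 0 < orderOf (y : G) := orderOf_pos _
      have h2 : orderOf (y : G) * orderOf n = orderOf (y : G) * 1 := by rw [h1, mul_one]
      have h3 : orderOf n = 1 := Nat.eq_of_mul_eq_mul_left hpos h2
      exact hn1' (orderOf_eq_one_iff.mp h3)
    have hcard : Nat.card (Cfsg.fittingSubgroup G) = p ^ (Nat.card (Cfsg.fittingSubgroup G)).primeFactorsList.length :=
      Nat.eq_prime_pow_of_unique_prime_dvd Nat.card_pos.ne' (fun {d} hd hdN => hprimes d hd hdN)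
    rw [isPrimePow_nat_iff]
    refine ⟨p, _, hp.out, ?_, hcard.symm⟩
    rcases Nat.eq_zero_or_pos (Nat.card (Cfsg.fittingSubgroup G)).primeFactorsList.length with h0 | h0
    · exfalso
      rw [h0, pow_zero] at hcard
      have hbot : Cfsg.fittingSubgroup G = ⊥ := Subgroup.card_eq_one.mp hcard
      rw [hbot] at hxF
      rw [Subgroup.mem_bot] at hxF
      rw [hxF] at hxN
      exact hxN N.one_mem
    · exact h0

end Cfsg.Agent.S4107
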