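-- Statement S4108: equal order pairs with p-group kernel give Frobenius groups.
import Mathlib
import Cfsg.Statements.S4108

set_option autoImplicit false
open Cfsg

namespace Cfsg.Agent.S4108

open scoped Pointwise

/-- membership in a conjugate (pointwise action of `MulAut.conj`) -/
theorem mem_conj_smul {K : Type*} [Group K] (S : Subgroup K) (g x : K) :
    x ∈ MulAut.conj g • S ↔ g⁻¹ * x * g ∈ S := by
  rw [Subgroup.mem_pointwise_smul_iff_inv_smul_mem, MulAut.smul_def, MulAut.conj_inv_apply]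

/-- Let G be a finite group, p a prime and N a proper non-trivial normal p-subgroup such that for every x outside N all elements of the coset xN have the same order as x. Then every non-trivial subgroup H of G of order prime to p acts fixed-point-freely on N: NH is a Frobenius group with complement H and kernel N. -/
theorem result {G : Type*} [Group G] [Finite G] (N : Subgroup G) [N.Normal] (hN1 : N ≠ ⊥) (hN2 : N ≠ ⊤)
    (heq : ∀ x : G, x ∉ N → ∀ n ∈ N, orderOf (x * n) = orderOf x)
    (p : ℕ) [Fact p.Prime] (hNp : IsPGroup p N) :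
    ∀ H : Subgroup G, H ≠ ⊥ → (Nat.card H).Coprime p →
      Cfsg.IsFrobeniusComplement (H.subgroupOf (N ⊔ H)) ∧ Cfsg.frobeniusKernel (H.subgroupOf (N ⊔ H)) = (N.subgroupOf (N ⊔ H) : Set ↥(N ⊔ H)) := by
  intro H hH1 hHp
  have hNn : N.Normal := inferInstance
  -- orders of elements of N are powers of p
  have hordN : ∀ n ∈ N, ∃ k : ℕ, orderOf n = p ^ k := by
    intro n hn
    obtain ⟨k, hk⟩ := (IsPGroup.iff_orderOf.mp hNp) ⟨n, hn⟩
    exact ⟨k, by rw [← hk, Subgroup.orderOf_mk]⟩
  -- orders of elements of H are coprime to p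
  have hordH : ∀ h ∈ H, (orderOf h).Coprime p := by
    intro h hh
    have : orderOf (⟨h, hh⟩ : H) ∣ Nat.card H := orderOf_dvd_natCard _
    rw [Subgroup.orderOf_mk] at this
    exact Nat.Coprime.coprime_dvd_left this hHp
  -- (a) H ∩ N = 1
  have hHN : ∀ z : G, z ∈ H → z ∈ N → z = 1 := by
    intro z hzH hzN
    obtain ⟨k, hk⟩ := hordN z hzN
    have h1 := hordH z hzH
    rw [hk] at h1
    have h2 : (p ^ k).Coprime (p ^ k) := Nat.Coprime.pow_right k h1
    rw [Nat.coprime_self] at h2
    rw [← orderOf_eq_one_iff, hk, h2]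
  -- (b) fixed-point-freeness
  have hfpf : ∀ h ∈ H, h ≠ 1 → ∀ n ∈ N, h * n = n * h → n = 1 := by
    intro h hh hh1 n hn hc
    have hhN : h ∉ N := fun hcon => hh1 (hHN h hh hcon)
    have h1 := heq h hhN n hn
    obtain ⟨k, hk⟩ := hordN n hn
    have hcop : (orderOf h).Coprime (orderOf n) := by
      rw [hk]; exact Nat.Coprime.pow_right k (hordH h hh)
    have hcomm : Commute h n := hc
    rw [hcomm.orderOf_mul_eq_mul_orderOf_of_coprime hcop] at h1
    have hpos : 0 < orderOf h := orderOf_pos h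
    have : orderOf n = 1 := by
      have h2 : orderOf h * orderOf n = orderOf h * 1 := by rw [h1, mul_one]
      exact Nat.eq_of_mul_eq_mul_left hpos h2
    exact orderOf_eq_one_iff.mp this
  -- (c) factorization in N ⊔ H
  have hfac : ∀ x : ↥(N ⊔ H), ∃ n ∈ N, ∃ h ∈ H, n * h = (x : G) := by
    intro x
    exact Subgroup.mem_sup_of_normal_left.mp x.2
  have hNle : N ≤ N ⊔ H := le_sup_left
  have hHle : H ≤ N ⊔ H := le_sup_right
  refine ⟨⟨?_, ?_, ?_⟩, ?_⟩
  · -- H' ≠ ⊥
    intro hbot
    apply hH1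
    rw [eq_bot_iff]
    intro h hh
    have : (⟨h, hHle hh⟩ : ↥(N ⊔ H)) ∈ H.subgroupOf (N ⊔ H) := Subgroup.mem_subgroupOf.mpr hh
    rw [hbot, Subgroup.mem_bot] at this
    rw [Subgroup.mem_bot]
    exact congrArg Subtype.val this
  · -- H' ≠ ⊤
    intro htop
    apply hN1
    rw [eq_bot_iff]
    intro n hn
    have : (⟨n, hNle hn⟩ : ↥(N ⊔ H)) ∈ H.subgroupOf (N ⊔ H) := by rw [htop]; exact Subgroup.mem_top _
    rw [Subgroup.mem_subgroupOf] at this
    rw [Subgroup.mem_bot]
    exact hHN n this hn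
  · -- TI property
    intro g hg
    rw [eq_bot_iff]
    intro y hy
    obtain ⟨hy1, hy2⟩ := Subgroup.mem_inf.mp hy
    rw [mem_conj_smul] at hy2
    rw [Subgroup.mem_subgroupOf] at hy1 hy2 hg
    rw [Subgroup.mem_bot]
    obtain ⟨n, hn, h0, hh0, hnh⟩ := hfac g
    have hn1 : n ≠ 1 := by
      intro hcon
      apply hg
      rw [← hnh, hcon, one_mul]; exact hh0
    -- y' = g⁻¹ y g ∈ H, y'' = h0 y' h0⁻¹ ∈ H
    have hy2' : (g : G)⁻¹ * (y : G) * (g : G) ∈ H := by
      simpa using hy2
    set y' : G := (g : G)⁻¹ * (y : G) * (g : G) with hy'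
    have hy'' : h0 * y' * h0⁻¹ ∈ H := H.mul_mem (H.mul_mem hh0 hy2') (H.inv_mem hh0)
    have e1 : (y : G) = n * (h0 * y' * h0⁻¹) * n⁻¹ := by
      rw [hy', ← hnh]; group
    -- y * y''⁻¹ ∈ N ∩ H
    have hinN : (y : G) * (h0 * y' * h0⁻¹)⁻¹ ∈ N := by
      have h1 : (h0 * y' * h0⁻¹) * n⁻¹ * (h0 * y' * h0⁻¹)⁻¹ ∈ N := hNn.conj_mem _ (N.inv_mem hn) _
      have h2 := N.mul_mem hn h1
      have e : n * ((h0 * y' * h0⁻¹) * n⁻¹ * (h0 * y' * h0⁻¹)⁻¹) = (y : G) * (h0 * y' * h0⁻¹)⁻¹ := by
        rw [e1]; group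
      rwa [e] at h2
    have hinH : (y : G) * (h0 * y' * h0⁻¹)⁻¹ ∈ H := H.mul_mem hy1 (H.inv_mem hy'')
    have h1 := hHN _ hinH hinN
    have e2 : (y : G) = h0 * y' * h0⁻¹ := by
      have : (y : G) = ((y : G) * (h0 * y' * h0⁻¹)⁻¹) * (h0 * y' * h0⁻¹) := by group
      rw [this, h1, one_mul]
    -- n commutes with y
    have hcomm : (y : G) * n = n * (y : G) := by
      have : n * (y : G) * n⁻¹ = (y : G) := by
        conv_rhs => rw [e1, ← e2]
      have e3 : n * (y : G) = (n * (y : G) * n⁻¹) * n := by group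
      rw [e3, this]
    by_contra hyne
    have hyne' : (y : G) ≠ 1 := fun hcon => hyne (Subtype.ext hcon)
    exact hn1 (hfpf (y : G) hy1 hyne' n hn hcomm)
  · -- the kernel
    ext x
    simp only [Cfsg.frobeniusKernel, Set.mem_ofPred_eq, SetLike.mem_coe]
    rw [Subgroup.mem_subgroupOf]
    constructor
    · rintro (rfl | hx)
      · simp
      · obtain ⟨n, hn, h, hh, hnh⟩ := hfac x
        by_cases hh1 : h = 1
        · rw [← hnh, hh1, mul_one]; exact hn
        · exfalso
          -- the map m ↦ m h m⁻¹ h⁻¹ on N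
          let ψ : N → N := fun m => ⟨m * h * (m : G)⁻¹ * h⁻¹, by
            have h1 : h * (m : G)⁻¹ * h⁻¹ ∈ N := hNn.conj_mem _ (N.inv_mem m.2) h
            have h2 := N.mul_mem m.2 h1
            have e : (m : G) * (h * (m : G)⁻¹ * h⁻¹) = m * h * (m : G)⁻¹ * h⁻¹ := by group
            rwa [e] at h2⟩
          have hinj : Function.Injective ψ := by
            intro m m' hmm
            have h1 : (m : G) * h * (m : G)⁻¹ * h⁻¹ = (m' : G) * h * (m' : G)⁻¹ * h⁻¹ :=
              congrArg Subtype.val hmm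
            have h2 : (m : G) * h * (m : G)⁻¹ = (m' : G) * h * (m' : G)⁻¹ := mul_right_cancel h1
            have h3 : h * ((m' : G)⁻¹ * m) = ((m' : G)⁻¹ * m) * h := by
              have e2 : h * ((m' : G)⁻¹ * m) = (m' : G)⁻¹ * ((m' : G) * h * (m' : G)⁻¹) * m := by group
              rw [e2, ← h2]; group
            have h4 := hfpf h hh hh1 _ (N.mul_mem (N.inv_mem m'.2) m.2) h3
            apply Subtype.ext
            have : (m : G) = (m' : G) * ((m' : G)⁻¹ * m) := by group
            rw [this, h4, mul_one]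
          have hsurj : Function.Surjective ψ := Finite.injective_iff_surjective.mp hinj
          obtain ⟨m, hm⟩ := hsurj ⟨n, hn⟩
          have hm' : (m : G) * h * (m : G)⁻¹ * h⁻¹ = n := congrArg Subtype.val hm
          apply hx ⟨(m : G), hNle m.2⟩
          rw [mem_conj_smul, Subgroup.mem_subgroupOf]
          have : ((⟨(m : G), hNle m.2⟩ : ↥(N ⊔ H))⁻¹ * x * ⟨(m : G), hNle m.2⟩ : ↥(N ⊔ H)) = ((m : G)⁻¹ * (x : G) * (m : G) : G) := by
            simp
          rw [this, ← hnh, ← hm']
          have e : (m : G)⁻¹ * ((m : G) * h * (m : G)⁻¹ * h⁻¹ * h) * (m : G) = h := by group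
          rw [e]; exact hh
    · intro hxN
      by_cases hx1 : x = 1
      · exact Or.inl hx1
      · right
        intro g hcon
        rw [mem_conj_smul, Subgroup.mem_subgroupOf] at hcon
        have hcon' : (g : G)⁻¹ * (x : G) * (g : G) ∈ H := by simpa using hcon
        have hN' : (g : G)⁻¹ * (x : G) * (g : G) ∈ N := by
          have := hNn.conj_mem _ hxN (g : G)⁻¹
          rwa [inv_inv] at this
        have h1 := hHN _ hcon' hN'
        apply hx1
        apply Subtype.ext
        have : (x : G) = (g : G) * ((g : G)⁻¹ * (x : G) * (g : G)) * (g : G)⁻¹ := by group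
        rw [this, h1]; simp

end Cfsg.Agent.S4108
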