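-- Statement S4112: Camina triples and Frobenius triples.
import Mathlib
import Cfsg.Statements.S4112

set_option autoImplicit false
open Cfsg

namespace Cfsg.Agent.S4112

open MulAction in
/-- In a finite `p`-group, a nontrivial normal subgroup contains a nontrivial central element. -/
theorem exists_mem_center_of_normal {Q : Type*} [Group Q] [Finite Q] {p : ℕ} [Fact p.Prime]
    (hQ : IsPGroup p Q) (D : Subgroup Q) [D.Normal] (hD : D ≠ ⊥) :
    ∃ b ∈ D, b ≠ 1 ∧ b ∈ Subgroup.center Q := by
  have hQ' : IsPGroup p (ConjAct Q) := hQ.of_equiv ConjAct.toConjAct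
  have hDp : IsPGroup p D := hQ.to_subgroup D
  haveI : Nontrivial D := (Subgroup.nontrivial_iff_ne_bot D).mpr hD
  have hdvd : p ∣ Nat.card D := by
    obtain ⟨n, hn0, hn⟩ := hDp.nontrivial_iff_card.mp inferInstance
    exact hn.symm ▸ dvd_pow_self _ (ne_of_gt hn0)
  have h1 : (1 : D) ∈ fixedPoints (ConjAct Q) D := by
    intro g
    exact smul_one g
  obtain ⟨b, hb, hb1⟩ := hQ'.exists_fixed_point_of_prime_dvd_card_of_fixed_point D hdvd h1
  refine ⟨b, b.2, ?_, ?_⟩
  · intro h
    apply hb1
    exact (Subtype.ext h).symm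
  · rw [Subgroup.mem_center_iff]
    intro g
    have := hb (ConjAct.toConjAct g)
    have h2 : ((ConjAct.toConjAct g • b : D) : Q) = (b : Q) := by rw [this]
    rw [ConjAct.Subgroup.val_conj_smul, ConjAct.smul_def, ConjAct.ofConjAct_toConjAct] at h2
    calc g * (b : Q) = g * (b : Q) * g⁻¹ * g := by group
      _ = (b : Q) * g := by rw [h2]

/-- If `x ^ n ∈ K` and `n` is coprime to the order of `x`, then `x ∈ K`. -/
theorem mem_of_pow_mem_of_coprime {G : Type*} [Group G] (K : Subgroup G) (x : G) (n : ℕ)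
    (hn : n.Coprime (orderOf x)) (hx : x ^ n ∈ K) : x ∈ K := by
  obtain ⟨m, hm⟩ := exists_pow_eq_self_of_coprime hn
  rw [← hm]
  exact K.pow_mem hx m

/-- Supplements avoiding a subgroup of coprime order: if `K ⊴ H`, `M' ≤ K` and `|H : K|` is coprime
to `|M'|`, then `K` has a supplement meeting `M'` trivially. -/
theorem exists_supplement : ∀ (n : ℕ) (H : Type*) [Group H] [Finite H], Nat.card H = n →
    ∀ (K M' : Subgroup H) [K.Normal], M' ≤ K → (K.index).Coprime (Nat.card M') →
    ∃ H' : Subgroup H, H' ⊔ K = ⊤ ∧ H' ⊓ M' = ⊥ := by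
  intro n
  induction n using Nat.strong_induction_on with
  | _ n ih =>
  intro H _ _ hcard K M' hKn hMK hcop
  by_cases hM1 : M' = ⊥
  · exact ⟨⊤, by simp, by rw [hM1]; simp⟩
  -- a prime q dividing |M'|
  have hcardM : Nat.card M' ≠ 1 := by
    intro h1
    exact hM1 ((Subgroup.card_eq_one).mp h1)
  obtain ⟨q, hq, hqM⟩ := Nat.exists_prime_and_dvd hcardM
  haveI : Fact q.Prime := ⟨hq⟩
  have hqK : q ∣ Nat.card K := dvd_trans hqM (Subgroup.card_dvd_of_le hMK)
  have hqH : q ∣ Nat.card H := dvd_trans hqK (Subgroup.card_subgroup_dvd_card K)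
  have hqidx : ¬ q ∣ K.index := by
    intro hcon
    have := Nat.Coprime.eq_one_of_dvd ((Nat.Coprime.coprime_dvd_right hqM hcop).symm) hcon
    exact hq.one_lt.ne' this
  -- a Sylow q-subgroup Q of H lies in K
  obtain ⟨Q⟩ := (Sylow.nonempty : Nonempty (Sylow q H))
  have hQK : (Q : Subgroup H) ≤ K := by
    intro x hx
    apply mem_of_pow_mem_of_coprime K x K.index _ (Subgroup.pow_index_mem K x)
    obtain ⟨k, hk⟩ := (IsPGroup.iff_orderOf.mp Q.isPGroup') ⟨x, hx⟩
    rw [Subgroup.orderOf_mk] at hk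
    rw [hk]
    exact Nat.Coprime.pow_right k ((Nat.Prime.coprime_iff_not_dvd hq).mpr hqidx).symm
  have hQ1 : (Q : Subgroup H) ≠ ⊥ := Q.ne_bot_of_dvd_card hqH
  -- a proper supplement H₁ of K
  have hex : ∃ H₁ : Subgroup H, H₁ ≠ ⊤ ∧ H₁ ⊔ K = ⊤ := by
    by_cases hQn : (Q : Subgroup H).Normal
    · -- Schur–Zassenhaus
      obtain ⟨C, hC⟩ := Subgroup.exists_right_complement'_of_coprime (N := (Q : Subgroup H)) Q.card_coprime_index
      refine ⟨C, ?_, ?_⟩
      · intro hCtop
        have h1 := hC.card_mul_card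
        rw [hCtop, Subgroup.card_top] at h1
        have h2 : Nat.card (Q : Subgroup H) = 1 := by
          have hpos : 0 < Nat.card H := Nat.card_pos
          have : Nat.card (Q : Subgroup H) * Nat.card H = 1 * Nat.card H := by rw [h1, one_mul]
          exact Nat.eq_of_mul_eq_mul_right hpos this
        exact hQ1 (Subgroup.card_eq_one.mp h2)
      · have h1 := hC.sup_eq_top
        rw [eq_top_iff, ← h1]
        rw [sup_comm]
        exact sup_le_sup_left hQK C
    · -- Frattini argument
      have hfr := Sylow.normalizer_sup_eq_top (Q.subtype hQK)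
      have hmap : Subgroup.map K.subtype ((Q.subtype hQK : Sylow q K) : Subgroup K) = (Q : Subgroup H) := by
        rw [Sylow.coe_subtype, Subgroup.subgroupOf_map_subtype, inf_eq_left.mpr hQK]
      rw [hmap] at hfr
      refine ⟨Subgroup.normalizer ((Q : Subgroup H) : Set H), ?_, hfr⟩
      intro hcon
      exact hQn (Subgroup.normalizer_eq_top_iff.mp hcon)
  obtain ⟨H₁, hH₁top, hH₁K⟩ := hex
  -- apply the induction hypothesis to H₁
  have hlt : Nat.card H₁ < n := by
    rw [← hcard]
    refine lt_of_le_of_ne (Subgroup.card_le_card_group H₁) ?_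
    intro heq
    exact hH₁top (Subgroup.eq_top_of_card_eq H₁ heq)
  have hidx : (K.subgroupOf H₁).index = K.index := by
    have h1 : (K.subgroupOf H₁).index = K.relIndex H₁ := rfl
    rw [h1, ← Subgroup.relIndex_sup_right H₁ K, hH₁K, Subgroup.relIndex_top_right]
  have hcardM₁ : Nat.card (M'.subgroupOf H₁) ∣ Nat.card M' := by
    rw [← Subgroup.inf_subgroupOf_right]
    rw [Nat.card_congr (Subgroup.subgroupOfEquivOfLe (inf_le_right : M' ⊓ H₁ ≤ H₁)).toEquiv]
    exact Subgroup.card_dvd_of_le inf_le_left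
  have hcop₁ : ((K.subgroupOf H₁).index).Coprime (Nat.card (M'.subgroupOf H₁)) := by
    rw [hidx]
    exact Nat.Coprime.coprime_dvd_right hcardM₁ hcop
  have hle₁ : M'.subgroupOf H₁ ≤ K.subgroupOf H₁ := by
    intro x hx
    rw [Subgroup.mem_subgroupOf] at hx ⊢
    exact hMK hx
  obtain ⟨H', hH'1, hH'2⟩ := ih (Nat.card H₁) hlt H₁ rfl (K.subgroupOf H₁) (M'.subgroupOf H₁) hle₁ hcop₁
  refine ⟨H'.map H₁.subtype, ?_, ?_⟩
  · rw [eq_top_iff, ← hH₁K]
    apply sup_le _ le_sup_right
    -- H₁ ≤ H'.map ⊔ K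
    intro x hx
    have hxtop : (⟨x, hx⟩ : H₁) ∈ H' ⊔ K.subgroupOf H₁ := by rw [hH'1]; exact Subgroup.mem_top _
    obtain ⟨a, ha, b, hb, hab⟩ := Subgroup.mem_sup_of_normal_right.mp hxtop
    have hx' : x = (a : H) * (b : H) := by
      have := congrArg Subtype.val hab
      simpa using this.symm
    rw [hx']
    apply Subgroup.mul_mem
    · exact Subgroup.mem_sup_left (Subgroup.mem_map_of_mem _ ha)
    · exact Subgroup.mem_sup_right (Subgroup.mem_subgroupOf.mp hb)
  · rw [eq_bot_iff]
    intro x hx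
    obtain ⟨hx1, hx2⟩ := Subgroup.mem_inf.mp hx
    obtain ⟨y, hy, rfl⟩ := Subgroup.mem_map.mp hx1
    have hyM : y ∈ M'.subgroupOf H₁ := Subgroup.mem_subgroupOf.mpr hx2
    have : y ∈ H' ⊓ M'.subgroupOf H₁ := Subgroup.mem_inf.mpr ⟨hy, hyM⟩
    rw [hH'2, Subgroup.mem_bot] at this
    rw [Subgroup.mem_bot, this]
    simp

/-- Let G be a finite group and M ≤ N non-trivial proper normal subgroups such that for every g outside N the conjugacy class of g is a union of cosets of M (equivalently gm is conjugate to g for every m ∈ M). Then (1) and (2) below are equivalent, and they imply (3): (1) every g outside N acts fixed-point-freely on M, that is C_G(x) ≤ N for every x ∈ M, x ≠ 1; (2) the index of N in G is coprime to the order of M; (3) there is a subgroup H of G with HN = G and H ∩ M = 1. -/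
theorem result {G : Type*} [Group G] [Finite G] (N M : Subgroup G) [N.Normal] [M.Normal] (hMN : M ≤ N) (hM1 : M ≠ ⊥) (hN2 : N ≠ ⊤)
    (hcam : ∀ g : G, g ∉ N → ∀ m ∈ M, ∃ x : G, x * g * x⁻¹ = g * m) :
    ((∀ x ∈ M, x ≠ 1 → Subgroup.centralizer ({x} : Set G) ≤ N) ↔ N.index.Coprime (Nat.card M)) ∧
    ((∀ x ∈ M, x ≠ 1 → Subgroup.centralizer ({x} : Set G) ≤ N) → ∃ H : Subgroup G, H ⊔ N = ⊤ ∧ H ⊓ M = ⊥) := by
  have hNn : N.Normal := inferInstance
  have hMn : M.Normal := inferInstance
  -- (1) ⇒ (2)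
  have h12 : (∀ x ∈ M, x ≠ 1 → Subgroup.centralizer ({x} : Set G) ≤ N) → N.index.Coprime (Nat.card M) := by
    intro hF
    apply Nat.coprime_of_dvd
    intro q hq hqidx hqM
    haveI : Fact q.Prime := ⟨hq⟩
    -- an element of order q in M
    obtain ⟨m, hm⟩ := exists_prime_orderOf_dvd_card' (G := M) q hqM
    -- the cyclic group it generates lies in a Sylow q-subgroup Q of G
    have hpg : IsPGroup q (Subgroup.zpowers (m : G)) := by
      rw [IsPGroup.iff_card]
      refine ⟨1, ?_⟩
      rw [Nat.card_zpowers, Subgroup.orderOf_coe, hm, pow_one]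
    obtain ⟨Q, hQ⟩ := hpg.exists_le_sylow
    have hmQ : (m : G) ∈ (Q : Subgroup G) := hQ (Subgroup.mem_zpowers _)
    -- D = M ∩ Q inside Q
    set D : Subgroup (Q : Subgroup G) := M.subgroupOf (Q : Subgroup G) with hD
    have hDne : D ≠ ⊥ := by
      intro hbot
      have : (⟨(m : G), hmQ⟩ : (Q : Subgroup G)) ∈ D := Subgroup.mem_subgroupOf.mpr m.2
      rw [hbot, Subgroup.mem_bot] at this
      have h1 : (m : G) = 1 := congrArg Subtype.val this
      have h2 : orderOf (m : G) = q := by rw [Subgroup.orderOf_coe, hm]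
      rw [h1, orderOf_one] at h2
      exact hq.one_lt.ne h2
    obtain ⟨b, hbD, hb1, hbZ⟩ := exists_mem_center_of_normal Q.isPGroup' D hDne
    have hbM : (b : G) ∈ M := Subgroup.mem_subgroupOf.mp hbD
    have hb1' : (b : G) ≠ 1 := fun h => hb1 (Subtype.ext h)
    have hQN : (Q : Subgroup G) ≤ N := by
      intro y hy
      apply hF (b : G) hbM hb1'
      rw [Subgroup.mem_centralizer_singleton_iff]
      have := Subgroup.mem_center_iff.mp hbZ ⟨y, hy⟩
      exact congrArg Subtype.val this
    have h1 : N.index ∣ (Q : Subgroup G).index := Subgroup.index_dvd_of_le hQN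
    exact Q.not_dvd_index (dvd_trans hqidx h1)
  refine ⟨⟨h12, ?_⟩, ?_⟩
  · -- (2) ⇒ (1)
    intro hcop x hxM hx1 g hg
    rw [Subgroup.mem_centralizer_singleton_iff] at hg
    by_contra hgN
    -- a prime q dividing the order of x
    have hox : orderOf x ≠ 1 := fun h => hx1 (orderOf_eq_one_iff.mp h)
    obtain ⟨q, hq, hqx⟩ := Nat.exists_prime_and_dvd hox
    have hqM : q ∣ Nat.card M := by
      have h1 : orderOf (⟨x, hxM⟩ : M) ∣ Nat.card M := orderOf_dvd_natCard _
      rw [Subgroup.orderOf_mk] at h1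
      exact dvd_trans hqx h1
    have hqidx : q.Coprime N.index := (Nat.Coprime.coprime_dvd_right hqM hcop).symm
    -- x' of order q
    set x' := x ^ (orderOf x / q) with hx'
    have hox' : orderOf x' = q := orderOf_pow_orderOf_div (orderOf_pos x).ne' hqx
    have hx'M : x' ∈ M := M.pow_mem hxM _
    have hgx' : Commute g x' := (Commute.pow_right hg _)
    -- g' = g ^ (q ^ a), of order prime to q, not in N
    set o := orderOf g with ho
    have hopos : 0 < o := orderOf_pos g
    set a := o.factorization q with ha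
    set g' := g ^ (q ^ a) with hg'
    have hog' : orderOf g' = o / q ^ a := by
      rw [hg', orderOf_pow, ← ho, Nat.gcd_eq_right (Nat.ordProj_dvd o q)]
    have hcopg' : (orderOf g').Coprime q := by
      rw [hog']
      exact (Nat.coprime_ordCompl hq hopos.ne').symm
    have hg'N : g' ∉ N := by
      intro hcon
      apply hgN
      -- order of gN divides q^a and N.index
      have h1 : ((g : G) : G ⧸ N) ^ (q ^ a) = 1 := by
        rw [← QuotientGroup.mk_pow]
        exact (QuotientGroup.eq_one_iff _).mpr hcon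
      have h2 : ((g : G) : G ⧸ N) ^ N.index = 1 := by
        rw [← QuotientGroup.mk_pow]
        exact (QuotientGroup.eq_one_iff _).mpr (Subgroup.pow_index_mem N g)
      have h3 : orderOf ((g : G) : G ⧸ N) ∣ Nat.gcd (q ^ a) N.index :=
        Nat.dvd_gcd (orderOf_dvd_of_pow_eq_one h1) (orderOf_dvd_of_pow_eq_one h2)
      have h4 : Nat.gcd (q ^ a) N.index = 1 := Nat.Coprime.pow_left a hqidx
      rw [h4, Nat.dvd_one, orderOf_eq_one_iff] at h3
      exact (QuotientGroup.eq_one_iff g).mp h3
    have hg'x' : Commute g' x' := Commute.pow_left hgx' _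
    obtain ⟨t, ht⟩ := hcam g' hg'N x' hx'M
    have h5 : orderOf (g' * x') = orderOf g' := by
      rw [← ht]
      exact (SemiconjBy.orderOf_eq t (SemiconjBy.conj_mk t g')).symm
    rw [hg'x'.orderOf_mul_eq_mul_orderOf_of_coprime (by rw [hox']; exact hcopg'), hox'] at h5
    have hpos : 0 < orderOf g' := orderOf_pos g'
    have h6 : orderOf g' * q = orderOf g' * 1 := by rw [h5, mul_one]
    have := Nat.eq_of_mul_eq_mul_left hpos h6
    exact hq.one_lt.ne' this
  · -- (1) ⇒ (3)
    intro hF
    have hcop := h12 hF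
    exact exists_supplement (Nat.card G) G rfl N M hMN hcop

end Cfsg.Agent.S4112
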