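-- Statement S4113: Frobenius triple iff Frobenius–Wielandt triple.
import Mathlib
import Cfsg.Statements.S4113

set_option autoImplicit false
open Cfsg

namespace Cfsg.Agent.S4113

/-- Let G be a finite group, M ≤ N non-trivial proper normal subgroups, and H a subgroup with HM = G and H ∩ M = 1. Then every element of G outside N acts fixed-point-freely on M (C_G(x) ≤ N for every x ∈ M, x ≠ 1) if and only if H ∩ gHg⁻¹ ≤ H ∩ N for every g outside H, with H proper and non-trivial and H ∩ N proper in H. -/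
theorem result {G : Type*} [Group G] [Finite G] (N M : Subgroup G) [N.Normal] [M.Normal] (hMN : M ≤ N) (hM1 : M ≠ ⊥) (hN2 : N ≠ ⊤)
    (H : Subgroup G) (hHM : H ⊔ M = ⊤) (hHM' : H ⊓ M = ⊥) :
    (∀ x ∈ M, x ≠ 1 → Subgroup.centralizer ({x} : Set G) ≤ N) ↔
      (H ≠ ⊥ ∧ H ≠ ⊤ ∧ H ⊓ N < H ∧ ∀ g : G, g ∉ H → H ⊓ H.map (MulAut.conj g).toMonoidHom ≤ N) := by
  have hNn : N.Normal := inferInstance
  have hMn : M.Normal := inferInstance
  -- every element factors as h * m
  have hfac : ∀ g : G, ∃ h ∈ H, ∃ m ∈ M, h * m = g := by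
    intro g
    have : g ∈ H ⊔ M := by rw [hHM]; exact Subgroup.mem_top g
    exact Subgroup.mem_sup_of_normal_right.mp this
  have hHMtriv : ∀ z : G, z ∈ H → z ∈ M → z = 1 := by
    intro z hz1 hz2
    have : z ∈ H ⊓ M := Subgroup.mem_inf.mpr ⟨hz1, hz2⟩
    rw [hHM'] at this
    exact Subgroup.mem_bot.mp this
  constructor
  · intro hA
    refine ⟨?_, ?_, ?_, ?_⟩
    · intro hbot
      rw [hbot, bot_sup_eq] at hHM
      apply hN2
      rw [eq_top_iff, ← hHM]
      exact hMN
    · intro htop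
      rw [htop, top_inf_eq] at hHM'
      exact hM1 hHM'
    · refine lt_of_le_of_ne inf_le_left ?_
      intro heq
      have hHN : H ≤ N := by
        rw [← heq]; exact inf_le_right
      apply hN2
      rw [eq_top_iff, ← hHM]
      exact sup_le hHN hMN
    · intro g hg y hy
      obtain ⟨hy1, hy2⟩ := Subgroup.mem_inf.mp hy
      obtain ⟨y', hy', hyy'⟩ := Subgroup.mem_map.mp hy2
      have hyy'' : g * y' * g⁻¹ = y := hyy'
      obtain ⟨h, hh, m, hm, hhm⟩ := hfac g
      have hm1 : m ≠ 1 := by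
        intro h1
        apply hg
        rw [← hhm, h1, mul_one]
        exact hh
      -- y'' = h⁻¹ y h = m y' m⁻¹
      have hy'' : h⁻¹ * y * h ∈ H := H.mul_mem (H.mul_mem (H.inv_mem hh) hy1) hh
      have heq1 : h⁻¹ * y * h = m * y' * m⁻¹ := by
        rw [← hyy'', ← hhm]
        group
      -- (m y' m⁻¹) y'⁻¹ ∈ M ∩ H
      have hinM : m * y' * m⁻¹ * y'⁻¹ ∈ M := by
        have h1 : y' * m⁻¹ * y'⁻¹ ∈ M := hMn.conj_mem _ (M.inv_mem hm) y'
        have h2 := M.mul_mem hm h1
        have e : m * (y' * m⁻¹ * y'⁻¹) = m * y' * m⁻¹ * y'⁻¹ := by group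
        rwa [e] at h2
      have hinH : m * y' * m⁻¹ * y'⁻¹ ∈ H := by
        rw [← heq1]
        exact H.mul_mem hy'' (H.inv_mem hy')
      have h1 := hHMtriv _ hinH hinM
      have hcomm : y' * m = m * y' := by
        have e : m * y' = (m * y' * m⁻¹ * y'⁻¹) * (y' * m) := by group
        rw [e, h1, one_mul]
      have hy'N : y' ∈ N := by
        apply hA m hm hm1
        rw [Subgroup.mem_centralizer_singleton_iff]
        exact hcomm
      rw [← hyy'']
      exact hNn.conj_mem _ hy'N g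
  · rintro ⟨_, _, _, hB⟩ x hx hx1 g hg
    rw [Subgroup.mem_centralizer_singleton_iff] at hg
    -- Step 1: elements of H commuting with a nontrivial element of M lie in N
    have step1 : ∀ x' ∈ M, x' ≠ 1 → ∀ y ∈ H, y * x' = x' * y → y ∈ N := by
      intro x' hx' hx'1 y hy hc
      have hx'H : x' ∉ H := fun hcon => hx'1 (hHMtriv _ hcon hx')
      apply hB x' hx'H
      refine Subgroup.mem_inf.mpr ⟨hy, Subgroup.mem_map.mpr ⟨y, hy, ?_⟩⟩
      show x' * y * x'⁻¹ = y
      rw [← hc]; group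
    by_contra hgN
    obtain ⟨h, hh, m, hm, hhm⟩ := hfac g
    have hhN : h ∉ N := by
      intro hcon
      apply hgN
      rw [← hhm]
      exact N.mul_mem hcon (hMN hm)
    -- h commutes with no nontrivial element of M
    have hfpf : ∀ x' ∈ M, h * x' = x' * h → x' = 1 := by
      intro x' hx' hc
      by_contra hne
      exact hhN (step1 x' hx' hne h hh hc)
    -- the map ψ : M → M, y ↦ h⁻¹ y h y⁻¹
    let ψ : M → M := fun y => ⟨h⁻¹ * y * h * (y : G)⁻¹, by
      have h1 : h⁻¹ * (y : G) * h⁻¹⁻¹ ∈ M := hMn.conj_mem _ y.2 h⁻¹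
      rw [inv_inv] at h1
      exact M.mul_mem h1 (M.inv_mem y.2)⟩
    have hinj : Function.Injective ψ := by
      intro y y' hyy
      have h1 : h⁻¹ * (y : G) * h * (y : G)⁻¹ = h⁻¹ * (y' : G) * h * (y' : G)⁻¹ :=
        congrArg Subtype.val hyy
      have h2 : h * ((y' : G)⁻¹ * y) = ((y' : G)⁻¹ * y) * h := by
        have e1 : (y : G) * h * (y : G)⁻¹ = (y' : G) * h * (y' : G)⁻¹ := by
          have := congrArg (fun t => h * t) h1
          beta_reduce at this
          have ea : h * (h⁻¹ * (y : G) * h * (y : G)⁻¹) = (y : G) * h * (y : G)⁻¹ := by group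
          have eb : h * (h⁻¹ * (y' : G) * h * (y' : G)⁻¹) = (y' : G) * h * (y' : G)⁻¹ := by group
          rw [ea, eb] at this
          exact this
        have e2 : h * ((y' : G)⁻¹ * y) = (y' : G)⁻¹ * ((y' : G) * h * (y' : G)⁻¹) * y := by group
        rw [e2, ← e1]; group
      have h3 := hfpf _ (M.mul_mem (M.inv_mem y'.2) y.2) h2
      apply Subtype.ext
      have : (y : G) = (y' : G) * ((y' : G)⁻¹ * y) := by group
      rw [this, h3, mul_one]
    have hsurj : Function.Surjective ψ := Finite.injective_iff_surjective.mp hinj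
    obtain ⟨y, hy⟩ := hsurj ⟨m, hm⟩
    have hy' : h⁻¹ * (y : G) * h * (y : G)⁻¹ = m := congrArg Subtype.val hy
    have hg' : g = (y : G) * h * (y : G)⁻¹ := by
      rw [← hhm, ← hy']; group
    -- h commutes with y⁻¹ x y
    have hc : h * ((y : G)⁻¹ * x * y) = ((y : G)⁻¹ * x * y) * h := by
      rw [hg'] at hg
      have e1 : h * ((y : G)⁻¹ * x * y) = (y : G)⁻¹ * ((y : G) * h * (y : G)⁻¹ * x) * y := by group
      rw [e1, hg]; group
    have hmem : (y : G)⁻¹ * x * y ∈ M := by
      have := hMn.conj_mem _ hx (y : G)⁻¹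
      rwa [inv_inv] at this
    have h1 := hfpf _ hmem hc
    apply hx1
    have : x = (y : G) * ((y : G)⁻¹ * x * y) * (y : G)⁻¹ := by group
    rw [this, h1]; group

end Cfsg.Agent.S4113
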