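-- Statement S4126: elements of order p (and 4 when p = 2) of p-power class size force a normal
-- p-complement. Via S1946 (control of fusion of elements of order p / dividing 4).
import Cfsg.Statements.S4126
import Cfsg.Agent.S1946

set_option autoImplicit false
open Cfsg

namespace Cfsg.Agent.S4126

open MulAction

/-- Orbits of a Sylow `p`-subgroup of a transitive group: if `p ^ a` divides the degree, it divides
the size of every orbit of the Sylow subgroup. -/
theorem pow_dvd_ncard_orbit_sylow {G Ω : Type*} [Group G] [Finite G] [MulAction G Ω]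
    [IsPretransitive G Ω] {p : ℕ} [Fact p.Prime] (P : Sylow p G) (a : ℕ)
    (h : p ^ a ∣ Nat.card Ω) (ω : Ω) : p ^ a ∣ (orbit (P : Subgroup G) ω).ncard := by
  rw [← index_stabilizer]
  have key : (stabilizer G ω).subgroupOf (P : Subgroup G) = stabilizer (P : Subgroup G) ω := by
    ext; rfl
  rw [← key]
  change p ^ a ∣ (stabilizer G ω).relIndex (P : Subgroup G)
  have h1 : ((stabilizer G ω) ⊓ P).relIndex P * (P : Subgroup G).index =
      ((stabilizer G ω) ⊓ P).index := Subgroup.relIndex_mul_index inf_le_right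
  have h2 : ((stabilizer G ω) ⊓ P).relIndex (stabilizer G ω) * (stabilizer G ω).index =
      ((stabilizer G ω) ⊓ P).index := Subgroup.relIndex_mul_index inf_le_left
  rw [index_stabilizer_of_transitive] at h2
  have h3 : p ^ a ∣ ((stabilizer G ω) ⊓ P).relIndex P * (P : Subgroup G).index := by
    rw [h1, ← h2]; exact Dvd.dvd.mul_left h _
  have hcop : Nat.Coprime (p ^ a) (P : Subgroup G).index := by
    apply Nat.Coprime.pow_left
    exact (Nat.Prime.coprime_iff_not_dvd Fact.out).mpr P.not_dvd_index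
  rw [← Subgroup.inf_relIndex_right]
  exact hcop.dvd_of_dvd_mul_right h3

/-- A Sylow `p`-subgroup of a transitive group of degree `p ^ f` is transitive. -/
theorem sylow_orbit_eq_univ {G Ω : Type*} [Group G] [Finite G] [MulAction G Ω] [Finite Ω]
    [IsPretransitive G Ω] {p f : ℕ} [Fact p.Prime] (hΩ : Nat.card Ω = p ^ f) (P : Sylow p G)
    (ω : Ω) : orbit (P : Subgroup G) ω = Set.univ := by
  have hdvd := pow_dvd_ncard_orbit_sylow P f (by rw [hΩ]) ω
  apply Set.eq_of_subset_of_ncard_le (Set.subset_univ _) ?_ Set.finite_univ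
  rw [Set.ncard_univ, hΩ]
  refine Nat.le_of_dvd ?_ hdvd
  exact (Set.ncard_pos (Set.toFinite _)).mpr (nonempty_orbit ω)

/-- If `C` has `p`-power index then `G = P C` for every Sylow `p`-subgroup `P`. -/
theorem exists_sylow_mul_of_index_pow {G : Type*} [Group G] [Finite G] {p : ℕ} [Fact p.Prime]
    (P : Sylow p G) (C : Subgroup G) {k : ℕ} (hC : C.index = p ^ k) (g : G) :
    ∃ x ∈ (P : Subgroup G), ∃ c ∈ C, g = x * c := by
  have h := sylow_orbit_eq_univ (Ω := G ⧸ C) (by rw [← Subgroup.index_eq_card]; exact hC) P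
    (QuotientGroup.mk 1 : G ⧸ C)
  have hg := Set.eq_univ_iff_forall.mp h (QuotientGroup.mk g : G ⧸ C)
  obtain ⟨x, hx⟩ := hg
  refine ⟨x, x.2, (x : G)⁻¹ * g, ?_, by group⟩
  have h1 : (QuotientGroup.mk ((x : G) * 1) : G ⧸ C) = QuotientGroup.mk g := hx
  rw [mul_one] at h1
  exact QuotientGroup.eq.mp h1

/-- Let G be a finite group and p a prime. Suppose every element of order p, and when p = 2 also every element of order 4, has a conjugacy class of p-power size. Then G has a normal p-complement. -/
theorem result {G : Type*} [Group G] [Finite G] (p : ℕ) [Fact p.Prime]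
    (h : ∀ x : G, (orderOf x = p ∨ (p = 2 ∧ orderOf x = 4)) → ∃ a : ℕ, (Subgroup.centralizer ({x} : Set G)).index = p ^ a) :
    Cfsg.HasNormalPComplement p G := by
  have hp : p.Prime := Fact.out
  obtain ⟨P⟩ := (inferInstance : Nonempty (Sylow p G))
  rw [Cfsg.Agent.S1946.result P]
  intro a _ ha g _
  by_cases ha1 : a = 1
  · exact ⟨1, one_mem _, by rw [ha1]; group⟩
  have hidx : ∃ k : ℕ, (Subgroup.centralizer ({a} : Set G)).index = p ^ k := by
    apply h
    rcases ha with ha | ⟨hp2, ha4⟩
    · left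
      rcases (Nat.dvd_prime hp).mp (orderOf_dvd_of_pow_eq_one ha) with h1 | h1
      · exact absurd (orderOf_eq_one_iff.mp h1) ha1
      · exact h1
    · have h4 : orderOf a ∣ 2 ^ 2 := orderOf_dvd_of_pow_eq_one (by norm_num; exact ha4)
      obtain ⟨m, hm, hom⟩ := (Nat.dvd_prime_pow Nat.prime_two).mp h4
      interval_cases m
      · rw [pow_zero] at hom
        exact absurd (orderOf_eq_one_iff.mp hom) ha1
      · left; rw [hom, hp2, pow_one]
      · right; exact ⟨hp2, by rw [hom]; norm_num⟩
  obtain ⟨k, hk⟩ := hidx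
  obtain ⟨x, hxP, c, hc, hgxc⟩ := exists_sylow_mul_of_index_pow P _ hk g
  refine ⟨x, hxP, ?_⟩
  have hca : c * a = a * c := Subgroup.mem_centralizer_singleton_iff.mp hc
  rw [hgxc]
  calc x * c * a * (x * c)⁻¹ = x * (c * a) * c⁻¹ * x⁻¹ := by group
    _ = x * (a * c) * c⁻¹ * x⁻¹ := by rw [hca]
    _ = x * a * x⁻¹ := by group

end Cfsg.Agent.S4126
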