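import Cfsg.Statements.S4130
import Cfsg.Agent.Helper74.SqfAsmE

set_option autoImplicit false
open Cfsg

namespace Cfsg.Agent.S4130

/-- Let G be a finite group all of whose conjugacy class sizes are square-free. Then G is supersolvable, G/F(G) and the derived subgroup G′ are cyclic of square-free order (F(G) the Fitting subgroup, which is normal), F(G) has nilpotency class at most 2, and G is metabelian. -/
theorem result {G : Type*} [Group G] [Finite G]
    (h : ∀ x : G, Squarefree (Subgroup.centralizer ({x} : Set G)).index) :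
    Cfsg.IsSupersolvable G ∧ (Cfsg.fittingSubgroup G).Normal ∧
    (∀ _h : (Cfsg.fittingSubgroup G).Normal, IsCyclic (G ⧸ Cfsg.fittingSubgroup G) ∧ Squarefree (Cfsg.fittingSubgroup G).index) ∧
    IsCyclic (commutator G) ∧ Squarefree (Nat.card (commutator G)) ∧
    Subgroup.upperCentralSeries ↥(Cfsg.fittingSubgroup G) 2 = ⊤ ∧ commutator ↥(commutator G) = ⊥ := by
  have hSF : Cfsg.Agent.Helper74.Sqf.SF G := h
  obtain ⟨hF, hidx, hle⟩ := hSF.fitting_facts
  have hcyc := hSF.isCyclic_commutator
  refine ⟨hSF.isSupersolvable, inferInstance, ?_, hcyc, hSF.squarefree_card_commutator, ?_, ?_⟩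
  · intro _h
    have hsq : Squarefree (Cfsg.fittingSubgroup G).index := by rw [hF]; exact hidx
    refine ⟨?_, hsq⟩
    have hcomm : IsMulCommutative (G ⧸ Cfsg.fittingSubgroup G) := by
      rw [Subgroup.Normal.quotient_commutative_iff_commutator_le, hF]
      exact hle
    haveI : Group.IsNilpotent (G ⧸ Cfsg.fittingSubgroup G) :=
      ⟨⟨1, Subgroup.upperCentralSeries_one_eq_top_iff.mpr hcomm⟩⟩
    haveI : IsZGroup (G ⧸ Cfsg.fittingSubgroup G) := by
      apply IsZGroup.of_squarefree
      rw [← Subgroup.index_eq_card]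
      exact hsq
    infer_instance
  · exact Cfsg.Agent.Helper74.Sqf.upperCentralSeries_two_eq_top_of_le _ hF.le
  · haveI := hcyc
    rw [commutator_eq_bot_iff_center_eq_top, Subgroup.center_eq_top_iff]
    exact ⟨⟨fun a b => (IsCyclic.commGroup (α := commutator G)).mul_comm a b⟩⟩

end Cfsg.Agent.S4130
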