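-- Statement S4365 (Cfsg.fg11_p_group_with_two_class_sizes_central_quotient_exponent_p)
import Cfsg.Statements.S4365

set_option autoImplicit false
set_option linter.unusedSectionVars false
set_option linter.style.haveILetI false
open Cfsg

namespace Cfsg.Agent.S4365

open Subgroup

variable {P : Type*} [Group P] [Finite P]

/-- abbreviation: centralizer of a single element -/
abbrev cz (x : P) : Subgroup P := centralizer ({x} : Set P)

theorem mem_center_iff_index (x : P) : x ∈ center P ↔ (cz x).index = 1 := by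
  rw [index_eq_one, centralizer_eq_top_iff_subset, Set.singleton_subset_iff]
  rfl

theorem eq_of_le_of_index_eq {H K : Subgroup P} (h : H ≤ K) (hi : H.index = K.index) : H = K := by
  apply le_antisymm h
  rw [← relIndex_eq_one]
  have h1 := relIndex_mul_index h
  rw [hi] at h1
  have hK : K.index ≠ 0 := index_ne_zero_of_finite
  exact (Nat.mul_eq_right hK).1 h1

section
variable (n : ℕ) (H : ∀ x : P, (cz x).index = 1 ∨ (cz x).index = n)
include H

theorem index_of_notMem {x : P} (hx : x ∉ center P) : (cz x).index = n := by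
  rcases H x with h | h
  · exact absurd ((mem_center_iff_index x).2 h) hx
  · exact h

theorem B1 {x y : P} (hx : x ∉ center P) (hy : y ∉ center P) (h : cz x ≤ cz y) : cz x = cz y :=
  eq_of_le_of_index_eq h (by rw [index_of_notMem n H hx, index_of_notMem n H hy])

theorem B2 {x : P} {k : ℕ} (hxk : x ^ k ∉ center P) : cz (x ^ k) = cz x := by
  have hx : x ∉ center P := fun h => hxk (pow_mem h k)
  symm
  apply B1 n H hx hxk
  intro g hg
  rw [mem_centralizer_singleton_iff] at hg ⊢
  exact ((Commute.pow_right (show Commute g x from hg) k)).eq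

end

theorem B3 {x c : P} (hc : c ∈ center P) : cz (x * c) = cz x := by
  ext g
  rw [mem_centralizer_singleton_iff, mem_centralizer_singleton_iff]
  have h1 : g * c = c * g := (mem_center_iff.1 hc g)
  constructor
  · intro h
    have : g * x * c = x * g * c := by
      calc g * x * c = g * (x * c) := by group
        _ = x * c * g := h
        _ = x * (c * g) := by group
        _ = x * (g * c) := by rw [h1]
        _ = x * g * c := by group
    exact mul_right_cancel this
  · intro h
    calc g * (x * c) = (g * x) * c := by group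
      _ = (x * g) * c := by rw [h]
      _ = x * (g * c) := by group
      _ = x * (c * g) := by rw [h1]
      _ = x * c * g := by group


/-- the quotient map onto `P / Z(P)` -/
abbrev qm : P →* P ⧸ center P := QuotientGroup.mk' (center P)

theorem qm_eq_one_iff {x : P} : qm x = 1 ↔ x ∈ center P := QuotientGroup.eq_one_iff x

section
variable (n : ℕ) (H : ∀ x : P, (cz x).index = 1 ∨ (cz x).index = n)
include H

theorem Q1 {u v : P} (hu : u ∉ center P) (hv : v ∉ center P) (hc : Commute (qm u) (qm v))
    (k : ℕ) (hvk : v ^ k ∈ center P) (huk : u ^ k ∉ center P) : cz u = cz v := by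
  -- `(u v)^k = u^k c` with `c` central
  have h1 : qm ((u * v) ^ k) = qm (u ^ k) := by
    rw [map_pow, map_mul, hc.mul_pow, ← map_pow, ← map_pow, qm_eq_one_iff.2 hvk, mul_one]
  have h2 : (u ^ k)⁻¹ * (u * v) ^ k ∈ center P := by
    rw [← qm_eq_one_iff, map_mul, map_inv, h1, inv_mul_cancel]
  have h3 : (u * v) ^ k = u ^ k * ((u ^ k)⁻¹ * (u * v) ^ k) := by group
  have huvk : (u * v) ^ k ∉ center P := by
    intro h
    apply huk
    have : u ^ k = (u * v) ^ k * ((u ^ k)⁻¹ * (u * v) ^ k)⁻¹ := by group
    rw [this]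
    exact mul_mem h (inv_mem h2)
  have e1 : cz ((u * v) ^ k) = cz u := by
    rw [h3, B3 h2, B2 n H huk]
  have e2 : cz (u * v) = cz u := by
    rw [← B2 n H huvk, e1]
  have hu_mem : u ∈ cz (u * v) := by
    rw [e2, mem_centralizer_singleton_iff]
  rw [mem_centralizer_singleton_iff] at hu_mem
  -- u * (u * v) = (u * v) * u
  apply B1 n H hu hv
  intro d hd
  have hd2 : d ∈ cz (u * v) := by rw [e2]; exact hd
  rw [mem_centralizer_singleton_iff] at hd hd2 ⊢
  -- d u = u d, d (u v) = (u v) d
  have : u * (d * v) = u * (v * d) := by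
    calc u * (d * v) = (u * d) * v := by group
      _ = (d * u) * v := by rw [hd]
      _ = d * (u * v) := by group
      _ = u * v * d := hd2
      _ = u * (v * d) := by group
  exact mul_left_cancel this

theorem Q2 (p : ℕ) (hP : IsPGroup p P) {u v : P} (hu : u ∉ center P) (hv : v ∉ center P)
    (hc : Commute (qm u) (qm v)) (hne : cz u ≠ cz v) : v ^ p ∈ center P := by
  by_contra hvp
  have key1 : ∀ k : ℕ, u ^ k ∈ center P ↔ v ^ k ∈ center P := by
    intro k
    constructor
    · intro h1
      by_contra h2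
      exact hne (Q1 n H hv hu hc.symm k h1 h2).symm
    · intro h1
      by_contra h2
      exact hne (Q1 n H hu hv hc k h1 h2)
  have hne' : cz u ≠ cz (v ^ p) := by rw [B2 n H hvp]; exact hne
  have hc' : Commute (qm u) (qm (v ^ p)) := by
    rw [map_pow]; exact hc.pow_right p
  have key2 : ∀ k : ℕ, u ^ k ∈ center P ↔ (v ^ p) ^ k ∈ center P := by
    intro k
    constructor
    · intro h1
      by_contra h2
      exact hne' (Q1 n H hvp hu hc'.symm k h1 h2).symm
    · intro h1
      by_contra h2
      exact hne' (Q1 n H hu hvp hc' k h1 h2)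
  have key3 : ∀ m : ℕ, v ^ (p ^ m) ∈ center P → v ∈ center P := by
    intro m
    induction m with
    | zero => intro h; simpa using h
    | succ m ih =>
      intro h
      apply ih
      rw [← key1, key2, ← pow_mul, ← pow_succ']
      exact h
  obtain ⟨m, hm⟩ := hP v
  exact hv (key3 m (by rw [hm]; exact one_mem _))

end


/-- If `z` is central modulo the center, its centralizer is normal. -/
theorem cz_normal_of_central_mod {z : P} (hz : qm z ∈ center (P ⧸ center P)) : (cz z).Normal := by
  constructor
  intro d hd t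
  rw [mem_centralizer_singleton_iff] at hd ⊢
  -- t⁻¹ z t = z c
  have h1 : qm (z⁻¹ * (t⁻¹ * z * t)) = 1 := by
    have := mem_center_iff.1 hz (qm t)
    -- this : qm t * qm z = qm z * qm t
    simp only [map_mul, map_inv]
    rw [mul_assoc, ← this, ← mul_assoc, ← mul_assoc]
    simp
  rw [qm_eq_one_iff] at h1
  set c := z⁻¹ * (t⁻¹ * z * t) with hcdef
  have hcz : t⁻¹ * z * t = z * c := by rw [hcdef]; group
  have hcc : ∀ g : P, g * c = c * g := fun g => mem_center_iff.1 h1 g
  -- goal: t d t⁻¹ z = z t d t⁻¹
  have e1 : t * d * t⁻¹ * z = t * (d * (t⁻¹ * z * t)) * t⁻¹ := by group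
  have e2 : z * (t * d * t⁻¹) = t * ((t⁻¹ * z * t) * d) * t⁻¹ := by group
  rw [e1, e2, hcz]
  congr 2
  calc d * (z * c) = (d * z) * c := by group
    _ = (z * d) * c := by rw [hd]
    _ = z * (d * c) := by group
    _ = z * (c * d) := by rw [hcc d]
    _ = z * c * d := by group


section
variable (n : ℕ) (H : ∀ x : P, (cz x).index = 1 ∨ (cz x).index = n)
include H

theorem exists_notMem_commute {x g : P} (D : Subgroup P) [hDn : D.Normal] (hD : cz x = D)
    (hx : x ∉ center P) (hall : ∀ v ∈ D, v ∉ center P → cz v = D) (hg : g ∉ D) :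
    ∃ u, u ∉ D ∧ Commute (qm u) (qm x) := by
  classical
  by_contra hcon
  push Not at hcon
  have hcon' : ∀ u : P, Commute (qm u) (qm x) → u ∈ D := fun u hu => by
    by_contra h; exact hcon u h hu
  have hZD : center P ≤ D := hD ▸ center_le_centralizer _
  have hgZ : g ∉ center P := fun h => hg (hZD h)
  have hxD : x ∈ D := by rw [← hD, mem_centralizer_singleton_iff]
  have hCgD : cz g ⊓ D ≤ center P := by
    rintro c ⟨hc1, hc2⟩
    have hc1' : c ∈ cz g := hc1
    have hc2' : c ∈ D := hc2
    by_contra hcZ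
    have h1 := hall c hc2' hcZ
    apply hg
    rw [← h1, mem_centralizer_singleton_iff]
    rw [mem_centralizer_singleton_iff] at hc1'
    exact hc1'.symm
  have hsurj : Function.Surjective (qm : P →* P ⧸ center P) := QuotientGroup.mk'_surjective _
  have hker : (qm : P →* P ⧸ center P).ker = center P := QuotientGroup.ker_mk' _
  have hBn : (D.map (qm : P →* P ⧸ center P)).Normal := hDn.map _ hsurj
  have hqxB : qm x ∈ D.map (qm : P →* P ⧸ center P) := mem_map_of_mem _ hxD
  let f : ↥((cz g).map (qm : P →* P ⧸ center P)) → ↥(D.map (qm : P →* P ⧸ center P)) :=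
    fun c => ⟨c.1 * qm x * c.1⁻¹, hBn.conj_mem _ hqxB _⟩
  have hf_inj : Function.Injective f := by
    rintro ⟨c1, hc1⟩ ⟨c2, hc2⟩ h
    obtain ⟨d1, hd1, rfl⟩ := hc1
    obtain ⟨d2, hd2, rfl⟩ := hc2
    have h' : qm d1 * qm x * (qm d1)⁻¹ = qm d2 * qm x * (qm d2)⁻¹ := congrArg Subtype.val h
    have hu : Commute (qm (d2⁻¹ * d1)) (qm x) := by
      show qm (d2⁻¹ * d1) * qm x = qm x * qm (d2⁻¹ * d1)
      rw [map_mul, map_inv]
      have e : qm d1 * qm x = qm d2 * qm x * (qm d2)⁻¹ * qm d1 := by
        rw [← h']; group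
      calc (qm d2)⁻¹ * qm d1 * qm x = (qm d2)⁻¹ * (qm d1 * qm x) := by group
        _ = (qm d2)⁻¹ * (qm d2 * qm x * (qm d2)⁻¹ * qm d1) := by rw [e]
        _ = qm x * ((qm d2)⁻¹ * qm d1) := by group
    have huD := hcon' _ hu
    have huC : d2⁻¹ * d1 ∈ cz g := mul_mem (inv_mem hd2) hd1
    have huZ := hCgD ⟨huC, huD⟩
    rw [← qm_eq_one_iff, map_mul, map_inv] at huZ
    apply Subtype.ext
    show qm d1 = qm d2
    have : qm d1 = qm d2 * ((qm d2)⁻¹ * qm d1) := by group
    rw [this, huZ, mul_one]
  have hf_nsurj : ¬ Function.Surjective f := by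
    intro hs
    obtain ⟨c, hc⟩ := hs 1
    have h' : c.1 * qm x * c.1⁻¹ = 1 := congrArg Subtype.val hc
    have : qm x = 1 := by
      have e : qm x = c.1⁻¹ * (c.1 * qm x * c.1⁻¹) * c.1 := by group
      rw [e, h']; group
    exact hx (qm_eq_one_iff.1 this)
  have hidxA : ((cz g).map (qm : P →* P ⧸ center P)).index = n := by
    rw [index_map_eq _ hsurj (by rw [hker]; exact center_le_centralizer _)]
    exact index_of_notMem n H hgZ
  have hidxB : (D.map (qm : P →* P ⧸ center P)).index = n := by
    rw [index_map_eq _ hsurj (by rw [hker]; exact hZD), ← hD]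
    exact index_of_notMem n H hx
  have hn0 : n ≠ 0 := by
    rw [← hidxA]; exact index_ne_zero_of_finite
  have hcard : Nat.card ↥((cz g).map (qm : P →* P ⧸ center P)) =
      Nat.card ↥(D.map (qm : P →* P ⧸ center P)) := by
    have h1 := card_mul_index ((cz g).map (qm : P →* P ⧸ center P))
    have h2 := card_mul_index (D.map (qm : P →* P ⧸ center P))
    rw [hidxA] at h1
    rw [hidxB, ← h1] at h2
    exact (Nat.eq_of_mul_eq_mul_right (Nat.pos_of_ne_zero hn0) h2).symm
  haveI := Fintype.ofFinite ↥((cz g).map (qm : P →* P ⧸ center P))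
  haveI := Fintype.ofFinite ↥(D.map (qm : P →* P ⧸ center P))
  have hlt := Fintype.card_lt_of_injective_not_surjective f hf_inj hf_nsurj
  rw [← Nat.card_eq_fintype_card, ← Nat.card_eq_fintype_card, hcard] at hlt
  exact lt_irrefl _ hlt

theorem main (p : ℕ) [Fact p.Prime] (hP : IsPGroup p P) (x : P) : x ^ p ∈ center P := by
  by_cases hx : x ∈ center P
  · exact pow_mem hx p
  have hqx : qm x ≠ 1 := fun h => hx (qm_eq_one_iff.1 h)
  haveI : Nontrivial (P ⧸ center P) := ⟨⟨qm x, 1, hqx⟩⟩
  have hPq : IsPGroup p (P ⧸ center P) := hP.to_quotient _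
  haveI := hPq.center_nontrivial
  obtain ⟨zb, hzb, hzb1⟩ := (Subgroup.nontrivial_iff_exists_ne_one (center (P ⧸ center P))).1 inferInstance
  obtain ⟨z, rfl⟩ := QuotientGroup.mk_surjective zb
  have hz : z ∉ center P := fun h => hzb1 (qm_eq_one_iff.2 h)
  have hzx : Commute (qm z) (qm x) := (mem_center_iff.1 hzb (qm x)).symm
  by_cases h1 : cz z = cz x
  · haveI hn : (cz x).Normal := h1 ▸ cz_normal_of_central_mod hzb
    by_cases h2 : ∃ v ∈ cz x, v ∉ center P ∧ cz v ≠ cz x
    · obtain ⟨v, hvD, hvZ, hvne⟩ := h2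
      refine Q2 n H p hP hvZ hx ?_ hvne
      rw [mem_centralizer_singleton_iff] at hvD
      show qm v * qm x = qm x * qm v
      rw [← map_mul, ← map_mul, hvD]
    · push Not at h2
      have hne : ∃ g, g ∉ cz x := by
        by_contra hall
        push Not at hall
        apply hx
        rw [mem_center_iff]
        intro g
        have := hall g
        rw [mem_centralizer_singleton_iff] at this
        exact this
      obtain ⟨g, hg⟩ := hne
      obtain ⟨u, huD, huc⟩ := exists_notMem_commute n H (cz x) rfl hx h2 hg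
      have huZ : u ∉ center P := fun h => huD (center_le_centralizer _ h)
      refine Q2 n H p hP huZ hx huc ?_
      intro h
      apply huD
      rw [← h, mem_centralizer_singleton_iff]
  · exact Q2 n H p hP hz hx hzx h1

end


/-- Let P be a finite p-group whose conjugacy class sizes are exactly 1 and pᵃ for some a ≥ 1. Then every element of P has its p-th power in the center of P (P/Z(P) has exponent p). -/
theorem result {P : Type*} [Group P] [Finite P] (p : ℕ) [Fact p.Prime]
    (hP : IsPGroup p P) (a : ℕ) (ha : 1 ≤ a)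
    (hcs : {k : ℕ | ∃ x : P, (Subgroup.centralizer ({x} : Set P)).index = k} = {1, p ^ a}) (x : P) :
    x ^ p ∈ Subgroup.center P := by
  have H : ∀ y : P, (cz y).index = 1 ∨ (cz y).index = p ^ a := by
    intro y
    have h1 : (cz y).index ∈ {k : ℕ | ∃ x : P, (Subgroup.centralizer ({x} : Set P)).index = k} :=
      ⟨y, rfl⟩
    rw [hcs] at h1
    simpa using h1
  exact main (p ^ a) H p hP x

end Cfsg.Agent.S4365
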