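-- Statement S4134 (Cfsg.fg7_two_class_sizes_structure): Ito's theorem on two class sizes.
import Cfsg.Statements.S4134
import Cfsg.Agent.Helper69.Ito5
import Cfsg.Agent.S4365

set_option autoImplicit false
set_option linter.style.haveILetI false
open Cfsg

namespace Cfsg.Agent.S4134

open Subgroup Cfsg.Agent.Helper69
open scoped Pointwise

/-- The subgroup of central elements of order prime to `p`. -/
def centralPrime (G : Type*) [Group G] (p : ℕ) : Subgroup G where
  carrier := {g | g ∈ center G ∧ (orderOf g).Coprime p}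
  one_mem' := ⟨one_mem _, by simp⟩
  mul_mem' := by
    rintro a b ⟨ha, hac⟩ ⟨hb, hbc⟩
    refine ⟨mul_mem ha hb, ?_⟩
    have hcomm : Commute a b := (mem_center_iff.mp ha b).symm
    exact Nat.Coprime.coprime_dvd_left hcomm.orderOf_mul_dvd_mul_orderOf
      (Nat.Coprime.mul_left hac hbc)
  inv_mem' := by
    rintro a ⟨ha, hac⟩
    exact ⟨inv_mem ha, by rwa [orderOf_inv]⟩

theorem mem_centralPrime {G : Type*} [Group G] {p : ℕ} {g : G} :
    g ∈ centralPrime G p ↔ g ∈ center G ∧ (orderOf g).Coprime p := Iff.rfl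

theorem centralPrime_le_center (G : Type*) [Group G] (p : ℕ) : centralPrime G p ≤ center G :=
  fun _ hg => hg.1

theorem cent_subtype {G : Type*} [Group G] (P : Subgroup G) (t : P) :
    centralizer ({t} : Set P) = (centralizer ({(t : G)} : Set G)).subgroupOf P := by
  ext u
  rw [mem_subgroupOf, mem_centralizer_singleton_iff, mem_centralizer_singleton_iff,
    Subtype.ext_iff]
  rfl

/-- Let G be a finite group whose conjugacy classes have exactly two sizes, 1 and n > 1. Then n is a power of a prime p and G is the direct product of a p-group and an abelian group of order prime to p: its Sylow p-subgroup P is normal with an abelian normal complement centralizing it; moreover P has an abelian normal subgroup A with P/A of exponent dividing p. -/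
theorem result {G : Type*} [Group G] [Finite G] (n : ℕ) (hn : 1 < n)
    (h : ∀ x : G, (Subgroup.centralizer ({x} : Set G)).index = 1 ∨ (Subgroup.centralizer ({x} : Set G)).index = n) (hex : ∃ x : G, (Subgroup.centralizer ({x} : Set G)).index = n) :
    ∃ (p : ℕ) (_ : Fact p.Prime) (a : ℕ), n = p ^ a ∧ ∀ P : Sylow p G, (P : Subgroup G).Normal ∧
      (∃ N : Subgroup G, N.Normal ∧ N.IsComplement' (P : Subgroup G) ∧ IsMulCommutative N ∧
        ∀ x ∈ N, ∀ y ∈ (P : Subgroup G), x * y = y * x) ∧
      ∃ A : Subgroup (P : Subgroup G), A.Normal ∧ IsMulCommutative A ∧ ∀ y : (P : Subgroup G), y ^ p ∈ A := by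
  have h' : TwoSizes G n := h
  obtain ⟨g₀, hg₀⟩ := hex
  have hg₀c : g₀ ∉ center G := by
    intro hc
    have := (index_cent_eq_one_iff g₀).mpr hc
    omega
  obtain ⟨p, hp, x, -, hxc, hxp⟩ := exists_primary_noncentral hg₀c
  haveI : Fact p.Prime := ⟨hp⟩
  have hcen := central_of_coprime hn h' hxc hxp
  -- decomposition
  have hdec : ∀ g : G, ∃ y z : G, g = y * z ∧ y ∈ centralPrime G p ∧ ∃ k : ℕ, z ^ (p ^ k) = 1 := by
    intro g
    obtain ⟨y, z, -, -, hgyz, hy, hz⟩ :=
      Cfsg.Agent.Helper67.exists_pprime_ppart p (isOfFinOrder_of_finite g)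
    exact ⟨y, z, hgyz, ⟨hcen y hy, hy⟩, hz⟩
  have hQ : IsPGroup p (G ⧸ center G) := by
    intro q
    obtain ⟨g, rfl⟩ := QuotientGroup.mk_surjective q
    obtain ⟨y, z, hgyz, hyc, k, hk⟩ := hdec g
    refine ⟨k, ?_⟩
    rw [hgyz, QuotientGroup.mk_mul, (QuotientGroup.eq_one_iff y).mpr hyc.1, one_mul,
      ← QuotientGroup.mk_pow, hk, QuotientGroup.mk_one]
  obtain ⟨k, hk⟩ := hQ.exists_card_eq
  have hidx : (center G).index = p ^ k := by rw [Subgroup.index, hk]
  have hxn : (centralizer ({x} : Set G)).index = n := index_cent_of_not_mem h' hxc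
  have hndvd : n ∣ p ^ k := by
    rw [← hidx, ← hxn]; exact Subgroup.index_dvd_of_le (Subgroup.center_le_centralizer _)
  obtain ⟨a, -, ha⟩ := (Nat.dvd_prime_pow hp).mp hndvd
  have ha1 : 1 ≤ a := by
    rcases Nat.eq_zero_or_pos a with h0 | h0
    · rw [h0, pow_zero] at ha; omega
    · exact h0
  refine ⟨p, ⟨hp⟩, a, ha, fun P => ?_⟩
  haveI : Group.IsNilpotent (G ⧸ center G) := hQ.isNilpotent
  haveI : Group.IsNilpotent G :=
    Subgroup.isNilpotent_of_ker_le_center (QuotientGroup.mk' (center G)) (by rw [QuotientGroup.ker_mk'])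
  have hall : ∀ (q : ℕ) (_ : Fact q.Prime) (Q : Sylow q G), (Q : Subgroup G).Normal :=
    ((Group.isNilpotent_of_finite_tfae (G := G)).out 0 3).mp ‹Group.IsNilpotent G›
  haveI hPn : (P : Subgroup G).Normal := hall p ⟨hp⟩ P
  -- the complement
  have hNn : (centralPrime G p).Normal := by
    refine ⟨fun m hm g => ?_⟩
    rw [mem_center_iff.mp hm.1 g, mul_inv_cancel_right]
    exact hm
  have hdisj : Disjoint (centralPrime G p) (P : Subgroup G) := by
    rw [Subgroup.disjoint_def]
    intro u hu huP
    obtain ⟨j, hj⟩ := P.2 ⟨u, huP⟩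
    have hj' : u ^ (p ^ j) = 1 := by
      have := congrArg Subtype.val hj
      simpa using this
    have hdvd : orderOf u ∣ p ^ j := orderOf_dvd_of_pow_eq_one hj'
    have h1 : orderOf u = 1 := Nat.Coprime.eq_one_of_dvd (Nat.Coprime.pow_right j hu.2) hdvd
    exact orderOf_eq_one_iff.mp h1
  have hmul : ((centralPrime G p : Subgroup G) : Set G) * ((P : Subgroup G) : Set G) = Set.univ := by
    apply Set.eq_univ_of_forall
    intro g
    obtain ⟨y, z, hgyz, hy, hz⟩ := hdec g
    rw [hgyz]
    exact Set.mul_mem_mul hy (mem_sylow_of_normal P hz)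
  have hcompl : (centralPrime G p).IsComplement' (P : Subgroup G) :=
    Subgroup.isComplement'_of_disjoint_and_mul_eq_univ hdisj hmul
  refine ⟨hPn, ⟨centralPrime G p, hNn, hcompl, ⟨⟨fun u v => Subtype.ext ?_⟩⟩, ?_⟩, ?_⟩
  · exact (mem_center_iff.mp u.2.1 v.1).symm
  · intro u hu v _
    exact (mem_center_iff.mp hu.1 v).symm
  · refine ⟨center (P : Subgroup G), inferInstance, inferInstance, ?_⟩
    have hsup : ∀ t : G, centralizer ({t} : Set G) ⊔ (P : Subgroup G) = ⊤ := by
      intro t
      have h1 : centralPrime G p ⊔ (P : Subgroup G) = ⊤ := hcompl.sup_eq_top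
      have h2 : centralPrime G p ≤ centralizer ({t} : Set G) :=
        (centralPrime_le_center G p).trans (Subgroup.center_le_centralizer _)
      rw [eq_top_iff, ← h1]
      exact sup_le_sup_right h2 _
    have hind : ∀ t : (P : Subgroup G), (centralizer ({t} : Set (P : Subgroup G))).index =
        (centralizer ({(t : G)} : Set G)).index := by
      intro t
      rw [cent_subtype]
      exact relIndex_eq_index_of_sup_eq_top _ _ (hsup _)
    have hcs : {k : ℕ | ∃ t : (P : Subgroup G),
        (Subgroup.centralizer ({t} : Set (P : Subgroup G))).index = k} = {1, p ^ a} := by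
      ext m
      simp only [Set.mem_setOf_eq, Set.mem_insert_iff, Set.mem_singleton_iff]
      constructor
      · rintro ⟨t, rfl⟩
        rw [hind, ← ha]
        exact h _
      · rintro (rfl | rfl)
        · refine ⟨1, ?_⟩
          rw [hind]
          exact (index_cent_eq_one_iff _).mpr (one_mem _)
        · refine ⟨⟨x, mem_sylow_of_normal P hxp⟩, ?_⟩
          rw [hind, ← ha]
          exact hxn
    intro y
    exact Cfsg.Agent.S4365.result p P.2 a ha1 hcs y

end Cfsg.Agent.S4134
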