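import Cfsg.Statements.S4135
import Cfsg.Agent.Helper69.Nsy9
-- import your own Cfsg.Agent.* helpers here

set_option autoImplicit false
open Cfsg

namespace Cfsg.Agent.S4135

open Cfsg.Agent.Helper69.Nsy

/-- Let G be a finite group, r a prime and R a Sylow r-subgroup of G that is not central, N a normal subgroup of G containing R, and m a natural number such that every element of N has a conjugacy class in G of size 1 or m. Then N is nilpotent. -/
theorem result {G : Type*} [Group G] [Finite G] (r : ℕ) [Fact r.Prime]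
    (R : Sylow r G) (hR : ¬ (R : Subgroup G) ≤ Subgroup.center G) (N : Subgroup G) [N.Normal] (hRN : (R : Subgroup G) ≤ N)
    (m : ℕ) (h : ∀ x ∈ N, (Subgroup.centralizer ({x} : Set G)).index = 1 ∨ (Subgroup.centralizer ({x} : Set G)).index = m) : Group.IsNilpotent N := by
  have hr : Fact r.Prime := inferInstance
  have h' : TwoSizesOn N m := h
  obtain ⟨x, hxR, hx⟩ : ∃ x ∈ (R : Subgroup G), x ∉ Subgroup.center G := by
    by_contra hcon
    push Not at hcon
    exact hR hcon
  have hxr : ∃ k : ℕ, x ^ (r ^ k) = 1 := pow_eq_one_of_mem_isPGroup R.2 hxR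
  have hxN : x ∈ N := hRN hxR
  by_cases hrm : r ∣ m
  · by_cases hA : ∀ y ∈ N, (orderOf y).Coprime r → y ∈ Subgroup.center G
    · -- `N / (N ∩ Z(G))` is an `r`-group
      obtain ⟨Zn, hZn⟩ : ∃ Zn : Subgroup N, Zn = (Subgroup.center G).subgroupOf N := ⟨_, rfl⟩
      haveI : Zn.Normal := by rw [hZn]; infer_instance
      have hZnmem : ∀ u : N, u ∈ Zn ↔ (u : G) ∈ Subgroup.center G := by
        intro u; rw [hZn]; exact Subgroup.mem_subgroupOf
      have hQ : IsPGroup r (N ⧸ Zn) := by
        intro q
        obtain ⟨n, rfl⟩ := QuotientGroup.mk_surjective q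
        obtain ⟨y, z, hy, hz, hnyz, hyo, k, hzk⟩ :=
          Cfsg.Agent.Helper67.exists_pprime_ppart r (isOfFinOrder_of_finite n)
        refine ⟨k, ?_⟩
        have hyc : y ∈ Zn := by
          rw [hZnmem]
          apply hA _ y.2
          rw [Subgroup.orderOf_coe]
          exact hyo
        have h1 : (QuotientGroup.mk n : N ⧸ Zn) = QuotientGroup.mk z := by
          rw [hnyz, QuotientGroup.mk_mul, (QuotientGroup.eq_one_iff y).mpr hyc, one_mul]
        rw [h1, ← QuotientGroup.mk_pow, hzk]
        rfl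
      haveI : Group.IsNilpotent (N ⧸ Zn) := hQ.isNilpotent
      refine isNilpotent_of_ker_le_center (QuotientGroup.mk' Zn) ?_
      rw [QuotientGroup.ker_mk']
      intro u hu
      rw [hZnmem] at hu
      rw [Subgroup.mem_center_iff]
      intro v
      apply Subtype.ext
      exact Subgroup.mem_center_iff.mp hu v
    · exfalso
      push Not at hA
      obtain ⟨y₁, hy₁N, hy₁o, hy₁⟩ := hA
      obtain ⟨s, hs, y₀, hy₀z, hy₀, hy₀s⟩ := Cfsg.Agent.Helper69.exists_primary_noncentral hy₁
      haveI : Fact s.Prime := ⟨hs⟩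
      have hrs : r ≠ s := by
        intro heq
        apply hy₀
        obtain ⟨k, hk⟩ := hy₀s
        have h1 : orderOf y₀ ∣ s ^ k := orderOf_dvd_of_pow_eq_one hk
        have h2 : orderOf y₀ ∣ orderOf y₁ := orderOf_dvd_of_mem_zpowers hy₀z
        have h3 : (s ^ k).Coprime (orderOf y₁) := by
          rw [← heq]
          exact Nat.Coprime.pow_left k hy₁o.symm
        have h4 : orderOf y₀ = 1 := Nat.eq_one_of_dvd_coprimes h3 h1 h2
        rw [orderOf_eq_one_iff.mp h4]
        exact Subgroup.one_mem _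
      exact case_dvd_false R hR N hRN h' hrm hrs y₀ ((Subgroup.zpowers_le.mpr hy₁N) hy₀z) hy₀ hy₀s
  · -- `r ∤ m`: `N` is abelian
    have hcen : ∀ z ∈ N, (∃ k : ℕ, z ^ (r ^ k) = 1) → ∀ n ∈ N, n * z = z * n :=
      fun z hzN hz => central_of_not_dvd N h' hrm hzN hz
    have hcen' : ∀ y ∈ N, (orderOf y).Coprime r → ∀ n ∈ N, n * y = y * n := by
      intro y hyN hyo n hn
      have hyx : y * x = x * y := hcen x hxN hxr y hyN
      have h1 := cent_le_of_coprime_on h' hxN hyN hx hyx (coprime_orderOf_of_pow_of_coprime hxr hyo)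
      have hnC : n ∈ Subgroup.centralizer ({x} : Set G) :=
        Subgroup.mem_centralizer_singleton_iff.mpr (hcen x hxN hxr n hn)
      exact Subgroup.mem_centralizer_singleton_iff.mp (h1 hnC)
    have hab : ∀ u ∈ N, ∀ v ∈ N, u * v = v * u := by
      intro u hu v hv
      obtain ⟨v₁, v₂, hv₁, hv₂, hv12, hv₁o, hv₂r⟩ :=
        Cfsg.Agent.Helper67.exists_pprime_ppart r (isOfFinOrder_of_finite v)
      have hzN : Subgroup.zpowers v ≤ N := Subgroup.zpowers_le.mpr hv
      have h1 := hcen' v₁ (hzN hv₁) hv₁o u hu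
      have h2 := hcen v₂ (hzN hv₂) hv₂r u hu
      rw [hv12]
      calc u * (v₁ * v₂) = (u * v₁) * v₂ := by group
        _ = (v₁ * u) * v₂ := by rw [h1]
        _ = v₁ * (u * v₂) := by group
        _ = v₁ * (v₂ * u) := by rw [h2]
        _ = v₁ * v₂ * u := by group
    letI : CommGroup N :=
      { (inferInstance : Group N) with mul_comm := fun u v => Subtype.ext (hab u u.2 v v.2) }
    exact CommGroup.isNilpotent

end Cfsg.Agent.S4135
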