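-- Statement S4138: two largest class sizes coprime => quasi-Frobenius with abelian kernel and
-- complement (Bianchi–Gillio–Casolo).  Proof: Helper69/Bgc1-6.
import Cfsg.Statements.S4138
import Cfsg.Agent.Helper69.Bgc5
import Cfsg.Agent.Helper69.Bgc6

set_option autoImplicit false
open Cfsg

namespace Cfsg.Agent.S4138

open Subgroup Cfsg.Agent.Helper69 Cfsg.Agent.Helper69.Bhm Cfsg.Agent.Helper69.Bgc
open scoped Pointwise

/-- Let G be a finite group whose two largest conjugacy class sizes m > n > 1 are coprime, and let x, y ∈ G have classes of sizes n and m respectively. Then C_G(x) and C_G(y) are abelian, and G/Z(G) is a Frobenius group with kernel C_G(x)/Z(G) and complement C_G(y)/Z(G). -/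
theorem result {G : Type*} [Group G] [Finite G] (m n : ℕ) (hmn : n < m) (hn : 1 < n)
    (hcop : m.Coprime n) (htop : ∀ z : G, (Subgroup.centralizer ({z} : Set G)).index ≤ m) (hsecond : ∀ z : G, (Subgroup.centralizer ({z} : Set G)).index < m → (Subgroup.centralizer ({z} : Set G)).index ≤ n)
    (x y : G) (hx : (Subgroup.centralizer ({x} : Set G)).index = n) (hy : (Subgroup.centralizer ({y} : Set G)).index = m) :
    IsMulCommutative (Subgroup.centralizer ({x} : Set G)) ∧ IsMulCommutative (Subgroup.centralizer ({y} : Set G)) ∧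
    Cfsg.IsFrobeniusComplement ((Subgroup.centralizer ({y} : Set G)).map (QuotientGroup.mk' (Subgroup.center G))) ∧
    Cfsg.frobeniusKernel ((Subgroup.centralizer ({y} : Set G)).map (QuotientGroup.mk' (Subgroup.center G))) =
      ((Subgroup.centralizer ({x} : Set G)).map (QuotientGroup.mk' (Subgroup.center G)) : Set (G ⧸ Subgroup.center G)) := by
  have h : Two G m n := ⟨hmn, hn, hcop, htop, hsecond⟩
  have hxn : ci x = n := hx
  have hym : ci y = m := hy
  have hC : Cfg G {q : ℕ | q ∣ n} {q : ℕ | q ∣ m} := h.cfg hxn hym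
  have hxA : IsA {q : ℕ | q ∣ n} x :=
    ⟨by rw [hxn]; omega, by rw [hxn]; exact fun p _ hd => hd⟩
  have hyB : IsA {q : ℕ | q ∣ m} y :=
    ⟨by rw [hym]; omega, by rw [hym]; exact fun p _ hd => hd⟩
  have hxN : x ∈ hC.nSub := hC.mem_nSub_of_isA hxA
  have hczx : ∀ c ∈ cz x, c ∈ hC.nSub := by
    intro c hc
    by_contra hcN
    have hcB := hC.isA_of_not_mem hcN
    exact hxA.not_mem_center (hC.cent_big hcB hxN (mem_cz_iff.mp hc).symm)
  have hyZ : y ∉ center G := fun hz => by
    have := (ci_eq_one_iff y).mpr hz
    omega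
  have hex : ∃ u ∈ zpowers y, ∃ t k : ℕ, t.Prime ∧ orderOf u = t ^ k ∧ u ∉ center G := by
    by_contra hcon
    push Not at hcon
    exact hyZ (mem_of_primary_parts (center G) y (fun u hu t k ht hk => hcon u hu t k ht hk))
  obtain ⟨u, huy, t, k, ht, hk, huZ⟩ := hex
  haveI : Fact t.Prime := ⟨ht⟩
  have htn : t ∣ n := by
    by_contra htn
    have ho : (orderOf u).Coprime n := by
      rw [hk]; exact Nat.Coprime.pow_left _ ((Nat.Prime.coprime_iff_not_dvd ht).mpr htn)
    exact huZ (h.central_of_mem_zpowers_B hxn hym huy ho)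
  have hum : ci u = m := by
    rcases h.dich hxn hym huZ with e | e
    · exfalso
      have h1 : ci u ∣ ci y := ci_dvd_of_mem_zpowers huy
      rw [e, hym] at h1
      exact h.n_not_dvd_m h1
    · exact e
  have hczu : cz u = cz y := by
    apply le_antisymm
    · exact le_of_le_of_index_eq (cz_le_of_mem_zpowers huy) (by show ci y = ci u; rw [hum, hym])
    · exact cz_le_of_mem_zpowers huy
  obtain ⟨P, hP⟩ := Cfsg.Agent.S4153.exists_sylow_mem (p := t) ⟨k, hk⟩
  obtain ⟨hF, hker⟩ := hC.frobenius_at t htn P hP huZ
  rw [hczu] at hF hker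
  -- `C(y)` is abelian
  have hczy_ab : ∀ c ∈ cz y, ∀ c' ∈ cz y, c * c' = c' * c := by
    intro c hc c' hc'
    by_cases hcZ : c ∈ center G
    · exact (Subgroup.mem_center_iff.mp hcZ c').symm
    · have hle : cz c ≤ cz y := by
        intro d hd
        by_contra hdy
        have hd' : (QuotientGroup.mk d : G ⧸ center G) ∉
            (cz y).map (QuotientGroup.mk' (center G)) := by
          rw [mk_mem_map_cz_iff]; exact hdy
        have hbot := hF.2.2 _ hd'
        have hmem : (QuotientGroup.mk c : G ⧸ center G) ∈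
            (cz y).map (QuotientGroup.mk' (center G)) ⊓
              (MulAut.conj (QuotientGroup.mk d : G ⧸ center G) •
                (cz y).map (QuotientGroup.mk' (center G))) := by
          rw [Subgroup.mem_inf]
          refine ⟨(mk_mem_map_cz_iff y c).mpr hc, ?_⟩
          rw [mem_conj_smul_iff]
          have e : (QuotientGroup.mk d : G ⧸ center G)⁻¹ * QuotientGroup.mk c *
              QuotientGroup.mk d = QuotientGroup.mk (d⁻¹ * c * d) := by simp
          rw [e, mk_mem_map_cz_iff]
          have e2 : d⁻¹ * c * d = c := by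
            have h1 := mem_cz_iff.mp hd
            calc d⁻¹ * c * d = d⁻¹ * (c * d) := by rw [mul_assoc]
              _ = d⁻¹ * (d * c) := by rw [h1]
              _ = c := by group
          rw [e2]; exact hc
        rw [hbot, Subgroup.mem_bot, QuotientGroup.eq_one_iff] at hmem
        exact hcZ hmem
      have hcm : ci c = m := by
        rcases h.dich hxn hym hcZ with e | e
        · exfalso
          have hcN : c ∈ hC.nSub := by
            show PiNat _ (ci c)
            rw [e]; exact fun p _ hd => hd
          exact hcZ (hC.cent_big hyB hcN (mem_cz_iff.mp hc))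
        · exact e
      have hge : cz y ≤ cz c :=
        le_of_le_of_index_eq hle (by show ci c = ci y; rw [hcm, hym])
      exact (mem_cz_iff.mp (hge hc')).symm
  refine ⟨?_, ?_, hF, ?_⟩
  · apply IsMulCommutative.of_comm
    rintro ⟨c, hc⟩ ⟨c', hc'⟩
    apply Subtype.ext
    show c * c' = c' * c
    exact hC.nSub_comm (hczx c hc) (hczx c' hc')
  · apply IsMulCommutative.of_comm
    rintro ⟨c, hc⟩ ⟨c', hc'⟩
    apply Subtype.ext
    show c * c' = c' * c
    exact hczy_ab c hc c' hc'
  · ext q
    obtain ⟨g, rfl⟩ := QuotientGroup.mk_surjective q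
    constructor
    · intro hq
      have hgN := hker g hq
      have hgx : g ∈ cz x := mem_cz_iff.mpr (hC.nSub_comm hgN hxN)
      exact ⟨g, hgx, rfl⟩
    · rintro ⟨g', hg', hgg'⟩
      have hgg'' : (QuotientGroup.mk g' : G ⧸ center G) = QuotientGroup.mk g := hgg'
      rw [← hgg'']
      by_cases hgZ : g' ∈ center G
      · left; exact (QuotientGroup.eq_one_iff g').mpr hgZ
      · right
        intro e he
        obtain ⟨e₀, rfl⟩ := QuotientGroup.mk_surjective e
        rw [mem_conj_smul_iff] at he
        have e1 : (QuotientGroup.mk e₀ : G ⧸ center G)⁻¹ * QuotientGroup.mk g' *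
            QuotientGroup.mk e₀ = QuotientGroup.mk (e₀⁻¹ * g' * e₀) := by simp
        rw [e1, mk_mem_map_cz_iff] at he
        have hN : e₀⁻¹ * g' * e₀ ∈ hC.nSub := by
          have := hC.nSub_normal.conj_mem g' (hczx g' hg') e₀⁻¹
          simpa using this
        have hc := hC.cent_big hyB hN (mem_cz_iff.mp he)
        apply hgZ
        have e2 : g' = e₀ * (e₀⁻¹ * g' * e₀) * e₀⁻¹ := by group
        rw [e2]
        exact (inferInstance : (center G).Normal).conj_mem _ hc e₀

end Cfsg.Agent.S4138
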