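import Cfsg.Statements.S4139
import Cfsg.Agent.Helper53.CHMDefs
import Cfsg.Agent.Helper53.CHMB
import Cfsg.Agent.Helper11.CHMTransfer
import Cfsg.Agent.Helper65.CHMH
import Cfsg.Agent.Helper65.CHMD
import Cfsg.Agent.Helper81.CHMEF

set_option autoImplicit false
open Cfsg

namespace Cfsg.Agent.S4139

open Cfsg.Agent.Helper53.CHM in
/-- Let G and H be finite groups such that for every natural number k, G and H have the same number of conjugacy classes of size k. If H is nilpotent then G is nilpotent. -/
theorem result {G H : Type*} [Group G] [Finite G] [Group H] [Finite H]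
    (hH : Group.IsNilpotent H)
    (h : ∀ k : ℕ, Nat.card {C : ConjClasses G // Nat.card C.carrier = k} = Nat.card {C : ConjClasses H // Nat.card C.carrier = k}) :
    Group.IsNilpotent G := by
  have key : ∀ (p : ℕ) (_hp : Fact p.Prime) (P : Sylow p G), (↑P : Subgroup G).Normal := by
    intro p _ P
    obtain ⟨hn, hz, ha⟩ := Cfsg.Agent.Helper11.CHMTransfer.transfer h p
    have hA : Nat.card (Ap G p) = Nat.card G / p ^ (Nat.card G).factorization p *
        p ^ (Nat.card (Subgroup.center G)).factorization p := by
      rw [ha, Cfsg.Agent.Helper65.CHM.card_Ap_of_isNilpotent hH p, hn, hz]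
    exact Cfsg.Agent.Helper81.CHMEF.sylow_normal_of_le_card_Wp p
      (Cfsg.Agent.Helper65.CHM.le_card_Wp p hA
        (fun P u hu hc => center_sylow_le_center p hA P u hu hc)) P
  exact ((Group.isNilpotent_of_finite_tfae (G := G)).out 0 3 rfl rfl).mpr key

end Cfsg.Agent.S4139
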