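-- Statement S4142: Camina pairs via centralizer orders.
import Cfsg.Statements.S4142

set_option autoImplicit false
open Cfsg

namespace Cfsg.Agent.S4142

/-- The conjugation action of a subgroup on the ambient group. -/
@[reducible] def conjAction {G : Type*} [Group G] (D : Subgroup G) : MulAction D G where
  smul x y := (x : G) * y * (x : G)⁻¹
  one_smul y := by
    change ((1 : D) : G) * y * ((1 : D) : G)⁻¹ = y
    simp
  mul_smul a b y := by
    change ((a * b : D) : G) * y * ((a * b : D) : G)⁻¹ = (a : G) * ((b : G) * y * (b : G)⁻¹) * (a : G)⁻¹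
    simp [mul_assoc]

/-- The counting identity behind the statement. -/
theorem card_relation {G : Type*} [Group G] [Finite G] (N : Subgroup G) [N.Normal] (g : G) :
    Nat.card (Subgroup.centralizer ({g} : Set G)) * {n : G | n ∈ N ∧ ∃ x : G, x * g * x⁻¹ = g * n}.ncard
      = Nat.card N * Nat.card (Subgroup.centralizer ({(QuotientGroup.mk g : G ⧸ N)} : Set (G ⧸ N))) := by
  classical
  set C : Subgroup G := Subgroup.centralizer ({g} : Set G) with hC
  set Cbar : Subgroup (G ⧸ N) := Subgroup.centralizer ({(QuotientGroup.mk g : G ⧸ N)} : Set (G ⧸ N)) with hCbar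
  set T : Set G := {n : G | n ∈ N ∧ ∃ x : G, x * g * x⁻¹ = g * n} with hT
  set D : Subgroup G := Cbar.comap (QuotientGroup.mk' N) with hD
  have hmemD : ∀ x : G, x ∈ D ↔ (QuotientGroup.mk x : G ⧸ N) * QuotientGroup.mk g = QuotientGroup.mk g * QuotientGroup.mk x := by
    intro x
    rw [hD, Subgroup.mem_comap, hCbar, Subgroup.mem_centralizer_singleton_iff]
    rfl
  have hCD : C ≤ D := by
    intro x hx
    rw [hC, Subgroup.mem_centralizer_singleton_iff] at hx
    rw [hmemD, ← QuotientGroup.mk_mul, ← QuotientGroup.mk_mul, hx]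
  have hDidx : D.index = Cbar.index :=
    Subgroup.index_comap_of_surjective _ (QuotientGroup.mk'_surjective N)
  have hrel : C.relIndex D * D.index = C.index := Subgroup.relIndex_mul_index hCD
  -- orbit-stabilizer for the conjugation action of `D`
  have hrelT : C.relIndex D = T.ncard := by
    have hstab : C.subgroupOf D = @MulAction.stabilizer D G _ (conjAction D) g := by
      ext x
      rw [Subgroup.mem_subgroupOf, @MulAction.mem_stabilizer_iff D G _ (conjAction D), hC,
        Subgroup.mem_centralizer_singleton_iff]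
      change (x : G) * g = g * (x : G) ↔ (x : G) * g * (x : G)⁻¹ = g
      rw [mul_inv_eq_iff_eq_mul]
    have horb : @MulAction.orbit D G (conjAction D).toSMul g = (fun n => g * n) '' T := by
      ext y
      rw [@MulAction.mem_orbit_iff D G (conjAction D).toSMul]
      constructor
      · rintro ⟨x, rfl⟩
        change (x : G) * g * (x : G)⁻¹ ∈ _
        refine ⟨g⁻¹ * ((x : G) * g * (x : G)⁻¹), ⟨?_, (x : G), by group⟩, by group⟩
        have hx := (hmemD x).mp x.2
        rw [← QuotientGroup.eq_one_iff]
        simp only [QuotientGroup.mk_mul, QuotientGroup.mk_inv]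
        rw [hx]; group
      · rintro ⟨n, ⟨hnN, x, hx⟩, rfl⟩
        have hxD : x ∈ D := by
          rw [hmemD]
          have h1 : (QuotientGroup.mk (x * g * x⁻¹) : G ⧸ N) = QuotientGroup.mk (g * n) := by rw [hx]
          have h2 : (QuotientGroup.mk n : G ⧸ N) = 1 := (QuotientGroup.eq_one_iff n).mpr hnN
          simp only [QuotientGroup.mk_mul, QuotientGroup.mk_inv, h2, mul_one] at h1
          exact mul_inv_eq_iff_eq_mul.mp h1
        exact ⟨⟨x, hxD⟩, hx⟩
    rw [Subgroup.relIndex, hstab, @MulAction.index_stabilizer D G _ (conjAction D) g, horb,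
      Set.ncard_image_of_injective _ (mul_right_injective g)]
  -- arithmetic
  have h1 : Nat.card C * C.index = Nat.card G := Subgroup.card_mul_index C
  have h2 : Nat.card Cbar * Cbar.index = Nat.card (G ⧸ N) := Subgroup.card_mul_index Cbar
  have h3 : Nat.card G = Nat.card (G ⧸ N) * Nat.card N := Subgroup.card_eq_card_quotient_mul_card_subgroup N
  have h4 : Cbar.index ≠ 0 := Subgroup.index_ne_zero_of_finite
  have h5 : C.index = T.ncard * Cbar.index := by rw [← hrel, hrelT, hDidx]
  have h6 : (Nat.card C * T.ncard) * Cbar.index = (Nat.card N * Nat.card Cbar) * Cbar.index := by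
    calc (Nat.card C * T.ncard) * Cbar.index = Nat.card C * C.index := by rw [h5, mul_assoc]
      _ = Nat.card (G ⧸ N) * Nat.card N := by rw [h1, h3]
      _ = (Nat.card N * Nat.card Cbar) * Cbar.index := by rw [← h2]; ring
  exact Nat.eq_of_mul_eq_mul_right (Nat.pos_of_ne_zero h4) h6

theorem result {G : Type*} [Group G] [Finite G] (N : Subgroup G) [N.Normal] :
    (∀ g : G, g ∉ N → ∀ n ∈ N, ∃ x : G, x * g * x⁻¹ = g * n) ↔
      ∀ g : G, g ∉ N → Nat.card (Subgroup.centralizer ({g} : Set G)) =
        Nat.card (Subgroup.centralizer ({(QuotientGroup.mk g : G ⧸ N)} : Set (G ⧸ N))) := by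
  classical
  have hNpos : 0 < Nat.card N := Nat.card_pos
  have key : ∀ g : G, (∀ n ∈ N, ∃ x : G, x * g * x⁻¹ = g * n) ↔
      Nat.card (Subgroup.centralizer ({g} : Set G)) =
        Nat.card (Subgroup.centralizer ({(QuotientGroup.mk g : G ⧸ N)} : Set (G ⧸ N))) := by
    intro g
    have hrel := card_relation N g
    set T : Set G := {n : G | n ∈ N ∧ ∃ x : G, x * g * x⁻¹ = g * n} with hT
    have hTN : T ⊆ (N : Set G) := fun n hn => hn.1
    have hNcard : (N : Set G).ncard = Nat.card N := (Nat.card_coe_set_eq (N : Set G)).symm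
    have hCpos : 0 < Nat.card (Subgroup.centralizer ({g} : Set G)) := Nat.card_pos
    constructor
    · intro h
      have hTeq : T = (N : Set G) := Set.Subset.antisymm hTN (fun n hn => ⟨hn, h n hn⟩)
      rw [hTeq, hNcard, mul_comm] at hrel
      exact Nat.eq_of_mul_eq_mul_left hNpos hrel
    · intro h
      rw [← h, mul_comm (Nat.card N)] at hrel
      have hcard : T.ncard = Nat.card N := Nat.eq_of_mul_eq_mul_left hCpos hrel
      have hTeq : T = (N : Set G) :=
        Set.eq_of_subset_of_ncard_le hTN (by rw [hNcard, hcard]) (Set.toFinite _)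
      intro n hn
      have : n ∈ T := by rw [hTeq]; exact hn
      exact this.2
  constructor
  · intro h g hg
    exact (key g).mp (h g hg)
  · intro h g hg
    exact (key g).mpr (h g hg)

end Cfsg.Agent.S4142
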