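-- Statement S4145: cyclic Sylow p-subgroup and a normal subgroup meeting both sides.
import Cfsg.Statements.S4145
import Cfsg.Agent.S4153

set_option autoImplicit false
open Cfsg

namespace Cfsg.Agent.S4145

/-- Burnside's normal `p`-complement theorem for a subgroup `X` containing the Sylow subgroup `P`,
with the complement expressed inside the ambient group. -/
theorem burn {G : Type*} [Group G] [Finite G] {p : ℕ} [hp : Fact p.Prime] (P : Sylow p G) (X : Subgroup G)
    (hPX : (P : Subgroup G) ≤ X)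
    (hNC : Subgroup.normalizer ((P.subtype hPX : Sylow p X) : Set X) ≤
      Subgroup.centralizer ((P.subtype hPX : Sylow p X) : Set X)) :
    ∃ K : Subgroup G, K ≤ X ∧ (Nat.card K).Coprime p ∧
      Nat.card K * Nat.card (P : Subgroup G) = Nat.card X ∧
      (∀ x ∈ X, ∃ k ∈ K, ∃ y ∈ (P : Subgroup G), x = k * y) ∧
      (∀ x ∈ X, ∀ k ∈ K, x * k * x⁻¹ ∈ K) ∧
      (∀ x ∈ X, (orderOf x).Coprime p → x ∈ K) := by
  classical
  set PX : Sylow p X := P.subtype hPX with hPXdef
  set f := MonoidHom.transferSylow PX hNC with hf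
  set K₀ : Subgroup X := f.ker with hK₀
  have hc : K₀.IsComplement' (PX : Subgroup X) := MonoidHom.ker_transferSylow_isComplement' PX hNC
  have hcardPX : Nat.card (PX : Subgroup X) = Nat.card (P : Subgroup G) := by
    rw [hPXdef, Sylow.coe_subtype]
    exact Nat.card_congr (Subgroup.subgroupOfEquivOfLe hPX).toEquiv
  have hcardK : Nat.card (K₀.map X.subtype) = Nat.card K₀ :=
    Subgroup.card_map_of_injective X.subtype_injective
  have hcop : (Nat.card K₀).Coprime p := by
    have h1 : (PX : Subgroup X).index = Nat.card K₀ := hc.index_eq_card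
    rw [← h1]
    exact ((Nat.Prime.coprime_iff_not_dvd hp.out).mpr PX.not_dvd_index).symm
  refine ⟨K₀.map X.subtype, Subgroup.map_subtype_le _, ?_, ?_, ?_, ?_, ?_⟩
  · rw [hcardK]; exact hcop
  · rw [hcardK, ← hcardPX]; exact hc.card_mul_card
  · intro x hx
    obtain ⟨⟨k, y⟩, hky⟩ := hc.2 ⟨x, hx⟩
    refine ⟨(k : X), Subgroup.mem_map_of_mem X.subtype k.2, ((y : X) : G), ?_, ?_⟩
    · have h1 : (y : X) ∈ ((P : Subgroup G).subgroupOf X) := by
        rw [← Sylow.coe_subtype P hPX]; exact y.2
      exact Subgroup.mem_subgroupOf.mp h1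
    · have := congrArg Subtype.val hky
      exact this.symm
  · intro x hx k hk
    obtain ⟨k₀, hk₀, rfl⟩ := hk
    have hn : K₀.Normal := by rw [hK₀]; exact MonoidHom.normal_ker f
    have := hn.conj_mem k₀ hk₀ ⟨x, hx⟩
    exact ⟨_, this, rfl⟩
  · intro x hx hxo
    refine ⟨⟨x, hx⟩, ?_, rfl⟩
    rw [SetLike.mem_coe, hK₀, MonoidHom.mem_ker]
    obtain ⟨j, hj⟩ := (IsPGroup.iff_orderOf.mp PX.isPGroup') (f ⟨x, hx⟩)
    have h1 : orderOf (f ⟨x, hx⟩) ∣ orderOf x := by
      have := orderOf_map_dvd f (⟨x, hx⟩ : X)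
      have e : orderOf (⟨x, hx⟩ : X) = orderOf x := (Subgroup.orderOf_coe (⟨x, hx⟩ : X)).symm
      rwa [e] at this
    have h2 : (p ^ j).Coprime p := by
      rw [← hj]; exact Nat.Coprime.coprime_dvd_left h1 hxo
    have hj0 : j = 0 := by
      by_contra hne
      have : p ∣ p ^ j := dvd_pow_self p hne
      have := Nat.Coprime.eq_one_of_dvd h2.symm this
      exact hp.out.ne_one this
    rw [hj0, pow_zero, orderOf_eq_one_iff] at hj
    exact hj

/-- If `X` is normal in `G`, the normal `p`-complement of `X` produced above is normal in `G`. -/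
theorem normal_of_char {G : Type*} [Group G] [Finite G] {p : ℕ} [hp : Fact p.Prime] (X K : Subgroup G)
    [X.Normal] (hKX : K ≤ X) (hcop : (Nat.card K).Coprime p)
    (hmem : ∀ x ∈ X, (orderOf x).Coprime p → x ∈ K) : K.Normal := by
  refine ⟨fun k hk g => ?_⟩
  apply hmem
  · exact ‹X.Normal›.conj_mem k (hKX hk) g
  · have h1 : orderOf (g * k * g⁻¹) = orderOf k := by
      have := orderOf_injective (MulAut.conj g).toMonoidHom (MulAut.conj g).injective k
      simpa using this
    rw [h1]
    have h2 : orderOf k ∣ Nat.card K := by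
      have := orderOf_dvd_natCard (⟨k, hk⟩ : K)
      rwa [← Subgroup.orderOf_coe] at this
    exact Nat.Coprime.coprime_dvd_left h2 hcop


/-- An element normalizing a cyclic Sylow `p`-subgroup and centralizing a non-identity element of it
centralizes the whole Sylow subgroup. -/
theorem centralizes_of_centralizes_nontrivial {G : Type*} [Group G] [Finite G] {p : ℕ} [hp : Fact p.Prime]
    (P : Sylow p G) (hP : IsCyclic (P : Subgroup G)) (g : G)
    (hgN : g ∈ Subgroup.normalizer ((P : Subgroup G) : Set G)) (q : G) (hqP : q ∈ (P : Subgroup G))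
    (hq1 : q ≠ 1) (hgq : g * q * g⁻¹ = q) : g ∈ Subgroup.centralizer ((P : Subgroup G) : Set G) := by
  classical
  haveI := hP
  haveI : IsMulCommutative (P : Subgroup G) := IsCyclic.isMulCommutative
  obtain ⟨x₀, hx₀⟩ := IsCyclic.exists_generator (α := (P : Subgroup G))
  -- the order of the generator
  obtain ⟨a, ha⟩ := IsPGroup.iff_card.mp P.isPGroup'
  have hord : orderOf (x₀ : G) = p ^ a := by
    rw [Subgroup.orderOf_coe, orderOf_eq_card_of_forall_mem_zpowers hx₀, ha]
  have hgen : ∀ y ∈ (P : Subgroup G), ∃ j : ℤ, (x₀ : G) ^ j = y := by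
    intro y hy
    obtain ⟨j, hj⟩ := Subgroup.mem_zpowers_iff.mp (hx₀ ⟨y, hy⟩)
    exact ⟨j, by simpa using congrArg Subtype.val hj⟩
  -- conjugation by `g` raises the generator to a power `m`
  have hconj_mem : g * (x₀ : G) * g⁻¹ ∈ (P : Subgroup G) :=
    (Subgroup.mem_normalizer_iff.mp hgN _).mp x₀.2
  obtain ⟨m, hm⟩ := hgen _ hconj_mem
  have hconj_pow : ∀ j : ℤ, g * (x₀ : G) ^ j * g⁻¹ = (x₀ : G) ^ (m * j) := by
    intro j
    have := map_zpow (MulAut.conj g) (x₀ : G) j
    rw [MulAut.conj_apply, MulAut.conj_apply, ← hm, ← zpow_mul] at this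
    exact this
  -- `p ∣ m - 1`
  obtain ⟨j, hj⟩ := hgen q hqP
  have h1 : (x₀ : G) ^ ((m - 1) * j) = 1 := by
    have := hconj_pow j
    rw [hj, hgq, ← hj] at this
    rw [sub_mul, one_mul, zpow_sub, ← this, mul_inv_cancel]
  have h2 : ((p ^ a : ℕ) : ℤ) ∣ (m - 1) * j := by
    rw [← hord]; exact orderOf_dvd_iff_zpow_eq_one.mpr h1
  have h3 : ¬ ((p ^ a : ℕ) : ℤ) ∣ j := by
    intro hdvd
    rw [← hord, orderOf_dvd_iff_zpow_eq_one, hj] at hdvd
    exact hq1 hdvd
  have hpm : (p : ℤ) ∣ m - 1 := by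
    by_contra hnd
    have hcop : IsCoprime ((p ^ a : ℕ) : ℤ) (m - 1) := by
      rw [Nat.cast_pow]
      apply IsCoprime.pow_left
      exact (Int.isCoprime_iff_gcd_eq_one.mpr
        (by
          have := (Nat.Prime.coprime_iff_not_dvd hp.out).mpr (fun h => hnd (Int.natCast_dvd.mpr h))
          simpa [Int.gcd] using this))
    exact h3 (hcop.dvd_of_dvd_mul_left h2)
  have ha1 : 1 ≤ a := by
    by_contra h0
    have : a = 0 := by omega
    rw [this, pow_zero, orderOf_eq_one_iff] at hord
    obtain ⟨j', hj'⟩ := hgen q hqP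
    rw [hord, one_zpow] at hj'
    exact hq1 hj'.symm
  -- `g ^ (p ^ (a - 1))` centralizes the generator
  set e : ℕ := p ^ (a - 1) with he
  have hme : ((p ^ a : ℕ) : ℤ) ∣ m ^ e - 1 := by
    have := dvd_sub_pow_of_dvd_sub (R := ℤ) (p := p) (a := m) (b := 1) hpm (a - 1)
    rw [one_pow, Nat.sub_add_cancel ha1] at this
    rw [Nat.cast_pow]; exact this
  have hiter : ∀ n : ℕ, g ^ n * (x₀ : G) * (g ^ n)⁻¹ = (x₀ : G) ^ (m ^ n) := by
    intro n
    induction n with
    | zero => simp
    | succ n ih =>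
      have e1 : g ^ (n + 1) * (x₀ : G) * (g ^ (n + 1))⁻¹ = g * (g ^ n * (x₀ : G) * (g ^ n)⁻¹) * g⁻¹ := by
        rw [pow_succ']; group
      rw [e1, ih, hconj_pow, pow_succ, mul_comm]
  have hge : g ^ e * (x₀ : G) * (g ^ e)⁻¹ = (x₀ : G) := by
    rw [hiter e]
    have h4 : (x₀ : G) ^ (m ^ e - 1) = 1 := by
      rw [← orderOf_dvd_iff_zpow_eq_one, hord]; exact hme
    have : (x₀ : G) ^ (m ^ e) = (x₀ : G) ^ (m ^ e - 1) * (x₀ : G) := by
      rw [← zpow_add_one]; congr 1; ring
    rw [this, h4, one_mul]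
  have hgeZ : g ^ e ∈ Subgroup.centralizer ((P : Subgroup G) : Set G) := by
    rw [Subgroup.mem_centralizer_iff]
    intro y hy
    obtain ⟨j', rfl⟩ := hgen y hy
    have h5 : g ^ e * (x₀ : G) = (x₀ : G) * g ^ e := mul_inv_eq_iff_eq_mul.mp hge
    have h6 : Commute (g ^ e) ((x₀ : G) ^ j') := (show Commute (g ^ e) (x₀ : G) from h5).zpow_right j'
    exact h6.eq.symm
  -- a power of `g` prime to `p` also centralizes `P`
  set N := Subgroup.normalizer ((P : Subgroup G) : Set G) with hN
  set Z := Subgroup.centralizer ((P : Subgroup G) : Set G) with hZ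
  have hker : (Z.subgroupOf N) = (P : Subgroup G).normalizerMonoidHom.ker :=
    (Subgroup.normalizerMonoidHom_ker (P : Subgroup G)).symm
  haveI : (Z.subgroupOf N).Normal := by rw [hker]; exact MonoidHom.normal_ker _
  set t : ℕ := (Z.subgroupOf N).index with ht
  have hgt : g ^ t ∈ Z := by
    have := Subgroup.pow_index_mem (Z.subgroupOf N) (⟨g, hgN⟩ : N)
    rw [Subgroup.mem_subgroupOf] at this
    simpa using this
  have hPZ : (P : Subgroup G) ≤ Z := Subgroup.le_centralizer (P : Subgroup G)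
  have htcop : t.Coprime p := by
    have h7 : t ∣ (P : Subgroup G).index := by
      rw [ht, ← Subgroup.relIndex]
      exact (Subgroup.relIndex_dvd_of_le_left N hPZ).trans
        (Subgroup.relIndex_dvd_index_of_le Subgroup.le_normalizer)
    exact Nat.Coprime.coprime_dvd_left h7 ((Nat.Prime.coprime_iff_not_dvd hp.out).mpr P.not_dvd_index).symm
  have hte : t.Coprime e := by rw [he]; exact Nat.Coprime.pow_right _ htcop
  -- Bezout
  have hbez := Int.gcd_eq_gcd_ab (t : ℤ) (e : ℤ)
  have hgcd : Int.gcd (t : ℤ) (e : ℤ) = 1 := by simpa [Int.gcd] using hte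
  rw [hgcd, Nat.cast_one] at hbez
  have hg : g = (g ^ t) ^ (Int.gcdA t e) * (g ^ e) ^ (Int.gcdB t e) := by
    rw [← zpow_natCast g t, ← zpow_natCast g e, ← zpow_mul, ← zpow_mul, ← zpow_add, ← hbez, zpow_one]
  rw [hg]
  exact Z.mul_mem (Z.zpow_mem hgt _) (Z.zpow_mem hgeZ _)


/-- `M = H ⊔ P` has a normal `p`-complement, and it lies in `H`. -/
theorem exists_complement {G : Type*} [Group G] [Finite G] (p : ℕ) [hp : Fact p.Prime]
    (P : Sylow p G) (hP : IsCyclic (P : Subgroup G)) (H : Subgroup G) [H.Normal] (h2 : p ∣ H.index) :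
    ∃ K : Subgroup G, K ≤ H ∧ (Nat.card K).Coprime p ∧
      Nat.card K * Nat.card (P : Subgroup G) = Nat.card (H ⊔ (P : Subgroup G) : Subgroup G) ∧
      (∀ x ∈ H ⊔ (P : Subgroup G), ∃ k ∈ K, ∃ y ∈ (P : Subgroup G), x = k * y) ∧
      (∀ x ∈ H ⊔ (P : Subgroup G), ∀ k ∈ K, x * k * x⁻¹ ∈ K) ∧
      (∀ x ∈ H ⊔ (P : Subgroup G), (orderOf x).Coprime p → x ∈ K) := by
  classical
  haveI := hP
  haveI : IsMulCommutative (P : Subgroup G) := IsCyclic.isMulCommutative
  set M : Subgroup G := H ⊔ (P : Subgroup G) with hM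
  have hPM : (P : Subgroup G) ≤ M := le_sup_right
  have hHM : H ≤ M := le_sup_left
  set PM : Sylow p M := P.subtype hPM with hPMdef
  haveI : IsCyclic (PM : Subgroup M) :=
    isCyclic_of_surjective _ (Subgroup.subgroupOfEquivOfLe hPM).symm.surjective
  -- the image of `M` in `G ⧸ H` is the image of `P`
  have hmapM : M.map (QuotientGroup.mk' H) = (P : Subgroup G).map (QuotientGroup.mk' H) := by
    rw [hM, Subgroup.map_sup, QuotientGroup.map_mk'_self, bot_sup_eq]
  have himg : ∀ x ∈ M, ∃ y ∈ (P : Subgroup G), (QuotientGroup.mk y : G ⧸ H) = QuotientGroup.mk x := by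
    intro x hx
    have : (QuotientGroup.mk' H) x ∈ M.map (QuotientGroup.mk' H) := Subgroup.mem_map_of_mem _ hx
    rw [hmapM] at this
    obtain ⟨y, hy, hyx⟩ := this
    exact ⟨y, hy, hyx⟩
  rcases Sylow.normalizer_le_centralizer_or_le_commutator PM with hNC | hcomm
  · obtain ⟨K, hKM, hcop, hcard, hdec, hconj, hmem⟩ := burn P M hPM hNC
    refine ⟨K, ?_, hcop, hcard, hdec, hconj, hmem⟩
    intro k hk
    obtain ⟨y, hy, hyk⟩ := himg k (hKM hk)
    rw [← QuotientGroup.eq_one_iff (N := H), ← orderOf_eq_one_iff]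
    obtain ⟨j, hj⟩ := (IsPGroup.iff_orderOf.mp P.isPGroup') ⟨y, hy⟩
    have h3 : orderOf (QuotientGroup.mk k : G ⧸ H) ∣ p ^ j := by
      rw [← hyk, ← hj, ← Subgroup.orderOf_coe]
      exact orderOf_map_dvd (QuotientGroup.mk' H) y
    have h4 : orderOf (QuotientGroup.mk k : G ⧸ H) ∣ Nat.card K := by
      have h5 : orderOf k ∣ Nat.card K := by
        have := orderOf_dvd_natCard (⟨k, hk⟩ : K)
        rwa [← Subgroup.orderOf_coe] at this
      exact (orderOf_map_dvd (QuotientGroup.mk' H) k).trans h5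
    have h6 : (Nat.card K).Coprime (p ^ j) := Nat.Coprime.pow_right j hcop
    exact Nat.eq_one_of_dvd_coprimes h6 h4 h3
  · exfalso
    -- the commutator subgroup of `M` lies in `H`
    have hcommH : commutator M ≤ H.subgroupOf M := by
      rw [commutator_def, Subgroup.commutator_le]
      intro a _ b _
      rw [Subgroup.mem_subgroupOf, ← QuotientGroup.eq_one_iff (N := H)]
      obtain ⟨x, hx, hxa⟩ := himg a a.2
      obtain ⟨y, hy, hyb⟩ := himg b b.2
      have hxy : x * y = y * x := by
        have := mul_comm' (⟨x, hx⟩ : (P : Subgroup G)) ⟨y, hy⟩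
        exact congrArg Subtype.val this
      rw [commutatorElement_def]
      simp only [Subgroup.coe_mul, Subgroup.coe_inv, QuotientGroup.mk_mul, QuotientGroup.mk_inv]
      rw [← hxa, ← hyb]
      simp only [← QuotientGroup.mk_mul, ← QuotientGroup.mk_inv]
      rw [hxy]
      simp
    have hPH : (P : Subgroup G) ≤ H := by
      intro x hx
      have h1 : (⟨x, hPM hx⟩ : M) ∈ (PM : Subgroup M) := by
        rw [hPMdef, Sylow.coe_subtype, Subgroup.mem_subgroupOf]; exact hx
      have h2' := hcommH (hcomm h1)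
      rwa [Subgroup.mem_subgroupOf] at h2'
    exact P.not_dvd_index (h2.trans (Subgroup.index_dvd_of_le hPH))


theorem result {G : Type*} [Group G] [Finite G] (p : ℕ) [Fact p.Prime]
    (P : Sylow p G) (hP : IsCyclic (P : Subgroup G)) (H : Subgroup G) [H.Normal] (h1 : p ∣ Nat.card H) (h2 : p ∣ H.index) :
    Cfsg.HasNormalPComplement p H ∧ Cfsg.IsPSolvable p G := by
  classical
  have hp : p.Prime := Fact.out
  haveI := hP
  haveI : IsMulCommutative (P : Subgroup G) := IsCyclic.isMulCommutative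
  obtain ⟨K, hKH, hcop, hcard, hdec, hconj, hmem⟩ := exists_complement p P hP H h2
  set M : Subgroup G := H ⊔ (P : Subgroup G) with hM
  have hHM : H ≤ M := le_sup_left
  obtain ⟨a, ha⟩ := IsPGroup.iff_card.mp P.isPGroup'
  refine ⟨?_, ?_⟩
  · -- the normal `p`-complement of `H`
    set N : Subgroup H := K.subgroupOf H with hN
    have hNn : N.Normal := ⟨fun n hn g => by
      rw [hN, Subgroup.mem_subgroupOf] at hn ⊢
      exact hconj g (hHM g.2) n hn⟩
    obtain ⟨Q'⟩ : Nonempty (Sylow p H) := inferInstance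
    refine ⟨Q', N, hNn, ?_⟩
    have hcardN : Nat.card N = Nat.card K := Nat.card_congr (Subgroup.subgroupOfEquivOfLe hKH).toEquiv
    have hrel : H.relIndex M = H.relIndex (P : Subgroup G) := Subgroup.relIndex_sup_left (P : Subgroup G) H
    have hdvd : H.relIndex (P : Subgroup G) ∣ p ^ a := ha ▸ Subgroup.relIndex_dvd_card H (P : Subgroup G)
    obtain ⟨i, hia, hi⟩ := (Nat.dvd_prime_pow hp).mp hdvd
    have hcardM : Nat.card H * H.relIndex M = Nat.card M := by
      have := Subgroup.card_mul_index (H.subgroupOf M)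
      rw [← Subgroup.relIndex] at this
      rw [← this]
      congr 1
      exact (Nat.card_congr (Subgroup.subgroupOfEquivOfLe hHM).toEquiv).symm
    have hHK : Nat.card H = Nat.card K * p ^ (a - i) := by
      have e : Nat.card H * p ^ i = Nat.card K * p ^ (a - i) * p ^ i := by
        rw [mul_assoc, ← pow_add, Nat.sub_add_cancel hia, ← ha, hcard, ← hcardM, hrel, hi]
      exact Nat.eq_of_mul_eq_mul_right (pow_pos hp.pos i) e
    have hnd : ¬ p ∣ Nat.card K := fun h => hp.ne_one (Nat.Coprime.eq_one_of_dvd hcop.symm h)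
    have hfac : (Nat.card H).factorization p = a - i := by
      rw [hHK, Nat.factorization_mul Nat.card_pos.ne' (pow_pos hp.pos _).ne', Finsupp.add_apply,
        Nat.factorization_eq_zero_of_not_dvd hnd, Nat.Prime.factorization_pow hp]
      simp
    have hcardQ : Nat.card (Q' : Subgroup H) = p ^ (a - i) := by rw [Q'.card_eq_multiplicity, hfac]
    apply Subgroup.isComplement'_of_coprime
    · rw [hcardN, hcardQ, hHK]
    · rw [hcardN, hcardQ]; exact Nat.Coprime.pow_right _ hcop
  · -- `p`-solvability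
    haveI hKn : K.Normal := normal_of_char H K hKH hcop (fun x hx ho => hmem x (hHM hx) ho)
    set φ := QuotientGroup.mk' K with hφ
    haveI hHφ : (H.map φ).Normal := Subgroup.Normal.map inferInstance φ (QuotientGroup.mk'_surjective K)
    set C : Subgroup G :=
      (Subgroup.centralizer ((H.map φ : Subgroup (G ⧸ K)) : Set (G ⧸ K))).comap φ with hC
    haveI hCn : C.Normal := Subgroup.Normal.comap Subgroup.normal_centralizer φ
    have hmemC : ∀ g : G, g ∈ C ↔ ∀ h ∈ H, φ h * φ g = φ g * φ h := by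
      intro g
      rw [hC, Subgroup.mem_comap, Subgroup.mem_centralizer_iff]
      constructor
      · intro hh h hhH; exact hh (φ h) (Subgroup.mem_map_of_mem φ hhH)
      · rintro hh _ ⟨h, hhH, rfl⟩; exact hh h hhH
    have hPC : (P : Subgroup G) ≤ C := by
      intro x hx
      rw [hmemC]
      intro h hh
      obtain ⟨k, hk, y, hy, rfl⟩ := hdec h (hHM hh)
      have hk1 : φ k = 1 := (QuotientGroup.eq_one_iff k).mpr hk
      have hxy : y * x = x * y := congrArg Subtype.val (mul_comm' (⟨y, hy⟩ : (P : Subgroup G)) ⟨x, hx⟩)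
      rw [map_mul, hk1, one_mul, ← map_mul, ← map_mul, hxy]
    -- a non-identity element of `P ⊓ H`
    obtain ⟨q, hqP, hqH, hq1⟩ : ∃ q, q ∈ (P : Subgroup G) ∧ q ∈ H ∧ q ≠ 1 := by
      have hcardPH := Cfsg.Agent.S4153.card_sylow_inf_normal H P
      have hpos : 0 < (Nat.card H).factorization p :=
        hp.factorization_pos_of_dvd Nat.card_pos.ne' h1
      have hlt : 1 < Nat.card ((P : Subgroup G) ⊓ H : Subgroup G) := by
        rw [hcardPH]; exact Nat.one_lt_pow hpos.ne' hp.one_lt
      rw [Subgroup.one_lt_card_iff_ne_bot] at hlt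
      obtain ⟨x, hx1⟩ := (Subgroup.ne_bot_iff_exists_ne_one).mp hlt
      exact ⟨(x : G), (Subgroup.mem_inf.mp x.2).1, (Subgroup.mem_inf.mp x.2).2, fun h => hx1 (Subtype.ext h)⟩
    have hKP : K ⊓ (P : Subgroup G) = ⊥ :=
      disjoint_iff.mp (Subgroup.disjoint_of_coprime_natCard (by rw [ha]; exact Nat.Coprime.pow_right a hcop))
    set PC : Sylow p C := P.subtype hPC with hPCdef
    have hmemPC : ∀ z : C, z ∈ (PC : Subgroup C) ↔ (z : G) ∈ (P : Subgroup G) := by
      intro z
      rw [hPCdef, Sylow.coe_subtype, Subgroup.mem_subgroupOf]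
    have hNC : Subgroup.normalizer ((PC : Subgroup C) : Set C) ≤
        Subgroup.centralizer ((PC : Subgroup C) : Set C) := by
      intro g hg
      have hgN : (g : G) ∈ Subgroup.normalizer ((P : Subgroup G) : Set G) := by
        rw [Subgroup.mem_normalizer_iff] at hg ⊢
        intro x
        constructor
        · intro hx
          have := (hg ⟨x, hPC hx⟩).mp ((hmemPC _).mpr hx)
          exact (hmemPC _).mp this
        · intro hx
          have hxC : x ∈ C := by
            have h3 : (g : G)⁻¹ * ((g : G) * x * (g : G)⁻¹) * (g : G) ∈ C :=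
              C.mul_mem (C.mul_mem (C.inv_mem g.2) (hPC hx)) g.2
            have e : (g : G)⁻¹ * ((g : G) * x * (g : G)⁻¹) * (g : G) = x := by group
            rwa [e] at h3
          have := (hg ⟨x, hxC⟩).mpr ((hmemPC _).mpr hx)
          exact (hmemPC _).mp this
      have hgq : (g : G) * q * (g : G)⁻¹ = q := by
        have h4 : (g : G) * q * (g : G)⁻¹ * q⁻¹ ∈ K ⊓ (P : Subgroup G) := by
          refine Subgroup.mem_inf.mpr ⟨?_, ?_⟩
          · rw [← QuotientGroup.eq_one_iff (N := K)]
            have h5 := (hmemC g).mp g.2 q hqH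
            change φ ((g : G) * q * (g : G)⁻¹ * q⁻¹) = 1
            rw [map_mul, map_mul, map_mul, map_inv, map_inv, ← h5]
            group
          · exact (P : Subgroup G).mul_mem ((Subgroup.mem_normalizer_iff.mp hgN q).mp hqP)
              ((P : Subgroup G).inv_mem hqP)
        rw [hKP, Subgroup.mem_bot] at h4
        exact mul_inv_eq_one.mp h4
      have hgZ := centralizes_of_centralizes_nontrivial P hP (g : G) hgN q hqP hq1 hgq
      rw [Subgroup.mem_centralizer_iff] at hgZ ⊢
      intro z hz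
      exact Subtype.ext (hgZ z ((hmemPC z).mp hz))
    obtain ⟨L, hLC, hcopL, hcardL, -, -, hmemL⟩ := burn P C hPC hNC
    haveI hLn : L.Normal := normal_of_char C L hLC hcopL hmemL
    refine ⟨3, ![⊥, L, C, ⊤], rfl, rfl, ?_, ?_, ?_⟩
    · rw [Fin.monotone_iff_le_succ]
      intro i
      fin_cases i
      · exact bot_le
      · exact hLC
      · exact le_top
    · intro i
      fin_cases i
      · exact (inferInstance : (⊥ : Subgroup G).Normal)
      · exact hLn
      · exact hCn
      · exact (inferInstance : (⊤ : Subgroup G).Normal)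
    · intro i
      fin_cases i
      · right
        change ((⊥ : Subgroup G).relIndex L).Coprime p
        rw [Subgroup.relIndex_bot_left]
        exact hcopL
      · left
        change ∃ m : ℕ, L.relIndex C = p ^ m
        refine ⟨a, ?_⟩
        have h6 := Subgroup.card_mul_index (L.subgroupOf C)
        rw [← Subgroup.relIndex, Nat.card_congr (Subgroup.subgroupOfEquivOfLe hLC).toEquiv, ← hcardL, ha] at h6
        exact Nat.eq_of_mul_eq_mul_left Nat.card_pos h6
      · right
        change (C.relIndex (⊤ : Subgroup G)).Coprime p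
        rw [Subgroup.relIndex_top_right]
        have h7 : C.index ∣ (P : Subgroup G).index := Subgroup.index_dvd_of_le hPC
        exact Nat.Coprime.coprime_dvd_left h7 ((Nat.Prime.coprime_iff_not_dvd hp).mpr P.not_dvd_index).symm

end Cfsg.Agent.S4145
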