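import Cfsg.Statements.S4149
import Cfsg.Agent.Helper23.ClassPrimes

set_option autoImplicit false
open Cfsg

namespace Cfsg.Agent.S4149

open Cfsg.Agent.Helper23.ClassPrimes

/-- Let G be a finite group that has a normal p-complement for at most one prime p dividing its order, and let σ be a natural number such that every conjugacy class size of G has at most σ distinct prime divisors. Then the number of primes dividing at least one conjugacy class size of G is at most 2σ. -/
theorem result {G : Type*} [Group G] [Finite G] (σ : ℕ)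
    (hσ : ∀ x : G, ((Subgroup.centralizer ({x} : Set G)).index).primeFactors.card ≤ σ)
    (hnil : ∀ p q : ℕ, p.Prime → q.Prime → p ∣ Nat.card G → q ∣ Nat.card G →
      Cfsg.HasNormalPComplement p G → Cfsg.HasNormalPComplement q G → p = q) :
    Nat.card {p : ℕ | p.Prime ∧ ∃ x : G, p ∣ (Subgroup.centralizer ({x} : Set G)).index} ≤ 2 * σ := by
  classical
  haveI : Fintype G := Fintype.ofFinite G
  set n := Nat.card G with hn
  have hnpos : 0 < n := Nat.card_pos
  -- the finite set of primes
  set ρ : Finset ℕ := n.primeFactors.filter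
    (fun p => ∃ x : G, p ∣ (Subgroup.centralizer ({x} : Set G)).index) with hρ
  have hset : {p : ℕ | p.Prime ∧ ∃ x : G, p ∣ (Subgroup.centralizer ({x} : Set G)).index} = ↑ρ := by
    ext p
    simp only [Set.mem_setOf_eq, hρ, Finset.coe_filter, Nat.mem_primeFactors]
    constructor
    · rintro ⟨hp, x, hx⟩
      exact ⟨⟨hp, hx.trans (Subgroup.index_dvd_card _), hnpos.ne'⟩, x, hx⟩
    · rintro ⟨⟨hp, _, _⟩, x, hx⟩
      exact ⟨hp, x, hx⟩
  rw [hset, Nat.card_coe_set_eq, Set.ncard_coe_finset]
  set k := ρ.card with hk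
  have hprime : ∀ r ∈ ρ, r.Prime := fun r hr =>
    (Nat.mem_primeFactors.mp (Finset.mem_filter.mp hr).1).1
  have hdvd : ∀ r ∈ ρ, r ∣ n := fun r hr =>
    (Nat.mem_primeFactors.mp (Finset.mem_filter.mp hr).1).2.1
  -- a r = size of centSyl r
  set a : ℕ → ℕ := fun r => (centSyl G r).ncard with ha
  have ha' : ∀ r, a r = (Finset.univ.filter (fun g : G => g ∈ centSyl G r)).card := by
    intro r
    rw [ha]
    show (centSyl G r).ncard = _
    rw [← Set.ncard_coe_finset]
    congr 1
    ext g
    simp
  -- lower bound by double counting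
  have hlow : n * k ≤ (∑ r ∈ ρ, a r) + n * σ := by
    have h1 : ∀ g : G, k ≤ (ρ.filter (fun r => g ∈ centSyl G r)).card + σ := by
      intro g
      have hsub : ρ \ ((Subgroup.centralizer ({g} : Set G)).index).primeFactors ⊆
          ρ.filter (fun r => g ∈ centSyl G r) := by
        intro r hr
        rw [Finset.mem_sdiff] at hr
        haveI : Fact r.Prime := ⟨hprime r hr.1⟩
        refine Finset.mem_filter.mpr ⟨hr.1, mem_centSyl_of_not_dvd r g ?_⟩
        intro hd
        apply hr.2
        rw [Nat.mem_primeFactors]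
        refine ⟨hprime r hr.1, hd, ?_⟩
        exact Subgroup.index_ne_zero_of_finite
      have h2 := Finset.card_le_card hsub
      have h3 := Finset.le_card_sdiff ((Subgroup.centralizer ({g} : Set G)).index).primeFactors ρ
      have h4 := hσ g
      omega
    have h5 : ∑ r ∈ ρ, a r = ∑ g : G, (ρ.filter (fun r => g ∈ centSyl G r)).card := by
      simp_rw [ha', Finset.card_filter]
      rw [Finset.sum_comm]
    rw [h5]
    calc n * k = ∑ _g : G, k := by
          rw [Finset.sum_const, Finset.card_univ, smul_eq_mul, hn, Nat.card_eq_fintype_card]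
      _ ≤ ∑ g : G, ((ρ.filter (fun r => g ∈ centSyl G r)).card + σ) :=
          Finset.sum_le_sum (fun g _ => h1 g)
      _ = (∑ g : G, (ρ.filter (fun r => g ∈ centSyl G r)).card) + n * σ := by
          rw [Finset.sum_add_distrib, Finset.sum_const, Finset.card_univ, smul_eq_mul, hn,
            Nat.card_eq_fintype_card]
  -- upper bounds
  by_cases hk0 : k = 0
  · omega
  have hρne : ρ.Nonempty := Finset.card_pos.mp (Nat.pos_of_ne_zero hk0)
  have hn2 : 2 ≤ n := by
    obtain ⟨r, hr⟩ := hρne
    exact (hprime r hr).two_le.trans (Nat.le_of_dvd hnpos (hdvd r hr))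
  -- every a r ≤ n - 1 for r ∈ ρ
  have hup1 : ∀ r ∈ ρ, a r + 1 ≤ n := by
    intro r hr
    haveI : Fact r.Prime := ⟨hprime r hr⟩
    obtain ⟨x, hx⟩ := (Finset.mem_filter.mp hr).2
    have hxn : x ∉ centSyl G r := fun hmem => not_dvd_of_mem_centSyl r x hmem hx
    have hlt : (centSyl G r).ncard < (Set.univ : Set G).ncard :=
      Set.ncard_lt_ncard (Set.ssubset_univ_iff.mpr (fun h => hxn (h ▸ Set.mem_univ x)))
        (Set.toFinite _)
    rw [Set.ncard_univ] at hlt
    exact hlt
  -- the bad set
  set B : Finset ℕ := ρ.filter (fun r => n < 2 * a r) with hB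
  have hBcard : B.card ≤ 1 := by
    rw [Finset.card_le_one]
    intro r hr r' hr'
    rw [hB, Finset.mem_filter] at hr hr'
    haveI : Fact r.Prime := ⟨hprime r hr.1⟩
    haveI : Fact r'.Prime := ⟨hprime r' hr'.1⟩
    exact hnil r r' (hprime r hr.1) (hprime r' hr'.1) (hdvd r hr.1) (hdvd r' hr'.1)
      (hasNormalPComplement_of_lt r hr.2) (hasNormalPComplement_of_lt r' hr'.2)
  have hup : 2 * (∑ r ∈ ρ, a r) ≤ k * n + B.card * (n - 2) := by
    rw [Finset.mul_sum]
    have hterm : ∀ r ∈ ρ, 2 * a r ≤ n + (if n < 2 * a r then (n - 2) else 0) := by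
      intro r hr
      have := hup1 r hr
      split_ifs with h
      · omega
      · omega
    calc ∑ r ∈ ρ, 2 * a r ≤ ∑ r ∈ ρ, (n + (if n < 2 * a r then (n - 2) else 0)) :=
          Finset.sum_le_sum hterm
      _ = k * n + B.card * (n - 2) := by
          rw [Finset.sum_add_distrib, Finset.sum_const, smul_eq_mul, ← Finset.sum_filter,
            Finset.sum_const, smul_eq_mul]
  -- combine
  have hB2 : B.card * (n - 2) ≤ n - 2 := by
    calc B.card * (n - 2) ≤ 1 * (n - 2) := Nat.mul_le_mul_right _ hBcard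
      _ = n - 2 := one_mul _
  -- 2 n k ≤ 2 Σ a + 2 n σ ≤ k n + n - 2 + 2 n σ
  have hfin : n * k + 2 ≤ n * (1 + 2 * σ) := by
    have e1 : 2 * (n * k) ≤ 2 * (∑ r ∈ ρ, a r) + 2 * (n * σ) := by omega
    have e2 : 2 * (n * k) ≤ k * n + (n - 2) + 2 * (n * σ) := by omega
    have e3 : k * n = n * k := Nat.mul_comm _ _
    have e4 : n * (1 + 2 * σ) = n + 2 * (n * σ) := by ring
    omega
  have : k < 1 + 2 * σ := by
    by_contra hcon
    push_neg at hcon
    have := Nat.mul_le_mul_left n hcon
    omega
  omega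

end Cfsg.Agent.S4149
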