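import Cfsg.Statements.S4151
import Cfsg.Agent.Helper24.TihB
import Cfsg.Agent.Helper24.TihC

set_option autoImplicit false
open Cfsg

namespace Cfsg.Agent.S4151

open Subgroup in
open scoped Pointwise in
/-- The core of the argument, with `M = N_G(H)` abstracted. -/
theorem core {G : Type*} [Group G] [Finite G] (H : Subgroup G)
    (hTI : Cfsg.IsTISubset (H : Set G))
    (hHall : (Nat.card H).Coprime (H.subgroupOf (Subgroup.normalizer (H : Set G))).index)
    (hcyc : ∀ (p : ℕ) [Fact p.Prime] (P : Sylow p H), IsCyclic (P : Subgroup H))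
    (Q : Subgroup G) (hQ : Q ≤ Subgroup.normalizer (H : Set G)) (hQH : Q ⊓ H = ⊥)
    (hQH' : Q ⊔ H = Subgroup.normalizer (H : Set G)) :
    (Nat.card ↥(H ⊓ Subgroup.centralizer (Q : Set G))).Coprime
      (H ⊓ Subgroup.centralizer (Q : Set G)).index ∧
    ∃ N : Subgroup G, N.Normal ∧ N.IsComplement' (H ⊓ Subgroup.centralizer (Q : Set G)) := by
  have hHallG := Helper71.tih_coprime_index H hTI hHall
  have hQ₀ := hQ
  obtain ⟨M, hM⟩ : ∃ M : Subgroup G, M = normalizer (H : Set G) := ⟨_, rfl⟩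
  rw [← hM] at hQ hQH' hHall
  have hHM : H ≤ M := hM ▸ le_normalizer
  have hHMn : (H.subgroupOf M).Normal := by subst hM; exact normal_in_normalizer
  have hTIM : ∀ g : G, g ∉ M → ∀ x ∈ H, g * x * g⁻¹ ∈ H → x = 1 := by
    subst hM; exact hTI
  -- `Q` and `H` are complements in `M`
  have hcompl : (Q.subgroupOf M).IsComplement' (H.subgroupOf M) := by
    apply isComplement'_of_disjoint_and_mul_eq_univ
    · rw [disjoint_iff, eq_bot_iff]
      intro x hx
      obtain ⟨hxQ, hxH⟩ := mem_inf.mp hx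
      have h1 : (x : G) ∈ Q ⊓ H := ⟨mem_subgroupOf.mp hxQ, mem_subgroupOf.mp hxH⟩
      rw [hQH, mem_bot] at h1
      rw [mem_bot]
      exact Subtype.ext h1
    · rw [← Subgroup.mul_normal, ← subgroupOf_sup hQ hHM, hQH', subgroupOf_self, coe_top]
  have hcardQs : Nat.card (Q.subgroupOf M) = Nat.card Q :=
    Nat.card_congr (subgroupOfEquivOfLe hQ).toEquiv
  have hcardHs : Nat.card (H.subgroupOf M) = Nat.card H :=
    Nat.card_congr (subgroupOfEquivOfLe hHM).toEquiv
  have hHidx : (H.subgroupOf M).index = Nat.card Q := by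
    rw [hcompl.index_eq_card, hcardQs]
  have hQidx : (Q.subgroupOf M).index = Nat.card H := by
    rw [hcompl.symm.index_eq_card, hcardHs]
  have hcopQH : (Nat.card Q).Coprime (Nat.card H) := by
    rw [← hHidx]; exact hHall.symm
  obtain ⟨L, hLH, hgen, hLnH, hLnQ, hLD, hHLD, hDcop⟩ :=
    Helper24.Tih.conj_struct H Q hQ₀ hcopQH hcyc
  obtain ⟨D, hD⟩ : ∃ D : Subgroup G, D = H ⊓ centralizer (Q : Set G) := ⟨_, rfl⟩
  rw [← hD] at hLD hHLD hDcop ⊢
  have hDH : D ≤ H := hD ▸ inf_le_left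
  obtain ⟨K₀, hK₀⟩ : ∃ K₀ : Subgroup G, K₀ = L ⊔ Q := ⟨_, rfl⟩
  have hLK₀ : L ≤ K₀ := hK₀ ▸ le_sup_left
  have hQK₀ : Q ≤ K₀ := hK₀ ▸ le_sup_right
  have hK₀M : K₀ ≤ M := hK₀ ▸ sup_le (hLH.trans hHM) hQ
  have hQL : Q ≤ normalizer (L : Set G) := Helper24.Tih.le_normalizer_of_conj hLnQ
  have hdecomp : ∀ x ∈ K₀, ∃ l ∈ L, ∃ q ∈ Q, x = l * q := by
    intro x hx
    have hset : (K₀ : Set G) = (L : Set G) * (Q : Set G) := by
      rw [hK₀]; exact Subgroup.coe_mul_of_right_le_normalizer_left L Q hQL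
    have : x ∈ (L : Set G) * (Q : Set G) := by rw [← hset]; exact hx
    obtain ⟨l, hl, q, hq, hlq⟩ := Set.mem_mul.mp this
    exact ⟨l, hl, q, hq, hlq.symm⟩
  have hK₀H : ∀ x ∈ K₀, x ∈ H → x ∈ L := by
    intro x hx hxH
    obtain ⟨l, hl, q, hq, rfl⟩ := hdecomp x hx
    have hqH : q ∈ H := by
      have : q = l⁻¹ * (l * q) := by group
      rw [this]; exact H.mul_mem (H.inv_mem (hLH hl)) hxH
    have : q ∈ Q ⊓ H := ⟨hq, hqH⟩
    rw [hQH, mem_bot] at this
    rw [this, mul_one]; exact hl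
  have hK₀norm : M ≤ normalizer (K₀ : Set G) := by
    rw [← hQH']
    apply sup_le (hQK₀.trans le_normalizer)
    apply Helper24.Tih.le_normalizer_of_conj
    intro h hh x hx
    obtain ⟨l, hl, q, hq, rfl⟩ := hdecomp x hx
    have e : h * (l * q) * h⁻¹ = (h * l * h⁻¹) * ((h⁻¹)⁻¹ * (q * h⁻¹ * q⁻¹)) * q := by group
    rw [e]
    exact K₀.mul_mem (hLK₀ (L.mul_mem (hLnH h hh l hl) (hgen q hq h⁻¹ (H.inv_mem hh))))
      (hQK₀ hq)
  have hK₀sn : (K₀.subgroupOf M).Normal :=
    (normal_subgroupOf_iff_le_normalizer hK₀M).mpr hK₀norm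
  have hK₀idx : (K₀.subgroupOf M).index ∣ Nat.card H := by
    rw [← hQidx]
    apply index_dvd_of_le
    intro m hm
    exact mem_subgroupOf.mpr (hQK₀ (mem_subgroupOf.mp hm))
  have hker : ∀ m : M, QuotientGroup.mk' (K₀.subgroupOf M) m = 1 ↔ (m : G) ∈ K₀ := by
    intro m
    rw [QuotientGroup.mk'_apply, QuotientGroup.eq_one_iff, mem_subgroupOf]
  have hTI' : ∀ g : G, g ∉ M → ∀ x ∈ M, g * x * g⁻¹ ∈ M → x ∈ K₀ := by
    intro g hg x hx hgx
    have h1 : x ^ (H.subgroupOf M).index ∈ H := by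
      have := Subgroup.pow_index_mem (H.subgroupOf M) (⟨x, hx⟩ : M)
      have := mem_subgroupOf.mp this
      simpa using this
    have h2 : (g * x * g⁻¹) ^ (H.subgroupOf M).index ∈ H := by
      have := Subgroup.pow_index_mem (H.subgroupOf M) (⟨g * x * g⁻¹, hgx⟩ : M)
      have := mem_subgroupOf.mp this
      simpa using this
    have h3 : g * x ^ (H.subgroupOf M).index * g⁻¹ ∈ H := by rwa [conj_pow] at h2
    have h4 : x ^ (H.subgroupOf M).index = 1 := hTIM g hg _ h1 h3
    have h5 : (⟨x, hx⟩ : M) ∈ K₀.subgroupOf M := by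
      apply S4116.mem_of_pow_mem_of_coprime (K₀.subgroupOf M) ⟨x, hx⟩ (K₀.subgroupOf M).index
      · rw [Subgroup.orderOf_mk]
        exact Nat.Coprime.coprime_dvd_left hK₀idx
          (Nat.Coprime.coprime_dvd_right (orderOf_dvd_of_pow_eq_one h4) hHall)
      · exact Subgroup.pow_index_mem _ _
    exact mem_subgroupOf.mp h5
  obtain ⟨N₁, hN₁n, hN₁M, hN₁sup⟩ := Helper71.wielandt_normal_complement M K₀ hK₀M
    (QuotientGroup.mk' (K₀.subgroupOf M)) (QuotientGroup.mk'_surjective _) hker hTI'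
  have hK₀N₁ : K₀ ≤ N₁ := by rw [← hN₁M]; exact inf_le_left
  refine ⟨?_, N₁, hN₁n, ?_⟩
  · rw [← relIndex_mul_index hDH]
    exact Nat.Coprime.mul_right hDcop
      (Nat.Coprime.coprime_dvd_left (card_dvd_of_le hDH) hHallG)
  · apply isComplement'_of_disjoint_and_mul_eq_univ
    · rw [disjoint_iff, eq_bot_iff]
      intro x hx
      obtain ⟨hxN, hxD⟩ := mem_inf.mp hx
      have hxH : x ∈ H := hDH hxD
      have h1 : x ∈ N₁ ⊓ M := ⟨hxN, hHM hxH⟩
      rw [hN₁M] at h1
      rw [← hLD]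
      exact ⟨hK₀H x h1 hxH, hxD⟩
    · rw [← Subgroup.normal_mul, ← Subgroup.coe_top, SetLike.coe_set_eq, eq_top_iff, ← hN₁sup]
      apply sup_le le_sup_left
      rw [← hQH']
      apply sup_le ((hQK₀.trans hK₀N₁).trans le_sup_left)
      exact hHLD.trans (sup_le ((hLK₀.trans hK₀N₁).trans le_sup_left) le_sup_right)

/-- Let G be a finite group and H a non-normal subgroup meeting each of its conjugates by elements outside N_G(H) trivially, with the order of H coprime to its index in N_G(H), such that G is π-separable for π the set of primes dividing the order of H (G has a chain of normal subgroups from 1 to G each of whose factors has order divisible only by primes dividing the order of H or coprime to it). Suppose a Sylow 2-subgroup of H is abelian and Q is a complement of H in N_G(H). Then C_H(Q), the subgroup of elements of H commuting with Q, has order coprime to its index in G and has a normal complement in G. -/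
theorem result {G : Type*} [Group G] [Finite G] (H : Subgroup G)
    (hTI : Cfsg.IsTISubset (H : Set G)) (hnn : ¬ H.Normal)
    (hHall : (Nat.card H).Coprime (H.subgroupOf (Subgroup.normalizer (H : Set G))).index)
    (hsep : ∃ (n : ℕ) (M : Fin (n + 1) → Subgroup G), M 0 = ⊥ ∧ M (Fin.last n) = ⊤ ∧ Monotone M ∧ (∀ i, (M i).Normal) ∧
      ∀ i : Fin n, (∀ q : ℕ, q.Prime → q ∣ (M i.castSucc).relIndex (M i.succ) → q ∣ Nat.card H) ∨
        ((M i.castSucc).relIndex (M i.succ)).Coprime (Nat.card H))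
    (h2 : ∀ P : Sylow 2 H, IsMulCommutative (P : Subgroup H))
    (Q : Subgroup G) (hQ : Q ≤ Subgroup.normalizer (H : Set G)) (hQH : Q ⊓ H = ⊥) (hQH' : Q ⊔ H = Subgroup.normalizer (H : Set G)) :
    (Nat.card ↥(H ⊓ Subgroup.centralizer (Q : Set G))).Coprime (H ⊓ Subgroup.centralizer (Q : Set G)).index ∧
    ∃ N : Subgroup G, N.Normal ∧ N.IsComplement' (H ⊓ Subgroup.centralizer (Q : Set G)) := by
  obtain ⟨W, hWn, hWcop, hWN⟩ := Helper24.Tih.exists_normal_pi' H hTI hnn hHall hsep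
  have hcyc : ∀ (p : ℕ) [Fact p.Prime] (P : Sylow p H), IsCyclic (P : Subgroup H) :=
    fun p _ P => Helper24.Tih.sylow_cyclic H hTI W hWn hWcop hWN h2 p P
  exact core H hTI hHall hcyc Q hQ hQH hQH'

end Cfsg.Agent.S4151
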