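-- Statement S4154: the centralizer-commutator transversal property passes to quotients.
import Cfsg.Statements.S4154

set_option autoImplicit false
open Cfsg

namespace Cfsg.Agent.S4154

/-- The subgroup of fixed points of an automorphism. -/
def fixedSubgroup {G : Type*} [Group G] (α : MulAut G) : Subgroup G where
  carrier := {x | α x = x}
  mul_mem' := by
    intro a b ha hb
    simp only [Set.mem_setOf_eq] at *
    rw [map_mul, ha, hb]
  one_mem' := map_one α
  inv_mem' := by
    intro a ha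
    simp only [Set.mem_setOf_eq] at *
    rw [map_inv, ha]

theorem mem_fixedSubgroup {G : Type*} [Group G] (α : MulAut G) (x : G) :
    x ∈ fixedSubgroup α ↔ α x = x := Iff.rfl

/-- Key lemma: if every element is (fixed point) * (commutator with `α`), then a commutator with `α`
that is itself fixed is trivial. -/
theorem commutator_fixed_eq_one {G : Type*} [Group G] [Finite G] (α : MulAut G)
    (hccp : ∀ x : G, ∃ c g : G, α c = c ∧ x = c * (g⁻¹ * α g)) (g : G)
    (hg : α (g⁻¹ * α g) = g⁻¹ * α g) : g⁻¹ * α g = 1 := by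
  classical
  set C : Subgroup G := fixedSubgroup α with hC
  set K : Set G := Set.range (fun g : G => g⁻¹ * α g) with hK
  -- `|K| ≤ |G : C|`
  have hcardK : Nat.card K ≤ C.index := by
    rw [Subgroup.index_eq_card]
    refine Nat.card_le_card_of_injective
      (fun k : K => (QuotientGroup.mk ((Classical.choose k.2)⁻¹) : G ⧸ C)) ?_
    intro k₁ k₂ h
    have h1 : (Classical.choose k₁.2)⁻¹ * α (Classical.choose k₁.2) = k₁ := Classical.choose_spec k₁.2
    have h2 : (Classical.choose k₂.2)⁻¹ * α (Classical.choose k₂.2) = k₂ := Classical.choose_spec k₂.2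
    set g₁ := Classical.choose k₁.2
    set g₂ := Classical.choose k₂.2
    have h3 : (g₁⁻¹)⁻¹ * g₂⁻¹ ∈ C := QuotientGroup.eq.mp h
    rw [inv_inv, hC, mem_fixedSubgroup, map_mul, map_inv] at h3
    apply Subtype.ext
    rw [← h1, ← h2]
    -- α g₁ * (α g₂)⁻¹ = g₁ * g₂⁻¹
    have h4 : α g₁ = g₁ * g₂⁻¹ * α g₂ := by
      rw [← h3]; group
    rw [h4]; group
  -- the product map `C × K → G` is surjective
  let m : C × K → G := fun ck => (ck.1 : G) * (ck.2 : G)
  have hsurj : Function.Surjective m := by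
    intro x
    obtain ⟨c, g', hc, hx⟩ := hccp x
    exact ⟨(⟨c, hc⟩, ⟨g'⁻¹ * α g', ⟨g', rfl⟩⟩), hx.symm⟩
  have hcard : Nat.card (C × K) ≤ Nat.card G := by
    rw [Nat.card_prod, ← Subgroup.card_mul_index C]
    exact Nat.mul_le_mul_left _ hcardK
  have hinj : Function.Injective m := (hsurj.bijective_of_nat_card_le hcard).1
  -- compare the two decompositions of `k = g⁻¹ α g`
  have hkC : g⁻¹ * α g ∈ C := hg
  have h1K : (1 : G) ∈ K := ⟨1, by simp⟩
  have hkK : g⁻¹ * α g ∈ K := ⟨g, rfl⟩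
  have heq : m (⟨g⁻¹ * α g, hkC⟩, ⟨1, h1K⟩) = m (1, ⟨g⁻¹ * α g, hkK⟩) := by
    simp [m]
  have := hinj heq
  have h2 := congrArg (fun ck : C × K => ((ck.1 : C) : G)) this
  simpa using h2

theorem result {G : Type*} [Group G] [Finite G] (α : MulAut G)
    (hccp : ∀ x : G, ∃ c g : G, α c = c ∧ x = c * (g⁻¹ * α g))
    (N : Subgroup G) [N.Normal] (hN : ∀ n ∈ N, α n ∈ N) :
    (∀ x : G, ∃ c g : G, c⁻¹ * α c ∈ N ∧ x⁻¹ * (c * (g⁻¹ * α g)) ∈ N) ∧
    (∀ x : G, x⁻¹ * α x ∈ N → ∃ c : G, α c = c ∧ c⁻¹ * x ∈ N) := by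
  classical
  refine ⟨?_, ?_⟩
  · intro x
    obtain ⟨c, g, hc, hx⟩ := hccp x
    refine ⟨c, g, ?_, ?_⟩
    · rw [hc, inv_mul_cancel]; exact N.one_mem
    · rw [← hx, inv_mul_cancel]; exact N.one_mem
  · -- the induced automorphism of `G ⧸ N`
    have hmap : N.map (α : G →* G) = N := by
      apply Subgroup.eq_of_le_of_card_ge
      · rintro _ ⟨n, hn, rfl⟩
        exact hN n hn
      · rw [Subgroup.card_map_of_injective (show Function.Injective (α : G →* G) from α.injective)]
    let αbar : MulAut (G ⧸ N) := QuotientGroup.congr N N α hmap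
    have hαbar : ∀ x : G, αbar (QuotientGroup.mk x) = QuotientGroup.mk (α x) :=
      fun x => QuotientGroup.congr_mk N N α hmap x
    have hccpbar : ∀ y : G ⧸ N, ∃ c g : G ⧸ N, αbar c = c ∧ y = c * (g⁻¹ * αbar g) := by
      intro y
      obtain ⟨x, rfl⟩ := QuotientGroup.mk_surjective y
      obtain ⟨c, g, hc, hx⟩ := hccp x
      refine ⟨QuotientGroup.mk c, QuotientGroup.mk g, ?_, ?_⟩
      · rw [hαbar, hc]
      · rw [hαbar, hx]; simp
    intro x hx
    obtain ⟨c, g, hc, hxc⟩ := hccp x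
    refine ⟨c, hc, ?_⟩
    have hk : c⁻¹ * x = g⁻¹ * α g := by rw [hxc]; group
    rw [hk]
    -- `k = g⁻¹ α g` is fixed modulo `N`
    have hkfix : (g⁻¹ * α g)⁻¹ * α (g⁻¹ * α g) ∈ N := by
      rw [← hk, map_mul, map_inv, hc]
      have : (c⁻¹ * x)⁻¹ * (c⁻¹ * α x) = x⁻¹ * α x := by group
      rw [this]; exact hx
    have hbar : αbar ((QuotientGroup.mk g : G ⧸ N)⁻¹ * αbar (QuotientGroup.mk g)) =
        (QuotientGroup.mk g : G ⧸ N)⁻¹ * αbar (QuotientGroup.mk g) := by
      rw [hαbar]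
      have e1 : (QuotientGroup.mk g : G ⧸ N)⁻¹ * QuotientGroup.mk (α g) =
          QuotientGroup.mk (g⁻¹ * α g) := by simp
      rw [e1, hαbar]
      symm
      rw [QuotientGroup.eq]
      exact hkfix
    have h1 := commutator_fixed_eq_one αbar hccpbar (QuotientGroup.mk g) hbar
    rw [hαbar] at h1
    have e1 : (QuotientGroup.mk g : G ⧸ N)⁻¹ * QuotientGroup.mk (α g) =
        QuotientGroup.mk (g⁻¹ * α g) := by simp
    rw [e1, QuotientGroup.eq_one_iff] at h1
    exact h1

end Cfsg.Agent.S4154
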