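-- Statement S4155: equal order pairs (G, N) with N nilpotent, not of prime power order:
-- N = F(G) and the Sylow subgroups of G/N are cyclic or generalized quaternion.
import Cfsg.Statements.S4155
import Cfsg.Agent.S0016
import Cfsg.Agent.Lib.Cores
import Cfsg.Agent.Lib.Nilpotent
import Cfsg.Agent.Helper65.Nilpotent
import Cfsg.Agent.Helper67.Conj

set_option autoImplicit false
open Cfsg

namespace Cfsg.Agent.S4155

/-- The norm of an element under an endomorphism of order dividing `q` is fixed. -/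
theorem norm_fixed {V : Type*} [CommGroup V] {q : ℕ} (e : Monoid.End V) (he : e ^ q = 1) (v : V) :
    e (∏ k ∈ Finset.range q, (e ^ k) v) = ∏ k ∈ Finset.range q, (e ^ k) v := by
  rw [map_prod]
  have h1 : ∀ k ∈ Finset.range q, e ((e ^ k) v) = (e ^ (k + 1)) v := by
    intro k _
    rw [pow_succ']; rfl
  rw [Finset.prod_congr rfl h1]
  have h2 := Finset.prod_range_succ' (fun k => (e ^ k) v) q
  have h3 := Finset.prod_range_succ (fun k => (e ^ k) v) q
  rw [h3] at h2
  simp only [he, pow_zero] at h2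
  have h4 : ((1 : Monoid.End V) v) = v := rfl
  rw [h4] at h2
  exact (mul_right_cancel h2).symm

/-- The norm trick: two commuting automorphisms of order `q` of an abelian group, all of whose
nontrivial products act fixed point freely, force exponent `q`. -/
theorem norm_trick {V : Type*} [CommGroup V] {q : ℕ} (hq : 1 < q) (α β : Monoid.End V)
    (hαβ : Commute α β) (hα : α ^ q = 1) (hβ : β ^ q = 1)
    (hfix : ∀ i j : ℕ, ¬ (q ∣ i ∧ q ∣ j) → ∀ w : V, (α ^ i * β ^ j) w = w → w = 1) :
    ∀ v : V, v ^ q = 1 := by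
  intro v
  -- norms vanish
  have hnorm : ∀ i j : ℕ, ¬ (q ∣ i ∧ q ∣ j) →
      ∏ k ∈ Finset.range q, ((α ^ i * β ^ j) ^ k) v = 1 := by
    intro i j hij
    apply hfix i j hij
    apply norm_fixed
    rw [(hαβ.pow_pow i j).mul_pow, ← pow_mul, ← pow_mul, mul_comm i q, mul_comm j q, pow_mul, pow_mul,
      hα, hβ, one_pow, one_pow, one_mul]
  have h1 : ∏ j ∈ Finset.range q, ∏ k ∈ Finset.range q, ((α ^ 1 * β ^ j) ^ k) v = 1 := by
    apply Finset.prod_eq_one
    intro j _
    apply hnorm 1 j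
    rintro ⟨h, -⟩
    exact absurd (Nat.le_of_dvd one_pos h) (not_le.mpr hq)
  rw [Finset.prod_comm] at h1
  have h2 : ∀ k ∈ Finset.range q, k ≠ 0 →
      ∏ j ∈ Finset.range q, ((α ^ 1 * β ^ j) ^ k) v = 1 := by
    intro k hk hk0
    have h3 : ∀ j ∈ Finset.range q, ((α ^ 1 * β ^ j) ^ k) v = (α ^ k) (((α ^ 0 * β ^ k) ^ j) v) := by
      intro j _
      rw [(hαβ.pow_pow 1 j).mul_pow, pow_one, pow_zero, one_mul, ← pow_mul, ← pow_mul, mul_comm j k]
      rfl
    rw [Finset.prod_congr rfl h3, ← map_prod]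
    rw [hnorm 0 k, map_one]
    rintro ⟨-, h⟩
    have := Nat.le_of_dvd (Nat.pos_of_ne_zero hk0) h
    exact absurd (Finset.mem_range.mp hk) (not_lt.mpr this)
  rw [Finset.prod_eq_single 0 (fun k hk hk0 => h2 k hk hk0)
    (fun h => absurd (Finset.mem_range.mpr (by omega)) h)] at h1
  simpa using h1

/-- If `y ^ n ∈ N` with `n` coprime to the order of `y` then `y ∈ N`. -/
theorem mem_of_pow_mem_of_coprime {G : Type*} [Group G] (N : Subgroup G) {y : G} {n : ℕ}
    (h : y ^ n ∈ N) (hcop : (orderOf y).Coprime n) : y ∈ N := by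
  have hb := Nat.gcd_eq_gcd_ab n (orderOf y)
  rw [hcop.symm.gcd_eq_one] at hb
  have h3 : y ^ ((orderOf y : ℤ) * Nat.gcdB n (orderOf y)) = 1 := by
    rw [zpow_mul, zpow_natCast, pow_orderOf_eq_one, one_zpow]
  have h2 : y = (y ^ n) ^ (Nat.gcdA n (orderOf y)) := by
    calc y = y ^ ((1 : ℕ) : ℤ) := by simp
      _ = y ^ ((n : ℤ) * Nat.gcdA n (orderOf y) + (orderOf y : ℤ) * Nat.gcdB n (orderOf y)) := by
          rw [hb]
      _ = (y ^ n) ^ (Nat.gcdA n (orderOf y)) := by
          rw [zpow_add, h3, mul_one, zpow_mul, zpow_natCast]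
  have h4 : (y ^ n) ^ (Nat.gcdA n (orderOf y)) ∈ N := N.zpow_mem h _
  rwa [← h2] at h4

/-- In an equal order pair, an element of `N` commuting with an element outside `N` of coprime
order is trivial. -/
theorem eq_one_of_commute_coprime {G : Type*} [Group G] [Finite G] (N : Subgroup G)
    (heq : ∀ x : G, x ∉ N → ∀ n ∈ N, orderOf (x * n) = orderOf x)
    {x n : G} (hx : x ∉ N) (hn : n ∈ N) (hcomm : x * n = n * x)
    (hcop : (orderOf x).Coprime (orderOf n)) : n = 1 := by
  have h1 := (show Commute x n from hcomm).orderOf_mul_eq_mul_orderOf_of_coprime hcop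
  rw [heq x hx n hn] at h1
  have hpos : 0 < orderOf x := orderOf_pos x
  have h2 : orderOf n = 1 := by
    have : orderOf x * 1 = orderOf x * orderOf n := by rw [mul_one]; exact h1
    exact (Nat.eq_of_mul_eq_mul_left hpos this).symm
  exact orderOf_eq_one_iff.mp h2

/-- In an equal order pair, an element `g ∉ N` which is a `q`-element modulo `N` has no nontrivial
fixed points of order coprime to `q` in `N`. -/
theorem eq_one_of_commute_of_pow_mem {G : Type*} [Group G] [Finite G] (N : Subgroup G)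
    (heq : ∀ x : G, x ∉ N → ∀ n ∈ N, orderOf (x * n) = orderOf x)
    {q : ℕ} [Fact q.Prime] {g w : G} {k : ℕ} (hg : g ∉ N) (hgk : g ^ (q ^ k) ∈ N)
    (hw : w ∈ N) (hwq : (orderOf w).Coprime q) (hcomm : g * w = w * g) : w = 1 := by
  obtain ⟨y, z, hy, hz, hgyz, hycop, k', hzk'⟩ :=
    Cfsg.Agent.Helper67.exists_pprime_ppart q (isOfFinOrder_of_finite g)
  have hyN : y ∈ N := by
    apply mem_of_pow_mem_of_coprime N (n := q ^ k) _ (Nat.Coprime.pow_right k hycop)
    obtain ⟨m, rfl⟩ := Subgroup.mem_zpowers_iff.mp hy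
    have : (g ^ m) ^ (q ^ k) = (g ^ (q ^ k)) ^ m := by
      rw [← zpow_natCast, ← zpow_mul, mul_comm, zpow_mul, zpow_natCast]
    rw [this]
    exact N.zpow_mem hgk m
  have hzN : z ∉ N := by
    intro hzN
    apply hg
    rw [hgyz]
    exact N.mul_mem hyN hzN
  have hzw : z * w = w * z := by
    obtain ⟨m, rfl⟩ := Subgroup.mem_zpowers_iff.mp hz
    exact ((show Commute g w from hcomm).zpow_left m).eq
  have hcop : (orderOf z).Coprime (orderOf w) := by
    have h1 : orderOf z ∣ q ^ k' := orderOf_dvd_of_pow_eq_one hzk'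
    exact Nat.Coprime.coprime_dvd_left h1 (Nat.Coprime.pow_left k' hwq.symm)
  exact eq_one_of_commute_coprime N heq hzN hw hzw hcop

/-- A nilpotent subgroup whose order is divisible by `r` has a central element of order `r`. -/
theorem exists_central_of_order {G : Type*} [Group G] [Finite G] (N : Subgroup G)
    (hnil : Group.IsNilpotent N) {r : ℕ} [hr : Fact r.Prime] (hrN : r ∣ Nat.card N) :
    ∃ v ∈ N, (∀ n ∈ N, n * v = v * n) ∧ orderOf v = r := by
  classical
  obtain ⟨R⟩ := (inferInstance : Nonempty (Sylow r N))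
  haveI : (R : Subgroup N).Normal := inferInstance
  have hRne : (R : Subgroup N) ≠ ⊥ := by
    intro hbot
    have h1 : Nat.card (R : Subgroup N) = r ^ (Nat.card N).factorization r := R.card_eq_multiplicity
    rw [hbot, Subgroup.card_bot] at h1
    have h2 : 0 < (Nat.card N).factorization r :=
      hr.out.factorization_pos_of_dvd Nat.card_pos.ne' hrN
    have : 1 < r ^ (Nat.card N).factorization r := Nat.one_lt_pow h2.ne' hr.out.one_lt
    omega
  have hne := Cfsg.Agent.Lib.normal_inf_center_ne_bot (R : Subgroup N) hRne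
  set T : Subgroup N := (R : Subgroup N) ⊓ Subgroup.center N with hT
  have hTp : IsPGroup r T := R.isPGroup'.to_le inf_le_left
  have hTcard : r ∣ Nat.card T := by
    rcases hTp.card_eq_or_dvd with h | h
    · exact absurd (Subgroup.card_eq_one.mp h) hne
    · exact h
  obtain ⟨t, ht⟩ := exists_prime_orderOf_dvd_card' r hTcard
  refine ⟨((t : N) : G), (t : N).2, ?_, ?_⟩
  · intro n hn
    have hc : (t : N) ∈ Subgroup.center N := (Subgroup.mem_inf.mp t.2).2
    have := Subgroup.mem_center_iff.mp hc ⟨n, hn⟩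
    exact congrArg Subtype.val this
  · rw [Subgroup.orderOf_coe, Subgroup.orderOf_coe]; exact ht

/-- No rank two elementary abelian `q`-subgroup in `G / N`. -/
theorem no_rank_two {G : Type*} [Group G] [Finite G] (N : Subgroup G) [hNn : N.Normal]
    (heq : ∀ x : G, x ∉ N → ∀ n ∈ N, orderOf (x * n) = orderOf x)
    (hnil : Group.IsNilpotent N) {q r : ℕ} [hq : Fact q.Prime] [hr : Fact r.Prime] (hrq : r ≠ q)
    (hrN : r ∣ Nat.card N) (a b : G) (haq : a ^ q ∈ N) (hbq : b ^ q ∈ N)
    (hab : a * b * a⁻¹ * b⁻¹ ∈ N)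
    (hind : ∀ i j : ℕ, a ^ i * b ^ j ∈ N → q ∣ i ∧ q ∣ j) : False := by
  classical
  obtain ⟨v, hvN, hvc, hvr⟩ := exists_central_of_order N hnil hrN
  -- the abelian normal subgroup `V`
  let V : Subgroup G :=
    { carrier := {w | w ∈ N ∧ (∀ n ∈ N, n * w = w * n) ∧ w ^ r = 1}
      one_mem' := ⟨N.one_mem, fun n _ => by rw [mul_one, one_mul], one_pow r⟩
      mul_mem' := by
        rintro x y ⟨hxN, hxc, hxr⟩ ⟨hyN, hyc, hyr⟩
        refine ⟨N.mul_mem hxN hyN, ?_, ?_⟩
        · intro n hn
          calc n * (x * y) = (n * x) * y := by group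
            _ = x * (n * y) := by rw [hxc n hn]; group
            _ = x * y * n := by rw [hyc n hn]; group
        · have hxy : Commute x y := hyc x hxN
          rw [hxy.mul_pow, hxr, hyr, one_mul]
      inv_mem' := by
        rintro x ⟨hxN, hxc, hxr⟩
        refine ⟨N.inv_mem hxN, ?_, by rw [inv_pow, hxr, inv_one]⟩
        intro n hn
        have := hxc n hn
        calc n * x⁻¹ = x⁻¹ * (x * n) * x⁻¹ := by group
          _ = x⁻¹ * (n * x) * x⁻¹ := by rw [this]
          _ = x⁻¹ * n := by group }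
  have hVmem : ∀ w : G, w ∈ V ↔ w ∈ N ∧ (∀ n ∈ N, n * w = w * n) ∧ w ^ r = 1 := fun w => Iff.rfl
  letI : CommGroup V :=
    { (inferInstance : Group V) with
      mul_comm := fun x y => Subtype.ext (((hVmem y).mp y.2).2.1 x ((hVmem x).mp x.2).1) }
  have hconj_mem : ∀ g : G, ∀ w ∈ V, g * w * g⁻¹ ∈ V := by
    intro g w hw
    obtain ⟨hwN, hwc, hwr⟩ := (hVmem w).mp hw
    refine (hVmem _).mpr ⟨hNn.conj_mem w hwN g, ?_, ?_⟩
    · intro n hn
      have h1 : g⁻¹ * n * g ∈ N := by
        have := hNn.conj_mem n hn g⁻¹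
        rwa [inv_inv] at this
      have h2 := hwc _ h1
      calc n * (g * w * g⁻¹) = g * ((g⁻¹ * n * g) * w) * g⁻¹ := by group
        _ = g * (w * (g⁻¹ * n * g)) * g⁻¹ := by rw [h2]
        _ = g * w * g⁻¹ * n := by group
    · rw [conj_pow, hwr]; group
  -- the conjugation action as a monoid hom
  let cV : G →* Monoid.End V :=
    { toFun := fun g =>
        { toFun := fun w => ⟨g * (w : G) * g⁻¹, hconj_mem g w w.2⟩
          map_one' := by apply Subtype.ext; simp
          map_mul' := by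
            intro x y; apply Subtype.ext
            change g * ((x : G) * (y : G)) * g⁻¹ = (g * (x : G) * g⁻¹) * (g * (y : G) * g⁻¹)
            group }
      map_one' := by
        apply MonoidHom.ext; intro w; apply Subtype.ext
        change (1 : G) * (w : G) * (1 : G)⁻¹ = (w : G)
        group
      map_mul' := by
        intro g h; apply MonoidHom.ext; intro w; apply Subtype.ext
        change (g * h) * (w : G) * (g * h)⁻¹ = g * (h * (w : G) * h⁻¹) * g⁻¹
        group }
  have hcV : ∀ (g : G) (w : V), ((cV g w : V) : G) = g * (w : G) * g⁻¹ := fun _ _ => rfl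
  have hcVN : ∀ n ∈ N, cV n = 1 := by
    intro n hn
    apply MonoidHom.ext; intro w; apply Subtype.ext
    have := ((hVmem w).mp w.2).2.1 n hn
    change n * (w : G) * n⁻¹ = (w : G)
    rw [this]; group
  have hα : (cV a) ^ q = 1 := by rw [← map_pow]; exact hcVN _ haq
  have hβ : (cV b) ^ q = 1 := by rw [← map_pow]; exact hcVN _ hbq
  have hαβ : Commute (cV a) (cV b) := by
    change cV a * cV b = cV b * cV a
    rw [← map_mul, ← map_mul]
    have : a * b = (a * b * a⁻¹ * b⁻¹) * (b * a) := by group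
    rw [this, map_mul, hcVN _ hab, one_mul]
  -- commutation modulo `N`
  have hcomm_mk : Commute (QuotientGroup.mk a : G ⧸ N) (QuotientGroup.mk b : G ⧸ N) := by
    have h1 : (QuotientGroup.mk (a * b * a⁻¹ * b⁻¹) : G ⧸ N) = 1 :=
      (QuotientGroup.eq_one_iff _).mpr hab
    rw [QuotientGroup.mk_mul, QuotientGroup.mk_mul, QuotientGroup.mk_mul, QuotientGroup.mk_inv,
      QuotientGroup.mk_inv] at h1
    change (QuotientGroup.mk a : G ⧸ N) * QuotientGroup.mk b = QuotientGroup.mk b * QuotientGroup.mk a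
    have h2 := mul_inv_eq_one.mp h1
    exact mul_inv_eq_iff_eq_mul.mp h2
  have hmkaq : (QuotientGroup.mk a : G ⧸ N) ^ q = 1 := by
    rw [← QuotientGroup.mk_pow]; exact (QuotientGroup.eq_one_iff _).mpr haq
  have hmkbq : (QuotientGroup.mk b : G ⧸ N) ^ q = 1 := by
    rw [← QuotientGroup.mk_pow]; exact (QuotientGroup.eq_one_iff _).mpr hbq
  have hfix : ∀ i j : ℕ, ¬ (q ∣ i ∧ q ∣ j) → ∀ w : V, ((cV a) ^ i * (cV b) ^ j) w = w → w = 1 := by
    intro i j hij w hw
    rw [← map_pow, ← map_pow, ← map_mul] at hw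
    have hw' : (a ^ i * b ^ j) * (w : G) * (a ^ i * b ^ j)⁻¹ = (w : G) := by
      rw [← hcV]; rw [hw]
    set g := a ^ i * b ^ j with hg
    have hgN : g ∉ N := fun h => hij (hind i j h)
    have hgq : g ^ (q ^ 1) ∈ N := by
      rw [pow_one, ← QuotientGroup.eq_one_iff, QuotientGroup.mk_pow, hg, QuotientGroup.mk_mul,
        QuotientGroup.mk_pow, QuotientGroup.mk_pow, (hcomm_mk.pow_pow i j).mul_pow, ← pow_mul,
        ← pow_mul, mul_comm i q, mul_comm j q, pow_mul, pow_mul, hmkaq, hmkbq, one_pow, one_pow,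
        one_mul]
    obtain ⟨hwN, -, hwr⟩ := (hVmem w).mp w.2
    have hwq : (orderOf (w : G)).Coprime q := by
      have h1 : orderOf (w : G) ∣ r := orderOf_dvd_of_pow_eq_one hwr
      exact Nat.Coprime.coprime_dvd_left h1 ((Nat.coprime_primes hr.out hq.out).mpr hrq)
    have hgw : g * (w : G) = (w : G) * g := by
      calc g * (w : G) = (g * (w : G) * g⁻¹) * g := by group
        _ = (w : G) * g := by rw [hw']
    have := eq_one_of_commute_of_pow_mem N heq hgN hgq hwN hwq hgw
    exact Subtype.ext this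
  have hexp := norm_trick hq.out.one_lt (cV a) (cV b) hαβ hα hβ hfix
  have hvV : v ∈ V := (hVmem v).mpr ⟨hvN, hvc, by rw [← hvr]; exact pow_orderOf_eq_one v⟩
  have h1 := hexp ⟨v, hvV⟩
  have h2 : v ^ q = 1 := congrArg Subtype.val h1
  have h3 : r ∣ q := by rw [← hvr]; exact orderOf_dvd_of_pow_eq_one h2
  exact hrq ((Nat.prime_dvd_prime_iff_eq hr.out hq.out).mp h3)

/-- Let G be a finite group and N a proper non-trivial normal nilpotent subgroup whose order is not a prime power, such that for every x outside N all elements of the coset xN have the same order as x. Then N is the Fitting subgroup of G, and for every prime q every Sylow q-subgroup of G/N is cyclic or generalized quaternion. -/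
theorem result {G : Type*} [Group G] [Finite G] (N : Subgroup G) [N.Normal] (hN1 : N ≠ ⊥) (hN2 : N ≠ ⊤)
    (heq : ∀ x : G, x ∉ N → ∀ n ∈ N, orderOf (x * n) = orderOf x)
    (hnil : Group.IsNilpotent N) (hnpp : ¬ IsPrimePow (Nat.card N)) :
    N = Cfsg.fittingSubgroup G ∧
    ∀ (q : ℕ) [Fact q.Prime] (Q : Sylow q (G ⧸ N)), IsCyclic (Q : Subgroup (G ⧸ N)) ∨ ∃ n : ℕ, Nonempty ((Q : Subgroup (G ⧸ N)) ≃* QuaternionGroup (2 ^ n)) := by
  classical
  have hNn : N.Normal := inferInstance
  have hcard1 : Nat.card N ≠ 1 := fun h => hN1 (Subgroup.card_eq_one.mp h)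
  obtain ⟨r₀, hr₀, hr₀N⟩ := Nat.exists_prime_and_dvd hcard1
  have hex2 : ∀ q : ℕ, ∃ r : ℕ, r.Prime ∧ r ∣ Nat.card N ∧ r ≠ q := by
    intro q
    by_contra hcon
    push Not at hcon
    apply hnpp
    rw [isPrimePow_iff_unique_prime_dvd]
    refine ⟨r₀, ⟨hr₀, hr₀N⟩, ?_⟩
    rintro s ⟨hs, hsN⟩
    rw [hcon s hs hsN, hcon r₀ hr₀ hr₀N]
  constructor
  · -- `N = F(G)`
    apply le_antisymm (Cfsg.Agent.Lib.le_fittingSubgroup hNn hnil)
    set F := Cfsg.fittingSubgroup G with hF
    haveI hFnil : Group.IsNilpotent F := Cfsg.Agent.Lib.isNilpotent_fittingSubgroup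
    have key : ∀ u ∈ F, u ∉ N → ∀ n ∈ N, (orderOf u).Coprime (orderOf n) → n = 1 := by
      intro u huF huN n hn hcop
      have hnF : n ∈ F := (Cfsg.Agent.Lib.le_fittingSubgroup hNn hnil) hn
      have hc := Cfsg.Agent.Helper65.commute_of_coprime_orderOf F ⟨u, huF⟩ ⟨n, hnF⟩
        (by rw [Subgroup.orderOf_mk, Subgroup.orderOf_mk]; exact hcop)
      have hc' : u * n = n * u := congrArg Subtype.val hc.eq
      exact eq_one_of_commute_coprime N heq huN hn hc' hcop
    intro x hxF
    by_contra hxN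
    haveI : Fact r₀.Prime := ⟨hr₀⟩
    obtain ⟨y, z, hy, hz, hxyz, hycop, k, hzk⟩ :=
      Cfsg.Agent.Helper67.exists_pprime_ppart r₀ (isOfFinOrder_of_finite x)
    have hyF : y ∈ F := by
      obtain ⟨m, rfl⟩ := Subgroup.mem_zpowers_iff.mp hy; exact F.zpow_mem hxF m
    have hzF : z ∈ F := by
      obtain ⟨m, rfl⟩ := Subgroup.mem_zpowers_iff.mp hz; exact F.zpow_mem hxF m
    by_cases hzN : z ∈ N
    · have hyN : y ∉ N := fun h => hxN (by rw [hxyz]; exact N.mul_mem h hzN)
      obtain ⟨n, hn⟩ := exists_prime_orderOf_dvd_card' (G := N) r₀ hr₀N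
      have h1 := key y hyF hyN (n : G) n.2 (by rw [Subgroup.orderOf_coe, hn]; exact hycop)
      have h1' : n = 1 := Subtype.ext h1
      rw [h1', orderOf_one] at hn
      exact hr₀.one_lt.ne hn
    · obtain ⟨s, hs, hsN, hsr⟩ := hex2 r₀
      haveI : Fact s.Prime := ⟨hs⟩
      obtain ⟨n, hn⟩ := exists_prime_orderOf_dvd_card' (G := N) s hsN
      have hcop : (orderOf z).Coprime (orderOf (n : G)) := by
        rw [Subgroup.orderOf_coe, hn]
        have h1 : orderOf z ∣ r₀ ^ k := orderOf_dvd_of_pow_eq_one hzk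
        exact Nat.Coprime.coprime_dvd_left h1
          (Nat.Coprime.pow_left k ((Nat.coprime_primes hr₀ hs).mpr hsr.symm))
      have h1 := key z hzF hzN (n : G) n.2 hcop
      have h1' : n = 1 := Subtype.ext h1
      rw [h1', orderOf_one] at hn
      exact hs.one_lt.ne hn
  · intro q hq Q
    -- commuting elements of order `q` in `G ⧸ N` generate the same subgroup
    have key2 : ∀ x y : G ⧸ N, orderOf x = q → orderOf y = q → x * y = y * x →
        y ∈ Subgroup.zpowers x := by
      intro x y hx hy hcomm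
      by_contra hnot
      obtain ⟨a, rfl⟩ := QuotientGroup.mk_surjective x
      obtain ⟨b, rfl⟩ := QuotientGroup.mk_surjective y
      obtain ⟨r, hr, hrN, hrq⟩ := hex2 q
      haveI : Fact r.Prime := ⟨hr⟩
      refine no_rank_two N heq hnil hrq hrN a b ?_ ?_ ?_ ?_
      · rw [← QuotientGroup.eq_one_iff, QuotientGroup.mk_pow, ← hx]; exact pow_orderOf_eq_one _
      · rw [← QuotientGroup.eq_one_iff, QuotientGroup.mk_pow, ← hy]; exact pow_orderOf_eq_one _
      · rw [← QuotientGroup.eq_one_iff, QuotientGroup.mk_mul, QuotientGroup.mk_mul,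
          QuotientGroup.mk_mul, QuotientGroup.mk_inv, QuotientGroup.mk_inv, hcomm]
        group
      · intro i j hij
        have h1 : (QuotientGroup.mk a : G ⧸ N) ^ i * (QuotientGroup.mk b : G ⧸ N) ^ j = 1 := by
          rw [← QuotientGroup.mk_pow, ← QuotientGroup.mk_pow, ← QuotientGroup.mk_mul]
          exact (QuotientGroup.eq_one_iff _).mpr hij
        have hj : q ∣ j := by
          by_contra hqj
          apply hnot
          have h2 : (QuotientGroup.mk b : G ⧸ N) ^ j ∈
              Subgroup.zpowers (QuotientGroup.mk a : G ⧸ N) := by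
            have : (QuotientGroup.mk b : G ⧸ N) ^ j = ((QuotientGroup.mk a : G ⧸ N) ^ i)⁻¹ :=
              eq_inv_of_mul_eq_one_right h1
            rw [this]
            exact Subgroup.inv_mem _ (Subgroup.pow_mem _ (Subgroup.mem_zpowers _) i)
          apply mem_of_pow_mem_of_coprime _ h2
          rw [hy]; exact (Nat.Prime.coprime_iff_not_dvd hq.out).mpr hqj
        refine ⟨?_, hj⟩
        have h3 : (QuotientGroup.mk b : G ⧸ N) ^ j = 1 := by
          rw [← hy] at hj; exact orderOf_dvd_iff_pow_eq_one.mp hj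
        rw [h3, mul_one] at h1
        rw [← hx]; exact orderOf_dvd_of_pow_eq_one h1
    have hQp : IsPGroup q (Q : Subgroup (G ⧸ N)) := Q.isPGroup'
    have hu : Cfsg.Agent.Helper73.UniqueOrderP q (Q : Subgroup (G ⧸ N)) := by
      intro x y hx hy
      haveI : Nontrivial (Q : Subgroup (G ⧸ N)) :=
        ⟨⟨x, 1, fun h => by rw [h, orderOf_one] at hx; exact hq.out.one_lt.ne hx⟩⟩
      haveI hZnt : Nontrivial (Subgroup.center (Q : Subgroup (G ⧸ N))) := hQp.center_nontrivial
      have hZp : IsPGroup q (Subgroup.center (Q : Subgroup (G ⧸ N))) := hQp.to_subgroup _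
      have hdvd : q ∣ Nat.card (Subgroup.center (Q : Subgroup (G ⧸ N))) := by
        obtain ⟨n, hn0, hn⟩ := hZp.nontrivial_iff_card.mp hZnt
        rw [hn]; exact dvd_pow_self q hn0.ne'
      obtain ⟨z, hz⟩ := exists_prime_orderOf_dvd_card' q hdvd
      have hzc : ∀ g : (Q : Subgroup (G ⧸ N)), g * (z : (Q : Subgroup (G ⧸ N))) = z * g :=
        fun g => Subgroup.mem_center_iff.mp z.2 g
      have hzo : orderOf (((z : (Q : Subgroup (G ⧸ N))) : G ⧸ N)) = q := by
        rw [Subgroup.orderOf_coe, Subgroup.orderOf_coe]; exact hz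
      have hx' : orderOf (x : G ⧸ N) = q := by rw [Subgroup.orderOf_coe]; exact hx
      have hy' : orderOf (y : G ⧸ N) = q := by rw [Subgroup.orderOf_coe]; exact hy
      have hxz := key2 _ _ hzo hx' (congrArg Subtype.val (hzc x)).symm
      have hyz := key2 _ _ hzo hy' (congrArg Subtype.val (hzc y)).symm
      -- `z ∈ ⟨x⟩`
      have hzx : ((z : (Q : Subgroup (G ⧸ N))) : G ⧸ N) ∈ Subgroup.zpowers (x : G ⧸ N) :=
        key2 _ _ hx' hzo (congrArg Subtype.val (hzc x))
      have hyx : (y : G ⧸ N) ∈ Subgroup.zpowers (x : G ⧸ N) :=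
        (Subgroup.zpowers_le.mpr hzx) hyz
      obtain ⟨m, hm⟩ := Subgroup.mem_zpowers_iff.mp hyx
      refine Subgroup.mem_zpowers_iff.mpr ⟨m, Subtype.ext ?_⟩
      rw [Subgroup.coe_zpow]; exact hm
    rcases Cfsg.Agent.Helper73.cyclic_or_quaternion hQp hu with h | ⟨-, n, -, hn⟩
    · exact Or.inl h
    · exact Or.inr ⟨n, hn⟩

end Cfsg.Agent.S4155
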