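-- Statement S4156: the alternating group of degree n+1 embeds in PSL_n(F).
import Cfsg.Statements.S4156

set_option autoImplicit false
open Cfsg

namespace Cfsg.Agent.S4156

variable (n : ℕ) (F : Type*) [Field F]

/-- The submodule of vectors with coordinate sum zero. -/
def sumZero : Submodule F (Fin (n + 1) → F) where
  carrier := {f | ∑ i, f i = 0}
  add_mem' := by
    intro a b ha hb
    simp only [Set.mem_setOf_eq] at *
    simp [Finset.sum_add_distrib, ha, hb]
  zero_mem' := by simp
  smul_mem' := by
    intro c a ha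
    simp only [Set.mem_setOf_eq] at *
    simp [← Finset.mul_sum, ha]

theorem mem_sumZero (f : Fin (n + 1) → F) : f ∈ sumZero n F ↔ ∑ i, f i = 0 := Iff.rfl

/-- The action of a permutation on the sum-zero submodule. -/
def tau (σ : Equiv.Perm (Fin (n + 1))) : sumZero n F →ₗ[F] sumZero n F where
  toFun v := ⟨fun i => v.1 (σ⁻¹ i), by
    change ∑ i, v.1 (σ⁻¹ i) = 0
    rw [Equiv.sum_comp σ⁻¹ v.1]
    exact v.2⟩
  map_add' := by intro a b; ext i; rfl
  map_smul' := by intro c a; ext i; rfl

theorem tau_apply (σ : Equiv.Perm (Fin (n + 1))) (v : sumZero n F) (i : Fin (n + 1)) :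
    (tau n F σ v).1 i = v.1 (σ⁻¹ i) := rfl

/-- The deleted permutation representation as a monoid homomorphism. -/
def tauHom : Equiv.Perm (Fin (n + 1)) →* (sumZero n F →ₗ[F] sumZero n F) where
  toFun := tau n F
  map_one' := by ext v i; rfl
  map_mul' := by
    intro σ τ
    ext v i
    change v.1 ((σ * τ)⁻¹ i) = v.1 (τ⁻¹ (σ⁻¹ i))
    rw [mul_inv_rev]; rfl

theorem finrank_sumZero : Module.finrank F (sumZero n F) = n := by
  classical
  set S : (Fin (n + 1) → F) →ₗ[F] F := ∑ i, LinearMap.proj i with hS
  have hSapp : ∀ f, S f = ∑ i, f i := fun f => by simp [hS, LinearMap.sum_apply]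
  have hker : sumZero n F = LinearMap.ker S := by
    ext f
    rw [LinearMap.mem_ker, hSapp, mem_sumZero]
  have hsurj : Function.Surjective S := by
    intro c
    refine ⟨Pi.single 0 c, ?_⟩
    rw [hSapp]
    simp
  have hrange : Module.finrank F (LinearMap.range S) = 1 := by
    rw [LinearMap.range_eq_top.mpr hsurj, finrank_top, Module.finrank_self]
  have := LinearMap.finrank_range_add_finrank_ker S
  rw [hrange, Module.finrank_fin_fun, ← hker] at this
  omega


/-- The determinant of the deleted permutation representation is trivial on even permutations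
(of degree at least 5), because the alternating group is perfect. -/
theorem det_tau_eq_one (hn : 5 ≤ n + 1) (g : alternatingGroup (Fin (n + 1))) :
    LinearMap.det (tau n F (g : Equiv.Perm (Fin (n + 1)))) = 1 := by
  classical
  set d : alternatingGroup (Fin (n + 1)) →* F :=
    (LinearMap.det.comp (tauHom n F)).comp (alternatingGroup (Fin (n + 1))).subtype with hd
  have hperf : commutator (alternatingGroup (Fin (n + 1))) = ⊤ :=
    commutator_alternatingGroup_eq_top (by simpa using hn)
  have hker : d.toHomUnits.ker = ⊤ := by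
    rw [eq_top_iff, ← hperf]
    exact Abelianization.commutator_subset_ker _
  have hg : g ∈ d.toHomUnits.ker := by rw [hker]; trivial
  rw [MonoidHom.mem_ker] at hg
  have := congrArg Units.val hg
  change LinearMap.det (tauHom n F (g : Equiv.Perm (Fin (n + 1)))) = 1
  simpa [hd, MonoidHom.coe_toHomUnits] using this

theorem det_toMatrixAlgEquiv' {ι M : Type*} [Fintype ι] [DecidableEq ι] [AddCommGroup M] [Module F M]
    (b : Module.Basis ι F M) (f : M →ₗ[F] M) :
    (LinearMap.toMatrixAlgEquiv b f).det = LinearMap.det f := by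
  have : LinearMap.toMatrixAlgEquiv b f = LinearMap.toMatrix b b f := by
    ext i j
    rw [LinearMap.toMatrixAlgEquiv_apply, LinearMap.toMatrix_apply]
  rw [this, LinearMap.det_toMatrix]

/-- The matrix of an even permutation, as an element of the special linear group. -/
noncomputable def slHom (hn : 5 ≤ n + 1) :
    alternatingGroup (Fin (n + 1)) →* Matrix.SpecialLinearGroup (Fin n) F where
  toFun g := ⟨LinearMap.toMatrixAlgEquiv (Module.finBasisOfFinrankEq F (sumZero n F) (finrank_sumZero n F))
      (tau n F (g : Equiv.Perm (Fin (n + 1)))), by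
    rw [det_toMatrixAlgEquiv', det_tau_eq_one n F hn g]⟩
  map_one' := by
    apply Subtype.ext
    change LinearMap.toMatrixAlgEquiv _ (tauHom n F (1 : Equiv.Perm (Fin (n + 1)))) = 1
    rw [map_one, map_one]
  map_mul' := by
    intro a b
    apply Subtype.ext
    change LinearMap.toMatrixAlgEquiv _ (tauHom n F ((a : Equiv.Perm (Fin (n + 1))) * (b : Equiv.Perm (Fin (n + 1))))) =
      LinearMap.toMatrixAlgEquiv _ (tauHom n F (a : Equiv.Perm (Fin (n + 1)))) *
      LinearMap.toMatrixAlgEquiv _ (tauHom n F (b : Equiv.Perm (Fin (n + 1))))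
    rw [map_mul, map_mul]

theorem slHom_coe (hn : 5 ≤ n + 1) (g : alternatingGroup (Fin (n + 1))) :
    ((slHom n F hn g : Matrix.SpecialLinearGroup (Fin n) F) : Matrix (Fin n) (Fin n) F) =
      LinearMap.toMatrixAlgEquiv (Module.finBasisOfFinrankEq F (sumZero n F) (finrank_sumZero n F))
        (tau n F (g : Equiv.Perm (Fin (n + 1)))) := rfl

/-- If an even permutation acts as a scalar on the sum-zero module then it is trivial. -/
theorem eq_one_of_scalar (hn : 3 ≤ n + 1) (σ : Equiv.Perm (Fin (n + 1))) (r : F)
    (h : ∀ v : sumZero n F, tau n F σ v = r • v) : σ = 1 := by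
  classical
  by_contra hne
  obtain ⟨i, hi⟩ : ∃ i, σ i ≠ i := by
    by_contra hall
    push Not at hall
    exact hne (Equiv.ext hall)
  -- choose `j` different from `i` and `σ i`
  obtain ⟨j, -, hj⟩ : ∃ j ∈ (Finset.univ : Finset (Fin (n + 1))), j ∉ ({i, σ i} : Finset (Fin (n + 1))) := by
    apply Finset.exists_mem_notMem_of_card_lt_card
    calc ({i, σ i} : Finset (Fin (n + 1))).card ≤ 2 := Finset.card_le_two
      _ < n + 1 := by omega
      _ = (Finset.univ : Finset (Fin (n + 1))).card := by simp
  simp only [Finset.mem_insert, Finset.mem_singleton, not_or] at hj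
  obtain ⟨hji, hjs⟩ := hj
  -- the vector `e_i - e_j`
  have hv : (Pi.single i 1 - Pi.single j 1 : Fin (n + 1) → F) ∈ sumZero n F := by
    rw [mem_sumZero]
    simp [Finset.sum_sub_distrib]
  have h1 := congrArg (fun w : sumZero n F => w.1 (σ i)) (h ⟨_, hv⟩)
  have hinv : σ⁻¹ (σ i) = i := by simp
  simp only [tau_apply, hinv, Submodule.coe_smul, Pi.smul_apply, Pi.sub_apply,
    Pi.single_apply, smul_eq_mul] at h1
  have hsj : ¬ σ i = j := fun h => hjs h.symm
  have hij : ¬ i = j := fun h => hji h.symm
  simp [hi, hsj, hij] at h1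

theorem result (n : ℕ) (hn : 5 ≤ n) (F : Type*) [Field F] [Finite F] :
    ∃ f : alternatingGroup (Fin (n + 1)) →* Matrix.ProjectiveSpecialLinearGroup (Fin n) F, Function.Injective f := by
  classical
  have hn5 : 5 ≤ n + 1 := by omega
  refine ⟨(QuotientGroup.mk' (Subgroup.center (Matrix.SpecialLinearGroup (Fin n) F))).comp (slHom n F hn5), ?_⟩
  rw [injective_iff_map_eq_one]
  intro g hg
  rw [MonoidHom.comp_apply, QuotientGroup.mk'_apply, QuotientGroup.eq_one_iff,
    Matrix.SpecialLinearGroup.mem_center_iff] at hg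
  obtain ⟨r, -, hr⟩ := hg
  rw [slHom_coe] at hr
  set b := Module.finBasisOfFinrankEq F (sumZero n F) (finrank_sumZero n F) with hb
  have hscal : tau n F (g : Equiv.Perm (Fin (n + 1))) = r • (1 : sumZero n F →ₗ[F] sumZero n F) := by
    apply (LinearMap.toMatrixAlgEquiv b).injective
    rw [← hr, map_smul, map_one]
    ext i j
    simp [Matrix.scalar_apply, Matrix.diagonal_apply, Matrix.one_apply]
  have h1 : (g : Equiv.Perm (Fin (n + 1))) = 1 := by
    apply eq_one_of_scalar n F (by omega) _ r
    intro v
    rw [hscal]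
    rfl
  exact Subtype.ext h1

end Cfsg.Agent.S4156
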