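import Cfsg.Statements.S4157
import Cfsg.Agent.Helper65.TwoCount6

set_option autoImplicit false
open Cfsg

namespace Cfsg.Agent.S4157

open Cfsg.Agent.Helper70.PCount in
/-- Let G be a finite p-group of order p^m that is not cyclic and, when p = 2, not of maximal class (nilpotency class m − 1). Then for every 1 ≤ k < m the number of subgroups of G of order p^k is congruent to 1 + p modulo p². -/
theorem result {G : Type*} [Group G] [Finite G] {p : ℕ} [Fact p.Prime] (m : ℕ)
    (hG : Nat.card G = p ^ m) (hnc : ¬ IsCyclic G) (h2 : p = 2 → Group.nilpotencyClass G ≠ m - 1)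
    (k : ℕ) (hk1 : 1 ≤ k) (hk2 : k < m) :
    Nat.card {H : Subgroup G // Nat.card H = p ^ k} ≡ 1 + p [MOD p ^ 2] := by
  classical
  rw [← card_subsOfCard_top]
  by_cases hp2 : p = 2
  · subst hp2
    have hm2 : 2 ≤ m := by omega
    obtain ⟨j, rfl⟩ : ∃ j, m = j + 2 := ⟨m - 2, by omega⟩
    have hidx : (commutator G).index ≠ 4 := by
      intro hidx
      have := Cfsg.Agent.Helper2.nilpotencyClass_of_index_commutator_eq_four j G hG hidx
      exact h2 rfl (by rw [this]; omega)
    have h3 := (Cfsg.Agent.Helper65.TwoCount.two_count (j + 2) G hG hnc k hk1 (by omega)).1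
      (Or.inr hidx)
    show _ % 2 ^ 2 = (1 + 2) % 2 ^ 2
    norm_num
    convert h3 using 2
  · exact kulakoff hp2 m G hG hnc k hk1 (by omega)

end Cfsg.Agent.S4157
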