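-- Statement S4168: primes dividing the centre of a quasisimple group divide the central quotient.
import Cfsg.Statements.S4168

set_option autoImplicit false
open Cfsg

namespace Cfsg.Agent.S4168

theorem result {L : Type*} [Group L] [Finite L] (hL : Cfsg.IsQuasisimple L)
    (p : ℕ) (hp : p.Prime) (hdiv : p ∣ Nat.card (Subgroup.center L)) : p ∣ (Subgroup.center L).index := by
  classical
  haveI : Fact p.Prime := ⟨hp⟩
  obtain ⟨hperf, -⟩ := hL
  by_contra hndvd
  -- a Sylow `p`-subgroup of `L`
  obtain ⟨P⟩ : Nonempty (Sylow p L) := inferInstance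
  -- it is central
  have hPZ : (P : Subgroup L) ≤ Subgroup.center L := by
    rw [← Subgroup.relIndex_eq_one]
    obtain ⟨k, hk⟩ := IsPGroup.iff_card.mp P.isPGroup'
    have h1 : (Subgroup.center L).relIndex (P : Subgroup L) ∣ p ^ k := by
      rw [← hk]; exact Subgroup.relIndex_dvd_card _ _
    have h2 : (Subgroup.center L).relIndex (P : Subgroup L) ∣ (Subgroup.center L).index :=
      Subgroup.relIndex_dvd_index_of_normal _ _
    have hcop : (p ^ k).Coprime (Subgroup.center L).index :=
      Nat.Coprime.pow_left k ((Nat.Prime.coprime_iff_not_dvd hp).mpr hndvd)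
    exact Nat.eq_one_of_dvd_coprimes hcop h1 h2
  -- so Burnside's transfer theorem applies
  have hcomm : ∀ a b : (P : Subgroup L), a * b = b * a := fun a b => by
    apply Subtype.ext
    have := Subgroup.mem_center_iff.mp (hPZ b.2) (a : L)
    simpa using this
  have hNC : Subgroup.normalizer ((P : Subgroup L) : Set L) ≤ Subgroup.centralizer ((P : Subgroup L) : Set L) := by
    intro g _
    rw [Subgroup.mem_centralizer_iff]
    intro h hh
    exact (Subgroup.mem_center_iff.mp (hPZ hh) g).symm
  have hcompl := MonoidHom.ker_transferSylow_isComplement' P hNC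
  -- the transfer is trivial because `L` is perfect
  have hker : (MonoidHom.transferSylow P hNC).ker = ⊤ := by
    rw [eq_top_iff, ← hperf.commutator_eq_top, commutator_def, Subgroup.commutator_le]
    intro g₁ _ g₂ _
    rw [MonoidHom.mem_ker, map_commutatorElement, commutatorElement_def]
    rw [hcomm (MonoidHom.transferSylow P hNC g₁) (MonoidHom.transferSylow P hNC g₂)]
    group
  rw [hker, Subgroup.isComplement'_top_left] at hcompl
  exact P.ne_bot_of_dvd_card (hdiv.trans (Subgroup.card_subgroup_dvd_card _)) hcompl

end Cfsg.Agent.S4168
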