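-- Statement S4178: index of the subgroup generated by elements with eigenvalue one.
import Cfsg.Statements.S4178

set_option autoImplicit false
open Cfsg

namespace Cfsg.Agent.S4178

/-- If `f : H → X` separates the left cosets of `K` and takes values in a finite type, the index of `K`
is bounded by the size of that type. -/
theorem index_le_card_of_map {H X : Type*} [Group H] [Finite X] (K : Subgroup H) (f : H → X)
    (hf : ∀ a b : H, f a = f b → a⁻¹ * b ∈ K) : K.index ≤ Nat.card X := by
  rw [Subgroup.index_eq_card]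
  refine Nat.card_le_card_of_injective (fun q : H ⧸ K => f q.out) ?_
  intro q₁ q₂ h
  have h1 := hf _ _ h
  rw [← QuotientGroup.eq, QuotientGroup.out_eq', QuotientGroup.out_eq'] at h1
  exact h1

/-- The number of non-zero vectors of a finite vector space. -/
theorem card_ne_zero {F U : Type*} [Field F] [Fintype F] [AddCommGroup U] [Module F U]
    [FiniteDimensional F U] :
    Nat.card {u : U // u ≠ 0} = Fintype.card F ^ Module.finrank F U - 1 := by
  classical
  have : Finite U := Module.finite_of_finite F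
  haveI : Fintype U := Fintype.ofFinite U
  rw [← Module.card_eq_pow_finrank (K := F) (V := U), Nat.card_eq_fintype_card]
  have h := Fintype.card_subtype_compl (fun u : U => u = 0)
  simp only [Fintype.card_subtype_eq] at h
  convert h using 2

/-- An invertible linear map that preserves `W` and fixes a coset `v + W` with `v ∉ W` fixes a non-zero
vector. -/
theorem exists_fixed_of_fixed_coset {F V : Type*} [Field F] [AddCommGroup V] [Module F V]
    [FiniteDimensional F V] (g : V ≃ₗ[F] V) (W : Submodule F V) (hW : ∀ w ∈ W, g w ∈ W)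
    (v : V) (hv : v ∉ W) (hgv : g v - v ∈ W) : ∃ u : V, u ≠ 0 ∧ g u = u := by
  by_contra hcon
  push Not at hcon
  set T : V →ₗ[F] V := (g : V →ₗ[F] V) - LinearMap.id with hT
  have hTapp : ∀ x, T x = g x - x := fun x => by simp [hT]
  have hTW : ∀ w ∈ W, T w ∈ W := fun w hw => by
    rw [hTapp]; exact W.sub_mem (hW w hw) hw
  have hinj : Function.Injective T := by
    rw [← LinearMap.ker_eq_bot, Submodule.eq_bot_iff]
    intro x hx
    rw [LinearMap.mem_ker, hTapp, sub_eq_zero] at hx
    by_contra hx0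
    exact hcon x hx0 hx
  have hinjW : Function.Injective (T.restrict hTW) := by
    intro a b hab
    have : T a = T b := by
      have := congrArg Subtype.val hab
      simpa using this
    exact Subtype.ext (hinj this)
  have hsurjW : Function.Surjective (T.restrict hTW) :=
    LinearMap.injective_iff_surjective.mp hinjW
  obtain ⟨w, hw⟩ := hsurjW ⟨T v, by rw [hTapp]; exact hgv⟩
  have hw' : T w = T v := by
    have := congrArg Subtype.val hw
    simpa using this
  have := hinj hw'
  exact hv (this ▸ w.2)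

theorem result {F V : Type*} [Field F] [Fintype F] [AddCommGroup V] [Module F V] [FiniteDimensional F V] [Nontrivial V]
    (H : Subgroup (V ≃ₗ[F] V)) :
    (Subgroup.closure {h : ↥H | ∃ v : V, v ≠ 0 ∧ (h : V ≃ₗ[F] V) v = v}).index ≤ Fintype.card F ^ Module.finrank F V - 1 ∧
    ((∃ W : Submodule F V, W ≠ ⊥ ∧ W ≠ ⊤ ∧ ∀ h ∈ H, ∀ w ∈ W, h w ∈ W) →
      ((Subgroup.closure {h : ↥H | ∃ v : V, v ≠ 0 ∧ (h : V ≃ₗ[F] V) v = v}).index : ℝ) ≤ Real.sqrt ((Fintype.card F : ℝ) ^ Module.finrank F V) - 1) := by
  classical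
  have : Finite V := Module.finite_of_finite F
  set S : Set ↥H := {h : ↥H | ∃ v : V, v ≠ 0 ∧ (h : V ≃ₗ[F] V) v = v} with hS
  set R : Subgroup ↥H := Subgroup.closure S with hR
  have hSR : ∀ h : ↥H, (∃ v : V, v ≠ 0 ∧ (h : V ≃ₗ[F] V) v = v) → h ∈ R :=
    fun h hh => Subgroup.subset_closure hh
  have hq1 : 1 ≤ Fintype.card F := Fintype.card_pos
  refine ⟨?_, ?_⟩
  · -- the orbit of a non-zero vector
    obtain ⟨v, hv⟩ := exists_ne (0 : V)
    have key := index_le_card_of_map (X := {u : V // u ≠ 0}) R
      (fun h : ↥H => ⟨(h : V ≃ₗ[F] V) v, by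
        intro h0
        exact hv ((h : V ≃ₗ[F] V).map_eq_zero_iff.mp h0)⟩) ?_
    · rw [card_ne_zero (F := F)] at key
      exact key
    · intro a b hab
      apply hSR
      refine ⟨v, hv, ?_⟩
      have hab' : (a : V ≃ₗ[F] V) v = (b : V ≃ₗ[F] V) v := congrArg Subtype.val hab
      change ((a : V ≃ₗ[F] V)⁻¹ * (b : V ≃ₗ[F] V)) v = v
      rw [LinearEquiv.mul_apply, ← hab']
      exact (a : V ≃ₗ[F] V).symm_apply_apply v
  · rintro ⟨W, hWbot, hWtop, hWinv⟩
    -- bound by the non-zero vectors of `W`
    have hb1 : R.index ≤ Fintype.card F ^ Module.finrank F W - 1 := by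
      obtain ⟨v, hvW, hv⟩ := (Submodule.ne_bot_iff W).mp hWbot
      have key := index_le_card_of_map (X := {u : W // u ≠ 0}) R
        (fun h : ↥H => ⟨⟨(h : V ≃ₗ[F] V) v, hWinv h h.2 v hvW⟩, by
          intro h0
          have h0' : (h : V ≃ₗ[F] V) v = 0 := congrArg Subtype.val h0
          exact hv ((h : V ≃ₗ[F] V).map_eq_zero_iff.mp h0')⟩) ?_
      · rw [card_ne_zero (F := F)] at key
        exact key
      · intro a b hab
        apply hSR
        refine ⟨v, hv, ?_⟩
        have hab' : (a : V ≃ₗ[F] V) v = (b : V ≃ₗ[F] V) v :=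
          congrArg (fun x : {u : W // u ≠ 0} => ((x : W) : V)) hab
        change ((a : V ≃ₗ[F] V)⁻¹ * (b : V ≃ₗ[F] V)) v = v
        rw [LinearEquiv.mul_apply, ← hab']
        exact (a : V ≃ₗ[F] V).symm_apply_apply v
    -- bound by the non-zero vectors of `V ⧸ W`
    have hb2 : R.index ≤ Fintype.card F ^ Module.finrank F (V ⧸ W) - 1 := by
      obtain ⟨v, hvW⟩ : ∃ v : V, v ∉ W := by
        by_contra hall
        push Not at hall
        exact hWtop (eq_top_iff.mpr fun x _ => hall x)
      have : Finite (V ⧸ W) := Finite.of_surjective _ (Submodule.mkQ_surjective W)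
      have key := index_le_card_of_map (X := {u : V ⧸ W // u ≠ 0}) R
        (fun h : ↥H => ⟨Submodule.Quotient.mk ((h : V ≃ₗ[F] V) v), by
          intro h0
          rw [Submodule.Quotient.mk_eq_zero] at h0
          have hinv := hWinv _ (H.inv_mem h.2) _ h0
          have : ((h : V ≃ₗ[F] V)⁻¹) ((h : V ≃ₗ[F] V) v) = v :=
            (h : V ≃ₗ[F] V).symm_apply_apply v
          rw [this] at hinv
          exact hvW hinv⟩) ?_
      · rw [card_ne_zero (F := F)] at key
        exact key
      · intro a b hab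
        apply hSR
        have hab' : Submodule.Quotient.mk ((a : V ≃ₗ[F] V) v) = (Submodule.Quotient.mk ((b : V ≃ₗ[F] V) v) : V ⧸ W) :=
          congrArg Subtype.val hab
        rw [Submodule.Quotient.eq] at hab'
        -- apply a⁻¹
        have h1 := hWinv _ (H.inv_mem a.2) _ hab'
        rw [map_sub] at h1
        have h2 : ((a : V ≃ₗ[F] V)⁻¹) ((a : V ≃ₗ[F] V) v) = v :=
          (a : V ≃ₗ[F] V).symm_apply_apply v
        rw [h2] at h1
        have h3 : ((a⁻¹ * b : ↥H) : V ≃ₗ[F] V) v - v ∈ W := by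
          have : ((a⁻¹ * b : ↥H) : V ≃ₗ[F] V) v = ((a : V ≃ₗ[F] V)⁻¹) ((b : V ≃ₗ[F] V) v) := rfl
          rw [this]
          have := W.neg_mem h1
          rwa [neg_sub] at this
        exact exists_fixed_of_fixed_coset ((a⁻¹ * b : ↥H) : V ≃ₗ[F] V) W
          (fun w hw => hWinv _ (a⁻¹ * b : ↥H).2 w hw) v hvW h3
    -- combine
    have hdim : Module.finrank F (V ⧸ W) + Module.finrank F W = Module.finrank F V :=
      Submodule.finrank_quotient_add_finrank W
    set q := Fintype.card F with hqdef
    set k₁ := Module.finrank F W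
    set k₂ := Module.finrank F (V ⧸ W)
    have hp1 : 1 ≤ q ^ k₁ := Nat.one_le_pow _ _ hq1
    have hp2 : 1 ≤ q ^ k₂ := Nat.one_le_pow _ _ hq1
    have hc1 : R.index + 1 ≤ q ^ k₁ := by omega
    have hc2 : R.index + 1 ≤ q ^ k₂ := by omega
    have hsq : (R.index + 1) ^ 2 ≤ q ^ Module.finrank F V := by
      rw [← hdim, pow_add, sq]
      exact Nat.mul_le_mul hc2 hc1
    have hsqR : ((R.index : ℝ) + 1) ^ 2 ≤ (q : ℝ) ^ Module.finrank F V := by
      exact_mod_cast hsq
    have : (R.index : ℝ) + 1 ≤ Real.sqrt ((q : ℝ) ^ Module.finrank F V) := by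
      rw [Real.le_sqrt (by positivity) (by positivity)]
      exact hsqR
    linarith

end Cfsg.Agent.S4178
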