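import Mathlib
import Cfsg.Statements.S4182

set_option autoImplicit false
open Cfsg
open scoped Pointwise

namespace Cfsg.Agent.S4182

universe u v

section Aux
variable {G : Type u} [Group G] (p : ℕ)

/-- `g` is a `p`-element. -/
def PElt (g : G) : Prop := ∃ k : ℕ, orderOf g = p ^ k

/-- subgroup generated by the `p`-elements of `J`. -/
def pcl (J : Subgroup G) : Subgroup G := Subgroup.closure {g : G | g ∈ J ∧ PElt p g}

theorem pcl_le (J : Subgroup G) : pcl p J ≤ J :=
  (Subgroup.closure_le _).2 (fun _ hg => hg.1)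

theorem mem_pcl {J : Subgroup G} {g : G} (hg : g ∈ J) (hp : PElt p g) : g ∈ pcl p J :=
  Subgroup.subset_closure ⟨hg, hp⟩

theorem pcl_mono {J K : Subgroup G} (h : J ≤ K) : pcl p J ≤ pcl p K :=
  Subgroup.closure_mono (fun _ hg => ⟨h hg.1, hg.2⟩)

theorem pcl_pcl (J : Subgroup G) : pcl p (pcl p J) = pcl p J := by
  apply le_antisymm (pcl_le p _)
  refine (Subgroup.closure_le _).2 ?_
  intro g hg
  exact mem_pcl p (mem_pcl p hg.1 hg.2) hg.2

theorem pelt_smul (σ : MulAut G) (g : G) : PElt p (σ • g) ↔ PElt p g := by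
  unfold PElt
  rw [MulAut.smul_def, MulEquiv.orderOf_eq]

theorem pcl_smul (σ : MulAut G) (J : Subgroup G) : pcl p (σ • J) = σ • pcl p J := by
  unfold pcl
  rw [Subgroup.smul_closure]
  congr 1
  ext g
  rw [Set.mem_smul_set_iff_inv_smul_mem]
  simp only [Set.mem_ofPred_eq]
  rw [Subgroup.mem_pointwise_smul_iff_inv_smul_mem, pelt_smul]

/-- proper and generated by its `p`-elements. -/
def IsM (M : Subgroup G) : Prop := M ≠ ⊤ ∧ pcl p M = M

theorem isM_smul (σ : MulAut G) {M : Subgroup G} (h : IsM p M) : IsM p (σ • M) := by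
  refine ⟨fun htop => h.1 ?_, ?_⟩
  · rw [eq_top_iff]
    intro x _
    have : σ • x ∈ σ • M := by rw [htop]; exact Subgroup.mem_top _
    exact Subgroup.smul_mem_pointwise_smul_iff.mp this
  · rw [pcl_smul, h.2]

theorem maximal_smul (σ : MulAut G) {M : Subgroup G} (h : Maximal (IsM p) M) :
    Maximal (IsM p) (σ • M) := by
  refine ⟨isM_smul p σ h.1, fun y hy hle => ?_⟩
  have h1 : IsM p (σ⁻¹ • y) := isM_smul p σ⁻¹ hy
  have h2 : M ≤ σ⁻¹ • y := by
    rw [Subgroup.subset_pointwise_smul_iff, inv_inv]; exact hle
  have h3 := h.2 h1 h2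
  rw [Subgroup.subset_pointwise_smul_iff]; exact h3

theorem smul_eq_self_iff {g : G} {M : Subgroup G} :
    MulAut.conj g • M = M ↔ g ∈ Subgroup.normalizer (M : Set G) := by
  rw [Subgroup.mem_normalizer_iff_map_conj_eq]; rfl

end Aux

theorem main (p : ℕ) [hp : Fact p.Prime] : ∀ (n : ℕ) (G : Type u) [Group G] [Finite G], Nat.card G = n →
    Subgroup.closure {g : G | ∃ k : ℕ, orderOf g = p ^ k} = ⊤ →
    ∀ {ι : Type v} [Fintype ι] (K : ι → Subgroup G), (∀ i, K i ≠ ⊤) →
    (∀ g : G, (∃ k : ℕ, orderOf g = p ^ k) → ∃ i, g ∈ K i) → p + 1 ≤ Fintype.card ι := by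
  intro n
  induction n using Nat.strong_induction_on with
  | _ n ih =>
  intro G _ _ hn hgen ι _ K hK hcov
  by_contra hlt
  push Not at hlt
  -- Step 1
  have step1 : ∀ J : Subgroup G, J ≠ ⊤ → pcl p J = J → ∃ i, J ≤ K i := by
    intro J hJ hpg
    by_contra hno
    push Not at hno
    have hlt' : Nat.card J < n := by
      rw [← hn]
      exact lt_of_le_of_ne (Subgroup.card_le_card_group J)
        (fun h => hJ (J.eq_top_of_card_eq h))
    have hcl : Subgroup.closure {g : ↥J | ∃ k : ℕ, orderOf g = p ^ k} = ⊤ := by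
      apply Subgroup.map_injective J.subtype_injective
      rw [MonoidHom.map_closure, ← MonoidHom.range_eq_map, Subgroup.range_subtype]
      have : (J.subtype '' {g : ↥J | ∃ k : ℕ, orderOf g = p ^ k}) = {g : G | g ∈ J ∧ PElt p g} := by
        ext g
        constructor
        · rintro ⟨⟨y, hy⟩, ⟨k, hk⟩, rfl⟩
          refine ⟨hy, k, ?_⟩
          rw [← hk]; exact (Subgroup.orderOf_mk y hy).symm
        · rintro ⟨hy, k, hk⟩
          refine ⟨⟨g, hy⟩, ⟨k, ?_⟩, rfl⟩
          rw [← hk]; exact Subgroup.orderOf_mk g hy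
      rw [this]; exact hpg
    have := ih (Nat.card J) hlt' J rfl hcl (fun i => (K i).subgroupOf J)
      (fun i h => hno i (Subgroup.subgroupOf_eq_top.mp h))
      (fun g hg => by
        obtain ⟨k, hk⟩ := hg
        obtain ⟨i, hi⟩ := hcov (g : G) ⟨k, by rw [Subgroup.orderOf_coe]; exact hk⟩
        exact ⟨i, Subgroup.mem_subgroupOf.mpr hi⟩)
    omega
  -- Step 2
  have step2 : ∀ M, Maximal (IsM p) M → ∃ i, pcl p (K i) = M := by
    intro M hM
    obtain ⟨i, hi⟩ := step1 M hM.1.1 hM.1.2
    refine ⟨i, ?_⟩
    have h1 : IsM p (pcl p (K i)) :=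
      ⟨fun h => hK i (top_le_iff.mp (h ▸ pcl_le p (K i))), pcl_pcl p _⟩
    have h2 : M ≤ pcl p (K i) := by
      have := pcl_mono p hi
      rwa [hM.1.2] at this
    exact le_antisymm (hM.2 h1 h2) h2
  have hex : ∀ J : Subgroup G, IsM p J → ∃ M, J ≤ M ∧ Maximal (IsM p) M :=
    fun J hJ => Finite.exists_le_maximal hJ
  -- p-elements generate
  have hgen' : Subgroup.closure {g : G | PElt p g} = ⊤ := hgen
  obtain ⟨P⟩ : Nonempty (Sylow p G) := inferInstance
  by_cases hPtop : (P : Subgroup G) = ⊤
  · -- G is a p-group: counting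
    classical
    haveI : Fintype G := Fintype.ofFinite G
    have hGp : IsPGroup p G := by
      intro g
      have hg : g ∈ (P : Subgroup G) := hPtop ▸ Subgroup.mem_top g
      obtain ⟨k, hk⟩ := P.2 ⟨g, hg⟩
      exact ⟨k, congrArg Subtype.val hk⟩
    have hall : ∀ g : G, ∃ i, g ∈ K i := by
      intro g
      apply hcov
      obtain ⟨k, hk⟩ := hGp g
      have h1 : orderOf g ∣ p ^ k := orderOf_dvd_of_pow_eq_one hk
      obtain ⟨j, _, hj⟩ := (Nat.dvd_prime_pow hp.out).1 h1
      exact ⟨j, hj⟩
    have hidx : ∀ i, p * Nat.card (K i) ≤ Nat.card G := by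
      intro i
      obtain ⟨m, hm⟩ := hGp.index (K i)
      have hm0 : m ≠ 0 := by
        intro h0
        rw [h0, pow_zero] at hm
        exact hK i (Subgroup.index_eq_one.mp hm)
      have hpd : p ∣ (K i).index := by rw [hm]; exact dvd_pow_self p hm0
      have hpos : 0 < (K i).index := Nat.pos_of_ne_zero (Subgroup.index_ne_zero_of_finite)
      have hple : p ≤ (K i).index := Nat.le_of_dvd hpos hpd
      calc p * Nat.card (K i) ≤ (K i).index * Nat.card (K i) := Nat.mul_le_mul_right _ hple
        _ = Nat.card G := by rw [mul_comm]; exact Subgroup.card_mul_index (K i)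
    have hsub : (Finset.univ : Finset G).erase 1 ⊆
        Finset.univ.biUnion (fun i : ι => (Finset.univ.filter (fun g : G => g ∈ K i)).erase 1) := by
      intro g hg
      rw [Finset.mem_erase] at hg
      obtain ⟨i, hi⟩ := hall g
      rw [Finset.mem_biUnion]
      exact ⟨i, Finset.mem_univ _, Finset.mem_erase.mpr ⟨hg.1, Finset.mem_filter.mpr ⟨Finset.mem_univ _, hi⟩⟩⟩
    have hcard := (Finset.card_le_card hsub).trans Finset.card_biUnion_le
    have h1 : ((Finset.univ : Finset G).erase 1).card = Nat.card G - 1 := by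
      rw [Finset.card_erase_of_mem (Finset.mem_univ _), Finset.card_univ, Nat.card_eq_fintype_card]
    have h2 : ∀ i, ((Finset.univ.filter (fun g : G => g ∈ K i)).erase 1).card = Nat.card (K i) - 1 := by
      intro i
      rw [Finset.card_erase_of_mem (Finset.mem_filter.mpr ⟨Finset.mem_univ _, (K i).one_mem⟩)]
      congr 1
      rw [Nat.card_eq_fintype_card, Fintype.card_subtype]
    have h3 : ∀ i ∈ (Finset.univ : Finset ι),
        ((Finset.univ.filter (fun g : G => g ∈ K i)).erase 1).card ≤ Nat.card G / p - 1 := by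
      intro i _
      rw [h2 i]
      have : Nat.card (K i) ≤ Nat.card G / p := by
        rw [Nat.le_div_iff_mul_le hp.out.pos, mul_comm]; exact hidx i
      omega
    have h4 := Finset.sum_le_card_nsmul _ _ _ h3
    rw [Finset.card_univ, smul_eq_mul] at h4
    rw [h1] at hcard
    have h5 : Fintype.card ι * (Nat.card G / p - 1) ≤ p * (Nat.card G / p - 1) :=
      Nat.mul_le_mul_right _ (by omega)
    have h6 : p * (Nat.card G / p - 1) = p * (Nat.card G / p) - p := by
      rw [Nat.mul_sub, mul_one]
    have h7 : p * (Nat.card G / p) ≤ Nat.card G := Nat.mul_div_le _ _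
    obtain ⟨i0, _⟩ := hall 1
    have h8 : p * 1 ≤ Nat.card G :=
      (Nat.mul_le_mul_left p (Nat.one_le_iff_ne_zero.mpr Nat.card_pos.ne')).trans (hidx i0)
    have h9 := hp.out.two_le
    omega
  · -- general case
    have hPpcl : pcl p (P : Subgroup G) = P := by
      apply le_antisymm (pcl_le p _)
      intro g hg
      refine mem_pcl p hg ?_
      obtain ⟨k, hk⟩ := P.2 ⟨g, hg⟩
      have h1 : orderOf (⟨g, hg⟩ : (P : Subgroup G)) ∣ p ^ k := orderOf_dvd_of_pow_eq_one hk
      rw [Subgroup.orderOf_mk] at h1
      obtain ⟨j, _, hj⟩ := (Nat.dvd_prime_pow hp.out).1 h1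
      exact ⟨j, hj⟩
    obtain ⟨M0, hPM0, hM0⟩ := hex P ⟨hPtop, hPpcl⟩
    -- every p-element normalizes M0
    have hnorm : ∀ x : G, PElt p x → x ∈ Subgroup.normalizer (M0 : Set G) := by
      intro x hx
      by_contra hxn
      have hzM : IsM p (Subgroup.zpowers x) := by
        refine ⟨fun htop => ?_, ?_⟩
        · obtain ⟨i, hi⟩ := hcov x hx
          apply hK i
          rw [eq_top_iff, ← htop]
          exact Subgroup.zpowers_le.mpr hi
        · apply le_antisymm (pcl_le p _)
          exact Subgroup.zpowers_le.mpr (mem_pcl p (Subgroup.mem_zpowers x) hx)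
      obtain ⟨M1, hxM1, hM1⟩ := hex _ hzM
      have hx1 : x ∈ M1 := hxM1 (Subgroup.mem_zpowers x)
      -- the family
      let g : Option (Fin p) → Subgroup G := fun a =>
        match a with
        | none => M1
        | some j => MulAut.conj (x ^ (j : ℕ)) • M0
      have hgmax : ∀ a, Maximal (IsM p) (g a) := by
        intro a
        cases a with
        | none => exact hM1
        | some j => exact maximal_smul p _ hM0
      -- lemma A
      have hpow : ∀ d : ℕ, 0 < d → d < p → MulAut.conj (x ^ d) • M0 ≠ M0 := by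
        intro d hd0 hdp hEq
        apply hxn
        rw [smul_eq_self_iff] at hEq
        obtain ⟨k, hk⟩ := hx
        have hcop : (orderOf x).Coprime d := by
          rw [hk]
          apply Nat.Coprime.pow_left
          rw [Nat.Prime.coprime_iff_not_dvd hp.out]
          exact Nat.not_dvd_of_pos_of_lt hd0 hdp
        have hord : orderOf (x ^ d) = orderOf x := hcop.orderOf_pow
        have hle : Subgroup.zpowers (x ^ d) ≤ Subgroup.zpowers x :=
          Subgroup.zpowers_le.mpr (Subgroup.pow_mem _ (Subgroup.mem_zpowers x) d)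
        have heq : Subgroup.zpowers (x ^ d) = Subgroup.zpowers x := by
          apply Subgroup.eq_of_le_of_card_ge hle
          rw [Nat.card_zpowers, Nat.card_zpowers, hord]
        have : x ∈ Subgroup.zpowers (x ^ d) := by rw [heq]; exact Subgroup.mem_zpowers x
        exact (Subgroup.zpowers_le.mpr hEq) this
      have hA : ∀ i j : ℕ, i < j → j < p →
          MulAut.conj (x ^ i) • M0 ≠ MulAut.conj (x ^ j) • M0 := by
        intro i j hij hjp hEq
        apply hpow (j - i) (by omega) (by omega)
        have : x ^ j = x ^ i * x ^ (j - i) := by rw [← pow_add]; congr 1; omega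
        rw [this, map_mul, mul_smul] at hEq
        exact (smul_left_cancel _ hEq).symm
      have hginj : Function.Injective g := by
        intro a b hab
        cases a with
        | none =>
          cases b with
          | none => rfl
          | some j =>
            exfalso
            have hab' : M1 = MulAut.conj (x ^ (j : ℕ)) • M0 := hab
            have h1 : MulAut.conj x • M1 = M1 := Subgroup.conj_smul_eq_self_of_mem hx1
            rw [hab', ← mul_smul, ← map_mul, ← pow_succ'] at h1
            have h2 : x ^ ((j : ℕ) + 1) = x ^ (j : ℕ) * x ^ 1 := by rw [← pow_add]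
            rw [h2, map_mul, mul_smul] at h1
            have h3 := smul_left_cancel _ h1
            exact hpow 1 Nat.one_pos hp.out.one_lt h3
        | some i =>
          cases b with
          | none =>
            exfalso
            have hab' : MulAut.conj (x ^ (i : ℕ)) • M0 = M1 := hab
            have h1 : MulAut.conj x • M1 = M1 := Subgroup.conj_smul_eq_self_of_mem hx1
            rw [← hab', ← mul_smul, ← map_mul, ← pow_succ'] at h1
            have h2 : x ^ ((i : ℕ) + 1) = x ^ (i : ℕ) * x ^ 1 := by rw [← pow_add]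
            rw [h2, map_mul, mul_smul] at h1
            have h3 := smul_left_cancel _ h1
            exact hpow 1 Nat.one_pos hp.out.one_lt h3
          | some j =>
            have hab' : MulAut.conj (x ^ (i : ℕ)) • M0 = MulAut.conj (x ^ (j : ℕ)) • M0 := hab
            rcases lt_trichotomy (i : ℕ) (j : ℕ) with h | h | h
            · exact absurd hab' (hA _ _ h j.2)
            · congr 1; exact Fin.ext h
            · exact absurd hab'.symm (hA _ _ h i.2)
      -- injection into ι
      choose ψ hψ using fun a => step2 (g a) (hgmax a)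
      have hψinj : Function.Injective ψ := by
        intro a b hab
        apply hginj
        rw [← hψ a, ← hψ b, hab]
      have := Fintype.card_le_of_injective ψ hψinj
      rw [Fintype.card_option, Fintype.card_fin] at this
      omega
    have hM0n : Subgroup.normalizer (M0 : Set G) = ⊤ := by
      rw [eq_top_iff, ← hgen']
      exact (Subgroup.closure_le _).2 (fun x hx => hnorm x hx)
    have hall : ∀ y : G, PElt p y → y ∈ M0 := by
      intro y hy
      obtain ⟨k, hk⟩ := hy
      have hyp : IsPGroup p (Subgroup.zpowers y) := by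
        apply IsPGroup.of_card (n := k)
        rw [Nat.card_zpowers, hk]
      obtain ⟨Q, hQ⟩ := hyp.exists_le_sylow
      obtain ⟨c, hc⟩ := MulAction.exists_smul_eq G P Q
      have hyQ : y ∈ (Q : Subgroup G) := hQ (Subgroup.mem_zpowers y)
      rw [← hc, Sylow.coe_subgroup_smul, Subgroup.mem_pointwise_smul_iff_inv_smul_mem] at hyQ
      have h1 : (MulAut.conj c)⁻¹ • y ∈ M0 := hPM0 hyQ
      have h2 : MulAut.conj c • M0 = M0 := by
        rw [smul_eq_self_iff, hM0n]; exact Subgroup.mem_top _
      rw [← h2, Subgroup.mem_pointwise_smul_iff_inv_smul_mem]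
      exact h1
    apply hM0.1.1
    rw [eq_top_iff, ← hgen']
    exact (Subgroup.closure_le _).2 (fun x hx => hall x hx)

/-- Let p be a prime and G a finite group generated by its p-elements. If a finite family of proper subgroups of G covers the set of p-elements of G (every element of p-power order lies in one of them), then the family has at least p + 1 members. -/
theorem result {G : Type*} [Group G] [Finite G] (p : ℕ) [Fact p.Prime] (hgen : Subgroup.closure {g : G | ∃ k : ℕ, orderOf g = p ^ k} = ⊤)
    {ι : Type*} [Fintype ι] (K : ι → Subgroup G) (hK : ∀ i, K i ≠ ⊤)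
    (hcov : ∀ g : G, (∃ k : ℕ, orderOf g = p ^ k) → ∃ i, g ∈ K i) :
    p + 1 ≤ Fintype.card ι :=
  main p (Nat.card G) G rfl hgen K hK hcov

end Cfsg.Agent.S4182
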