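-- Statement S4184 (Chen's lemma: centerless groups with the same class sizes, prime graph of `M`
-- disconnected, have the same order).  Elementary proof (helper35): every nontrivial class size
-- carries the full `A`-part or the full `A'`-part of `|M|` but not both; a Sylow/normalizer-growth
-- argument (Helper35.ChenCore) bounds each prime power of `|G|` by that of `|M|`.
-- Pieces: helper97 (M-side), helper34 (covering case).
import Cfsg.Statements.S4184
import Cfsg.Agent.Helper35.ChenCore
import Cfsg.Agent.Helper97.ChenMSNE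
import Cfsg.Agent.Helper34.ChenCov

set_option autoImplicit false
open Cfsg

namespace Cfsg.Agent.S4184

open Subgroup in
/-- Let G and M be finite groups with trivial centres and the same set of conjugacy class sizes, and suppose the prime graph of M is disconnected: the prime divisors of #M split into two non-empty parts such that M has no element of order pq with p in one part and q in the other. Then #G = #M. -/
theorem result {G M : Type*}
    [Group G] [Finite G] [Group M] [Finite M] (hZG : Subgroup.center G = ⊥) (hZM : Subgroup.center M = ⊥)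
    (h : Set.range (fun g : G => (Subgroup.centralizer ({g} : Set G)).index) = Set.range (fun g : M => (Subgroup.centralizer ({g} : Set M)).index))
    (hdisc : ∃ A : Set ℕ, (∃ a ∈ A, a.Prime ∧ a ∣ Nat.card M) ∧ (∃ b ∉ A, b.Prime ∧ b ∣ Nat.card M) ∧
      ∀ a ∈ A, ∀ b ∉ A, a.Prime → b.Prime → a ∣ Nat.card M → b ∣ Nat.card M → ¬ ∃ x : M, orderOf x = a * b) :
    Nat.card G = Nat.card M := by
  classical
  obtain ⟨A, ⟨a₀, ha₀A, ha₀, ha₀M⟩, ⟨b₀, hb₀A, hb₀, hb₀M⟩, hA⟩ := hdisc
  have hμ : Nat.card M ≠ 0 := Nat.card_pos.ne'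
  have hG0 : Nat.card G ≠ 0 := Nat.card_pos.ne'
  haveI : Nontrivial M := by
    apply Finite.one_lt_card_iff_nontrivial.1
    exact lt_of_lt_of_le ha₀.one_lt (Nat.le_of_dvd Nat.card_pos ha₀M)
  -- the hypothesis for the complementary set
  have hA' : ∀ a ∈ Aᶜ, ∀ b ∉ Aᶜ, a.Prime → b.Prime → a ∣ Nat.card M → b ∣ Nat.card M →
      ¬ ∃ x : M, orderOf x = a * b := by
    intro a ha b hb hap hbp haM hbM hx
    have hbA : b ∈ A := by simpa using hb
    apply hA b hbA a ha hbp hap hbM haM
    obtain ⟨x, hx⟩ := hx
    exact ⟨x, by rw [hx, mul_comm]⟩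
  -- transfer of class sizes
  have hGM : ∀ g : G, ∃ m : M, (centralizer ({g} : Set G)).index = (centralizer ({m} : Set M)).index := by
    intro g
    have : (centralizer ({g} : Set G)).index ∈
        Set.range (fun g : M => (centralizer ({g} : Set M)).index) := by
      rw [← h]; exact ⟨g, rfl⟩
    obtain ⟨m, hm⟩ := this
    exact ⟨m, hm.symm⟩
  have hMG : ∀ m : M, ∃ g : G, (centralizer ({m} : Set M)).index = (centralizer ({g} : Set G)).index := by
    intro m
    have : (centralizer ({m} : Set M)).index ∈
        Set.range (fun g : G => (centralizer ({g} : Set G)).index) := by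
      rw [h]; exact ⟨m, rfl⟩
    obtain ⟨g, hg⟩ := this
    exact ⟨g, hg.symm⟩
  have hidx0 : ∀ g : G, (centralizer ({g} : Set G)).index ≠ 0 := fun g =>
    Subgroup.index_ne_zero_of_finite
  have hdivG : ∀ g : G, (centralizer ({g} : Set G)).index ∣ Nat.card M := by
    intro g
    obtain ⟨m, hm⟩ := hGM g
    rw [hm]; exact Subgroup.index_dvd_card _
  have hneG : ∀ g : G, (centralizer ({g} : Set G)).index ≠ Nat.card M := by
    intro g
    obtain ⟨m, hm⟩ := hGM g
    rw [hm]; exact Cfsg.Agent.Helper97.Chen.index_centralizer_ne_card m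
  have htypeG : ∀ g : G, g ≠ 1 →
      (∀ b : ℕ, b.Prime → b ∉ A →
        ((centralizer ({g} : Set G)).index).factorization b = (Nat.card M).factorization b) ∨
      (∀ a : ℕ, a.Prime → a ∈ A →
        ((centralizer ({g} : Set G)).index).factorization a = (Nat.card M).factorization a) := by
    intro g hg
    obtain ⟨m, hm⟩ := hGM g
    have hm1 : m ≠ 1 := by
      rintro rfl
      have h1 : (centralizer ({(1 : M)} : Set M)).index = 1 := by
        rw [Subgroup.index_eq_one, eq_top_iff]
        intro x _
        rw [mem_centralizer_singleton_iff]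
        simp
      rw [h1, Subgroup.index_eq_one] at hm
      have hgc : g ∈ center G := by
        rw [Subgroup.mem_center_iff]
        intro x
        have hx : x ∈ centralizer ({g} : Set G) := by rw [hm]; trivial
        rw [mem_centralizer_singleton_iff] at hx
        exact hx
      rw [hZG, Subgroup.mem_bot] at hgc
      exact hg hgc
    have ho : orderOf m ≠ 1 := by rwa [Ne, orderOf_eq_one_iff]
    obtain ⟨r, hr, hrm⟩ := Nat.exists_prime_and_dvd ho
    rw [hm]
    by_cases hrA : r ∈ A
    · left
      intro b hb hbA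
      exact Cfsg.Agent.Helper97.Chen.mside A hA m r hr hrm hrA b hb hbA
    · right
      intro a ha haA
      exact Cfsg.Agent.Helper97.Chen.mside Aᶜ hA' m r hr hrm hrA a ha (by simpa using haA)
  have htypeG' : ∀ g : G, g ≠ 1 →
      (∀ b : ℕ, b.Prime → b ∉ Aᶜ →
        ((centralizer ({g} : Set G)).index).factorization b = (Nat.card M).factorization b) ∨
      (∀ a : ℕ, a.Prime → a ∈ Aᶜ →
        ((centralizer ({g} : Set G)).index).factorization a = (Nat.card M).factorization a) := by
    intro g hg
    rcases htypeG g hg with h1 | h1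
    · right
      intro a ha haA
      exact h1 a ha haA
    · left
      intro b hb hbA
      exact h1 b hb (by simpa using hbA)
  -- `|M|` divides `|G|`
  have hle1 : ∀ p : ℕ, p.Prime → (Nat.card M).factorization p ≤ (Nat.card G).factorization p := by
    intro p hp
    by_cases hpA : p ∈ A
    · haveI : Fact b₀.Prime := ⟨hb₀⟩
      obtain ⟨y, hy⟩ := exists_prime_orderOf_dvd_card' (G := M) b₀ hb₀M
      have h1 := Cfsg.Agent.Helper97.Chen.mside Aᶜ hA' y b₀ hb₀ (by rw [hy]) hb₀A p hp
        (by simpa using hpA)
      obtain ⟨g, hg⟩ := hMG y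
      rw [← h1, hg]
      exact (Nat.factorization_le_iff_dvd (hidx0 g) hG0).2 (Subgroup.index_dvd_card _) p
    · haveI : Fact a₀.Prime := ⟨ha₀⟩
      obtain ⟨y, hy⟩ := exists_prime_orderOf_dvd_card' (G := M) a₀ ha₀M
      have h1 := Cfsg.Agent.Helper97.Chen.mside A hA y a₀ ha₀ (by rw [hy]) ha₀A p hp hpA
      obtain ⟨g, hg⟩ := hMG y
      rw [← h1, hg]
      exact (Nat.factorization_le_iff_dvd (hidx0 g) hG0).2 (Subgroup.index_dvd_card _) p
  have hMdvdG : Nat.card M ∣ Nat.card G :=
    (Nat.factorization_prime_le_iff_dvd hμ hG0).1 hle1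
  -- `|G|` divides `|M|`
  have hle2 : ∀ p : ℕ, p.Prime → (Nat.card G).factorization p ≤ (Nat.card M).factorization p := by
    intro p hp
    by_cases hpM : p ∣ Nat.card M
    · by_cases hpA : p ∈ A
      · exact Cfsg.Agent.Helper35.Chen.core (Nat.card M) hμ Aᶜ hdivG htypeG' hneG b₀ hb₀ hb₀A hb₀M
          (hb₀M.trans hMdvdG) p hp (by simpa using hpA) hpM
      · exact Cfsg.Agent.Helper35.Chen.core (Nat.card M) hμ A hdivG htypeG hneG a₀ ha₀ ha₀A ha₀M
          (ha₀M.trans hMdvdG) p hp hpA hpM
    · haveI : Fact p.Prime := ⟨hp⟩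
      have h1 : ¬ p ∣ Nat.card G :=
        Cfsg.Agent.Helper34.ChenCov.not_dvd_card_of_forall_not_dvd_index hZG p
          (fun g hg => hpM (hg.trans (hdivG g)))
      rw [Nat.factorization_eq_zero_of_not_dvd h1]
      exact Nat.zero_le _
  exact Nat.dvd_antisymm ((Nat.factorization_prime_le_iff_dvd hG0 hμ).1 hle2) hMdvdG

end Cfsg.Agent.S4184
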