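import Cfsg.Statements.S4186

set_option autoImplicit false
open Cfsg

namespace Cfsg.Agent.S4186

/-- Let T and X be subgroups of a group with T a finite 2-group normalizing X but not centralizing it. Then some element of T inverts some non-identity element of X under conjugation. -/
theorem result {G : Type*} [Group G] (T X : Subgroup G) [Finite ↥T] (hT : IsPGroup 2 ↥T) (hTN : T ≤ Subgroup.normalizer (X : Set G)) (hTC : ¬ T ≤ Subgroup.centralizer (X : Set G)) : ∃ t ∈ T, ∃ x ∈ X, x ≠ 1 ∧ t * x * t⁻¹ = x⁻¹ := by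
  classical
  -- the set of exponents k such that some element of T of order 2^k does not centralize X
  have hex : ∃ k : ℕ, ∃ t ∈ T, orderOf t = 2 ^ k ∧ t ∉ Subgroup.centralizer (X : Set G) := by
    obtain ⟨t, htT, htC⟩ := SetLike.not_le_iff_exists.mp hTC
    obtain ⟨k, hk⟩ := hT ⟨t, htT⟩
    have : orderOf (⟨t, htT⟩ : T) ∣ 2 ^ k := orderOf_dvd_of_pow_eq_one hk
    obtain ⟨j, -, hj⟩ := (Nat.dvd_prime_pow Nat.prime_two).mp this
    refine ⟨j, t, htT, ?_, htC⟩
    rw [← hj, Subgroup.orderOf_mk]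
  obtain ⟨t, htT, hto, htC⟩ := Nat.find_spec hex
  have hmin := fun m (hm : m < Nat.find hex) => Nat.find_min hex hm
  set k := Nat.find hex with hk
  -- t ≠ 1 so k ≥ 1
  have hk1 : 1 ≤ k := by
    rcases Nat.eq_zero_or_pos k with h0 | h0
    · exfalso
      rw [h0, pow_zero, orderOf_eq_one_iff] at hto
      apply htC
      rw [hto]
      exact Subgroup.one_mem _
    · exact h0
  -- t^2 centralizes X
  have ht2 : t ^ 2 ∈ Subgroup.centralizer (X : Set G) := by
    by_contra hcon
    apply hmin (k - 1) (by omega)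
    refine ⟨t ^ 2, Subgroup.pow_mem _ htT 2, ?_, hcon⟩
    rw [orderOf_pow' t (by norm_num : (2 : ℕ) ≠ 0), hto]
    have : Nat.gcd (2 ^ k) 2 = 2 := by
      apply Nat.gcd_eq_right
      exact dvd_pow_self 2 (by omega)
    rw [this]
    obtain ⟨j, hj⟩ : ∃ j, k = j + 1 := ⟨k - 1, by omega⟩
    rw [hj, pow_succ]
    simp
  -- pick x with t x t⁻¹ ≠ x
  have : ∃ x ∈ X, t * x * t⁻¹ ≠ x := by
    by_contra hcon
    push Not at hcon
    apply htC
    rw [Subgroup.mem_centralizer_iff]
    intro x hx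
    have := hcon x hx
    -- x * t = t * x
    calc x * t = (t * x * t⁻¹) * t := by rw [this]
      _ = t * x := by group
  obtain ⟨x, hxX, hx⟩ := this
  have hnorm : t * x * t⁻¹ ∈ X := by
    have := hTN htT
    rw [Subgroup.mem_normalizer_iff] at this
    exact (this x).mp hxX
  refine ⟨t, htT, x⁻¹ * (t * x * t⁻¹), X.mul_mem (X.inv_mem hxX) hnorm, ?_, ?_⟩
  · intro h
    apply hx
    have := congrArg (fun y => x * y) h
    simpa using this
  · rw [Subgroup.mem_centralizer_iff] at ht2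
    have h2 := ht2 x hxX
    -- t^2 x = x t^2
    have h3 : t * (t * x * t⁻¹) * t⁻¹ = x := by
      have : t * (t * x * t⁻¹) * t⁻¹ = (t ^ 2 * x) * (t ^ 2)⁻¹ := by
        rw [pow_two, mul_inv_rev]; simp only [mul_assoc]
      rw [this, ← h2]
      simp
    calc t * (x⁻¹ * (t * x * t⁻¹)) * t⁻¹ = (t * x * t⁻¹)⁻¹ * (t * (t * x * t⁻¹) * t⁻¹) := by group
      _ = (t * x * t⁻¹)⁻¹ * x := by rw [h3]
      _ = (x⁻¹ * (t * x * t⁻¹))⁻¹ := by group

end Cfsg.Agent.S4186
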