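-- Statement S4188: G = N ⋊ P, N abelian of odd order and the unique minimal normal subgroup,
-- P a 2-group: then [P : Φ(P)] ≤ |N| - 1.  Proof (helper34, architect; pieces by helper4,
-- helper12, helper20, helper24, helper68, helper76): N is an 𝔽_r-vector space on which P acts
-- faithfully; every 2-group acting faithfully on 𝔽_r^n has [Q : <squares>] ≤ 2^f(n) by induction
-- on n, and 2^f(n) ≤ r^n - 1.
import Cfsg.Statements.S4188
import Cfsg.Agent.Helper34.FratLinFinal

set_option autoImplicit false
open Cfsg

namespace Cfsg.Agent.S4188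

/-- Let G be a finite group that is the semidirect product of a normal abelian subgroup N of odd order by a 2-subgroup P, and suppose N is the unique minimal normal subgroup of G. Then the index of the Frattini subgroup of P in P is at most #N − 1. -/
theorem result {G : Type*} [Group G] [Finite G] (N P : Subgroup G) (hN : N.Normal) (hNab : IsMulCommutative ↥N) (hNodd : Odd (Nat.card ↥N)) (hP : IsPGroup 2 ↥P) (hdisj : N ⊓ P = ⊥) (hprod : N ⊔ P = ⊤) (hmin : N ≠ ⊥ ∧ ∀ M : Subgroup G, M.Normal → M ≠ ⊥ → N ≤ M) : (frattini ↥P).index ≤ Nat.card ↥N - 1 :=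
  Cfsg.Agent.Helper34.FratLin.index_frattini_le N P hN hNab hNodd hP hdisj hprod hmin

end Cfsg.Agent.S4188
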