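import Cfsg.Statements.S4208
import Cfsg.Agent.Helper70.Frattini
import Cfsg.Agent.Helper70.ElemAb
import Cfsg.Agent.Helper1.PGroup
import Cfsg.Agent.S4207

set_option autoImplicit false
open Cfsg

namespace Cfsg.Agent.S4208

open Cfsg.Agent.Helper70
open scoped commutatorElement

variable {P : Type*} [Group P]

/-- generating `r`-tuples -/
abbrev Gen (Q : Type*) [Group Q] (r : ℕ) : Type _ := {h : Fin r → Q // Subgroup.closure (Set.range h) = ⊤}

/-- the action of the automorphism group on generating tuples -/
@[reducible] def actGen (r : ℕ) : MulAction (MulAut P) (Gen P r) where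
  smul α h := ⟨fun i => α (h.1 i), by
    have : Set.range (fun i => α (h.1 i)) = (α.toMonoidHom : P →* P) '' Set.range h.1 := by
      ext x
      constructor
      · rintro ⟨i, rfl⟩
        exact ⟨h.1 i, ⟨i, rfl⟩, rfl⟩
      · rintro ⟨_, ⟨i, rfl⟩, rfl⟩
        exact ⟨i, rfl⟩
    rw [this, ← MonoidHom.map_closure, h.2, ← MonoidHom.range_eq_map, MonoidHom.range_eq_top]
    exact α.surjective⟩
  one_smul h := by
    apply Subtype.ext
    funext i
    rfl
  mul_smul α β h := by
    apply Subtype.ext
    funext i
    rfl

theorem card_aut_dvd_card_gen [Finite P] (r : ℕ) : Nat.card (MulAut P) ∣ Nat.card (Gen P r) := by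
  letI := actGen (P := P) r
  apply card_dvd_of_free
  intro h
  rw [eq_bot_iff]
  intro α hα
  rw [Subgroup.mem_bot]
  have hfix : ∀ i, α (h.1 i) = h.1 i := by
    intro i
    have := congrArg Subtype.val (MulAction.mem_stabilizer_iff.mp hα)
    exact congrFun this i
  have h1 : (α.toMonoidHom : P →* P) = MonoidHom.id P := by
    apply MonoidHom.eq_of_eqOn_dense h.2
    rintro _ ⟨i, rfl⟩
    exact hfix i
  ext x
  exact DFunLike.congr_fun h1 x

/-- a tuple generates as soon as its image modulo the Frattini subgroup does -/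
theorem closure_eq_top_of_map [Finite P] {ι : Type*} (f : ι → P)
    (hf : Subgroup.closure (Set.range (fun i => (QuotientGroup.mk (f i) : P ⧸ frattini P))) = ⊤) :
    Subgroup.closure (Set.range f) = ⊤ := by
  apply frattini_nongenerating
  rw [eq_top_iff]
  intro y _
  have hy : (QuotientGroup.mk y : P ⧸ frattini P) ∈
      Subgroup.closure (Set.range (fun i => (QuotientGroup.mk (f i) : P ⧸ frattini P))) := by
    rw [hf]; trivial
  have hmap : Subgroup.closure (Set.range (fun i => (QuotientGroup.mk (f i) : P ⧸ frattini P))) =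
      (Subgroup.closure (Set.range f)).map (QuotientGroup.mk' (frattini P)) := by
    rw [MonoidHom.map_closure]
    congr 1
    ext z
    constructor
    · rintro ⟨i, rfl⟩
      exact ⟨f i, ⟨i, rfl⟩, rfl⟩
    · rintro ⟨_, ⟨i, rfl⟩, rfl⟩
      exact ⟨i, rfl⟩
  rw [hmap] at hy
  obtain ⟨z, hz, hzy⟩ := hy
  have h1 : z⁻¹ * y ∈ frattini P := by
    rw [← QuotientGroup.eq]
    exact hzy
  have : y = z * (z⁻¹ * y) := by group
  rw [this]
  exact Subgroup.mul_mem _ (Subgroup.mem_sup_left hz) (Subgroup.mem_sup_right h1)

/-- the reduction map on generating tuples -/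
def red (r : ℕ) : Gen P r → Gen (P ⧸ frattini P) r := fun h =>
  ⟨fun i => (QuotientGroup.mk (h.1 i) : P ⧸ frattini P), by
    have : Set.range (fun i => (QuotientGroup.mk (h.1 i) : P ⧸ frattini P)) =
        (QuotientGroup.mk' (frattini P)) '' Set.range h.1 := by
      ext x
      constructor
      · rintro ⟨i, rfl⟩
        exact ⟨h.1 i, ⟨i, rfl⟩, rfl⟩
      · rintro ⟨_, ⟨i, rfl⟩, rfl⟩
        exact ⟨i, rfl⟩
    rw [this, ← MonoidHom.map_closure, h.2, ← MonoidHom.range_eq_map, MonoidHom.range_eq_top]
    exact QuotientGroup.mk'_surjective _⟩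

theorem card_fiber [Finite P] (r : ℕ) (b : Gen (P ⧸ frattini P) r) :
    Nat.card {a : Gen P r // red r a = b} = Nat.card (frattini P) ^ r := by
  choose f hf using fun i => QuotientGroup.mk_surjective (b.1 i)
  rw [← Cfsg.Agent.S4207.card_Tup f]
  apply Nat.card_congr
  have hfgen : Subgroup.closure (Set.range f) = ⊤ := by
    apply closure_eq_top_of_map
    have : (fun i => (QuotientGroup.mk (f i) : P ⧸ frattini P)) = b.1 := funext hf
    rw [this]
    exact b.2
  exact
    { toFun := fun a => ⟨a.1.1, fun i => by
        have h1 : (QuotientGroup.mk (a.1.1 i) : P ⧸ frattini P) = b.1 i := by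
          have := congrArg Subtype.val a.2
          exact congrFun this i
        rw [← hf i] at h1
        have h2 := QuotientGroup.eq.mp h1.symm
        have : a.1.1 i * (f i)⁻¹ = (f i) * ((f i)⁻¹ * a.1.1 i) * (f i)⁻¹ := by group
        rw [this]
        exact (inferInstance : (frattini P).Normal).conj_mem _ h2 _⟩
      invFun := fun t => ⟨⟨t.1, closure_eq_top_of_congr_frattini f t.1 hfgen t.2⟩, by
        apply Subtype.ext
        funext i
        show (QuotientGroup.mk (t.1 i) : P ⧸ frattini P) = b.1 i
        rw [← hf i, QuotientGroup.eq]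
        have h2 := t.2 i
        have : (t.1 i)⁻¹ * f i = (f i)⁻¹ * (t.1 i * (f i)⁻¹)⁻¹ * (f i) := by group
        rw [this]
        have := (inferInstance : (frattini P).Normal).conj_mem _ (Subgroup.inv_mem _ h2) (f i)⁻¹
        simpa using this⟩
      left_inv := fun a => by
        apply Subtype.ext
        apply Subtype.ext
        rfl
      right_inv := fun t => by
        apply Subtype.ext
        rfl }

theorem card_gen [Finite P] (r : ℕ) :
    Nat.card (Gen P r) = Nat.card (Gen (P ⧸ frattini P) r) * Nat.card (frattini P) ^ r := by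
  haveI : Fintype (Gen (P ⧸ frattini P) r) := Fintype.ofFinite _
  rw [← Nat.card_congr (Equiv.sigmaFiberEquiv (red (P := P) r)), Nat.card_sigma]
  simp only [card_fiber]
  rw [Finset.sum_const, Finset.card_univ, smul_eq_mul, ← Nat.card_eq_fintype_card]

/-- Let `P` be a group of order `p^n` whose Frattini subgroup has index `p^r`. Then the order of the automorphism group of `P` divides `p^(r(n-r)) · (p^r - 1)(p^r - p) ⋯ (p^r - p^(r-1))`. -/
theorem result {P : Type*} [Group P] [Finite P] {p n r : ℕ} [Fact p.Prime] (hP : Nat.card P = p ^ n) (hr : (frattini P).index = p ^ r) : Nat.card (MulAut P) ∣ p ^ (r * (n - r)) * ∏ i ∈ Finset.range r, (p ^ r - p ^ i) := by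
  have hp : p.Prime := Fact.out
  have hPG : IsPGroup p P := IsPGroup.of_card hP
  -- the order of the Frattini subgroup
  have hrn : r ≤ n := by
    have h1 : p ^ r ∣ p ^ n := by
      rw [← hr, ← hP]; exact Subgroup.index_dvd_card _
    exact (Nat.pow_dvd_pow_iff_le_right hp.one_lt).mp h1
  have hΦ : Nat.card (frattini P) = p ^ (n - r) := by
    have h1 := (frattini P).index_mul_card
    rw [hr, hP] at h1
    have h2 : p ^ n = p ^ r * p ^ (n - r) := by rw [← pow_add]; congr 1; omega
    rw [h2] at h1
    exact Nat.eq_of_mul_eq_mul_left (pow_pos hp.pos r) h1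
  -- the Frattini quotient is elementary abelian
  have hcommle : commutator P ≤ frattini P := by
    unfold frattini Order.radical
    exact le_iInf₂ (fun M hM => Cfsg.Agent.Helper1.commutator_le_coatom hPG M hM)
  have hpowmem : ∀ x : P, x ^ p ∈ frattini P := by
    intro x
    unfold frattini Order.radical
    simp only [Subgroup.mem_iInf]
    exact fun M hM => Cfsg.Agent.Helper1.pow_mem_coatom hPG M hM x
  have hcomm : ∀ a b : P ⧸ frattini P, a * b = b * a := by
    intro a b
    induction a using QuotientGroup.induction_on with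
    | H a =>
    induction b using QuotientGroup.induction_on with
    | H b =>
    rw [← QuotientGroup.mk_mul, ← QuotientGroup.mk_mul, QuotientGroup.eq]
    apply hcommle
    rw [commutator_def]
    have : (a * b)⁻¹ * (b * a) = ⁅b⁻¹, a⁻¹⁆ := by
      rw [commutatorElement_def]; group
    rw [this]
    exact Subgroup.commutator_mem_commutator (Subgroup.mem_top _) (Subgroup.mem_top _)
  have hexp : ∀ a : P ⧸ frattini P, a ^ p = 1 := by
    intro a
    induction a using QuotientGroup.induction_on with
    | H a =>
    rw [← QuotientGroup.mk_pow, QuotientGroup.eq_one_iff]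
    exact hpowmem a
  have hQ : Nat.card (P ⧸ frattini P) = p ^ r := by rw [← Subgroup.index_eq_card, hr]
  have h1 := card_generating_tuples hcomm hexp r hQ
  have h2 := card_gen (P := P) r
  have h3 := card_aut_dvd_card_gen (P := P) r
  rw [h2, h1, hΦ, ← pow_mul, mul_comm, Fin.prod_univ_eq_prod_range (fun i => p ^ r - p ^ i) r,
    mul_comm (n - r) r] at h3
  exact h3

end Cfsg.Agent.S4208
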