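import Cfsg.Statements.S4189
import Cfsg.Agent.Helper70.Q8
import Cfsg.Agent.Helper70.Regular
import Cfsg.Agent.Helper70.Frattini
import Cfsg.Agent.S4207
import Cfsg.Agent.S4208

set_option autoImplicit false
open Cfsg

namespace Cfsg.Agent.S4189

open Cfsg.Agent.Helper70
open scoped commutatorElement

/-- In a nilpotent group, a subgroup `H` with `H ≤ ⁅H, ⊤⁆` is trivial. -/
theorem eq_bot_of_le_commutator_top {G : Type*} [Group G] [hG : Group.IsNilpotent G] (H : Subgroup G)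
    (h : H ≤ ⁅H, (⊤ : Subgroup G)⁆) : H = ⊥ := by
  obtain ⟨n, hn⟩ := Subgroup.nilpotent_iff_lowerCentralSeries.mp hG
  have key : ∀ k, H ≤ Subgroup.lowerCentralSeries (⊤ : Subgroup G) k := by
    intro k
    induction k with
    | zero => simp
    | succ k ih =>
      refine h.trans ?_
      rw [Subgroup.lowerCentralSeries_succ]
      exact Subgroup.commutator_mono ih le_rfl
  rw [eq_bot_iff, ← hn]
  exact key n

/-- In a group of order `4` and exponent `2`, three distinct elements `1, u, v` and `u * v` exhaust the group. -/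
theorem klein_cases {V : Type*} [Group V] (hV : Nat.card V = 4) (hsq : ∀ x : V, x ^ 2 = 1) (u v : V)
    (hu : u ≠ 1) (hv : v ≠ 1) (huv : u ≠ v) (w : V) : w = 1 ∨ w = u ∨ w = v ∨ w = u * v := by
  classical
  haveI : Finite V := Nat.finite_of_card_ne_zero (by rw [hV]; norm_num)
  haveI := Fintype.ofFinite V
  have hinv : ∀ x : V, x⁻¹ = x := by
    intro x
    rw [inv_eq_iff_mul_eq_one, ← pow_two]
    exact hsq x
  have hcard : ({1, u, v, u * v} : Finset V).card = 4 := by
    rw [Finset.card_insert_of_notMem, Finset.card_insert_of_notMem, Finset.card_insert_of_notMem,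
      Finset.card_singleton]
    · simp only [Finset.mem_singleton]
      intro h
      apply hu
      have := congrArg (· * v⁻¹) h
      simpa using this.symm
    · simp only [Finset.mem_insert, Finset.mem_singleton, not_or]
      refine ⟨huv, ?_⟩
      intro h
      apply hv
      have := congrArg (u⁻¹ * ·) h
      simpa using this.symm
    · simp only [Finset.mem_insert, Finset.mem_singleton, not_or]
      refine ⟨fun h => hu h.symm, fun h => hv h.symm, ?_⟩
      intro h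
      apply huv
      have h2 : u⁻¹ = v := by
        rw [inv_eq_iff_mul_eq_one]; exact h.symm
      rw [← h2, hinv]
  have huniv : ({1, u, v, u * v} : Finset V) = Finset.univ := by
    apply Finset.eq_univ_of_card
    rw [hcard, ← hV, Nat.card_eq_fintype_card]
  have hw : w ∈ ({1, u, v, u * v} : Finset V) := by rw [huniv]; exact Finset.mem_univ _
  simpa using hw

/-- A non-abelian `2`-group with abelianization of order `4` has `Φ(P) = P'`. -/
theorem frattini_eq_commutator {P : Type*} [Group P] [Finite P] (hP : IsPGroup 2 P)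
    (hna : ¬ IsMulCommutative P) (h4 : (commutator P).index = 4) : frattini P = commutator P := by
  haveI : Fact (Nat.Prime 2) := ⟨Nat.prime_two⟩
  have hle : commutator P ≤ frattini P := commutator_le_frattini hP
  have hdvd : (frattini P).index ∣ 2 ^ 2 := by
    have := Subgroup.index_dvd_of_le hle
    rw [h4] at this
    exact this
  obtain ⟨r, hr2, hr⟩ := (Nat.dvd_prime_pow Nat.prime_two).mp hdvd
  have hr2' : r = 2 := by
    by_contra hne
    have hr1 : r ≤ 1 := by omega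
    obtain ⟨f, hf⟩ := exists_generators_of_frattini_index 2 r hr
    apply hna
    -- P is cyclic
    have : ∃ g : P, Set.range f ⊆ {g} := by
      interval_cases r
      · exact ⟨1, by rintro _ ⟨i, rfl⟩; exact i.elim0⟩
      · refine ⟨f 0, ?_⟩
        rintro _ ⟨i, rfl⟩
        rw [Set.mem_singleton_iff]
        congr 1
        exact Subsingleton.elim _ _
    obtain ⟨g, hg⟩ := this
    have htop : Subgroup.zpowers g = ⊤ := by
      rw [eq_top_iff, ← hf, Subgroup.closure_le]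
      intro x hx
      have := hg hx
      rw [Set.mem_singleton_iff] at this
      rw [this]
      exact Subgroup.mem_zpowers g
    haveI : IsCyclic P := isCyclic_iff_exists_zpowers_eq_top.mpr ⟨g, htop⟩
    exact IsCyclic.isMulCommutative
  subst hr2'
  apply le_antisymm _ hle
  rw [← Subgroup.relIndex_eq_one]
  have := Subgroup.relIndex_mul_index hle
  rw [h4, hr] at this
  omega

/-- existence of an automorphism of order `3` acting non-trivially on the Frattini quotient -/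
theorem exists_aut_order_three {P : Type*} [Group P] [Finite P] (hP : IsPGroup 2 P)
    (hΦ : (frattini P).index = 4) (haut : ¬ IsPGroup 2 (MulAut P)) :
    ∃ α : MulAut P, α ^ 3 = 1 ∧ ∃ a : P, α a * a⁻¹ ∉ frattini P := by
  haveI : Fact (Nat.Prime 2) := ⟨Nat.prime_two⟩
  haveI : Fact (Nat.Prime 3) := ⟨Nat.prime_three⟩
  obtain ⟨n, hn⟩ := IsPGroup.iff_card.mp hP
  have hr : (frattini P).index = 2 ^ 2 := by rw [hΦ]; norm_num
  have h1 := S4208.result hn hr
  have hprod : ∏ i ∈ Finset.range 2, (2 ^ 2 - 2 ^ i) = 3 * 2 := by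
    rw [Finset.prod_range_succ, Finset.prod_range_succ, Finset.prod_range_zero]
    norm_num
  rw [hprod] at h1
  haveI : Finite (MulAut P) := Nat.finite_of_card_ne_zero (by
    intro h0
    rw [h0, zero_dvd_iff] at h1
    norm_num at h1)
  have h3 : 3 ∣ Nat.card (MulAut P) := by
    by_contra hnd
    have hcop : Nat.Coprime (Nat.card (MulAut P)) 3 :=
      ((Nat.Prime.coprime_iff_not_dvd Nat.prime_three).mpr hnd).symm
    have h2 : Nat.card (MulAut P) ∣ 2 ^ (2 * (n - 2) + 1) := by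
      have : 2 ^ (2 * (n - 2)) * (3 * 2) = 3 * 2 ^ (2 * (n - 2) + 1) := by ring
      rw [this] at h1
      exact hcop.dvd_of_dvd_mul_left h1
    obtain ⟨k, -, hk⟩ := (Nat.dvd_prime_pow Nat.prime_two).mp h2
    exact haut (IsPGroup.of_card hk)
  obtain ⟨α, hα⟩ := exists_prime_orderOf_dvd_card' 3 h3
  have hA : ¬ ∀ β ∈ Subgroup.zpowers α, ∀ x : P, β x * x⁻¹ ∈ frattini P := by
    intro hA
    have h2 := S4207.result hn hr (Subgroup.zpowers α) hA
    rw [Nat.card_zpowers, hα] at h2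
    have := Nat.Prime.dvd_of_dvd_pow Nat.prime_three h2
    norm_num at this
  push Not at hA
  obtain ⟨β, hβ, x, hx⟩ := hA
  refine ⟨β, ?_, x, hx⟩
  obtain ⟨k, rfl⟩ := hβ
  rw [← zpow_natCast, ← zpow_mul, mul_comm, zpow_mul, zpow_natCast, ← hα, pow_orderOf_eq_one, one_zpow]

theorem pow_mem_frattini {G : Type*} [Group G] [Finite G] {p : ℕ} [Fact p.Prime] (hG : IsPGroup p G)
    (x : G) : x ^ p ∈ frattini G := by
  unfold frattini Order.radical
  simp only [Subgroup.mem_iInf]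
  exact fun M hM => Cfsg.Agent.Helper1.pow_mem_coatom hG M hM x

theorem aut_mem_iff {G : Type*} [Group G] (H : Subgroup G) [hH : H.Characteristic] (α : MulAut G)
    (x : G) : α x ∈ H ↔ x ∈ H := by
  have := Subgroup.characteristic_iff_comap_eq.mp hH α
  conv_rhs => rw [← this]
  rfl

theorem aut_cube_apply {G : Type*} [Group G] (α : MulAut G) (hα3 : α ^ 3 = 1) (x : G) :
    α (α (α x)) = x := by
  have := congrArg (fun f : MulAut G => f x) hα3
  simpa [pow_succ] using this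

/-- the structure of the Frattini quotient under `α` -/
theorem coset_structure {P : Type*} [Group P] [Finite P] (hP : IsPGroup 2 P)
    (hΦ : (frattini P).index = 4) (α : MulAut P) (hα3 : α ^ 3 = 1) (a : P)
    (ha : α a * a⁻¹ ∉ frattini P) :
    Subgroup.closure ({a, α a} : Set P) = ⊤ ∧ α (α a) * (a * α a)⁻¹ ∈ frattini P := by
  haveI : Fact (Nat.Prime 2) := ⟨Nat.prime_two⟩
  have hV : Nat.card (P ⧸ frattini P) = 4 := by rw [← Subgroup.index_eq_card, hΦ]
  have hsq : ∀ x : P ⧸ frattini P, x ^ 2 = 1 := by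
    intro x
    obtain ⟨y, rfl⟩ := QuotientGroup.mk_surjective x
    rw [← QuotientGroup.mk_pow, QuotientGroup.eq_one_iff]
    exact pow_mem_frattini hP y
  have hπ : ∀ x y : P, (x : P ⧸ frattini P) = y ↔ x * y⁻¹ ∈ frattini P := by
    intro x y
    rw [← QuotientGroup.eq_one_iff, QuotientGroup.mk_mul, QuotientGroup.mk_inv, mul_inv_eq_one]
  have hπα : ∀ x y : P, ((α x : P) : P ⧸ frattini P) = (α y : P) ↔ (x : P ⧸ frattini P) = y := by
    intro x y
    rw [hπ, hπ, ← map_inv, ← map_mul, aut_mem_iff]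
  have hab : ((α a : P) : P ⧸ frattini P) ≠ (a : P) := by
    rw [Ne, hπ]; exact ha
  have hu : ((a : P) : P ⧸ frattini P) ≠ 1 := by
    intro h
    apply hab
    have h1 : ((a : P) : P ⧸ frattini P) = ((1 : P) : P ⧸ frattini P) := h
    have h2 := (hπα a 1).mpr h1
    rw [map_one] at h2
    rw [h2, h]
    rfl
  have hv : ((α a : P) : P ⧸ frattini P) ≠ 1 := by
    intro h
    apply hu
    have h1 : ((α a : P) : P ⧸ frattini P) = ((α 1 : P) : P ⧸ frattini P) := by
      rw [map_one]; exact h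
    exact (hπα a 1).mp h1
  constructor
  · apply frattini_nongenerating
    rw [eq_top_iff]
    intro w _
    have ha' : a ∈ Subgroup.closure ({a, α a} : Set P) ⊔ frattini P :=
      (le_sup_left : _ ≤ Subgroup.closure ({a, α a} : Set P) ⊔ frattini P)
        (Subgroup.subset_closure (by simp))
    have hb' : α a ∈ Subgroup.closure ({a, α a} : Set P) ⊔ frattini P :=
      (le_sup_left : _ ≤ Subgroup.closure ({a, α a} : Set P) ⊔ frattini P)
        (Subgroup.subset_closure (by simp))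
    have hΦ' : ∀ z ∈ frattini P, z ∈ Subgroup.closure ({a, α a} : Set P) ⊔ frattini P :=
      fun z hz => (le_sup_right : _ ≤ Subgroup.closure ({a, α a} : Set P) ⊔ frattini P) hz
    rcases klein_cases hV hsq _ _ hu hv hab.symm (w : P ⧸ frattini P) with h | h | h | h
    · rw [QuotientGroup.eq_one_iff] at h
      exact hΦ' w h
    · rw [hπ] at h
      have : w = (w * a⁻¹) * a := by group
      rw [this]
      exact Subgroup.mul_mem _ (hΦ' _ h) ha'
    · rw [hπ] at h
      have : w = (w * (α a)⁻¹) * α a := by group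
      rw [this]
      exact Subgroup.mul_mem _ (hΦ' _ h) hb'
    · rw [← QuotientGroup.mk_mul, hπ] at h
      have : w = (w * (a * α a)⁻¹) * (a * α a) := by group
      rw [this]
      exact Subgroup.mul_mem _ (hΦ' _ h) (Subgroup.mul_mem _ ha' hb')
  · rw [← hπ, QuotientGroup.mk_mul]
    rcases klein_cases hV hsq _ _ hu hv hab.symm ((α (α a) : P) : P ⧸ frattini P) with h | h | h | h
    · exfalso
      apply hv
      have h1 : ((α (α a) : P) : P ⧸ frattini P) = ((α 1 : P) : P ⧸ frattini P) := by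
        rw [map_one]; exact h
      exact (hπα _ 1).mp h1
    · exfalso
      apply hab
      have h2 := (hπα (α (α a)) a).mpr h
      rw [aut_cube_apply α hα3] at h2
      exact h2.symm
    · exfalso
      exact hab ((hπα _ _).mp h)
    · exact h

/-- if `x` and `y` commute modulo the normal subgroup `N`, so do the cyclic groups they generate -/
theorem commutator_zpowers_le {G : Type*} [Group G] (N : Subgroup G) [N.Normal] (x y : G)
    (h : ⁅x, y⁆ ∈ N) : ⁅Subgroup.zpowers x, Subgroup.zpowers y⁆ ≤ N := by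
  rw [Subgroup.commutator_le]
  rintro _ ⟨i, rfl⟩ _ ⟨j, rfl⟩
  rw [← QuotientGroup.eq_one_iff] at h ⊢
  have h1 : Commute ((x : G) : G ⧸ N) (y : G) := by
    rw [← commutatorElement_eq_one_iff_commute]
    exact h
  have h2 : Commute (((x ^ i : G) : G ⧸ N)) ((y ^ j : G)) := by
    rw [QuotientGroup.mk_zpow, QuotientGroup.mk_zpow]
    exact h1.zpow_zpow i j
  rw [← commutatorElement_eq_one_iff_commute] at h2
  exact h2

/-- transport of a commutator containment by an automorphism -/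
theorem commutator_map_aut_le {G : Type*} [Group G] (α : MulAut G) (H K N : Subgroup G)
    [hK : K.Characteristic] [hN : N.Characteristic] (h : ⁅H, K⁆ ≤ N) :
    ⁅H.map α.toMonoidHom, K⁆ ≤ N := by
  have h1 : K.map α.toMonoidHom = K := Subgroup.characteristic_iff_map_eq.mp hK α
  have h2 : N.map α.toMonoidHom = N := Subgroup.characteristic_iff_map_eq.mp hN α
  calc ⁅H.map α.toMonoidHom, K⁆ = ⁅H.map α.toMonoidHom, K.map α.toMonoidHom⁆ := by rw [h1]
    _ = (⁅H, K⁆).map α.toMonoidHom := (Subgroup.map_commutator _ _ _).symm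
    _ ≤ N.map α.toMonoidHom := Subgroup.map_mono h
    _ = N := h2

section lcs

variable {P : Type*} [Group P]

/-- `Γ₂ = ⟨c⟩ Γ₃` for a two-generated group -/
theorem gamma_two_eq (a b : P) (hgen : Subgroup.closure ({a, b} : Set P) = ⊤) :
    commutator P = Subgroup.zpowers ⁅a, b⁆ ⊔ ⁅commutator P, (⊤ : Subgroup P)⁆ := by
  have hc : ⁅a, b⁆ ∈ commutator P :=
    Subgroup.commutator_mem_commutator (Subgroup.mem_top a) (Subgroup.mem_top b)
  have hle : Subgroup.zpowers ⁅a, b⁆ ⊔ ⁅commutator P, (⊤ : Subgroup P)⁆ ≤ commutator P := by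
    apply sup_le
    · rw [Subgroup.zpowers_le]; exact hc
    · exact Subgroup.commutator_le_left _ _
  haveI : (Subgroup.zpowers ⁅a, b⁆ ⊔ ⁅commutator P, (⊤ : Subgroup P)⁆).Normal := by
    apply Subgroup.commutator_top_right_le_iff.mp
    exact (Subgroup.commutator_mono hle le_rfl).trans le_sup_right
  apply le_antisymm _ hle
  have := commutator_closure_pair_le (Subgroup.zpowers ⁅a, b⁆ ⊔ ⁅commutator P, (⊤ : Subgroup P)⁆) a b
    ((le_sup_left : Subgroup.zpowers ⁅a, b⁆ ≤ _) (Subgroup.mem_zpowers _))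
  rw [hgen] at this
  exact this

/-- `c² ∈ Γ₃` if `a² ∈ Γ₂` -/
theorem comm_sq_mem (a b : P) (ha2 : a ^ 2 ∈ commutator P) :
    ⁅a, b⁆ ^ 2 ∈ ⁅commutator P, (⊤ : Subgroup P)⁆ := by
  have hc : ⁅a, b⁆ ∈ commutator P :=
    Subgroup.commutator_mem_commutator (Subgroup.mem_top a) (Subgroup.mem_top b)
  have h1 : ⁅⁅a, b⁆, a⁆ ∈ ⁅commutator P, (⊤ : Subgroup P)⁆ :=
    Subgroup.commutator_mem_commutator hc (Subgroup.mem_top a)
  have h2 : ⁅a ^ 2, b⁆ ∈ ⁅commutator P, (⊤ : Subgroup P)⁆ :=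
    Subgroup.commutator_mem_commutator ha2 (Subgroup.mem_top b)
  have : ⁅a, b⁆ ^ 2 = ⁅⁅a, b⁆, a⁆ * ⁅a ^ 2, b⁆ := by
    simp only [commutatorElement_def, pow_two]
    group
  rw [this]
  exact Subgroup.mul_mem _ h1 h2

/-- the key congruence `a² ≡ c` modulo `Γ₃` -/
theorem sq_congr_comm (α : MulAut P) (a : P)
    (hΓ : commutator P = Subgroup.zpowers ⁅a, α a⁆ ⊔ ⁅commutator P, (⊤ : Subgroup P)⁆)
    (ha2 : a ^ 2 ∈ commutator P)
    (hc2 : ⁅a, α a⁆ ^ 2 ∈ ⁅commutator P, (⊤ : Subgroup P)⁆)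
    (hc : ⁅a, α a⁆ ∉ ⁅commutator P, (⊤ : Subgroup P)⁆)
    (hd : α (α a) * (a * α a)⁻¹ ∈ commutator P) :
    a ^ 2 * ⁅a, α a⁆⁻¹ ∈ ⁅commutator P, (⊤ : Subgroup P)⁆ := by
  -- notation
  obtain ⟨Γ₃, hΓ₃⟩ : ∃ Γ₃ : Subgroup P, Γ₃ = ⁅commutator P, (⊤ : Subgroup P)⁆ := ⟨_, rfl⟩
  haveI hchar : Γ₃.Characteristic := by rw [hΓ₃]; infer_instance
  haveI hnorm : Γ₃.Normal := by rw [hΓ₃]; infer_instance
  rw [← hΓ₃] at hΓ hc2 hc ⊢
  obtain ⟨b, hb⟩ : ∃ b : P, b = α a := ⟨_, rfl⟩
  obtain ⟨c, hcdef⟩ : ∃ c : P, c = ⁅a, b⁆ := ⟨_, rfl⟩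
  rw [← hb] at hΓ hc2 hc hd ⊢
  rw [← hcdef] at hΓ hc2 hc ⊢
  -- the image of `Γ₂` in `P ⧸ Γ₃` is central
  have hcent : ∀ z ∈ commutator P, ∀ x : P, Commute ((z : P) : P ⧸ Γ₃) (x : P) := by
    intro z hz x
    rw [← commutatorElement_eq_one_iff_commute]
    have h1 : ⁅z, x⁆ ∈ Γ₃ := by
      rw [hΓ₃]
      exact Subgroup.commutator_mem_commutator hz (Subgroup.mem_top x)
    rw [← QuotientGroup.eq_one_iff] at h1
    rw [← h1]
    simp [commutatorElement_def]
  have hcbar2 : ((c : P) : P ⧸ Γ₃) ^ 2 = 1 := by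
    rw [← QuotientGroup.mk_pow, QuotientGroup.eq_one_iff]
    exact hc2
  have himg : ∀ z ∈ commutator P, ((z : P) : P ⧸ Γ₃) = 1 ∨ ((z : P) : P ⧸ Γ₃) = (c : P) := by
    intro z hz
    rw [hΓ, Subgroup.mem_sup_of_normal_right] at hz
    obtain ⟨y, ⟨k, rfl⟩, v, hv, rfl⟩ := hz
    have hv1 : ((v : P) : P ⧸ Γ₃) = 1 := (QuotientGroup.eq_one_iff v).mpr hv
    rw [QuotientGroup.mk_mul, hv1, mul_one]
    change (((c ^ k : P)) : P ⧸ Γ₃) = 1 ∨ (((c ^ k : P)) : P ⧸ Γ₃) = (c : P)
    rw [QuotientGroup.mk_zpow]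
    rcases Int.emod_two_eq_zero_or_one k with h | h
    · left
      have : k = 2 * (k / 2) := by omega
      rw [this, zpow_mul, zpow_ofNat, hcbar2, one_zpow]
    · right
      have : k = 2 * (k / 2) + 1 := by omega
      rw [this, zpow_add, zpow_mul, zpow_ofNat, hcbar2, one_zpow, one_mul, zpow_one]
  have himg2 : ∀ z ∈ commutator P, ((z : P) : P ⧸ Γ₃) ^ 2 = 1 := by
    intro z hz
    rcases himg z hz with h | h
    · rw [h, one_pow]
    · rw [h, hcbar2]
  rcases himg _ ha2 with h | h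
  · -- `a² ∈ Γ₃`: contradiction
    exfalso
    apply hc
    have ha3 : a ^ 2 ∈ Γ₃ := (QuotientGroup.eq_one_iff _).mp h
    have hb3 : b ^ 2 ∈ Γ₃ := by
      rw [hb, ← map_pow, aut_mem_iff]; exact ha3
    have hd3 : (α b) ^ 2 ∈ Γ₃ := by
      rw [← map_pow, aut_mem_iff]; exact hb3
    have ha1 : ((a : P) : P ⧸ Γ₃) ^ 2 = 1 := by
      rw [← QuotientGroup.mk_pow]; exact h
    have hb1 : ((b : P) : P ⧸ Γ₃) ^ 2 = 1 := by
      rw [← QuotientGroup.mk_pow]; exact (QuotientGroup.eq_one_iff _).mpr hb3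
    have hd1 : ((α b : P) : P ⧸ Γ₃) ^ 2 = 1 := by
      rw [← QuotientGroup.mk_pow]; exact (QuotientGroup.eq_one_iff _).mpr hd3
    obtain ⟨φ, hφ⟩ : ∃ φ : P, φ = α b * (a * b)⁻¹ := ⟨_, rfl⟩
    have hφ2 := himg2 φ (hφ ▸ hd)
    have hφc := hcent φ (hφ ▸ hd)
    have hdφ : ((α b : P) : P ⧸ Γ₃) = (φ : P) * ((a * b : P) : P ⧸ Γ₃) := by
      rw [hφ, ← QuotientGroup.mk_mul]
      congr 1
      group
    rw [hdφ, (hφc (a * b)).mul_pow, hφ2, one_mul, QuotientGroup.mk_mul] at hd1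
    rw [← QuotientGroup.eq_one_iff, hcdef]
    have hainv : ((a : P) : P ⧸ Γ₃)⁻¹ = (a : P) := by
      rw [inv_eq_iff_mul_eq_one, ← pow_two]; exact ha1
    have hbinv : ((b : P) : P ⧸ Γ₃)⁻¹ = (b : P) := by
      rw [inv_eq_iff_mul_eq_one, ← pow_two]; exact hb1
    have : ((⁅a, b⁆ : P) : P ⧸ Γ₃) = ((a : P) * (b : P)) ^ 2 := by
      rw [commutatorElement_def, QuotientGroup.mk_mul, QuotientGroup.mk_mul, QuotientGroup.mk_mul,
        QuotientGroup.mk_inv, QuotientGroup.mk_inv, hainv, hbinv, pow_two, mul_assoc, mul_assoc]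
    rw [this]
    exact hd1
  · rw [← QuotientGroup.eq_one_iff, QuotientGroup.mk_mul, QuotientGroup.mk_inv, h, mul_inv_cancel]

/-- `Γ₃ = 1` -/
theorem gamma_three_eq_bot [Group.IsNilpotent P] (α : MulAut P) (a : P)
    (hgen : Subgroup.closure ({a, α a} : Set P) = ⊤)
    (hΓ : commutator P = Subgroup.zpowers ⁅a, α a⁆ ⊔ ⁅commutator P, (⊤ : Subgroup P)⁆)
    (hac : a ^ 2 * ⁅a, α a⁆⁻¹ ∈ ⁅commutator P, (⊤ : Subgroup P)⁆) :
    ⁅commutator P, (⊤ : Subgroup P)⁆ = ⊥ := by
  obtain ⟨Γ₃, hΓ₃⟩ : ∃ Γ₃ : Subgroup P, Γ₃ = ⁅commutator P, (⊤ : Subgroup P)⁆ := ⟨_, rfl⟩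
  haveI hchar : Γ₃.Characteristic := by rw [hΓ₃]; infer_instance
  haveI hnorm : Γ₃.Normal := by rw [hΓ₃]; infer_instance
  rw [← hΓ₃] at hΓ hac ⊢
  obtain ⟨c, hcdef⟩ : ∃ c : P, c = ⁅a, α a⁆ := ⟨_, rfl⟩
  rw [← hcdef] at hΓ hac
  apply eq_bot_of_le_commutator_top
  -- `a` commutes with `c` modulo `Γ₄`
  have hac' : ⁅a, c⁆ ∈ ⁅Γ₃, (⊤ : Subgroup P)⁆ := by
    obtain ⟨v, hv⟩ : ∃ v : P, v = a ^ 2 * c⁻¹ := ⟨_, rfl⟩
    have h1 : ⁅v⁻¹, a⁆ ∈ ⁅Γ₃, (⊤ : Subgroup P)⁆ :=
      Subgroup.commutator_mem_commutator (Subgroup.inv_mem _ (hv ▸ hac)) (Subgroup.mem_top a)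
    have h2 : ⁅a, c⁆ = (⁅v⁻¹, a⁆)⁻¹ := by
      rw [hv]
      simp only [commutatorElement_def, pow_two]
      group
    rw [h2]
    exact Subgroup.inv_mem _ h1
  have h1 : ⁅Subgroup.zpowers a, Subgroup.zpowers c⁆ ≤ ⁅Γ₃, (⊤ : Subgroup P)⁆ :=
    commutator_zpowers_le _ a c hac'
  have h2 : ⁅Subgroup.zpowers a, Γ₃⁆ ≤ ⁅Γ₃, (⊤ : Subgroup P)⁆ := by
    rw [Subgroup.commutator_comm]
    exact Subgroup.commutator_mono le_rfl le_top
  have h3 : ⁅Subgroup.zpowers a, commutator P⁆ ≤ ⁅Γ₃, (⊤ : Subgroup P)⁆ := by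
    rw [hΓ]
    exact commutator_sup_le _ _ _ _ h1 h2
  have h4 : ⁅Subgroup.zpowers (α a), commutator P⁆ ≤ ⁅Γ₃, (⊤ : Subgroup P)⁆ := by
    have := commutator_map_aut_le α (Subgroup.zpowers a) (commutator P) ⁅Γ₃, (⊤ : Subgroup P)⁆ h3
    rw [MonoidHom.map_zpowers] at this
    exact this
  have h5 := sup_commutator_le (commutator P) _ _ _ h3 h4
  have h6 : Subgroup.zpowers a ⊔ Subgroup.zpowers (α a) = ⊤ := by
    rw [eq_top_iff, ← hgen, Subgroup.closure_le]
    rintro x (rfl | rfl)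
    · exact (le_sup_left : Subgroup.zpowers x ≤ _) (Subgroup.mem_zpowers _)
    · exact (le_sup_right : Subgroup.zpowers (α a) ≤ _) (Subgroup.mem_zpowers _)
  rw [h6, Subgroup.commutator_comm, ← hΓ₃] at h5
  exact h5

end lcs

theorem mem_zpowers_of_sq {G : Type*} [Group G] (c : G) (hc2 : c ^ 2 = 1) (x : G)
    (hx : x ∈ Subgroup.zpowers c) : x = 1 ∨ x = c := by
  obtain ⟨k, rfl⟩ := hx
  change c ^ k = 1 ∨ c ^ k = c
  rcases Int.emod_two_eq_zero_or_one k with h | h
  · left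
    have : k = 2 * (k / 2) := by omega
    rw [this, zpow_mul, zpow_ofNat, hc2, one_zpow]
  · right
    have : k = 2 * (k / 2) + 1 := by omega
    rw [this, zpow_add, zpow_mul, zpow_ofNat, hc2, one_zpow, one_mul, zpow_one]

/-- Let P be a finite non-abelian 2-group whose commutator subgroup has index 4 and whose automorphism group is not a 2-group (some automorphism has order that is not a power of 2). Then P is isomorphic to the quaternion group of order 8. -/
theorem result {P : Type*} [Group P] [Finite P] (hP : IsPGroup 2 P) (hna : ¬ IsMulCommutative P) (h4 : (commutator P).index = 4) (haut : ¬ IsPGroup 2 (MulAut P)) : Nonempty (P ≃* QuaternionGroup 2) := by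
  haveI : Fact (Nat.Prime 2) := ⟨Nat.prime_two⟩
  haveI : Group.IsNilpotent P := hP.isNilpotent
  have hΦc := frattini_eq_commutator hP hna h4
  have hΦ4 : (frattini P).index = 4 := by rw [hΦc]; exact h4
  obtain ⟨α, hα3, a, ha⟩ := exists_aut_order_three hP hΦ4 haut
  obtain ⟨hgen, hd⟩ := coset_structure hP hΦ4 α hα3 a ha
  rw [hΦc] at hd
  have ha2 : a ^ 2 ∈ commutator P := by rw [← hΦc]; exact pow_mem_frattini hP a
  have hΓ := gamma_two_eq a (α a) hgen
  have hc2 := comm_sq_mem a (α a) ha2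
  have hcomm_of_bot : commutator P = ⊥ → False := by
    intro h
    apply hna
    refine ⟨⟨fun x y => ?_⟩⟩
    have h1 : ⁅x, y⁆ ∈ commutator P :=
      Subgroup.commutator_mem_commutator (Subgroup.mem_top x) (Subgroup.mem_top y)
    rw [h, Subgroup.mem_bot, commutatorElement_eq_one_iff_commute] at h1
    exact h1
  have hc : ⁅a, α a⁆ ∉ ⁅commutator P, (⊤ : Subgroup P)⁆ := by
    intro hc
    have h1 : commutator P ≤ ⁅commutator P, (⊤ : Subgroup P)⁆ := by
      conv_lhs => rw [hΓ]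
      exact sup_le ((Subgroup.zpowers_le).mpr hc) le_rfl
    exact hcomm_of_bot (eq_bot_of_le_commutator_top _ h1)
  have hac := sq_congr_comm α a hΓ ha2 hc2 hc hd
  have h3 := gamma_three_eq_bot α a hgen hΓ hac
  -- finale
  have hcent : ∀ x : P, Commute ⁅a, α a⁆ x := by
    intro x
    have h1 : ⁅⁅a, α a⁆, x⁆ ∈ ⁅commutator P, (⊤ : Subgroup P)⁆ :=
      Subgroup.commutator_mem_commutator
        (Subgroup.commutator_mem_commutator (Subgroup.mem_top a) (Subgroup.mem_top _)) (Subgroup.mem_top x)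
    rw [h3, Subgroup.mem_bot, commutatorElement_eq_one_iff_commute] at h1
    exact h1
  rw [h3] at hc2 hc hac
  rw [h3, sup_bot_eq] at hΓ
  rw [Subgroup.mem_bot] at hc2 hc hac
  obtain ⟨c, hcdef⟩ : ∃ c : P, c = ⁅a, α a⁆ := ⟨_, rfl⟩
  rw [← hcdef] at hc2 hc hac hΓ hcent
  have hord : orderOf c = 2 := orderOf_eq_prime hc2 hc
  have hcard2 : Nat.card (commutator P) = 2 := by rw [hΓ, Nat.card_zpowers, hord]
  have hcard : Nat.card P = 8 := by
    rw [← Subgroup.index_mul_card (commutator P), h4, hcard2]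
  have hac' : a ^ 2 = c := by
    rw [mul_inv_eq_one] at hac; exact hac
  have hαc : α c = c := by
    have h1 : α c ∈ Subgroup.zpowers c := by
      rw [← hΓ, aut_mem_iff, hΓ]; exact Subgroup.mem_zpowers c
    rcases mem_zpowers_of_sq c hc2 _ h1 with h | h
    · exfalso
      apply hc
      rwa [EmbeddingLike.map_eq_one_iff] at h
    · exact h
  have hb2 : (α a) ^ 2 = a ^ 2 := by
    rw [← map_pow, hac', hαc]
  have ha4 : a ^ 4 = 1 := by
    have : a ^ 4 = (a ^ 2) ^ 2 := by rw [← pow_mul]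
    rw [this, hac', hc2]
  have hcinv : c⁻¹ = c := by
    rw [inv_eq_iff_mul_eq_one, ← pow_two]; exact hc2
  have hts : α a * a * (α a)⁻¹ = a⁻¹ := by
    have h1 : α a * a * (α a)⁻¹ = c⁻¹ * a := by
      rw [hcdef, commutatorElement_def]; group
    rw [h1, hcinv, ← hac']
    apply eq_inv_of_mul_eq_one_left
    rw [← pow_succ, ← pow_succ]
    exact ha4
  exact nonempty_mulEquiv_quaternion hcard a (α a) hgen ha4 hts hb2

end Cfsg.Agent.S4189
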