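import Mathlib
import Cfsg.Statements.S4194
import Cfsg.Agent.Helper53.CH7

set_option autoImplicit false
open Cfsg
open scoped Pointwise

namespace Cfsg.Agent.S4194

/-- A finite group G has commutative Sylow 2-subgroups if and only if every 2-element of G (element of order a power of 2) is 2-central, that is, its centralizer contains a Sylow 2-subgroup of G. -/
theorem result {G : Type*} [Group G] [Finite G] (P : Sylow 2 G) :
    IsMulCommutative (P : Subgroup G) ↔ ∀ x : G, (∃ k : ℕ, orderOf x = 2 ^ k) → (∃ Q : Sylow 2 G, (Q : Subgroup G) ≤ Subgroup.centralizer ({x} : Set G)) := by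
  have hp2 : Fact (Nat.Prime 2) := ⟨Nat.prime_two⟩
  constructor
  · intro hP x hx
    -- x lies in a Sylow 2-subgroup, conjugate to P, hence abelian
    have hxp : IsPGroup 2 ↥(Subgroup.zpowers x) := Cfsg.Agent.Helper53.CH.isPGroup_zpowers hx
    obtain ⟨Q, hQ⟩ := hxp.exists_le_sylow
    refine ⟨Q, ?_⟩
    obtain ⟨g, hg⟩ := MulAction.exists_smul_eq G P Q
    have hxQ : x ∈ (Q : Subgroup G) := hQ (Subgroup.mem_zpowers x)
    intro q hq
    rw [Cfsg.Agent.Helper53.CH.mem_centralizer_singleton]
    -- pull back to P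
    have hQ' : (Q : Subgroup G) = MulAut.conj g • (P : Subgroup G) := by
      rw [← hg, Sylow.coe_subgroup_smul]
    rw [hQ'] at hq hxQ
    obtain ⟨q', hq', rfl⟩ := hq
    obtain ⟨x', hx', rfl⟩ := hxQ
    have hc : q' * x' = x' * q' := by
      have := hP.is_comm.comm (⟨q', hq'⟩ : ↥(P : Subgroup G)) ⟨x', hx'⟩
      exact congrArg Subtype.val this
    simp only [MulDistribMulAction.toMonoidEnd_apply, MulDistribMulAction.toMonoidHom_apply,
      MulAut.smul_def, MulAut.conj_apply]
    have e1 : g * q' * g⁻¹ * (g * x' * g⁻¹) = g * (q' * x') * g⁻¹ := by group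
    have e2 : g * x' * g⁻¹ * (g * q' * g⁻¹) = g * (x' * q') * g⁻¹ := by group
    rw [e1, e2, hc]
  · intro hall
    have hH : Cfsg.Agent.Helper53.CH.OddClass G := by
      intro x hx hdvd
      obtain ⟨Q, hQ⟩ := hall x hx
      have h1 : (Subgroup.centralizer ({x} : Set G)).index ∣ (Q : Subgroup G).index :=
        Subgroup.index_dvd_of_le hQ
      exact Q.not_dvd_index (hdvd.trans h1)
    have key := Cfsg.Agent.Helper53.CH.sylow_comm (G := G) hH P
    exact ⟨⟨fun a b => Subtype.ext (key a.1 a.2 b.1 b.2)⟩⟩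

end Cfsg.Agent.S4194
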