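import Cfsg.Statements.S4195
import Cfsg.Agent.Helper70.Basic

set_option autoImplicit false
open Cfsg

namespace Cfsg.Agent.S4195

/-- If `x` is conjugate to `x⁻¹` and the centralizer of `x` contains a Sylow `2`-subgroup then `x⁻¹ = x`. -/
theorem inv_eq_self_of_real {G : Type*} [Group G] [Finite G] (x : G) (P : Sylow 2 G)
    (hP : (P : Subgroup G) ≤ Subgroup.centralizer ({x} : Set G)) (hreal : IsConj x x⁻¹) : x⁻¹ = x := by
  classical
  haveI : Fintype {y : G // IsConj x y} := Fintype.ofFinite _
  have hodd : ¬ 2 ∣ Fintype.card {y : G // IsConj x y} := by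
    rw [← Nat.card_eq_fintype_card]
    exact Cfsg.Agent.Helper70.not_dvd_card_conj_of_sylow_le x P hP
  -- inversion is a permutation of the conjugacy class of x
  have hinv : ∀ y : G, IsConj x y → IsConj x y⁻¹ := by
    intro y hy
    have h1 : IsConj x⁻¹ y⁻¹ := by
      obtain ⟨c, hc⟩ := isConj_iff.mp hy
      exact isConj_iff.mpr ⟨c, by rw [← hc]; group⟩
    exact hreal.trans h1
  let σ : Equiv.Perm {y : G // IsConj x y} :=
    { toFun := fun y => ⟨y.1⁻¹, hinv y.1 y.2⟩
      invFun := fun y => ⟨y.1⁻¹, hinv y.1 y.2⟩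
      left_inv := fun y => by simp
      right_inv := fun y => by simp }
  have hσ : σ ^ 2 ^ 1 = 1 := by
    ext y
    simp [σ, pow_two]
  obtain ⟨a, ha⟩ := Equiv.Perm.exists_fixed_point_of_prime (p := 2) (n := 1) hodd hσ
  have ha' : a.1⁻¹ = a.1 := congrArg Subtype.val ha
  obtain ⟨c, hc⟩ := isConj_iff.mp a.2
  rw [← hc] at ha'
  have : c * x⁻¹ * c⁻¹ = c * x * c⁻¹ := by rw [← ha']; group
  simpa using this

/-- Let x be a non-identity element of a finite group G whose centralizer contains a Sylow 2-subgroup of G. If x is conjugate to its inverse, then x has order 2. -/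
theorem result {G : Type*} [Group G] [Finite G] (x : G) (hx : x ≠ 1) (P : Sylow 2 G) (hP : (P : Subgroup G) ≤ Subgroup.centralizer ({x} : Set G)) (hreal : IsConj x x⁻¹) : orderOf x = 2 := by
  have h := inv_eq_self_of_real x P hP hreal
  have h2 : x ^ 2 = 1 := by
    rw [pow_two]
    nth_rewrite 1 [← h]
    simp
  exact orderOf_eq_prime h2 hx

end Cfsg.Agent.S4195
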