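import Cfsg.Statements.S4196
import Cfsg.Agent.S4195

set_option autoImplicit false
open Cfsg

namespace Cfsg.Agent.S4196

/-- A finite group G has elementary abelian Sylow 2-subgroups (commutative with every element squaring to the identity) if and only if every 2-element of G has a Sylow 2-subgroup in its centralizer and is conjugate to its inverse. -/
theorem result {G : Type*} [Group G] [Finite G] (P : Sylow 2 G) :
    (IsMulCommutative (P : Subgroup G) ∧ ∀ x ∈ (P : Subgroup G), x ^ 2 = 1) ↔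
      ∀ x : G, (∃ k : ℕ, orderOf x = 2 ^ k) → (∃ Q : Sylow 2 G, (Q : Subgroup G) ≤ Subgroup.centralizer ({x} : Set G)) ∧ IsConj x x⁻¹ := by
  constructor
  · rintro ⟨hcomm, hsq⟩ x ⟨k, hk⟩
    -- the cyclic group generated by x is a 2-group
    have hz : IsPGroup 2 (Subgroup.zpowers x) := by
      rw [IsPGroup.iff_orderOf]
      intro y
      have h1 : orderOf y ∣ 2 ^ k := by
        have h0 : Nat.card (Subgroup.zpowers x) = 2 ^ k := by rw [Nat.card_zpowers, hk]
        rw [← h0]
        exact orderOf_dvd_natCard y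
      obtain ⟨j, -, hj⟩ := (Nat.dvd_prime_pow Nat.prime_two).mp h1
      exact ⟨j, hj⟩
    obtain ⟨Q, hQ⟩ := hz.exists_le_sylow
    obtain ⟨c, hc⟩ := MulAction.exists_smul_eq G P Q
    have hxQ : x ∈ (Q : Subgroup G) := hQ (Subgroup.mem_zpowers x)
    -- elements of Q are conjugates of elements of P
    have hmem : ∀ y, y ∈ (Q : Subgroup G) ↔ c⁻¹ * y * c ∈ (P : Subgroup G) := by
      intro y
      rw [← hc, Sylow.coe_subgroup_smul, Subgroup.mem_pointwise_smul_iff_inv_smul_mem]
      simp [MulAut.smul_def, MulAut.conj_inv_apply]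
    have hcommP : ∀ a ∈ (P : Subgroup G), ∀ b ∈ (P : Subgroup G), a * b = b * a := by
      intro a ha b hb
      have := (isMulCommutative_iff.mp hcomm) ⟨a, ha⟩ ⟨b, hb⟩
      exact congrArg Subtype.val this
    refine ⟨⟨Q, ?_⟩, ?_⟩
    · intro y hy
      rw [Subgroup.mem_centralizer_iff]
      intro z hz
      rw [Set.mem_singleton_iff] at hz
      subst hz
      have h1 := hcommP _ ((hmem z).mp hxQ) _ ((hmem y).mp hy)
      have h2 : c * (c⁻¹ * z * c * (c⁻¹ * y * c)) * c⁻¹ = z * y := by group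
      have h3 : c * (c⁻¹ * y * c * (c⁻¹ * z * c)) * c⁻¹ = y * z := by group
      rw [← h2, ← h3, h1]
    · have h1 := hsq _ ((hmem x).mp hxQ)
      have h2 : x ^ 2 = 1 := by
        have : (c⁻¹ * x * c) ^ 2 = c⁻¹ * x ^ 2 * c := by
          simp only [pow_two]; group
        rw [this] at h1
        have h3 : x ^ 2 = c * (c⁻¹ * x ^ 2 * c) * c⁻¹ := by group
        rw [h3, h1]; group
      have h3 : x⁻¹ = x := by
        rw [inv_eq_iff_mul_eq_one, ← pow_two, h2]
      rw [h3]
  · intro h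
    have hsq : ∀ x ∈ (P : Subgroup G), x ^ 2 = 1 := by
      intro x hx
      have hk : ∃ k : ℕ, orderOf x = 2 ^ k := by
        obtain ⟨k, hk⟩ := (IsPGroup.iff_orderOf.mp P.isPGroup') ⟨x, hx⟩
        exact ⟨k, by rw [← hk, Subgroup.orderOf_mk]⟩
      obtain ⟨⟨Q, hQ⟩, hreal⟩ := h x hk
      have := Cfsg.Agent.S4195.inv_eq_self_of_real x Q hQ hreal
      rw [pow_two]
      nth_rewrite 1 [← this]
      simp
    refine ⟨?_, hsq⟩
    rw [isMulCommutative_iff]
    rintro ⟨a, ha⟩ ⟨b, hb⟩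
    ext
    simp only [Subgroup.coe_mul]
    have hab := hsq (a * b) (Subgroup.mul_mem _ ha hb)
    have ha2 := hsq a ha
    have hb2 := hsq b hb
    -- a b = (a b)⁻¹ = b⁻¹ a⁻¹ = b a
    have h1 : a⁻¹ = a := by rw [inv_eq_iff_mul_eq_one, ← pow_two, ha2]
    have h2 : b⁻¹ = b := by rw [inv_eq_iff_mul_eq_one, ← pow_two, hb2]
    have h3 : (a * b)⁻¹ = a * b := by rw [inv_eq_iff_mul_eq_one, ← pow_two, hab]
    rw [← h3, mul_inv_rev, h1, h2]

end Cfsg.Agent.S4196
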