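import Cfsg.Statements.S4198
import Mathlib

set_option autoImplicit false
open Cfsg

namespace Cfsg.Agent.S4198

open Equiv Equiv.Perm

/-- valid cycle types for degree n -/
def CT (n : ℕ) : Type := {m : Multiset ℕ // m.sum ≤ n ∧ ∀ a ∈ m, 2 ≤ a}

noncomputable def pick (m : Multiset ℕ) : ℕ :=
  if h : m = 0 then 0 else Classical.choose (Multiset.exists_mem_of_ne_zero h)

lemma pick_mem {m : Multiset ℕ} (h : m ≠ 0) : pick m ∈ m := by
  unfold pick; rw [dif_neg h]; exact Classical.choose_spec (Multiset.exists_mem_of_ne_zero h)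

lemma ct_ne_zero {n : ℕ} (m : CT (n+2)) (h : ¬ m.1.sum ≤ n + 1) : m.1 ≠ 0 := by
  intro h0; rw [h0] at h; simp at h

lemma ct_sum_eq {n : ℕ} (m : CT (n+2)) (h : ¬ m.1.sum ≤ n + 1) : m.1.sum = n + 2 := by
  have := m.2.1; omega

noncomputable def step (n : ℕ) (m : CT (n+2)) : CT (n+1) ⊕ CT n :=
  if h : m.1.sum ≤ n + 1 then Sum.inl ⟨m.1, h, m.2.2⟩
  else Sum.inr ⟨m.1.erase (pick m.1), by
    have h1 := pick_mem (ct_ne_zero m h)
    have h2 := Multiset.sum_erase h1
    have h3 := m.2.2 _ h1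
    have h4 := ct_sum_eq m h
    omega, fun a ha => m.2.2 a (Multiset.mem_of_mem_erase ha)⟩

lemma step_injective (n : ℕ) : Function.Injective (step n) := by
  intro m m' hmm
  unfold step at hmm
  by_cases h : m.1.sum ≤ n + 1
  · by_cases h' : m'.1.sum ≤ n + 1
    · rw [dif_pos h, dif_pos h'] at hmm
      have := congrArg Subtype.val (Sum.inl.inj hmm)
      exact Subtype.ext this
    · rw [dif_pos h, dif_neg h'] at hmm
      exact absurd hmm (by simp)
  · by_cases h' : m'.1.sum ≤ n + 1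
    · rw [dif_neg h, dif_pos h'] at hmm
      exact absurd hmm (by simp)
    · rw [dif_neg h, dif_neg h'] at hmm
      have h0 := congrArg Subtype.val (Sum.inr.inj hmm)
      simp only at h0
      have h1 := pick_mem (ct_ne_zero m h)
      have h1' := pick_mem (ct_ne_zero m' h')
      have h2 := Multiset.sum_erase h1
      have h2' := Multiset.sum_erase h1'
      have h4 := ct_sum_eq m h
      have h4' := ct_sum_eq m' h'
      have hp : pick m.1 = pick m'.1 := by
        rw [h0] at h2; omega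
      apply Subtype.ext
      rw [← Multiset.cons_erase h1, ← Multiset.cons_erase h1', h0, hp]

lemma ct_small_subsingleton (n : ℕ) (hn : n ≤ 1) : Subsingleton (CT n) := by
  constructor
  intro a b
  have key : ∀ m : CT n, m.1 = 0 := by
    intro m
    by_contra h
    obtain ⟨x, hx⟩ := Multiset.exists_mem_of_ne_zero h
    have h1 := m.2.2 x hx
    have h2 := Multiset.le_sum_of_mem hx
    have h3 := m.2.1
    omega
  exact Subtype.ext ((key a).trans (key b).symm)

lemma ct_card (n : ℕ) : Finite (CT n) ∧ Finite (CT (n+1)) ∧ Nat.card (CT n) ≤ Nat.fib (n+1) ∧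
    Nat.card (CT (n+1)) ≤ Nat.fib (n+2) := by
  induction n with
  | zero =>
    have := ct_small_subsingleton 0 (by omega)
    have := ct_small_subsingleton 1 (by omega)
    refine ⟨inferInstance, inferInstance, ?_, ?_⟩
    · simpa using Finite.card_le_one_iff_subsingleton.mpr (ct_small_subsingleton 0 (by omega))
    · simpa using Finite.card_le_one_iff_subsingleton.mpr (ct_small_subsingleton 1 (by omega))
  | succ n ih =>
    obtain ⟨f0, f1, c0, c1⟩ := ih
    have := f0
    have := f1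
    have : Finite (CT (n+2)) := Finite.of_injective _ (step_injective n)
    refine ⟨f1, inferInstance, c1, ?_⟩
    calc Nat.card (CT (n+2)) ≤ Nat.card (CT (n+1) ⊕ CT n) :=
          Nat.card_le_card_of_injective _ (step_injective n)
      _ = Nat.card (CT (n+1)) + Nat.card (CT n) := Nat.card_sum
      _ ≤ Nat.fib (n+2) + Nat.fib (n+1) := Nat.add_le_add c1 c0
      _ = Nat.fib (n+3) := by rw [Nat.fib_add_two (n := n+1)]; ring

lemma fib_bound (k : ℕ) : Nat.fib (k + 6) ≤ 2 ^ (k + 3) ∧ Nat.fib (k + 7) ≤ 2 ^ (k + 4) := by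
  induction k with
  | zero => constructor <;> decide
  | succ k ih =>
    obtain ⟨h1, h2⟩ := ih
    refine ⟨h2, ?_⟩
    have : Nat.fib (k + 1 + 7) = Nat.fib (k + 6) + Nat.fib (k + 7) := by
      rw [show k + 1 + 7 = (k + 6) + 2 by ring, Nat.fib_add_two]
    rw [this]
    have e1 : 2 ^ (k + 1 + 4) = 2 ^ (k+3) * 4 := by ring
    have e2 : 2 ^ (k + 4) = 2 ^ (k+3) * 2 := by ring
    rw [e1]; rw [e2] at h2
    nlinarith [h1, h2]

noncomputable def ctype (n : ℕ) : ConjClasses (Perm (Fin n)) → Multiset ℕ :=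
  Quotient.lift (fun σ : Perm (Fin n) => σ.cycleType) (by
    intro a b hab
    exact Equiv.Perm.isConj_iff_cycleType_eq.mp hab)

lemma ctype_mk (n : ℕ) (σ : Perm (Fin n)) : ctype n (ConjClasses.mk σ) = σ.cycleType := rfl

lemma ctype_injective (n : ℕ) : Function.Injective (ctype n) := by
  intro a b hab
  obtain ⟨a, rfl⟩ := ConjClasses.exists_rep a
  obtain ⟨b, rfl⟩ := ConjClasses.exists_rep b
  rw [ctype_mk, ctype_mk] at hab
  exact ConjClasses.mk_eq_mk_iff_isConj.mpr (Equiv.Perm.isConj_iff_cycleType_eq.mpr hab)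

lemma ctype_valid (n : ℕ) (c : ConjClasses (Perm (Fin n))) :
    (ctype n c).sum ≤ n ∧ ∀ a ∈ ctype n c, 2 ≤ a := by
  obtain ⟨σ, rfl⟩ := ConjClasses.exists_rep c
  rw [ctype_mk]
  refine ⟨?_, fun a ha => Equiv.Perm.two_le_of_mem_cycleType ha⟩
  rw [Equiv.Perm.sum_cycleType]
  simpa using Finset.card_le_univ σ.support

theorem partB (n : ℕ) (hn : 5 ≤ n) : Nat.card (ConjClasses (Equiv.Perm (Fin n))) ≤ 2 ^ (n - 2) := by
  obtain ⟨f0, -, c0, -⟩ := ct_card n
  have := f0
  have h1 : Nat.card (ConjClasses (Equiv.Perm (Fin n))) ≤ Nat.card (CT n) := by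
    have hinj : Function.Injective (fun c => (⟨ctype n c, ctype_valid n c⟩ : CT n)) := by
      intro a b hab
      exact ctype_injective n (congrArg Subtype.val hab)
    exact Nat.card_le_card_of_injective _ hinj
  obtain ⟨k, rfl⟩ : ∃ k, n = k + 5 := ⟨n - 5, by omega⟩
  have h2 := (fib_bound k).1
  calc _ ≤ Nat.card (CT (k+5)) := h1
    _ ≤ Nat.fib (k + 5 + 1) := c0
    _ ≤ 2 ^ (k + 3) := h2
    _ = 2 ^ (k + 5 - 2) := by congr 1


/-! ### Part A -/

lemma isConj_of_even {n : ℕ} (σ τ : alternatingGroup (Fin n)) (g : Perm (Fin n))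
    (hg : sign g = 1) (h : g * σ * g⁻¹ = τ) : IsConj σ τ := by
  rw [isConj_iff]
  exact ⟨⟨g, mem_alternatingGroup.mpr hg⟩, Subtype.ext h⟩

lemma centralizer_even {n : ℕ} (σ τ : alternatingGroup (Fin n))
    (hG : IsConj (σ : Perm (Fin n)) τ) (hH : ¬ IsConj σ τ)
    (z : Perm (Fin n)) (hz : z * σ = σ * z) : sign z = 1 := by
  obtain ⟨g, hg⟩ := isConj_iff.mp hG
  have hgs : sign g = -1 := by
    rcases Int.units_eq_one_or (sign g) with h | h
    · exact absurd (isConj_of_even σ τ g h hg) hH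
    · exact h
  rcases Int.units_eq_one_or (sign z) with h | h
  · exact h
  · exfalso; apply hH
    refine isConj_of_even σ τ (g * z) (by rw [Perm.sign_mul, hgs, h]; rfl) ?_
    rw [← hg]
    have : z * (σ : Perm (Fin n)) * z⁻¹ = σ := by rw [hz]; group
    calc g * z * (σ : Perm (Fin n)) * (g * z)⁻¹ = g * (z * σ * z⁻¹) * g⁻¹ := by group
      _ = _ := by rw [this]

lemma three_conj {n : ℕ} (σ τ ρ : alternatingGroup (Fin n))
    (h1 : IsConj (σ : Perm (Fin n)) τ) (h2 : IsConj (σ : Perm (Fin n)) ρ)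
    (n1 : ¬ IsConj σ τ) (n2 : ¬ IsConj σ ρ) : IsConj τ ρ := by
  obtain ⟨g, hg⟩ := isConj_iff.mp h1
  obtain ⟨h, hh⟩ := isConj_iff.mp h2
  have hgs : sign g = -1 := by
    rcases Int.units_eq_one_or (sign g) with h | h
    · exact absurd (isConj_of_even σ τ g h hg) n1
    · exact h
  have hhs : sign h = -1 := by
    rcases Int.units_eq_one_or (sign h) with h' | h'
    · exact absurd (isConj_of_even σ ρ h h' hh) n2
    · exact h'
  refine isConj_of_even τ ρ (h * g⁻¹) (by rw [Perm.sign_mul, Perm.sign_inv, hgs, hhs]; rfl) ?_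
  rw [← hg, ← hh]; group

/-- sign as a function of cycle type -/
def sgnM (m : Multiset ℕ) : ℤˣ := (m.map fun k => -(-1 : ℤˣ) ^ k).prod

lemma sign_eq_sgnM {n : ℕ} (σ : Perm (Fin n)) : sign σ = sgnM σ.cycleType :=
  Equiv.Perm.sign_of_cycleType' σ

lemma neg_pow_odd {k : ℕ} (hk : Odd k) : -(-1 : ℤˣ) ^ k = 1 := by
  rw [hk.neg_one_pow]; simp

lemma neg_pow_even {k : ℕ} (hk : Even k) : -(-1 : ℤˣ) ^ k = -1 := by
  rw [hk.neg_one_pow]

lemma sgnM_of_odd (m : Multiset ℕ) (h : ∀ k ∈ m, Odd k) : sgnM m = 1 := by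
  unfold sgnM
  apply Multiset.prod_eq_one
  intro x hx
  obtain ⟨k, hk, rfl⟩ := Multiset.mem_map.mp hx
  exact neg_pow_odd (h k hk)

/-- move one point out of a chosen cycle -/
noncomputable def psi (m : Multiset ℕ) : Multiset ℕ := (pick m - 1) ::ₘ m.erase (pick m)

lemma sgnM_psi (m : Multiset ℕ) (h0 : m ≠ 0) (h : ∀ k ∈ m, Odd k) : sgnM (psi m) = -1 := by
  have hp := pick_mem h0
  have hodd := h _ hp
  unfold psi sgnM
  rw [Multiset.map_cons, Multiset.prod_cons]
  have h1 : ((m.erase (pick m)).map fun k => -(-1 : ℤˣ) ^ k).prod = 1 :=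
    sgnM_of_odd _ (fun k hk => h k (Multiset.mem_of_mem_erase hk))
  rw [h1, mul_one]
  apply neg_pow_even
  obtain ⟨j, hj⟩ := hodd
  exact ⟨j, by omega⟩

lemma psi_inj (m m' : Multiset ℕ) (h0 : m ≠ 0) (h0' : m' ≠ 0) (h : ∀ k ∈ m, Odd k)
    (h' : ∀ k ∈ m', Odd k) (he : psi m = psi m') : m = m' := by
  have hp := pick_mem h0
  have hp' := pick_mem h0'
  have hodd := h _ hp
  have hodd' := h' _ hp'
  have hpp : pick m = pick m' := by
    have hmem : pick m - 1 ∈ psi m' := by rw [← he]; exact Multiset.mem_cons_self _ _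
    unfold psi at hmem
    rcases Multiset.mem_cons.mp hmem with h1 | h1
    · obtain ⟨j, hj⟩ := hodd
      obtain ⟨j', hj'⟩ := hodd'
      omega
    · exfalso
      have := h' _ (Multiset.mem_of_mem_erase h1)
      obtain ⟨j, hj⟩ := hodd
      obtain ⟨i, hi⟩ := this
      omega
  unfold psi at he
  rw [hpp] at he
  have he2 := (Multiset.cons_inj_right _).mp he
  rw [← Multiset.cons_erase hp, ← Multiset.cons_erase hp', hpp, ← he2]

lemma psi_valid (n : ℕ) (m : Multiset ℕ) (h0 : m ≠ 0) (h : ∀ k ∈ m, Odd k)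
    (hv : m.sum ≤ n ∧ ∀ a ∈ m, 2 ≤ a) : (psi m).sum ≤ n ∧ ∀ a ∈ psi m, 2 ≤ a := by
  have hp := pick_mem h0
  have hodd := h _ hp
  have h2 := hv.2 _ hp
  have hs := Multiset.sum_erase hp
  unfold psi
  constructor
  · rw [Multiset.sum_cons]; have := hv.1; omega
  · intro a ha
    rcases Multiset.mem_cons.mp ha with h1 | h1
    · obtain ⟨j, hj⟩ := hodd; omega
    · exact hv.2 a (Multiset.mem_of_mem_erase h1)

lemma psi_eq_two (m : Multiset ℕ) (h0 : m ≠ 0) (he : psi m = {2}) : m = {3} := by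
  have hp := pick_mem h0
  unfold psi at he
  have h1 : pick m - 1 ∈ ({2} : Multiset ℕ) := by rw [← he]; exact Multiset.mem_cons_self _ _
  have h2 : pick m - 1 = 2 := Multiset.mem_singleton.mp h1
  rw [h2] at he
  have h3 : m.erase (pick m) = 0 := by
    have : (2 ::ₘ m.erase (pick m)) = 2 ::ₘ 0 := by rw [he]; rfl
    exact (Multiset.cons_inj_right _).mp this
  rw [← Multiset.cons_erase hp, h3]
  have : pick m = 3 := by omega
  rw [this]; rfl


/-- the fusion map from classes of `A_n` to classes of `S_n` -/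
def phi (n : ℕ) : ConjClasses (alternatingGroup (Fin n)) → ConjClasses (Perm (Fin n)) :=
  ConjClasses.map (alternatingGroup (Fin n)).subtype

lemma phi_mk (n : ℕ) (σ : alternatingGroup (Fin n)) :
    phi n (ConjClasses.mk σ) = ConjClasses.mk (σ : Perm (Fin n)) := rfl

lemma fiber_three {n : ℕ} (x y z : ConjClasses (alternatingGroup (Fin n)))
    (hxy : phi n x = phi n y) (hxz : phi n x = phi n z) (nxy : x ≠ y) (nxz : x ≠ z) : y = z := by
  obtain ⟨σ, rfl⟩ := ConjClasses.exists_rep x
  obtain ⟨τ, rfl⟩ := ConjClasses.exists_rep y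
  obtain ⟨ρ, rfl⟩ := ConjClasses.exists_rep z
  rw [phi_mk, phi_mk, ConjClasses.mk_eq_mk_iff_isConj] at hxy hxz
  rw [ne_eq, ConjClasses.mk_eq_mk_iff_isConj] at nxy nxz
  rw [ConjClasses.mk_eq_mk_iff_isConj]
  exact three_conj σ τ ρ hxy hxz nxy nxz

lemma split_odd {n : ℕ} (x y : ConjClasses (alternatingGroup (Fin n)))
    (hxy : phi n x = phi n y) (nxy : x ≠ y) : ∀ k ∈ ctype n (phi n x), Odd k := by
  obtain ⟨σ, rfl⟩ := ConjClasses.exists_rep x
  obtain ⟨τ, rfl⟩ := ConjClasses.exists_rep y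
  rw [phi_mk, phi_mk, ConjClasses.mk_eq_mk_iff_isConj] at hxy
  rw [ne_eq, ConjClasses.mk_eq_mk_iff_isConj] at nxy
  rw [phi_mk, ctype_mk]
  intro k hk
  obtain ⟨c, t, hσ, hd, hc, hck⟩ := Equiv.Perm.mem_cycleType_iff.mp hk
  have hcomm : c * (σ : Perm (Fin n)) = σ * c := by
    rw [hσ, mul_assoc, hd.commute.eq]
  have h1 := centralizer_even σ τ hxy nxy c hcomm
  rw [hc.sign, hck] at h1
  by_contra hodd
  rw [Nat.not_odd_iff_even] at hodd
  rw [neg_pow_even hodd] at h1
  exact absurd h1 (by decide)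

lemma split_fixed {n : ℕ} (x y : ConjClasses (alternatingGroup (Fin n)))
    (hxy : phi n x = phi n y) (nxy : x ≠ y) : n ≤ (ctype n (phi n x)).sum + 1 := by
  obtain ⟨σ, rfl⟩ := ConjClasses.exists_rep x
  obtain ⟨τ, rfl⟩ := ConjClasses.exists_rep y
  rw [phi_mk, phi_mk, ConjClasses.mk_eq_mk_iff_isConj] at hxy
  rw [ne_eq, ConjClasses.mk_eq_mk_iff_isConj] at nxy
  rw [phi_mk, ctype_mk, Equiv.Perm.sum_cycleType]
  by_contra hlt
  have hcard : 1 < ((σ : Perm (Fin n)).supportᶜ).card := by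
    rw [Finset.card_compl, Fintype.card_fin]; omega
  obtain ⟨a, ha, b, hb, hab⟩ := Finset.one_lt_card.mp hcard
  rw [Finset.mem_compl, Equiv.Perm.notMem_support] at ha hb
  have hcomm : swap a b * (σ : Perm (Fin n)) = σ * swap a b := by
    rw [Equiv.mul_swap_eq_swap_mul, ha, hb]
  have h1 := centralizer_even σ τ hxy nxy (swap a b) hcomm
  rw [Equiv.Perm.sign_swap hab] at h1
  exact absurd h1 (by decide)

noncomputable def rsec (n : ℕ) :
    ConjClasses (Perm (Fin n)) → ConjClasses (alternatingGroup (Fin n)) :=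
  Function.invFun (phi n)

lemma phi_rsec (n : ℕ) (x : ConjClasses (alternatingGroup (Fin n))) :
    phi n (rsec n (phi n x)) = phi n x := Function.invFun_eq ⟨x, rfl⟩

noncomputable def Psi (n : ℕ) (x : ConjClasses (alternatingGroup (Fin n))) : Multiset ℕ :=
  if rsec n (phi n x) = x then ctype n (phi n x) else psi (ctype n (phi n x))

lemma sgnM_phi (n : ℕ) (x : ConjClasses (alternatingGroup (Fin n))) :
    sgnM (ctype n (phi n x)) = 1 := by
  obtain ⟨σ, rfl⟩ := ConjClasses.exists_rep x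
  rw [phi_mk, ctype_mk, ← sign_eq_sgnM]
  exact mem_alternatingGroup.mp σ.2

lemma split_ne_zero {n : ℕ} (hn : 5 ≤ n) (x y : ConjClasses (alternatingGroup (Fin n)))
    (hxy : phi n x = phi n y) (nxy : x ≠ y) : ctype n (phi n x) ≠ 0 := by
  intro h
  have := split_fixed x y hxy nxy
  rw [h] at this
  simp at this
  omega

lemma Psi_injective (n : ℕ) (hn : 5 ≤ n) : Function.Injective (Psi n) := by
  intro x y h
  unfold Psi at h
  by_cases hx : rsec n (phi n x) = x
  · by_cases hy : rsec n (phi n y) = y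
    · rw [if_pos hx, if_pos hy] at h
      have := ctype_injective n h
      rw [← hx, ← hy, this]
    · rw [if_pos hx, if_neg hy] at h
      have h1 := sgnM_phi n x
      have h2 := sgnM_psi _ (split_ne_zero hn _ _ (phi_rsec n y).symm (Ne.symm hy))
        (split_odd _ _ (phi_rsec n y).symm (Ne.symm hy))
      rw [h, h2] at h1
      exact absurd h1 (by decide)
  · by_cases hy : rsec n (phi n y) = y
    · rw [if_neg hx, if_pos hy] at h
      have h1 := sgnM_phi n y
      have h2 := sgnM_psi _ (split_ne_zero hn _ _ (phi_rsec n x).symm (Ne.symm hx))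
        (split_odd _ _ (phi_rsec n x).symm (Ne.symm hx))
      rw [← h, h2] at h1
      exact absurd h1 (by decide)
    · rw [if_neg hx, if_neg hy] at h
      have h3 := psi_inj _ _ (split_ne_zero hn _ _ (phi_rsec n x).symm (Ne.symm hx))
        (split_ne_zero hn _ _ (phi_rsec n y).symm (Ne.symm hy))
        (split_odd _ _ (phi_rsec n x).symm (Ne.symm hx))
        (split_odd _ _ (phi_rsec n y).symm (Ne.symm hy)) h
      have h4 := ctype_injective n h3
      refine fiber_three (rsec n (phi n x)) x y (phi_rsec n x) ((phi_rsec n x).trans h4) hx ?_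
      rw [h4]; exact hy

lemma Psi_range (n : ℕ) (hn : 5 ≤ n) (x : ConjClasses (alternatingGroup (Fin n))) :
    Psi n x ∈ Set.range (ctype n) \ {{2}} := by
  unfold Psi
  by_cases hx : rsec n (phi n x) = x
  · rw [if_pos hx]
    refine ⟨⟨_, rfl⟩, ?_⟩
    intro h
    rw [Set.mem_singleton_iff] at h
    have h1 := sgnM_phi n x
    rw [h] at h1
    exact absurd h1 (by decide)
  · rw [if_neg hx]
    have hne := split_ne_zero hn _ _ (phi_rsec n x).symm (Ne.symm hx)
    have hodd := split_odd _ _ (phi_rsec n x).symm (Ne.symm hx)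
    have hfix := split_fixed _ _ (phi_rsec n x).symm (Ne.symm hx)
    constructor
    · have hv := psi_valid n _ hne hodd (ctype_valid n (phi n x))
      obtain ⟨g, hg⟩ := (Equiv.Perm.exists_with_cycleType_iff (α := Fin n)).mpr
        (by simpa using hv)
      exact ⟨ConjClasses.mk g, by rw [ctype_mk, hg]⟩
    · intro h
      rw [Set.mem_singleton_iff] at h
      have h3 := psi_eq_two _ hne h
      rw [h3] at hfix
      simp at hfix
      omega

theorem partA (n : ℕ) (hn : 5 ≤ n) : Nat.card (ConjClasses (alternatingGroup (Fin n))) <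
    Nat.card (ConjClasses (Equiv.Perm (Fin n))) := by
  have hfin : (Set.range (ctype n)).Finite := Set.finite_range _
  have h2 : ({2} : Multiset ℕ) ∈ Set.range (ctype n) := by
    obtain ⟨g, hg⟩ := (Equiv.Perm.exists_with_cycleType_iff (α := Fin n) (m := {2})).mpr
      (by simp; omega)
    exact ⟨ConjClasses.mk g, by rw [ctype_mk, hg]⟩
  calc Nat.card (ConjClasses (alternatingGroup (Fin n)))
      = Nat.card (Set.range (Psi n)) := (Nat.card_range_of_injective (Psi_injective n hn)).symm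
    _ = (Set.range (Psi n)).ncard := Nat.card_coe_set_eq _
    _ ≤ (Set.range (ctype n) \ {{2}}).ncard := by
        apply Set.ncard_le_ncard _ (hfin.subset Set.sdiff_subset)
        rintro _ ⟨x, rfl⟩
        exact Psi_range n hn x
    _ < (Set.range (ctype n)).ncard := Set.ncard_sdiff_singleton_lt_of_mem h2 hfin
    _ = Nat.card (Set.range (ctype n)) := (Nat.card_coe_set_eq _).symm
    _ = Nat.card (ConjClasses (Equiv.Perm (Fin n))) :=
        Nat.card_range_of_injective (ctype_injective n)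


/-- For n ≥ 5 the alternating group of degree n has strictly fewer conjugacy classes than the symmetric group of degree n, and the symmetric group of degree n (whose classes correspond to the partitions of n) has at most 2^(n−2) conjugacy classes. -/
theorem result (n : ℕ) (hn : 5 ≤ n) : Nat.card (ConjClasses (alternatingGroup (Fin n))) < Nat.card (ConjClasses (Equiv.Perm (Fin n))) ∧ Nat.card (ConjClasses (Equiv.Perm (Fin n))) ≤ 2 ^ (n - 2) := by
  exact ⟨partA n hn, partB n hn⟩

end Cfsg.Agent.S4198
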