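import Cfsg.Statements.S4200
import Cfsg.Agent.Helper70.ClassNumber

set_option autoImplicit false
open Cfsg

namespace Cfsg.Agent.S4200

open Cfsg.Agent.Helper70

theorem commPairs_mono {X : Type*} [Group X] [Finite X] {A A' B B' : Set X} (hA : A ⊆ A') (hB : B ⊆ B') :
    commPairs A B ≤ commPairs A' B' := by
  unfold commPairs
  apply Nat.card_le_card_of_injective
    (fun p : {p : X × X // p.1 ∈ A ∧ p.2 ∈ B ∧ Commute p.1 p.2} =>
      (⟨p.1, hA p.2.1, hB p.2.2.1, p.2.2.2⟩ : {p : X × X // p.1 ∈ A' ∧ p.2 ∈ B' ∧ Commute p.1 p.2}))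
  intro p q h
  have := congrArg Subtype.val h
  exact Subtype.ext this

theorem key {X : Type*} [Group X] [Finite X] (Y : Subgroup X) :
    commPairs (Set.univ : Set X) Set.univ ≤ Y.index * (Y.index * commPairs (Y : Set X) (Y : Set X)) := by
  have h1 := commPairs_le_index_mul (Set.univ : Set X) (⊤ : Subgroup X) Y
  have h2 := commPairs_le_index_mul (Y : Set X) (⊤ : Subgroup X) Y
  rw [top_inf_eq] at h1 h2
  rw [Subgroup.coe_top] at h1 h2
  rw [commPairs_comm Set.univ (Y : Set X)] at h1
  exact le_trans h1 (Nat.mul_le_mul_left _ h2)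

theorem key_strict {X : Type*} [Group X] [Finite X] (Y : Subgroup X) (hY : ¬ Y.Normal) :
    commPairs (Set.univ : Set X) Set.univ < Y.index * (Y.index * commPairs (Y : Set X) (Y : Set X)) := by
  have h1 := commPairs_le_index_mul (Set.univ : Set X) (⊤ : Subgroup X) Y
  -- find y ∈ Y, g with g y g⁻¹ ∉ Y
  have : ∃ y ∈ Y, ∃ g : X, g * y * g⁻¹ ∉ Y := by
    by_contra hcon
    push Not at hcon
    exact hY ⟨fun y hy g => hcon y hy g⟩
  obtain ⟨y, hy, g, hg⟩ := this
  have h2 := commPairs_lt_index_mul (Y : Set X) (⊤ : Subgroup X) Y y g⁻¹ hy (by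
    intro c hc hmem
    apply hg
    have hc' : c * y = y * c := Subgroup.mem_centralizer_singleton_iff.mp hc.1
    -- u = c⁻¹ g⁻¹ ∈ Y, so g = u⁻¹ c⁻¹ and g y g⁻¹ = u⁻¹ y u
    have e : g * y * g⁻¹ = (c⁻¹ * g⁻¹)⁻¹ * y * (c⁻¹ * g⁻¹) := by
      have : (c⁻¹ * g⁻¹)⁻¹ * y * (c⁻¹ * g⁻¹) = g * (c * y) * c⁻¹ * g⁻¹ := by group
      rw [this, hc']
      group
    rw [e]
    exact Y.mul_mem (Y.mul_mem (Y.inv_mem hmem) hy) hmem)
  rw [top_inf_eq] at h1 h2
  rw [Subgroup.coe_top] at h1 h2
  rw [commPairs_comm Set.univ (Y : Set X)] at h1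
  have hpos : 0 < Y.index := Nat.pos_of_ne_zero Y.index_ne_zero_of_finite
  exact lt_of_le_of_lt h1 (Nat.mul_lt_mul_of_pos_left h2 hpos)

/-- Let Y be a subgroup of the finite group X, of index m. Then the numbers of conjugacy classes satisfy k(Y) ≤ m·k(X) and k(X) ≤ m·k(Y), and the second inequality is strict unless Y is normal in X. -/
theorem result {X : Type*} [Group X] [Finite X] (Y : Subgroup X) : Nat.card (ConjClasses Y) ≤ Y.index * Nat.card (ConjClasses X) ∧ Nat.card (ConjClasses X) ≤ Y.index * Nat.card (ConjClasses Y) ∧ (¬ Y.Normal → Nat.card (ConjClasses X) < Y.index * Nat.card (ConjClasses Y)) := by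
  have hYpos : 0 < Nat.card Y := Nat.card_pos
  have hXpos : 0 < Nat.card X := Nat.card_pos
  have hX : Nat.card X = Y.index * Nat.card Y := (Y.index_mul_card).symm
  refine ⟨?_, ?_, ?_⟩
  · have h := commPairs_mono (X := X) (Set.subset_univ (Y : Set X)) (Set.subset_univ (Y : Set X))
    rw [commPairs_univ, commPairs_subgroup, hX] at h
    have : Nat.card (ConjClasses Y) * Nat.card Y ≤ (Y.index * Nat.card (ConjClasses X)) * Nat.card Y := by
      calc Nat.card (ConjClasses Y) * Nat.card Y ≤ Nat.card (ConjClasses X) * (Y.index * Nat.card Y) := h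
        _ = (Y.index * Nat.card (ConjClasses X)) * Nat.card Y := by ring
    exact Nat.le_of_mul_le_mul_right this hYpos
  · have h := key Y
    rw [commPairs_univ, commPairs_subgroup] at h
    have : Nat.card (ConjClasses X) * Nat.card X ≤ (Y.index * Nat.card (ConjClasses Y)) * Nat.card X := by
      calc Nat.card (ConjClasses X) * Nat.card X
          ≤ Y.index * (Y.index * (Nat.card (ConjClasses Y) * Nat.card Y)) := h
        _ = (Y.index * Nat.card (ConjClasses Y)) * (Y.index * Nat.card Y) := by ring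
        _ = (Y.index * Nat.card (ConjClasses Y)) * Nat.card X := by rw [hX]
    exact Nat.le_of_mul_le_mul_right this hXpos
  · intro hY
    have h := key_strict Y hY
    rw [commPairs_univ, commPairs_subgroup] at h
    have : Nat.card (ConjClasses X) * Nat.card X < (Y.index * Nat.card (ConjClasses Y)) * Nat.card X := by
      calc Nat.card (ConjClasses X) * Nat.card X
          < Y.index * (Y.index * (Nat.card (ConjClasses Y) * Nat.card Y)) := h
        _ = (Y.index * Nat.card (ConjClasses Y)) * (Y.index * Nat.card Y) := by ring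
        _ = (Y.index * Nat.card (ConjClasses Y)) * Nat.card X := by rw [hX]
    exact Nat.lt_of_mul_lt_mul_right this

end Cfsg.Agent.S4200
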