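import Cfsg.Statements.S4201
import Cfsg.Agent.Helper70.ClassNumber

set_option autoImplicit false
open Cfsg

namespace Cfsg.Agent.S4201

open Cfsg.Agent.Helper70

variable {X : Type*} [Group X]

open Classical in
theorem commPairs_eq_sum_set [Fintype X] (A B : Set X) :
    commPairs A B = ∑ a : X, if a ∈ A then Nat.card {b : X // b ∈ B ∧ Commute a b} else 0 := by
  unfold commPairs
  rw [Nat.card_congr (Equiv.subtypeProdEquivSigmaSubtype
    (fun a b : X => a ∈ A ∧ b ∈ B ∧ Commute a b)), Nat.card_sigma]
  apply Finset.sum_congr rfl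
  intro a _
  split_ifs with ha
  · apply Nat.card_congr
    refine Equiv.subtypeEquivRight ?_
    intro b
    simp [ha]
  · haveI : IsEmpty {b : X // a ∈ A ∧ b ∈ B ∧ Commute a b} := ⟨fun b => ha b.2.1⟩
    exact Nat.card_of_isEmpty

/-- Step A: `|C_X(x)| ≤ |C_X(x) ∩ N| * |C_{X/N}(xN)|`. -/
theorem stepA [Finite X] (N : Subgroup X) [N.Normal] (x : X) :
    Nat.card (Subgroup.centralizer ({x} : Set X)) ≤
      Nat.card (Subgroup.centralizer ({x} : Set X) ⊓ N : Subgroup X) *
        Nat.card (Subgroup.centralizer ({(QuotientGroup.mk x : X ⧸ N)} : Set (X ⧸ N))) := by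
  set C := Subgroup.centralizer ({x} : Set X) with hC
  rw [card_eq_relIndex_mul_card_inf C N, mul_comm]
  apply Nat.mul_le_mul_left
  -- the natural map C ⧸ (N ∩ C) → centralizer of the image of x
  let ψ : C ⧸ N.subgroupOf C → Subgroup.centralizer ({(QuotientGroup.mk x : X ⧸ N)} : Set (X ⧸ N)) :=
    Quotient.lift (fun c : C => (⟨QuotientGroup.mk (c : X), by
      rw [Subgroup.mem_centralizer_singleton_iff, ← QuotientGroup.mk_mul, ← QuotientGroup.mk_mul]
      congr 1
      exact Subgroup.mem_centralizer_singleton_iff.mp c.2⟩ :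
        Subgroup.centralizer ({(QuotientGroup.mk x : X ⧸ N)} : Set (X ⧸ N)))) (by
      intro a b hab
      apply Subtype.ext
      simp only
      rw [QuotientGroup.eq]
      have := QuotientGroup.leftRel_apply.mp hab
      exact this)
  have hinj : Function.Injective ψ := by
    intro a b
    induction a using Quotient.inductionOn' with
    | h a =>
    induction b using Quotient.inductionOn' with
    | h b =>
    intro h
    have h1 : (QuotientGroup.mk (a : X) : X ⧸ N) = QuotientGroup.mk (b : X) := congrArg Subtype.val h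
    rw [QuotientGroup.eq] at h1
    exact Quotient.sound' (QuotientGroup.leftRel_apply.mpr h1)
  exact Nat.card_le_card_of_injective ψ hinj

/-- Step C (pointwise): the centralizer of `n` meets a coset of `N` in at most `|C_N(n)|` elements. -/
theorem stepC_pointwise [Finite X] (N : Subgroup X) (q : Set X) (hq : ∀ a ∈ q, ∀ b ∈ q, a⁻¹ * b ∈ N) (n : X) :
    Nat.card {b : X // b ∈ q ∧ Commute n b} ≤ Nat.card (Subgroup.centralizer ({n} : Set X) ⊓ N : Subgroup X) := by
  by_cases hne : Nonempty {b : X // b ∈ q ∧ Commute n b}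
  · obtain ⟨⟨b₀, hb₀q, hb₀c⟩⟩ := hne
    apply Nat.card_le_card_of_injective
      (fun b : {b : X // b ∈ q ∧ Commute n b} =>
        (⟨b₀⁻¹ * b.1, by
          rw [Subgroup.mem_inf, Subgroup.mem_centralizer_singleton_iff]
          refine ⟨?_, hq b₀ hb₀q b.1 b.2.1⟩
          have h1 : Commute n (b₀⁻¹ * b.1) := (hb₀c.inv_right).mul_right b.2.2
          exact h1.eq.symm⟩ : (Subgroup.centralizer ({n} : Set X) ⊓ N : Subgroup X)))
    intro a b h
    have := congrArg Subtype.val h
    simp only [mul_right_inj] at this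
    exact Subtype.ext this
  · rw [not_nonempty_iff] at hne
    rw [Nat.card_of_isEmpty]
    exact Nat.zero_le _

/-- Step C: the number of commuting pairs in `q × N`, `q` a coset of `N`, is at most `k(N)|N|`. -/
theorem stepC [Finite X] (N : Subgroup X) (q : Set X) (hq : ∀ a ∈ q, ∀ b ∈ q, a⁻¹ * b ∈ N) :
    commPairs q (N : Set X) ≤ commPairs (N : Set X) (N : Set X) := by
  classical
  haveI : Fintype X := Fintype.ofFinite X
  rw [commPairs_comm q, commPairs_eq_sum_set, commPairs_eq_sum]
  apply Finset.sum_le_sum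
  intro n _
  split_ifs with hn
  · exact stepC_pointwise N q hq n
  · exact le_rfl

/-- If N is a normal subgroup of the finite group X then k(X) ≤ k(N)·k(X ⧸ N), where k denotes the number of conjugacy classes. -/
theorem result {X : Type*} [Group X] [Finite X] (N : Subgroup X) [N.Normal] : Nat.card (ConjClasses X) ≤ Nat.card (ConjClasses N) * Nat.card (ConjClasses (X ⧸ N)) := by
  classical
  haveI : Fintype X := Fintype.ofFinite X
  haveI : Fintype (X ⧸ N) := Fintype.ofFinite _
  have hXpos : 0 < Nat.card X := Nat.card_pos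
  -- k(X)|X| = ∑ₓ |C(x)|
  have h0 : Nat.card (ConjClasses X) * Nat.card X =
      ∑ x : X, Nat.card (Subgroup.centralizer ({x} : Set X)) := by
    rw [← commPairs_univ, ← Subgroup.coe_top, commPairs_eq_sum]
    simp
  -- bound each term
  have h1 : ∑ x : X, Nat.card (Subgroup.centralizer ({x} : Set X)) ≤
      ∑ x : X, Nat.card (Subgroup.centralizer ({x} : Set X) ⊓ N : Subgroup X) *
        Nat.card (Subgroup.centralizer ({(QuotientGroup.mk x : X ⧸ N)} : Set (X ⧸ N))) :=
    Finset.sum_le_sum (fun x _ => stepA N x)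
  -- split the sum along the fibres of X → X ⧸ N
  have h2 : ∑ x : X, Nat.card (Subgroup.centralizer ({x} : Set X) ⊓ N : Subgroup X) *
        Nat.card (Subgroup.centralizer ({(QuotientGroup.mk x : X ⧸ N)} : Set (X ⧸ N))) =
      ∑ q : X ⧸ N, ∑ x : X, if (QuotientGroup.mk x : X ⧸ N) = q then
        Nat.card (Subgroup.centralizer ({x} : Set X) ⊓ N : Subgroup X) *
        Nat.card (Subgroup.centralizer ({q} : Set (X ⧸ N))) else 0 := by
    rw [Finset.sum_comm]
    apply Finset.sum_congr rfl
    intro x _
    rw [Finset.sum_ite_eq]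
    simp
  have h3 : ∀ q : X ⧸ N, (∑ x : X, if (QuotientGroup.mk x : X ⧸ N) = q then
        Nat.card (Subgroup.centralizer ({x} : Set X) ⊓ N : Subgroup X) *
        Nat.card (Subgroup.centralizer ({q} : Set (X ⧸ N))) else 0) ≤
      (Nat.card (ConjClasses N) * Nat.card N) * Nat.card (Subgroup.centralizer ({q} : Set (X ⧸ N))) := by
    intro q
    have e : (∑ x : X, if (QuotientGroup.mk x : X ⧸ N) = q then
        Nat.card (Subgroup.centralizer ({x} : Set X) ⊓ N : Subgroup X) *
        Nat.card (Subgroup.centralizer ({q} : Set (X ⧸ N))) else 0) =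
        commPairs {x : X | (QuotientGroup.mk x : X ⧸ N) = q} (N : Set X) *
          Nat.card (Subgroup.centralizer ({q} : Set (X ⧸ N))) := by
      rw [commPairs_eq_sum, Finset.sum_mul]
      apply Finset.sum_congr rfl
      intro x _
      simp only [Set.mem_setOf_eq]
      split_ifs <;> simp
    rw [e]
    apply Nat.mul_le_mul_right
    rw [← commPairs_subgroup]
    apply stepC
    intro a ha b hb
    simp only [Set.mem_setOf_eq] at ha hb
    rw [← QuotientGroup.eq, ha, hb]
  have h4 : ∑ q : X ⧸ N, (Nat.card (ConjClasses N) * Nat.card N) *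
      Nat.card (Subgroup.centralizer ({q} : Set (X ⧸ N))) =
      (Nat.card (ConjClasses N) * Nat.card N) * (Nat.card (ConjClasses (X ⧸ N)) * Nat.card (X ⧸ N)) := by
    rw [← Finset.mul_sum]
    congr 1
    rw [← commPairs_univ, ← Subgroup.coe_top, commPairs_eq_sum]
    simp
  have hcard : Nat.card X = Nat.card (X ⧸ N) * Nat.card N := Subgroup.card_eq_card_quotient_mul_card_subgroup N
  have hfinal : Nat.card (ConjClasses X) * Nat.card X ≤
      (Nat.card (ConjClasses N) * Nat.card (ConjClasses (X ⧸ N))) * Nat.card X := by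
    calc Nat.card (ConjClasses X) * Nat.card X
        = ∑ x : X, Nat.card (Subgroup.centralizer ({x} : Set X)) := h0
      _ ≤ _ := h1
      _ = _ := h2
      _ ≤ ∑ q : X ⧸ N, (Nat.card (ConjClasses N) * Nat.card N) *
            Nat.card (Subgroup.centralizer ({q} : Set (X ⧸ N))) := Finset.sum_le_sum (fun q _ => h3 q)
      _ = _ := h4
      _ = (Nat.card (ConjClasses N) * Nat.card (ConjClasses (X ⧸ N))) * Nat.card X := by
          rw [hcard]; ring
  exact Nat.le_of_mul_le_mul_right hfinal hXpos

end Cfsg.Agent.S4201
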