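import Cfsg.Statements.S4203
import Cfsg.Agent.Lib.BurnsidePQ

set_option autoImplicit false
open Cfsg

namespace Cfsg.Agent.S4203

/-- The preimage of a coatom under a surjective homomorphism is a coatom. -/
theorem isCoatom_comap_of_surj {A B : Type*} [Group A] [Group B] (f : A →* B)
    (hf : Function.Surjective f) (C : Subgroup B) (hC : IsCoatom C) : IsCoatom (C.comap f) := by
  constructor
  · intro h
    apply hC.1
    rw [← Subgroup.map_comap_eq_self_of_surjective hf C, h, Subgroup.map_top_of_surjective f hf]
  · intro L hL
    have hker : f.ker ≤ L := (Subgroup.ker_le_comap f C).trans hL.le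
    have hLeq : (L.map f).comap f = L := by
      rw [Subgroup.comap_map_eq, sup_eq_left]; exact hker
    have hCL : C ≤ L.map f := by
      rw [← Subgroup.map_comap_eq_self_of_surjective hf C]
      exact Subgroup.map_mono hL.le
    rcases eq_or_lt_of_le hCL with h | h
    · exfalso
      rw [← hLeq, ← h] at hL
      exact lt_irrefl _ hL
    · rw [← hLeq, hC.2 _ h, Subgroup.comap_top]

/-- a subgroup containing the normalizer of a Sylow `p`-subgroup has index `≡ 1 mod p` -/
theorem index_modEq_one_of_normalizer_le {G : Type*} [Group G] [Finite G] {p : ℕ} [Fact p.Prime]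
    (P : Sylow p G) (M : Subgroup G) (hM : Subgroup.normalizer ((P : Subgroup G) : Set G) ≤ M) :
    M.index ≡ 1 [MOD p] := by
  have hPM : (P : Subgroup G) ≤ M := Subgroup.le_normalizer.trans hM
  have h1 : (Subgroup.normalizer ((P : Subgroup G) : Set G)).index ≡ 1 [MOD p] := by
    have h0 : (Subgroup.normalizer ((P : Subgroup G) : Set G)).index = Nat.card (Sylow p G) :=
      (Sylow.card_eq_index_normalizer P).symm
    rw [h0]
    exact card_sylow_modEq_one p G
  have h2 : (Subgroup.normalizer ((P : Subgroup G) : Set G)).relIndex M ≡ 1 [MOD p] := by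
    have h3 : Nat.card (Sylow p M) =
        (Subgroup.normalizer (((P : Subgroup G).subgroupOf M : Subgroup M) : Set M)).index :=
      Sylow.card_eq_index_normalizer (P.subtype hPM)
    have h4 := card_sylow_modEq_one p M
    rw [h3, ← Subgroup.subgroupOf_normalizer_eq hPM] at h4
    exact h4
  have h3 := Subgroup.relIndex_mul_index hM
  rw [← h3] at h1
  have h4 : (Subgroup.normalizer ((P : Subgroup G) : Set G)).relIndex M * M.index ≡ 1 * M.index [MOD p] :=
    h2.mul_right _
  rw [one_mul] at h4
  exact h4.symm.trans h1

/-- the arithmetic at the heart of the proof -/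
theorem arith {p q n : ℕ} (hp : p.Prime) (hq : q.Prime) (hqp : q ≤ p) (hn : n = q ∨ n = q ^ 2)
    (h1 : n ≡ 1 [MOD p]) : p = 3 := by
  have hp2 := hp.two_le
  have hq2 := hq.two_le
  rcases eq_or_lt_of_le hqp with rfl | hlt
  · -- n is a multiple of p
    exfalso
    have h0 : n ≡ 0 [MOD q] := by
      rcases hn with rfl | rfl
      · exact Nat.modEq_zero_iff_dvd.mpr dvd_rfl
      · exact Nat.modEq_zero_iff_dvd.mpr (dvd_pow_self _ (by norm_num))
    have := h0.symm.trans h1
    rw [Nat.ModEq, Nat.zero_mod, Nat.mod_eq_of_lt (by omega)] at this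
    omega
  · rcases hn with rfl | rfl
    · exfalso
      rw [Nat.ModEq, Nat.mod_eq_of_lt hlt, Nat.mod_eq_of_lt (by omega)] at h1
      omega
    · have h2 : p ∣ q ^ 2 - 1 := (Nat.modEq_iff_dvd' (Nat.one_le_pow _ _ (by omega))).mp h1.symm
      have h3 : q ^ 2 - 1 = (q - 1) * (q + 1) := by
        zify [Nat.one_le_pow 2 q (by omega), (by omega : 1 ≤ q)]
        ring
      rw [h3] at h2
      rcases (Nat.Prime.dvd_mul hp).mp h2 with h | h
      · exfalso
        have := Nat.le_of_dvd (by omega) h
        omega
      · have h4 := Nat.le_of_dvd (by omega) h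
        have h5 : p = q + 1 := by omega
        subst h5
        rcases Nat.Prime.eq_one_or_self_of_dvd hq 2 (by
          rcases Nat.even_or_odd q with he | ho
          · exact he.two_dvd
          · exfalso
            have he : Even (q + 1) := ho.add_one
            have := (Nat.Prime.even_iff hp).mp he
            omega) with h6 | h6
        · omega
        · omega

theorem aux : ∀ (n : ℕ) (G : Type*) [Group G] [Finite G], Nat.card G = n →
    (∀ M : Subgroup G, IsCoatom M → ∃ p : ℕ, p.Prime ∧ (M.index = p ∨ M.index = p ^ 2)) →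
    Group.IsSolvable G := by
  intro n
  induction n using Nat.strong_induction_on with
  | _ n ih =>
    intro G _ _ hn h
    by_cases h1 : Nat.card G = 1
    · haveI : Subsingleton G := (Nat.card_eq_one_iff_unique.mp h1).1
      infer_instance
    have h0 : Nat.card G ≠ 0 := Nat.card_pos.ne'
    -- the largest prime divisor
    obtain ⟨p, hp, hpdvd, hpmax⟩ : ∃ p, p.Prime ∧ p ∣ Nat.card G ∧
        ∀ q, q.Prime → q ∣ Nat.card G → q ≤ p := by
      have hne : (Nat.card G).primeFactors.Nonempty := by
        rw [Nat.nonempty_primeFactors]; omega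
      refine ⟨(Nat.card G).primeFactors.max' hne, ?_, ?_, ?_⟩
      · exact (Nat.mem_primeFactors.mp (Finset.max'_mem _ hne)).1
      · exact (Nat.mem_primeFactors.mp (Finset.max'_mem _ hne)).2.1
      · intro q hq hqd
        exact Finset.le_max' _ q (Nat.mem_primeFactors.mpr ⟨hq, hqd, h0⟩)
    haveI : Fact p.Prime := ⟨hp⟩
    obtain ⟨P⟩ : Nonempty (Sylow p G) := inferInstance
    by_cases hPn : (P : Subgroup G).Normal
    · have hPcard : 1 < Nat.card (P : Subgroup G) := by
        have h2 : p ∣ Nat.card (P : Subgroup G) := P.dvd_card_of_dvd_card hpdvd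
        have := Nat.le_of_dvd Nat.card_pos h2
        have := hp.two_le
        omega
      have hlt : Nat.card (G ⧸ (P : Subgroup G)) < n := by
        rw [← hn, ← Subgroup.index_eq_card, ← Subgroup.index_mul_card (P : Subgroup G)]
        have : 0 < (P : Subgroup G).index := Nat.pos_of_ne_zero Subgroup.index_ne_zero_of_finite
        nlinarith
      haveI hQ : Group.IsSolvable (G ⧸ (P : Subgroup G)) :=
        ih _ hlt (G ⧸ (P : Subgroup G)) rfl (fun M' hM' => by
          have := h (M'.comap (QuotientGroup.mk' (P : Subgroup G)))
            (isCoatom_comap_of_surj _ (QuotientGroup.mk'_surjective _) M' hM')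
          rwa [Subgroup.index_comap_of_surjective _ (QuotientGroup.mk'_surjective _)] at this)
      haveI : Group.IsNilpotent (P : Subgroup G) := P.2.isNilpotent
      haveI : Group.IsSolvable (P : Subgroup G) := inferInstance
      exact Group.isSolvable_of_ker_le_range (P : Subgroup G).subtype (QuotientGroup.mk' (P : Subgroup G))
        (by simp)
    · have hN : Subgroup.normalizer ((P : Subgroup G) : Set G) ≠ ⊤ :=
        fun h => hPn (Subgroup.normalizer_eq_top_iff.mp h)
      obtain ⟨M, hM, hNM⟩ := (eq_top_or_exists_le_coatom _).resolve_left hN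
      obtain ⟨q, hq, hidx⟩ := h M hM
      have hqdvd : q ∣ Nat.card G := by
        have h2 : M.index ∣ Nat.card G := Subgroup.index_dvd_card M
        rcases hidx with h3 | h3
        · rw [h3] at h2; exact h2
        · rw [h3] at h2; exact (dvd_pow_self q (by norm_num)).trans h2
      have hp3 := arith hp hq (hpmax q hq hqdvd) hidx (index_modEq_one_of_normalizer_le P M hNM)
      subst hp3
      exact Cfsg.Agent.Lib.isSolvable_of_prime_dvd_card Nat.prime_two Nat.prime_three
        (fun r hr hrd => by
          have h2 := hpmax r hr hrd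
          have h3 := hr.two_le
          omega)

/-- A finite group in which every maximal subgroup has index a prime or the square of a prime is solvable. -/
theorem result {G : Type*} [Group G] [Finite G] (h : ∀ M : Subgroup G, IsCoatom M → ∃ p : ℕ, p.Prime ∧ (M.index = p ∨ M.index = p ^ 2)) : Group.IsSolvable G :=
  aux _ G rfl h

end Cfsg.Agent.S4203
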