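import Cfsg.Statements.S4204
import Cfsg.Agent.Helper70.Commutator

set_option autoImplicit false
open Cfsg

namespace Cfsg.Agent.S4204

theorem lcs_normal {G : Type*} [Group G] (H : Subgroup G) [H.Normal] (n : ℕ) :
    (H.lowerCentralSeries n).Normal := by
  induction n with
  | zero => simpa
  | succ n ih =>
    rw [Subgroup.lowerCentralSeries_succ]
    haveI := ih
    infer_instance

/-- the shifted lower central series: `shift H 0 = ⊤`, `shift H (i+1) = γ_i(H)` (0-indexed). -/
def shift {G : Type*} [Group G] (H : Subgroup G) : ℕ → Subgroup G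
  | 0 => ⊤
  | (i + 1) => H.lowerCentralSeries i

theorem shift_normal {G : Type*} [Group G] (H : Subgroup G) [H.Normal] (n : ℕ) :
    (shift H n).Normal := by
  cases n with
  | zero => exact Subgroup.normal_top
  | succ n => exact lcs_normal H n

theorem shift_comm_le {G : Type*} [Group G] (H : Subgroup G) [H.Normal] (n : ℕ) :
    ⁅shift H n, H⁆ ≤ shift H (n + 1) := by
  cases n with
  | zero =>
    show ⁅(⊤ : Subgroup G), H⁆ ≤ H.lowerCentralSeries 0
    simpa using Subgroup.commutator_le_right ⊤ H
  | succ n =>
    show ⁅H.lowerCentralSeries n, H⁆ ≤ H.lowerCentralSeries (n + 1)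
    rw [Subgroup.lowerCentralSeries_succ]

theorem shift_eq_bot {G : Type*} [Group G] (H : Subgroup G) (c : ℕ) (hH : H.lowerCentralSeries c = ⊥)
    (i : ℕ) (hi : c + 1 ≤ i) : shift H i = ⊥ := by
  obtain ⟨k, rfl⟩ : ∃ k, i = k + 1 := ⟨i - 1, by omega⟩
  show H.lowerCentralSeries k = ⊥
  rw [eq_bot_iff, ← hH]
  exact H.lowerCentralSeries_antitone (by omega)

/-- the bound for the lower central series of `H ⊔ K` -/
def T {G : Type*} [Group G] (H K : Subgroup G) (n : ℕ) : Subgroup G :=
  ⨆ i : ℕ, ⨆ j : ℕ, ⨆ (_ : i + j = n + 1), shift H i ⊓ shift K j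

theorem T_normal {G : Type*} [Group G] (H K : Subgroup G) [H.Normal] [K.Normal] (n : ℕ) :
    (T H K n).Normal := by
  haveI hA : ∀ i, (shift H i).Normal := shift_normal H
  haveI hB : ∀ i, (shift K i).Normal := shift_normal K
  unfold T
  infer_instance

theorem le_T {G : Type*} [Group G] (H K : Subgroup G) (n i j : ℕ) (h : i + j = n + 1) :
    shift H i ⊓ shift K j ≤ T H K n := by
  unfold T
  exact le_iSup_of_le i (le_iSup_of_le j (le_iSup_of_le h le_rfl))

theorem T_le_iff {G : Type*} [Group G] (H K : Subgroup G) (n : ℕ) (X : Subgroup G) :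
    T H K n ≤ X ↔ ∀ i j : ℕ, i + j = n + 1 → shift H i ⊓ shift K j ≤ X := by
  unfold T
  simp only [iSup_le_iff]

theorem lcs_sup_le {G : Type*} [Group G] (H K : Subgroup G) [H.Normal] [K.Normal] (n : ℕ) :
    (H ⊔ K).lowerCentralSeries n ≤ T H K n := by
  haveI hA : ∀ i, (shift H i).Normal := shift_normal H
  haveI hB : ∀ i, (shift K i).Normal := shift_normal K
  induction n with
  | zero =>
    rw [Subgroup.lowerCentralSeries_zero]
    apply sup_le
    · refine le_trans ?_ (le_T H K 0 1 0 rfl)
      show H ≤ H.lowerCentralSeries 0 ⊓ ⊤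
      simp
    · refine le_trans ?_ (le_T H K 0 0 1 rfl)
      show K ≤ ⊤ ⊓ K.lowerCentralSeries 0
      simp
  | succ n ih =>
    rw [Subgroup.lowerCentralSeries_succ]
    refine le_trans (Subgroup.commutator_mono ih le_rfl) ?_
    haveI := T_normal H K (n + 1)
    rw [Subgroup.commutator_comm, ← Cfsg.Agent.Helper70.le_centralizerMod_iff, T_le_iff]
    intro i j hij
    rw [Cfsg.Agent.Helper70.le_centralizerMod_iff, Subgroup.commutator_comm]
    apply Cfsg.Agent.Helper70.commutator_sup_le
    · refine le_trans ?_ (le_T H K (n + 1) (i + 1) j (by omega))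
      apply le_inf
      · exact le_trans (Subgroup.commutator_mono inf_le_left le_rfl) (shift_comm_le H i)
      · exact le_trans (Subgroup.commutator_mono inf_le_right le_rfl) (Subgroup.commutator_le_left _ _)
    · refine le_trans ?_ (le_T H K (n + 1) i (j + 1) (by omega))
      apply le_inf
      · exact le_trans (Subgroup.commutator_mono inf_le_left le_rfl) (Subgroup.commutator_le_left _ _)
      · exact le_trans (Subgroup.commutator_mono inf_le_right le_rfl) (shift_comm_le K j)

/-- If `H` and `K` are normal subgroups of a finite group with `H` nilpotent of class at most `c` and `K` nilpotent of class at most `d` (the terms with index `c`, respectively `d`, of their lower central series are trivial, indices starting at `0`), then `HK` is nilpotent of class at most `c + d`. -/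
theorem result {G : Type*} [Group G] [Finite G] (H K : Subgroup G) [H.Normal] [K.Normal] (c d : ℕ) (hH : H.lowerCentralSeries c = ⊥) (hK : K.lowerCentralSeries d = ⊥) : (H ⊔ K).lowerCentralSeries (c + d) = ⊥ := by
  rw [eq_bot_iff]
  refine le_trans (lcs_sup_le H K (c + d)) ?_
  rw [T_le_iff]
  intro i j hij
  by_cases hi : c + 1 ≤ i
  · rw [shift_eq_bot H c hH i hi]; simp
  · rw [shift_eq_bot K d hK j (by omega)]; simp

end Cfsg.Agent.S4204
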