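import Cfsg.Statements.S4212
import Cfsg.Agent.Helper75.Frobenius
import Cfsg.Agent.Helper70.Basic

set_option autoImplicit false
open Cfsg

namespace Cfsg.Agent.S4212

open Cfsg.Agent.Helper70 Cfsg.Agent.Helper75

universe u

/-- if all fibres of a map have the same cardinality `k`, then `k` divides the cardinality of the source -/
theorem dvd_card_of_fibers {S T : Type*} [Finite S] (f : S → T) (k : ℕ)
    (h : ∀ s : S, Nat.card {s' : S // f s' = f s} = k) : k ∣ Nat.card S := by
  classical
  have e := Equiv.sigmaFiberEquiv (Set.rangeFactorization f)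
  rw [← Nat.card_congr e]
  haveI : Fintype (Set.range f) := Fintype.ofFinite _
  rw [Nat.card_sigma]
  apply Finset.dvd_sum
  rintro ⟨t, s, rfl⟩ -
  have h1 := h s
  rw [← h1]
  apply dvd_of_eq
  apply Nat.card_congr
  refine Equiv.subtypeEquivRight (fun s' => ?_)
  constructor
  · intro h2
    exact Subtype.ext h2
  · intro h2
    exact congrArg Subtype.val h2

/-- the order of a `p^a`-th root of an element whose order is divisible by `p` -/
theorem orderOf_root {G : Type*} [Group G] [Finite G] {p a : ℕ} (hp : p.Prime) (x c : G)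
    (hx : x ^ p ^ a = c) (hpc : p ∣ orderOf c) : orderOf x = p ^ a * orderOf c := by
  have h1 : orderOf c = orderOf x / Nat.gcd (orderOf x) (p ^ a) := by rw [← hx, orderOf_pow]
  obtain ⟨j, hj, hgcd⟩ := (Nat.dvd_prime_pow hp).mp (Nat.gcd_dvd_right (orderOf x) (p ^ a))
  have h2 : orderOf x = orderOf c * p ^ j := by
    rw [h1, hgcd]
    have : p ^ j ∣ orderOf x := hgcd ▸ Nat.gcd_dvd_left _ _
    rw [Nat.div_mul_cancel this]
  rcases Nat.lt_or_ge j a with hlt | hge
  · exfalso
    have h3 : p ^ (j + 1) ∣ p ^ a := pow_dvd_pow p hlt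
    have h4 : p ^ (j + 1) ∣ orderOf x := by
      rw [h2, pow_succ, mul_comm]
      exact Nat.mul_dvd_mul_right hpc _
    have h5 : p ^ (j + 1) ∣ p ^ j := hgcd ▸ Nat.dvd_gcd h4 h3
    have := (Nat.pow_dvd_pow_iff_le_right hp.one_lt).mp h5
    omega
  · have : j = a := le_antisymm hj hge
    rw [h2, this, mul_comm]

/-- **B1**: if `p` divides the order of `c`, the number of `p^a`-th roots of `c` is divisible by `p^a`. -/
theorem pow_dvd_card_roots {G : Type*} [Group G] [Finite G] {p : ℕ} (hp : p.Prime) (a : ℕ) (c : G)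
    (hpc : p ∣ orderOf c) : p ^ a ∣ Nat.card {x : G // x ^ p ^ a = c} := by
  have ho : 0 < orderOf c := orderOf_pos c
  apply dvd_card_of_fibers (fun x : {x : G // x ^ p ^ a = c} => Subgroup.zpowers (x : G)) (p ^ a)
  rintro ⟨x₀, hx₀⟩
  have hN : orderOf x₀ = p ^ a * orderOf c := orderOf_root hp x₀ c hx₀ hpc
  have hw : orderOf (x₀ ^ orderOf c) = p ^ a := by
    rw [orderOf_pow, hN, Nat.gcd_mul_left_left, Nat.mul_div_cancel _ ho]
  have hcardw : Nat.card (Subgroup.zpowers (x₀ ^ orderOf c)) = p ^ a := by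
    rw [Nat.card_zpowers, hw]
  refine Eq.trans ?_ hcardw
  apply Nat.card_congr
  refine
    { toFun := fun x => ⟨x₀⁻¹ * (x.1 : G), ?_⟩
      invFun := fun w => ⟨⟨x₀ * (w : G), ?_⟩, ?_⟩
      left_inv := ?_
      right_inv := ?_ }
  · -- `x₀⁻¹ x ∈ ⟨x₀ ^ o⟩`
    obtain ⟨⟨x, hx⟩, hz⟩ := x
    simp only at hz ⊢
    have hxmem : x ∈ Subgroup.zpowers x₀ := hz ▸ Subgroup.mem_zpowers x
    obtain ⟨k, rfl⟩ := Subgroup.mem_zpowers_iff.mp hxmem
    have h1 : x₀⁻¹ * x₀ ^ k = x₀ ^ (k - 1) := by
      rw [zpow_sub_one]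
      exact (Commute.self_zpow x₀ k).inv_left.eq
    rw [h1]
    have h2 : (x₀ ^ (k - 1)) ^ p ^ a = 1 := by
      rw [← h1, (Commute.self_zpow x₀ k).inv_left.mul_pow, hx, inv_pow, hx₀, inv_mul_cancel]
    rw [← zpow_natCast, ← zpow_mul, ← orderOf_dvd_iff_zpow_eq_one, hN] at h2
    have h3 : ((orderOf c : ℕ) : ℤ) ∣ k - 1 := by
      have h4 : ((p ^ a : ℕ) : ℤ) ≠ 0 := by exact_mod_cast (pow_pos hp.pos a).ne'
      rw [Nat.cast_mul, mul_comm (k - 1)] at h2
      exact Int.dvd_of_mul_dvd_mul_left h4 h2
    obtain ⟨j, hj⟩ := h3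
    rw [hj, zpow_mul, zpow_natCast]
    exact Subgroup.zpow_mem_zpowers _ j
  · -- `(x₀ w) ^ p^a = c`
    obtain ⟨w, hwm⟩ := w
    obtain ⟨j, rfl⟩ := Subgroup.mem_zpowers_iff.mp hwm
    have hc : Commute x₀ ((x₀ ^ orderOf c) ^ j) := ((Commute.refl x₀).pow_right _).zpow_right j
    show (x₀ * (x₀ ^ orderOf c) ^ j) ^ p ^ a = c
    rw [hc.mul_pow, hx₀, ← zpow_natCast, ← zpow_mul, mul_comm, zpow_mul, zpow_natCast, ← hw,
      pow_orderOf_eq_one, one_zpow, mul_one]
  · -- `⟨x₀ w⟩ = ⟨x₀⟩`
    obtain ⟨w, hwm⟩ := w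
    simp only
    have hmem : x₀ * w ∈ Subgroup.zpowers x₀ := by
      apply Subgroup.mul_mem _ (Subgroup.mem_zpowers x₀)
      exact (Subgroup.zpowers_le.mpr (Subgroup.pow_mem _ (Subgroup.mem_zpowers x₀) _)) hwm
    have hroot : (x₀ * w) ^ p ^ a = c := by
      obtain ⟨j, rfl⟩ := Subgroup.mem_zpowers_iff.mp hwm
      have hc : Commute x₀ ((x₀ ^ orderOf c) ^ j) := ((Commute.refl x₀).pow_right _).zpow_right j
      rw [hc.mul_pow, hx₀, ← zpow_natCast, ← zpow_mul, mul_comm, zpow_mul, zpow_natCast, ← hw,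
        pow_orderOf_eq_one, one_zpow, mul_one]
    apply Subgroup.eq_of_le_of_card_ge (Subgroup.zpowers_le.mpr hmem)
    rw [Nat.card_zpowers, Nat.card_zpowers, hN, orderOf_root hp _ c hroot hpc]
  · rintro ⟨⟨x, hx⟩, hz⟩
    apply Subtype.ext
    apply Subtype.ext
    simp
  · rintro ⟨w, hwm⟩
    apply Subtype.ext
    simp

/-- **Case B**: a central element and a prime power exponent. -/
theorem central_prime_pow {G : Type u} [Group G] [Finite G] {p : ℕ} (hp : p.Prime) (a : ℕ) (c : G)
    (hc : ∀ g : G, g * c = c * g) :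
    Nat.gcd (p ^ a) (Nat.card G) ∣ Nat.card {x : G // x ^ p ^ a = c} := by
  by_cases hpc : p ∣ orderOf c
  · exact (Nat.gcd_dvd_left _ _).trans (pow_dvd_card_roots hp a c hpc)
  · have hcop : (Nat.card (Subgroup.zpowers c)).Coprime (p ^ a) := by
      rw [Nat.card_zpowers]
      exact Nat.Coprime.pow_right a ((Nat.Prime.coprime_iff_not_dvd hp).mpr hpc).symm
    obtain ⟨⟨d, hdm⟩, hd⟩ := (powCoprime hcop).surjective ⟨c, Subgroup.mem_zpowers c⟩
    have hd' : d ^ p ^ a = c := by
      have := congrArg Subtype.val hd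
      simpa using this
    have hdc : ∀ g : G, Commute g d := by
      intro g
      obtain ⟨k, rfl⟩ := Subgroup.mem_zpowers_iff.mp hdm
      exact (show Commute g c from hc g).zpow_right k
    have e : {x : G // x ^ p ^ a = c} ≃ {x : G // x ^ p ^ a = 1} :=
      { toFun := fun x => ⟨x.1 * d⁻¹, by
          rw [(hdc x.1).inv_right.mul_pow, x.2, inv_pow, hd', mul_inv_cancel]⟩
        invFun := fun x => ⟨x.1 * d, by
          rw [(hdc x.1).mul_pow, x.2, hd', one_mul]⟩
        left_inv := fun x => by apply Subtype.ext; simp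
        right_inv := fun x => by apply Subtype.ext; simp }
    rw [Nat.card_congr e]
    exact frobenius_gcd (Nat.card G) G rfl (p ^ a)

/-- conjugate elements have the same number of `n`-th roots -/
theorem card_roots_conj {G : Type*} [Group G] (c y : G) (n : ℕ) (h : IsConj c y) :
    Nat.card {x : G // x ^ n = y} = Nat.card {x : G // x ^ n = c} := by
  obtain ⟨g, hg⟩ := isConj_iff.mp h
  apply Nat.card_congr
  exact
    { toFun := fun x => ⟨g⁻¹ * x.1 * g, by
        have : (g⁻¹ * x.1 * g) ^ n = g⁻¹ * x.1 ^ n * g := by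
          have := conj_pow (a := g⁻¹) (b := x.1) (i := n)
          rw [inv_inv] at this
          exact this
        rw [this, x.2, ← hg]; group⟩
      invFun := fun x => ⟨g * x.1 * g⁻¹, by rw [conj_pow, x.2, hg]⟩
      left_inv := fun x => by apply Subtype.ext; simp [mul_assoc]
      right_inv := fun x => by apply Subtype.ext; simp [mul_assoc] }

/-- **Step 1**: the number of `x` with `x ^ n` in the class of `c` -/
theorem card_conj_root {G : Type*} [Group G] [Finite G] (c : G) (n : ℕ) :
    Nat.card {x : G // IsConj c (x ^ n)} =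
      Nat.card {y : G // IsConj c y} * Nat.card {x : G // x ^ n = c} := by
  classical
  have e : {x : G // IsConj c (x ^ n)} ≃ Σ y : {y : G // IsConj c y}, {x : G // x ^ n = y.1} :=
    { toFun := fun x => ⟨⟨x.1 ^ n, x.2⟩, ⟨x.1, rfl⟩⟩
      invFun := fun yx => ⟨yx.2.1, by rw [yx.2.2]; exact yx.1.2⟩
      left_inv := fun x => rfl
      right_inv := fun yx => by
        obtain ⟨⟨y, hy⟩, ⟨x, hx⟩⟩ := yx
        simp only at hx
        subst hx
        rfl }
  rw [Nat.card_congr e]
  haveI : Fintype {y : G // IsConj c y} := Fintype.ofFinite _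
  rw [Nat.card_sigma]
  rw [Finset.sum_congr rfl (fun y _ => card_roots_conj c y.1 n y.2)]
  rw [Finset.sum_const, Finset.card_univ, smul_eq_mul, ← Nat.card_eq_fintype_card]

/-- the index of the stabilizer for the conjugation action is the class size -/
theorem index_stabilizer_conjAct {G : Type*} [Group G] (y : G) :
    (MulAction.stabilizer (ConjAct G) y).index = Nat.card {z : G // IsConj y z} := by
  rw [MulAction.index_stabilizer, ← Nat.card_coe_set_eq]
  apply Nat.card_congr
  refine Equiv.subtypeEquivRight (fun z => ?_)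
  rw [ConjAct.mem_orbit_conjAct, isConj_comm]

/-- **Case A**: for a central `c`, `gcd(n₁, |G|)` divides the number of `n₁ n₂`-th roots of `c`, if the theorem
is known for the exponent `n₁`. -/
theorem central_mul {G : Type u} [Group G] [Finite G] (c : G) (hc : ∀ g : G, g * c = c * g) (n₁ n₂ : ℕ)
    (IH : ∀ y : G, Nat.gcd (Nat.card {z : G // IsConj y z} * n₁) (Nat.card G) ∣
      Nat.card {x : G // IsConj y (x ^ n₁)}) :
    Nat.gcd n₁ (Nat.card G) ∣ Nat.card {x : G // x ^ (n₁ * n₂) = c} := by
  classical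
  haveI : Fintype G := Fintype.ofFinite G
  have e : {x : G // x ^ (n₁ * n₂) = c} ≃ Σ y : G, {x : G // x ^ n₁ = y ∧ y ^ n₂ = c} :=
    { toFun := fun x => ⟨x.1 ^ n₁, ⟨x.1, rfl, by rw [← pow_mul]; exact x.2⟩⟩
      invFun := fun yx => ⟨yx.2.1, by rw [pow_mul, yx.2.2.1]; exact yx.2.2.2⟩
      left_inv := fun x => rfl
      right_inv := fun yx => by
        obtain ⟨y, ⟨x, hx, hy⟩⟩ := yx
        subst hx
        rfl }
  rw [Nat.card_congr e, Nat.card_sigma]
  apply frob_dvd_sum (G := ConjAct G) (fun y : G => Nat.card {x : G // x ^ n₁ = y ∧ y ^ n₂ = c})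
  · -- invariance
    intro g y
    rw [ConjAct.smul_def]
    obtain ⟨k, hk⟩ : ∃ k : G, k = ConjAct.ofConjAct g := ⟨_, rfl⟩
    rw [← hk]
    apply Nat.card_congr
    exact
      { toFun := fun x => ⟨k⁻¹ * x.1 * k, by
          have h1 : (k⁻¹ * x.1 * k) ^ n₁ = k⁻¹ * x.1 ^ n₁ * k := by
            have := conj_pow (a := k⁻¹) (b := x.1) (i := n₁)
            rw [inv_inv] at this
            exact this
          rw [h1, x.2.1]; group, by
          have h2 := x.2.2
          rw [conj_pow] at h2
          have : y ^ n₂ = k⁻¹ * (k * y ^ n₂ * k⁻¹) * k := by group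
          rw [this, h2, mul_assoc, ← hc k, ← mul_assoc, inv_mul_cancel, one_mul]⟩
        invFun := fun x => ⟨k * x.1 * k⁻¹, by rw [conj_pow, x.2.1], by
          rw [conj_pow, x.2.2, hc k, mul_assoc, mul_inv_cancel, mul_one]⟩
        left_inv := fun x => by apply Subtype.ext; simp [mul_assoc]
        right_inv := fun x => by apply Subtype.ext; simp [mul_assoc] }
  · intro y
    by_cases hy : y ^ n₂ = c
    · have h1 : Nat.card {x : G // x ^ n₁ = y ∧ y ^ n₂ = c} = Nat.card {x : G // x ^ n₁ = y} :=
        Nat.card_congr (Equiv.subtypeEquivRight (fun x => ⟨fun h => h.1, fun h => ⟨h, hy⟩⟩))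
      rw [h1, index_stabilizer_conjAct, ← card_conj_root]
      exact (Nat.gcd_dvd_gcd_of_dvd_left _ (Dvd.intro_left _ rfl)).trans (IH y)
    · haveI : IsEmpty {x : G // x ^ n₁ = y ∧ y ^ n₂ = c} := ⟨fun x => hy x.2.2⟩
      have h0 : Nat.card {x : G // x ^ n₁ = y ∧ y ^ n₂ = c} = 0 := Nat.card_of_isEmpty
      rw [h0, mul_zero]
      exact dvd_zero _

theorem card_conj_of_central {G : Type*} [Group G] (c : G) (hc : ∀ g : G, g * c = c * g) :
    Nat.card {y : G // IsConj c y} = 1 := by
  rw [card_conj_eq_index_centralizer]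
  have : Subgroup.centralizer ({c} : Set G) = ⊤ := by
    rw [eq_top_iff]
    intro g _
    rw [Subgroup.mem_centralizer_iff]
    intro x hx
    rw [Set.mem_singleton_iff] at hx
    rw [hx]
    exact (hc g).symm
  rw [this, Subgroup.index_top]

/-- **Step 3**: the central case, given the theorem for smaller exponents -/
theorem central_case {G : Type u} [Group G] [Finite G] (c : G) (hc : ∀ g : G, g * c = c * g) (n : ℕ)
    (IH : ∀ m < n, ∀ y : G, Nat.gcd (Nat.card {z : G // IsConj y z} * m) (Nat.card G) ∣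
      Nat.card {x : G // IsConj y (x ^ m)}) :
    Nat.gcd n (Nat.card G) ∣ Nat.card {x : G // x ^ n = c} := by
  rcases Nat.eq_zero_or_pos n with rfl | hnpos
  · rw [Nat.gcd_zero_left]
    by_cases h1 : c = 1
    · subst h1
      have e : {x : G // x ^ 0 = 1} ≃ G :=
        { toFun := fun x => x.1
          invFun := fun x => ⟨x, pow_zero x⟩
          left_inv := fun x => rfl
          right_inv := fun x => rfl }
      rw [Nat.card_congr e]
    · haveI : IsEmpty {x : G // x ^ 0 = c} := ⟨fun x => h1 (by rw [← x.2, pow_zero])⟩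
      have h0 : Nat.card {x : G // x ^ 0 = c} = 0 := Nat.card_of_isEmpty
      rw [h0]
      exact dvd_zero _
  by_cases hn1 : n = 1
  · subst hn1
    rw [Nat.gcd_one_left]
    exact one_dvd _
  have hp : (n.minFac).Prime := Nat.minFac_prime hn1
  obtain ⟨a, m, hpm, hn⟩ := Nat.exists_eq_pow_mul_and_not_dvd hnpos.ne' n.minFac hp.ne_one
  obtain ⟨p, hpdef⟩ : ∃ p, p = n.minFac := ⟨_, rfl⟩
  rw [← hpdef] at hp hpm hn
  have ha : a ≠ 0 := by
    rintro rfl
    rw [pow_zero, one_mul] at hn
    apply hpm
    rw [← hn, hpdef]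
    exact Nat.minFac_dvd n
  have hm0 : m ≠ 0 := by
    rintro rfl
    rw [mul_zero] at hn
    omega
  by_cases hm1 : m = 1
  · subst hm1
    rw [mul_one] at hn
    subst hn
    exact central_prime_pow hp a c hc
  · have hm2 : 2 ≤ m := by omega
    have hpa2 : 2 ≤ p ^ a := by
      calc 2 ≤ p := hp.two_le
        _ = p ^ 1 := (pow_one p).symm
        _ ≤ p ^ a := Nat.pow_le_pow_right hp.pos (by omega)
    have hlt1 : p ^ a < n := by rw [hn]; nlinarith
    have hlt2 : m < n := by rw [hn]; nlinarith
    have h1 : Nat.gcd (p ^ a) (Nat.card G) ∣ Nat.card {x : G // x ^ n = c} := by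
      have := central_mul c hc (p ^ a) m (IH (p ^ a) hlt1)
      rwa [← hn] at this
    have h2 : Nat.gcd m (Nat.card G) ∣ Nat.card {x : G // x ^ n = c} := by
      have := central_mul c hc m (p ^ a) (IH m hlt2)
      rwa [mul_comm, ← hn] at this
    have hcop : Nat.Coprime (p ^ a) m :=
      Nat.Coprime.pow_left a ((Nat.Prime.coprime_iff_not_dvd hp).mpr hpm)
    have hcop2 : Nat.Coprime (Nat.gcd (p ^ a) (Nat.card G)) (Nat.gcd m (Nat.card G)) :=
      Nat.Coprime.coprime_dvd_left (Nat.gcd_dvd_left _ _)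
        (Nat.Coprime.coprime_dvd_right (Nat.gcd_dvd_left _ _) hcop)
    have h3 := Nat.Coprime.mul_dvd_of_dvd_of_dvd hcop2 h1 h2
    have h4 : Nat.gcd n (Nat.card G) = Nat.gcd (p ^ a) (Nat.card G) * Nat.gcd m (Nat.card G) := by
      rw [hn, Nat.gcd_comm, Nat.Coprime.gcd_mul _ hcop, Nat.gcd_comm, Nat.gcd_comm (Nat.card G) m]
    rw [h4]
    exact h3

theorem main : ∀ (N : ℕ) (G : Type u) [Group G] [Finite G], Nat.card G = N → ∀ (n : ℕ) (c : G),
    Nat.gcd (Nat.card {y : G // IsConj c y} * n) (Nat.card G) ∣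
      Nat.card {x : G // IsConj c (x ^ n)} := by
  intro N
  induction N using Nat.strong_induction_on with
  | _ N IHN =>
    intro G _ _ hN n
    induction n using Nat.strong_induction_on with
    | _ n IHn =>
      intro c
      by_cases hcent : ∀ g : G, g * c = c * g
      · rw [card_conj_root, card_conj_of_central c hcent, one_mul, one_mul]
        exact central_case c hcent n IHn
      · -- pass to the centralizer
        obtain ⟨C, hCdef⟩ : ∃ C : Subgroup G, C = Subgroup.centralizer ({c} : Set G) := ⟨_, rfl⟩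
        have hcC : c ∈ C := by
          rw [hCdef, Subgroup.mem_centralizer_iff]
          intro x hx
          rw [Set.mem_singleton_iff] at hx
          rw [hx]
        have hCne : C ≠ ⊤ := by
          intro htop
          apply hcent
          intro g
          have hg : g ∈ C := htop ▸ Subgroup.mem_top g
          rw [hCdef, Subgroup.mem_centralizer_iff] at hg
          exact (hg c rfl).symm
        have hlt : Nat.card C < N := by
          rw [← hN]
          by_contra hge
          push Not at hge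
          exact hCne (Subgroup.eq_top_of_card_eq C (le_antisymm (Subgroup.card_le_card_group C) hge))
        have hcentC : ∀ g : C, g * (⟨c, hcC⟩ : C) = ⟨c, hcC⟩ * g := by
          rintro ⟨g, hg⟩
          apply Subtype.ext
          rw [hCdef, Subgroup.mem_centralizer_iff] at hg
          exact (hg c rfl).symm
        have h1 := IHN (Nat.card C) hlt C rfl n (⟨c, hcC⟩ : C)
        rw [card_conj_root, card_conj_of_central _ hcentC, one_mul, one_mul] at h1
        have e : {x : C // x ^ n = (⟨c, hcC⟩ : C)} ≃ {x : G // x ^ n = c} :=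
          { toFun := fun x => ⟨x.1.1, by
              have := congrArg Subtype.val x.2
              simpa using this⟩
            invFun := fun x => ⟨⟨x.1, by
              rw [hCdef, Subgroup.mem_centralizer_iff]
              intro y hy
              rw [Set.mem_singleton_iff] at hy
              rw [hy]
              have h2 : Commute (x.1 ^ n) x.1 := (Commute.refl x.1).pow_left n
              rw [x.2] at h2
              exact h2.eq⟩, by
              apply Subtype.ext
              simpa using x.2⟩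
            left_inv := fun x => rfl
            right_inv := fun x => rfl }
        rw [Nat.card_congr e] at h1
        rw [card_conj_root, card_conj_eq_index_centralizer, ← hCdef, ← Subgroup.index_mul_card C,
          Nat.gcd_mul_left]
        exact Nat.mul_dvd_mul_left _ h1

/-- Let `G` be a finite group of order `g`, `c` an element whose conjugacy class has `h` elements, and `n` a natural number. Then the number of elements `x` of `G` with `x^n` conjugate to `c` is a multiple of `gcd(hn, g)`. -/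
theorem result {G : Type*} [Group G] [Finite G] (c : G) (n : ℕ) : Nat.gcd (Nat.card {y : G // IsConj c y} * n) (Nat.card G) ∣ Nat.card {x : G // IsConj c (x ^ n)} :=
  main _ G rfl n c

end Cfsg.Agent.S4212
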