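import Cfsg.Statements.S4213
import Cfsg.Agent.Helper75.Frobenius

set_option autoImplicit false
open Cfsg

namespace Cfsg.Agent.S4213

universe u

open scoped commutatorElement

/-- A nontrivial finite solvable group has a nontrivial normal subgroup of prime exponent `p` and `p`-power order. -/
theorem exists_normal_elemAb {G : Type*} [Group G] [Finite G] [hs : Group.IsSolvable G] [Nontrivial G] :
    ∃ (p : ℕ) (K : Subgroup G), p.Prime ∧ K.Normal ∧ K ≠ ⊥ ∧ (∀ x ∈ K, x ^ p = 1) ∧ ∃ i, Nat.card K = p ^ i := by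
  classical
  obtain ⟨n, hn⟩ := hs.solvable
  -- the least n with derivedSeries G n = ⊥
  have hex : ∃ n, derivedSeries G n = ⊥ := ⟨n, hn⟩
  set m := Nat.find hex with hm
  have hm0 : m ≠ 0 := by
    intro h0
    have := Nat.find_spec hex
    rw [← hm, h0, derivedSeries_zero] at this
    exact top_ne_bot this
  obtain ⟨j, hj⟩ : ∃ j, m = j + 1 := ⟨m - 1, by omega⟩
  set A := derivedSeries G j with hA
  have hAne : A ≠ ⊥ := by
    intro h
    have := Nat.find_min hex (m := j) (by omega)
    exact this h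
  have hAab : ⁅A, A⁆ = ⊥ := by
    have := Nat.find_spec hex
    rw [← hm, hj, derivedSeries_succ] at this
    exact this
  have hAcomm : ∀ a ∈ A, ∀ b ∈ A, a * b = b * a := by
    intro a ha b hb
    have h1 : ⁅a, b⁆ ∈ ⁅A, A⁆ := Subgroup.commutator_mem_commutator ha hb
    rw [hAab, Subgroup.mem_bot, commutatorElement_eq_one_iff_mul_comm] at h1
    exact h1
  haveI hAn : A.Normal := inferInstance
  have hAcard : Nat.card A ≠ 1 := by
    intro h
    exact hAne (Subgroup.card_eq_one.mp h)
  obtain ⟨p, hp, hpd⟩ := Nat.exists_prime_and_dvd hAcard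
  haveI : Fact p.Prime := ⟨hp⟩
  let K : Subgroup G :=
    { carrier := {x | x ∈ A ∧ x ^ p = 1}
      mul_mem' := by
        rintro a b ⟨ha, ha'⟩ ⟨hb, hb'⟩
        refine ⟨A.mul_mem ha hb, ?_⟩
        rw [(show Commute a b from hAcomm a ha b hb).mul_pow, ha', hb', one_mul]
      one_mem' := ⟨A.one_mem, one_pow _⟩
      inv_mem' := by
        rintro a ⟨ha, ha'⟩
        exact ⟨A.inv_mem ha, by rw [inv_pow, ha', inv_one]⟩ }
  refine ⟨p, K, hp, ?_, ?_, fun x hx => hx.2, ?_⟩
  · constructor
    rintro x ⟨hx, hx'⟩ g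
    exact ⟨hAn.conj_mem x hx g, by rw [conj_pow, hx', mul_one, mul_inv_cancel]⟩
  · obtain ⟨a, ha⟩ := exists_prime_orderOf_dvd_card' (G := A) p hpd
    intro h
    have h1 : (a : G) ∈ K := ⟨a.2, by
      have : a ^ p = 1 := by rw [← ha]; exact pow_orderOf_eq_one a
      have := congrArg Subtype.val this
      simpa using this⟩
    rw [h, Subgroup.mem_bot] at h1
    have h2 : a = 1 := Subtype.ext h1
    rw [h2, orderOf_one] at ha
    exact hp.one_lt.ne ha
  · have hK : IsPGroup p K := by
      intro x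
      refine ⟨1, ?_⟩
      apply Subtype.ext
      simp only [pow_one, Subgroup.coe_pow, Subgroup.coe_one]
      exact x.2.2
    exact (IsPGroup.iff_card.mp hK)

/-- the key counting inequality -/
theorem card_mul_le {G : Type*} [Group G] [Finite G] (K : Subgroup G) [K.Normal] (p : ℕ)
    (hK : ∀ x ∈ K, x ^ p = 1) (n₁ n : ℕ) (hn : n₁ * p ∣ n) :
    Nat.card {y : G ⧸ K // y ^ n₁ = 1} * Nat.card K ≤ Nat.card {x : G // x ^ n = 1} := by
  rw [← Nat.card_prod]
  have hmem : ∀ (y : {y : G ⧸ K // y ^ n₁ = 1}) (k : K), (Quotient.out y.1 * (k : G)) ^ n = 1 := by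
    intro y k
    obtain ⟨d, rfl⟩ := hn
    have h1 : ((Quotient.out y.1 * (k : G)) ^ n₁) ∈ K := by
      rw [← QuotientGroup.eq_one_iff, QuotientGroup.mk_pow, QuotientGroup.mk_mul,
        (QuotientGroup.eq_one_iff (k : G)).mpr k.2, mul_one]
      have : (QuotientGroup.mk (Quotient.out y.1) : G ⧸ K) = y.1 := Quotient.out_eq' y.1
      rw [this]
      exact y.2
    rw [pow_mul, pow_mul, hK _ h1, one_pow]
  apply Nat.card_le_card_of_injective
    (fun yk : {y : G ⧸ K // y ^ n₁ = 1} × K =>
      (⟨Quotient.out yk.1.1 * (yk.2 : G), hmem yk.1 yk.2⟩ : {x : G // x ^ n = 1}))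
  rintro ⟨y, k⟩ ⟨y', k'⟩ h
  have h1 : Quotient.out y.1 * (k : G) = Quotient.out y'.1 * (k' : G) := congrArg Subtype.val h
  have h2 : y.1 = y'.1 := by
    have := congrArg (QuotientGroup.mk : G → G ⧸ K) h1
    rw [QuotientGroup.mk_mul, QuotientGroup.mk_mul, (QuotientGroup.eq_one_iff (k : G)).mpr k.2,
      (QuotientGroup.eq_one_iff (k' : G)).mpr k'.2, mul_one, mul_one] at this
    have e1 : (QuotientGroup.mk (Quotient.out y.1) : G ⧸ K) = y.1 := Quotient.out_eq' y.1
    have e2 : (QuotientGroup.mk (Quotient.out y'.1) : G ⧸ K) = y'.1 := Quotient.out_eq' y'.1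
    rw [e1, e2] at this
    exact this
  have h3 : y = y' := Subtype.ext h2
  subst h3
  have h4 : (k : G) = k' := mul_left_cancel h1
  rw [Subtype.ext h4]

/-- when equality holds, every solution of `x ^ n = 1` maps to a solution of `y ^ n₁ = 1` -/
theorem mk_pow_eq_one_of_card_eq {G : Type*} [Group G] [Finite G] (K : Subgroup G) [K.Normal] (p : ℕ)
    (hK : ∀ x ∈ K, x ^ p = 1) (n₁ n : ℕ) (hn : n₁ * p ∣ n)
    (hcard : Nat.card {y : G ⧸ K // y ^ n₁ = 1} * Nat.card K = Nat.card {x : G // x ^ n = 1})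
    (x : G) (hx : x ^ n = 1) : (QuotientGroup.mk x : G ⧸ K) ^ n₁ = 1 := by
  rw [← Nat.card_prod] at hcard
  have hmem : ∀ (y : {y : G ⧸ K // y ^ n₁ = 1}) (k : K), (Quotient.out y.1 * (k : G)) ^ n = 1 := by
    intro y k
    obtain ⟨d, rfl⟩ := hn
    have h1 : ((Quotient.out y.1 * (k : G)) ^ n₁) ∈ K := by
      rw [← QuotientGroup.eq_one_iff, QuotientGroup.mk_pow, QuotientGroup.mk_mul,
        (QuotientGroup.eq_one_iff (k : G)).mpr k.2, mul_one]
      have : (QuotientGroup.mk (Quotient.out y.1) : G ⧸ K) = y.1 := Quotient.out_eq' y.1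
      rw [this]
      exact y.2
    rw [pow_mul, pow_mul, hK _ h1, one_pow]
  let φ : {y : G ⧸ K // y ^ n₁ = 1} × K → {x : G // x ^ n = 1} :=
    fun yk => ⟨Quotient.out yk.1.1 * (yk.2 : G), hmem yk.1 yk.2⟩
  have hinj : Function.Injective φ := by
    rintro ⟨y, k⟩ ⟨y', k'⟩ h
    have h1 : Quotient.out y.1 * (k : G) = Quotient.out y'.1 * (k' : G) := congrArg Subtype.val h
    have h2 : y.1 = y'.1 := by
      have := congrArg (QuotientGroup.mk : G → G ⧸ K) h1
      rw [QuotientGroup.mk_mul, QuotientGroup.mk_mul, (QuotientGroup.eq_one_iff (k : G)).mpr k.2,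
        (QuotientGroup.eq_one_iff (k' : G)).mpr k'.2, mul_one, mul_one] at this
      have e1 : (QuotientGroup.mk (Quotient.out y.1) : G ⧸ K) = y.1 := Quotient.out_eq' y.1
      have e2 : (QuotientGroup.mk (Quotient.out y'.1) : G ⧸ K) = y'.1 := Quotient.out_eq' y'.1
      rw [e1, e2] at this
      exact this
    have h3 : y = y' := Subtype.ext h2
    subst h3
    have h4 : (k : G) = k' := mul_left_cancel h1
    rw [Subtype.ext h4]
  have hbij : Function.Bijective φ := (Nat.bijective_iff_injective_and_card φ).mpr ⟨hinj, hcard⟩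
  obtain ⟨⟨y, k⟩, hyk⟩ := hbij.2 ⟨x, hx⟩
  have h1 : Quotient.out y.1 * (k : G) = x := congrArg Subtype.val hyk
  rw [← h1, QuotientGroup.mk_mul, (QuotientGroup.eq_one_iff (k : G)).mpr k.2, mul_one]
  have e1 : (QuotientGroup.mk (Quotient.out y.1) : G ⧸ K) = y.1 := Quotient.out_eq' y.1
  rw [e1]
  exact y.2

/-- in the coprime case, solutions lift -/
theorem card_quot_le_of_coprime {G : Type*} [Group G] [Finite G] (K : Subgroup G) [K.Normal] (p : ℕ)
    (hK : ∀ x ∈ K, x ^ p = 1) (n : ℕ) (hcop : Nat.Coprime n p) :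
    Nat.card {y : G ⧸ K // y ^ n = 1} ≤ Nat.card {x : G // x ^ n = 1} := by
  -- c ≡ 1 mod n, c ≡ 0 mod p
  obtain ⟨c, hc1, hc0⟩ := Nat.chineseRemainder hcop 1 0
  have hpc : p ∣ c := (Nat.modEq_zero_iff_dvd).mp hc0
  obtain ⟨c', rfl⟩ := hpc
  have hmem : ∀ (y : {y : G ⧸ K // y ^ n = 1}), ((Quotient.out y.1) ^ (p * c')) ^ n = 1 := by
    intro y
    have h1 : (Quotient.out y.1) ^ n ∈ K := by
      rw [← QuotientGroup.eq_one_iff, QuotientGroup.mk_pow]
      have : (QuotientGroup.mk (Quotient.out y.1) : G ⧸ K) = y.1 := Quotient.out_eq' y.1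
      rw [this]
      exact y.2
    have h2 := hK _ h1
    calc ((Quotient.out y.1) ^ (p * c')) ^ n = (((Quotient.out y.1) ^ n) ^ p) ^ c' := by
          rw [← pow_mul, ← pow_mul, ← pow_mul]; congr 1; ring
      _ = 1 := by rw [h2, one_pow]
  apply Nat.card_le_card_of_injective
    (fun y : {y : G ⧸ K // y ^ n = 1} => (⟨(Quotient.out y.1) ^ (p * c'), hmem y⟩ : {x : G // x ^ n = 1}))
  intro y y' h
  have h1 : (Quotient.out y.1) ^ (p * c') = (Quotient.out y'.1) ^ (p * c') := congrArg Subtype.val h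
  have h2 := congrArg (QuotientGroup.mk : G → G ⧸ K) h1
  rw [QuotientGroup.mk_pow, QuotientGroup.mk_pow] at h2
  have e1 : (QuotientGroup.mk (Quotient.out y.1) : G ⧸ K) = y.1 := Quotient.out_eq' y.1
  have e2 : (QuotientGroup.mk (Quotient.out y'.1) : G ⧸ K) = y'.1 := Quotient.out_eq' y'.1
  rw [e1, e2] at h2
  have key : ∀ z : G ⧸ K, z ^ n = 1 → z ^ (p * c') = z := by
    intro z hz
    have h3 : p * c' ≡ 1 [MOD orderOf z] := hc1.of_dvd (orderOf_dvd_of_pow_eq_one hz)
    have := (pow_eq_pow_iff_modEq (x := z)).mpr h3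
    rwa [pow_one] at this
  rw [key y.1 y.2, key y'.1 y'.2] at h2
  exact Subtype.ext h2

theorem main : ∀ (N : ℕ) (G : Type u) [Group G] [Finite G] [Group.IsSolvable G], Nat.card G = N →
    ∀ n : ℕ, n ∣ Nat.card G → Nat.card {x : G // x ^ n = 1} = n →
      ∃ H : Subgroup G, H.Normal ∧ (H : Set G) = {x : G | x ^ n = 1} := by
  intro N
  induction N using Nat.strong_induction_on with
  | _ N ih =>
  intro G _ _ _ hN n hn hcount
  have hnpos : 0 < n := Nat.pos_of_dvd_of_pos hn Nat.card_pos
  by_cases htriv : Subsingleton G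
  · refine ⟨⊤, inferInstance, ?_⟩
    ext x
    simp only [Subgroup.coe_top, Set.mem_univ, Set.mem_setOf_eq, true_iff]
    rw [Subsingleton.elim x 1, one_pow]
  rw [not_subsingleton_iff_nontrivial] at htriv
  obtain ⟨p, K, hp, hKn, hKne, hKexp, i, hKcard⟩ := exists_normal_elemAb (G := G)
  haveI := hKn
  have hi : 0 < i := by
    rcases Nat.eq_zero_or_pos i with h0 | h0
    · exfalso
      rw [h0, pow_zero] at hKcard
      exact hKne (Subgroup.card_eq_one.mp hKcard)
    · exact h0
  have hcardG : Nat.card G = Nat.card (G ⧸ K) * p ^ i := by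
    rw [← hKcard]; exact Subgroup.card_eq_card_quotient_mul_card_subgroup K
  have hlt : Nat.card (G ⧸ K) < N := by
    rw [← hN, hcardG]
    have : 1 < p ^ i := Nat.one_lt_pow hi.ne' hp.one_lt
    have hpos : 0 < Nat.card (G ⧸ K) := Nat.card_pos
    nlinarith
  have hfrob : ∀ m : ℕ, m ∣ Nat.card (G ⧸ K) → m ≤ Nat.card {y : G ⧸ K // y ^ m = 1} := by
    intro m hm
    apply Nat.le_of_dvd
    · haveI : Nonempty {y : G ⧸ K // y ^ m = 1} := ⟨⟨1, one_pow _⟩⟩
      exact Nat.card_pos
    · exact Cfsg.Agent.Helper75.frobenius_dvd m hm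
  by_cases hpn : p ∣ n
  · -- Case II
    -- n = p^a * m
    obtain ⟨a, m, hm, hnam⟩ := Nat.exists_eq_pow_mul_and_not_dvd hnpos.ne' p hp.ne_one
    have ha : 0 < a := by
      rcases Nat.eq_zero_or_pos a with h0 | h0
      · exfalso
        rw [h0, pow_zero, one_mul] at hnam
        exact hm (hnam ▸ hpn)
      · exact h0
    have hmcop : Nat.Coprime m p := ((Nat.Prime.coprime_iff_not_dvd hp).mpr hm).symm
    -- step 1: i ≤ a
    have hia : i ≤ a := by
      have hmdvd : m ∣ Nat.card (G ⧸ K) := by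
        have h1 : m ∣ Nat.card (G ⧸ K) * p ^ i := by
          rw [← hcardG]; exact (Dvd.intro_left _ hnam.symm).trans hn
        exact (Nat.Coprime.dvd_of_dvd_mul_right (hmcop.pow_right i) h1)
      have h2 := card_mul_le K p hKexp m n (by
        rw [hnam]
        obtain ⟨a', rfl⟩ : ∃ a', a = a' + 1 := ⟨a - 1, by omega⟩
        exact ⟨p ^ a', by ring⟩)
      rw [hcount, hKcard] at h2
      have h3 := hfrob m hmdvd
      have h4 : m * p ^ i ≤ p ^ a * m := by
        calc m * p ^ i ≤ Nat.card {y : G ⧸ K // y ^ m = 1} * p ^ i := Nat.mul_le_mul_right _ h3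
          _ ≤ n := h2
          _ = p ^ a * m := hnam
      have hmpos : 0 < m := by
        rcases Nat.eq_zero_or_pos m with h0 | h0
        · exfalso; rw [h0, mul_zero] at hnam; omega
        · exact h0
      have h5 : p ^ i ≤ p ^ a := by
        rw [mul_comm] at h4
        exact Nat.le_of_mul_le_mul_right h4 hmpos
      exact (Nat.pow_le_pow_iff_right hp.one_lt).mp h5
    -- step 2
    set n₁ := p ^ (a - i) * m with hn₁
    have hnn₁ : n = n₁ * p ^ i := by
      rw [hnam, hn₁]
      have : p ^ a = p ^ (a - i) * p ^ i := by rw [← pow_add]; congr 1; omega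
      rw [this]; ring
    have hn₁dvd : n₁ ∣ Nat.card (G ⧸ K) := by
      have h1 : n₁ * p ^ i ∣ Nat.card (G ⧸ K) * p ^ i := by rw [← hnn₁, ← hcardG]; exact hn
      exact Nat.dvd_of_mul_dvd_mul_right (pow_pos hp.pos i) h1
    have hn₁p : n₁ * p ∣ n := by
      rw [hnn₁]
      obtain ⟨i', rfl⟩ : ∃ i', i = i' + 1 := ⟨i - 1, by omega⟩
      exact ⟨p ^ i', by ring⟩
    have h2 := card_mul_le K p hKexp n₁ n hn₁p
    have h3 := hfrob n₁ hn₁dvd
    have hcard₁ : Nat.card {y : G ⧸ K // y ^ n₁ = 1} = n₁ := by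
      apply le_antisymm _ h3
      rw [hcount, hKcard, hnn₁] at h2
      exact Nat.le_of_mul_le_mul_right h2 (pow_pos hp.pos i)
    obtain ⟨Hq, hHqn, hHq⟩ := ih (Nat.card (G ⧸ K)) hlt (G ⧸ K) rfl n₁ hn₁dvd hcard₁
    haveI := hHqn
    refine ⟨Hq.comap (QuotientGroup.mk' K), inferInstance, ?_⟩
    ext x
    simp only [Subgroup.coe_comap, Set.mem_preimage, QuotientGroup.mk'_apply, Set.mem_setOf_eq]
    rw [hHq, Set.mem_setOf_eq]
    constructor
    · intro hx
      -- x^{n₁} ∈ K so x^{n₁ p} = 1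
      have h1 : x ^ n₁ ∈ K := by
        rw [← QuotientGroup.eq_one_iff, QuotientGroup.mk_pow]; exact hx
      obtain ⟨d, hd⟩ := hn₁p
      rw [hd, pow_mul, pow_mul, hKexp _ h1, one_pow]
    · intro hx
      exact mk_pow_eq_one_of_card_eq K p hKexp n₁ n hn₁p
        (by rw [hcard₁, hKcard, hcount, hnn₁]) x hx
  · -- Case I
    have hcop : Nat.Coprime n p := ((Nat.Prime.coprime_iff_not_dvd hp).mpr hpn).symm
    have hndvd : n ∣ Nat.card (G ⧸ K) := by
      have h1 : n ∣ Nat.card (G ⧸ K) * p ^ i := by rw [← hcardG]; exact hn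
      exact Nat.Coprime.dvd_of_dvd_mul_right (hcop.pow_right i) h1
    have hcard₁ : Nat.card {y : G ⧸ K // y ^ n = 1} = n := by
      apply le_antisymm _ (hfrob n hndvd)
      have := card_quot_le_of_coprime K p hKexp n hcop
      rw [hcount] at this
      exact this
    obtain ⟨Hq, hHqn, hHqn'⟩ := ih (Nat.card (G ⧸ K)) hlt (G ⧸ K) rfl n hndvd hcard₁
    haveI := hHqn
    set H := Hq.comap (QuotientGroup.mk' K) with hH
    have hKH : K ≤ H := by
      intro k hk
      rw [hH, Subgroup.mem_comap, QuotientGroup.mk'_apply, (QuotientGroup.eq_one_iff k).mpr hk]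
      exact Hq.one_mem
    have hHqcard : Nat.card Hq = n := by
      rw [← hcard₁]
      have : (Hq : Set (G ⧸ K)) = {y | y ^ n = 1} := hHqn'
      exact Nat.card_congr (Equiv.setCongr this)
    -- |H| = n * p^i
    have hHcard : Nat.card H = n * p ^ i := by
      have h1 : H.index = Hq.index :=
        Subgroup.index_comap_of_surjective Hq (QuotientGroup.mk'_surjective K)
      have h2 := H.card_mul_index
      have h3 := Hq.card_mul_index
      have hpos : 0 < Hq.index := Nat.pos_of_ne_zero Subgroup.index_ne_zero_of_finite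
      rw [h1] at h2
      apply Nat.eq_of_mul_eq_mul_right hpos
      rw [h2, hcardG, ← h3, hHqcard]
      ring
    -- Schur–Zassenhaus inside H
    haveI : (K.subgroupOf H).Normal := inferInstance
    have hK'card : Nat.card (K.subgroupOf H) = p ^ i := by
      rw [← hKcard]
      exact Nat.card_congr (Subgroup.subgroupOfEquivOfLe hKH).toEquiv
    have hK'index : (K.subgroupOf H).index = n := by
      have h1 := (K.subgroupOf H).card_mul_index
      rw [hK'card, hHcard, mul_comm] at h1
      exact Nat.eq_of_mul_eq_mul_right (pow_pos hp.pos i) h1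
    obtain ⟨Q', hQ'⟩ := Subgroup.exists_right_complement'_of_coprime (N := K.subgroupOf H)
      (by rw [hK'card, hK'index]; exact (hcop.pow_right i).symm)
    have hQ'card : Nat.card Q' = n := by
      have h1 := hQ'.card_mul_card
      rw [hK'card, hHcard, mul_comm] at h1
      exact Nat.eq_of_mul_eq_mul_right (pow_pos hp.pos i) h1
    set Q := Q'.map H.subtype with hQ
    have hQcard : Nat.card Q = n := by
      rw [← hQ'card]
      exact (Nat.card_congr (Q'.equivMapOfInjective H.subtype H.subtype_injective).toEquiv).symm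
    have hQsub : ∀ x ∈ Q, x ^ n = 1 := by
      intro x hx
      have : (⟨x, hx⟩ : Q) ^ Nat.card Q = 1 := pow_card_eq_one'
      rw [hQcard] at this
      have := congrArg Subtype.val this
      simpa using this
    -- the inclusion Q → L_n is a bijection
    let ι : Q → {x : G // x ^ n = 1} := fun x => ⟨x.1, hQsub x.1 x.2⟩
    have hιinj : Function.Injective ι := by
      intro x y h
      have : (ι x).1 = (ι y).1 := congrArg Subtype.val h
      exact Subtype.ext this
    have hιbij : Function.Bijective ι :=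
      (Nat.bijective_iff_injective_and_card ι).mpr ⟨hιinj, by rw [hQcard, hcount]⟩
    have hQset : (Q : Set G) = {x : G | x ^ n = 1} := by
      ext x
      constructor
      · intro hx
        exact hQsub x hx
      · intro hx
        obtain ⟨y, hy⟩ := hιbij.2 ⟨x, hx⟩
        have : (y : G) = x := congrArg Subtype.val hy
        rw [← this]
        exact y.2
    refine ⟨Q, ?_, hQset⟩
    constructor
    intro x hx g
    have h1 : x ^ n = 1 := by
      have : x ∈ (Q : Set G) := hx
      rw [hQset] at this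
      exact this
    have h2 : g * x * g⁻¹ ∈ (Q : Set G) := by
      rw [hQset]
      show (g * x * g⁻¹) ^ n = 1
      rw [conj_pow, h1, mul_one, mul_inv_cancel]
    exact h2

/-- If `G` is a finite solvable group and `n` divides the order of `G` and exactly `n` elements `x` of `G` satisfy `x^n = 1`, then these elements form a normal subgroup. -/
theorem result {G : Type*} [Group G] [Finite G] [Group.IsSolvable G] (n : ℕ) (hn : n ∣ Nat.card G) (hcount : Nat.card {x : G // x ^ n = 1} = n) : ∃ H : Subgroup G, H.Normal ∧ (H : Set G) = {x : G | x ^ n = 1} :=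
  main (Nat.card G) G rfl n hn hcount

end Cfsg.Agent.S4213
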