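import Cfsg.Statements.S4219

set_option autoImplicit false
open Cfsg

namespace Cfsg.Agent.S4219

/-- An element conjugating a finite subgroup into itself normalizes it. -/
theorem mem_normalizer_of_conj_mem {G : Type*} [Group G] (Q : Subgroup G) [Finite Q] (n : G)
    (h : ∀ y ∈ Q, n⁻¹ * y * n ∈ Q) : n ∈ Subgroup.normalizer (Q : Set G) := by
  let f : Q → Q := fun y => ⟨n⁻¹ * y.1 * n, h y.1 y.2⟩
  have hinj : Function.Injective f := by
    intro a b hab
    have := congrArg Subtype.val hab
    simp only [f, mul_left_inj, mul_right_inj] at this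
    exact Subtype.ext this
  have hsurj : Function.Surjective f := Finite.injective_iff_surjective.mp hinj
  rw [Subgroup.mem_normalizer_iff]
  intro y
  constructor
  · intro hy
    obtain ⟨z, hz⟩ := hsurj ⟨y, hy⟩
    have h1 : n⁻¹ * z.1 * n = y := congrArg Subtype.val hz
    have : n * y * n⁻¹ = z.1 := by rw [← h1]; group
    rw [this]
    exact z.2
  · intro hy
    have := h _ hy
    have e : n⁻¹ * (n * y * n⁻¹) * n = y := by group
    rwa [e] at this

variable {G : Type*} [Group G] [Finite G] {α : Type*} [MulAction G α] {t : ℕ}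

theorem witt (hG : MulAction.IsMultiplyPretransitive G α t) (x : Fin t ↪ α) {p : ℕ} [Fact p.Prime]
    (H : Subgroup G) (hH : H = MulAction.stabilizer G x)
    (P : Sylow p H) (a : Fin t ↪ α)
    (ha : ∀ i, a i ∈ MulAction.fixedPoints ((P : Subgroup H).map H.subtype) α) :
    ∃ n ∈ Subgroup.normalizer ((((P : Subgroup H).map H.subtype) : Subgroup G) : Set G), n • x = a := by
  obtain ⟨g, hg⟩ := MulAction.exists_smul_eq G x a
  -- elements of Q fix a
  have hQa : ∀ y ∈ (P : Subgroup H).map H.subtype, y • a = a := by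
    intro y hy
    ext i
    rw [Function.Embedding.smul_apply]
    exact ha i ⟨y, hy⟩
  -- conjugating Q by g⁻¹ lands in H
  have hconjH : ∀ y ∈ (P : Subgroup H).map H.subtype, g⁻¹ * y * g ∈ H := by
    intro y hy
    rw [hH, MulAction.mem_stabilizer_iff, mul_smul, mul_smul, hg, hQa y hy, ← hg, inv_smul_smul]
  -- the p-subgroup R of H
  let φ : H →* G := (MulAut.conj g).toMonoidHom.comp H.subtype
  have hφ : Function.Injective φ := by
    intro u v huv
    have : g * (u : G) * g⁻¹ = g * (v : G) * g⁻¹ := huv
    simp only [mul_left_inj, mul_right_inj] at this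
    exact Subtype.ext this
  have hQp : IsPGroup p ((P : Subgroup H).map H.subtype) := P.isPGroup'.map H.subtype
  have hR : IsPGroup p (((P : Subgroup H).map H.subtype).comap φ) := hQp.comap_of_injective φ hφ
  obtain ⟨S, hS⟩ := hR.exists_le_sylow
  obtain ⟨h, hh⟩ := MulAction.exists_smul_eq H P S
  refine ⟨g * (h : G), ?_, ?_⟩
  · apply mem_normalizer_of_conj_mem
    intro y hy
    have hu : (⟨g⁻¹ * y * g, hconjH y hy⟩ : H) ∈ ((P : Subgroup H).map H.subtype).comap φ := by
      rw [Subgroup.mem_comap]
      show g * (g⁻¹ * y * g) * g⁻¹ ∈ (P : Subgroup H).map H.subtype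
      have : g * (g⁻¹ * y * g) * g⁻¹ = y := by group
      rw [this]; exact hy
    have h2 := hS hu
    rw [← hh, Sylow.coe_subgroup_smul, Subgroup.mem_pointwise_smul_iff_inv_smul_mem] at h2
    simp only [MulAut.smul_def, MulAut.conj_inv_apply] at h2
    have h3 := Subgroup.mem_map_of_mem H.subtype h2
    have e : H.subtype (h⁻¹ * ⟨g⁻¹ * y * g, hconjH y hy⟩ * h) = (g * (h : G))⁻¹ * y * (g * (h : G)) := by
      simp only [Subgroup.subtype_apply, Subgroup.coe_mul, Subgroup.coe_inv]
      group
    rw [e] at h3
    exact h3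
  · rw [mul_smul]
    have : (h : G) • x = x := by
      have h1 : (h : G) ∈ H := h.2
      have h2 : (h : G) ∈ MulAction.stabilizer G x := hH ▸ h1
      exact h2
    rw [this, hg]

/-- Let a finite group `G` act `t`-fold transitively on a finite set, let `H` be the stabilizer of `t` distinct points and `P` a Sylow `p`-subgroup of `H`. Then the normalizer of `P` in `G` is `t`-fold transitive on the fixed points of `P`: any `t` distinct fixed points of `P` can be carried to any other `t` distinct fixed points of `P` by an element normalizing `P`. -/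
theorem result {G : Type*} [Group G] [Finite G] {α : Type*} [Fintype α] [MulAction G α] {t : ℕ} (hG : MulAction.IsMultiplyPretransitive G α t) (x : Fin t ↪ α) {p : ℕ} [Fact p.Prime] (P : Sylow p (MulAction.stabilizer G x)) (a b : Fin t ↪ α) (ha : ∀ i, a i ∈ MulAction.fixedPoints ((P : Subgroup (MulAction.stabilizer G x)).map (MulAction.stabilizer G x).subtype) α) (hb : ∀ i, b i ∈ MulAction.fixedPoints ((P : Subgroup (MulAction.stabilizer G x)).map (MulAction.stabilizer G x).subtype) α) : ∃ g ∈ Subgroup.normalizer ((((P : Subgroup (MulAction.stabilizer G x)).map (MulAction.stabilizer G x).subtype) : Subgroup G) : Set G), g • a = b := by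
  obtain ⟨n₁, hn₁, h₁⟩ := witt hG x _ rfl P a ha
  obtain ⟨n₂, hn₂, h₂⟩ := witt hG x _ rfl P b hb
  refine ⟨n₂ * n₁⁻¹, Subgroup.mul_mem _ hn₂ (Subgroup.inv_mem _ hn₁), ?_⟩
  rw [mul_smul, ← h₁, inv_smul_smul, h₂]

end Cfsg.Agent.S4219
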