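import Cfsg.Statements.S4224
import Cfsg.Agent.Helper70.Regular

set_option autoImplicit false
open Cfsg

namespace Cfsg.Agent.S4224

/-- In a regular `p`-group, for all elements `a`, `b` and every power `q = p^k`: `a^q` commutes with `b` if and only if the commutator `a⁻¹b⁻¹ab` has `q`-th power equal to `1`. -/
theorem result {G : Type*} [Group G] [Finite G] {p : ℕ} [Fact p.Prime] (hG : Cfsg.IsRegularPGroup p G) (a b : G) (k : ℕ) : a ^ p ^ k * b = b * a ^ p ^ k ↔ (a⁻¹ * b⁻¹ * a * b) ^ p ^ k = 1 := by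
  have hA := Cfsg.Agent.Helper70.pow_eq_iff_of_SProp hG
    (Cfsg.Agent.Helper70.sProp_of_regular p (Nat.card G) G rfl hG) (b⁻¹ * a * b) a k
  -- (b⁻¹ a b)^q = b⁻¹ a^q b
  have e1 : (b⁻¹ * a * b) ^ p ^ k = b⁻¹ * a ^ p ^ k * b := by
    have e : b⁻¹ * a * b = b⁻¹ * a * (b⁻¹)⁻¹ := by rw [inv_inv]
    rw [e, conj_pow, inv_inv]
  -- a⁻¹ (b⁻¹ a b a⁻¹) a = a⁻¹ b⁻¹ a b
  have e2 : (a⁻¹ * b⁻¹ * a * b) ^ p ^ k = a⁻¹ * (b⁻¹ * a * b * a⁻¹) ^ p ^ k * a := by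
    have e : a⁻¹ * b⁻¹ * a * b = a⁻¹ * (b⁻¹ * a * b * a⁻¹) * (a⁻¹)⁻¹ := by group
    rw [e, conj_pow, inv_inv]
  rw [e1] at hA
  constructor
  · intro h
    have h1 : b⁻¹ * a ^ p ^ k * b = a ^ p ^ k := by
      rw [mul_assoc, h, inv_mul_cancel_left]
    rw [e2, hA.mp h1, mul_one, inv_mul_cancel]
  · intro h
    have h1 : (b⁻¹ * a * b * a⁻¹) ^ p ^ k = 1 := by
      rw [e2] at h
      have : (b⁻¹ * a * b * a⁻¹) ^ p ^ k = a * (a⁻¹ * (b⁻¹ * a * b * a⁻¹) ^ p ^ k * a) * a⁻¹ := by group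
      rw [this, h]
      group
    have h2 := hA.mpr h1
    calc a ^ p ^ k * b = b * (b⁻¹ * a ^ p ^ k * b) := by group
      _ = b * a ^ p ^ k := by rw [h2]

end Cfsg.Agent.S4224
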