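import Cfsg.Statements.S4227
import Cfsg.Agent.Lib.BurnsidePQ
import Cfsg.Agent.Lib.Cores
import Cfsg.Agent.Helper11.PLength
import Cfsg.Agent.Helper70.FrattiniAction
import Cfsg.Agent.Helper70.PSolvable

set_option autoImplicit false
open Cfsg

namespace Cfsg.Agent.S4227

open Cfsg.Agent.Helper70 Cfsg.Agent.Lib Cfsg.Agent.Helper11

theorem pow_eq_one_of_coprime {X : Type*} [Group X] (x : X) (a b k : ℕ) (hab : Nat.Coprime a b)
    (hx : x ^ (a * b) = 1) (hk : x ^ b ^ k = 1) : x ^ b = 1 := by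
  have h1 : orderOf x ∣ Nat.gcd (a * b) (b ^ k) :=
    Nat.dvd_gcd (orderOf_dvd_of_pow_eq_one hx) (orderOf_dvd_of_pow_eq_one hk)
  rw [Nat.Coprime.gcd_mul_left_cancel b (Nat.Coprime.pow_right k hab)] at h1
  exact orderOf_dvd_iff_pow_eq_one.mp (h1.trans (Nat.gcd_dvd_left _ _))

theorem sq_eq_one_of_exp6 {X : Type*} [Group X] (hexp : ∀ x : X, x ^ 6 = 1) (x : X) (k : ℕ)
    (hk : x ^ 2 ^ k = 1) : x ^ 2 = 1 :=
  pow_eq_one_of_coprime x 3 2 k (by norm_num) (hexp x) hk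

theorem cube_eq_one_of_exp6 {X : Type*} [Group X] (hexp : ∀ x : X, x ^ 6 = 1) (x : X) (k : ℕ)
    (hk : x ^ 3 ^ k = 1) : x ^ 3 = 1 :=
  pow_eq_one_of_coprime x 2 3 k (by norm_num) (hexp x) hk

/-- `O_p(X / O_p(X)) = 1` -/
theorem pCore_quotient_pCore {X : Type*} [Group X] (p : ℕ) : pCore p (X ⧸ pCore p X) = ⊥ := by
  have h1 : IsPGroup p ((pCore p (X ⧸ pCore p X)).comap (QuotientGroup.mk' (pCore p X))) := by
    apply IsPGroup.comap_of_ker_isPGroup (isPGroup_pCore p)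
    rw [QuotientGroup.ker_mk']
    exact isPGroup_pCore p
  have h2 : (pCore p (X ⧸ pCore p X)).comap (QuotientGroup.mk' (pCore p X)) ≤ pCore p X :=
    le_pCore inferInstance h1
  rw [eq_bot_iff]
  intro y hy
  obtain ⟨x, rfl⟩ := QuotientGroup.mk_surjective y
  rw [Subgroup.mem_bot, QuotientGroup.eq_one_iff]
  exact h2 hy

/-- The heart of the matter: in a finite solvable group `X` of exponent dividing `6` in which
`Q = O_3(X)` contains its centralizer, `X / Q` is a `2`-group. -/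
theorem core {X : Type*} [Group X] [Finite X] [Group.IsSolvable X] (hexp : ∀ x : X, x ^ 6 = 1)
    (hC : Subgroup.centralizer (pCore 3 X : Set X) ≤ pCore 3 X) : ¬ 3 ∣ (pCore 3 X).index := by
  intro hdvd
  haveI : Fact (Nat.Prime 2) := ⟨Nat.prime_two⟩
  haveI : Fact (Nat.Prime 3) := ⟨Nat.prime_three⟩
  have hO3 : pCore 3 (X ⧸ pCore 3 X) = ⊥ := pCore_quotient_pCore 3
  obtain ⟨Q, hQdef⟩ : ∃ Q : Subgroup X, Q = pCore 3 X := ⟨_, rfl⟩
  haveI hQn : Q.Normal := by rw [hQdef]; infer_instance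
  have hQ3 : IsPGroup 3 Q := by rw [hQdef]; exact isPGroup_pCore 3
  rw [← hQdef] at hC hdvd
  have hexpY : ∀ y : X ⧸ Q, y ^ 6 = 1 := by
    intro y
    obtain ⟨x, rfl⟩ := QuotientGroup.mk_surjective y
    rw [← QuotientGroup.mk_pow, hexp]
    rfl
  have hO3' : pCore 3 (X ⧸ Q) = ⊥ := by
    subst hQdef; exact hO3
  have hO2' : pPrimeCore 2 (X ⧸ Q) = ⊥ := by
    rw [eq_bot_iff, ← hO3']
    apply le_pCore inferInstance
    rintro ⟨a, ha⟩
    refine ⟨1, Subtype.ext ?_⟩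
    have hcop := card_pPrimeCore_coprime (G := X ⧸ Q) 2
    have h1 : orderOf a ∣ Nat.card (pPrimeCore 2 (X ⧸ Q)) := by
      have := orderOf_dvd_natCard (⟨a, ha⟩ : pPrimeCore 2 (X ⧸ Q))
      rwa [Subgroup.orderOf_mk] at this
    have h2 : orderOf a ∣ 2 * 3 := orderOf_dvd_of_pow_eq_one (hexpY a)
    have h3 : Nat.Coprime (orderOf a) 2 := Nat.Coprime.coprime_dvd_left h1 hcop
    have h4 : orderOf a ∣ 3 := h3.dvd_of_dvd_mul_left h2
    show a ^ 3 ^ 1 = 1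
    rw [pow_one]
    exact orderOf_dvd_iff_pow_eq_one.mp h4
  have hT : Subgroup.centralizer (pCore 2 (X ⧸ Q) : Set (X ⧸ Q)) ≤ pCore 2 (X ⧸ Q) :=
    centralizer_pCore_le_of_isPSolvable (isPSolvable_of_isSolvable 2) hO2'
  -- properties of `T = O_2(X/Q)`
  have hT2 : ∀ a ∈ pCore 2 (X ⧸ Q), a ^ 2 = 1 := by
    intro a ha
    obtain ⟨k, hk⟩ := (isPGroup_pCore 2 : IsPGroup 2 (pCore 2 (X ⧸ Q))) ⟨a, ha⟩
    exact sq_eq_one_of_exp6 hexpY a k (by simpa using congrArg Subtype.val hk)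
  have hTinv : ∀ a ∈ pCore 2 (X ⧸ Q), a⁻¹ = a := by
    intro a ha
    rw [inv_eq_iff_mul_eq_one, ← pow_two]
    exact hT2 a ha
  have hTcomm : ∀ a ∈ pCore 2 (X ⧸ Q), ∀ b ∈ pCore 2 (X ⧸ Q), a * b = b * a := by
    intro a ha b hb
    have h1 := hTinv _ (Subgroup.mul_mem _ ha hb)
    rw [mul_inv_rev, hTinv a ha, hTinv b hb] at h1
    exact h1.symm
  -- an element of order `3`
  have hcardY : 3 ∣ Nat.card (X ⧸ Q) := by rw [← Subgroup.index_eq_card]; exact hdvd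
  obtain ⟨y₀, hy₀⟩ := exists_prime_orderOf_dvd_card' 3 hcardY
  have hy₀3 : y₀ ^ 3 = 1 := by rw [← hy₀]; exact pow_orderOf_eq_one y₀
  have hy₀T : y₀ ∉ pCore 2 (X ⧸ Q) := by
    intro h
    have h1 := hT2 y₀ h
    have h2 : orderOf y₀ ∣ 2 := orderOf_dvd_of_pow_eq_one h1
    rw [hy₀] at h2
    norm_num at h2
  have hy₀C : y₀ ∉ Subgroup.centralizer (pCore 2 (X ⧸ Q) : Set (X ⧸ Q)) := fun h => hy₀T (hT h)
  rw [Subgroup.mem_centralizer_iff] at hy₀C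
  push Not at hy₀C
  obtain ⟨t, ht, hty⟩ := hy₀C
  have hTn : (pCore 2 (X ⧸ Q)).Normal := inferInstance
  obtain ⟨t₁, ht₁def⟩ : ∃ t₁, t₁ = y₀ * t * y₀⁻¹ := ⟨_, rfl⟩
  obtain ⟨t₂, ht₂def⟩ : ∃ t₂, t₂ = y₀ * t₁ * y₀⁻¹ := ⟨_, rfl⟩
  have ht₁ : t₁ ∈ pCore 2 (X ⧸ Q) := by rw [ht₁def]; exact hTn.conj_mem t ht y₀
  have ht₂ : t₂ ∈ pCore 2 (X ⧸ Q) := by rw [ht₂def]; exact hTn.conj_mem t₁ ht₁ y₀
  have hy₀inv : y₀⁻¹ = y₀ * y₀ := by
    rw [inv_eq_iff_mul_eq_one, ← mul_assoc, ← pow_two, ← pow_succ]; exact hy₀3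
  have ht₀ : y₀ * t₂ * y₀⁻¹ = t := by
    rw [ht₂def, ht₁def]
    have : y₀ * (y₀ * (y₀ * t * y₀⁻¹) * y₀⁻¹) * y₀⁻¹ = y₀ ^ 3 * t * (y₀ ^ 3)⁻¹ := by
      simp only [pow_succ, pow_zero, one_mul]; group
    rw [this, hy₀3]; group
  have htt : t * t = 1 := by rw [← pow_two]; exact hT2 t ht
  have ht₁t₁ : t₁ * t₁ = 1 := by rw [← pow_two]; exact hT2 t₁ ht₁
  -- the Klein four-group
  obtain ⟨w₀, hw₀def⟩ : ∃ w₀, w₀ = t * t₁ := ⟨_, rfl⟩
  obtain ⟨w₁, hw₁def⟩ : ∃ w₁, w₁ = t₁ * t₂ := ⟨_, rfl⟩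
  have hw₀ : w₀ ∈ pCore 2 (X ⧸ Q) := by rw [hw₀def]; exact Subgroup.mul_mem _ ht ht₁
  have hw₁ : w₁ ∈ pCore 2 (X ⧸ Q) := by rw [hw₁def]; exact Subgroup.mul_mem _ ht₁ ht₂
  have F1 : w₀ * w₀ = 1 := by rw [← pow_two]; exact hT2 w₀ hw₀
  have F2 : w₁ * w₁ = 1 := by rw [← pow_two]; exact hT2 w₁ hw₁
  have F3 : w₀ * w₁ = w₁ * w₀ := hTcomm w₀ hw₀ w₁ hw₁
  have F0 : y₀ * w₀ * y₀⁻¹ = w₁ := by
    rw [hw₀def, hw₁def, ht₂def, ht₁def]; group
  have F4 : y₀ * w₁ * y₀⁻¹ = w₀ * w₁ := by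
    have h1 : y₀ * w₁ * y₀⁻¹ = (y₀ * t₁ * y₀⁻¹) * (y₀ * t₂ * y₀⁻¹) := by rw [hw₁def]; group
    rw [h1, ← ht₂def, ht₀, hw₀def, hw₁def, hTcomm t₂ ht₂ t ht]
    have : t * t₁ * (t₁ * t₂) = t * (t₁ * t₁) * t₂ := by group
    rw [this, ht₁t₁, mul_one]
  have F5 : w₀ ≠ 1 := by
    intro h
    apply hty
    rw [hw₀def, mul_eq_one_iff_eq_inv, hTinv t₁ ht₁] at h
    have h2 : t = y₀ * t * y₀⁻¹ := h.trans ht₁def
    calc t * y₀ = (y₀ * t * y₀⁻¹) * y₀ := by rw [← h2]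
      _ = y₀ * t := by group
  -- lifts
  obtain ⟨y', hy'⟩ := QuotientGroup.mk_surjective y₀
  obtain ⟨y, hydef⟩ : ∃ y : X, y = y' ^ 4 := ⟨_, rfl⟩
  have hy : (y : X ⧸ Q) = y₀ := by
    rw [hydef, QuotientGroup.mk_pow, hy']
    have : y₀ ^ 4 = y₀ ^ 3 * y₀ := by rw [← pow_succ]
    rw [this, hy₀3, one_mul]
  have hy3 : y ^ 3 = 1 := by
    rw [hydef, ← pow_mul]
    have : y' ^ (4 * 3) = (y' ^ 6) ^ 2 := by rw [← pow_mul]
    rw [this, hexp, one_pow]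
  obtain ⟨u₀, hu₀⟩ := QuotientGroup.mk_surjective w₀
  obtain ⟨u₁, hu₁def⟩ : ∃ u₁ : X, u₁ = y * u₀ * y⁻¹ := ⟨_, rfl⟩
  have hu₁ : (u₁ : X ⧸ Q) = w₁ := by
    rw [hu₁def, QuotientGroup.mk_mul, QuotientGroup.mk_mul, QuotientGroup.mk_inv, hy, hu₀, F0]
  -- the action on the Frattini quotient
  have h0 : frattiniAct Q u₀ * frattiniAct Q u₀ = 1 := by
    rw [← map_mul, ← map_one (frattiniAct Q)]
    apply frattiniAct_eq_of_mk_eq Q hQ3
    rw [QuotientGroup.mk_mul, hu₀, F1]; rfl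
  have h1 : frattiniAct Q u₁ * frattiniAct Q u₁ = 1 := by
    rw [← map_mul, ← map_one (frattiniAct Q)]
    apply frattiniAct_eq_of_mk_eq Q hQ3
    rw [QuotientGroup.mk_mul, hu₁, F2]; rfl
  have h01 : frattiniAct Q u₀ * frattiniAct Q u₁ = frattiniAct Q u₁ * frattiniAct Q u₀ := by
    rw [← map_mul, ← map_mul]
    apply frattiniAct_eq_of_mk_eq Q hQ3
    rw [QuotientGroup.mk_mul, QuotientGroup.mk_mul, hu₀, hu₁, F3]
  have hη0 : frattiniAct Q y * frattiniAct Q u₀ * (frattiniAct Q y)⁻¹ = frattiniAct Q u₁ := by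
    rw [← map_inv, ← map_mul, ← map_mul, hu₁def]
  have hη1 : frattiniAct Q y * frattiniAct Q u₁ * (frattiniAct Q y)⁻¹ =
      frattiniAct Q u₀ * frattiniAct Q u₁ := by
    rw [← map_inv, ← map_mul, ← map_mul, ← map_mul]
    apply frattiniAct_eq_of_mk_eq Q hQ3
    rw [QuotientGroup.mk_mul, QuotientGroup.mk_mul, QuotientGroup.mk_mul, QuotientGroup.mk_inv, hy, hu₀,
      hu₁, F4]
  have hne : frattiniAct Q u₀ ≠ 1 := by
    intro h
    obtain ⟨k, hk⟩ := exists_pow_eq_one_of_frattiniAct_eq_one Q hQ3 hC u₀ h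
    apply F5
    have h2 : w₀ ^ 3 ^ k = 1 := by
      rw [← hu₀, ← QuotientGroup.mk_pow, hk]; rfl
    have h3 : orderOf w₀ ∣ Nat.gcd (3 ^ k) 2 :=
      Nat.dvd_gcd (orderOf_dvd_of_pow_eq_one h2) (orderOf_dvd_of_pow_eq_one (by rw [pow_two]; exact F1))
    have h4 : Nat.gcd (3 ^ k) 2 = 1 := Nat.Coprime.pow_left k (by norm_num)
    rw [h4, Nat.dvd_one, orderOf_eq_one_iff] at h3
    exact h3
  have hV3 : ∀ v : ↥Q ⧸ frattini ↥Q, v ^ 3 = 1 := by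
    intro v
    obtain ⟨q, rfl⟩ := QuotientGroup.mk_surjective v
    obtain ⟨k, hk⟩ := hQ3 q
    have h2 : (q : X) ^ 3 = 1 :=
      cube_eq_one_of_exp6 hexp (q : X) k (by simpa using congrArg Subtype.val hk)
    rw [← QuotientGroup.mk_pow]
    have : q ^ 3 = 1 := Subtype.ext (by simpa using h2)
    rw [this]; rfl
  obtain ⟨v, hv⟩ := exists_mul_ne_one_of_A4 (frattiniQuot_comm hQ3) hV3 _ _ _ h0 h1 h01 hη0 hη1 hne
  obtain ⟨q, rfl⟩ := QuotientGroup.mk_surjective v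
  rw [frattiniAct_mk, frattiniAct_mk, ← QuotientGroup.mk_mul, ← QuotientGroup.mk_mul] at hv
  -- the element `s`
  obtain ⟨s, hsdef⟩ : ∃ s : X, s = (q : X) * (y * q * y⁻¹) * (y * (y * q * y⁻¹) * y⁻¹) := ⟨_, rfl⟩
  have hsne : s ≠ 1 := by
    intro h
    apply hv
    rw [QuotientGroup.eq_one_iff]
    convert Subgroup.one_mem (frattini ↥Q)
    apply Subtype.ext
    simp only [Subgroup.coe_mul, Subgroup.coe_one]
    rw [← hsdef, h]
  have hsQ : s ∈ Q := by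
    rw [hsdef]
    exact Subgroup.mul_mem _ (Subgroup.mul_mem _ q.2 (hQn.conj_mem _ q.2 y))
      (hQn.conj_mem _ (hQn.conj_mem _ q.2 y) y)
  have hs3 : s ^ 3 = 1 := by
    obtain ⟨k, hk⟩ := hQ3 ⟨s, hsQ⟩
    exact cube_eq_one_of_exp6 hexp s k (by simpa using congrArg Subtype.val hk)
  have hs2 : s ^ 2 = 1 := by
    have h1 : s = ((q : X) * y) ^ 3 := by
      have h2 : ((q : X) * y) ^ 3 = (q : X) * (y * q * y⁻¹) * (y * (y * q * y⁻¹) * y⁻¹) * y ^ 3 := by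
        simp only [pow_succ, pow_zero, one_mul]; group
      rw [h2, hy3, mul_one, hsdef]
    rw [h1, ← pow_mul]
    exact hexp _
  apply hsne
  have : s = s ^ 3 * (s ^ 2)⁻¹ := by group
  rw [this, hs3, hs2, inv_one, mul_one]

/-- A finite group in which every element has order dividing `6` has `2`-length at most `1` and `3`-length at most `1`. -/
theorem result {G : Type*} [Group G] [Finite G] (h : ∀ x : G, x ^ 6 = 1) : Cfsg.PLengthLE 2 1 G ∧ Cfsg.PLengthLE 3 1 G := by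
  haveI : Fact (Nat.Prime 2) := ⟨Nat.prime_two⟩
  haveI : Fact (Nat.Prime 3) := ⟨Nat.prime_three⟩
  haveI hsol : Group.IsSolvable G :=
    isSolvable_of_prime_dvd_card Nat.prime_two Nat.prime_three (fun r hr hrd => by
      haveI : Fact r.Prime := ⟨hr⟩
      obtain ⟨x, hx⟩ := exists_prime_orderOf_dvd_card' r hrd
      have h6 : r ∣ 2 * 3 := hx ▸ orderOf_dvd_of_pow_eq_one (h x)
      rcases (Nat.Prime.dvd_mul hr).mp h6 with h2 | h3
      · left; exact (Nat.prime_dvd_prime_iff_eq hr Nat.prime_two).mp h2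
      · right; exact (Nat.prime_dvd_prime_iff_eq hr Nat.prime_three).mp h3)
  constructor
  · unfold Cfsg.PLengthLE
    apply upperPSeries_eq_top_of_class_le 1 G (isPSolvable_of_isSolvable 2)
    intro S
    haveI : Group.IsNilpotent (S : Subgroup G) := S.isPGroup'.isNilpotent
    rw [Group.IsNilpotent.nilpotencyClass_le_one_iff]
    have hS2 : ∀ a : (S : Subgroup G), a * a = 1 := by
      intro a
      obtain ⟨k, hk⟩ := S.isPGroup' a
      have h2 : (a : G) ^ 2 = 1 := sq_eq_one_of_exp6 h (a : G) k (by simpa using congrArg Subtype.val hk)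
      apply Subtype.ext
      rw [Subgroup.coe_mul, ← pow_two, h2]; rfl
    have hSinv : ∀ a : (S : Subgroup G), a⁻¹ = a := fun a => by
      rw [inv_eq_iff_mul_eq_one]; exact hS2 a
    refine ⟨⟨fun a b => ?_⟩⟩
    have h1 := hSinv (a * b)
    rw [mul_inv_rev, hSinv a, hSinv b] at h1
    exact h1.symm
  · unfold Cfsg.PLengthLE
    -- notation
    obtain ⟨U₁, hU₁⟩ : ∃ U₁ : Subgroup G, U₁ = (upperPSeries 3 G 1).1 := ⟨_, rfl⟩
    haveI hU₁n : U₁.Normal := by rw [hU₁]; infer_instance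
    have hU₁def : U₁ = (pPrimeCore 3 (G ⧸ (upperPSeries 3 G 0).1)).comap
        (QuotientGroup.mk' (upperPSeries 3 G 0).1) := by
      rw [hU₁]; exact upperPSeries_succ_even 3 0 (by decide)
    have hO : pPrimeCore 3 (G ⧸ U₁) = ⊥ := pPrimeCore_quotient_eq_bot _ _ hU₁def
    have hHH : Subgroup.centralizer (pCore 3 (G ⧸ U₁) : Set (G ⧸ U₁)) ≤ pCore 3 (G ⧸ U₁) :=
      centralizer_pCore_le_of_isPSolvable (isPSolvable_of_isSolvable 3) hO
    have hexpX : ∀ x : G ⧸ U₁, x ^ 6 = 1 := by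
      intro y
      obtain ⟨x, rfl⟩ := QuotientGroup.mk_surjective y
      rw [← QuotientGroup.mk_pow, h]
      rfl
    have hcore := core hexpX hHH
    obtain ⟨U₂, hU₂⟩ : ∃ U₂ : Subgroup G, U₂ = (upperPSeries 3 G 2).1 := ⟨_, rfl⟩
    haveI hU₂n : U₂.Normal := by rw [hU₂]; infer_instance
    have hU₂def : U₂ = (pCore 3 (G ⧸ U₁)).comap (QuotientGroup.mk' U₁) := by
      subst hU₁; subst hU₂; exact upperPSeries_succ_odd 3 1 (by decide)
    have hidx : U₂.index = (pCore 3 (G ⧸ U₁)).index := by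
      rw [hU₂def, Subgroup.index_comap_of_surjective _ (QuotientGroup.mk'_surjective U₁)]
    have h3 : (upperPSeries 3 G (2 * 1 + 1)).1 =
        (pPrimeCore 3 (G ⧸ U₂)).comap (QuotientGroup.mk' U₂) := by
      subst hU₂; exact upperPSeries_succ_even 3 2 (by decide)
    rw [h3]
    have h4 : pPrimeCore 3 (G ⧸ U₂) = ⊤ := by
      rw [eq_top_iff]
      apply le_pPrimeCore (inferInstance : (⊤ : Subgroup (G ⧸ U₂)).Normal)
      rw [Subgroup.card_top, ← Subgroup.index_eq_card, hidx, Nat.coprime_comm,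
        Nat.Prime.coprime_iff_not_dvd Nat.prime_three]
      exact hcore
    rw [h4, Subgroup.comap_top]

end Cfsg.Agent.S4227
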