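import Cfsg.Statements.S4234
import Cfsg.Agent.Helper46.NmD
import Cfsg.Agent.Helper46.NmF

set_option autoImplicit false
open Cfsg

namespace Cfsg.Agent.S4234

open Cfsg.Agent.Helper46.Nm

theorem maxNorm_psl13 : MaxNorm (Matrix.ProjectiveSpecialLinearGroup (Fin 2) (ZMod 13)) :=
  fun H hH => isCoatom_normalizer_13 H hH

theorem maxNorm_sl13 : MaxNorm (Matrix.SpecialLinearGroup (Fin 2) (ZMod 13)) := by
  have h2 : (2 : ZMod 13) ≠ 0 := by decide
  haveI := fact_prime_13
  apply MaxNorm.of_center_quotient
  · exact Cfsg.Agent.Helper5.card_center_SL2_of_two_ne_zero (F := ZMod 13) h2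
  · intro x hx
    exact Cfsg.Agent.Helper41.sl2_mem_center_of_sq_eq_one h2 x (by rw [pow_two]; exact hx)
  · exact maxNorm_psl13

/-- Let K be isomorphic to PSL(2, 13) or to SL(2, 13) and let S be a finite abelian group of order coprime to the order of K. Then in the direct product K × S every subgroup that is not normal has a normalizer that is a maximal subgroup. -/
theorem result {K S : Type*} [Group K] [CommGroup S] [Finite K] [Finite S]
    (hK : Nonempty (K ≃* Matrix.ProjectiveSpecialLinearGroup (Fin 2) (ZMod 13)) ∨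
      Nonempty (K ≃* Matrix.SpecialLinearGroup (Fin 2) (ZMod 13)))
    (hKS : (Nat.card K).Coprime (Nat.card S)) (H : Subgroup (K × S)) (hH : ¬ H.Normal) :
    IsCoatom (Subgroup.normalizer (H : Set (K × S))) := by
  have hK' : MaxNorm K := by
    rcases hK with h | h
    · obtain ⟨e⟩ := h
      exact MaxNorm.of_equiv e maxNorm_psl13
    · obtain ⟨e⟩ := h
      exact MaxNorm.of_equiv e maxNorm_sl13
  exact MaxNorm.prod hKS hK' H hH

end Cfsg.Agent.S4234
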