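import Mathlib
import Cfsg.Statements.S4236
import Cfsg.Agent.S4303
import Cfsg.Agent.Helper70.Syl5

set_option autoImplicit false
open Cfsg

namespace Cfsg.Agent.S4236

open Cfsg.Agent.Helper70.Syl

/-- no finite simple group has exactly 35 Sylow 17-subgroups -/
theorem no_simple {S : Type*} [Group S] [Finite S] [IsSimpleGroup S] [Fact (Nat.Prime 17)]
    (h35 : Nat.card (Sylow 17 S) = 35) : False := by
  have hlt : Nat.card (Sylow 17 S) < 17 ^ 2 := by rw [h35]; norm_num
  have hnt : Nontrivial (Sylow 17 S) := by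
    rw [← Finite.one_lt_card_iff_nontrivial, h35]; norm_num
  obtain ⟨P, Q, hPQ⟩ := hnt
  by_cases hne : (P : Subgroup S) ⊓ Q = ⊥
  · have := card_inf_mul hlt P Q hPQ
    rw [hne, Subgroup.card_bot, one_mul] at this
    exact caseB h35 P this.symm
  · exact caseA h35 P Q hPQ hne

theorem not_isPrimePow_35 : ¬ IsPrimePow 35 := by
  rw [isPrimePow_iff_unique_prime_dvd]
  rintro ⟨p, -, hp⟩
  have h5 := hp 5 ⟨by norm_num, by norm_num⟩
  have h7 := hp 7 ⟨by norm_num, by norm_num⟩
  omega

/-- No finite group has exactly 35 Sylow 17-subgroups. -/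
theorem result {G : Type*} [Group G] [Finite G] : Nat.card (Sylow 17 G) ≠ 35 := by
  intro h
  haveI : Fact (Nat.Prime 17) := ⟨by norm_num⟩
  obtain ⟨l, hprod, hl⟩ := Cfsg.Agent.S4303.result (G := G) 17
  rw [h] at hprod
  have hall : ∀ m ∈ l, m = 1 := by
    intro m hm
    have hdvd : m ∣ 35 := hprod ▸ List.dvd_prod hm
    have hle : m ≤ 35 := Nat.le_of_dvd (by norm_num) hdvd
    have hmod : m % 17 = 1 := by
      rcases hl m hm with ⟨-, h1⟩ | ⟨S, _, _, _, rfl⟩
      · exact h1
      · have := card_sylow_modEq_one 17 S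
        unfold Nat.ModEq at this
        simpa using this
    have hm35 : m = 1 ∨ m = 35 := by
      interval_cases m <;> omega
    rcases hm35 with h1 | h35
    · exact h1
    · exfalso
      subst h35
      rcases hl 35 hm with ⟨hpp, -⟩ | ⟨S, _, _, hS, hcard⟩
      · exact not_isPrimePow_35 hpp
      · exact no_simple hcard.symm
  rw [List.prod_eq_one hall] at hprod
  norm_num at hprod

end Cfsg.Agent.S4236
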