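import Cfsg.Statements.S4238
import Mathlib
import Cfsg.Agent.Lib.Cores
import Cfsg.Agent.Helper78.PNilpotent

set_option autoImplicit false
open Cfsg

namespace Cfsg.Agent.S4238

open Subgroup
open scoped commutatorElement

universe u

/-- if `V` (abelian, normal) is generated by the commutators `[v,y]`, then `y` has no nontrivial
fixed point on `V` -/
theorem fix_trivial {K : Type*} [Group K] [Finite K] (V : Subgroup K) [hVn : V.Normal]
    (hVab : ∀ a ∈ V, ∀ b ∈ V, a * b = b * a) (y : K)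
    (hgenV : V ≤ closure {c | ∃ v ∈ V, c = v⁻¹ * (y⁻¹ * v * y)}) :
    ∀ v ∈ V, v * y = y * v → v = 1 := by
  have hconj : ∀ v ∈ V, y⁻¹ * v * y ∈ V := by
    intro v hv
    have := hVn.conj_mem v hv y⁻¹
    simpa using this
  let θ : V →* V :=
    { toFun := fun v => ⟨v.1⁻¹ * (y⁻¹ * v.1 * y), V.mul_mem (V.inv_mem v.2) (hconj v.1 v.2)⟩
      map_one' := by apply Subtype.ext; simp
      map_mul' := by
        intro a b
        apply Subtype.ext
        simp only [Subgroup.coe_mul]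
        have h1 := hVab _ (V.inv_mem a.2) _ (V.inv_mem b.2)
        have h2 := hVab _ (V.inv_mem b.2) _ (hconj a.1 a.2)
        calc (a.1 * b.1)⁻¹ * (y⁻¹ * (a.1 * b.1) * y)
            = a.1⁻¹ * (b.1⁻¹ * (y⁻¹ * a.1 * y)) * (y⁻¹ * b.1 * y) := by
              rw [mul_inv_rev, h1.symm]; group
          _ = a.1⁻¹ * ((y⁻¹ * a.1 * y) * b.1⁻¹) * (y⁻¹ * b.1 * y) := by rw [h2]
          _ = _ := by group }
  have hsurj : Function.Surjective θ := by
    rw [← MonoidHom.range_eq_top]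
    rw [eq_top_iff]
    intro v _
    have h1 : closure {c | ∃ v ∈ V, c = v⁻¹ * (y⁻¹ * v * y)} ≤ (θ.range).map V.subtype := by
      rw [closure_le]
      rintro c ⟨v, hv, rfl⟩
      exact ⟨θ ⟨v, hv⟩, ⟨⟨v, hv⟩, rfl⟩, rfl⟩
    obtain ⟨w, hw, hwv⟩ := h1 (hgenV v.2)
    have : w = v := Subtype.ext hwv
    rwa [← this]
  have hinj : Function.Injective θ := Finite.injective_iff_surjective.mpr hsurj
  intro v hv hcomm
  have h1 : θ ⟨v, hv⟩ = θ 1 := by
    rw [map_one]
    apply Subtype.ext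
    change v⁻¹ * (y⁻¹ * v * y) = 1
    rw [mul_assoc, hcomm]; group
  have := hinj h1
  exact congrArg Subtype.val this

theorem commute_of_pow {K : Type*} [Group K] {r : ℕ} (hr : r.Prime) (y z : K) (hy : y ^ r = 1)
    (i : ℕ) (hi : ¬ r ∣ i) (hz : z * y ^ i = y ^ i * z) : z * y = y * z := by
  have hcop : Nat.Coprime i r := ((Nat.Prime.coprime_iff_not_dvd hr).mpr hi).symm
  obtain ⟨m, -, hm⟩ := Nat.exists_mul_mod_eq_one_of_coprime hcop hr.one_lt
  have h1 : (y ^ i) ^ m = y := by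
    rw [← pow_mul, pow_eq_pow_mod (i * m) hy, hm, pow_one]
  have h2 : Commute z ((y ^ i) ^ m) := (show Commute z (y ^ i) from hz).pow_right m
  rw [h1] at h2
  exact h2

theorem section_lemma {K : Type*} [Group K] [Finite K] (p r : ℕ) [hp : Fact p.Prime]
    (hr : r.Prime) (hrp : r ≠ p)
    (V : Subgroup K) [hVn : V.Normal] (hVp : IsPGroup p V)
    (hVab : ∀ a ∈ V, ∀ b ∈ V, a * b = b * a) (hV : V ≠ ⊥)
    (y : K) (hy : y ^ r = 1) (hgen : ∀ k : K, ∃ v ∈ V, ∃ i : ℕ, k = v * y ^ i)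
    (hfix : ∀ v ∈ V, v * y = y * v → v = 1) :
    Cfsg.pPrimeCore p K = ⊥ ∧ ∀ k : K, orderOf k ≠ Monoid.exponent K := by
  -- orders of elements of V are p-powers
  have hVord : ∀ v ∈ V, ∃ j, orderOf v = p ^ j := by
    intro v hv
    obtain ⟨k, hk⟩ := hVp ⟨v, hv⟩
    have h1 : v ^ p ^ k = 1 := by
      have := congrArg Subtype.val hk
      simpa using this
    exact (Nat.dvd_prime_pow hp.out).mp (orderOf_dvd_of_pow_eq_one h1) |>.imp fun j hj => hj.2
  have hyne : y ≠ 1 := by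
    intro h1
    apply hV
    rw [eq_bot_iff]
    intro v hv
    rw [mem_bot]
    exact hfix v hv (by rw [h1]; simp)
  haveI : Fact r.Prime := ⟨hr⟩
  have hyord : orderOf y = r := orderOf_eq_prime hy hyne
  have hypow : ∀ i : ℕ, r ∣ i → y ^ i = 1 := by
    rintro i ⟨t, rfl⟩
    rw [pow_mul, hy, one_pow]
  constructor
  · -- O_{p'}(K) = 1
    set M := Cfsg.pPrimeCore p K with hM
    have : M.Characteristic := Cfsg.Agent.Lib.pPrimeCore_characteristic p
    have hMn : M.Normal := inferInstance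
    have hMcop : (Nat.card M).Coprime p := Cfsg.Agent.Lib.card_pPrimeCore_coprime p
    have hMV : ∀ x, x ∈ M → x ∈ V → x = 1 := by
      intro x hxM hxV
      obtain ⟨j, hj⟩ := hVord x hxV
      have h1 : orderOf x ∣ Nat.card M := Subgroup.orderOf_dvd_natCard M hxM
      have h2 : (orderOf x).Coprime p := Nat.Coprime.coprime_dvd_left h1 hMcop
      rw [hj] at h2
      rcases Nat.eq_zero_or_pos j with h0 | h0
      · rw [h0, pow_zero] at hj; exact orderOf_eq_one_iff.mp hj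
      · exfalso
        have := (Nat.coprime_pow_left_iff h0 p p).mp h2
        rw [Nat.coprime_self] at this
        exact hp.out.one_lt.ne' this
    have hcomm : ∀ m ∈ M, ∀ v ∈ V, m * v = v * m := by
      intro m hm v hv
      have h1 : m * v * m⁻¹ * v⁻¹ ∈ M := by
        have := hMn.conj_mem m⁻¹ (M.inv_mem hm) v
        have h2 : m * v * m⁻¹ * v⁻¹ = m * (v * m⁻¹ * v⁻¹) := by group
        rw [h2]; exact M.mul_mem hm this
      have h2 : m * v * m⁻¹ * v⁻¹ ∈ V := V.mul_mem (hVn.conj_mem v hv m) (V.inv_mem hv)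
      have h3 := hMV _ h1 h2
      have : m * v = (m * v * m⁻¹ * v⁻¹) * (v * m) := by group
      rw [this, h3, one_mul]
    rw [eq_bot_iff]
    intro m hm
    rw [mem_bot]
    obtain ⟨v', hv', i, hmi⟩ := hgen m
    by_cases hri : r ∣ i
    · rw [hypow i hri, mul_one] at hmi
      exact hMV m hm (hmi ▸ hv')
    · exfalso
      apply hV
      rw [eq_bot_iff]
      intro v hv
      rw [mem_bot]
      apply hfix v hv
      apply commute_of_pow hr y v hy i hri
      have h1 : y ^ i = v'⁻¹ * m := by rw [hmi]; group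
      rw [h1]
      have h2 := hcomm m hm v hv
      have h3 := hVab v hv _ (V.inv_mem hv')
      calc v * (v'⁻¹ * m) = (v * v'⁻¹) * m := by group
        _ = (v'⁻¹ * v) * m := by rw [h3]
        _ = v'⁻¹ * (v * m) := by group
        _ = v'⁻¹ * (m * v) := by rw [h2]
        _ = _ := by group
  · intro k hk
    obtain ⟨v₀, hv₀, hne⟩ : ∃ v₀ ∈ V, v₀ ≠ 1 := by
      by_contra hcon
      push Not at hcon
      apply hV
      rw [eq_bot_iff]
      intro v hv
      exact hcon v hv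
    obtain ⟨j, hj⟩ := hVord v₀ hv₀
    have hj0 : j ≠ 0 := by
      rintro rfl
      rw [pow_zero] at hj
      exact hne (orderOf_eq_one_iff.mp hj)
    have hpe : p ∣ Monoid.exponent K := by
      have h1 : orderOf v₀ ∣ Monoid.exponent K := Monoid.order_dvd_exponent v₀
      rw [hj] at h1
      exact (dvd_pow_self p hj0).trans h1
    have hre : r ∣ Monoid.exponent K := by
      rw [← hyord]; exact Monoid.order_dvd_exponent y
    rw [← hk] at hpe hre
    obtain ⟨v, hv, i, hki⟩ := hgen k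
    by_cases hri : r ∣ i
    · rw [hypow i hri, mul_one] at hki
      obtain ⟨j', hj'⟩ := hVord k (hki ▸ hv)
      rw [hj'] at hre
      exact hrp ((Nat.prime_dvd_prime_iff_eq hr hp.out).mp (hr.dvd_of_dvd_pow hre))
    · -- the element z = k^(n/p)
      have hn0 : orderOf k ≠ 0 := (orderOf_pos k).ne'
      set n := orderOf k with hn
      have hprn : p * r ∣ n :=
        Nat.Coprime.mul_dvd_of_dvd_of_dvd ((Nat.coprime_primes hp.out hr).mpr (Ne.symm hrp)) hpe hre
      have hzord : orderOf (k ^ (n / p)) = p := orderOf_pow_orderOf_div hn0 hpe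
      have hkr : k ^ r ∈ V := by
        rw [← QuotientGroup.eq_one_iff, QuotientGroup.mk_pow, hki, QuotientGroup.mk_mul,
          (QuotientGroup.eq_one_iff v).mpr hv, one_mul, QuotientGroup.mk_pow, ← pow_mul,
          mul_comm, pow_mul, ← QuotientGroup.mk_pow, hy]
        simp
      have hzV : k ^ (n / p) ∈ V := by
        obtain ⟨t, ht⟩ := hprn
        have : n / p = r * t := by
          rw [ht, mul_assoc, Nat.mul_div_cancel_left _ hp.out.pos]
        rw [this, pow_mul]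
        exact V.pow_mem hkr t
      have hzk : k ^ (n / p) * k = k * k ^ (n / p) := by
        rw [← pow_succ, ← pow_succ']
      have hz1 : k ^ (n / p) = 1 := by
        apply hfix _ hzV
        apply commute_of_pow hr y _ hy i hri
        have h1 : y ^ i = v⁻¹ * k := by rw [hki]; group
        rw [h1]
        have h3 := hVab _ hzV _ (V.inv_mem hv)
        calc k ^ (n / p) * (v⁻¹ * k) = (k ^ (n / p) * v⁻¹) * k := by group
          _ = (v⁻¹ * k ^ (n / p)) * k := by rw [h3]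
          _ = v⁻¹ * (k ^ (n / p) * k) := by group
          _ = v⁻¹ * (k * k ^ (n / p)) := by rw [hzk]
          _ = _ := by group
      rw [hz1, orderOf_one] at hzord
      exact hp.out.one_lt.ne hzord

theorem pgroup_eq_bot_of_le_commutator {L : Type*} [Group L] [Finite L] (p : ℕ) [hp : Fact p.Prime]
    (Q : Subgroup L) (hQp : IsPGroup p Q) (h : Q ≤ ⁅Q, Q⁆) : Q = ⊥ := by
  by_contra hne
  haveI : Nontrivial Q := (Subgroup.nontrivial_iff_ne_bot Q).mpr hne
  haveI : Group.IsNilpotent Q := hQp.isNilpotent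
  have h1 := Group.IsSolvable.commutator_lt_top_of_nontrivial Q
  apply h1.ne
  rw [eq_top_iff]
  intro x _
  have h2 : (x : L) ∈ (commutator Q).map Q.subtype := by
    rw [Subgroup.map_subtype_commutator]; exact h x.2
  obtain ⟨w, hw, hwx⟩ := h2
  have : w = x := Subtype.ext hwx
  rwa [← this]

theorem lemmaB {L : Type*} [Group L] [Finite L] (p r : ℕ) [hp : Fact p.Prime]
    (hr : r.Prime) (hrp : r ≠ p)
    (Q : Subgroup L) [hQn : Q.Normal] (hQp : IsPGroup p Q) (g : L)
    (hgen : ∀ x : L, ∃ q ∈ Q, ∃ i : ℕ, x = q * g ^ i)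
    (hcop : (orderOf g).Coprime p)
    (hz : ∀ q ∈ Q, g ^ r * q = q * g ^ r)
    (hD : Q ≤ closure {c | ∃ q ∈ Q, c = q⁻¹ * (g⁻¹ * q * g)})
    (hQne : Q ≠ ⊥) :
    ∃ (N : Subgroup L) (_ : N.Normal), Cfsg.pPrimeCore p (L ⧸ N) = ⊥ ∧
      ∀ k : L ⧸ N, orderOf k ≠ Monoid.exponent (L ⧸ N) := by
  -- `g ^ r` is central
  have hzc : ∀ x : L, g ^ r * x = x * g ^ r := by
    intro x
    obtain ⟨q, hq, i, rfl⟩ := hgen x
    have h1 : g ^ r * g ^ i = g ^ i * g ^ r := by rw [← pow_add, ← pow_add, add_comm]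
    calc g ^ r * (q * g ^ i) = (g ^ r * q) * g ^ i := by group
      _ = (q * g ^ r) * g ^ i := by rw [hz q hq]
      _ = q * (g ^ r * g ^ i) := by group
      _ = q * (g ^ i * g ^ r) := by rw [h1]
      _ = _ := by group
  set Z : Subgroup L := zpowers (g ^ r) with hZ
  have hZc : ∀ n ∈ Z, ∀ x : L, n * x = x * n := by
    intro n hn x
    obtain ⟨j, rfl⟩ := mem_zpowers_iff.mp hn
    exact ((show Commute (g ^ r) x from hzc x).zpow_left j)
  haveI hZn : Z.Normal := by
    constructor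
    intro n hn x
    have : x * n * x⁻¹ = n := by rw [← hZc n hn x]; group
    rw [this]; exact hn
  have hQQ : ⁅Q, Q⁆ ≤ Q := Subgroup.commutator_le_left Q Q
  set N : Subgroup L := ⁅Q, Q⁆ ⊔ Z with hN
  haveI hNn : N.Normal := inferInstance
  refine ⟨N, hNn, ?_⟩
  -- elements of `Z ∩ Q` are trivial
  have hZQ : ∀ z ∈ Z, z ∈ Q → z = 1 := by
    intro z hzZ hzQ
    obtain ⟨k, hk⟩ := hQp ⟨z, hzQ⟩
    have h1 : z ^ p ^ k = 1 := by
      have := congrArg Subtype.val hk
      simpa using this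
    have h2 : orderOf z ∣ p ^ k := orderOf_dvd_of_pow_eq_one h1
    have h3 : orderOf z ∣ orderOf g := by
      apply orderOf_dvd_of_mem_zpowers
      exact (zpowers_le.mpr (Subgroup.pow_mem _ (mem_zpowers g) r)) hzZ
    have h4 : (orderOf z).Coprime (p ^ k) := (Nat.Coprime.coprime_dvd_left h3 hcop).pow_right k
    exact orderOf_eq_one_iff.mp (Nat.Coprime.eq_one_of_dvd h4 h2)
  -- `Q ⊓ N ≤ ⁅Q, Q⁆`
  have hQN : ∀ q ∈ Q, q ∈ N → q ∈ ⁅Q, Q⁆ := by
    intro q hq hqN
    obtain ⟨c, hc, z, hzZ, rfl⟩ := Subgroup.mem_sup_of_normal_left.mp hqN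
    have hzQ : z ∈ Q := by
      have : z = c⁻¹ * (c * z) := by group
      rw [this]; exact Q.mul_mem (Q.inv_mem (hQQ hc)) hq
    rw [hZQ z hzZ hzQ, mul_one]; exact hc
  set π := QuotientGroup.mk' N with hπ
  have hπs : Function.Surjective π := QuotientGroup.mk'_surjective N
  set V : Subgroup (L ⧸ N) := Q.map π with hVdef
  haveI hVn : V.Normal := hQn.map π hπs
  have hVp : IsPGroup p V := hQp.map π
  have hVab : ∀ a ∈ V, ∀ b ∈ V, a * b = b * a := by
    rintro _ ⟨q₁, hq₁, rfl⟩ _ ⟨q₂, hq₂, rfl⟩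
    rw [← map_mul, ← map_mul]
    apply QuotientGroup.eq.mpr
    have h1 : (q₁ * q₂)⁻¹ * (q₂ * q₁) = ⁅q₂⁻¹, q₁⁻¹⁆ := by
      rw [commutatorElement_def]; group
    rw [h1]
    exact le_sup_left (a := ⁅Q, Q⁆) (b := Z)
      (Subgroup.commutator_mem_commutator (Q.inv_mem hq₂) (Q.inv_mem hq₁))
  have hV : V ≠ ⊥ := by
    intro hbot
    have h1 : Q ≤ N := by
      have := (Subgroup.map_eq_bot_iff Q).mp hbot
      rwa [hπ, QuotientGroup.ker_mk'] at this
    exact hQne (pgroup_eq_bot_of_le_commutator p Q hQp (fun q hq => hQN q hq (h1 hq)))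
  have hy : (π g) ^ r = 1 := by
    rw [← map_pow]
    apply (QuotientGroup.eq_one_iff _).mpr
    exact le_sup_right (a := ⁅Q, Q⁆) (b := Z) (mem_zpowers _)
  have hgenK : ∀ k : L ⧸ N, ∃ v ∈ V, ∃ i : ℕ, k = v * (π g) ^ i := by
    intro k
    obtain ⟨x, rfl⟩ := hπs k
    obtain ⟨q, hq, i, rfl⟩ := hgen x
    exact ⟨π q, ⟨q, hq, rfl⟩, i, by rw [map_mul, map_pow]⟩
  have hgenV : V ≤ closure {c | ∃ v ∈ V, c = v⁻¹ * ((π g)⁻¹ * v * π g)} := by
    have h1 : V ≤ (closure {c | ∃ q ∈ Q, c = q⁻¹ * (g⁻¹ * q * g)}).map π := Subgroup.map_mono hD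
    refine h1.trans ?_
    rw [MonoidHom.map_closure]
    apply Subgroup.closure_mono
    rintro _ ⟨c, ⟨q, hq, rfl⟩, rfl⟩
    exact ⟨π q, ⟨q, hq, rfl⟩, by simp⟩
  have hfix := fix_trivial V hVab (π g) hgenV
  exact section_lemma p r hr hrp V hVp hVab hV (π g) hy hgenK hfix

/-- the predicate of a counterexample to Frobenius' hypothesis -/
def Bad {G : Type*} [Group G] (p : ℕ) (Q : Subgroup G) (g : G) : Prop :=
  IsPGroup p Q ∧ g ∈ normalizer (Q : Set G) ∧ (orderOf g).Coprime p ∧ g ∉ centralizer (Q : Set G)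

/-- coprime action: if `[q,g]` commutes with `g` then it is trivial -/
theorem comm_trivial {G : Type*} [Group G] [Finite G] (p : ℕ) [hp : Fact p.Prime] (q g : G)
    (hcop : (orderOf g).Coprime p) (k : ℕ)
    (hc : (q⁻¹ * (g⁻¹ * q * g)) ^ p ^ k = 1)
    (hcomm : (q⁻¹ * (g⁻¹ * q * g)) * g = g * (q⁻¹ * (g⁻¹ * q * g))) :
    q⁻¹ * (g⁻¹ * q * g) = 1 := by
  obtain ⟨c, hcdef⟩ : ∃ c, c = q⁻¹ * (g⁻¹ * q * g) := ⟨_, rfl⟩
  rw [← hcdef] at hc hcomm ⊢
  have hq : g⁻¹ * q * g = q * c := by rw [hcdef]; group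
  have key : ∀ i : ℕ, (g ^ i)⁻¹ * q * g ^ i = q * c ^ i := by
    intro i
    induction i with
    | zero => simp
    | succ i ih =>
      have hci : g⁻¹ * c ^ i * g = c ^ i := by
        have : Commute (c ^ i) g := (show Commute c g from hcomm).pow_left i
        rw [mul_assoc, this.eq]; group
      calc (g ^ (i + 1))⁻¹ * q * g ^ (i + 1)
          = g⁻¹ * ((g ^ i)⁻¹ * q * g ^ i) * g := by rw [pow_succ]; group
        _ = g⁻¹ * (q * c ^ i) * g := by rw [ih]
        _ = (g⁻¹ * q * g) * (g⁻¹ * c ^ i * g) := by group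
        _ = q * c * c ^ i := by rw [hq, hci]
        _ = q * c ^ (i + 1) := by rw [pow_succ']; group
  have h1 := key (orderOf g)
  rw [pow_orderOf_eq_one] at h1
  have h2 : c ^ orderOf g = 1 := by
    have : q * c ^ orderOf g = q * 1 := by rw [← h1]; group
    exact mul_left_cancel this
  have h3 : orderOf c ∣ orderOf g := orderOf_dvd_of_pow_eq_one h2
  have h4 : orderOf c ∣ p ^ k := orderOf_dvd_of_pow_eq_one hc
  have h5 : (orderOf c).Coprime (p ^ k) := (Nat.Coprime.coprime_dvd_left h3 hcop).pow_right k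
  exact orderOf_eq_one_iff.mp (Nat.Coprime.eq_one_of_dvd h5 h4)

theorem backward {G : Type u} [Group G] [Finite G] (p : ℕ) [hp : Fact p.Prime]
    (h : ∀ (H : Subgroup G) (N : Subgroup H) [N.Normal], Cfsg.pPrimeCore p (H ⧸ N) = ⊥ →
        ∃ k : H ⧸ N, orderOf k = Monoid.exponent (H ⧸ N)) :
    Cfsg.HasNormalPComplement p G := by
  rw [Cfsg.Agent.Helper78.hasNormalPComplement_iff_frobHyp]
  by_contra hF
  unfold Cfsg.Agent.Helper78.FrobHyp at hF
  push Not at hF
  obtain ⟨Q0, hQ0p, g0, hg0N, hg0cop, hg0C⟩ := hF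
  have hbad0 : Bad p Q0 g0 := ⟨hQ0p, hg0N, hg0cop, hg0C⟩
  have hex : ∃ n, ∃ (Q : Subgroup G) (g : G), Bad p Q g ∧ Nat.card Q + orderOf g = n :=
    ⟨_, Q0, g0, hbad0, rfl⟩
  classical
  obtain ⟨Q, g, hbad, hn⟩ := Nat.find_spec hex
  have hmin : ∀ (Q' : Subgroup G) (g' : G), Bad p Q' g' →
      Nat.card Q + orderOf g ≤ Nat.card Q' + orderOf g' := by
    intro Q' g' hb
    rw [hn]
    exact Nat.find_min' hex ⟨Q', g', hb, rfl⟩
  obtain ⟨hQp, hgN, hcop, hgC⟩ := hbad
  -- the prime r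
  have hg1 : orderOf g ≠ 1 := by
    intro h1
    rw [orderOf_eq_one_iff] at h1
    apply hgC
    rw [h1]; exact one_mem _
  set r := (orderOf g).minFac with hrdef
  have hr : r.Prime := Nat.minFac_prime hg1
  have hrdvd : r ∣ orderOf g := Nat.minFac_dvd _
  have hrp : r ≠ p := by
    intro hrp
    rw [hrp] at hrdvd
    exact hp.out.one_lt.ne' (Nat.Coprime.eq_one_of_dvd hcop.symm hrdvd)
  -- `g ^ r` centralizes `Q`
  have hgr : g ^ r ∈ centralizer (Q : Set G) := by
    by_contra hcon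
    have hb : Bad p Q (g ^ r) := ⟨hQp, Subgroup.pow_mem _ hgN r,
      Nat.Coprime.coprime_dvd_left (orderOf_pow_dvd r) hcop, hcon⟩
    have h1 := hmin Q (g ^ r) hb
    have h2 : orderOf (g ^ r) = orderOf g / r := orderOf_pow_of_dvd hr.ne_zero hrdvd
    have h3 : orderOf g / r < orderOf g := Nat.div_lt_self (orderOf_pos g) hr.one_lt
    omega
  -- conjugation by `g⁻¹` preserves `Q`
  have hconjQ : ∀ q ∈ Q, g⁻¹ * q * g ∈ Q := by
    intro q hq
    have := (mem_normalizer_iff.mp (Subgroup.inv_mem _ hgN) q).mp hq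
    simpa using this
  -- the commutator subgroup `[Q, g]`
  obtain ⟨S, hS⟩ : ∃ S : Set G, S = {c | ∃ q ∈ Q, c = q⁻¹ * (g⁻¹ * q * g)} := ⟨_, rfl⟩
  have hSQ : S ⊆ Q := by
    rw [hS]
    rintro _ ⟨q, hq, rfl⟩
    exact Q.mul_mem (Q.inv_mem hq) (hconjQ q hq)
  have hDQ : closure S ≤ Q := (closure_le Q).mpr hSQ
  have hDeq : closure S = Q := by
    by_contra hne
    have hlt : closure S < Q := lt_of_le_of_ne hDQ hne
    have hcardlt : Nat.card (closure S) < Nat.card Q := Cfsg.Agent.Helper78.card_lt_card_of_lt hlt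
    -- `g` normalizes `closure S`
    have hgND : g ∈ normalizer ((closure S : Subgroup G) : Set G) := by
      have h1 : (closure S).map (MulAut.conj g⁻¹).toMonoidHom ≤ closure S := by
        rw [MonoidHom.map_closure]
        apply Subgroup.closure_mono
        rw [hS]
        rintro _ ⟨c, ⟨q, hq, rfl⟩, rfl⟩
        refine ⟨g⁻¹ * q * g, hconjQ q hq, ?_⟩
        simp only [MulEquiv.coe_toMonoidHom, MulAut.conj_apply, inv_inv]
        group
      have h2 : (closure S).map (MulAut.conj g⁻¹).toMonoidHom = closure S := by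
        apply Subgroup.eq_of_le_of_card_ge h1
        rw [Subgroup.card_map_of_injective (MulAut.conj g⁻¹).injective]
      have h3 : g⁻¹ ∈ normalizer ((closure S : Subgroup G) : Set G) :=
        mem_normalizer_iff_map_conj_eq.mpr h2
      have := Subgroup.inv_mem _ h3
      rwa [inv_inv] at this
    have hgCD : g ∈ centralizer ((closure S : Subgroup G) : Set G) := by
      by_contra hcon
      have hb : Bad p (closure S) g := ⟨hQp.to_le hDQ, hgND, hcop, hcon⟩
      have := hmin _ _ hb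
      omega
    apply hgC
    rw [mem_centralizer_iff]
    intro q hq
    have hcS : q⁻¹ * (g⁻¹ * q * g) ∈ S := by rw [hS]; exact ⟨q, hq, rfl⟩
    have hcD : q⁻¹ * (g⁻¹ * q * g) ∈ closure S := subset_closure hcS
    have hcomm := (mem_centralizer_iff.mp hgCD) _ hcD
    obtain ⟨k, hk⟩ := hQp ⟨_, hSQ hcS⟩
    have hk' : (q⁻¹ * (g⁻¹ * q * g)) ^ p ^ k = 1 := by
      have := congrArg Subtype.val hk
      simpa using this
    have h1 := comm_trivial p q g hcop k hk' hcomm
    have h2 : g⁻¹ * q * g = q := by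
      have : g⁻¹ * q * g = q * (q⁻¹ * (g⁻¹ * q * g)) := by group
      rw [this, h1, mul_one]
    calc q * g = g * (g⁻¹ * q * g) := by group
      _ = g * q := by rw [h2]
  -- the subgroup `H = Q⟨g⟩`
  obtain ⟨H, hH⟩ : ∃ H : Subgroup G, H = Q ⊔ zpowers g := ⟨_, rfl⟩
  have hQH : Q ≤ H := hH ▸ le_sup_left
  have hgH : g ∈ H := hH ▸ (le_sup_right (a := Q) (mem_zpowers g))
  have hHN : H ≤ normalizer (Q : Set G) := by
    rw [hH]; exact sup_le le_normalizer (zpowers_le.mpr hgN)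
  haveI hQHn : (Q.subgroupOf H).Normal := (normal_subgroupOf_iff_le_normalizer hQH).mpr hHN
  have hQHp : IsPGroup p (Q.subgroupOf H) := hQp.comap_subtype
  have hgenH : ∀ x : H, ∃ q ∈ Q.subgroupOf H, ∃ i : ℕ, x = q * (⟨g, hgH⟩ : H) ^ i := by
    intro x
    have hx : (x : G) ∈ ((Q ⊔ zpowers g : Subgroup G) : Set G) := hH ▸ x.2
    rw [Subgroup.coe_mul_of_right_le_normalizer_left Q (zpowers g) (zpowers_le.mpr hgN)] at hx
    obtain ⟨q, hq, z, hz, hqz⟩ := Set.mem_mul.mp hx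
    rw [SetLike.mem_coe, ← mem_powers_iff_mem_zpowers] at hz
    obtain ⟨i, rfl⟩ := (Submonoid.mem_powers_iff _ _).mp hz
    refine ⟨⟨q, hQH hq⟩, mem_subgroupOf.mpr hq, i, ?_⟩
    apply Subtype.ext
    simp [← hqz]
  have hcopH : (orderOf (⟨g, hgH⟩ : H)).Coprime p := by
    rw [Subgroup.orderOf_mk]; exact hcop
  have hzH : ∀ q ∈ Q.subgroupOf H, (⟨g, hgH⟩ : H) ^ r * q = q * (⟨g, hgH⟩ : H) ^ r := by
    intro q hq
    apply Subtype.ext
    have := (mem_centralizer_iff.mp hgr) q.1 (mem_subgroupOf.mp hq)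
    simp only [Subgroup.coe_mul, Subgroup.coe_pow]
    exact this.symm
  have hDH : Q.subgroupOf H ≤ closure {c : H | ∃ q ∈ Q.subgroupOf H,
      c = q⁻¹ * ((⟨g, hgH⟩ : H)⁻¹ * q * ⟨g, hgH⟩)} := by
    intro x hx
    have hx' : (x : G) ∈ closure S := by rw [hDeq]; exact mem_subgroupOf.mp hx
    have h1 : closure S ≤ (closure {c : H | ∃ q ∈ Q.subgroupOf H,
        c = q⁻¹ * ((⟨g, hgH⟩ : H)⁻¹ * q * ⟨g, hgH⟩)}).map H.subtype := by
      rw [MonoidHom.map_closure]
      apply Subgroup.closure_mono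
      rw [hS]
      rintro _ ⟨q, hq, rfl⟩
      exact ⟨(⟨q, hQH hq⟩ : H)⁻¹ * ((⟨g, hgH⟩ : H)⁻¹ * ⟨q, hQH hq⟩ * ⟨g, hgH⟩),
        ⟨⟨q, hQH hq⟩, mem_subgroupOf.mpr hq, rfl⟩, by simp⟩
    obtain ⟨w, hw, hwx⟩ := h1 hx'
    have : w = x := Subtype.ext hwx
    rwa [← this]
  have hQHne : Q.subgroupOf H ≠ ⊥ := by
    intro hbot
    apply hgC
    rw [mem_centralizer_iff]
    intro q hq
    have h1 : (⟨q, hQH hq⟩ : H) ∈ Q.subgroupOf H := mem_subgroupOf.mpr hq
    rw [hbot, mem_bot] at h1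
    have h2 : q = 1 := congrArg Subtype.val h1
    rw [h2]; simp
  obtain ⟨N, hNn, hcore, hno⟩ := lemmaB p r hr hrp (Q.subgroupOf H) hQHp ⟨g, hgH⟩ hgenH hcopH hzH
    hDH hQHne
  obtain ⟨k, hk⟩ := h H N hcore
  exact hno k hk

theorem forward {G : Type u} [Group G] [Finite G] (p : ℕ) [hp : Fact p.Prime]
    (hG : Cfsg.HasNormalPComplement p G) (H : Subgroup G) (N : Subgroup H) [N.Normal]
    (hcore : Cfsg.pPrimeCore p (H ⧸ N) = ⊥) :
    ∃ k : H ⧸ N, orderOf k = Monoid.exponent (H ⧸ N) := by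
  obtain ⟨P, M, hMn, hMP⟩ := Cfsg.Agent.Helper78.hasNormalPComplement_subgroup hG H
  set π := QuotientGroup.mk' N with hπ
  have hπs : Function.Surjective π := QuotientGroup.mk'_surjective N
  have hMcop : (Nat.card M).Coprime p := by
    rw [← hMP.index_eq_card]
    exact ((Nat.Prime.coprime_iff_not_dvd hp.out).mpr P.not_dvd_index).symm
  have hMmap : M.map π ≤ Cfsg.pPrimeCore p (H ⧸ N) := by
    apply Cfsg.Agent.Lib.le_pPrimeCore (hMn.map π hπs)
    exact Nat.Coprime.coprime_dvd_left (Subgroup.card_map_dvd M π) hMcop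
  rw [hcore] at hMmap
  have hMker : ∀ m ∈ M, π m = 1 := by
    intro m hm
    have := hMmap ⟨m, hm, rfl⟩
    rwa [mem_bot] at this
  have hKp : IsPGroup p (H ⧸ N) := by
    intro k
    obtain ⟨h, rfl⟩ := hπs k
    obtain ⟨⟨m, x⟩, hmx⟩ := hMP.2 h
    simp only at hmx
    obtain ⟨j, hj⟩ := P.2 x
    refine ⟨j, ?_⟩
    rw [← hmx, map_mul, hMker m.1 m.2, one_mul, ← map_pow]
    have : (x : H) ^ p ^ j = 1 := by
      have := congrArg Subtype.val hj
      simpa using this
    rw [this, map_one]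
  obtain ⟨k, hk⟩ := hp.out.exists_orderOf_eq_pow_factorization_exponent (H ⧸ N)
  refine ⟨k, ?_⟩
  obtain ⟨n, hn⟩ := IsPGroup.iff_card.mp hKp
  have h1 : Monoid.exponent (H ⧸ N) ∣ p ^ n := hn ▸ Group.exponent_dvd_nat_card
  obtain ⟨j, -, hj⟩ := (Nat.dvd_prime_pow hp.out).mp h1
  rw [hk, hj, hp.out.factorization_pow]
  simp


/-- Let G be a finite group and p a prime. Then G has a normal p-complement if and only if every section K = H/N of G (N a normal subgroup of a subgroup H) whose largest normal subgroup of order prime to p is trivial contains an element whose order equals the exponent of K. -/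
theorem result {G : Type*} [Group G] [Finite G] (p : ℕ) [Fact p.Prime] :
    Cfsg.HasNormalPComplement p G ↔
      ∀ (H : Subgroup G) (N : Subgroup H) [N.Normal], Cfsg.pPrimeCore p (H ⧸ N) = ⊥ →
        ∃ k : H ⧸ N, orderOf k = Monoid.exponent (H ⧸ N) := by
  exact ⟨fun hG H N _ hcore => forward p hG H N hcore, fun h => backward p h⟩

end Cfsg.Agent.S4238
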