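import Mathlib
import Cfsg.Statements.S4242
import Cfsg.Agent.S0581
import Cfsg.Agent.S0537
import Cfsg.Agent.S0071
-- import your own Cfsg.Agent.* helpers here

set_option autoImplicit false
set_option linter.unusedSectionVars false
open Cfsg

namespace Cfsg.Agent.S4242

open Subgroup
open scoped commutatorElement

/-- In a finite nilpotent group a `p`-element commutes with any element of order prime to `p`. -/
lemma commute_of_nilpotent' {M : Type*} [Group M] [Finite M] [Group.IsNilpotent M] {p : ℕ}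
    (hp : p.Prime) {a b : M} (ha : ∃ k, a ^ p ^ k = 1) (hb : ¬ p ∣ orderOf b) : Commute a b := by
  have := Fact.mk hp
  obtain ⟨T, hTn, hTc, k, hk⟩ := S0581.exists_normal_compl (M := M) p
  obtain ⟨j, hj⟩ := ha
  have hzp : IsPGroup p (zpowers a) := by
    have h1 : orderOf a ∣ p ^ j := orderOf_dvd_of_pow_eq_one hj
    obtain ⟨i, -, hi⟩ := (Nat.dvd_prime_pow hp).mp h1
    exact IsPGroup.of_card (n := i) (by rw [Nat.card_zpowers, hi])
  obtain ⟨P', hP'⟩ := hzp.exists_le_sylow
  have hbT : b ∈ T := by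
    have h1 : b ^ (p ^ k) ∈ T := by
      rw [← QuotientGroup.eq_one_iff, QuotientGroup.mk_pow, ← hk, Subgroup.index_eq_card]
      exact pow_card_eq_one'
    have hcop : (p ^ k).Coprime (orderOf b) :=
      Nat.Coprime.pow_left _ ((Nat.Prime.coprime_iff_not_dvd hp).mpr hb)
    obtain ⟨m, hm⟩ := exists_pow_eq_self_of_coprime hcop
    rw [← hm]
    exact T.pow_mem h1 m
  have hdisj : Disjoint (P' : Subgroup M) T := by
    apply Subgroup.disjoint_of_coprime_natCard
    obtain ⟨i, hi⟩ := P'.2.exists_card_eq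
    rw [hi]
    exact Nat.Coprime.pow_left _ ((Nat.Prime.coprime_iff_not_dvd hp).mpr hTc)
  exact Subgroup.commute_of_normal_of_disjoint (P' : Subgroup M) T inferInstance hTn hdisj a b
    (hP' (mem_zpowers a)) hbT

section general
variable {G : Type*} [Group G] [Finite G]

lemma index_dvd_card_of_sup_eq_top {M N : Subgroup G} [N.Normal] (hMN : M ⊔ N = ⊤) :
    M.index ∣ Nat.card N := by
  have e1 : Nat.card N * N.index = Nat.card G := N.card_mul_index
  have e2 : N.index = N.relIndex M := by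
    rw [← relIndex_top_right, ← hMN, relIndex_sup_right]
  have e3 : (N ⊓ M).relIndex M = N.relIndex M := inf_relIndex_right N M
  have e4 : Nat.card (N ⊓ M : Subgroup G) * (N ⊓ M).relIndex M = Nat.card M := by
    have := relIndex_mul_relIndex (H := ⊥) (K := N ⊓ M) (L := M) bot_le inf_le_right
    rwa [relIndex_bot_left, relIndex_bot_left] at this
  have e5 : Nat.card M * M.index = Nat.card G := M.card_mul_index
  have hpos : 0 < N.relIndex M := by
    rw [← e2]
    exact Nat.pos_of_ne_zero N.index_ne_zero_of_finite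
  have e6 : Nat.card N = Nat.card (N ⊓ M : Subgroup G) * M.index := by
    apply Nat.eq_of_mul_eq_mul_right hpos
    calc Nat.card N * N.relIndex M = Nat.card G := by rw [← e2, e1]
      _ = Nat.card M * M.index := e5.symm
      _ = Nat.card (N ⊓ M : Subgroup G) * (N ⊓ M).relIndex M * M.index := by rw [e4]
      _ = Nat.card (N ⊓ M : Subgroup G) * M.index * N.relIndex M := by rw [e3]; ring
  rw [e6]
  exact dvd_mul_left _ _

lemma le_of_coprime_index {N K : Subgroup G} [N.Normal]
    (h : Nat.Coprime (Nat.card K) N.index) : K ≤ N := by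
  rw [← relIndex_eq_one]
  have h1 : N.relIndex K ∣ N.index := relIndex_dvd_index_of_normal N K
  have h2 : N.relIndex K ∣ Nat.card K := relIndex_dvd_card N K
  exact Nat.eq_one_of_dvd_coprimes h h2 h1

/-- complement cardinality: if `Z ⊓ N = ⊥`, `Z ⊔ N = ⊤`, `N` normal then `N.index = |Z|`. -/
lemma index_eq_card_of_compl {Z N : Subgroup G} [N.Normal] (h1 : Z ⊓ N = ⊥) (h2 : Z ⊔ N = ⊤) :
    N.index = Nat.card Z := by
  rw [← relIndex_top_right, ← h2, relIndex_sup_right, ← inf_relIndex_right, inf_comm, h1,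
    relIndex_bot_left]


lemma exists_invariant_sylow {p r : ℕ} [hp : Fact p.Prime] [hr : Fact r.Prime] (N Z : Subgroup G)
    [N.Normal] (hZ : IsPGroup p Z) (hN : ¬ p ∣ Nat.card N) (hidx : ∃ k, N.index = p ^ k)
    (hrp : r ≠ p) : ∃ R : Sylow r G, Z ≤ normalizer ((R : Subgroup G) : Set G) := by
  have hcard : ¬ p ∣ Nat.card (Sylow r G) := by
    let R₀ : Sylow r G := default
    rw [R₀.card_eq_index_normalizer]
    have hR₀N : (R₀ : Subgroup G) ≤ N := by
      apply le_of_coprime_index
      obtain ⟨k, hk⟩ := hidx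
      obtain ⟨j, hj⟩ := R₀.2.exists_card_eq
      rw [hk, hj]
      exact Nat.Coprime.pow _ _ ((Nat.coprime_primes hr.out hp.out).mpr hrp)
    have hfr : normalizer ((R₀ : Subgroup G) : Set G) ⊔ N = ⊤ :=
      Sylow.normalizer_sup_eq_top' R₀ hR₀N
    have := index_dvd_card_of_sup_eq_top hfr
    intro h
    exact hN (dvd_trans h this)
  obtain ⟨R, hR⟩ := hZ.nonempty_fixed_point_of_prime_not_dvd_card (Sylow r G) hcard
  refine ⟨R, fun y hy => ?_⟩
  have := hR ⟨y, hy⟩
  rw [Subgroup.smul_def, Sylow.smul_eq_iff_mem_normalizer] at this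
  exact this

/-- The backward direction, third case. -/
lemma case3 {p : ℕ} (hp : p.Prime) (Z K : Subgroup G) (hZn : Z.Normal) (hKn : K.Normal)
    (hinf : Z ⊓ K = ⊥) (hsup : Z ⊔ K = ⊤) (hZc : Nat.card Z = p)
    (hK : IsMinimalNonNilpotent K) (hpK : ¬ p ∣ Nat.card K)
    (M : Subgroup G) (hM : IsCoatom M) (hpM : p ∣ Nat.card M) : Group.IsNilpotent M := by
  have := Fact.mk hp
  -- Z.index = card K
  have hZidx : Z.index = Nat.card K := by
    rw [inf_comm] at hinf
    rw [sup_comm] at hsup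
    exact index_eq_card_of_compl hinf hsup
  -- Z ≤ M
  obtain ⟨x, hx⟩ := exists_prime_orderOf_dvd_card' (G := M) p hpM
  have hxZ : (x : G) ∈ Z := by
    rw [← QuotientGroup.eq_one_iff]
    have h1 : orderOf ((x : G) : G ⧸ Z) ∣ p := by
      rw [← hx, ← Subgroup.orderOf_coe]
      exact orderOf_map_dvd (QuotientGroup.mk' Z) (x : G)
    have h2 : orderOf ((x : G) : G ⧸ Z) ∣ Nat.card K := by
      rw [← hZidx, Subgroup.index_eq_card]
      exact orderOf_dvd_natCard _
    have h3 : orderOf ((x : G) : G ⧸ Z) = 1 :=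
      Nat.eq_one_of_dvd_coprimes ((Nat.Prime.coprime_iff_not_dvd hp).mpr hpK) h1 h2
    exact orderOf_eq_one_iff.mp h3
  have hZM : Z ≤ M := by
    have h1 : zpowers (x : G) ≤ Z := zpowers_le.mpr hxZ
    have h2 : Nat.card Z ≤ Nat.card (zpowers (x : G)) := by
      rw [Nat.card_zpowers, Subgroup.orderOf_coe, hx, hZc]
    rw [← Subgroup.eq_of_le_of_card_ge h1 h2]
    exact zpowers_le.mpr x.2
  -- Z central
  have hZcomm : IsMulCommutative Z := by
    have : IsCyclic Z := isCyclic_of_prime_card hZc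
    infer_instance
  have hcent : ∀ z ∈ Z, ∀ g : G, g * z = z * g := by
    intro z hz g
    have hg : g ∈ centralizer (Z : Set G) := by
      have : (⊤ : Subgroup G) ≤ centralizer (Z : Set G) := by
        rw [← hsup]
        apply sup_le
        · exact le_centralizer_iff_isMulCommutative.mpr hZcomm
        · intro k hk
          rw [mem_centralizer_iff]
          intro y hy
          exact (Subgroup.commute_of_normal_of_disjoint Z K hZn hKn (disjoint_iff.mpr hinf) y k
            hy hk).eq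
      exact this (mem_top g)
    exact (mem_centralizer_iff.mp hg z hz).symm
  -- L = M ⊓ K nilpotent
  set L := M ⊓ K with hL
  have hLK : L ≤ K := inf_le_right
  have hLne : L.subgroupOf K ≠ ⊤ := by
    intro h
    rw [subgroupOf_eq_top] at h
    have hKM : K ≤ M := h.trans inf_le_left
    apply hM.1
    rw [eq_top_iff, ← hsup]
    exact sup_le hZM hKM
  have hLnil' : Group.IsNilpotent (L.subgroupOf K) := hK.2 _ hLne
  have hLnil : Group.IsNilpotent L :=
    Group.nilpotent_of_mulEquiv (Subgroup.subgroupOfEquivOfLe hLK)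
  -- the homomorphisms
  let f : M →* G ⧸ Z := (QuotientGroup.mk' Z).comp M.subtype
  let g : L →* G ⧸ Z := (QuotientGroup.mk' Z).comp L.subtype
  have hrange : f.range = g.range := by
    apply le_antisymm
    · rintro _ ⟨m, rfl⟩
      -- m = z * l
      have hm : (m : G) ∈ Z ⊔ K := hsup ▸ mem_top _
      rw [← SetLike.mem_coe, Subgroup.normal_mul, Set.mem_mul] at hm
      obtain ⟨z, hz, k, hk, hzk⟩ := hm
      have hkM : k ∈ M := by
        have : k = z⁻¹ * m := by rw [← hzk]; group
        rw [this]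
        exact M.mul_mem (M.inv_mem (hZM hz)) m.2
      refine ⟨⟨k, ⟨hkM, hk⟩⟩, ?_⟩
      show ((k : G) : G ⧸ Z) = ((m : G) : G ⧸ Z)
      rw [← hzk, QuotientGroup.mk_mul, (QuotientGroup.eq_one_iff z).mpr hz, one_mul]
    · rintro _ ⟨l, rfl⟩
      exact ⟨⟨l, l.2.1⟩, rfl⟩
  have hgnil : Group.IsNilpotent g.range :=
    Group.nilpotent_of_surjective g.rangeRestrict g.rangeRestrict_surjective
  have hfnil : Group.IsNilpotent f.range := hrange ▸ hgnil
  apply Subgroup.isNilpotent_of_ker_le_center f.rangeRestrict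
  intro m hm
  rw [MonoidHom.mem_ker] at hm
  have hm' : f m = 1 := by
    have := congrArg Subtype.val hm
    simpa using this
  have hmZ : (m : G) ∈ Z := (QuotientGroup.eq_one_iff (m : G)).mp hm'
  rw [mem_center_iff]
  intro y
  exact Subtype.ext (hcent m hmZ y)


section forward
variable {p : ℕ} (hp : p.Prime)
  (hyp : ∀ M : Subgroup G, IsCoatom M → p ∣ Nat.card M → Group.IsNilpotent M)
include hp hyp

lemma nilp_of_proper (L : Subgroup G) (hL : L ≠ ⊤) (hpL : p ∣ Nat.card L) :
    Group.IsNilpotent L := by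
  obtain ⟨M, hM, hLM⟩ := (eq_top_or_exists_le_coatom L).resolve_left hL
  exact S0581.nilpotent_of_le hLM (hyp M hM (dvd_trans hpL (card_dvd_of_le hLM)))

lemma frob_cond (K₀ : Subgroup G) (hK₀ : IsCoatom K₀) (hK₀n : ¬ Group.IsNilpotent K₀)
    (P : Sylow p G) (Q : Subgroup G) (hQP : Q ≤ P) (g : G) (hg : g ∈ normalizer (Q : Set G))
    (hcop : Nat.Coprime (orderOf g) p) : g ∈ centralizer (Q : Set G) := by
  have := Fact.mk hp
  have hpK₀ : ¬ p ∣ Nat.card K₀ := fun h => hK₀n (hyp K₀ hK₀ h)
  by_cases hQ : Q = ⊥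
  · subst hQ
    rw [mem_centralizer_iff]
    intro x hx
    rw [SetLike.mem_coe, mem_bot] at hx
    rw [hx, one_mul, mul_one]
  have hQp : IsPGroup p Q := P.2.to_le hQP
  have hpQ : p ∣ Nat.card Q := by
    obtain ⟨k, hk⟩ := hQp.exists_card_eq
    rw [hk]
    apply dvd_pow_self
    rintro rfl
    rw [pow_zero] at hk
    exact hQ (card_eq_one.mp hk)
  set L := Q ⊔ zpowers g with hL
  have hpL : p ∣ Nat.card L := dvd_trans hpQ (card_dvd_of_le le_sup_left)
  by_cases hLtop : L = ⊤
  · exfalso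
    have hQn : Q.Normal := by
      rw [← normalizer_eq_top_iff, eq_top_iff, ← hLtop]
      exact sup_le le_normalizer (zpowers_le.mpr hg)
    have hcyc : IsCyclic (G ⧸ Q) := by
      refine ⟨⟨(g : G ⧸ Q), fun y => ?_⟩⟩
      obtain ⟨a, rfl⟩ := QuotientGroup.mk_surjective y
      have ha : a ∈ Q ⊔ zpowers g := by
        rw [← hL, hLtop]
        exact mem_top a
      rw [← SetLike.mem_coe, Subgroup.normal_mul, Set.mem_mul] at ha
      obtain ⟨q, hq, z, hz, rfl⟩ := ha
      obtain ⟨k, rfl⟩ := mem_zpowers_iff.mp hz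
      refine ⟨k, ?_⟩
      simp [QuotientGroup.mk_mul, (QuotientGroup.eq_one_iff q).mpr hq]
    have hcomm : commutator G ≤ Q :=
      Subgroup.Normal.quotient_commutative_iff_commutator_le.mp inferInstance
    have hdisj : Disjoint Q K₀ := by
      apply disjoint_of_coprime_natCard
      obtain ⟨k, hk⟩ := hQp.exists_card_eq
      rw [hk]
      exact Nat.Coprime.pow_left _ ((Nat.Prime.coprime_iff_not_dvd hp).mpr hpK₀)
    apply hK₀n
    apply S0537.nilpotent_of_comm
    refine ⟨⟨fun a b => ?_⟩⟩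
    have h1 : ⁅(a : G), (b : G)⁆ ∈ Q := by
      apply hcomm
      rw [_root_.commutator_def]
      exact commutator_mem_commutator (mem_top _) (mem_top _)
    have h2 : ⁅(a : G), (b : G)⁆ ∈ K₀ := by
      rw [commutatorElement_def]
      exact K₀.mul_mem (K₀.mul_mem (K₀.mul_mem a.2 b.2) (K₀.inv_mem a.2)) (K₀.inv_mem b.2)
    have h3 := disjoint_def.mp hdisj h1 h2
    rw [commutatorElement_eq_one_iff_mul_comm] at h3
    exact Subtype.ext h3
  · have hnil := nilp_of_proper hp hyp L hLtop hpL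
    rw [mem_centralizer_iff]
    intro x hx
    have hxL : x ∈ L := mem_sup_left hx
    have hgL : g ∈ L := mem_sup_right (mem_zpowers g)
    have hc : Commute (⟨x, hxL⟩ : L) ⟨g, hgL⟩ := by
      apply commute_of_nilpotent' hp
      · obtain ⟨k, hk⟩ := hQp ⟨x, hx⟩
        exact ⟨k, Subtype.ext (by simpa using congrArg Subtype.val hk)⟩
      · rw [Subgroup.orderOf_mk]
        exact (Nat.Prime.coprime_iff_not_dvd hp).mp hcop.symm
    exact congrArg Subtype.val hc.eq


lemma forward (hpG : p ∣ Nat.card G) (hnil : ¬ Group.IsNilpotent G)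
    (hmin : ¬ IsMinimalNonNilpotent G) :
    ∃ Z K : Subgroup G, Z.Normal ∧ K.Normal ∧ Z ⊓ K = ⊥ ∧ Z ⊔ K = ⊤ ∧ Nat.card Z = p ∧
      IsMinimalNonNilpotent K ∧ ¬ p ∣ Nat.card K := by
  have := Fact.mk hp
  have hex : ∃ K₀ : Subgroup G, IsCoatom K₀ ∧ ¬ Group.IsNilpotent K₀ := by
    by_contra hcon
    push Not at hcon
    apply hmin
    refine ⟨hnil, fun H hH => ?_⟩
    obtain ⟨M, hM, hHM⟩ := (eq_top_or_exists_le_coatom H).resolve_left hH
    exact S0581.nilpotent_of_le hHM (hcon M hM)
  obtain ⟨K₀, hK₀, hK₀n⟩ := hex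
  have hpK₀ : ¬ p ∣ Nat.card K₀ := fun h => hK₀n (hyp K₀ hK₀ h)
  let P : Sylow p G := default
  obtain ⟨N, hNn, hNc⟩ := (S0071.result P).mpr
    (fun Q hQP g hg hcop => frob_cond hp hyp K₀ hK₀ hK₀n P Q hQP g hg hcop)
  have hNidx : N.index = Nat.card P := by
    have h1 := hNc.card_mul_card
    have h2 := N.card_mul_index
    rw [← h2] at h1
    exact (Nat.eq_of_mul_eq_mul_left Nat.card_pos h1).symm
  obtain ⟨k, hk⟩ := P.2.exists_card_eq
  have hK₀N : K₀ ≤ N := by
    apply le_of_coprime_index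
    rw [hNidx, hk]
    exact Nat.Coprime.pow_right _ ((Nat.Prime.coprime_iff_not_dvd hp).mpr hpK₀).symm
  have hNtop : N ≠ ⊤ := by
    intro h
    rw [h, index_top] at hNidx
    have hPbot : (P : Subgroup G) = ⊥ := card_eq_one.mp hNidx.symm
    exact P.ne_bot_of_dvd_card hpG hPbot
  have hNK : N = K₀ := by
    rcases eq_or_lt_of_le hK₀N with h | h
    · exact h.symm
    · exact absurd (hK₀.2 N h) hNtop
  rw [hNK] at hNn hNc hNidx
  clear hK₀N hNtop hNK N
  -- the subgroup Z
  obtain ⟨z, hz⟩ := exists_prime_orderOf_dvd_card' (G := G) p hpG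
  set Z := zpowers z with hZ
  have hZc : Nat.card Z = p := by rw [Nat.card_zpowers, hz]
  have hinf : Z ⊓ K₀ = ⊥ := by
    apply (disjoint_of_coprime_natCard _).eq_bot
    rw [hZc]
    exact (Nat.Prime.coprime_iff_not_dvd hp).mpr hpK₀
  have hzK : z ∉ K₀ := by
    intro h
    have h1 : z ∈ Z ⊓ K₀ := ⟨mem_zpowers z, h⟩
    rw [hinf, mem_bot] at h1
    rw [h1, orderOf_one] at hz
    exact hp.one_lt.ne hz
  have hsup : Z ⊔ K₀ = ⊤ := by
    by_contra h
    have hlt : K₀ < Z ⊔ K₀ := by
      refine lt_of_le_of_ne le_sup_right (fun h' => hzK ?_)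
      rw [h']
      exact mem_sup_left (mem_zpowers z)
    exact h (hK₀.2 _ hlt)
  have hK₀idx : K₀.index = p := by rw [index_eq_card_of_compl hinf hsup, hZc]
  have hZidx : Z.index = Nat.card K₀ := by
    have h1 := Z.card_mul_index
    have h2 := K₀.card_mul_index
    rw [hZc] at h1
    rw [hK₀idx, ← h1, mul_comm] at h2
    exact (Nat.eq_of_mul_eq_mul_left hp.pos h2).symm
  have hZp : IsPGroup p Z := IsPGroup.of_card (n := 1) (by rw [hZc, pow_one])
  -- z is central
  have hcent : centralizer ({z} : Set G) = ⊤ := by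
    rw [← index_eq_one]
    by_contra hidx
    obtain ⟨r, hr, hrd⟩ := Nat.exists_prime_and_dvd hidx
    have := Fact.mk hr
    have hZC : Z ≤ centralizer ({z} : Set G) := by
      rw [hZ, zpowers_le, mem_centralizer_iff]
      intro y hy
      rw [Set.mem_singleton_iff] at hy
      rw [hy]
    have hrp : r ≠ p := by
      rintro rfl
      have : r ∣ Z.index := dvd_trans hrd (index_dvd_of_le hZC)
      rw [hZidx] at this
      exact hpK₀ this
    obtain ⟨R, hR⟩ := exists_invariant_sylow K₀ Z hZp hpK₀ ⟨1, by rw [hK₀idx, pow_one]⟩ hrp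
    have hRK : (R : Subgroup G) ≤ K₀ := by
      apply le_of_coprime_index
      obtain ⟨j, hj⟩ := R.2.exists_card_eq
      rw [hK₀idx, hj]
      exact Nat.Coprime.pow_left _ ((Nat.coprime_primes hr hp).mpr hrp)
    have hRZ : Z ⊔ (R : Subgroup G) ≠ ⊤ := by
      intro htop
      apply hK₀n
      have hle : K₀ ≤ R := by
        intro n hn
        have hn' : n ∈ Z ⊔ (R : Subgroup G) := htop ▸ mem_top n
        rw [← SetLike.mem_coe, coe_mul_of_left_le_normalizer_right Z R hR, Set.mem_mul] at hn'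
        obtain ⟨y, hy, x, hx, rfl⟩ := hn'
        have hyK : y ∈ K₀ := by
          have : y = (y * x) * x⁻¹ := by group
          rw [this]
          exact K₀.mul_mem hn (K₀.inv_mem (hRK hx))
        have h1 : y ∈ Z ⊓ K₀ := ⟨hy, hyK⟩
        rw [hinf, mem_bot] at h1
        rw [h1, one_mul]
        exact hx
      have h2 : IsPGroup r K₀ := R.2.to_le hle
      exact h2.isNilpotent
    have hpZR : p ∣ Nat.card ↥(Z ⊔ (R : Subgroup G)) := by
      have := card_dvd_of_le (le_sup_left : Z ≤ Z ⊔ (R : Subgroup G))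
      rwa [hZc] at this
    have hnilZR := nilp_of_proper hp hyp _ hRZ hpZR
    have hRC : (R : Subgroup G) ≤ centralizer ({z} : Set G) := by
      intro x hx
      rw [mem_centralizer_iff]
      intro y hy
      rw [Set.mem_singleton_iff] at hy
      subst hy
      have hzL : y ∈ Z ⊔ (R : Subgroup G) := mem_sup_left (mem_zpowers y)
      have hxL : x ∈ Z ⊔ (R : Subgroup G) := mem_sup_right hx
      have hc : Commute (⟨y, hzL⟩ : ↥(Z ⊔ (R : Subgroup G))) ⟨x, hxL⟩ := by
        apply S0536.commute_of_nilpotent hp hr hrp.symm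
        · refine ⟨1, Subtype.ext ?_⟩
          simp only [pow_one, SubmonoidClass.mk_pow, OneMemClass.coe_one]
          rw [← hz]
          exact pow_orderOf_eq_one y
        · obtain ⟨k, hk⟩ := R.2 ⟨x, hx⟩
          exact ⟨k, Subtype.ext (by simpa using congrArg Subtype.val hk)⟩
      exact congrArg Subtype.val hc.eq
    exact R.not_dvd_index (dvd_trans hrd (index_dvd_of_le hRC))
  have hzc : ∀ g : G, g * z = z * g := by
    intro g
    have hg : g ∈ centralizer ({z} : Set G) := hcent ▸ mem_top g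
    exact (mem_centralizer_iff.mp hg z rfl).symm
  have hZn : Z.Normal := by
    refine ⟨fun a ha g => ?_⟩
    obtain ⟨k, rfl⟩ := mem_zpowers_iff.mp ha
    have : g * z ^ k * g⁻¹ = z ^ k := by
      have hc : Commute g z := hzc g
      rw [(hc.zpow_right k).eq, mul_inv_cancel_right]
    rw [this]
    exact zpow_mem (mem_zpowers z) k
  refine ⟨Z, K₀, hZn, hNn, hinf, hsup, hZc, ⟨hK₀n, fun L' hL' => ?_⟩, hpK₀⟩
  -- proper subgroups of K₀ are nilpotent
  set L := L'.map K₀.subtype with hLdef
  have hLK : L ≤ K₀ := map_subtype_le _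
  have hZL : Z ⊔ L ≠ ⊤ := by
    intro htop
    apply hL'
    rw [eq_top_iff]
    intro n _
    have hn' : (n : G) ∈ Z ⊔ L := htop ▸ mem_top _
    rw [← SetLike.mem_coe, Subgroup.normal_mul, Set.mem_mul] at hn'
    obtain ⟨y, hy, x, hx, hyx⟩ := hn'
    have hyK : y ∈ K₀ := by
      have : y = (n : G) * x⁻¹ := by rw [← hyx]; group
      rw [this]
      exact K₀.mul_mem n.2 (K₀.inv_mem (hLK hx))
    have h1 : y ∈ Z ⊓ K₀ := ⟨hy, hyK⟩
    rw [hinf, mem_bot] at h1
    rw [h1, one_mul] at hyx
    obtain ⟨x', hx', hxx⟩ := hx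
    have : x' = n := Subtype.ext (hxx.trans hyx)
    rwa [← this]
  have hpZL : p ∣ Nat.card ↥(Z ⊔ L) := by
    have := card_dvd_of_le (le_sup_left : Z ≤ Z ⊔ L)
    rwa [hZc] at this
  have hnilZL := nilp_of_proper hp hyp _ hZL hpZL
  have hLnil : Group.IsNilpotent L := S0581.nilpotent_of_le le_sup_right hnilZL
  exact Group.nilpotent_of_mulEquiv
    (Subgroup.equivMapOfInjective L' K₀.subtype K₀.subtype_injective).symm

end forward
end general

/-- Let G be a finite group and p a prime dividing its order. Every maximal subgroup of G of order divisible by p is nilpotent if and only if G is nilpotent, or G is a minimal non-nilpotent group, or G is the internal direct product of a normal subgroup of order p and a normal minimal non-nilpotent subgroup of order prime to p. -/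
theorem result {G : Type*} [Group G] [Finite G] (p : ℕ) (hp : p.Prime) (hpG : p ∣ Nat.card G) :
    (∀ M : Subgroup G, IsCoatom M → p ∣ Nat.card M → Group.IsNilpotent M) ↔
      (Group.IsNilpotent G ∨ Cfsg.IsMinimalNonNilpotent G ∨
        ∃ Z K : Subgroup G, Z.Normal ∧ K.Normal ∧ Z ⊓ K = ⊥ ∧ Z ⊔ K = ⊤ ∧ Nat.card Z = p ∧
          Cfsg.IsMinimalNonNilpotent K ∧ ¬ p ∣ Nat.card K) := by
  constructor
  · intro hyp
    by_cases hnil : Group.IsNilpotent G
    · exact Or.inl hnil
    by_cases hmin : IsMinimalNonNilpotent G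
    · exact Or.inr (Or.inl hmin)
    exact Or.inr (Or.inr (forward hp hyp hpG hnil hmin))
  · rintro (hnil | hmin | ⟨Z, K, hZn, hKn, hinf, hsup, hZc, hK, hpK⟩)
    · intro M _ _
      infer_instance
    · intro M hM _
      exact hmin.2 M hM.1
    · intro M hM hpM
      exact case3 hp Z K hZn hKn hinf hsup hZc hK hpK M hM hpM

end Cfsg.Agent.S4242
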