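import Cfsg.Statements.S4244

set_option autoImplicit false
open Cfsg

namespace Cfsg.Agent.S4244

/-- For a normal subgroup `H` of a finite group, `|H : H ∩ K|` divides `|G : K|`. -/
theorem relIndex_dvd_index_of_normal_right {G : Type*} [Group G] [Finite G] (H K : Subgroup G) [H.Normal] :
    K.relIndex H ∣ K.index := by
  have h1 : K.relIndex H * H.index = (H ⊓ K).index := by
    rw [← Subgroup.inf_relIndex_left, Subgroup.relIndex_mul_index inf_le_left]
  have h2 : H.relIndex K * K.index = (H ⊓ K).index := by
    rw [← Subgroup.inf_relIndex_right, Subgroup.relIndex_mul_index inf_le_right]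
  obtain ⟨c, hc⟩ := Subgroup.relIndex_dvd_index_of_normal H K
  -- H.index = H.relIndex K * c
  have hpos : 0 < H.relIndex K := Nat.pos_of_ne_zero (H.subgroupOf K).index_ne_zero_of_finite
  refine ⟨c, ?_⟩
  have : H.relIndex K * K.index = H.relIndex K * (K.relIndex H * c) := by
    rw [h2, ← h1, hc]; ring
  exact Nat.eq_of_mul_eq_mul_left hpos this

theorem aux {G : Type*} [Group G] [Finite G] (H : Subgroup G) (hH : H.IsSubnormal) :
    ∀ K : Subgroup G, K.relIndex H ∣ K.index := by
  induction hH with
  | top => intro K; simp
  | step H L hle hL hN ih =>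
    intro K
    refine dvd_trans ?_ (ih K)
    have := relIndex_dvd_index_of_normal_right (H.subgroupOf L) (K.subgroupOf L)
    rw [Subgroup.relIndex_subgroupOf hle] at this
    exact this

/-- Let H be a subnormal subgroup of a finite group G. Then for every subgroup K of G the index of H ∩ K in H divides the index of K in G. -/
theorem result {G : Type*} [Group G] [Finite G] (H : Subgroup G) (hH : H.IsSubnormal) (K : Subgroup G) :
    (H ⊓ K).relIndex H ∣ K.index := by
  rw [Subgroup.inf_relIndex_left]
  exact aux H hH K

end Cfsg.Agent.S4244
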