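import Cfsg.Statements.S4245
import Mathlib
import Cfsg.Agent.S4244
import Cfsg.Agent.Lib.BurnsidePQ
import Cfsg.Agent.Helper53.NormalComplement
import Cfsg.Agent.Helper70.Regular

set_option autoImplicit false
open Cfsg

namespace Cfsg.Agent.S4245

open Subgroup

universe u

/-- cyclic-by-(cyclic 2-group) -/
def MC2 (A : Type*) [Group A] : Prop :=
  ∃ (B : Subgroup A) (_ : B.Normal), IsCyclic B ∧ IsCyclic (A ⧸ B) ∧ ∃ r : ℕ, Nat.card (A ⧸ B) = 2 ^ r

theorem MC2.of_injective {A₁ A₀ : Type*} [Group A₁] [Group A₀] (f : A₁ →* A₀)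
    (hf : Function.Injective f) (h : MC2 A₀) : MC2 A₁ := by
  obtain ⟨B₀, hB₀n, hB₀c, hQc, r, hr⟩ := h
  refine ⟨B₀.comap f, hB₀n.comap f, ?_, ?_⟩
  · -- cyclic
    have hinj : Function.Injective (f.subgroupComap B₀) := by
      intro x y hxy
      apply Subtype.ext
      apply hf
      exact congrArg Subtype.val hxy
    exact isCyclic_of_injective (f.subgroupComap B₀) hinj
  · haveI := hB₀n
    haveI : (B₀.comap f).Normal := hB₀n.comap f
    let φ : A₁ ⧸ B₀.comap f →* A₀ ⧸ B₀ := QuotientGroup.map (B₀.comap f) B₀ f le_rfl
    have hφ : Function.Injective φ := by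
      rw [injective_iff_map_eq_one]
      intro x hx
      obtain ⟨a, rfl⟩ := QuotientGroup.mk_surjective x
      have h1 : φ (QuotientGroup.mk a) = QuotientGroup.mk (f a) := rfl
      rw [h1, QuotientGroup.eq_one_iff] at hx
      exact (QuotientGroup.eq_one_iff a).mpr hx
    refine ⟨isCyclic_of_injective φ hφ, ?_⟩
    have hdvd : Nat.card (A₁ ⧸ B₀.comap f) ∣ 2 ^ r := hr ▸ Subgroup.card_dvd_of_injective φ hφ
    obtain ⟨j, -, hj⟩ := (Nat.dvd_prime_pow Nat.prime_two).mp hdvd
    exact ⟨j, hj⟩

theorem MC2.of_surjective {A₀ A₂ : Type*} [Group A₀] [Group A₂] (f : A₀ →* A₂)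
    (hf : Function.Surjective f) (h : MC2 A₀) : MC2 A₂ := by
  obtain ⟨B₀, hB₀n, hB₀c, hQc, r, hr⟩ := h
  refine ⟨B₀.map f, hB₀n.map f hf, ?_, ?_⟩
  · exact isCyclic_of_surjective (f.subgroupMap B₀) (f.subgroupMap_surjective B₀)
  · haveI := hB₀n
    haveI : (B₀.map f).Normal := hB₀n.map f hf
    let φ : A₀ ⧸ B₀ →* A₂ ⧸ B₀.map f := QuotientGroup.map B₀ (B₀.map f) f (Subgroup.le_comap_map f B₀)
    have hφ : Function.Surjective φ := by
      intro x
      obtain ⟨a, rfl⟩ := QuotientGroup.mk_surjective x
      obtain ⟨a₀, rfl⟩ := hf a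
      exact ⟨QuotientGroup.mk a₀, rfl⟩
    refine ⟨isCyclic_of_surjective φ hφ, ?_⟩
    have hdvd : Nat.card (A₂ ⧸ B₀.map f) ∣ 2 ^ r := hr ▸ Subgroup.card_dvd_of_surjective φ hφ
    obtain ⟨j, -, hj⟩ := (Nat.dvd_prime_pow Nat.prime_two).mp hdvd
    exact ⟨j, hj⟩

/-- the hypothesis of the theorem -/
def P (G : Type*) [Group G] : Prop :=
  ∃ (A : Subgroup G) (p s : ℕ), p.Prime ∧ A.index = p ^ s ∧ MC2 A

theorem P.normal {G : Type*} [Group G] [Finite G] (N : Subgroup G) [hN : N.Normal] (h : P G) : P N := by
  obtain ⟨A, p, s, hp, hidx, hMC⟩ := h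
  have hdvd : (A.subgroupOf N).index ∣ p ^ s := by
    rw [← hidx]
    exact Cfsg.Agent.S4244.relIndex_dvd_index_of_normal_right N A
  obtain ⟨j, -, hj⟩ := (Nat.dvd_prime_pow hp).mp hdvd
  refine ⟨A.subgroupOf N, p, j, hp, hj, ?_⟩
  have hinj : Function.Injective ((N.subtype).subgroupComap A) := by
    intro x y hxy
    apply Subtype.ext
    apply N.subtype_injective
    have := congrArg Subtype.val hxy
    exact this
  exact MC2.of_injective ((N.subtype).subgroupComap A) hinj hMC

theorem P.quotient {G : Type*} [Group G] [Finite G] (N : Subgroup G) [hN : N.Normal] (h : P G) :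
    P (G ⧸ N) := by
  obtain ⟨A, p, s, hp, hidx, hMC⟩ := h
  have hdvd : (A.map (QuotientGroup.mk' N)).index ∣ p ^ s := by
    rw [← hidx]
    exact Subgroup.index_map_dvd A (QuotientGroup.mk'_surjective N)
  obtain ⟨j, -, hj⟩ := (Nat.dvd_prime_pow hp).mp hdvd
  refine ⟨A.map (QuotientGroup.mk' N), p, j, hp, hj, ?_⟩
  exact MC2.of_surjective ((QuotientGroup.mk' N).subgroupMap A)
    ((QuotientGroup.mk' N).subgroupMap_surjective A) hMC

theorem center_bot_of_simple {G : Type*} [Group G] (hs : IsSimpleGroup G)
    (hnc : ¬ ∀ a b : G, a * b = b * a) : center G = ⊥ := by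
  rcases hs.eq_bot_or_eq_top_of_normal (center G) inferInstance with h | h
  · exact h
  · exfalso
    apply hnc
    intro a b
    have ha : a ∈ center G := h ▸ mem_top a
    exact ((mem_center_iff.mp ha) b).symm

theorem burnside_apply {G : Type u} [Group G] [Finite G] (hs : IsSimpleGroup G)
    (hnc : ¬ ∀ a b : G, a * b = b * a) (q : ℕ) (hq : q.Prime) (k : ℕ) (x : G) (hx : x ≠ 1)
    (hdvd : (centralizer ({x} : Set G)).index ∣ q ^ k) : False := by
  obtain ⟨j, -, hj⟩ := (Nat.dvd_prime_pow hq).mp hdvd
  rcases Nat.eq_zero_or_pos j with h0 | h0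
  · rw [h0, pow_zero, Subgroup.index_eq_one] at hj
    have hxc : x ∈ center G := by
      rw [mem_center_iff]
      intro g
      have hg : g ∈ centralizer ({x} : Set G) := hj ▸ mem_top g
      exact (mem_centralizer_iff.mp hg x (Set.mem_singleton x)).symm
    rw [center_bot_of_simple hs hnc, mem_bot] at hxc
    exact hx hxc
  · exact Cfsg.Agent.Lib.not_isSimpleGroup_of_index_centralizer_eq_prime_pow hq h0.ne' x hj hs

theorem index_centralizer_dvd {G : Type*} [Group G] [Finite G] (A : Subgroup G) (x₀ : A) :
    (centralizer ({(x₀ : G)} : Set G)).index ∣ (centralizer ({x₀} : Set A)).index * A.index := by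
  rw [← Subgroup.index_map_subtype]
  apply Subgroup.index_dvd_of_le
  rintro _ ⟨a, ha, rfl⟩
  rw [mem_centralizer_iff]
  intro y hy
  rw [Set.mem_singleton_iff] at hy
  subst hy
  have := mem_centralizer_iff.mp ha x₀ (Set.mem_singleton x₀)
  exact congrArg Subtype.val this

theorem solvable_of_card_prime_pow {G : Type*} [Group G] [Finite G] (q : ℕ) (hq : q.Prime) (k : ℕ)
    (h : Nat.card G = q ^ k) : Group.IsSolvable G := by
  haveI : Fact q.Prime := ⟨hq⟩
  have hp : IsPGroup q G := IsPGroup.of_card h
  haveI : Group.IsNilpotent G := hp.isNilpotent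
  infer_instance


theorem simple_case {G : Type u} [Group G] [Finite G] (hs : IsSimpleGroup G) (h : P G) :
    Group.IsSolvable G := by
  by_cases hnc : ∀ a b : G, a * b = b * a
  · exact Group.isSolvable_of_comm hnc
  by_contra hns
  obtain ⟨A, p, s, hp, hidx, B, hBn, hBc, hQc, r, hr⟩ := h
  haveI := hBn
  have cardA : Nat.card A = 2 ^ r * Nat.card B := by
    rw [← hr]; exact Subgroup.card_eq_card_quotient_mul_card_subgroup B
  have cardG : Nat.card G = p ^ s * Nat.card A := by
    rw [← hidx]; exact (Subgroup.index_mul_card A).symm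
  -- elements of `B` have centralizers of 2-power index in `A`
  have factC : ∀ x₀ : A, x₀ ∈ B → (centralizer ({x₀} : Set A)).index ∣ 2 ^ r := by
    intro x₀ hx₀
    have hle : B ≤ centralizer ({x₀} : Set A) := by
      intro b hb
      rw [mem_centralizer_iff]
      intro y hy
      rw [Set.mem_singleton_iff] at hy
      subst hy
      letI := IsCyclic.commGroup (α := B)
      have := mul_comm (⟨y, hx₀⟩ : B) ⟨b, hb⟩
      exact congrArg Subtype.val this
    have h1 := Subgroup.index_dvd_of_le hle
    have h2 : B.index = 2 ^ r := hr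
    rwa [h2] at h1
  -- a nontrivial element of B gives a class of size dividing p^s 2^r
  have key : ∀ x₀ : A, x₀ ∈ B → x₀ ≠ 1 → ∀ m : ℕ, (centralizer ({x₀} : Set A)).index ∣ m →
      (centralizer ({(x₀ : G)} : Set G)).index ∣ m * p ^ s := by
    intro x₀ _ _ m hm
    refine (index_centralizer_dvd A x₀).trans ?_
    rw [hidx]
    exact Nat.mul_dvd_mul_right hm _
  by_cases hp2 : p = 2
  · -- p = 2
    subst hp2
    by_cases hB : B = ⊥
    · apply hns
      have : Nat.card B = 1 := by rw [hB]; exact Subgroup.card_bot
      rw [this, mul_one] at cardA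
      rw [cardA, ← pow_add] at cardG
      exact solvable_of_card_prime_pow 2 Nat.prime_two _ cardG
    · obtain ⟨x₀, hx₀, hne⟩ : ∃ x₀ : A, x₀ ∈ B ∧ x₀ ≠ 1 := by
        obtain ⟨x, hx⟩ := (Subgroup.ne_bot_iff_exists_ne_one).mp hB
        exact ⟨x.1, x.2, fun h => hx (Subtype.ext h)⟩
      have h1 := key x₀ hx₀ hne _ (factC x₀ hx₀)
      rw [← pow_add] at h1
      exact burnside_apply hs hnc 2 Nat.prime_two _ (x₀ : G)
        (fun h => hne (Subtype.ext h)) h1
  · -- p odd
    have hpodd : ¬ 2 ∣ p := fun h => hp2 ((Nat.prime_dvd_prime_iff_eq Nat.prime_two hp).mp h).symm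
    haveI : Fact (Nat.Prime 2) := ⟨Nat.prime_two⟩
    by_cases h2B : 2 ∣ Nat.card B
    · -- the involution of B is central in A
      obtain ⟨b, hb⟩ := exists_prime_orderOf_dvd_card' 2 h2B
      have hb1 : b ≠ 1 := by
        intro h1; rw [h1, orderOf_one] at hb; omega
      have hb2 : b ^ 2 = 1 := by rw [← hb]; exact pow_orderOf_eq_one b
      have hcent : centralizer ({(b : A)} : Set A) = ⊤ := by
        rw [eq_top_iff]
        intro a _
        rw [mem_centralizer_iff]
        intro y hy
        rw [Set.mem_singleton_iff] at hy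
        subst hy
        obtain ⟨c, hc⟩ : ∃ c : B, (c : A) = a * b * a⁻¹ := ⟨⟨_, hBn.conj_mem b b.2 a⟩, rfl⟩
        have hc2 : c ^ 2 = 1 := by
          apply Subtype.ext
          have hb2' : (b : A) ^ 2 = 1 := by
            have := congrArg Subtype.val hb2
            simpa using this
          rw [Subgroup.coe_pow, hc, conj_pow, hb2']
          simp
        have hc1 : c ≠ 1 := by
          intro h1
          apply hb1
          have h2 : a * (b : A) * a⁻¹ = 1 := by rw [← hc, h1]; rfl
          have h3 : (b : A) = 1 := by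
            have : (b : A) = a⁻¹ * (a * (b : A) * a⁻¹) * a := by group
            rw [this, h2]; group
          exact Subtype.ext h3
        have hcb : c = b := by
          classical
          haveI : Fintype B := Fintype.ofFinite B
          by_contra hne
          have hle := IsCyclic.card_pow_eq_one_le (α := B) (n := 2) (by norm_num)
          have hsub : ({1, b, c} : Finset B) ⊆ Finset.univ.filter (fun a : B => a ^ 2 = 1) := by
            intro z hz
            simp only [Finset.mem_insert, Finset.mem_singleton] at hz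
            simp only [Finset.mem_filter, Finset.mem_univ, true_and]
            rcases hz with rfl | rfl | rfl
            · simp
            · exact hb2
            · exact hc2
          have hcard : ({1, b, c} : Finset B).card = 3 := by
            rw [Finset.card_insert_of_notMem, Finset.card_insert_of_notMem, Finset.card_singleton]
            · simpa using fun h => hne h.symm
            · simp only [Finset.mem_insert, Finset.mem_singleton, not_or]
              exact ⟨fun h => hb1 h.symm, fun h => hc1 h.symm⟩
          have := Finset.card_le_card hsub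
          omega
        have h4 : a * (b : A) * a⁻¹ = b := by rw [← hc, hcb]
        calc (b : A) * a = (a * (b : A) * a⁻¹) * a := by rw [h4]
          _ = a * b := by group
      have hbA1 : (b : A) ≠ 1 := fun h => hb1 (Subtype.ext h)
      have h1 := key (b : A) b.2 hbA1 1 (by rw [hcent, Subgroup.index_top])
      rw [one_mul] at h1
      exact burnside_apply hs hnc p hp _ ((b : A) : G) (fun h => hbA1 (Subtype.ext h)) h1
    · -- |B| odd
      by_cases hr0 : r = 0
      · subst hr0
        by_cases hB : B = ⊥
        · apply hns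
          have : Nat.card B = 1 := by rw [hB]; exact Subgroup.card_bot
          rw [this, pow_zero, mul_one] at cardA
          rw [cardA, mul_one] at cardG
          exact solvable_of_card_prime_pow p hp _ cardG
        · obtain ⟨x, hx⟩ := (Subgroup.ne_bot_iff_exists_ne_one).mp hB
          have hxA1 : (x : A) ≠ 1 := fun h => hx (Subtype.ext h)
          have h1 := key (x : A) x.2 hxA1 _ (factC (x : A) x.2)
          rw [pow_zero, one_mul] at h1
          exact burnside_apply hs hnc p hp _ ((x : A) : G) (fun h => hxA1 (Subtype.ext h)) h1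
      · -- the Sylow 2-subgroups of G are cyclic and nontrivial
        have hBodd : ¬ 2 ∣ Nat.card B := h2B
        obtain ⟨T₀⟩ : Nonempty (Sylow 2 A) := inferInstance
        -- T₀ embeds into A ⧸ B
        let ψ : (T₀ : Subgroup A) →* A ⧸ B := (QuotientGroup.mk' B).comp (T₀ : Subgroup A).subtype
        have hψ : Function.Injective ψ := by
          rw [injective_iff_map_eq_one]
          intro t ht
          have htB : (t : A) ∈ B := (QuotientGroup.eq_one_iff _).mp ht
          have h1 : orderOf (t : A) ∣ Nat.card B := Subgroup.orderOf_dvd_natCard B htB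
          obtain ⟨k, hk⟩ := (IsPGroup.iff_orderOf.mp T₀.2) t
          rw [Subgroup.orderOf_coe] at h1
          rw [hk] at h1
          rcases Nat.eq_zero_or_pos k with h0 | h0
          · rw [h0, pow_zero] at hk
            exact orderOf_eq_one_iff.mp hk
          · exact absurd ((dvd_pow_self 2 h0.ne').trans h1) hBodd
        have hT₀c : IsCyclic (T₀ : Subgroup A) := isCyclic_of_injective ψ hψ
        have hT₀card : Nat.card (T₀ : Subgroup A) = 2 ^ (Nat.card A).factorization 2 :=
          T₀.card_eq_multiplicity
        have hfac : (Nat.card G).factorization 2 = (Nat.card A).factorization 2 := by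
          rw [cardG, Nat.factorization_mul (pow_ne_zero _ hp.ne_zero) Nat.card_pos.ne']
          have : (p ^ s).factorization 2 = 0 := by
            apply Nat.factorization_eq_zero_of_not_dvd
            intro h
            exact hpodd (Nat.prime_two.dvd_of_dvd_pow h)
          rw [Finsupp.add_apply, this, zero_add]
        obtain ⟨T, hT⟩ : ∃ T : Subgroup G, T = (T₀ : Subgroup A).map A.subtype := ⟨_, rfl⟩
        have hTcard : Nat.card T = 2 ^ (Nat.card G).factorization 2 := by
          rw [hT, Subgroup.card_map_of_injective A.subtype_injective, hT₀card, hfac]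
        let S : Sylow 2 G := Sylow.ofCard T hTcard
        have hSc : IsCyclic ↥(S : Subgroup G) := by
          have e : (T₀ : Subgroup A) ≃* ↥((T₀ : Subgroup A).map A.subtype) :=
            Subgroup.equivMapOfInjective (T₀ : Subgroup A) A.subtype A.subtype_injective
          have h1 : IsCyclic ↥((T₀ : Subgroup A).map A.subtype) :=
            isCyclic_of_surjective e e.surjective
          have h2 : (S : Subgroup G) = (T₀ : Subgroup A).map A.subtype := hT
          rw [h2]; exact h1
        obtain ⟨S', K, hKn, hKS'⟩ := Cfsg.Agent.Helper53.hasNormalPComplement_two_of_isCyclic S hSc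
        have hcm := hKS'.card_mul_card
        have hS'card : Nat.card (S' : Subgroup G) = 2 ^ (Nat.card G).factorization 2 :=
          S'.card_eq_multiplicity
        rcases hs.eq_bot_or_eq_top_of_normal K hKn with hK | hK
        · apply hns
          rw [hK, Subgroup.card_bot, one_mul, hS'card] at hcm
          exact solvable_of_card_prime_pow 2 Nat.prime_two _ hcm.symm
        · rw [hK, Subgroup.card_top] at hcm
          have h1 : Nat.card (S' : Subgroup G) = 1 := by
            have hpos : 0 < Nat.card G := Nat.card_pos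
            nlinarith [hcm]
          rw [hS'card] at h1
          have h2 : (Nat.card G).factorization 2 = 0 := by
            by_contra hne
            have : 2 ≤ 2 ^ (Nat.card G).factorization 2 := by
              calc 2 = 2 ^ 1 := by norm_num
                _ ≤ 2 ^ (Nat.card G).factorization 2 :=
                  Nat.pow_le_pow_right (by norm_num) (Nat.one_le_iff_ne_zero.mpr hne)
            omega
          have h3 : 2 ∣ Nat.card G := by
            rw [cardG, cardA]
            have : 2 ∣ 2 ^ r := dvd_pow_self 2 hr0
            exact (this.mul_right _).mul_left _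
          rcases (Nat.factorization_eq_zero_iff _ _).mp h2 with h | h | h
          · exact absurd Nat.prime_two h
          · exact h h3
          · exact Nat.card_pos.ne' h


theorem main : ∀ (n : ℕ) (G : Type u) [Group G] [Finite G], Nat.card G = n → P G →
    Group.IsSolvable G := by
  intro n
  induction n using Nat.strong_induction_on with
  | _ n ih =>
    intro G _ _ hcard hP
    by_cases htriv : Subsingleton G
    · exact Group.isSolvable_of_comm (fun a b => Subsingleton.elim _ _)
    haveI : Nontrivial G := not_subsingleton_iff_nontrivial.mp htriv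
    by_cases hsimp : ∀ N : Subgroup G, N.Normal → N = ⊥ ∨ N = ⊤
    · have hs : IsSimpleGroup G := ⟨hsimp⟩
      exact simple_case hs hP
    · push Not at hsimp
      obtain ⟨N, hNn, hNb, hNt⟩ := hsimp
      haveI := hNn
      have h1 : Nat.card N < n := hcard ▸ Cfsg.Agent.Helper70.card_lt_of_ne_top N hNt
      haveI hNs : Group.IsSolvable N := ih _ h1 N rfl (P.normal N hP)
      have h2 : Nat.card (G ⧸ N) < n := by
        have hmul := Subgroup.index_mul_card N
        rw [Subgroup.index_eq_card] at hmul
        have hN1 : 1 < Nat.card N := by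
          rw [Subgroup.one_lt_card_iff_ne_bot]; exact hNb
        have hpos : 0 < Nat.card (G ⧸ N) := Nat.card_pos
        rw [← hcard, ← hmul]
        nlinarith
      haveI : Group.IsSolvable (G ⧸ N) := ih _ h2 (G ⧸ N) rfl (P.quotient N hP)
      exact Group.isSolvable_of_ker_le_range N.subtype (QuotientGroup.mk' N) (by simp)


/-- Let G be a finite group with a subgroup A of prime-power index. Suppose A has a normal cyclic subgroup B such that A/B is cyclic of order a power of 2. Then G is solvable. -/
theorem result {G : Type*} [Group G] [Finite G] (A : Subgroup G) (p s : ℕ) (hp : p.Prime) (hA : A.index = p ^ s)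
    (B : Subgroup A) [B.Normal] (hB : IsCyclic B) (hAB : IsCyclic (A ⧸ B)) (r : ℕ) (hr : Nat.card (A ⧸ B) = 2 ^ r) :
    Group.IsSolvable G := by
  exact main _ G rfl ⟨A, p, s, hp, hA, B, inferInstance, hB, hAB, r, hr⟩

end Cfsg.Agent.S4245
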