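import Cfsg.Statements.S4249
import Cfsg.Agent.Helper35.KegelMain

set_option autoImplicit false
open Cfsg

namespace Cfsg.Agent.S4249

open Cfsg.Agent.Helper35.Kegel

/-- a normal subgroup `L ≠ ⊤` outside of which every element has `p`-th power `1` is nilpotent -/
theorem isNilpotent_of_outside {G : Type*} [Group G] [Finite G] {p : ℕ} (hp : p.Prime)
    (L : Subgroup G) [L.Normal] (hL : L ≠ ⊤) (hout : ∀ g : G, g ∉ L → g ^ p = 1) :
    Group.IsNilpotent ↥L := by
  obtain ⟨x, hx⟩ : ∃ x : G, x ∉ L := by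
    by_contra h
    push Not at h
    exact hL (eq_top_iff.mpr fun g _ => h g)
  have hs : Spl p (MulAut.conjNormal x : ↥L ≃* ↥L) := by
    apply spl_conjNormal L x p
    intro v hv
    apply hout
    intro hvx
    apply hx
    have := L.mul_mem (L.inv_mem hv) hvx
    rwa [inv_mul_cancel_left] at this
  exact spl_nilpotent hp _ hs

/-- Let G be a finite group and p a prime such that G is not a p-group, and suppose the Hughes subgroup H_p(G), generated by all elements g with g^p ≠ 1, is a proper subgroup. Then H_p(G) is nilpotent and has index p in G. -/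
theorem result {G : Type*} [Group G] [Finite G] (p : ℕ) (hp : p.Prime) (hG : ¬ IsPGroup p G)
    (hH : Subgroup.closure {g : G | g ^ p ≠ 1} ≠ ⊤) :
    Group.IsNilpotent (Subgroup.closure {g : G | g ^ p ≠ 1}) ∧ (Subgroup.closure {g : G | g ^ p ≠ 1}).index = p := by
  have : Fact p.Prime := ⟨hp⟩
  set H : Subgroup G := Subgroup.closure {g : G | g ^ p ≠ 1} with hHdef
  -- `H` is normal
  have hHn : H.Normal := by
    constructor
    intro n hn g
    have hle : H.map (MulAut.conj g).toMonoidHom ≤ H := by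
      rw [hHdef, MonoidHom.map_closure, Subgroup.closure_le]
      rintro _ ⟨s, hs, rfl⟩
      apply Subgroup.subset_closure
      show (g * s * g⁻¹) ^ p ≠ 1
      rw [conj_pow]
      intro h
      apply hs
      have h2 : s ^ p = g⁻¹ * (g * s ^ p * g⁻¹) * g := by group
      rw [h2, h]
      group
    exact hle ⟨n, hn, rfl⟩
  have hout : ∀ g : G, g ∉ H → g ^ p = 1 := by
    intro g hg
    by_contra h
    exact hg (Subgroup.subset_closure h)
  refine ⟨isNilpotent_of_outside hp H hH hout, ?_⟩
  by_contra hidx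
  -- the quotient is a nontrivial `p`-group
  have hexp : ∀ g : G, g ^ p ∈ H := by
    intro g
    by_cases hg : g ∈ H
    · exact H.pow_mem hg p
    · rw [hout g hg]; exact H.one_mem
  have hQp : IsPGroup p (G ⧸ H) := by
    intro g
    induction g using QuotientGroup.induction_on with
    | H g =>
      refine ⟨1, ?_⟩
      rw [pow_one, ← QuotientGroup.mk_pow]
      exact (QuotientGroup.eq_one_iff _).mpr (hexp g)
  obtain ⟨x0, hx0⟩ : ∃ x : G, x ∉ H := by
    by_contra h
    push Not at h
    exact hH (eq_top_iff.mpr fun g _ => h g)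
  have hnt : Nontrivial (G ⧸ H) :=
    ⟨⟨(x0 : G ⧸ H), 1, fun h => hx0 ((QuotientGroup.eq_one_iff _).mp h)⟩⟩
  have hcn : Nontrivial (Subgroup.center (G ⧸ H)) := hQp.center_nontrivial
  obtain ⟨⟨ybar, hyc⟩, hyne⟩ := exists_ne (1 : Subgroup.center (G ⧸ H))
  have hyne' : ybar ≠ 1 := fun h => hyne (Subtype.ext h)
  obtain ⟨y, rfl⟩ := QuotientGroup.mk_surjective ybar
  have hyH : y ∉ H := fun h => hyne' ((QuotientGroup.eq_one_iff _).mpr h)
  have hyp : y ^ p = 1 := hout y hyH
  set C : Subgroup (G ⧸ H) := Subgroup.zpowers (y : G ⧸ H) with hCdef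
  have hCn : C.Normal :=
    Cfsg.Agent.Helper1.normal_of_le_center' (Subgroup.zpowers_le.mpr hyc)
  set L : Subgroup G := C.comap (QuotientGroup.mk' H) with hLdef
  have hLn : L.Normal := hCn.comap _
  have hHL : H ≤ L := by
    intro h hh
    rw [hLdef, Subgroup.mem_comap]
    have : (QuotientGroup.mk' H) h = 1 := (QuotientGroup.eq_one_iff _).mpr hh
    rw [this]
    exact C.one_mem
  have hyL : y ∈ L := by
    rw [hLdef, Subgroup.mem_comap]
    exact Subgroup.mem_zpowers _
  have hLtop : L ≠ ⊤ := by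
    intro htop
    apply hidx
    have hCtop : C = ⊤ := by
      rw [eq_top_iff]
      intro g _
      obtain ⟨g, rfl⟩ := QuotientGroup.mk_surjective g
      have : g ∈ L := by rw [htop]; trivial
      exact this
    have h1 : Nat.card C = p := by
      rw [hCdef, Nat.card_zpowers]
      apply orderOf_eq_prime
      · rw [← QuotientGroup.mk_pow, hyp]; rfl
      · exact hyne'
    rw [Subgroup.index_eq_card, ← h1, hCtop]
    exact (Subgroup.card_top).symm
  have hLout : ∀ g : G, g ∉ L → g ^ p = 1 := fun g hg => hout g fun h => hg (hHL h)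
  have hLnil : Group.IsNilpotent ↥L := isNilpotent_of_outside hp L hLtop hLout
  -- an element `v` of prime order `q ≠ p`
  obtain ⟨q, hq, hqp, hqd⟩ : ∃ q : ℕ, q.Prime ∧ q ≠ p ∧ q ∣ Nat.card G := by
    by_contra h
    push Not at h
    apply hG
    have h3 : Nat.card G = p ^ (Nat.card G).primeFactorsList.length := by
      apply Nat.eq_prime_pow_of_unique_prime_dvd Nat.card_pos.ne'
      intro d hd hdd
      by_contra hne
      exact h d hd hne hdd
    exact IsPGroup.of_card h3
  have : Fact q.Prime := ⟨hq⟩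
  obtain ⟨v, hv⟩ := exists_prime_orderOf_dvd_card' q hqd
  have hvp : v ^ p ≠ 1 := by
    intro h
    have h1 : q ∣ p := by rw [← hv]; exact orderOf_dvd_of_pow_eq_one h
    exact hqp ((Nat.prime_dvd_prime_iff_eq hq hp).mp h1)
  have hvH : v ∈ H := Subgroup.subset_closure hvp
  have hvL : v ∈ L := hHL hvH
  -- `v` and `y` commute inside the nilpotent group `L`
  have hvq : IsPGroup q (Subgroup.zpowers (⟨v, hvL⟩ : ↥L)) := by
    apply IsPGroup.of_card (n := 1)
    rw [Nat.card_zpowers, pow_one, ← hv]
    exact Subgroup.orderOf_mk v hvL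
  obtain ⟨Q, hQ⟩ := hvq.exists_le_sylow
  have hall : ∀ (r : ℕ) (_ : Fact r.Prime) (R : Sylow r ↥L), (R : Subgroup ↥L).Normal :=
    ((Group.isNilpotent_of_finite_tfae (G := ↥L)).out 0 3).mp hLnil
  have hQn : (Q : Subgroup ↥L).Normal := hall q inferInstance Q
  have hcop : (orderOf (⟨y, hyL⟩ : ↥L)).Coprime q := by
    have h1 : orderOf (⟨y, hyL⟩ : ↥L) ∣ p := by
      apply orderOf_dvd_of_pow_eq_one
      apply Subtype.ext
      rw [Subgroup.coe_pow]
      exact hyp
    exact Nat.Coprime.coprime_dvd_left h1 ((Nat.coprime_primes hp hq).mpr (Ne.symm hqp))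
  have hcomm := Cfsg.Agent.S0132.commute_of_nilpotent_coprime hLnil (Q : Subgroup ↥L) Q.2
    (⟨y, hyL⟩ : ↥L) hcop ⟨v, hvL⟩ (hQ (Subgroup.mem_zpowers _))
  have hcomm' : v * y = y * v := congrArg Subtype.val hcomm
  -- contradiction
  have hvy : v * y ∉ H := by
    intro h
    apply hyH
    have := H.mul_mem (H.inv_mem hvH) h
    rwa [inv_mul_cancel_left] at this
  have h1 := hout _ hvy
  rw [(show Commute v y from hcomm').mul_pow, hyp, mul_one] at h1
  exact hvp h1

end Cfsg.Agent.S4249
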