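import Cfsg.Statements.S4253
import Cfsg.Agent.Helper71.Frob

set_option autoImplicit false
open Cfsg

namespace Cfsg.Agent.S4253

open Cfsg.Agent.Helper71 in
/-- Let H be a Frobenius complement in a finite group G (a nontrivial proper subgroup meeting each conjugate gHg⁻¹ with g outside H trivially). Then in the action of G on the left cosets of H by left multiplication, no non-identity element of G fixes two distinct cosets. -/
theorem result {G : Type*} [Group G] [Finite G] (H : Subgroup G) (hH : Cfsg.IsFrobeniusComplement H)
    (g : G) (hg : g ≠ 1) (a b : G ⧸ H) (ha : g • a = a) (hb : g • b = b) : a = b := by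
  rw [isFrobeniusComplement_iff] at hH
  obtain ⟨_, _, hF⟩ := hH
  induction a using QuotientGroup.induction_on with
  | H x =>
  induction b using QuotientGroup.induction_on with
  | H y =>
  rw [MulAction.Quotient.smul_mk, QuotientGroup.eq, smul_eq_mul] at ha hb
  rw [QuotientGroup.eq]
  by_contra hxy
  have hx : x⁻¹ * g * x ∈ H := by
    have := H.inv_mem ha
    simpa [mul_assoc] using this
  have hy : y⁻¹ * g * y ∈ H := by
    have := H.inv_mem hb
    simpa [mul_assoc] using this
  have h1 := hF (x⁻¹ * y) hxy (x⁻¹ * g * x) hx (by
    have : (x⁻¹ * y)⁻¹ * (x⁻¹ * g * x) * (x⁻¹ * y) = y⁻¹ * g * y := by group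
    rw [this]; exact hy)
  apply hg
  have : g = x * (x⁻¹ * g * x) * x⁻¹ := by group
  rw [this, h1]; group

end Cfsg.Agent.S4253
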