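-- Statement S4255: disconnected prime graph on class sizes: G/Z(G) is Frobenius with abelian
-- kernel and complement (Bertram–Herzog–Mann / Kazarin / Dolfi).
import Cfsg.Statements.S4255
import Cfsg.Agent.Helper69.Bhm5

set_option autoImplicit false
open Cfsg

namespace Cfsg.Agent.S4255

open Cfsg.Agent.Helper69.Bhm in
/-- Let G be a finite group. Call a prime a vertex if it divides some conjugacy class size of G, and two distinct vertices adjacent if their product divides some class size. Suppose this graph is disconnected: the vertices split into two nonempty parts with no vertex of one part adjacent to a vertex of the other. Then G/Z(G) is a Frobenius group with abelian Frobenius complement and with a Frobenius kernel all of whose elements commute. -/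
theorem result {G : Type*} [Group G] [Finite G] (S : Set ℕ) (hS : ∃ p ∈ S, (p.Prime ∧ ∃ g : G, p ∣ (Subgroup.centralizer ({g} : Set G)).index)) (hS' : ∃ q ∉ S, (q.Prime ∧ ∃ g : G, q ∣ (Subgroup.centralizer ({g} : Set G)).index))
    (hdisc : ∀ p q : ℕ, (p.Prime ∧ ∃ g : G, p ∣ (Subgroup.centralizer ({g} : Set G)).index) → (q.Prime ∧ ∃ g : G, q ∣ (Subgroup.centralizer ({g} : Set G)).index) → p ∈ S → q ∉ S → ¬ (∃ g : G, p * q ∣ (Subgroup.centralizer ({g} : Set G)).index)) :
    ∃ H : Subgroup (G ⧸ Subgroup.center G), Cfsg.IsFrobeniusComplement H ∧ IsMulCommutative H ∧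
      ∀ x ∈ Cfsg.frobeniusKernel H, ∀ y ∈ Cfsg.frobeniusKernel H, x * y = y * x := by
  -- the dichotomy
  have hdich : Dich G S Sᶜ := by
    intro g
    by_contra hcon
    push Not at hcon
    obtain ⟨h1, h2⟩ := hcon
    unfold PiNat at h1 h2
    push Not at h1 h2
    obtain ⟨q, hq, hqd, hqS⟩ := h1
    obtain ⟨p, hp, hpd, hpS⟩ := h2
    have hpS' : p ∈ S := by
      by_contra hn
      exact hpS hn
    have hne : p ≠ q := fun e => hqS (e ▸ hpS')
    have hmul : p * q ∣ ci g :=
      Nat.Coprime.mul_dvd_of_dvd_of_dvd ((Nat.coprime_primes hp hq).mpr hne) hpd hqd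
    exact hdisc p q ⟨hp, g, hpd⟩ ⟨hq, g, hqd⟩ hpS' hqS ⟨g, hmul⟩
  -- both sides occur
  have hA : ∃ a : G, IsA S a := by
    obtain ⟨p, hpS, hp, g, hpd⟩ := hS
    refine ⟨g, ?_, ?_⟩
    · intro h1
      change p ∣ ci g at hpd
      rw [h1] at hpd
      exact hp.ne_one (Nat.dvd_one.mp hpd)
    · rcases hdich g with h1 | h1
      · exact h1
      · exact absurd hpS (h1 p hp hpd)
  have hB : ∃ b : G, IsA Sᶜ b := by
    obtain ⟨q, hqS, hq, g, hqd⟩ := hS'
    refine ⟨g, ?_, ?_⟩
    · intro h1
      change q ∣ ci g at hqd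
      rw [h1] at hqd
      exact hq.ne_one (Nat.dvd_one.mp hqd)
    · rcases hdich g with h1 | h1
      · exact absurd (h1 q hq hqd) hqS
      · exact h1
  -- an element of maximal class size
  obtain ⟨b, hmax⟩ := Finite.exists_max (fun g : G => ci g)
  have hb1 : ci b ≠ 1 := by
    obtain ⟨a, ha⟩ := hA
    have h1 := hmax a
    have h2 := ci_pos a
    have h3 := ha.1
    intro h4
    have h5 : ci a ≤ ci b := h1
    omega
  rcases hdich b with hb | hb
  · -- the maximum is an `S`-number: swap the roles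
    have hcfg : Cfg G Sᶜ S :=
      ⟨pDisj_compl' S, hdich.symm, hB, ⟨b, ⟨hb1, hb⟩, hmax⟩⟩
    exact hcfg.frobenius
  · have hcfg : Cfg G S Sᶜ :=
      ⟨pDisj_compl S, hdich, hA, ⟨b, ⟨hb1, hb⟩, hmax⟩⟩
    exact hcfg.frobenius

end Cfsg.Agent.S4255
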