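import Cfsg.Statements.S4257
import Cfsg.Agent.Helper15.CSGMain

set_option autoImplicit false
open Cfsg

namespace Cfsg.Agent.S4257

open Cfsg.Agent.Helper15.CSG Cfsg.Agent.Helper69.CSGD1

/-- Let G be a finite group. Call a prime a vertex if it divides some conjugacy class size of G, and two distinct vertices adjacent if their product divides some class size. If this graph is connected, then its diameter is at most 3: any two distinct vertices p and q are adjacent, or joined through one or two intermediate vertices. -/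
theorem result {G : Type*} [Group G] [Finite G]
    (hconn : ∀ S : Set ℕ, (∃ p ∈ S, (p.Prime ∧ ∃ g : G, p ∣ (Subgroup.centralizer ({g} : Set G)).index)) → (∃ q ∉ S, (q.Prime ∧ ∃ g : G, q ∣ (Subgroup.centralizer ({g} : Set G)).index)) →
      ∃ p q : ℕ, (p.Prime ∧ ∃ g : G, p ∣ (Subgroup.centralizer ({g} : Set G)).index) ∧ (q.Prime ∧ ∃ g : G, q ∣ (Subgroup.centralizer ({g} : Set G)).index) ∧ p ∈ S ∧ q ∉ S ∧ (∃ g : G, p * q ∣ (Subgroup.centralizer ({g} : Set G)).index))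
    (p q : ℕ) (hp : (p.Prime ∧ ∃ g : G, p ∣ (Subgroup.centralizer ({g} : Set G)).index)) (hq : (q.Prime ∧ ∃ g : G, q ∣ (Subgroup.centralizer ({g} : Set G)).index)) (hpq : p ≠ q) :
    (∃ g : G, p * q ∣ (Subgroup.centralizer ({g} : Set G)).index) ∨ (∃ r : ℕ, (r.Prime ∧ ∃ g : G, r ∣ (Subgroup.centralizer ({g} : Set G)).index) ∧ r ≠ p ∧ r ≠ q ∧ (∃ g : G, p * r ∣ (Subgroup.centralizer ({g} : Set G)).index) ∧ (∃ g : G, r * q ∣ (Subgroup.centralizer ({g} : Set G)).index)) ∨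
      (∃ r s : ℕ, (r.Prime ∧ ∃ g : G, r ∣ (Subgroup.centralizer ({g} : Set G)).index) ∧ (s.Prime ∧ ∃ g : G, s ∣ (Subgroup.centralizer ({g} : Set G)).index) ∧ r ≠ p ∧ s ≠ q ∧ r ≠ s ∧ r ≠ q ∧ s ≠ p ∧
        (∃ g : G, p * r ∣ (Subgroup.centralizer ({g} : Set G)).index) ∧ (∃ g : G, r * s ∣ (Subgroup.centralizer ({g} : Set G)).index) ∧ (∃ g : G, s * q ∣ (Subgroup.centralizer ({g} : Set G)).index)) := by
  classical
  by_contra hcon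
  have hA : ¬ (∃ g : G, p * q ∣ cs g) := fun h => hcon (Or.inl h)
  have hB : ¬ (∃ r : ℕ, (r.Prime ∧ ∃ g : G, r ∣ cs g) ∧ r ≠ p ∧ r ≠ q ∧ (∃ g : G, p * r ∣ cs g) ∧
      (∃ g : G, r * q ∣ cs g)) := fun h => hcon (Or.inr (Or.inl h))
  have hC : ¬ (∃ r s : ℕ, (r.Prime ∧ ∃ g : G, r ∣ cs g) ∧ (s.Prime ∧ ∃ g : G, s ∣ cs g) ∧ r ≠ p ∧
      s ≠ q ∧ r ≠ s ∧ r ≠ q ∧ s ≠ p ∧ (∃ g : G, p * r ∣ cs g) ∧ (∃ g : G, r * s ∣ cs g) ∧
      (∃ g : G, s * q ∣ cs g)) := fun h => hcon (Or.inr (Or.inr h))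
  -- the closed neighbourhoods
  set π1 : Set ℕ := {r | r.Prime ∧ ∃ g : G, p ∣ cs g ∧ r ∣ cs g} with hπ1
  set π2 : Set ℕ := {r | r.Prime ∧ ∃ g : G, q ∣ cs g ∧ r ∣ cs g} with hπ2
  have hmul : ∀ {a b n : ℕ}, a.Prime → b.Prime → a ≠ b → a ∣ n → b ∣ n → a * b ∣ n :=
    fun ha hb hab h1 h2 =>
      Nat.Coprime.mul_dvd_of_dvd_of_dvd ((Nat.coprime_primes ha hb).mpr hab) h1 h2
  -- no cross edges
  have hX : ∀ a ∈ π1, ∀ b ∈ π2, a ≠ b ∧ ∀ g : G, ¬ (a ∣ cs g ∧ b ∣ cs g) := by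
    rintro a ⟨ha, g1, hpg1, hag1⟩ b ⟨hb, g2, hqg2, hbg2⟩
    have hav : a.Prime ∧ ∃ g : G, a ∣ cs g := ⟨ha, g1, hag1⟩
    have hbv : b.Prime ∧ ∃ g : G, b ∣ cs g := ⟨hb, g2, hbg2⟩
    have key : ∀ g : G, a ∣ cs g → b ∣ cs g → False := by
      intro g hag hbg
      by_cases hap : a = p
      · subst hap
        by_cases hbq : b = q
        · subst hbq; exact hA ⟨g, hmul ha hb hpq hag hbg⟩
        · by_cases hba : b = a
          · subst hba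
            exact hA ⟨g2, hmul ha hq.1 hpq hbg2 hqg2⟩
          · exact hB ⟨b, hbv, hba, hbq, ⟨g, hmul ha hb (Ne.symm hba) hag hbg⟩,
              ⟨g2, hmul hb hq.1 hbq hbg2 hqg2⟩⟩
      · by_cases hbq : b = q
        · subst hbq
          by_cases hab : a = b
          · subst hab; exact hA ⟨g1, hmul hp.1 ha hpq hpg1 hag1⟩
          · exact hB ⟨a, hav, hap, hab, ⟨g1, hmul hp.1 ha (Ne.symm hap) hpg1 hag1⟩,
              ⟨g, hmul ha hb hab hag hbg⟩⟩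
        · by_cases hab : a = b
          · subst hab
            exact hB ⟨a, hav, hap, hbq, ⟨g1, hmul hp.1 ha (Ne.symm hap) hpg1 hag1⟩,
              ⟨g2, hmul ha hq.1 hbq hbg2 hqg2⟩⟩
          · by_cases haq : a = q
            · subst haq; exact hA ⟨g1, hmul hp.1 ha hpq hpg1 hag1⟩
            by_cases hbp : b = p
            · subst hbp; exact hA ⟨g2, hmul hb hq.1 hpq hbg2 hqg2⟩
            exact hC ⟨a, b, hav, hbv, hap, hbq, hab, haq, hbp,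
              ⟨g1, hmul hp.1 ha (Ne.symm hap) hpg1 hag1⟩, ⟨g, hmul ha hb hab hag hbg⟩,
              ⟨g2, hmul hb hq.1 hbq hbg2 hqg2⟩⟩
    refine ⟨?_, fun g h => key g h.1 h.2⟩
    rintro rfl
    exact key g1 hag1 hag1
  obtain ⟨gp, hgp⟩ := hp.2
  obtain ⟨gq, hgq⟩ := hq.2
  have hpπ1 : p ∈ π1 := ⟨hp.1, gp, hgp, hgp⟩
  have hqπ2 : q ∈ π2 := ⟨hq.1, gq, hgq, hgq⟩
  have hpπ2 : p ∉ π2 := fun h => (hX p hpπ1 p h).1 rfl
  have hqπ1 : q ∉ π1 := fun h => (hX q h q hqπ2).1 rfl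
  have hp1 : ∀ g : G, p ∣ cs g → ∀ r : ℕ, r.Prime → r ∣ cs g → r ∈ π1 :=
    fun g hg r hr hrg => ⟨hr, g, hg, hrg⟩
  have hq2 : ∀ g : G, q ∣ cs g → ∀ r : ℕ, r.Prime → r ∣ cs g → r ∈ π2 :=
    fun g hg r hr hrg => ⟨hr, g, hg, hrg⟩
  by_cases hgood : ∀ b ∈ π2, Good G b
  · have hcore := core hp.1 hq.1 ⟨gp, hgp⟩ ⟨gq, hgq⟩ hp1 hq2 hqπ2 hpπ2
      (fun b hb => ⟨hb.1, hgood b hb⟩)
      (fun g hg b hb hbg => (hX p hpπ1 b hb).2 g ⟨hg, hbg⟩)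
    obtain ⟨r, s, hr, hs, hrS, hsS, g, hg⟩ := hconn π2 ⟨q, hqπ2, hq.1, gq, hgq⟩
      ⟨p, hpπ2, hp.1, gp, hgp⟩
    have hs1 : s ∈ π1 := (hcore s hs.1 hs.2).resolve_right hsS
    exact (hX s hs1 r hrS).2 g ⟨dvd_of_mul_left_dvd hg, dvd_of_mul_right_dvd hg⟩
  · push Not at hgood
    obtain ⟨b0, hb0, hb0g⟩ := hgood
    have hgood1 : ∀ a ∈ π1, a.Prime ∧ Good G a := by
      intro a ha
      refine ⟨ha.1, ?_⟩
      have := good_or_good (G := G) ha.1 hb0.1 (hX a ha b0 hb0).1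
        (fun x hx => (hX a ha b0 hb0).2 x ⟨dvd_of_mul_right_dvd hx, dvd_of_mul_left_dvd hx⟩)
      exact this.resolve_right hb0g
    have hcore := core hq.1 hp.1 ⟨gq, hgq⟩ ⟨gp, hgp⟩ hq2 hp1 hpπ1 hqπ1 hgood1
      (fun g hg a ha hag => (hX a ha q hqπ2).2 g ⟨hag, hg⟩)
    obtain ⟨r, s, hr, hs, hrS, hsS, g, hg⟩ := hconn π1 ⟨p, hpπ1, hp.1, gp, hgp⟩
      ⟨q, hqπ1, hq.1, gq, hgq⟩
    have hs2 : s ∈ π2 := (hcore s hs.1 hs.2).resolve_right hsS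
    exact (hX r hrS s hs2).2 g ⟨dvd_of_mul_right_dvd hg, dvd_of_mul_left_dvd hg⟩

end Cfsg.Agent.S4257
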