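import Cfsg.Statements.S4261
import Cfsg.Agent.Helper71.SolvMax

set_option autoImplicit false
open Cfsg

namespace Cfsg.Agent.S4261

open Cfsg.Agent.Helper71 in
theorem aux {G Q : Type*} [Group G] [Group Q] [Finite Q] [Group.IsSolvable Q] (f : G →* Q)
    (hfs : Function.Surjective f) (M : Subgroup G) (hker : f.ker = M.normalCore) (hM : IsCoatom M)
    (hexp : ∀ x : G, x ^ M.index ∈ M) : M.Normal := by
  have hNM : M.normalCore ≤ M := Subgroup.normalCore_le M
  have hkerM : f.ker ≤ M := hker ▸ hNM
  have hcm : (M.map f).comap f = M := Subgroup.comap_map_eq_self hkerM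
  -- powers land in the core
  have hpow : ∀ x : G, x ^ M.index ∈ M.normalCore := by
    intro x b
    have := hexp (b * x * b⁻¹)
    rwa [conj_pow] at this
  -- the image is a coatom
  have hcoatom : IsCoatom (M.map f) := by
    constructor
    · intro h
      apply hM.1
      rw [← hcm, h, Subgroup.comap_top]
    · intro L hL
      have h1 : M ≤ L.comap f := hcm.ge.trans (Subgroup.comap_mono hL.le)
      have h2 : M ≠ L.comap f := by
        intro h
        have : M.map f = L := by
          rw [h, Subgroup.map_comap_eq_self_of_surjective hfs]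
        exact hL.ne this
      have h3 : L.comap f = ⊤ := hM.2 _ (lt_of_le_of_ne h1 h2)
      rw [← Subgroup.map_comap_eq_self_of_surjective hfs L, h3, Subgroup.map_top_of_surjective f hfs]
  have hcore : (M.map f).normalCore = ⊥ := by
    have hn : (M.map f).normalCore.Normal := Subgroup.normalCore_normal _
    have h1 : ((M.map f).normalCore).comap f ≤ M :=
      (Subgroup.comap_mono (Subgroup.normalCore_le _)).trans hcm.le
    have h2 : (((M.map f).normalCore).comap f).Normal := hn.comap f
    have h3 : ((M.map f).normalCore).comap f ≤ M.normalCore :=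
      Subgroup.normal_le_normalCore.mpr h1
    rw [← Subgroup.map_comap_eq_self_of_surjective hfs (M.map f).normalCore, eq_bot_iff]
    refine (Subgroup.map_mono h3).trans ?_
    rw [Subgroup.map_le_iff_le_comap, MonoidHom.comap_bot, hker]
  have hidx : (M.map f).index = M.index := Subgroup.index_map_eq M hfs hkerM
  have hexp' : ∀ x : Q, x ^ (M.map f).index = 1 := by
    intro x
    obtain ⟨x, rfl⟩ := hfs x
    rw [hidx, ← map_pow, ← MonoidHom.mem_ker, hker]
    exact hpow x
  have hnorm : (M.map f).Normal := coatom_normal_of_exponent _ hcoatom hcore hexp'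
  rw [← hcm]
  exact hnorm.comap f

/-- Let M be a maximal subgroup of a finite solvable group G such that x^[G : M] lies in M for every x in G. Then M is normal in G. -/
theorem result {G : Type*} [Group G] [Finite G] (hG : Group.IsSolvable G) (M : Subgroup G) (hM : IsCoatom M)
    (hexp : ∀ x : G, x ^ M.index ∈ M) : M.Normal := by
  have hNn : M.normalCore.Normal := Subgroup.normalCore_normal M
  exact aux (QuotientGroup.mk' M.normalCore) (QuotientGroup.mk'_surjective _) M
    (QuotientGroup.ker_mk' _) hM hexp

end Cfsg.Agent.S4261
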