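import Cfsg.Statements.S4262
import Cfsg.Agent.S4034
import Cfsg.Agent.S3904

set_option autoImplicit false
open Cfsg

namespace Cfsg.Agent.S4262

/-- The conclusion of S3904 forces solvability. -/
theorem isSolvable_of_structure {G : Type*} [Group G] [Finite G]
    (h : (∃ p : ℕ, p.Prime ∧ Cfsg.IsElementaryAbelian p (⊤ : Subgroup (G ⧸ Subgroup.center G))) ∨
    (¬ IsMulCommutative (G ⧸ Subgroup.center G) ∧ (∀ H : Subgroup (G ⧸ Subgroup.center G), H ≠ ⊤ → IsMulCommutative ↥H) ∧
      ∃ p q a : ℕ, p.Prime ∧ q.Prime ∧ p ≠ q ∧ Nat.card (G ⧸ Subgroup.center G) = p ^ a * q ∧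
        ∀ P : Subgroup (G ⧸ Subgroup.center G), Nat.card ↥P = p ^ a → P.Normal)) :
    Group.IsSolvable G := by
  have hZ : Group.IsSolvable (Subgroup.center G) := by
    exact Group.isSolvable_of_comm (fun a b => Subtype.ext ((Subgroup.mem_center_iff.1 a.2) b).symm)
  refine Cfsg.Agent.S4034.isSolvable_of_normal (Subgroup.center G) hZ ?_
  rcases h with ⟨p, hp, hel⟩ | ⟨-, -, p, q, a, hp, hq, hpq, hcard, hnorm⟩
  · apply Group.isSolvable_of_comm
    intro x y
    have := hel.1.is_comm.comm ⟨x, Subgroup.mem_top x⟩ ⟨y, Subgroup.mem_top y⟩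
    simpa using congrArg Subtype.val this
  · have : Fact p.Prime := ⟨hp⟩
    obtain ⟨P⟩ : Nonempty (Sylow p (G ⧸ Subgroup.center G)) := inferInstance
    have hPcard : Nat.card (P : Subgroup (G ⧸ Subgroup.center G)) = p ^ a := by
      rw [Sylow.card_eq_multiplicity, hcard]
      congr 1
      rw [Nat.factorization_mul (pow_ne_zero _ hp.ne_zero) hq.ne_zero]
      simp [hp.factorization_self, hq.factorization, hpq.symm, Nat.factorization_pow]
    have hPn : (P : Subgroup (G ⧸ Subgroup.center G)).Normal := hnorm _ hPcard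
    have h1 : Group.IsSolvable (P : Subgroup (G ⧸ Subgroup.center G)) := by
      have := P.2.isNilpotent
      infer_instance
    have h2 : Group.IsSolvable ((G ⧸ Subgroup.center G) ⧸ (P : Subgroup (G ⧸ Subgroup.center G))) := by
      have hq' : Nat.card ((G ⧸ Subgroup.center G) ⧸ (P : Subgroup (G ⧸ Subgroup.center G))) = q := by
        have h3 := (P : Subgroup (G ⧸ Subgroup.center G)).card_mul_index
        rw [hPcard, hcard] at h3
        have : (P : Subgroup (G ⧸ Subgroup.center G)).index = q :=
          Nat.eq_of_mul_eq_mul_left (pow_pos hp.pos a) h3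
        exact this
      have : Fact q.Prime := ⟨hq⟩
      have hc : IsCyclic ((G ⧸ Subgroup.center G) ⧸ (P : Subgroup (G ⧸ Subgroup.center G))) :=
        isCyclic_of_prime_card hq'
      let _ : CommGroup ((G ⧸ Subgroup.center G) ⧸ (P : Subgroup (G ⧸ Subgroup.center G))) :=
        IsCyclic.commGroup
      exact Group.isSolvable_of_comm (fun a b => mul_comm a b)
    exact Cfsg.Agent.S4034.isSolvable_of_normal _ h1 h2

/-- Let G be a finite group in which the centralizer of every non-central element is a maximal subgroup of G. Then G is solvable. -/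
theorem result {G : Type*} [Group G] [Finite G]
    (h : ∀ g : G, g ∉ Subgroup.center G → IsCoatom (Subgroup.centralizer ({g} : Set G))) :
    Group.IsSolvable G := by
  by_cases hna : IsMulCommutative G
  · exact Group.isSolvable_of_comm (fun a b => hna.is_comm.comm a b)
  · exact isSolvable_of_structure (Cfsg.Agent.S3904.result hna h)

end Cfsg.Agent.S4262
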