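import Cfsg.Statements.S4263
import Cfsg.Agent.Helper71.Fitting

set_option autoImplicit false
open Cfsg

namespace Cfsg.Agent.S4263

open Cfsg.Agent.Helper71 in
/-- Let G be a finite group. An element x lies in the Fitting subgroup F(G) if and only if, for every subgroup H of G, the power x^[G : H] lies in H. -/
theorem result {G : Type*} [Group G] [Finite G] (x : G) :
    x ∈ Cfsg.fittingSubgroup G ↔ ∀ H : Subgroup G, x ^ H.index ∈ H := by
  have hFn : (Cfsg.fittingSubgroup G).Normal := fittingSubgroup_normal
  constructor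
  · intro hx H
    have hnil : Group.IsNilpotent (Cfsg.fittingSubgroup G) := fittingSubgroup_isNilpotent
    have h1 := pow_index_mem_of_isNilpotent (H.subgroupOf (Cfsg.fittingSubgroup G)) ⟨x, hx⟩
    rw [Subgroup.mem_subgroupOf] at h1
    have h2 : H.relIndex (Cfsg.fittingSubgroup G) ∣ H.index :=
      relIndex_dvd_index_of_normal_right H _
    obtain ⟨k, hk⟩ := h2
    rw [hk, pow_mul]
    exact H.pow_mem (by simpa [Subgroup.relIndex] using h1) k
  · intro h
    rw [← QuotientGroup.eq_one_iff (N := Cfsg.fittingSubgroup G), ← orderOf_eq_one_iff]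
    by_contra hne
    obtain ⟨q, hq, hqd⟩ := Nat.exists_prime_and_dvd hne
    have : Fact q.Prime := ⟨hq⟩
    obtain ⟨P⟩ : Nonempty (Sylow q G) := inferInstance
    have hidx : ∀ Q : Sylow q G, (Q : Subgroup G).index = (P : Subgroup G).index := by
      intro Q
      have h1 := Subgroup.card_mul_index (Q : Subgroup G)
      have h2 := Subgroup.card_mul_index (P : Subgroup G)
      have h3 : Nat.card (Q : Subgroup G) = Nat.card (P : Subgroup G) := by
        rw [Sylow.card_eq_multiplicity, Sylow.card_eq_multiplicity]
      rw [h3, ← h2] at h1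
      exact Nat.eq_of_mul_eq_mul_left Nat.card_pos h1
    have hmem : x ^ (P : Subgroup G).index ∈ Cfsg.pCore q G := by
      apply mem_pCore_of_forall_mem_sylow
      intro Q
      rw [← hidx Q]
      exact h Q
    have hmemF : x ^ (P : Subgroup G).index ∈ Cfsg.fittingSubgroup G :=
      pCore_le_fittingSubgroup q hmem
    have hpow : ((x : G ⧸ Cfsg.fittingSubgroup G)) ^ (P : Subgroup G).index = 1 := by
      rw [← QuotientGroup.mk_pow, QuotientGroup.eq_one_iff]
      exact hmemF
    have hdvd : q ∣ (P : Subgroup G).index := hqd.trans (orderOf_dvd_of_pow_eq_one hpow)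
    exact Sylow.not_dvd_index P hdvd

end Cfsg.Agent.S4263
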