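import Cfsg.Statements.S4275
-- import your own Cfsg.Agent.* helpers here

set_option autoImplicit false
open Cfsg

namespace Cfsg.Agent.S4275

/-- Let G be a transitive group of permutations of a finite set Ω, let o ∈ Ω, and let α be an automorphism of G. Then α is induced by conjugation by a permutation of Ω normalizing G if and only if the image under α of the stabilizer of o fixes some point of Ω. -/
theorem result {Ω : Type*} [Fintype Ω] (G : Subgroup (Equiv.Perm Ω)) (htr : MulAction.IsPretransitive G Ω) (o : Ω) (α : G ≃* G) : (∃ σ : Equiv.Perm Ω, σ ∈ Subgroup.normalizer (G : Set (Equiv.Perm Ω)) ∧ ∀ g : G, ((α g : G) : Equiv.Perm Ω) = σ * (g : Equiv.Perm Ω) * σ⁻¹) ↔ ∃ ω : Ω, ∀ g ∈ (MulAction.stabilizer G o).map α.toMonoidHom, g • ω = ω := by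
  classical
  have hfin : Finite G := inferInstance
  constructor
  · rintro ⟨σ, -, hσ⟩
    refine ⟨σ o, ?_⟩
    rintro g ⟨h, hh, rfl⟩
    rw [SetLike.mem_coe, MulAction.mem_stabilizer_iff] at hh
    change ((α h : G) : Equiv.Perm Ω) (σ o) = σ o
    rw [hσ h]
    simp only [Equiv.Perm.coe_mul, Function.comp_apply, Equiv.Perm.coe_inv, Equiv.symm_apply_apply]
    congr 1
  · rintro ⟨ω, hω⟩
    -- α(G_o) = G_ω
    have hle : (MulAction.stabilizer G o).map α.toMonoidHom ≤ MulAction.stabilizer G ω := by
      intro g hg
      exact hω g hg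
    obtain ⟨t, ht⟩ := htr.exists_smul_eq o ω
    have hcard : Nat.card (MulAction.stabilizer G ω) =
        Nat.card ((MulAction.stabilizer G o).map α.toMonoidHom) := by
      rw [Subgroup.card_map_of_injective α.injective, ← ht,
        MulAction.stabilizer_smul_eq_stabilizer_map_conj,
        Subgroup.card_map_of_injective (MulAut.conj t).injective]
    have heq : (MulAction.stabilizer G o).map α.toMonoidHom = MulAction.stabilizer G ω :=
      Subgroup.eq_of_le_of_card_ge hle hcard.le
    -- key: α g • ω = α g' • ω ↔ g • o = g' • o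
    have key : ∀ g g' : G, α g • ω = α g' • ω ↔ g • o = g' • o := by
      intro g g'
      have h1 : α g • ω = α g' • ω ↔ α (g⁻¹ * g') ∈ MulAction.stabilizer G ω := by
        rw [MulAction.mem_stabilizer_iff, map_mul, map_inv, mul_smul, inv_smul_eq_iff, eq_comm]
      have h2 : g • o = g' • o ↔ g⁻¹ * g' ∈ MulAction.stabilizer G o := by
        rw [MulAction.mem_stabilizer_iff, mul_smul, inv_smul_eq_iff, eq_comm]
      rw [h1, h2, ← heq]
      constructor
      · rintro ⟨k, hk, hke⟩
        have : k = g⁻¹ * g' := α.injective hke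
        exact this ▸ hk
      · intro h
        exact ⟨_, h, rfl⟩
    -- define σ
    choose r hr using fun x : Ω => htr.exists_smul_eq o x
    let f : Ω → Ω := fun x => α (r x) • ω
    have hf : ∀ g : G, f (g • o) = α g • ω := by
      intro g
      change α (r (g • o)) • ω = α g • ω
      rw [key]
      exact hr _
    have hinj : Function.Injective f := by
      intro x y hxy
      change α (r x) • ω = α (r y) • ω at hxy
      rw [key, hr, hr] at hxy
      exact hxy
    have hbij : Function.Bijective f := Finite.injective_iff_bijective.mp hinj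
    let σ : Equiv.Perm Ω := Equiv.ofBijective f hbij
    have hσ : ∀ (g : G) (x : Ω), σ (g • x) = α g • σ x := by
      intro g x
      obtain ⟨h, rfl⟩ := htr.exists_smul_eq o x
      change f (g • h • o) = α g • f (h • o)
      rw [← mul_smul, hf, hf, map_mul, mul_smul]
    have hconj : ∀ g : G, ((α g : G) : Equiv.Perm Ω) = σ * (g : Equiv.Perm Ω) * σ⁻¹ := by
      intro g
      ext x
      simp only [Equiv.Perm.coe_mul, Function.comp_apply]
      have := hσ g (σ⁻¹ x)
      simp only [Equiv.Perm.coe_inv, Equiv.apply_symm_apply] at this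
      rw [Equiv.Perm.coe_inv]
      exact this.symm
    refine ⟨σ, ?_, hconj⟩
    rw [Subgroup.mem_normalizer_iff]
    intro h
    constructor
    · intro hh
      have := hconj ⟨h, hh⟩
      simp only at this
      rw [← this]
      exact (α ⟨h, hh⟩).2
    · intro hh
      have h1 := hconj (α.symm ⟨σ * h * σ⁻¹, hh⟩)
      rw [MulEquiv.apply_symm_apply] at h1
      simp only at h1
      have h2 : h = ((α.symm ⟨σ * h * σ⁻¹, hh⟩ : G) : Equiv.Perm Ω) := by
        have := congrArg (fun p => σ⁻¹ * p * σ) h1
        simp only [mul_assoc, inv_mul_cancel_left, inv_mul_cancel, mul_one] at this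
        exact this
      rw [h2]
      exact (α.symm ⟨σ * h * σ⁻¹, hh⟩).2

end Cfsg.Agent.S4275
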