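import Cfsg.Statements.S4277
import Cfsg.Agent.Helper35.PrimeIndexOut2

set_option autoImplicit false
open Cfsg

namespace Cfsg.Agent.S4277

open Cfsg.Agent.Helper35.PrimeIndexOut

/-- A case of the Schreier conjecture: if a finite simple group G has a subgroup of prime index, then the outer automorphism group of G is solvable. -/
theorem result {G : Type*} [Group G] [Finite G] [IsSimpleGroup G] (H : Subgroup G) (hH : H.index.Prime) : Group.IsSolvable (Cfsg.Out G) := by
  classical
  by_cases hc : ∀ a b : G, a * b = b * a
  · -- `G` is cyclic of prime order: `MulAut G` is abelian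
    let _ : CommGroup G := { ‹Group G› with mul_comm := hc }
    have : IsCyclic G := IsSimpleGroup.isCyclic
    apply Group.isSolvable_of_comm
    intro x y
    obtain ⟨a, rfl⟩ := QuotientGroup.mk_surjective x
    obtain ⟨b, rfl⟩ := QuotientGroup.mk_surjective y
    rw [← QuotientGroup.mk_mul, ← QuotientGroup.mk_mul]
    congr 1
    apply (IsCyclic.mulAutMulEquiv G).injective
    rw [map_mul, map_mul, mul_comm]
  · -- `G` is non-abelian simple: it acts faithfully on the cosets of `H`
    have hns : ¬ Group.IsSolvable G := fun h => hc (IsSimpleGroup.comm_iff_isSolvable.mpr h)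
    have : Finite (G ⧸ H) := inferInstance
    let _ : Fintype (G ⧸ H) := Fintype.ofFinite _
    have hcard : Fintype.card (G ⧸ H) = H.index := by
      rw [← Nat.card_eq_fintype_card]
      rfl
    have hker : (MulAction.toPermHom G (G ⧸ H)).ker = ⊥ := by
      rcases (MulAction.toPermHom G (G ⧸ H)).normal_ker.eq_bot_or_eq_top with h | h
      · exact h
      · exfalso
        have hle : (MulAction.toPermHom G (G ⧸ H)).ker ≤ H := by
          rw [← Subgroup.normalCore_eq_ker]
          exact Subgroup.normalCore_le H
        rw [h, top_le_iff] at hle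
        rw [hle, Subgroup.index_top] at hH
        exact Nat.not_prime_one hH
    have hinj : Function.Injective (MulAction.toPermHom G (G ⧸ H)) :=
      (MonoidHom.ker_eq_bot_iff _).mp hker
    have : MulAction.IsPretransitive (MulAction.toPermHom G (G ⧸ H)).range (G ⧸ H) := ⟨fun x y => by
      obtain ⟨g, hg⟩ := MulAction.exists_smul_eq G x y
      exact ⟨⟨MulAction.toPermHom G (G ⧸ H) g, g, rfl⟩, hg⟩⟩
    have hnsΓ : ¬ Group.IsSolvable (MulAction.toPermHom G (G ⧸ H)).range := fun h =>
      hns (Group.isSolvable_of_isSolvable_injective (MonoidHom.ofInjective hinj).injective)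
    have hsol := out_isSolvable_of_prime_degree (hcard ▸ hH) (MulAction.toPermHom G (G ⧸ H)).range hnsΓ
    exact out_isSolvable_congr (MonoidHom.ofInjective hinj) hsol

end Cfsg.Agent.S4277
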