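import Cfsg.Statements.S4278
import Cfsg.Agent.Helper18.InvOdd.G2Conj
import Cfsg.Agent.Helper55.G2InvC

set_option autoImplicit false
open Cfsg

namespace Cfsg.Agent.S4278

/-- In the Chevalley group of type G₂ over a finite field of odd order, any two involutions are conjugate. -/
theorem result {F : Type*} [Field F] [Fintype F] (hF : Odd (Fintype.card F)) (s t : ↥(Cfsg.Lie.chevG2.group F)) (hs : orderOf s = 2) (ht : orderOf t = 2) : IsConj s t := by
  have hC : Cfsg.Agent.Helper18.G2Odd.InvolNCases F := fun m hm hmm => Cfsg.Agent.Helper55.G2Inv.invol_N_cases m hm hmm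
  have key : ∀ x : ↥(Cfsg.Lie.chevG2.group F), orderOf x = 2 →
      Cfsg.Agent.Helper18.G2Odd.ConjG (x : GL Cfsg.Lie.chevG2.Idx F) (Cfsg.Agent.Helper18.G2Odd.tor 1 (-1)) := by
    intro x hx
    have h2 : x * x = 1 := by rw [← pow_two, ← hx, pow_orderOf_eq_one]
    have h1 : x ≠ 1 := by
      rintro rfl
      rw [orderOf_one] at hx
      omega
    apply Cfsg.Agent.Helper18.G2Odd.all_invol_conj hC hF x x.2
    · have := congrArg Subtype.val h2
      simpa using this
    · intro h
      apply h1
      exact Subtype.ext h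
  obtain ⟨g, hg, e⟩ := (key s hs).trans (key t ht).symm
  rw [isConj_iff]
  exact ⟨⟨g, hg⟩, Subtype.ext e⟩

end Cfsg.Agent.S4278
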