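import Cfsg.Statements.S4280
import Cfsg.Agent.Helper36.F4Odd.Final

set_option autoImplicit false
open Cfsg

namespace Cfsg.Agent.S4280

open Cfsg.Agent.Helper36.F4Odd in
/-- In the Chevalley group of type F₄ over a finite field of odd order q there are exactly two conjugacy classes of involutions; the centralizer of an involution in one class has order q¹⁶(q² − 1)(q⁴ − 1)(q⁶ − 1)(q⁸ − 1), and in the other class q¹⁰(q² − 1)²(q⁴ − 1)(q⁶ − 1). -/
theorem result {F : Type*} [Field F] [Fintype F] (hF : Odd (Fintype.card F)) : ∃ s t : ↥(Cfsg.Lie.chevF4.group F), orderOf s = 2 ∧ orderOf t = 2 ∧ ¬ IsConj s t ∧ (∀ u : ↥(Cfsg.Lie.chevF4.group F), orderOf u = 2 → IsConj u s ∨ IsConj u t) ∧ Nat.card (Subgroup.centralizer ({s} : Set ↥(Cfsg.Lie.chevF4.group F))) = Fintype.card F ^ 16 * (Fintype.card F ^ 2 - 1) * (Fintype.card F ^ 4 - 1) * (Fintype.card F ^ 6 - 1) * (Fintype.card F ^ 8 - 1) ∧ Nat.card (Subgroup.centralizer ({t} : Set ↥(Cfsg.Lie.chevF4.group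 F))) = Fintype.card F ^ 10 * (Fintype.card F ^ 2 - 1) ^ 2 * (Fintype.card F ^ 4 - 1) * (Fintype.card F ^ 6 - 1) := by
  have hm : ∀ b : ℕ, tor (F := F) (sv b) ∈ Cfsg.Lie.chevF4.group F := fun b => diagonal_le_group (tor_mem _)
  have hc1 : Nat.card (Subgroup.centralizer ({(⟨tor (sv 1), hm 1⟩ : ↥(Cfsg.Lie.chevF4.group F))} :
      Set ↥(Cfsg.Lie.chevF4.group F))) = Fintype.card F ^ 16 * (Fintype.card F ^ 2 - 1) * (Fintype.card F ^ 4 - 1) *
        (Fintype.card F ^ 6 - 1) * (Fintype.card F ^ 8 - 1) := by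
    rw [card_centralizer_subtype]
    exact card_Zc1 hF
  have hc8 : Nat.card (Subgroup.centralizer ({(⟨tor (sv 8), hm 8⟩ : ↥(Cfsg.Lie.chevF4.group F))} :
      Set ↥(Cfsg.Lie.chevF4.group F))) = Fintype.card F ^ 10 * (Fintype.card F ^ 2 - 1) ^ 2 * (Fintype.card F ^ 4 - 1) *
        (Fintype.card F ^ 6 - 1) := by
    rw [card_centralizer_subtype]
    exact card_Zc8 hF
  have hord : ∀ (b i : ℕ), i < 4 → b.testBit i = true →
      orderOf (⟨tor (sv b), hm b⟩ : ↥(Cfsg.Lie.chevF4.group F)) = 2 := by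
    intro b i hi hb
    apply orderOf_eq_prime
    · rw [pow_two]
      exact Subtype.ext (tor_sv_sq b)
    · intro h
      exact tor_sv_ne_one hF b i hi hb (congrArg Subtype.val h)
  refine ⟨⟨tor (sv 1), hm 1⟩, ⟨tor (sv 8), hm 8⟩, hord 1 0 (by norm_num) (by decide), hord 8 3 (by norm_num) (by decide),
    ?_, ?_, hc1, hc8⟩
  · intro hconj
    obtain ⟨g, hg⟩ := isConj_iff.mp hconj
    have hq : 2 ≤ Fintype.card F := Fintype.one_lt_card
    apply arith_ne (Fintype.card F) hq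
    rw [← hc1, ← hc8, ← hg]
    exact card_centralizer_conj g _
  · intro u hu
    have hu2 : (u : GL Cfsg.Lie.chevF4.Idx F) * u = 1 := by
      have h1 : u ^ 2 = 1 := by rw [← hu]; exact pow_orderOf_eq_one u
      rw [pow_two] at h1
      exact congrArg Subtype.val h1
    have hu1 : (u : GL Cfsg.Lie.chevF4.Idx F) ≠ 1 := by
      intro h
      have : u = 1 := Subtype.ext h
      rw [this, orderOf_one] at hu
      norm_num at hu
    rcases invol_classes hF (u : GL Cfsg.Lie.chevF4.Idx F) u.2 hu2 hu1 with ⟨g, hg, e⟩ | ⟨g, hg, e⟩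
    · left
      exact isConj_iff.mpr ⟨⟨g, hg⟩, Subtype.ext e⟩
    · right
      exact isConj_iff.mpr ⟨⟨g, hg⟩, Subtype.ext e⟩

end Cfsg.Agent.S4280
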