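import Cfsg.Statements.S4282
import Cfsg.Agent.Helper64.HHCrit
import Cfsg.Agent.Helper64.HHPow

set_option autoImplicit false
open Cfsg

namespace Cfsg.Agent.S4282

open Cfsg.Agent.Helper64 Module
open scoped Pointwise

section aux

variable {G : Type*} [Group G] [Finite G] {K : Type*} [Field K] {V : Type*} [AddCommGroup V]
  [Module K V]

/-- An element of a normal `q`-subgroup lying in `⟨x⟩ ⊔ Z(G)` with `x` a `p`-element is central. -/
theorem mem_center_of_mem_sup (p q : ℕ) [hp : Fact p.Prime] [hq : Fact q.Prime] (hpq : p ≠ q)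
    (x g : G) (hx : IsPGroup p (Subgroup.zpowers x)) (k : ℕ) (hg : g ^ q ^ k = 1)
    (hmem : g ∈ Subgroup.zpowers x ⊔ Subgroup.center G) : g ∈ Subgroup.center G := by
  have hset : ((Subgroup.zpowers x ⊔ Subgroup.center G : Subgroup G) : Set G)
      = (Subgroup.zpowers x : Set G) * (Subgroup.center G : Set G) := Subgroup.mul_normal _ _
  have hmem' : g ∈ (Subgroup.zpowers x : Set G) * (Subgroup.center G : Set G) := by
    rw [← hset]; exact hmem
  obtain ⟨a, ha, z, hz, rfl⟩ := Set.mem_mul.mp hmem'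
  obtain ⟨n, hn⟩ := hx.exists_card_eq
  have hao : a ^ (p ^ n) = 1 := by
    have : (⟨a, ha⟩ : Subgroup.zpowers x) ^ (p ^ n) = 1 := by
      rw [← hn]; exact pow_card_eq_one'
    exact congrArg Subtype.val this
  have hcomm : Commute a z := Subgroup.mem_center_iff.mp hz a
  have hpow : (a * z) ^ (p ^ n) = z ^ (p ^ n) := by
    rw [hcomm.mul_pow, hao, one_mul]
  have hcop : (p ^ n).Coprime (orderOf (a * z)) := by
    have hdvd : orderOf (a * z) ∣ q ^ k := orderOf_dvd_of_pow_eq_one hg
    apply Nat.Coprime.coprime_dvd_right hdvd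
    apply Nat.Coprime.pow
    exact (Nat.coprime_primes hp.1 hq.1).mpr hpq
  obtain ⟨m, hm⟩ := exists_pow_eq_self_of_coprime hcop
  rw [← hm, hpow]
  exact Subgroup.pow_mem _ (Subgroup.pow_mem _ hz _) _

theorem exists_eq_smul_one_of_finrank_eq_one [FiniteDimensional K V] (h1 : finrank K V = 1)
    (A : Module.End K V) : ∃ c : K, A = c • (1 : Module.End K V) := by
  obtain ⟨v, hv⟩ := finrank_eq_one_iff'.mp h1
  obtain ⟨c, hc⟩ := hv.2 (A v)
  refine ⟨c, ?_⟩
  apply LinearMap.ext; intro w
  obtain ⟨d, rfl⟩ := hv.2 w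
  rw [map_smul, ← hc, LinearMap.smul_apply, Module.End.one_apply, smul_comm]

end aux

/-- A critical case behind the Hall–Higman theorem. Let p ≠ q be primes and G a finite group generated by a normal q-subgroup Q and a cyclic p-subgroup generated by x, such that the centralizer of every non-identity element of that cyclic subgroup is its product with the centre of G. Let K be an algebraically closed field of characteristic p and ρ a faithful representation of G on a nonzero finite-dimensional K-space whose restriction to Q is irreducible. If s is the least exponent with (ρ(x) − 1)^s = 0, then |⟨x⟩| − 1 ≤ s ≤ |⟨x⟩|; and if s = |⟨x⟩| − 1 then |⟨x⟩| − 1 is a power of q and Q is non-abelian. -/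
theorem result {G : Type*} [Group G] [Finite G] (p q : ℕ) [Fact p.Prime] [Fact q.Prime] (hpq : p ≠ q) (Q : Subgroup G) [Q.Normal] (hQ : IsPGroup q Q) (x : G) (hx : IsPGroup p (Subgroup.zpowers x)) (hgen : Q ⊔ Subgroup.zpowers x = ⊤) (hC : ∀ y ∈ Subgroup.zpowers x, y ≠ 1 → Subgroup.centralizer ({y} : Set G) = Subgroup.zpowers x ⊔ Subgroup.center G) {K : Type*} [Field K] [IsAlgClosed K] [CharP K p] {V : Type*} [AddCommGroup V] [Module K V] [FiniteDimensional K V] [Nontrivial V] (ρ : Representation K G V) (hfaith : Function.Injective ρ) (hirr : ∀ W : Submodule K V, (∀ g ∈ Q, Submodule.map (ρ g) W ≤ W) → W = ⊥ ∨ W = ⊤) (s : ℕ) (hs : (ρ x - 1) ^ s = 0) (hmin : ∀ k < s, (ρ x - 1) ^ k ≠ 0) : Nat.card (Subgroup.zpowers x) - 1 ≤ s ∧ s ≤ Nat.card (Subgroup.zpowers x) ∧ (s = Nat.card (Subgroup.zpowers x) - 1 → (∃ b : ℕ, Nat.card (Subgroup.zpowers x) - 1 = q ^ b) ∧ ¬ IsMulCommutative Q) := by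
  classical
  have hp : p.Prime := Fact.out
  have hqp : q.Prime := Fact.out
  haveI : Fintype Q := Fintype.ofFinite Q
  -- the order of x
  obtain ⟨n, hn⟩ := hx.exists_card_eq
  have hord : orderOf x = p ^ n := by rw [← hn, Nat.card_zpowers]
  rw [hn]
  -- ρ restricted to Q
  obtain ⟨ρQ, hρQ⟩ : ∃ ρQ : Representation K Q V, ρQ = ρ.comp Q.subtype := ⟨_, rfl⟩
  have hρQa : ∀ g : Q, ρQ g = ρ (g : G) := fun g => by rw [hρQ]; rfl
  have hirrQ : ElemIrred ρQ := by
    refine ⟨inferInstance, ?_⟩
    intro W hW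
    apply hirr W
    intro g hg
    rintro _ ⟨v, hv, rfl⟩
    have := hW ⟨g, hg⟩ v hv
    rwa [hρQa] at this
  haveI : ρQ.IsIrreducible := isIrreducible_of_elemIrred hirrQ
  -- q ≠ 0 in K
  have hqK : (q : K) ≠ 0 := by
    intro h
    have := (CharP.cast_eq_zero_iff K p q).mp h
    exact hpq ((Nat.prime_dvd_prime_iff_eq hp hqp).mp this)
  have hQK : (Nat.card Q : K) ≠ 0 := by
    obtain ⟨k, hk⟩ := hQ.exists_card_eq
    rw [hk, Nat.cast_pow]
    exact pow_ne_zero _ hqK
  -- X, X', α
  have hXX' : ρ x * ρ x⁻¹ = 1 := by rw [← map_mul, mul_inv_cancel, map_one]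
  have hX'X : ρ x⁻¹ * ρ x = 1 := by rw [← map_mul, inv_mul_cancel, map_one]
  have hα : ∀ g : Q, ρ x * ρQ g * ρ x⁻¹ = ρQ (MulAut.conjNormal x g) := by
    intro g
    rw [hρQa, hρQa, MulAut.conjNormal_apply, map_mul, map_mul]
  have hαo : (MulAut.conjNormal x : MulAut Q) ^ (p ^ n) = 1 := by
    rw [← map_pow, ← hord, pow_orderOf_eq_one, map_one]
  have hXo : ρ x ^ (p ^ n) = 1 := by
    rw [← map_pow, ← hord, pow_orderOf_eq_one, map_one]
  have hfree : ∀ (g : Q) (i : ℕ), 0 < i → i < p ^ n →
      ((MulAut.conjNormal x : MulAut Q) ^ i) g = g → ∃ c : K, ρQ g = c • (1 : Module.End K V) := by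
    intro g i hi0 hio hfix
    have hyne : x ^ i ≠ 1 := by
      apply pow_ne_one_of_lt_orderOf (by omega)
      rw [hord]; exact hio
    have hcen : (g : G) ∈ Subgroup.centralizer ({x ^ i} : Set G) := by
      rw [Subgroup.mem_centralizer_singleton_iff]
      have h1 : ((((MulAut.conjNormal x : MulAut Q) ^ i) g : Q) : G) = (g : G) := by rw [hfix]
      rw [← map_pow, MulAut.conjNormal_apply] at h1
      calc (g : G) * x ^ i = (x ^ i * (g : G) * (x ^ i)⁻¹) * x ^ i := by rw [h1]
        _ = x ^ i * (g : G) := by group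
    rw [hC (x ^ i) (Subgroup.pow_mem _ (Subgroup.mem_zpowers x) i) hyne] at hcen
    obtain ⟨k, hk⟩ := hQ.exists_card_eq
    have hgk : (g : G) ^ q ^ k = 1 := by
      have : g ^ q ^ k = 1 := by rw [← hk]; exact pow_card_eq_one'
      exact_mod_cast congrArg Subtype.val this
    have hz := mem_center_of_mem_sup p q hpq x (g : G) hx k hgk hcen
    apply exists_eq_smul_one_of_commute ρQ (ρQ g)
    intro h
    rw [hρQa, hρQa, ← map_mul, ← map_mul, Subgroup.mem_center_iff.mp hz (h : G)]
  -- (ρ x - 1)^(p^n) = 0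
  have hnil : (ρ x - 1) ^ (p ^ n) = 0 := by
    have hpoly : ((Polynomial.X : Polynomial K) - 1) ^ (p ^ n) = Polynomial.X ^ (p ^ n) - 1 := by
      rw [sub_pow_char_pow, one_pow]
    have := congrArg (Polynomial.aeval (ρ x)) hpoly
    simp only [map_sub, map_pow, Polynomial.aeval_X, map_one] at this
    rw [this, hXo, sub_self]
  have hso : s ≤ p ^ n := by
    by_contra hlt
    push Not at hlt
    exact hmin (p ^ n) hlt hnil
  have hone_ne : (1 : Module.End K V) ≠ 0 := by
    intro h
    obtain ⟨v, hv⟩ := exists_ne (0 : V)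
    apply hv
    have : (1 : Module.End K V) v = (0 : Module.End K V) v := by rw [h]
    simpa using this
  have hspos : 0 < s := by
    rcases Nat.eq_zero_or_pos s with h | h
    · rw [h, pow_zero] at hs
      exact absurd hs hone_ne
    · exact h
  -- the case x = 1
  by_cases hx1 : x = 1
  · have hn0 : p ^ n = 1 := by rw [← hord, hx1, orderOf_one]
    rw [hn0]
    refine ⟨by omega, by omega, ?_⟩
    intro h; omega
  -- dim V ≥ 2
  have hN : 2 ≤ finrank K V := by
    by_contra hlt
    push Not at hlt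
    have hpos : 0 < finrank K V := Module.finrank_pos
    have h1 : finrank K V = 1 := by omega
    apply hx1
    apply hfaith
    rw [map_one]
    obtain ⟨c, hc⟩ := exists_eq_smul_one_of_finrank_eq_one h1 (ρ x)
    have hc1 : (c - 1) ^ (p ^ n) = 0 := by
      have h2 : (ρ x - 1) = (c - 1) • (1 : Module.End K V) := by rw [hc, sub_smul, one_smul]
      rw [h2, smul_pow, one_pow] at hnil
      rcases smul_eq_zero.mp hnil with h3 | h3
      · exact h3
      · exact absurd h3 hone_ne
    have : c = 1 := sub_eq_zero.mp (pow_eq_zero_iff (pow_ne_zero _ hp.ne_zero) |>.mp hc1)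
    rw [hc, this, one_smul]
  -- the main dichotomy
  have hcrit : s ≤ p ^ n - 1 → finrank K V = p ^ n - 1 ∧ s = p ^ n - 1 := by
    intro hle
    exact critical_linear p n ρQ hQK (ρ x) (ρ x⁻¹) hXX' hX'X (MulAut.conjNormal x) hα hαo hXo
      hfree s hs hle hN
  refine ⟨?_, hso, ?_⟩
  · by_contra hlt
    push Not at hlt
    have := (hcrit (by omega)).2
    omega
  · intro hseq
    obtain ⟨hNeq, _⟩ := hcrit (by omega)
    constructor
    · obtain ⟨b, hb⟩ := exists_finrank_eq_prime_pow (K := K) q hqK (Nat.card Q) Q hQ le_rfl V ρQ hirrQ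
      exact ⟨b, by rw [← hNeq, hb]⟩
    · intro hcomm
      haveI : IsMulCommutative Q := hcomm
      have := Representation.IsIrreducible.finrank_eq_one_of_isMulCommutative ρQ
      omega

end Cfsg.Agent.S4282
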