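import Cfsg.Statements.S4283
import Cfsg.Agent.Helper71.FrobCoprime

set_option autoImplicit false
open Cfsg

namespace Cfsg.Agent.S4283

open Cfsg.Agent.Helper71

/-- Let G be a finite group with centre Z and let K, H be abelian subgroups of G containing Z such that G/Z is a Frobenius group with complement H/Z and kernel K/Z. Then the conjugacy class sizes of G are exactly 1, [G : K] and [G : H], and these two indices are coprime. (This is the converse half of the characterization of finite groups whose conjugacy class sizes are exactly 1, m and n with m and n coprime.) -/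
theorem result {G : Type*} [Group G] [Finite G] (K H : Subgroup G) (hZK : Subgroup.center G ≤ K) (hZH : Subgroup.center G ≤ H) (hK : IsMulCommutative K) (hH : IsMulCommutative H) (hFrob : Cfsg.IsFrobeniusComplement (H.map (QuotientGroup.mk' (Subgroup.center G)))) (hker : Cfsg.frobeniusKernel (H.map (QuotientGroup.mk' (Subgroup.center G))) = (K.map (QuotientGroup.mk' (Subgroup.center G)) : Set (G ⧸ Subgroup.center G))) : Set.range (fun x : G => (Subgroup.centralizer ({x} : Set G)).index) = ({1, K.index, H.index} : Set ℕ) ∧ K.index.Coprime H.index := by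
  classical
  have commK : ∀ a ∈ K, ∀ b ∈ K, a * b = b * a := by
    intro a ha b hb
    exact congrArg Subtype.val (isMulCommutative_iff.mp hK ⟨a, ha⟩ ⟨b, hb⟩)
  have commH : ∀ a ∈ H, ∀ b ∈ H, a * b = b * a := by
    intro a ha b hb
    exact congrArg Subtype.val (isMulCommutative_iff.mp hH ⟨a, ha⟩ ⟨b, hb⟩)
  set Z := Subgroup.center G with hZdef
  have hπ : ∀ x : G, (QuotientGroup.mk' Z x = 1) ↔ x ∈ Z := fun x => QuotientGroup.eq_one_iff x
  have memGen : ∀ (M : Subgroup G), Z ≤ M → ∀ x : G,
      QuotientGroup.mk' Z x ∈ M.map (QuotientGroup.mk' Z) ↔ x ∈ M := by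
    intro M hZM x
    constructor
    · rintro ⟨y, hy, hyx⟩
      have h1 : y⁻¹ * x ∈ Z := by
        rw [← QuotientGroup.eq]
        exact hyx
      have h2 := M.mul_mem hy (hZM h1)
      simpa using h2
    · intro hx; exact ⟨x, hx, rfl⟩
  have memH := memGen H hZH
  have memK := memGen K hZK
  obtain ⟨hHbot, hHtop, hF⟩ := (isFrobeniusComplement_iff _).mp hFrob
  have kerK : ∀ x : G, x ∈ K ↔ (x ∈ Z ∨ ∀ g : G, g⁻¹ * x * g ∉ H) := by
    intro x
    rw [← memK x]
    have h0 : (QuotientGroup.mk' Z x ∈ K.map (QuotientGroup.mk' Z)) ↔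
        QuotientGroup.mk' Z x ∈ frobeniusKernel (H.map (QuotientGroup.mk' Z)) := by
      rw [hker]; rfl
    rw [h0, mem_frobeniusKernel_iff, hπ]
    apply or_congr Iff.rfl
    constructor
    · intro h g hg
      apply h (QuotientGroup.mk' Z g)
      rw [← map_inv, ← map_mul, ← map_mul, memH]; exact hg
    · intro h gb
      obtain ⟨g, rfl⟩ := QuotientGroup.mk'_surjective Z gb
      rw [← map_inv, ← map_mul, ← map_mul, memH]; exact h g
  have hF' : ∀ g : G, g ∉ H → ∀ x ∈ H, g⁻¹ * x * g ∈ H → x ∈ Z := by
    intro g hg x hx hgx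
    rw [← hπ]
    apply hF (QuotientGroup.mk' Z g) (by rwa [memH]) _ ((memH x).mpr hx)
    rw [← map_inv, ← map_mul, ← map_mul, memH]; exact hgx
  have memC : ∀ x c : G, c ∈ Subgroup.centralizer ({x} : Set G) ↔ c * x = x * c := by
    intro x c
    rw [Subgroup.mem_centralizer_singleton_iff]
  -- centralizers of central elements
  have centZ : ∀ x ∈ Z, (Subgroup.centralizer ({x} : Set G)).index = 1 := by
    intro x hx
    have : Subgroup.centralizer ({x} : Set G) = ⊤ := by
      rw [Subgroup.centralizer_eq_top_iff_subset]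
      intro y hy
      rw [Set.mem_singleton_iff] at hy
      rw [hy]; exact hx
    rw [this, Subgroup.index_top]
  -- centralizers of elements of H \ Z
  have centH : ∀ x ∈ H, x ∉ Z → Subgroup.centralizer ({x} : Set G) = H := by
    intro x hx hxZ
    apply le_antisymm
    · intro c hc
      rw [memC] at hc
      by_contra hcH
      apply hxZ
      apply hF' c hcH x hx
      have : c⁻¹ * x * c = x := by
        rw [mul_assoc, ← hc, ← mul_assoc, inv_mul_cancel, one_mul]
      rw [this]; exact hx
    · intro c hc
      rw [memC]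
      exact commH c hc x hx
  -- centralizers of elements of K \ Z
  have centK : ∀ x ∈ K, x ∉ Z → Subgroup.centralizer ({x} : Set G) = K := by
    intro x hx hxZ
    have hxall : ∀ g : G, g⁻¹ * x * g ∉ H := by
      rcases (kerK x).mp hx with h | h
      · exact absurd h hxZ
      · exact h
    apply le_antisymm
    · intro c hc
      rw [memC] at hc
      by_contra hcK
      rw [kerK] at hcK
      push Not at hcK
      obtain ⟨hcZ, g, hg⟩ := hcK
      -- c' = g⁻¹ c g ∈ H, x' = g⁻¹ x g ∉ H commute
      have hx' : g⁻¹ * x * g ∉ H := hxall g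
      have h1 : g⁻¹ * c * g ∈ Z := by
        apply hF' (g⁻¹ * x * g) hx' (g⁻¹ * c * g) hg
        have : (g⁻¹ * x * g)⁻¹ * (g⁻¹ * c * g) * (g⁻¹ * x * g) = g⁻¹ * (x⁻¹ * (c * x)) * g := by
          group
        rw [this, hc]
        have : g⁻¹ * (x⁻¹ * (x * c)) * g = g⁻¹ * c * g := by group
        rw [this]; exact hg
      apply hcZ
      have h2 : c = g * (g⁻¹ * c * g) * g⁻¹ := by group
      rw [h2]
      have hn : (Subgroup.center G).Normal := inferInstance
      exact hn.conj_mem _ h1 g
    · intro c hc
      rw [memC]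
      exact commK c hc x hx
  -- elements outside K
  have centO : ∀ x : G, x ∉ K → (Subgroup.centralizer ({x} : Set G)).index = H.index := by
    intro x hxK
    rw [kerK] at hxK
    push Not at hxK
    obtain ⟨hxZ, g, hg⟩ := hxK
    have hx'Z : g⁻¹ * x * g ∉ Z := by
      intro h1
      apply hxZ
      have h2 : x = g * (g⁻¹ * x * g) * g⁻¹ := by group
      rw [h2]
      have hn : (Subgroup.center G).Normal := inferInstance
      exact hn.conj_mem _ h1 g
    have h3 := centH _ hg hx'Z
    have h4 : Subgroup.centralizer ({x} : Set G) =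
        (Subgroup.centralizer ({g⁻¹ * x * g} : Set G)).map ((MulAut.conj g : G ≃* G) : G →* G) := by
      ext c
      rw [memC, Subgroup.mem_map]
      constructor
      · intro hc
        refine ⟨g⁻¹ * c * g, ?_, ?_⟩
        · rw [memC]
          have e1 : g⁻¹ * c * g * (g⁻¹ * x * g) = g⁻¹ * (c * x) * g := by group
          have e2 : g⁻¹ * x * g * (g⁻¹ * c * g) = g⁻¹ * (x * c) * g := by group
          rw [e1, e2, hc]
        · simp only [MonoidHom.coe_coe, MulAut.conj_apply]
          group
      · rintro ⟨d, hd, rfl⟩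
        rw [memC] at hd
        simp only [MonoidHom.coe_coe, MulAut.conj_apply]
        have e1 : g * d * g⁻¹ * x = g * (d * (g⁻¹ * x * g)) * g⁻¹ := by group
        have e2 : x * (g * d * g⁻¹) = g * ((g⁻¹ * x * g) * d) * g⁻¹ := by group
        rw [e1, e2, hd]
    rw [h4, Subgroup.index_map_equiv, h3]
  -- existence of elements
  have exH : ∃ x ∈ H, x ∉ Z := by
    by_contra hcon
    push Not at hcon
    apply hHbot
    rw [eq_bot_iff]
    rintro _ ⟨y, hy, rfl⟩
    rw [Subgroup.mem_bot, hπ]
    exact hcon y hy
  obtain ⟨N, hNn, hN, hcompl, hcop, -⟩ := frob_kernel_data hFrob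
  have hNK : N = K.map (QuotientGroup.mk' Z) := SetLike.coe_injective (hN.trans hker)
  have exK : ∃ x ∈ K, x ∉ Z := by
    by_contra hcon
    push Not at hcon
    apply hHtop
    rw [← Subgroup.isComplement'_bot_left]
    have : N = ⊥ := by
      rw [hNK, eq_bot_iff]
      rintro _ ⟨y, hy, rfl⟩
      rw [Subgroup.mem_bot, hπ]
      exact hcon y hy
    rw [← this]; exact hcompl
  refine ⟨?_, ?_⟩
  · ext n
    simp only [Set.mem_range, Set.mem_insert_iff, Set.mem_singleton_iff]
    constructor
    · rintro ⟨x, rfl⟩
      by_cases hxZ : x ∈ Z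
      · left; exact centZ x hxZ
      · by_cases hxK : x ∈ K
        · right; left; rw [centK x hxK hxZ]
        · right; right; exact centO x hxK
    · rintro (rfl | rfl | rfl)
      · exact ⟨1, centZ 1 (Subgroup.one_mem _)⟩
      · obtain ⟨x, hx, hxZ⟩ := exK
        exact ⟨x, by rw [centK x hx hxZ]⟩
      · obtain ⟨x, hx, hxZ⟩ := exH
        exact ⟨x, by rw [centH x hx hxZ]⟩
  · have hsurj : Function.Surjective (QuotientGroup.mk' Z) := QuotientGroup.mk'_surjective Z
    have hkerZ : (QuotientGroup.mk' Z).ker = Z := QuotientGroup.ker_mk' Z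
    have iK : (K.map (QuotientGroup.mk' Z)).index = K.index :=
      Subgroup.index_map_eq K hsurj (by rw [hkerZ]; exact hZK)
    have iH : (H.map (QuotientGroup.mk' Z)).index = H.index :=
      Subgroup.index_map_eq H hsurj (by rw [hkerZ]; exact hZH)
    rw [← iK, ← iH, ← hNK]
    have e1 : N.index = Nat.card (H.map (QuotientGroup.mk' Z)) := hcompl.symm.index_eq_card
    have e2 : (H.map (QuotientGroup.mk' Z)).index = Nat.card N := hcompl.index_eq_card
    rw [e1, e2]
    exact hcop

end Cfsg.Agent.S4283
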