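import Cfsg.Statements.S4284
import Cfsg.Agent.Helper2.CS2Api
import Cfsg.Agent.Helper80.CS2P0a
import Cfsg.Agent.Helper48.CS2ST2
import Cfsg.Agent.Helper37.CS2Acyc
import Cfsg.Agent.Helper24.CS2Afin1
import Cfsg.Agent.Helper24.CS2Afin2
import Cfsg.Agent.Helper51.CS2A12
import Cfsg.Agent.Helper68.CS2Afin3
import Cfsg.Agent.Helper50.CS2B7a
import Cfsg.Agent.Helper2.CS2ST3
import Cfsg.Agent.Helper23.CS2AH
import Cfsg.Agent.Helper79.CS2B7b
import Cfsg.Agent.Helper51.CS2B6
import Cfsg.Agent.Helper48.CS2ST1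
import Cfsg.Agent.Helper68.CS2A34
import Cfsg.Agent.Helper86.CS2B1
import Cfsg.Agent.Helper2.CS2Aexp

set_option autoImplicit false
set_option maxHeartbeats 400000
open Cfsg

namespace Cfsg.Agent.S4284

open Cfsg.Agent.Helper2.CS2 Subgroup

variable {G : Type*} [Group G] [Finite G] {m n : ℕ}

/-- Case B is impossible. -/
theorem caseB_false (h : Hyp G m n) (hB : CaseB G m) : False := by
  have hsq : ∀ t : ℕ, t.Prime → t ∣ m → m.factorization t = 1 :=
    fun t ht htm => Cfsg.Agent.Helper86.CS2.caseB_sqfree h hB ht htm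
  have hW : ∀ {r : ℕ} {x : G}, Good m r x →
      ∃ (t₀ : ℕ) (y : G), t₀.Prime ∧ t₀ ∣ m ∧ IsPElt t₀ y ∧ y ∉ center G ∧
        ∀ γ : G, Cn y ≤ Cn (γ * x * γ⁻¹) := fun hx => Cfsg.Agent.Helper48.CS2.struct_W h hB hsq hx
  have hS : StructB G m := by
    refine ⟨?_, ?_, ?_⟩
    · intro r x hx γ δ
      obtain ⟨t₀, y, _, _, _, _, hy⟩ := hW hx
      have h1 : y ∈ Cn (γ * x * γ⁻¹) := hy γ (self_mem_Cn y)
      have h2 : γ * x * γ⁻¹ ∈ Cn y := mem_Cn_iff'.2 (mem_Cn_iff'.1 h1).symm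
      exact mem_Cn_iff'.1 (hy δ h2)
    · intro r x hx t ht htm τ hτ hc γ
      exact Cfsg.Agent.Helper48.CS2.struct_c h hB hsq hx (hW hx) ht htm hτ hc γ
    · intro t _ htm T
      obtain ⟨r, x, hx⟩ := Cfsg.Agent.Helper80.CS2.CaseB.exists_good h hB
      exact Cfsg.Agent.Helper2.CS2.struct_d h hB hsq hx (hW hx) htm T
  obtain ⟨r, t, _, x, b, a₀, g, T, hC⟩ := Cfsg.Agent.Helper50.CS2.caseB_config_of_B6 h hB hsq hS
    (fun hx _ ht htm _ hg hgK _ hb hbc hgb =>
      Cfsg.Agent.Helper51.CS2.caseB_b_good h hB hS hx ht htm hg hgK hb hbc hgb)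
  exact Cfsg.Agent.Helper79.CS2.caseB_config_false h hB hsq hS hC

/-- Case A gives the conclusion. -/
theorem caseA_main (h : Hyp G m n) {t : ℕ} (ht : t.Prime) (htm : t ∣ m) {x : G} (hx : IsPElt t x)
    (hxm : idx x = m) :
    m.Prime ∧ m ∣ n - 1 ∧
      (∃ M : Subgroup G, M.Normal ∧ (M : Set G) = {x : G | idx x = 1 ∨ idx x = m} ∧ M.index = m ∧
        IsMulCommutative M) ∧
      (∃ N : Subgroup G, N.Normal ∧ (Nat.card N).Coprime m ∧ ∃ a : ℕ, N.index = m ^ a) ∧
      ∀ P : Sylow m G, Nat.card (commutator (P : Subgroup G)) = m := by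
  haveI : Fact t.Prime := ⟨ht⟩
  have h12 := fun (y : G) (hy : IsPElt t y) (hym : idx y = m) => Cfsg.Agent.Helper51.CS2.caseA_split h ht htm hy hym
  have h34 : ∀ s : ℕ, s.Prime → s ∣ m →
      (∃ d ∈ Cn x, (∀ b ∈ Cn x, Commute d b) ∧ IsPElt s d ∧ d ∉ center G) ∧
      (∃ g ∈ normalizer (Cn x : Set G), IsPElt s g ∧ g ∉ Cn x) :=
    fun s hs hsm => Cfsg.Agent.Helper68.CS2.caseA_normalizer_elt h ht htm hx hxm (h12 x hx hxm) hs hsm
  obtain ⟨a, hma⟩ := Cfsg.Agent.Helper2.CS2.caseA_prime_power h ht htm hx hxm h34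
  have h1 : ∀ y : G, IsPElt t y → idx y = m →
      ∀ a ∈ Cn y, ∀ b ∈ Cn y, IsPElt t a → (orderOf b).Coprime t → Commute a b := by
    intro y hy hym a ha b hb hat hbt
    obtain ⟨Q, _, _, hQall, hQc, _⟩ := h12 y hy hym
    exact hQc a (hQall a ha hat) b hb hbt
  obtain ⟨H, hHn, hHcop, ⟨k, hHidx⟩, hHab, hHZ, hHC, hMab⟩ :=
    Cfsg.Agent.Helper23.CS2.caseA_H h ht htm hx hxm a hma h1
  haveI := hHn
  set M : Subgroup G := centralizer (H : Set G) with hM
  have hMx : Cn x = M := hHC x hx hxm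
  have hMidx : M.index = m := by rw [← hMx]; exact hxm
  have hxM : x ∈ M := by rw [← hMx]; exact self_mem_Cn x
  have hxZ : x ∉ center G := by
    intro hc
    have := (idx_eq_one_iff x).2 hc
    have := h.one_lt_m
    omega
  have hZM : center G ≤ M := center_le_centralizer _
  have hHM : H ≤ M := fun u hu => by
    rw [hM, mem_centralizer_iff]
    intro v hv
    exact hHab v hv u hu
  have hsr : ∀ g : G, g ∉ M → ∀ v ∈ M, g * v = v * g → v ∈ center G := by
    intro g hg v hv hgv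
    by_contra hvZ
    have hMv : M ≤ Cn v := fun u hu => mem_Cn_iff.2 (hMab u hu v hv)
    have hdvd : idx v ∣ m := by rw [← hMidx]; exact index_dvd_of_le hMv
    have hvm : idx v = m := by
      rcases h.idx_of_not_mem_center hvZ with h' | h'
      · exact h'
      · exfalso
        rw [h'] at hdvd
        have := Nat.le_of_dvd h.m_pos hdvd
        have hn := h.one_lt_n
        have hm := h.m_pos
        nlinarith
    have : Cn x = Cn v := Cn_eq_of_le_of_idx_le (by rw [hMx]; exact hMv) (by rw [hxm, hvm])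
    apply hg
    rw [← hMx, this]
    exact mem_Cn_iff.2 hgv
  have hexp : ∀ g : G, g ^ t ∈ M :=
    Cfsg.Agent.Helper2.CS2.caseA_exponent M hMab hsr ⟨x, hxM, hx, hxZ⟩ ⟨a, by rw [hMidx, hma]⟩
  have hMne : M ≠ ⊤ := by
    intro htop
    rw [htop, index_top] at hMidx
    have := h.one_lt_m
    omega
  have hu : ∃ u ∈ M, (orderOf u).Coprime t ∧ u ∉ center G := by
    by_contra hcon
    apply hHZ
    intro u hu
    by_contra huZ
    apply hcon
    refine ⟨u, hHM hu, ?_, huZ⟩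
    exact Nat.Coprime.coprime_dvd_left (orderOf_dvd_natCard (⟨u, hu⟩ : H) |> fun hd => by
      rwa [Subgroup.orderOf_mk] at hd) hHcop
  have hidx : M.index = t :=
    Cfsg.Agent.Helper37.CS2.caseA_index M hMab hsr hexp ⟨a, by rw [hMidx, hma]⟩ hMne hu
  have hmt : m = t := by rw [← hMidx, hidx]
  subst hmt
  have hmp : m.Prime := ht
  obtain ⟨hMset, hcard⟩ := Cfsg.Agent.Helper24.CS2.caseA_final1 h hmp M hMab hMidx hZM hsr
  have hdiv : m ∣ n - 1 :=
    Cfsg.Agent.Helper24.CS2.caseA_final2 h hmp M H hMab hMidx hZM hsr hcard hHM hHcop ⟨k, hHidx⟩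
  refine ⟨hmp, hdiv, ⟨M, inferInstance, hMset, hMidx, ?_⟩, ⟨H, hHn, hHcop, k, hHidx⟩, ?_⟩
  · exact ⟨⟨fun a b => Subtype.ext (hMab a a.2 b b.2)⟩⟩
  · intro P
    exact Cfsg.Agent.Helper68.CS2.caseA_final3 h hmp M hMab hMidx hZM hsr hcard P

/-- Let G be a finite group with no nontrivial abelian direct factor whose conjugacy class sizes are exactly 1, m and m·n with m, n > 1 coprime. Then m is a prime p dividing n − 1; the elements whose class has size 1 or p form an abelian normal subgroup of index p; G has a normal p-complement; and the commutator subgroup of a Sylow p-subgroup of G has order p. -/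
theorem result {G : Type*} [Group G] [Finite G] (hnodf : ∀ A B : Subgroup G, A.Normal → B.Normal → A ⊓ B = ⊥ → A ⊔ B = ⊤ → IsMulCommutative A → A = ⊥) (m n : ℕ) (hm : 1 < m) (hn : 1 < n) (hcop : m.Coprime n) (h : Set.range (fun x : G => (Subgroup.centralizer ({x} : Set G)).index) = ({1, m, m * n} : Set ℕ)) : m.Prime ∧ m ∣ n - 1 ∧ (∃ M : Subgroup G, M.Normal ∧ (M : Set G) = {x : G | (Subgroup.centralizer ({x} : Set G)).index = 1 ∨ (Subgroup.centralizer ({x} : Set G)).index = m} ∧ M.index = m ∧ IsMulCommutative M) ∧ (∃ N : Subgroup G, N.Normal ∧ (Nat.card N).Coprime m ∧ ∃ a : ℕ, N.index = m ^ a) ∧ ∀ P : Sylow m G, Nat.card (commutator (P : Subgroup G)) = m := by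
  have hH : Hyp G m n := Hyp.of_range hm hn hcop h
  by_cases hB : CaseB G m
  · exact (caseB_false hH hB).elim
  · unfold CaseB at hB
    push Not at hB
    obtain ⟨t, y, ht, htm, hy, hym⟩ := hB
    exact caseA_main hH ht htm hy hym

end Cfsg.Agent.S4284
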