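import Cfsg.Statements.S4292
import Cfsg.Agent.Helper2.NormFrob
import Cfsg.Agent.Helper2.NormLift
import Cfsg.Agent.Helper2.NormMapDomain
import Cfsg.Agent.Helper97.NormIdealCD
import Cfsg.Agent.Helper49.NormIdealB
import Cfsg.Agent.Helper25.NFProd

set_option autoImplicit false
open Cfsg

namespace Cfsg.Agent.S4292

/-- Let A and B be nontrivial finite groups. Then the direct product A × B occurs as a Frobenius complement if and only if A and B both occur as Frobenius complements and the orders of A and B are coprime. -/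
theorem result {A B : Type*} [Group A] [Finite A] [Nontrivial A] [Group B] [Finite B] [Nontrivial B] :
    (∃ (L : Type) (_ : Group L) (_ : Finite L) (H : Subgroup L), Cfsg.IsFrobeniusComplement H ∧ Nonempty ((A × B) ≃* H)) ↔
    ((∃ (L : Type) (_ : Group L) (_ : Finite L) (H : Subgroup L), Cfsg.IsFrobeniusComplement H ∧ Nonempty (A ≃* H)) ∧
     (∃ (L : Type) (_ : Group L) (_ : Finite L) (H : Subgroup L), Cfsg.IsFrobeniusComplement H ∧ Nonempty (B ≃* H)) ∧
     (Nat.card A).Coprime (Nat.card B)) := by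
  have hcard : Nat.card (A × B) = Nat.card A * Nat.card B := Nat.card_prod A B
  constructor
  · intro h
    obtain ⟨q, hq, hdvd, hNF⟩ := Cfsg.Agent.Helper2.NormIdeal.exists_prime_NF_of_frobenius h
    have hA : Cfsg.Agent.Helper2.NormIdeal.NF (ZMod q) A :=
      Cfsg.Agent.Helper2.NormIdeal.NF_of_injective (MonoidHom.inl A B)
        (fun a b hab => by simpa using congrArg Prod.fst hab) hNF
    have hB : Cfsg.Agent.Helper2.NormIdeal.NF (ZMod q) B :=
      Cfsg.Agent.Helper2.NormIdeal.NF_of_injective (MonoidHom.inr A B)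
        (fun a b hab => by simpa using congrArg Prod.snd hab) hNF
    have hdA : ¬ q ∣ Nat.card A := fun hd => hdvd (by rw [hcard]; exact dvd_mul_of_dvd_left hd _)
    have hdB : ¬ q ∣ Nat.card B := fun hd => hdvd (by rw [hcard]; exact dvd_mul_of_dvd_right hd _)
    exact ⟨Cfsg.Agent.Helper49.NormIdealB.frob_of_NF q hq hdA hA,
      Cfsg.Agent.Helper49.NormIdealB.frob_of_NF q hq hdB hB,
      Cfsg.Agent.Helper25.NFProd.coprime_of_frobenius_prod h⟩
  · rintro ⟨hA, hB, hcop⟩
    obtain ⟨qA, hqA, hdA, hNFA⟩ := Cfsg.Agent.Helper2.NormIdeal.exists_prime_NF_of_frobenius hA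
    obtain ⟨qB, hqB, hdB, hNFB⟩ := Cfsg.Agent.Helper2.NormIdeal.exists_prime_NF_of_frobenius hB
    have hZA := Cfsg.Agent.Helper2.NormIdeal.NFZ_of_NF_zmod qA hqA hdA hNFA
    have hZB := Cfsg.Agent.Helper2.NormIdeal.NFZ_of_NF_zmod qB hqB hdB hNFB
    have hQA := Cfsg.Agent.Helper97.NormIdealCD.NF_of_NFZ ℚ hZA
    have hQB := Cfsg.Agent.Helper97.NormIdealCD.NF_of_NFZ ℚ hZB
    have hQ := Cfsg.Agent.Helper25.NFProd.NF_prod hQA hQB hcop
    have hZ := Cfsg.Agent.Helper97.NormIdealCD.NFZ_of_NF_rat hQ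
    obtain ⟨l, hlge, hl⟩ := Nat.exists_infinite_primes (Nat.card (A × B) + 1)
    have hld : ¬ l ∣ Nat.card (A × B) := by
      intro hd
      have := Nat.le_of_dvd Nat.card_pos hd
      omega
    exact Cfsg.Agent.Helper49.NormIdealB.frob_of_NF l hl hld
      (Cfsg.Agent.Helper97.NormIdealCD.NF_zmod_of_NFZ hZ l hl)

end Cfsg.Agent.S4292
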