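import Cfsg.Statements.S4293
import Cfsg.Agent.Helper71.FrobModule

set_option autoImplicit false
open Cfsg

namespace Cfsg.Agent.S4293

open Cfsg.Agent.Helper71

variable {D : Type*} [DivisionRing D]

/-- The additive span of a finite multiplicative subgroup. -/
def spanM (H : Subgroup Dˣ) : AddSubgroup D :=
  AddSubgroup.closure (Set.range (fun h : H => ((h : Dˣ) : D)))

theorem unit_mem_spanM (H : Subgroup Dˣ) (h : H) : ((h : Dˣ) : D) ∈ spanM H :=
  AddSubgroup.subset_closure ⟨h, rfl⟩

theorem one_mem_spanM (H : Subgroup Dˣ) : (1 : D) ∈ spanM H := by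
  have := unit_mem_spanM H 1
  simpa using this

theorem unit_mul_mem_spanM (H : Subgroup Dˣ) (h : H) {x : D} (hx : x ∈ spanM H) :
    ((h : Dˣ) : D) * x ∈ spanM H := by
  unfold spanM at hx ⊢
  refine AddSubgroup.closure_induction (p := fun x _ => ((h : Dˣ) : D) * x ∈ _) ?_ ?_ ?_ ?_ hx
  · rintro _ ⟨k, rfl⟩
    exact AddSubgroup.subset_closure ⟨h * k, by simp⟩
  · simp
  · intro x y _ _ hx hy
    rw [mul_add]; exact add_mem hx hy
  · intro x _ hx
    rw [mul_neg]; exact neg_mem hx

theorem mul_mem_spanM (H : Subgroup Dˣ) {a x : D} (ha : a ∈ spanM H) (hx : x ∈ spanM H) :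
    a * x ∈ spanM H := by
  have ha' := ha
  unfold spanM at ha'
  refine AddSubgroup.closure_induction (p := fun a _ => a * x ∈ spanM H) ?_ ?_ ?_ ?_ ha'
  · rintro _ ⟨k, rfl⟩
    exact unit_mul_mem_spanM H k hx
  · simp
  · intro a b _ _ ha hb
    rw [add_mul]; exact add_mem ha hb
  · intro a _ ha
    rw [neg_mul]; exact neg_mem ha

theorem pow_mem_spanM (H : Subgroup Dˣ) {a : D} (ha : a ∈ spanM H) (n : ℕ) :
    a ^ n ∈ spanM H := by
  induction n with
  | zero => simpa using one_mem_spanM H
  | succ n ih => rw [pow_succ]; exact mul_mem_spanM H ih ha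

/-- The action of `H` on its span by left multiplication. -/
@[instance_reducible]
def spanAction (H : Subgroup Dˣ) : DistribMulAction H (spanM H) where
  smul h x := ⟨((h : Dˣ) : D) * x, unit_mul_mem_spanM H h x.2⟩
  one_smul x := by
    apply Subtype.ext
    change (((1 : H) : Dˣ) : D) * x = x
    simp
  mul_smul g h x := by
    apply Subtype.ext
    change (((g * h : H) : Dˣ) : D) * x = ((g : Dˣ) : D) * (((h : Dˣ) : D) * x)
    simp [mul_assoc]
  smul_zero h := by
    apply Subtype.ext
    change ((h : Dˣ) : D) * (0 : D) = 0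
    simp
  smul_add h x y := by
    apply Subtype.ext
    change ((h : Dˣ) : D) * ((x : D) + y) = ((h : Dˣ) : D) * x + ((h : Dˣ) : D) * y
    rw [mul_add]

/-- The key element: `c * (t - 1) = -m` when `t ≠ 1`, `t ^ m = 1`. -/
theorem key_identity {t : D} (ht : t ≠ 1) {m : ℕ} (htm : t ^ m = 1) :
    (∑ k ∈ Finset.range m, ∑ i ∈ Finset.range k, t ^ i) * (t - 1) = -(m : D) := by
  have hsum : ∑ k ∈ Finset.range m, t ^ k = 0 := by
    have h1 : (t - 1) * ∑ k ∈ Finset.range m, t ^ k = 0 := by
      rw [mul_geom_sum, htm, sub_self]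
    rcases mul_eq_zero.mp h1 with h | h
    · exact absurd (sub_eq_zero.mp h) ht
    · exact h
  rw [Finset.sum_mul]
  simp only [geom_sum_mul]
  rw [Finset.sum_sub_distrib, hsum]
  simp

/-- A nontrivial finite subgroup of the multiplicative group of a division ring occurs as a Frobenius complement of some finite Frobenius group. -/
theorem result {D : Type*} [DivisionRing D] (H : Subgroup Dˣ) [Finite H] (hH : H ≠ ⊥) :
    ∃ (L : Type) (_ : Group L) (_ : Finite L) (C : Subgroup L), Cfsg.IsFrobeniusComplement C ∧ Nonempty (H ≃* C) := by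
  have hnt : Nontrivial H := (Subgroup.nontrivial_iff_ne_bot H).mpr hH
  -- choose the prime
  have hprime : ∃ p : ℕ, p.Prime ∧ ¬ p ∣ Nat.card H ∧ ∀ r : ℤ, (r : D) = 0 → (p : ℤ) ∣ r := by
    have hcp : CharP D (ringChar D) := ringChar.charP D
    rcases CharP.char_is_prime_or_zero D (ringChar D) with hq | hq
    · refine ⟨ringChar D, hq, ?_, fun r hr => (CharP.intCast_eq_zero_iff D (ringChar D) r).mp hr⟩
      intro hdvd
      have : Fact (ringChar D).Prime := ⟨hq⟩
      obtain ⟨h, hh⟩ := exists_prime_orderOf_dvd_card' (G := H) (ringChar D) hdvd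
      have h1 : (((h : Dˣ) : D)) ^ ringChar D = 1 := by
        have := pow_orderOf_eq_one h
        rw [hh] at this
        have := congrArg (fun x : H => ((x : Dˣ) : D)) this
        simpa using this
      have h2 : (((h : Dˣ) : D) - 1) ^ ringChar D = 0 := by
        rw [sub_pow_char_of_commute (ringChar D) (Commute.one_right _), h1, one_pow, sub_self]
      have h3 : ((h : Dˣ) : D) - 1 = 0 := pow_eq_zero_iff (hq.ne_zero) |>.mp h2
      have h4 : h = 1 := by
        apply Subtype.ext
        apply Units.ext
        simpa using sub_eq_zero.mp h3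
      rw [h4, orderOf_one] at hh
      exact hq.one_lt.ne hh
    · obtain ⟨p, hpge, hp⟩ := Nat.exists_infinite_primes (Nat.card H + 1)
      refine ⟨p, hp, ?_, ?_⟩
      · intro hdvd
        have := Nat.le_of_dvd Nat.card_pos hdvd
        omega
      · intro r hr
        have h0 : r = 0 := by
          have := (CharP.intCast_eq_zero_iff D (ringChar D) r).mp hr
          rw [hq] at this
          simpa using this
        rw [h0]; exact dvd_zero _
  obtain ⟨p, hp, hpH, hchar⟩ := hprime
  have hfg : AddGroup.FG (spanM H) := by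
    unfold spanM
    exact AddGroup.closure_finite_fg _
  let _ : DistribMulAction H (spanM H) := spanAction H
  have hsmul : ∀ (h : H) (x : spanM H), ((h • x : spanM H) : D) = ((h : Dˣ) : D) * x :=
    fun h x => rfl
  apply exists_frobenius_of_module (H := H) (M := spanM H) p hp.pos
  · -- nontriviality via Nakayama
    refine ⟨⟨1, one_mem_spanM H⟩, ?_⟩
    intro y hy
    have hy' : (1 : D) = p • (y : D) := by
      have := congrArg Subtype.val hy
      simpa using this
    -- the span as a ℤ-submodule
    let N : Submodule ℤ D := Submodule.span ℤ (Set.range (fun h : H => ((h : Dˣ) : D)))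
    have hNM : ∀ x : D, x ∈ N ↔ x ∈ spanM H := by
      intro x
      unfold spanM
      rw [← Submodule.span_int_eq_addSubgroupClosure]
      rfl
    have hNfg : N.FG := Submodule.fg_span (Set.finite_range _)
    have hle : N ≤ (Ideal.span {(p : ℤ)}) • N := by
      intro x hx
      have hx' := (hNM x).mp hx
      have h1 : x = (p : ℤ) • ((y : D) * x) := by
        calc x = 1 * x := (one_mul x).symm
          _ = (p • (y : D)) * x := by rw [← hy']
          _ = p • ((y : D) * x) := smul_mul_assoc _ _ _
          _ = (p : ℤ) • ((y : D) * x) := (natCast_zsmul _ _).symm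
      rw [h1]
      apply Submodule.smul_mem_smul (Ideal.mem_span_singleton_self _)
      exact (hNM _).mpr (mul_mem_spanM H y.2 hx')
    obtain ⟨r, hr1, hr2⟩ :=
      Submodule.exists_sub_one_mem_and_smul_eq_zero_of_fg_of_le_smul _ N hNfg hle
    have h1 : (r : D) = 0 := by
      have := hr2 1 ((hNM 1).mpr (one_mem_spanM H))
      simpa using this
    have h2 : (p : ℤ) ∣ r := hchar r h1
    have h3 : (p : ℤ) ∣ r - 1 := Ideal.mem_span_singleton.mp hr1
    have h4 : (p : ℤ) ∣ 1 := by
      have := dvd_sub h2 h3
      simpa using this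
    have h5 : p ∣ 1 := by exact_mod_cast h4
    exact hp.one_lt.ne' (Nat.dvd_one.mp h5)
  · -- fixed-point-freeness
    intro h hh x y hxy
    have ht1 : ((h : Dˣ) : D) ≠ 1 := by
      intro h1
      apply hh
      apply Subtype.ext
      apply Units.ext
      rw [Subgroup.coe_one, Units.val_one]
      exact h1
    have htm : ((h : Dˣ) : D) ^ orderOf h = 1 := by
      have := pow_orderOf_eq_one h
      have := congrArg (fun x : H => ((x : Dˣ) : D)) this
      simp only [Subgroup.coe_pow, Units.val_pow_eq_pow_val, Subgroup.coe_one, Units.val_one] at this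
      exact this
    have hkey := key_identity ht1 htm
    have hcM : (∑ k ∈ Finset.range (orderOf h), ∑ i ∈ Finset.range k, ((h : Dˣ) : D) ^ i)
        ∈ spanM H := by
      apply sum_mem
      intro k _
      apply sum_mem
      intro i _
      exact pow_mem_spanM H (unit_mem_spanM H h) i
    generalize (∑ k ∈ Finset.range (orderOf h), ∑ i ∈ Finset.range k, ((h : Dˣ) : D) ^ i) = c
      at hkey hcM
    have hxy' : ((h : Dˣ) : D) * (x : D) - x = p • (y : D) := by
      have := congrArg Subtype.val hxy
      simpa [hsmul] using this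
    have h1 : ((orderOf h : ℕ) : D) * x = p • (-(c * y)) := by
      have h2 : c * (((h : Dˣ) : D) * (x : D) - x) = c * (p • (y : D)) := by rw [hxy']
      have e : c * (((h : Dˣ) : D) * (x : D) - x) = (c * (((h : Dˣ) : D) - 1)) * x := by
        noncomm_ring
      rw [e, hkey, mul_smul_comm] at h2
      rw [smul_neg, ← h2]; simp
    have hcop : Nat.Coprime (orderOf h) p := by
      have hmd : orderOf h ∣ Nat.card H := orderOf_dvd_natCard h
      exact (Nat.Coprime.coprime_dvd_left hmd
        ((Nat.Prime.coprime_iff_not_dvd hp).mpr hpH).symm)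
    obtain ⟨a, b, hab⟩ := (Nat.isCoprime_iff_coprime.mpr hcop)
    -- a * m + b * p = 1
    refine ⟨⟨a • (-(c * y)) + b • (x : D), ?_⟩, ?_⟩
    · apply add_mem
      · exact zsmul_mem (neg_mem (mul_mem_spanM H hcM y.2)) a
      · exact zsmul_mem x.2 b
    · apply Subtype.ext
      change (x : D) = p • (a • (-(c * y)) + b • (x : D))
      have hm : ((orderOf h : ℕ) : ℤ) • (x : D) = p • (-(c * y)) := by
        rw [natCast_zsmul, nsmul_eq_mul]; exact h1
      calc (x : D) = (1 : ℤ) • (x : D) := (one_zsmul _).symm
        _ = (a * (orderOf h : ℕ) + b * (p : ℕ) : ℤ) • (x : D) := by rw [hab]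
        _ = a • (((orderOf h : ℕ) : ℤ) • (x : D)) + b • (((p : ℕ) : ℤ) • (x : D)) := by
            rw [add_smul, mul_smul, mul_smul]
        _ = a • (p • (-(c * y))) + b • (p • (x : D)) := by rw [hm, natCast_zsmul]
        _ = p • (a • (-(c * y)) + b • (x : D)) := by
            rw [smul_add, smul_comm a p, smul_comm b p]

end Cfsg.Agent.S4293
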