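import Cfsg.Statements.S4295
import Cfsg.Agent.Helper71.FrobQuat
import Cfsg.Agent.Helper71.FrobConstructCard
import Cfsg.Agent.Helper20.QuatIso

set_option autoImplicit false
open Cfsg

namespace Cfsg.Agent.S4295

open Cfsg.Agent.Helper71 QuaternionGroup

section action

variable (R : Type*) [CommRing R]

/-- The quarter turn `(v₁, v₂) ↦ (-v₂, v₁)`. -/
def jAut : (R × R) ≃ₗ[R] (R × R) where
  toFun v := (-v.2, v.1)
  map_add' v w := by ext <;> simp [add_comm]
  map_smul' c v := by ext <;> simp
  invFun v := (v.2, -v.1)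
  left_inv v := by simp
  right_inv v := by simp

theorem jAut_apply (v : R × R) : jAut R v = (-v.2, v.1) := rfl

variable {R}

/-- The reflection-like map with matrix `[[α, β], [β, -α]]`, where `α² + β² = -1`. -/
def tAut (α β : R) (h : α ^ 2 + β ^ 2 + 1 = 0) : (R × R) ≃ₗ[R] (R × R) where
  toFun v := (α * v.1 + β * v.2, β * v.1 - α * v.2)
  map_add' v w := by ext <;> simp <;> ring
  map_smul' c v := by ext <;> simp <;> ring
  invFun v := (-(α * v.1 + β * v.2), -(β * v.1 - α * v.2))
  left_inv v := by
    ext
    · simp only; linear_combination (-v.1) * h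
    · simp only; linear_combination (-v.2) * h
  right_inv v := by
    ext
    · simp only; linear_combination (-v.1) * h
    · simp only; linear_combination (-v.2) * h

theorem tAut_apply (α β : R) (h : α ^ 2 + β ^ 2 + 1 = 0) (v : R × R) :
    tAut α β h v = (α * v.1 + β * v.2, β * v.1 - α * v.2) := rfl

theorem jAut_sq_apply (v : R × R) : (jAut R ^ 2) v = -v := by
  rw [pow_two, LinearEquiv.mul_apply, jAut_apply, jAut_apply]
  ext <;> simp

theorem jAut_pow_four : jAut R ^ (2 * 2) = 1 := by
  ext v : 1
  rw [pow_mul, pow_two, LinearEquiv.mul_apply, jAut_sq_apply, jAut_sq_apply, neg_neg]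
  rfl

theorem tAut_mul_self (α β : R) (h : α ^ 2 + β ^ 2 + 1 = 0) :
    tAut α β h * tAut α β h = jAut R ^ 2 := by
  ext v : 1
  rw [LinearEquiv.mul_apply, jAut_sq_apply, tAut_apply, tAut_apply]
  ext
  · simp only [Prod.fst_neg]; linear_combination v.1 * h
  · simp only [Prod.snd_neg]; linear_combination v.2 * h

theorem tAut_rel (α β : R) (h : α ^ 2 + β ^ 2 + 1 = 0) :
    tAut α β h * jAut R * (tAut α β h)⁻¹ = (jAut R)⁻¹ := by
  rw [mul_inv_eq_iff_eq_mul, eq_inv_mul_iff_mul_eq]
  ext v : 1
  rw [LinearEquiv.mul_apply, LinearEquiv.mul_apply, jAut_apply, tAut_apply, jAut_apply,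
    tAut_apply]
  ext <;> simp <;> ring

/-- The representation of the quaternion group of order 8. -/
noncomputable def rho (α β : R) (h : α ^ 2 + β ^ 2 + 1 = 0) :
    QuaternionGroup 2 →* ((R × R) ≃ₗ[R] (R × R)) :=
  Helper20.quaternionHom 2 (jAut R) (tAut α β h) jAut_pow_four (tAut_mul_self α β h)
    (tAut_rel α β h)

theorem rho_a_two (α β : R) (h : α ^ 2 + β ^ 2 + 1 = 0) (v : R × R) :
    rho α β h (a 2) v = -v := by
  have h1 : rho α β h (a 2) = jAut R ^ 2 := by
    show (S3224.powHom (2 * 2) (jAut R) jAut_pow_four 2).toMul = _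
    have h2 := S3224.powHom_intCast (2 * 2) (jAut R) jAut_pow_four 2
    simpa using h2
  rw [h1, jAut_sq_apply]

end action

theorem q8_cases : ∀ g : QuaternionGroup 2, g ≠ 1 → g = a 2 ∨ g * g = a 2 := by decide

/-- For a natural number m the following are equivalent: (a) some finite group has a Frobenius complement isomorphic to the quaternion group of order 8 whose Frobenius kernel (the identity together with the elements lying in no conjugate of the complement) has exactly m elements; (b) m is an odd perfect square greater than 1. -/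
theorem result (m : ℕ) :
    (∃ (L : Type) (_ : Group L) (_ : Finite L) (H : Subgroup L), Cfsg.IsFrobeniusComplement H ∧
        Nonempty (H ≃* QuaternionGroup 2) ∧ Nat.card (Cfsg.frobeniusKernel H) = m) ↔
    (Odd m ∧ IsSquare m ∧ 1 < m) := by
  constructor
  · rintro ⟨L, instG, instF, H, hH, ⟨e⟩, rfl⟩
    have hx : ((e.symm (a 1) : H) : L) ∈ H := (e.symm (a 1)).2
    have h1 : ((e.symm (xa 0) : H) : L) * (e.symm (xa 0) : H) =
        ((e.symm (a 1) : H) : L) * (e.symm (a 1) : H) := by
      have h0 : (xa 0 : QuaternionGroup 2) * xa 0 = a 1 * a 1 := by decide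
      have := congrArg (fun q => ((e.symm q : H) : L)) h0
      simp only [map_mul, Subgroup.coe_mul] at this
      exact this
    have h2 : ((e.symm (a 1) : H) : L) * (e.symm (a 1) : H) ≠ 1 := by
      intro hcon
      have h0 : e.symm (a 1 * a 1) = 1 := by
        apply Subtype.ext
        rw [map_mul, Subgroup.coe_mul, Subgroup.coe_one]
        exact hcon
      have h3 : (a 1 : QuaternionGroup 2) * a 1 = 1 :=
        (MulEquiv.map_eq_one_iff e.symm).mp h0
      exact absurd h3 (by decide)
    have h3 : (((e.symm (a 1) : H) : L) * (e.symm (a 1) : H)) *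
        (((e.symm (a 1) : H) : L) * (e.symm (a 1) : H)) = 1 := by
      have h0 : ((a 1 : QuaternionGroup 2) * a 1) * (a 1 * a 1) = 1 := by decide
      have := congrArg (fun q => ((e.symm q : H) : L)) h0
      simp only [map_mul, Subgroup.coe_mul, map_one, Subgroup.coe_one] at this
      exact this
    have h4 : ((e.symm (xa 0) : H) : L) * (e.symm (a 1) : H) * ((e.symm (xa 0) : H) : L)⁻¹ =
        ((e.symm (a 1) : H) : L)⁻¹ := by
      have h0 : (xa 0 : QuaternionGroup 2) * a 1 * (xa 0)⁻¹ = (a 1)⁻¹ := by decide
      have := congrArg (fun q => ((e.symm q : H) : L)) h0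
      simp only [map_mul, Subgroup.coe_mul, map_inv, Subgroup.coe_inv] at this
      exact this
    obtain ⟨hodd, hsq⟩ := frob_kernel_odd_square hH hx h1 h2 h3 h4
    refine ⟨hodd, hsq, ?_⟩
    rw [Nat.card_coe_set_eq, Helper63.frob_card_kernel hH]
    have hne : H.index ≠ 1 := by
      rw [Ne, Subgroup.index_eq_one]
      exact ((isFrobeniusComplement_iff H).mp hH).2.1
    have hpos : H.index ≠ 0 := Subgroup.index_ne_zero_of_finite
    omega
  · rintro ⟨hodd, ⟨r, rfl⟩, hgt⟩
    have hrodd : Odd r := by
      by_contra hr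
      rw [Nat.not_odd_iff_even] at hr
      have : Even (r * r) := hr.mul_right r
      exact (Nat.not_odd_iff_even.mpr this) hodd
    have hr1 : 1 < r := by
      by_contra hle
      push Not at hle
      have : r * r ≤ 1 := by nlinarith
      omega
    have : Fact (1 < r) := ⟨hr1⟩
    have : NeZero r := ⟨by omega⟩
    obtain ⟨a', b', hab⟩ := exists_sq_add_sq_add_one r hrodd
    have hαβ : ((a' : ZMod r)) ^ 2 + ((b' : ZMod r)) ^ 2 + 1 = 0 := by
      have := (ZMod.intCast_zmod_eq_zero_iff_dvd (a' ^ 2 + b' ^ 2 + 1) r).mpr hab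
      push_cast at this
      exact this
    let ρ := rho (a' : ZMod r) (b' : ZMod r) hαβ
    letI : DistribMulAction (QuaternionGroup 2) (ZMod r × ZMod r) :=
      DistribMulAction.compHom (ZMod r × ZMod r) ρ
    have hsmul : ∀ (g : QuaternionGroup 2) (v : ZMod r × ZMod r), g • v = ρ g v := fun g v => rfl
    have hfpf : ∀ g : QuaternionGroup 2, g ≠ 1 → ∀ v : ZMod r × ZMod r, g • v = v → v = 0 := by
      intro g hg v hv
      rw [hsmul] at hv
      have hz : ρ (a 2) v = v := by
        rcases q8_cases g hg with rfl | h2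
        · exact hv
        · rw [← h2, map_mul, LinearEquiv.mul_apply, hv, hv]
      rw [rho_a_two] at hz
      obtain ⟨t, ht⟩ := hrodd
      have hr0 : (2 * (t : ZMod r) + 1) = 0 := by
        have : ((2 * t + 1 : ℕ) : ZMod r) = 0 := by
          rw [← ht]; exact ZMod.natCast_self r
        push_cast at this
        exact this
      have e1 : v.1 + v.1 = 0 := by
        have := congrArg Prod.fst hz
        simp only [Prod.fst_neg] at this
        linear_combination -this
      have e2 : v.2 + v.2 = 0 := by
        have := congrArg Prod.snd hz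
        simp only [Prod.snd_neg] at this
        linear_combination -this
      ext
      · simp only [Prod.fst_zero]
        linear_combination v.1 * hr0 - (t : ZMod r) * e1
      · simp only [Prod.snd_zero]
        linear_combination v.2 * hr0 - (t : ZMod r) * e2
    have hnt : Nontrivial (QuaternionGroup 2) := inferInstance
    obtain ⟨L, hL, hLf, C, hC, ⟨e⟩, hcard⟩ :=
      exists_frobenius_of_fpf_add_card (V := ZMod r × ZMod r) (H := QuaternionGroup 2) hfpf
    refine ⟨L, hL, hLf, C, hC, ⟨e.symm⟩, ?_⟩
    rw [hcard, Nat.card_prod, Nat.card_zmod]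

end Cfsg.Agent.S4295
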