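import Cfsg.Statements.S4296
import Cfsg.Agent.Helper71.FrobQuat
import Cfsg.Agent.Helper71.FrobPP
import Cfsg.Agent.Helper71.UniqueOrderP

set_option autoImplicit false
open Cfsg

namespace Cfsg.Agent.S4296

open Cfsg.Agent.Helper71

/-- Let H be a Frobenius complement in a finite group, and suppose some Sylow subgroup of H is not cyclic. Then the number of elements of the Frobenius kernel (the identity together with the elements lying in no conjugate of H) is an odd perfect square. -/
theorem result {L : Type*} [Group L] [Finite L] (H : Subgroup L) (hF : Cfsg.IsFrobeniusComplement H)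
    (hZ : ∃ (p : ℕ) (_ : Fact p.Prime) (P : Sylow p H), ¬ IsCyclic P) :
    Odd (Nat.card (Cfsg.frobeniusKernel H)) ∧ IsSquare (Nat.card (Cfsg.frobeniusKernel H)) := by
  obtain ⟨p, hp, P, hP⟩ := hZ
  have hPp : IsPGroup p (P : Subgroup H) := P.isPGroup'
  have hU : UniqueOrderP p (P : Subgroup H) := by
    have hnt : Nontrivial (P : Subgroup H) := by
      by_contra h
      rw [not_nontrivial_iff_subsingleton] at h
      exact hP isCyclic_of_subsingleton
    have hcen := hPp.center_nontrivial
    have hcenP : IsPGroup p (Subgroup.center (P : Subgroup H)) := hPp.to_subgroup _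
    obtain ⟨k, hk⟩ := IsPGroup.iff_card.mp hcenP
    have hk0 : k ≠ 0 := by
      rintro rfl
      have h1 : Nat.card (Subgroup.center (P : Subgroup H)) = 1 := by simpa using hk
      have h2 := Finite.one_lt_card (α := Subgroup.center (P : Subgroup H))
      omega
    obtain ⟨w, hw⟩ := exists_prime_orderOf_dvd_card' p (by rw [hk]; exact dvd_pow_self p hk0)
    have hw1 : w ≠ 1 := by
      intro h
      rw [h, orderOf_one] at hw
      exact hp.out.one_lt.ne hw
    have hwp : w ^ p = 1 := by
      have := pow_orderOf_eq_one w
      rwa [hw] at this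
    refine ⟨(w : (P : Subgroup H)), ?_, ?_, ?_⟩
    · intro h
      exact hw1 (Subtype.ext h)
    · have := congrArg Subtype.val hwp
      simpa using this
    · intro v hv
      have huL1 : (((w : (P : Subgroup H)) : H) : L) ≠ 1 := by
        intro h
        apply hw1
        apply Subtype.ext
        apply Subtype.ext
        apply Subtype.ext
        exact h
      have hupL : (((w : (P : Subgroup H)) : H) : L) ^ p = 1 := by
        have := congrArg (fun t : Subgroup.center (P : Subgroup H) =>
          (((t : (P : Subgroup H)) : H) : L)) hwp
        simpa using this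
      have hvpL : (((v : (P : Subgroup H)) : H) : L) ^ p = 1 := by
        have := congrArg (fun t : (P : Subgroup H) => ((t : H) : L)) hv
        simpa using this
      have hcomm : (((w : (P : Subgroup H)) : H) : L) * (((v : (P : Subgroup H)) : H) : L) =
          (((v : (P : Subgroup H)) : H) : L) * (((w : (P : Subgroup H)) : H) : L) := by
        have h1 := Subgroup.mem_center_iff.mp w.2 v
        have := congrArg (fun t : (P : Subgroup H) => ((t : H) : L)) h1
        simpa using this.symm
      have key := frob_mem_zpowers_of_commute hF (p := p)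
        (u := (((w : (P : Subgroup H)) : H) : L)) (v := (((v : (P : Subgroup H)) : H) : L))
        ((w : (P : Subgroup H)) : H).2 ((v : (P : Subgroup H)) : H).2 huL1 hupL hvpL hcomm
      obtain ⟨i, hi⟩ := Subgroup.mem_zpowers_iff.mp key
      rw [Subgroup.mem_zpowers_iff]
      refine ⟨i, ?_⟩
      apply Subtype.ext
      apply Subtype.ext
      simpa using hi
  obtain ⟨-, x, y, h1, h3, h4, h5⟩ := quat_pair_of_uniqueOrderP hPp hU hP
  have e1 : (((y : (P : Subgroup H)) : H) : L) * (((y : (P : Subgroup H)) : H) : L) =
      (((x : (P : Subgroup H)) : H) : L) * (((x : (P : Subgroup H)) : H) : L) := by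
    have := congrArg (fun t : (P : Subgroup H) => ((t : H) : L)) h1
    simpa using this
  have e3 : (((x : (P : Subgroup H)) : H) : L) * (((x : (P : Subgroup H)) : H) : L) ≠ 1 := by
    intro h
    apply h3
    apply Subtype.ext
    apply Subtype.ext
    simpa using h
  have e4 : ((((x : (P : Subgroup H)) : H) : L) * (((x : (P : Subgroup H)) : H) : L)) *
      ((((x : (P : Subgroup H)) : H) : L) * (((x : (P : Subgroup H)) : H) : L)) = 1 := by
    have := congrArg (fun t : (P : Subgroup H) => ((t : H) : L)) h4
    simpa using this
  have e5 : (((y : (P : Subgroup H)) : H) : L) * (((x : (P : Subgroup H)) : H) : L) *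
      (((y : (P : Subgroup H)) : H) : L)⁻¹ = (((x : (P : Subgroup H)) : H) : L)⁻¹ := by
    have := congrArg (fun t : (P : Subgroup H) => ((t : H) : L)) h5
    simpa using this
  exact frob_kernel_odd_square hF ((x : (P : Subgroup H)) : H).2 e1 e3 e4 e5

end Cfsg.Agent.S4296
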