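import Cfsg.Statements.S4299
import Cfsg.Agent.Helper71.FrobConstruct

set_option autoImplicit false
open Cfsg

namespace Cfsg.Agent.S4299

open Cfsg.Agent.Helper71 in
/-- Every nontrivial finite cyclic group occurs as a Frobenius complement of some finite Frobenius group. -/
theorem result {C : Type*} [Group C] [Finite C] [IsCyclic C] [Nontrivial C] :
    ∃ (L : Type) (_ : Group L) (_ : Finite L) (H : Subgroup L), Cfsg.IsFrobeniusComplement H ∧ Nonempty (C ≃* H) := by
  have hn0 : Nat.card C ≠ 0 := Nat.card_pos.ne'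
  obtain ⟨p, hp, _, hmod⟩ := Nat.exists_prime_gt_modEq_one (k := Nat.card C) 1 hn0
  have : Fact p.Prime := ⟨hp⟩
  have hdvd : Nat.card C ∣ p - 1 := (Nat.modEq_iff_dvd' hp.one_lt.le).mp hmod.symm
  obtain ⟨g, hg⟩ := IsCyclic.exists_ofOrder_eq_natCard (α := (ZMod p)ˣ)
  have hcard : Nat.card (ZMod p)ˣ = p - 1 := by
    rw [Nat.card_eq_fintype_card, ZMod.card_units_eq_totient, Nat.totient_prime hp]
  rw [hcard] at hg
  obtain ⟨m, hm⟩ := hdvd
  have hm0 : m ≠ 0 := by
    rintro rfl
    have := hp.one_lt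
    omega
  have hζ : orderOf (g ^ m) = Nat.card C := by
    rw [orderOf_pow_of_dvd hm0 (by rw [hg, hm]; exact dvd_mul_left _ _), hg, hm,
      Nat.mul_div_cancel _ (Nat.pos_of_ne_zero hm0)]
  have hK : Nat.card C = Nat.card (Subgroup.zpowers (g ^ m)) := by
    rw [Nat.card_zpowers, hζ]
  let e : C ≃* Subgroup.zpowers (g ^ m) := mulEquivOfCyclicCardEq hK
  let ψ : C →* (ZMod p)ˣ := (Subgroup.zpowers (g ^ m)).subtype.comp e.toMonoidHom
  have hψinj : Function.Injective ψ :=
    (Subgroup.subtype_injective _).comp e.injective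
  apply exists_frobenius_of_ring_hom ψ
  intro h hh
  have h1 : ψ h ≠ 1 := fun h1 => hh (hψinj (h1.trans (map_one ψ).symm))
  have h2 : ((ψ h : ZMod p) - 1) ≠ 0 := by
    intro h0
    apply h1
    ext
    rw [sub_eq_zero] at h0
    simpa using h0
  exact isUnit_iff_ne_zero.mpr h2

end Cfsg.Agent.S4299
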