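import Cfsg.Statements.S4300
-- import your own Cfsg.Agent.* helpers here

set_option autoImplicit false
open Cfsg

namespace Cfsg.Agent.S4300

/-- Let G act faithfully and primitively on a set X, and suppose the stabilizer of some point is a simple group. Then either G is simple, or G has a normal subgroup, neither trivial nor the whole group, that acts regularly on X (transitively with trivial point stabilizers). -/
theorem result {G : Type*} [Group G] {X : Type*} [MulAction G X] [FaithfulSMul G X]
    (hprim : MulAction.IsPreprimitive G X) (x : X) (hsimple : IsSimpleGroup (MulAction.stabilizer G x)) :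
    IsSimpleGroup G ∨ ∃ N : Subgroup G, N.Normal ∧ N ≠ ⊥ ∧ N ≠ ⊤ ∧
      MulAction.IsPretransitive N X ∧ ∀ y : X, MulAction.stabilizer N y = ⊥ := by
  by_cases hS : IsSimpleGroup G
  · exact Or.inl hS
  right
  have hnt : Nontrivial G := by
    obtain ⟨a, b, hab⟩ := hsimple.toNontrivial
    exact ⟨⟨a, b, fun h => hab (Subtype.ext h)⟩⟩
  have hex : ∃ N : Subgroup G, N.Normal ∧ N ≠ ⊥ ∧ N ≠ ⊤ := by
    by_contra hcon
    apply hS
    refine ⟨fun N hN => ?_⟩
    by_contra h
    push Not at h
    exact hcon ⟨N, hN, h.1, h.2⟩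
  obtain ⟨N, hNn, hNbot, hNtop⟩ := hex
  have hfp : MulAction.fixedPoints N X ≠ Set.univ := by
    intro h
    apply hNbot
    rw [eq_bot_iff]
    intro n hn
    rw [Subgroup.mem_bot]
    apply FaithfulSMul.eq_of_smul_eq_smul (α := X)
    intro y
    have hy : y ∈ MulAction.fixedPoints N X := h ▸ Set.mem_univ y
    rw [MulAction.mem_fixedPoints] at hy
    rw [one_smul]
    exact hy ⟨n, hn⟩
  have hNtr : MulAction.IsPretransitive N X :=
    MulAction.IsQuasiPreprimitive.isPretransitive_of_normal hfp
  refine ⟨N, hNn, hNbot, hNtop, hNtr, ?_⟩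
  -- `N ∩ G_x` is normal in the simple group `G_x`
  have hKn : (N.subgroupOf (MulAction.stabilizer G x)).Normal := inferInstance
  have hx : ∀ n ∈ N, n • x = x → n = 1 := by
    rcases hsimple.eq_bot_or_eq_top_of_normal _ hKn with h | h
    · intro n hn hnx
      have : (⟨n, hnx⟩ : MulAction.stabilizer G x) ∈ N.subgroupOf (MulAction.stabilizer G x) := by
        rw [Subgroup.mem_subgroupOf]; exact hn
      rw [h, Subgroup.mem_bot] at this
      exact congrArg Subtype.val this
    · exfalso
      apply hNtop
      rw [Subgroup.subgroupOf_eq_top] at h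
      rw [eq_top_iff]
      intro g _
      obtain ⟨n, hn⟩ := hNtr.exists_smul_eq x (g • x)
      have h1 : (n : G)⁻¹ * g ∈ MulAction.stabilizer G x := by
        rw [MulAction.mem_stabilizer_iff, mul_smul, inv_smul_eq_iff]
        exact hn.symm
      have h2 : (n : G)⁻¹ * g ∈ N := h h1
      have : g = (n : G) * ((n : G)⁻¹ * g) := by group
      rw [this]
      exact N.mul_mem n.2 h2
  intro y
  rw [eq_bot_iff]
  intro m hm
  rw [Subgroup.mem_bot]
  rw [MulAction.mem_stabilizer_iff] at hm
  obtain ⟨n, hn⟩ := hNtr.exists_smul_eq x y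
  have h1 : (n⁻¹ * m * n : N) • x = x := by
    rw [mul_smul, mul_smul, hn, hm, ← hn, inv_smul_smul]
  have h2 := hx _ (n⁻¹ * m * n : N).2 h1
  have h3 : n⁻¹ * m * n = 1 := Subtype.ext h2
  have : m = n * (n⁻¹ * m * n) * n⁻¹ := by group
  rw [this, h3]; group

end Cfsg.Agent.S4300
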