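import Cfsg.Statements.S4301

set_option autoImplicit false
open Cfsg

namespace Cfsg.Agent.S4301

lemma exists_emb {X : Type*} {k : ℕ} (e : Fin k ↪ X) (i j : Fin k) (hij : i ≠ j) (x y : X)
    (hxy : x ≠ y) : ∃ e' : Fin k ↪ X, e' i = x ∧ e' j = y := by
  classical
  set σ : Equiv.Perm X := Equiv.swap (e i) x with hσ
  set τ : Equiv.Perm X := Equiv.swap (σ (e j)) y with hτ
  have h1 : σ (e i) = x := Equiv.swap_apply_left _ _
  have h2 : σ (e j) ≠ x := by
    intro h
    rw [← h1] at h
    exact hij (e.injective (σ.injective h)).symm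
  refine ⟨e.trans (σ.trans τ).toEmbedding, ?_, ?_⟩
  · simp only [Function.Embedding.trans_apply, Equiv.coe_toEmbedding, Equiv.trans_apply, h1]
    exact Equiv.swap_apply_of_ne_of_ne (Ne.symm h2) hxy
  · simp only [Function.Embedding.trans_apply, Equiv.coe_toEmbedding, Equiv.trans_apply]
    exact Equiv.swap_apply_left _ _

/-- One-point extension of a multiply transitive group. Let X be a set and G a group of permutations of Option X (the set X with one extra point ∗ = none) all of whose elements fix ∗, such that G is k-transitive on the points of X for some k ≥ 2, X having at least k points. Suppose a permutation h of Option X and an element g of G satisfy: h interchanges ∗ with a point x of X and fixes a point y of X; g interchanges x and y; (g h)³ and h² lie in G; and for every f in G fixing x, the product h f h lies in G and fixes x. Then an element of the group generated by G and h fixes ∗ exactly when it lies in G, and that group acts (k+1)-transitively on Option X. -/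
theorem result {X : Type*} (G : Subgroup (Equiv.Perm (Option X))) (hfix : ∀ f ∈ G, f none = none)
    (k : ℕ) (hk : 2 ≤ k) (hkX : Nonempty (Fin k ↪ X))
    (htrans : ∀ a b : Fin k ↪ X, ∃ f ∈ G, ∀ i, f (some (a i)) = some (b i))
    (h g : Equiv.Perm (Option X)) (hg : g ∈ G) (x y : X)
    (h1 : h none = some x) (h2 : h (some x) = none) (h3 : h (some y) = some y)
    (h4 : g (some x) = some y) (h5 : g (some y) = some x)
    (h6 : (g * h) ^ 3 ∈ G) (h7 : h ^ 2 ∈ G)
    (h8 : ∀ f ∈ G, f (some x) = some x → h * f * h ∈ G ∧ (h * f * h) (some x) = some x) :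
    (∀ f ∈ Subgroup.closure ((G : Set (Equiv.Perm (Option X))) ∪ {h}), f none = none ↔ f ∈ G) ∧
      MulAction.IsMultiplyPretransitive (Subgroup.closure ((G : Set (Equiv.Perm (Option X))) ∪ {h})) (Option X) (k + 1) := by
  classical
  have inv_app : ∀ (f : Equiv.Perm (Option X)) (p : Option X), f⁻¹ (f p) = p := by
    intro f p
    simp
  have hxy : x ≠ y := by
    rintro rfl
    rw [h2] at h3
    exact Option.some_ne_none _ h3.symm
  have hsome : ∀ f ∈ G, ∀ z : X, ∃ w : X, f (some z) = some w := by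
    intro f hf z
    cases hfz : f (some z) with
    | none =>
      exfalso
      have := hfix f hf
      rw [← this] at hfz
      exact Option.some_ne_none _ (f.injective hfz)
    | some w => exact ⟨w, rfl⟩
  obtain ⟨e₀⟩ := hkX
  let i0 : Fin k := ⟨0, by omega⟩
  let i1 : Fin k := ⟨1, by omega⟩
  have hi01 : i0 ≠ i1 := by simp [i0, i1, Fin.ext_iff]
  have h2trans : ∀ p q r s : X, p ≠ q → r ≠ s →
      ∃ f ∈ G, f (some p) = some r ∧ f (some q) = some s := by
    intro p q r s hpq hrs
    obtain ⟨a, ha0, ha1⟩ := exists_emb e₀ i0 i1 hi01 p q hpq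
    obtain ⟨b, hb0, hb1⟩ := exists_emb e₀ i0 i1 hi01 r s hrs
    obtain ⟨f, hf, hfab⟩ := htrans a b
    refine ⟨f, hf, ?_, ?_⟩
    · rw [← ha0, ← hb0]; exact hfab i0
    · rw [← ha1, ← hb1]; exact hfab i1
  have hcG : (h ^ 2)⁻¹ ∈ G := G.inv_mem h7
  let S : Set (Equiv.Perm (Option X)) := {f | f ∈ G ∨ ∃ a ∈ G, ∃ b ∈ G, f = a * h * b}
  have hGS : ∀ a ∈ G, ∀ f ∈ S, a * f ∈ S := by
    rintro a ha f (hf | ⟨a', ha', b', hb', rfl⟩)
    · exact Or.inl (G.mul_mem ha hf)
    · exact Or.inr ⟨a * a', G.mul_mem ha ha', b', hb', by group⟩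
  have hSG : ∀ f ∈ S, ∀ b ∈ G, f * b ∈ S := by
    rintro f (hf | ⟨a', ha', b', hb', rfl⟩) b hb
    · exact Or.inl (G.mul_mem hf hb)
    · exact Or.inr ⟨a', ha', b' * b, G.mul_mem hb' hb, by group⟩
  have hkey : ∀ a ∈ G, h * a * h ∈ S := by
    intro a ha
    by_cases hax : a (some x) = some x
    · exact Or.inl (h8 a ha hax).1
    · obtain ⟨z, hz⟩ := hsome a ha x
      have hzx : z ≠ x := by
        rintro rfl
        exact hax hz
      obtain ⟨u, hu, hux, huy⟩ := h2trans x y x z hxy (Ne.symm hzx)
      have hvG : g⁻¹ * u⁻¹ * a ∈ G := G.mul_mem (G.mul_mem (G.inv_mem hg) (G.inv_mem hu)) ha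
      have hvx : (g⁻¹ * u⁻¹ * a) (some x) = some x := by
        simp only [Equiv.Perm.mul_apply, hz]
        rw [← huy, inv_app, ← h4, inv_app]
      have hu' := (h8 u hu hux).1
      have hv' := (h8 _ hvG hvx).1
      refine Or.inr ⟨(h * u * h) * (h ^ 2)⁻¹ * g⁻¹ * (g * h) ^ 3 * (h ^ 2)⁻¹, ?_,
        g⁻¹ * (h ^ 2)⁻¹ * (h * (g⁻¹ * u⁻¹ * a) * h), ?_, ?_⟩
      · exact G.mul_mem (G.mul_mem (G.mul_mem (G.mul_mem hu' hcG) (G.inv_mem hg)) h6) hcG
      · exact G.mul_mem (G.mul_mem (G.inv_mem hg) hcG) hv'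
      · have e3 : (g * h) ^ 3 = g * h * (g * h) * (g * h) := by
          rw [pow_succ, pow_succ, pow_one]
        rw [e3]
        group
  have hhS : ∀ f ∈ S, h * f ∈ S := by
    rintro f (hf | ⟨a', ha', b', hb', rfl⟩)
    · exact Or.inr ⟨1, G.one_mem, f, hf, by group⟩
    · have := hSG _ (hkey a' ha') b' hb'
      convert this using 1
      group
  have hcl : ∀ f ∈ Subgroup.closure ((G : Set (Equiv.Perm (Option X))) ∪ {h}), f ∈ S := by
    intro f hf
    induction hf using Subgroup.closure_induction_left with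
    | one => exact Or.inl G.one_mem
    | mul_left s hs y hy ih =>
      rcases hs with hs | hs
      · exact hGS s hs y ih
      · rw [Set.mem_singleton_iff.mp hs]; exact hhS y ih
    | inv_mul_cancel s hs y hy ih =>
      rcases hs with hs | hs
      · exact hGS s⁻¹ (G.inv_mem hs) y ih
      · rw [Set.mem_singleton_iff.mp hs]
        have : h⁻¹ * y = (h ^ 2)⁻¹ * (h * y) := by group
        rw [this]
        exact hGS _ hcG _ (hhS y ih)
  refine ⟨?_, ?_⟩
  · intro f hf
    constructor
    · intro hfn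
      rcases hcl f hf with hfG | ⟨a, ha, b, hb, rfl⟩
      · exact hfG
      · exfalso
        simp only [Equiv.Perm.mul_apply] at hfn
        rw [hfix b hb, h1] at hfn
        obtain ⟨w, hw⟩ := hsome a ha x
        rw [hw] at hfn
        exact Option.some_ne_none _ hfn
    · exact hfix f
  · rw [MulAction.isMultiplyPretransitive_iff]
    have hGle : G ≤ Subgroup.closure ((G : Set (Equiv.Perm (Option X))) ∪ {h}) :=
      fun f hf => Subgroup.subset_closure (Or.inl hf)
    have hhmem : h ∈ Subgroup.closure ((G : Set (Equiv.Perm (Option X))) ∪ {h}) :=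
      Subgroup.subset_closure (Or.inr rfl)
    have hA : ∀ p : Option X,
        ∃ f ∈ Subgroup.closure ((G : Set (Equiv.Perm (Option X))) ∪ {h}), f p = none := by
      intro p
      cases p with
      | none => exact ⟨1, Subgroup.one_mem _, rfl⟩
      | some z =>
        by_cases hzx : z = x
        · rw [hzx]; exact ⟨h, hhmem, h2⟩
        · obtain ⟨u, hu, hu1, _⟩ := h2trans z x x z hzx (Ne.symm hzx)
          refine ⟨h * u, Subgroup.mul_mem _ hhmem (hGle hu), ?_⟩
          rw [Equiv.Perm.mul_apply, hu1, h2]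
    intro a b
    obtain ⟨f₁, hf₁, hf₁a⟩ := hA (a 0)
    obtain ⟨f₂, hf₂, hf₂b⟩ := hA (b 0)
    have key : ∀ (f : Equiv.Perm (Option X)) (a : Fin (k+1) ↪ Option X), f (a 0) = none →
        ∃ a' : Fin k ↪ X, ∀ i : Fin k, f (a i.succ) = some (a' i) := by
      intro f a hfa
      have : ∀ i : Fin k, ∃ z, f (a i.succ) = some z := by
        intro i
        cases hfi : f (a i.succ) with
        | none =>
          exfalso
          rw [← hfa] at hfi
          have := a.injective (f.injective hfi)
          exact Fin.succ_ne_zero i this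
        | some z => exact ⟨z, rfl⟩
      choose a' ha' using this
      refine ⟨⟨a', ?_⟩, ha'⟩
      intro i j hij
      have : f (a i.succ) = f (a j.succ) := by rw [ha', ha', hij]
      exact Fin.succ_injective _ (a.injective (f.injective this))
    obtain ⟨a', ha'⟩ := key f₁ a hf₁a
    obtain ⟨b', hb'⟩ := key f₂ b hf₂b
    obtain ⟨w, hw, hwab⟩ := htrans a' b'
    refine ⟨⟨f₂⁻¹ * w * f₁, Subgroup.mul_mem _ (Subgroup.mul_mem _ (Subgroup.inv_mem _ hf₂)
      (hGle hw)) hf₁⟩, ?_⟩
    ext i : 1
    simp only [Function.Embedding.smul_apply, Subgroup.mk_smul, Equiv.Perm.smul_def,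
      Equiv.Perm.mul_apply]
    refine Fin.cases ?_ ?_ i
    · rw [hf₁a, hfix w hw, ← hf₂b, inv_app]
    · intro j
      rw [ha', hwab, ← hb', inv_app]

end Cfsg.Agent.S4301
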