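import Cfsg.Statements.S4302
import Cfsg.Agent.Helper11.FFSolv6

set_option autoImplicit false
open Cfsg

namespace Cfsg.Agent.S4302

/-- Let `X` be a finite solvable group whose Fitting subgroup is a 2-group (equivalently `F(X) = O₂(X)`), `T` a Sylow 2-subgroup of `X`, `J(T)` the subgroup generated by the abelian subgroups of `T` of largest order, `C` the largest normal subgroup of `X` centralizing the centre `Z(T)`, and `Y` the normal closure of `J(T)` in `X`. Then `X = C · Y · N_X(J(T))`, and either `Y ≤ C`, or `CY/C` is isomorphic to a direct product of at least one copy of the symmetric group of degree 3. -/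
theorem result {X : Type*} [Group X] [Finite X]
    [Group.IsSolvable X] (hF : Cfsg.fittingSubgroup X = Cfsg.pCore 2 X) (T : Sylow 2 X) :
    ((Subgroup.centralizer (((T : Subgroup X) ⊓ Subgroup.centralizer ((T : Subgroup X) : Set X) : Subgroup X) : Set X)).normalCore
        ⊔ Subgroup.normalClosure (Cfsg.thompsonSubgroupAOf (T : Subgroup X) : Set X)
        ⊔ Subgroup.normalizer (Cfsg.thompsonSubgroupAOf (T : Subgroup X) : Set X) = ⊤) ∧
    (Subgroup.normalClosure (Cfsg.thompsonSubgroupAOf (T : Subgroup X) : Set X)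
        ≤ (Subgroup.centralizer (((T : Subgroup X) ⊓ Subgroup.centralizer ((T : Subgroup X) : Set X) : Subgroup X) : Set X)).normalCore
      ∨ ∃ n : ℕ, 1 ≤ n ∧
        Nonempty (↥(Subgroup.normalClosure (Cfsg.thompsonSubgroupAOf (T : Subgroup X) : Set X)) ⧸
            ((Subgroup.centralizer (((T : Subgroup X) ⊓ Subgroup.centralizer ((T : Subgroup X) : Set X) : Subgroup X) : Set X)).normalCore).subgroupOf
              (Subgroup.normalClosure (Cfsg.thompsonSubgroupAOf (T : Subgroup X) : Set X))
          ≃* (Fin n → Equiv.Perm (Fin 3)))) := by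
  haveI : Fact (Nat.Prime 2) := ⟨Nat.prime_two⟩
  have hZT : (T : Subgroup X) ⊓ Subgroup.centralizer ((T : Subgroup X) : Set X) ≤
      Subgroup.centralizer ((T : Subgroup X) : Set X) := inf_le_right
  obtain ⟨hVc, hVQ⟩ := Cfsg.Agent.Helper11.normalClosure_center_sylow_facts hF T
  set Z := (T : Subgroup X) ⊓ Subgroup.centralizer ((T : Subgroup X) : Set X) with hZ
  have hV2 : IsPGroup 2 (Subgroup.normalClosure (Z : Set X)) :=
    (Cfsg.Agent.Lib.isPGroup_pCore 2).to_le hVQ
  haveI hVn : (Subgroup.normalClosure (Z : Set X)).Normal := Subgroup.normalClosure_normal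
  haveI hUn : (Cfsg.Agent.Helper11.omegaTwo (Subgroup.normalClosure (Z : Set X)) hVc).Normal :=
    Cfsg.Agent.Helper11.omegaTwo_normal _ hVc
  have hU := Cfsg.Agent.Helper11.omegaTwo_isElementaryAbelian (Subgroup.normalClosure (Z : Set X)) hVc
  have hCU := Cfsg.Agent.Helper11.centralizer_omegaTwo_eq T Z hZT hVc hV2
  have hO := Cfsg.Agent.Helper11.pCore_quotient_centralizer_eq_bot T Z hZT
    (Cfsg.Agent.Helper11.omegaTwo (Subgroup.normalClosure (Z : Set X)) hVc) hCU
  have hCz : (Subgroup.centralizer (Z : Set X)).normalCore = Subgroup.centralizer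
      ((Cfsg.Agent.Helper11.omegaTwo (Subgroup.normalClosure (Z : Set X)) hVc : Subgroup X) : Set X) := by
    rw [Cfsg.Agent.Helper11.normalCore_centralizer_eq, hCU]
  rw [Cfsg.Agent.Helper51.WC.thompsonSubgroupAOf_eq_JJ]
  constructor
  · rw [sup_assoc, Cfsg.Agent.Helper11.normalClosure_JJ_sup_normalizer_eq_top T]
    exact sup_top_eq _
  · rcases Cfsg.Agent.Helper11.normalClosure_JJ_quotient_iso _ hU hO T with h | ⟨n, hn, ⟨e⟩⟩
    · left
      rw [hCz]
      exact h
    · right
      exact ⟨n, hn, ⟨(QuotientGroup.quotientMulEquivOfEq (by rw [hCz])).trans e⟩⟩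

end Cfsg.Agent.S4302
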