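import Mathlib
import Cfsg.Agent.Helper17.SylowKit
import Cfsg.Agent.S4303
import Cfsg.Statements.S4304
-- import your own Cfsg.Agent.* helpers here

set_option autoImplicit false
open Cfsg

namespace Cfsg.Agent.S4304
open Subgroup MulAction
open scoped Pointwise

variable {G : Type*} [Group G] [Finite G] {p : ℕ} [Fact p.Prime]

theorem mem_smul_iff (g x : G) (Q : Sylow p G) : x ∈ g • Q ↔ g⁻¹ * x * g ∈ Q := by
  have h1 : x ∈ g • Q ↔ x ∈ (MulAut.conj g • (Q : Subgroup G)) := Iff.rfl
  rw [h1, Subgroup.mem_pointwise_smul_iff_inv_smul_mem]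
  simp [MulAut.smul_def]
  exact Iff.rfl

omit [Finite G] [Fact p.Prime] in
theorem stabilizer_eq (P Q : Sylow p G) :
    stabilizer (P : Subgroup G) Q = ((P : Subgroup G) ⊓ Q).subgroupOf P := by
  ext g
  rw [mem_stabilizer_iff, Subgroup.mem_subgroupOf, ← IsPGroup.inf_normalizer_sylow P.2 Q,
    Subgroup.smul_def, Sylow.smul_eq_iff_mem_normalizer]
  simp

theorem card_orbit_mul (P Q : Sylow p G) :
    (orbit (P : Subgroup G) Q).ncard * Nat.card ↥((P : Subgroup G) ⊓ Q)
      = Nat.card (P : Subgroup G) := by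
  have h1 := MulAction.index_stabilizer (P : Subgroup G) Q
  have h2 := Subgroup.card_mul_index (stabilizer (P : Subgroup G) Q)
  rw [stabilizer_eq] at h1 h2
  have h3 : Nat.card ↥(((P : Subgroup G) ⊓ Q).subgroupOf P) = Nat.card ↥((P : Subgroup G) ⊓ Q) :=
    Nat.card_congr (Subgroup.subgroupOfEquivOfLe inf_le_left).toEquiv
  rw [← h1, mul_comm, ← h3]
  exact h2

/-- `P` is not in the `P`-orbit of `Q ≠ P`. -/
theorem not_mem_orbit (P Q : Sylow p G) (hQP : Q ≠ P) : P ∉ orbit (P : Subgroup G) Q := by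
  rintro ⟨g, hg⟩
  apply hQP
  have h1 : (g : G) • Q = P := hg
  have h2 : (g : G)⁻¹ • P = P := by
    rw [Sylow.smul_eq_iff_mem_normalizer]
    exact Subgroup.le_normalizer (inv_mem g.2)
  have h3 : Q = (g : G)⁻¹ • P := eq_inv_smul_iff.mpr h1
  exact h3.trans h2

/-- Sylow subgroups have the same cardinality. -/
theorem card_sylow_eq (P Q : Sylow p G) : Nat.card (Q : Subgroup G) = Nat.card (P : Subgroup G) := by
  rw [Sylow.card_eq_multiplicity, Sylow.card_eq_multiplicity]

theorem sylow_eq_of_le (P Q : Sylow p G) (h : (P : Subgroup G) ≤ Q) : Q = P :=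
  Sylow.ext (P.3 Q.2 h)

instance fact7 : Fact (Nat.Prime 7) := ⟨by norm_num⟩

theorem orbit_ncard (h15 : Nat.card (Sylow 7 G) = 15) (P Q : Sylow 7 G) (hQP : Q ≠ P) :
    (orbit (P : Subgroup G) Q).ncard = 7 := by
  obtain ⟨n, hn⟩ := IsPGroup.card_orbit P.2 Q
  rw [Nat.card_coe_set_eq] at hn
  have hmul := card_orbit_mul P Q
  have hle : (orbit (P : Subgroup G) Q).ncard ≤ 14 := by
    have hsub : orbit (P : Subgroup G) Q ⊆ (Set.univ : Set (Sylow 7 G)) \ {P} := by
      intro R hR
      refine ⟨Set.mem_univ _, ?_⟩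
      intro hRP
      rw [Set.mem_singleton_iff] at hRP
      exact not_mem_orbit P Q hQP (hRP ▸ hR)
    have h1 := Set.ncard_le_ncard hsub (Set.toFinite _)
    rw [Set.ncard_diff_singleton_of_mem (Set.mem_univ P), Set.ncard_univ, h15] at h1
    exact h1
  have hne1 : (orbit (P : Subgroup G) Q).ncard ≠ 1 := by
    intro h1
    rw [h1, one_mul] at hmul
    apply hQP
    apply sylow_eq_of_le
    have : (P : Subgroup G) ⊓ Q = P :=
      Subgroup.eq_of_le_of_card_ge inf_le_left hmul.ge
    exact this ▸ inf_le_right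
  rw [hn] at hle hne1 ⊢
  match n, hle, hne1 with
  | 0, _, h => exact absurd rfl h
  | 1, _, _ => rfl
  | (k+2), h, _ =>
    exfalso
    have : 7 ^ 2 ≤ 7 ^ (k + 2) := Nat.pow_le_pow_right (by norm_num) (by omega)
    omega

/-- faithful action of a simple group with more than one Sylow -/
theorem eq_one_of_fix_all [IsSimpleGroup G] (hne : Nat.card (Sylow p G) ≠ 1) (t : G)
    (h : ∀ Q : Sylow p G, t • Q = Q) : t = 1 := by
  have hker : (MulAction.toPermHom G (Sylow p G)).ker ≠ ⊤ := by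
    intro htop
    apply hne
    have : Subsingleton (Sylow p G) := ⟨fun P Q => by
      obtain ⟨g, hg⟩ := MulAction.exists_smul_eq G P Q
      have hg' : g ∈ (MulAction.toPermHom G (Sylow p G)).ker := htop ▸ Subgroup.mem_top g
      rw [MonoidHom.mem_ker] at hg'
      have h1 : (MulAction.toPermHom G (Sylow p G) g) P = P := by rw [hg']; rfl
      have h2 : g • P = P := h1
      rw [← hg, h2]⟩
    exact Nat.card_unique
  have hbot := ((MulAction.toPermHom G (Sylow p G)).normal_ker.eq_bot_or_eq_top).resolve_right hker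
  have ht : t ∈ (MulAction.toPermHom G (Sylow p G)).ker := by
    rw [MonoidHom.mem_ker]
    exact Equiv.Perm.ext (fun Q => h Q)
  rw [hbot] at ht
  exact Subgroup.mem_bot.mp ht

theorem case49 [IsSimpleGroup G] (h15 : Nat.card (Sylow 7 G) = 15)
    (h49 : ∀ T : Sylow 7 G, Nat.card (T : Subgroup G) = 49) : False := by
  have : Nontrivial (Sylow 7 G) := Finite.one_lt_card_iff_nontrivial.mp (by rw [h15]; norm_num)
  obtain ⟨P, Q, hPQ⟩ := exists_pair_ne (Sylow 7 G)
  have hcomm : ∀ T : Sylow 7 G, ∀ a ∈ T, ∀ b ∈ T, a * b = b * a := by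
    intro T a ha b hb
    have h1 : Nat.card (T : Subgroup G) = 7 ^ 2 := by rw [h49 T]; norm_num
    have h2 := (IsPGroup.isMulCommutative_of_card_eq_prime_sq h1).is_comm.comm ⟨a, ha⟩ ⟨b, hb⟩
    exact congrArg Subtype.val h2
  have hinf : ∀ T R : Sylow 7 G, R ≠ T → Nat.card ↥((T : Subgroup G) ⊓ R) = 7 := by
    intro T R hRT
    have h1 := card_orbit_mul T R
    rw [orbit_ncard h15 T R hRT, h49] at h1
    omega
  have hkey : ∀ (T : Sylow 7 G) (E : Subgroup G), E ≤ T → ∀ g ∈ T, ∀ R : Sylow 7 G, E ≤ R →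
      E ≤ ((g • R : Sylow 7 G) : Subgroup G) := by
    intro T E hET g hg R hER x hx
    have h1 : g⁻¹ * x * g = x := by
      have := hcomm T x (hET hx) g hg
      rw [mul_assoc, this, inv_mul_cancel_left]
    exact (mem_smul_iff g x R).mpr (h1.symm ▸ hER hx)
  obtain ⟨D, hD⟩ : ∃ D : Subgroup G, D = (P : Subgroup G) ⊓ Q := ⟨_, rfl⟩
  have hDP : D ≤ P := hD ▸ inf_le_left
  have hDQ : D ≤ Q := hD ▸ inf_le_right
  have hBinv : ∀ T : Sylow 7 G, D ≤ T → ∀ g ∈ (T : Subgroup G), ∀ R : Sylow 7 G, ¬ D ≤ R →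
      ¬ D ≤ ((g • R : Sylow 7 G) : Subgroup G) := by
    intro T hT g hg R hR h
    apply hR
    have := hkey T D hT g⁻¹ (inv_mem hg) (g • R) h
    rwa [inv_smul_smul] at this
  have hB : ∃ R₁ : Sylow 7 G, ¬ D ≤ R₁ := by
    by_contra hcon
    push Not at hcon
    have hDbot : D = ⊥ := by
      rw [Subgroup.eq_bot_iff_forall]
      intro d hd
      apply eq_one_of_fix_all (p := 7) (by rw [h15]; norm_num) d
      intro R
      rw [Sylow.smul_eq_iff_mem_normalizer]
      exact Subgroup.le_normalizer (hcon R hd)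
    have := hinf P Q hPQ.symm
    rw [← hD, hDbot] at this
    simp at this
  obtain ⟨R₁, hR₁⟩ := hB
  obtain ⟨B, hBdef⟩ : ∃ B : Set (Sylow 7 G), B = {R : Sylow 7 G | ¬ D ≤ R} := ⟨_, rfl⟩
  have hBcard : B.ncard ≤ 7 := by
    have hsub : insert P (orbit (P : Subgroup G) Q) ⊆ Bᶜ := by
      intro R hR
      rw [hBdef]
      rcases hR with rfl | ⟨g, rfl⟩
      · simpa using hDP
      · have h1 : D ≤ (((g : G) • Q : Sylow 7 G) : Subgroup G) := hkey P D hDP g g.2 Q hDQ
        rw [Set.mem_compl_iff, Set.mem_setOf_eq, not_not]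
        exact h1
    have h8 : (insert P (orbit (P : Subgroup G) Q)).ncard = 8 := by
      rw [Set.ncard_insert_of_notMem (not_mem_orbit P Q hPQ.symm) (Set.toFinite _),
        orbit_ncard h15 P Q hPQ.symm]
    have h1 := Set.ncard_le_ncard hsub (Set.toFinite _)
    have h2 := Set.ncard_add_ncard_compl B
    rw [h15] at h2
    omega
  have horb : ∀ T : Sylow 7 G, D ≤ T → orbit (T : Subgroup G) R₁ = B := by
    intro T hT
    have hne : R₁ ≠ T := by rintro rfl; exact hR₁ hT
    apply Set.eq_of_subset_of_ncard_le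
    · rintro R ⟨g, rfl⟩
      rw [hBdef]
      exact hBinv T hT g g.2 R₁ hR₁
    · rw [orbit_ncard h15 T R₁ hne]; exact hBcard
    · exact Set.toFinite _
  have hB7 : B.ncard = 7 := by
    rw [← horb P hDP, orbit_ncard h15 P R₁ (by rintro rfl; exact hR₁ hDP)]
  obtain ⟨R₂, hR₂B, hR₂ne⟩ : ∃ R₂ ∈ B, R₂ ≠ R₁ := by
    have : 1 < B.ncard := by omega
    obtain ⟨a, b, ha, hb, hab⟩ := (Set.one_lt_ncard_iff (Set.toFinite _)).mp this
    by_cases h : a = R₁
    · exact ⟨b, hb, fun hb' => hab (h.trans hb'.symm)⟩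
    · exact ⟨a, ha, h⟩
  have hT : ∀ T : Sylow 7 G, D ≤ T → (T : Subgroup G) ⊓ R₁ = (R₁ : Subgroup G) ⊓ R₂ := by
    intro T hT
    have hne : R₁ ≠ T := by rintro rfl; exact hR₁ hT
    have hmem : R₂ ∈ orbit (T : Subgroup G) R₁ := by rw [horb T hT]; exact hR₂B
    obtain ⟨g, hg⟩ := hmem
    have hg' : ((g : G) • R₁ : Sylow 7 G) = R₂ := hg
    have hle : (T : Subgroup G) ⊓ R₁ ≤ (R₁ : Subgroup G) ⊓ R₂ := by
      rw [← hg']
      exact le_inf inf_le_right (hkey T _ inf_le_left g g.2 R₁ inf_le_right)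
    apply Subgroup.eq_of_le_of_card_ge hle
    rw [hinf T R₁ hne, hinf R₁ R₂ hR₂ne]
  have hP := hT P hDP
  have hQ := hT Q hDQ
  have hED : (R₁ : Subgroup G) ⊓ R₂ ≤ D := by
    rw [hD]
    exact le_inf (hP ▸ inf_le_left) (hQ ▸ inf_le_left)
  have hEq : (R₁ : Subgroup G) ⊓ R₂ = D :=
    Subgroup.eq_of_le_of_card_ge hED (by rw [hinf R₁ R₂ hR₂ne, hD, hinf P Q hPQ.symm])
  exact hR₁ (hEq ▸ inf_le_left)

/-- key fixed-point lemma in the case `|P| = 7` -/
theorem fix_all_of_fix_one (h15 : Nat.card (Sylow 7 G) = 15)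
    (h7 : ∀ T : Sylow 7 G, Nat.card (T : Subgroup G) = 7)
    (P Q : Sylow 7 G) (hQP : Q ≠ P) (t : G) (ht : t ∈ centralizer ((P : Subgroup G) : Set G))
    (hcop : Nat.Coprime (orderOf t) 7) (htQ : t • Q = Q) : ∀ R : Sylow 7 G, t • R = R := by
  have hinf : ∀ R : Sylow 7 G, R ≠ P → (P : Subgroup G) ⊓ R = ⊥ := by
    intro R hR
    have h1 := card_orbit_mul P R
    rw [orbit_ncard h15 P R hR, h7] at h1
    have : Nat.card ↥((P : Subgroup G) ⊓ R) = 1 := by omega
    exact Subgroup.card_eq_one.mp this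
  have hcomm : ∀ g ∈ (P : Subgroup G), g * t = t * g :=
    fun g hg => Subgroup.mem_centralizer_iff.mp ht g hg
  have htP : t • P = P := by
    rw [Sylow.smul_eq_iff_mem_normalizer]
    exact Subgroup.centralizer_le_normalizer _ ht
  have hfixA : ∀ R ∈ insert P (orbit (P : Subgroup G) Q), t • R = R := by
    rintro R (rfl | ⟨g, rfl⟩)
    · exact htP
    · show t • ((g : G) • Q) = (g : G) • Q
      rw [smul_smul, ← hcomm g g.2, mul_smul, htQ]
  obtain ⟨A, hA⟩ : ∃ A : Set (Sylow 7 G), A = insert P (orbit (P : Subgroup G) Q) := ⟨_, rfl⟩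
  have hA8 : A.ncard = 8 := by
    rw [hA, Set.ncard_insert_of_notMem (not_mem_orbit P Q hQP) (Set.toFinite _),
      orbit_ncard h15 P Q hQP]
  have hAc : Aᶜ.ncard = 7 := by
    have := Set.ncard_add_ncard_compl A
    omega
  intro R
  by_cases hRA : R ∈ A
  · exact hfixA R (hA ▸ hRA)
  · have hRP : R ≠ P := by
      rintro rfl
      exact hRA (hA ▸ Set.mem_insert _ _)
    have hRQ : R ∉ orbit (P : Subgroup G) Q := fun h => hRA (hA ▸ Set.mem_insert_of_mem _ h)
    have horb : orbit (P : Subgroup G) R = Aᶜ := by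
      apply Set.eq_of_subset_of_ncard_le
      · intro X hX hXA
        rw [hA] at hXA
        rcases hXA with hXP | hXQ
        · exact not_mem_orbit P R hRP (hXP ▸ hX)
        · apply hRQ
          rw [← orbit_eq_iff.mpr hXQ, orbit_eq_iff.mpr hX]
          exact mem_orbit_self R
      · rw [orbit_ncard h15 P R hRP, hAc]
      · exact Set.toFinite _
    have htR : t • R ∈ Aᶜ := by
      intro htRA
      apply hRA
      have h1 := hfixA (t • R) (hA ▸ htRA)
      have h2 : t • R = R := smul_left_cancel t h1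
      rw [← h2]
      exact htRA
    rw [← horb] at htR
    obtain ⟨g, hg⟩ := htR
    have hg' : (g : G) • R = t • R := hg
    have hpow : ∀ k : ℕ, t ^ k • R = (g : G) ^ k • R := by
      intro k
      induction k with
      | zero => simp
      | succ k ih =>
        rw [pow_succ', mul_smul, ih, smul_smul, ← hcomm _ (pow_mem g.2 k), mul_smul, ← hg',
          smul_smul, ← pow_succ]
    have h1 := hpow (orderOf t)
    rw [pow_orderOf_eq_one, one_smul] at h1
    have hgm : (g : G) ^ orderOf t ∈ (P : Subgroup G) ⊓ R := by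
      rw [← IsPGroup.inf_normalizer_sylow P.2 R]
      exact ⟨pow_mem g.2 _, Sylow.smul_eq_iff_mem_normalizer.mp h1.symm⟩
    rw [hinf R hRP, Subgroup.mem_bot] at hgm
    have hd1 : orderOf (g : G) ∣ orderOf t := orderOf_dvd_of_pow_eq_one hgm
    have hd2 : orderOf (g : G) ∣ 7 := by
      have := orderOf_dvd_natCard g
      rw [h7 P] at this
      rwa [Subgroup.orderOf_coe]
    have hg1 : orderOf (g : G) = 1 := by
      have := Nat.dvd_gcd hd1 hd2
      rw [hcop.gcd_eq_one] at this
      exact Nat.dvd_one.mp this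
    rw [orderOf_eq_one_iff] at hg1
    rw [← hg', hg1, one_smul]

instance fact5 : Fact (Nat.Prime 5) := ⟨by norm_num⟩

/-- No element of prime order `r ≠ 7` centralizes a Sylow 7-subgroup of order 7. -/
theorem prime_order_centralizer [IsSimpleGroup G] (h15 : Nat.card (Sylow 7 G) = 15)
    (h7 : ∀ T : Sylow 7 G, Nat.card (T : Subgroup G) = 7) (hG : ¬ IsMulCommutative G)
    (P : Sylow 7 G) (c : G) (hc : c ∈ centralizer ((P : Subgroup G) : Set G))
    (r : ℕ) (hr : r.Prime) (hcr : orderOf c = r) : r = 7 := by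
  classical
  have hne1 : Nat.card (Sylow 7 G) ≠ 1 := by rw [h15]; norm_num
  by_contra hr7
  have hcop : Nat.Coprime (orderOf c) 7 := by
    rw [hcr]
    exact (Nat.coprime_primes hr (by norm_num)).mpr hr7
  have hc1 : c ≠ 1 := by
    rintro rfl
    rw [orderOf_one] at hcr
    exact hr.one_lt.ne' hcr.symm
  have hfixP : c • P = P := by
    rw [Sylow.smul_eq_iff_mem_normalizer]
    exact Subgroup.centralizer_le_normalizer _ hc
  have hmove : ∀ Q : Sylow 7 G, Q ≠ P → c • Q ≠ Q := by
    intro Q hQP hcQ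
    exact hc1 (eq_one_of_fix_all hne1 c (fix_all_of_fix_one h15 h7 P Q hQP c hc hcop hcQ))
  have : Fintype (Sylow 7 G) := Fintype.ofFinite _
  obtain ⟨σ, hσ⟩ : ∃ σ : Equiv.Perm (Sylow 7 G), σ = MulAction.toPermHom G (Sylow 7 G) c :=
    ⟨_, rfl⟩
  have hinj : Function.Injective (MulAction.toPermHom G (Sylow 7 G)) := by
    rw [injective_iff_map_eq_one]
    intro a ha
    apply eq_one_of_fix_all hne1
    intro Q
    have : (MulAction.toPermHom G (Sylow 7 G) a) Q = Q := by rw [ha]; rfl
    exact this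
  have hord : orderOf σ = r := by rw [hσ, orderOf_injective _ hinj, hcr]
  have hσapp : ∀ Q, σ Q = c • Q := fun Q => by rw [hσ]; rfl
  have hsupp : σ.support = Finset.univ.erase P := by
    ext Q
    rw [Equiv.Perm.mem_support, Finset.mem_erase, hσapp]
    constructor
    · intro h
      refine ⟨?_, Finset.mem_univ _⟩
      rintro rfl
      exact h hfixP
    · intro h
      exact hmove Q h.1
  have hcard : σ.support.card = 14 := by
    rw [hsupp, Finset.card_erase_of_mem (Finset.mem_univ _), Finset.card_univ,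
      ← Nat.card_eq_fintype_card, h15]
  obtain ⟨n, hn⟩ := Equiv.Perm.cycleType_prime_order (hord.symm ▸ hr)
  have hsum := Equiv.Perm.sum_cycleType σ
  rw [hn, Multiset.sum_replicate, hord, hcard, smul_eq_mul] at hsum
  have hr2 : r = 2 := by
    have h14 : r ∣ 2 * 7 := ⟨n + 1, by linarith⟩
    rcases (Nat.Prime.dvd_mul hr).mp h14 with h | h
    · exact (Nat.prime_dvd_prime_iff_eq hr Nat.prime_two).mp h
    · exact absurd ((Nat.prime_dvd_prime_iff_eq hr (by norm_num)).mp h) hr7
  subst hr2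
  have hn6 : n = 6 := by omega
  have hsign := Equiv.Perm.sign_of_cycleType σ
  rw [hn, Multiset.sum_replicate, Multiset.card_replicate, hord, hn6] at hsign
  have htriv := Helper17.hom_to_comm_trivial hG
    (Equiv.Perm.sign.comp (MulAction.toPermHom G (Sylow 7 G))) c
  rw [MonoidHom.comp_apply, ← hσ, hsign] at htriv
  revert htriv
  decide

theorem case7 [IsSimpleGroup G] (h15 : Nat.card (Sylow 7 G) = 15)
    (h7 : ∀ T : Sylow 7 G, Nat.card (T : Subgroup G) = 7) : False := by
  have hne1 : Nat.card (Sylow 7 G) ≠ 1 := by rw [h15]; norm_num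
  obtain ⟨P⟩ : Nonempty (Sylow 7 G) := inferInstance
  have hG : ¬ IsMulCommutative G := by
    intro hc
    apply hne1
    have hN : (P : Subgroup G).Normal :=
      ⟨fun n hn g => by rw [hc.is_comm.comm g n, mul_inv_cancel_right]; exact hn⟩
    have := Sylow.unique_of_normal P hN
    exact Nat.card_unique
  obtain ⟨C, hC⟩ : ∃ C : Subgroup G, C = centralizer ((P : Subgroup G) : Set G) := ⟨_, rfl⟩
  have hCp : IsPGroup 7 C := by
    have hcard : ∀ {d : ℕ}, d.Prime → d ∣ Nat.card C → d = 7 := by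
      intro d hd hdvd
      have : Fact d.Prime := ⟨hd⟩
      obtain ⟨c, hc⟩ := exists_prime_orderOf_dvd_card' d hdvd
      exact prime_order_centralizer h15 h7 hG P (c : G) (hC ▸ c.2) d hd
        (by rw [Subgroup.orderOf_coe]; exact hc)
    exact IsPGroup.of_card (Nat.eq_prime_pow_of_unique_prime_dvd Nat.card_pos.ne' hcard)
  obtain ⟨Q', hQ'⟩ := hCp.exists_le_sylow
  have hCcard : Nat.card C = 7 := by
    have h1 : Nat.card C ∣ 7 := (h7 Q') ▸ Subgroup.card_dvd_of_le hQ'
    have hPC : (P : Subgroup G) ≤ C := by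
      rw [hC]
      have hcyc : IsCyclic (P : Subgroup G) := isCyclic_of_prime_card (p := 7) (h7 P)
      intro x hx
      rw [Subgroup.mem_centralizer_iff]
      intro y hy
      have := hcyc.commGroup.mul_comm ⟨y, hy⟩ ⟨x, hx⟩
      exact congrArg Subtype.val this
    have h2 : 7 ∣ Nat.card C := (h7 P) ▸ Subgroup.card_dvd_of_le hPC
    exact Nat.dvd_antisymm h1 h2
  have h1 := Helper17.card_centralizer_mul_relIndex (P : Subgroup G)
  obtain ⟨h2, -⟩ := Helper17.relIndex_dvd_of_card_sylow_prime P (h7 P)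
  rw [← hC, hCcard] at h1
  have h3 := Helper17.card_normalizer_mul_card_sylow P
  rw [h15, ← h1] at h3
  obtain ⟨d, hd⟩ : ∃ d, d = (centralizer ((P : Subgroup G) : Set G)).relIndex
      (normalizer ((P : Subgroup G) : Set G)) := ⟨_, rfl⟩
  rw [← hC] at hd
  rw [← hC, ← hd] at h2
  rw [← hd] at h3
  have hd6 : d ∣ 6 := h2
  have hdle : d ≤ 6 := Nat.le_of_dvd (by norm_num) hd6
  by_cases heven : 2 ∣ d
  · obtain ⟨e, rfl⟩ := heven
    have hcardG : Nat.card G = 2 ^ 1 * (105 * e) := by rw [← h3]; ring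
    have he : e = 1 ∨ e = 3 := by
      have : e ≤ 3 := by omega
      interval_cases e
      · simp at hd6
      · left; rfl
      · exfalso; revert hd6; decide
      · right; rfl
    have hm : ¬ 2 ∣ 105 * e := by rcases he with rfl | rfl <;> decide
    obtain ⟨P2⟩ : Nonempty (Sylow 2 G) := inferInstance
    have hP2 := Helper17.card_sylow_subgroup_of_card_eq hcardG hm P2
    rw [pow_one] at hP2
    obtain ⟨d', hd1, hd2, -⟩ := Helper17.exists_dvd_of_simple_sylow_prime P2 hP2
      (by rw [hcardG]; rcases he with rfl | rfl <;> norm_num)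
    have : d' = 1 := Nat.dvd_one.mp hd2
    omega
  · have hcardG : Nat.card G = 5 ^ 1 * (21 * d) := by rw [← h3]; ring
    have hd13 : d = 1 ∨ d = 3 := by
      interval_cases d
      · simp at hd6
      · left; rfl
      · exfalso; exact heven (dvd_refl 2)
      · right; rfl
      · exfalso; exact heven ⟨2, rfl⟩
      · exfalso; revert hd6; decide
      · exfalso; exact heven ⟨3, rfl⟩
    have hm : ¬ 5 ∣ 21 * d := by rcases hd13 with rfl | rfl <;> decide
    obtain ⟨P5⟩ : Nonempty (Sylow 5 G) := inferInstance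
    have hP5 := Helper17.card_sylow_subgroup_of_card_eq hcardG hm P5
    rw [pow_one] at hP5
    obtain ⟨d', hd1, hd2, hd3⟩ := Helper17.exists_dvd_of_simple_sylow_prime P5 hP5
      (by rw [hcardG]; rcases hd13 with rfl | rfl <;> norm_num)
    have h2d : 2 ∣ d' := by
      have hle : d' ≤ 4 := Nat.le_of_dvd (by norm_num) hd2
      interval_cases d'
      · exact dvd_refl 2
      · exfalso; revert hd2; decide
      · exact ⟨2, rfl⟩
    have h2G : 2 ∣ Nat.card G :=
      dvd_trans (dvd_trans h2d (Dvd.intro_left 5 rfl))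
        (dvd_trans hd3 (Subgroup.card_subgroup_dvd_card _))
    rw [hcardG] at h2G
    rcases hd13 with rfl | rfl <;> omega

/-- No finite simple group has exactly 15 Sylow 7-subgroups. -/
theorem no_simple [IsSimpleGroup G] (h15 : Nat.card (Sylow 7 G) = 15) : False := by
  obtain ⟨P⟩ : Nonempty (Sylow 7 G) := inferInstance
  have hne1 : Nat.card (Sylow 7 G) ≠ 1 := by rw [h15]; norm_num
  have hinj : Function.Injective (MulAction.toPermHom G (Sylow 7 G)) := by
    rw [injective_iff_map_eq_one]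
    intro a ha
    apply eq_one_of_fix_all hne1
    intro Q
    have : (MulAction.toPermHom G (Sylow 7 G) a) Q = Q := by rw [ha]; rfl
    exact this
  have hdvd : Nat.card G ∣ Nat.factorial 15 := by
    have := Subgroup.card_dvd_of_injective _ hinj
    rwa [Nat.card_perm, h15] at this
  have hP := P.card_eq_multiplicity
  obtain ⟨k, hk⟩ : ∃ k, k = (Nat.card G).factorization 7 := ⟨_, rfl⟩
  rw [← hk] at hP
  have hk2 : k ≤ 2 := by
    by_contra hlt
    push Not at hlt
    have h1 : 7 ^ 3 ∣ Nat.factorial 15 :=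
      dvd_trans (pow_dvd_pow 7 hlt)
        (dvd_trans (hP ▸ Subgroup.card_subgroup_dvd_card (P : Subgroup G)) hdvd)
    revert h1
    decide
  have hk0 : k ≠ 0 := by
    intro h0
    apply hne1
    have : Subsingleton (Sylow 7 G) := ⟨fun T R => by
      have hT : (T : Subgroup G) = ⊥ := by
        rw [← Subgroup.card_eq_one, card_sylow_eq P T, hP, h0, pow_zero]
      have hR : (R : Subgroup G) = ⊥ := by
        rw [← Subgroup.card_eq_one, card_sylow_eq P R, hP, h0, pow_zero]
      exact Sylow.ext (hT.trans hR.symm)⟩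
    exact Nat.card_unique
  interval_cases k
  · exact absurd rfl hk0
  · exact case7 h15 (fun T => by rw [card_sylow_eq P T, hP]; norm_num)
  · exact case49 h15 (fun T => by rw [card_sylow_eq P T, hP]; norm_num)

theorem not_isPrimePow_fifteen : ¬ IsPrimePow 15 := by
  intro h
  rw [isPrimePow_iff_unique_prime_dvd] at h
  obtain ⟨q, -, hq⟩ := h
  have h3 := hq 3 ⟨Nat.prime_three, by norm_num⟩
  have h5 := hq 5 ⟨by norm_num, by norm_num⟩
  omega

/-- No finite group has exactly 15 Sylow 7-subgroups. -/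
theorem result {G : Type*} [Group G] [Finite G] : Nat.card (Sylow 7 G) ≠ 15 := by
  intro h15
  obtain ⟨l, hprod, hl⟩ := Cfsg.Agent.S4303.result (G := G) 7
  rw [h15] at hprod
  have h3 : ∃ m ∈ l, 3 ∣ m := by
    have : 3 ∣ l.prod := by rw [hprod]; norm_num
    exact (Prime.dvd_prod_iff Nat.prime_three.prime).mp this
  obtain ⟨m, hm, h3m⟩ := h3
  have hm15 : m ∣ 15 := hprod ▸ List.dvd_prod hm
  have hm' : m = 3 ∨ m = 15 := by
    have hle : m ≤ 15 := Nat.le_of_dvd (by norm_num) hm15
    interval_cases m <;> simp_all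
  rcases hl m hm with ⟨hpp, hmod⟩ | ⟨S, _, _, hS, hmS⟩
  · rcases hm' with rfl | rfl
    · norm_num at hmod
    · exact not_isPrimePow_fifteen hpp
  · rcases hm' with rfl | rfl
    · have := card_sylow_modEq_one 7 S
      rw [← hmS] at this
      revert this
      decide
    · exact no_simple hmS.symm

end Cfsg.Agent.S4304
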