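import Cfsg.Statements.S4305
import Cfsg.Agent.Helper1.ShultAmb
import Cfsg.Agent.Helper1.ShultSemi
import Cfsg.Agent.Helper1.ShultLemmaA
import Cfsg.Agent.Helper31.ShultBr
import Cfsg.Agent.Helper24.ShultB1
import Cfsg.Agent.Helper54.ShultB2
import Cfsg.Agent.Helper10.ShultK
import Cfsg.Agent.Helper49.ShultT

set_option autoImplicit false
open Cfsg

namespace Cfsg.Agent.S4305

open Cfsg.Agent.Helper1.Shult

/-- Let the symmetric group of degree 3 act by automorphisms on a finite solvable group `G` of order prime to 6, so that only the identity of `G` is fixed by all of it. Then the derived subgroup of `G` is nilpotent. -/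
theorem result {G : Type*} [Group G] [Finite G] [Group.IsSolvable G]
    [MulDistribMulAction (Equiv.Perm (Fin 3)) G] (hcop : (Nat.card G).Coprime 6)
    (hfpf : ∀ g : G, (∀ a : Equiv.Perm (Fin 3), a • g = g) → g = 1) :
    Group.IsNilpotent ↥(commutator G) := by
  have hA : LemmaAStmt := lemmaA
  have hB : LemmaBStmt := Cfsg.Agent.Helper31.Shult.lemmaB_of_min
    (fun H _ _ p q r _ _ _ σ τ P Q W CP c => by
      by_cases h : ∀ x ∈ P, x⁻¹ * (σ * x * σ⁻¹) ∈ CP
      · exact Cfsg.Agent.Helper24.ShultB.lemmaB_case1 c h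
      · push Not at h
        exact Cfsg.Agent.Helper54.ShultB2.lemmaB_case2 c h)
  exact shult_of_ambient (ambient_of_core (Cfsg.Agent.Helper49.ShultT.core_of_faithful
    (Cfsg.Agent.Helper10.Shult.faithfulCore hA hB))) hcop hfpf

end Cfsg.Agent.S4305
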