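import Cfsg.Statements.S4321
import Cfsg.Agent.Helper15.PSGMain

set_option autoImplicit false
open Cfsg

namespace Cfsg.Agent.S4321

open Cfsg.Agent.Helper15.PSG Cfsg.Agent.Helper69.Bhm

/-- Let `G` be a finite group and `p` a prime not dividing the order of the centre of `G`. Consider the primes dividing the size of some conjugacy class of a `p`-singular element (an element of order divisible by `p`), two of them adjacent when their product divides such a class size. Then any two distinct such primes are joined by a path with at most 3 edges (the graph is connected of diameter at most 3). -/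
theorem result {G : Type*} [Group G] [Finite G] (p : ℕ) [Fact p.Prime]
    (hZ : ¬ p ∣ Nat.card ↥(Subgroup.center G)) (r s : ℕ) (hr : (r.Prime ∧ ∃ x : G, p ∣ orderOf x ∧ r ∣ (Subgroup.centralizer ({x} : Set G)).index)) (hs : (s.Prime ∧ ∃ x : G, p ∣ orderOf x ∧ s ∣ (Subgroup.centralizer ({x} : Set G)).index)) (hrs : r ≠ s) :
    (∃ x : G, p ∣ orderOf x ∧ r * s ∣ (Subgroup.centralizer ({x} : Set G)).index) ∨ (∃ t : ℕ, (t.Prime ∧ ∃ x : G, p ∣ orderOf x ∧ t ∣ (Subgroup.centralizer ({x} : Set G)).index) ∧ t ≠ r ∧ t ≠ s ∧ (∃ x : G, p ∣ orderOf x ∧ r * t ∣ (Subgroup.centralizer ({x} : Set G)).index) ∧ (∃ x : G, p ∣ orderOf x ∧ t * s ∣ (Subgroup.centralizer ({x} : Set G)).index)) ∨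
      (∃ t u : ℕ, (t.Prime ∧ ∃ x : G, p ∣ orderOf x ∧ t ∣ (Subgroup.centralizer ({x} : Set G)).index) ∧ (u.Prime ∧ ∃ x : G, p ∣ orderOf x ∧ u ∣ (Subgroup.centralizer ({x} : Set G)).index) ∧ t ≠ r ∧ u ≠ s ∧ t ≠ u ∧ (∃ x : G, p ∣ orderOf x ∧ r * t ∣ (Subgroup.centralizer ({x} : Set G)).index) ∧ (∃ x : G, p ∣ orderOf x ∧ t * u ∣ (Subgroup.centralizer ({x} : Set G)).index) ∧ (∃ x : G, p ∣ orderOf x ∧ u * s ∣ (Subgroup.centralizer ({x} : Set G)).index)) := by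
  obtain ⟨hrp, x, hxp, hrx⟩ := hr
  obtain ⟨hsp, y, hyp, hsy⟩ := hs
  obtain ⟨u, hu, hu1, hux⟩ := exists_pElement_of_singular hxp
  obtain ⟨v, hv, hv1, hvy⟩ := exists_pElement_of_singular hyp
  change r ∣ ci x at hrx
  change s ∣ ci y at hsy
  rcases star p hZ hu hv hu1 hv1 with ⟨c, hc, hcu, hcv⟩ | ⟨a, b, ha, hb, hau, hbv, w, hwp, hw⟩
  · have hcx : c ∣ ci x := hcu.trans hux
    have hcy : c ∣ ci y := hcv.trans hvy
    by_cases h1 : c = r
    · subst h1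
      exact Or.inl ⟨y, hyp, mul_dvd_of_primes hrp hsp hrs hcy hsy⟩
    by_cases h2 : c = s
    · subst h2
      exact Or.inl ⟨x, hxp, mul_dvd_of_primes hrp hsp hrs hrx hcx⟩
    exact Or.inr (Or.inl ⟨c, ⟨hc, x, hxp, hcx⟩, h1, h2,
      ⟨x, hxp, mul_dvd_of_primes hrp hc (Ne.symm h1) hrx hcx⟩,
      ⟨y, hyp, mul_dvd_of_primes hc hsp h2 hcy hsy⟩⟩)
  · have hax : a ∣ ci x := hau.trans hux
    have hby : b ∣ ci y := hbv.trans hvy
    by_cases h1 : a = s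
    · subst h1
      exact Or.inl ⟨x, hxp, mul_dvd_of_primes hrp hsp hrs hrx hax⟩
    by_cases h2 : b = r
    · subst h2
      exact Or.inl ⟨y, hyp, mul_dvd_of_primes hrp hsp hrs hby hsy⟩
    by_cases h3 : a = r
    · subst h3
      by_cases h4 : b = s
      · subst h4
        exact Or.inl ⟨w, hwp, hw⟩
      · exact Or.inr (Or.inl ⟨b, ⟨hb, y, hyp, hby⟩, h2, h4, ⟨w, hwp, hw⟩,
          ⟨y, hyp, mul_dvd_of_primes hb hsp h4 hby hsy⟩⟩)
    by_cases h4 : b = s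
    · subst h4
      exact Or.inr (Or.inl ⟨a, ⟨ha, x, hxp, hax⟩, h3, h1,
        ⟨x, hxp, mul_dvd_of_primes hrp ha (Ne.symm h3) hrx hax⟩, ⟨w, hwp, hw⟩⟩)
    by_cases h5 : a = b
    · subst h5
      exact Or.inr (Or.inl ⟨a, ⟨ha, x, hxp, hax⟩, h3, h1,
        ⟨x, hxp, mul_dvd_of_primes hrp ha (Ne.symm h3) hrx hax⟩,
        ⟨y, hyp, mul_dvd_of_primes ha hsp h1 hby hsy⟩⟩)
    exact Or.inr (Or.inr ⟨a, b, ⟨ha, x, hxp, hax⟩, ⟨hb, y, hyp, hby⟩, h3, h4, h5,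
      ⟨x, hxp, mul_dvd_of_primes hrp ha (Ne.symm h3) hrx hax⟩, ⟨w, hwp, hw⟩,
      ⟨y, hyp, mul_dvd_of_primes hb hsp h4 hby hsy⟩⟩)

end Cfsg.Agent.S4321
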