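import Cfsg.Statements.S4325
import Mathlib.Combinatorics.SimpleGraph.Acyclic

set_option autoImplicit false
open Cfsg

namespace Cfsg.Agent.S4325

open Equiv

/-- The graph on `Fin r` with `x ~ y` when some `t i` maps `x` to `y ≠ x`. -/
def swapGraph {r m : ℕ} (t : Fin m → Perm (Fin r)) : SimpleGraph (Fin r) :=
  SimpleGraph.fromRel (fun x y => ∃ i, t i x = y)

theorem reachable_of_mem_closure {r m : ℕ} (t : Fin m → Perm (Fin r)) (σ : Perm (Fin r))
    (hσ : σ ∈ Subgroup.closure (Set.range t)) : ∀ x, (swapGraph t).Reachable x (σ x) := by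
  induction hσ using Subgroup.closure_induction with
  | mem g hg =>
    intro x
    obtain ⟨i, rfl⟩ := hg
    by_cases h : t i x = x
    · rw [h]
    · apply SimpleGraph.Adj.reachable
      rw [swapGraph, SimpleGraph.fromRel_adj]
      exact ⟨fun e => h e.symm, Or.inl ⟨i, rfl⟩⟩
  | one => intro x; exact SimpleGraph.Reachable.refl _
  | mul a b _ _ iha ihb =>
    intro x
    exact (ihb x).trans (iha (b x))
  | inv a _ iha =>
    intro x
    have := iha (a⁻¹ x)
    rw [Perm.inv_def, Equiv.apply_symm_apply] at this
    exact this.symm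

theorem card_edgeSet_le {r m : ℕ} (t : Fin m → Perm (Fin r)) (ht : ∀ i, (t i).IsSwap) :
    Nat.card (swapGraph t).edgeSet ≤ m := by
  choose a b hab htab using ht
  have hsub : (swapGraph t).edgeSet ⊆ Set.range (fun i => s(a i, b i)) := by
    intro e he
    induction e using Sym2.ind with
    | _ x y =>
      rw [SimpleGraph.mem_edgeSet, swapGraph, SimpleGraph.fromRel_adj] at he
      obtain ⟨hne, h | h⟩ := he
      · obtain ⟨i, hi⟩ := h
        refine ⟨i, ?_⟩
        rw [htab i] at hi
        have hx : x = a i ∨ x = b i := by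
          by_contra hc
          push Not at hc
          rw [swap_apply_of_ne_of_ne hc.1 hc.2] at hi
          exact hne hi
        rcases hx with rfl | rfl
        · rw [swap_apply_left] at hi; subst hi; rfl
        · rw [swap_apply_right] at hi; subst hi; exact Sym2.eq_swap
      · obtain ⟨i, hi⟩ := h
        refine ⟨i, ?_⟩
        rw [htab i] at hi
        have hy : y = a i ∨ y = b i := by
          by_contra hc
          push Not at hc
          rw [swap_apply_of_ne_of_ne hc.1 hc.2] at hi
          exact hne hi.symm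
        rcases hy with rfl | rfl
        · rw [swap_apply_left] at hi; subst hi; exact Sym2.eq_swap
        · rw [swap_apply_right] at hi; subst hi; rfl
  calc Nat.card (swapGraph t).edgeSet ≤ Nat.card (Set.range (fun i => s(a i, b i))) :=
        Nat.card_mono (Set.finite_range _) hsub
    _ ≤ Nat.card (Fin m) := Finite.card_range_le _
    _ = m := by simp

theorem not_dvd_card_closure (r m : ℕ) (hr : r.Prime) (hm : m + 1 < r)
    (t : Fin m → Perm (Fin r)) (ht : ∀ i, (t i).IsSwap) :
    ¬ r ∣ Nat.card (Subgroup.closure (Set.range t)) := by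
  intro hdvd
  have : Fact r.Prime := ⟨hr⟩
  obtain ⟨⟨σ, hσH⟩, hσ⟩ := exists_prime_orderOf_dvd_card' r hdvd
  rw [Subgroup.orderOf_mk] at hσ
  have hcyc : σ.IsCycle := by
    apply Perm.isCycle_of_prime_order''
    · simpa using hr
    · simpa using hσ
  have hsupp : σ.support = Finset.univ := by
    apply Finset.eq_univ_of_card
    rw [← hcyc.orderOf, hσ]; simp
  have hmoves : ∀ x, σ x ≠ x := by
    intro x
    rw [← Perm.mem_support, hsupp]; exact Finset.mem_univ x
  have hpre : (swapGraph t).Preconnected := by
    intro x y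
    obtain ⟨i, hi⟩ := hcyc.exists_pow_eq (hmoves x) (hmoves y)
    have := reachable_of_mem_closure t (σ ^ i) (Subgroup.pow_mem _ hσH i) x
    rwa [hi] at this
  have : Nonempty (Fin r) := ⟨⟨0, hr.pos⟩⟩
  have hconn : (swapGraph t).Connected := ⟨hpre⟩
  have h1 := hconn.card_vert_le_card_edgeSet_add_one
  have h2 := card_edgeSet_le t ht
  simp only [Nat.card_eq_fintype_card, Fintype.card_fin] at h1
  omega

/-- A nontrivial normal subgroup of `Perm (Fin r)` has order divisible by `r`. -/
theorem dvd_card_of_normal (r : ℕ) (N : Subgroup (Perm (Fin r))) (hN : N.Normal) (hne : N ≠ ⊥) :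
    r ∣ Nat.card N := by
  obtain ⟨σ, hσ1⟩ := (Subgroup.ne_bot_iff_exists_ne_one).1 hne
  have hσ1' : (σ : Perm (Fin r)) ≠ 1 := fun h => hσ1 (Subtype.ext h)
  obtain ⟨a, ha⟩ : ∃ a, (σ : Perm (Fin r)) a ≠ a := by
    by_contra hc
    push Not at hc
    exact hσ1' (Perm.ext hc)
  -- the orbit of `a` under `N` is everything
  have horb : MulAction.orbit N a = Set.univ := by
    rw [Set.eq_univ_iff_forall]
    intro c
    by_cases hca : c = a
    · rw [hca]; exact MulAction.mem_orbit_self a
    by_cases hcb : c = (σ : Perm (Fin r)) a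
    · exact ⟨σ, hcb.symm⟩
    · let τ : Perm (Fin r) := swap ((σ : Perm (Fin r)) a) c
      have hτN : τ * σ * τ⁻¹ ∈ N := hN.conj_mem _ σ.2 τ
      refine ⟨⟨τ * σ * τ⁻¹, hτN⟩, ?_⟩
      show (τ * σ * τ⁻¹) a = c
      have h1 : τ⁻¹ a = a := by
        rw [Perm.inv_eq_iff_eq]
        exact (swap_apply_of_ne_of_ne (Ne.symm ha) (Ne.symm hca)).symm
      simp only [Perm.mul_apply, h1]
      exact swap_apply_left _ _
  have h1 := MulAction.index_stabilizer N a
  rw [horb, Set.ncard_univ] at h1
  have h2 := Subgroup.index_dvd_card (MulAction.stabilizer N a)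
  rw [h1] at h2
  simpa using h2

/-- Let r be a prime and m a natural number with m + 1 < r, and let π be a set of primes containing every prime below r but not r itself. Then in the symmetric group of degree r any m transpositions generate a π-subgroup, while O_π of the symmetric group is trivial. (So no bound on the number of conjugates that works for all π exists in the π-radical analogue of the Baer–Suzuki Theorem.) -/
theorem result (r m : ℕ) (hr : r.Prime)
    (hm : m + 1 < r) (π : Set ℕ) (hπ : ∀ q : ℕ, q.Prime → q < r → q ∈ π) (hrπ : r ∉ π)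
    (t : Fin m → Equiv.Perm (Fin r)) (ht : ∀ i, (t i).IsSwap) :
    Cfsg.IsPiSubgroup π (Subgroup.closure (Set.range t)) ∧ Cfsg.piCore π (Equiv.Perm (Fin r)) = ⊥ := by
  constructor
  · intro q hq hdvd
    have h1 : q ∣ Nat.card (Perm (Fin r)) := hdvd.trans (Subgroup.card_subgroup_dvd_card _)
    rw [Nat.card_eq_fintype_card, Fintype.card_perm, Fintype.card_fin] at h1
    have h2 : q ≤ r := (hq.dvd_factorial).1 h1
    rcases lt_or_eq_of_le h2 with h | h
    · exact hπ q hq h
    · exfalso
      subst h
      exact not_dvd_card_closure q m hr hm t ht hdvd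
  · unfold Cfsg.piCore
    rw [sSup_eq_bot]
    rintro N ⟨hN, hNπ⟩
    by_contra hne
    exact hrπ (hNπ r hr (dvd_card_of_normal r N hN hne))

end Cfsg.Agent.S4325
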