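import Cfsg.Statements.S4326
-- import your own Cfsg.Agent.* helpers here

set_option autoImplicit false
open Pointwise
open Cfsg

namespace Cfsg.Agent.S4326

/-- Let G be a finite group, p a prime, x an automorphism of G of p-power order and M the subgroup of fixed points of x. Suppose that p divides the index of M and that either M is self-normalizing or M has trivial center. Then some conjugate of M is mapped onto itself by x but is not fixed elementwise by x. -/
theorem result {G : Type*} [Group G] [Finite G]
    (p : ℕ) [Fact p.Prime] (x : MulAut G) (hx : ∃ k : ℕ, orderOf x = p ^ k) (M : Subgroup G)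
    (hM : ∀ g : G, g ∈ M ↔ x g = g) (hp : p ∣ M.index)
    (hself : Subgroup.normalizer (M : Set G) = M ∨ Subgroup.center M = ⊥) :
    ∃ g : G, (∀ y ∈ MulAut.conj g • M, x y ∈ MulAut.conj g • M) ∧ ∃ y ∈ MulAut.conj g • M, x y ≠ y := by
  -- the p-group X = ⟨x⟩
  have hX : IsPGroup p (Subgroup.zpowers x) := by
    obtain ⟨k, hk⟩ := hx
    apply IsPGroup.of_card (n := k)
    rw [Nat.card_zpowers, hk]
  -- every element of X fixes M pointwise
  have hfix : ∀ b : Subgroup.zpowers x, ∀ m ∈ M, (b : MulAut G) m = m := by
    rintro ⟨b, hb⟩ m hm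
    obtain ⟨j, rfl⟩ := Subgroup.mem_zpowers_iff.1 hb
    have hxm : x m = m := (hM m).1 hm
    have : ∀ n : ℕ, (x ^ n) m = m := by
      intro n
      induction n with
      | zero => simp
      | succ n ih => rw [pow_succ, MulAut.mul_apply, hxm, ih]
    show (x ^ j) m = m
    cases j with
    | ofNat n => simpa using this n
    | negSucc n =>
      rw [zpow_negSucc]
      have h1 := this (n + 1)
      rw [MulAut.inv_apply, MulEquiv.symm_apply_eq]
      exact h1.symm
  haveI : MulAction.QuotientAction (Subgroup.zpowers x) M := by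
    refine ⟨fun b a a' h => ?_⟩
    have h1 : (b • a)⁻¹ * b • a' = (b : MulAut G) (a⁻¹ * a') := by
      simp [Subgroup.smul_def, MulAut.smul_def]
    rw [h1, hfix b _ h]
    exact h
  have hcard : p ∣ Nat.card (G ⧸ M) := by
    rw [← Subgroup.index_eq_card]; exact hp
  have hone : ((1 : G) : G ⧸ M) ∈ MulAction.fixedPoints (Subgroup.zpowers x) (G ⧸ M) := by
    intro b
    rw [MulAction.Quotient.smul_mk]
    congr 1
    simp [Subgroup.smul_def, MulAut.smul_def]
  obtain ⟨b, hb, hne⟩ := hX.exists_fixed_point_of_prime_dvd_card_of_fixed_point (G ⧸ M) hcard hone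
  obtain ⟨g, rfl⟩ := QuotientGroup.mk_surjective b
  have hgM : g ∉ M := by
    intro hg
    apply hne
    rw [QuotientGroup.eq]
    simpa using hg
  have hm0 : g⁻¹ * x g ∈ M := by
    have := hb ⟨x, Subgroup.mem_zpowers x⟩
    rw [MulAction.Quotient.smul_mk] at this
    have h2 := QuotientGroup.eq.1 this.symm
    simpa [Subgroup.smul_def, MulAut.smul_def] using h2
  have hmem : ∀ y, y ∈ MulAut.conj g • M ↔ g⁻¹ * y * g ∈ M := by
    intro y
    rw [Subgroup.mem_pointwise_smul_iff_inv_smul_mem]
    simp [MulAut.smul_def, map_inv, MulAut.conj_apply]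
  refine ⟨g, ?_, ?_⟩
  · intro y hy
    rw [hmem] at hy ⊢
    have hfy : x (g⁻¹ * y * g) = g⁻¹ * y * g := (hM _).1 hy
    have : g⁻¹ * x y * g = (g⁻¹ * x g) * (g⁻¹ * y * g) * (g⁻¹ * x g)⁻¹ := by
      rw [← hfy]
      simp only [map_mul, map_inv, mul_inv_rev, inv_inv]
      group
    rw [this]
    exact M.mul_mem (M.mul_mem hm0 hy) (M.inv_mem hm0)
  · by_contra hcon
    push Not at hcon
    -- every element of g M g⁻¹ is fixed, so m0 centralizes M
    have hcent : ∀ m ∈ M, (g⁻¹ * x g) * m = m * (g⁻¹ * x g) := by
      intro m hm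
      have h1 : g * m * g⁻¹ ∈ MulAut.conj g • M := by
        rw [hmem]; simpa [mul_assoc] using hm
      have h2 := hcon _ h1
      have hxm : x m = m := (hM m).1 hm
      simp only [map_mul, map_inv, hxm] at h2
      -- x g * m * (x g)⁻¹ = g * m * g⁻¹
      calc g⁻¹ * x g * m = g⁻¹ * (x g * m * (x g)⁻¹) * x g := by group
        _ = g⁻¹ * (g * m * g⁻¹) * x g := by rw [h2]
        _ = m * (g⁻¹ * x g) := by group
    rcases hself with hN | hZ
    · -- g normalizes M
      have hle : MulAut.conj g • M ≤ M := by
        intro y hy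
        exact (hM y).2 (hcon y hy)
      have hcardeq : Nat.card (MulAut.conj g • M : Subgroup G) = Nat.card M :=
        (Nat.card_congr (Subgroup.equivSMul (MulAut.conj g) M).toEquiv).symm
      have heq : MulAut.conj g • M = M :=
        Subgroup.eq_of_le_of_card_ge hle (le_of_eq hcardeq.symm)
      have hgN : g ∈ Subgroup.normalizer (M : Set G) := by
        rw [Subgroup.mem_normalizer_iff]
        intro h
        have := hmem (g * h * g⁻¹)
        rw [heq] at this
        rw [this]
        constructor
        · intro hh; simpa [mul_assoc] using hh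
        · intro hh; simpa [mul_assoc] using hh
      rw [hN] at hgN
      exact hgM hgN
    · have hc : (⟨g⁻¹ * x g, hm0⟩ : M) ∈ Subgroup.center M := by
        rw [Subgroup.mem_center_iff]
        rintro ⟨m, hm⟩
        apply Subtype.ext
        exact (hcent m hm).symm
      rw [hZ, Subgroup.mem_bot] at hc
      have h1 : g⁻¹ * x g = 1 := congrArg Subtype.val hc
      have h2 : x g = g := by
        have := congrArg (fun t => g * t) h1
        simpa using this
      exact hgM ((hM g).2 h2)

end Cfsg.Agent.S4326
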