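import Cfsg.Statements.S4331
import Mathlib.GroupTheory.SemidirectProduct
import Mathlib.GroupTheory.Nilpotent
import Mathlib.GroupTheory.Solvable
import Mathlib.Data.ZMod.Basic

set_option autoImplicit false
open Cfsg

namespace Cfsg.Agent.S4331

/-- The additive group `F_3 ^ 2` (to be thought of as the field with nine elements). -/
abbrev V := ZMod 3 × ZMod 3

/-- The semidihedral group of order 16: the element `⟨j, e⟩` stands for `s ^ j * t ^ e`,
with `s ^ 8 = t ^ 2 = 1` and `t * s * t = s ^ 3`. -/
structure SD where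
  j : ZMod 8
  e : ZMod 2
deriving DecidableEq, Fintype

namespace SD

/-- multiplication of `s^j1 t^e1` and `s^j2 t^e2` -/
def mul' (a b : SD) : SD := ⟨a.j + (if a.e = 0 then 1 else 3) * b.j, a.e + b.e⟩

/-- inverse of `s^j t^e` -/
def inv' (a : SD) : SD := ⟨-((if a.e = 0 then 1 else 3) * a.j), a.e⟩

instance instMulSD : Mul SD := ⟨mul'⟩
instance instOneSD : One SD := ⟨⟨0, 0⟩⟩
instance instInvSD : Inv SD := ⟨inv'⟩

theorem mul_assoc' : ∀ a b c : SD, a * b * c = a * (b * c) := by decide +kernel
theorem one_mul' : ∀ a : SD, 1 * a = a := by decide +kernel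
theorem inv_mul' : ∀ a : SD, a⁻¹ * a = 1 := by decide +kernel

instance instGroupSD : Group SD := Group.ofLeftAxioms mul_assoc' one_mul' inv_mul'

/-- multiplication by `1 + i` on `F_9 = F_3[i]` -/
def S (v : V) : V := (v.1 - v.2, v.1 + v.2)

/-- the Frobenius map (conjugation) on `F_9 = F_3[i]` -/
def T (v : V) : V := (v.1, -v.2)

/-- the action of `s^j t^e` on `V` -/
def act (k : SD) (v : V) : V := S^[k.j.val] (T^[k.e.val] v)

theorem act_add : ∀ (k : SD) (v w : V), act k (v + w) = act k v + act k w := by decide +kernel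
theorem act_one : ∀ v : V, act 1 v = v := by decide +kernel
theorem act_mul : ∀ (k l : SD) (v : V), act (k * l) v = act k (act l v) := by decide +kernel
theorem pow16 : ∀ k : SD, k ^ 16 = 1 := by decide +kernel

/-- the involution `t` (the field automorphism) -/
def tt : SD := ⟨0, 1⟩

/-- `k - 1` is onto, or `k = 1`, or `k` is conjugate to `t`. -/
theorem F1 : ∀ k : SD, (∀ v : V, ∃ w : V, w + v - act k w = 0) ∨ k = 1 ∨ ∃ u : SD, u * k * u⁻¹ = tt := by
  decide +kernel

theorem F2 : ∀ v : V, ∃ u : SD, (act u v).2 = 0 := by decide +kernel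
theorem F3 : ∀ v : V, ∃ w : V, (w + v - act tt w).2 = 0 := by decide +kernel
theorem F4 : ∀ x : V, x.2 = 0 → act tt x = x := by decide +kernel
theorem tt_sq : tt * tt = 1 := by decide +kernel
theorem tt_ne : tt ≠ 1 := by decide +kernel
theorem tt_inv : tt⁻¹ = tt := by decide +kernel

end SD

open SD

/-- the automorphism of `Multiplicative V` given by `k` -/
def actAut (k : SD) : MulAut (Multiplicative V) where
  toFun v := Multiplicative.ofAdd (act k v.toAdd)
  invFun v := Multiplicative.ofAdd (act k⁻¹ v.toAdd)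
  left_inv v := by
    show Multiplicative.ofAdd (act k⁻¹ (act k v.toAdd)) = v
    rw [← act_mul, inv_mul_cancel, act_one]; rfl
  right_inv v := by
    show Multiplicative.ofAdd (act k (act k⁻¹ v.toAdd)) = v
    rw [← act_mul, mul_inv_cancel, act_one]; rfl
  map_mul' v w := by
    show Multiplicative.ofAdd (act k (v.toAdd + w.toAdd)) = _
    rw [act_add]; rfl

/-- the action of `SD` on `Multiplicative V` -/
def φ : SD →* MulAut (Multiplicative V) where
  toFun := actAut
  map_one' := by
    apply MulEquiv.ext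
    intro v
    show Multiplicative.ofAdd (act 1 v.toAdd) = v
    rw [act_one]; rfl
  map_mul' k l := by
    apply MulEquiv.ext
    intro v
    show Multiplicative.ofAdd (act (k * l) v.toAdd) = Multiplicative.ofAdd (act k (act l v.toAdd))
    rw [act_mul]

/-- the group `AΓL(1, 9)` of order 144 -/
abbrev G := Multiplicative V ⋊[φ] SD

instance instFiniteG : Finite G := Finite.of_equiv _ SemidirectProduct.equivProd.symm

/-- the element `(v, k)` -/
def mk (v : V) (k : SD) : G := ⟨Multiplicative.ofAdd v, k⟩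

theorem mk_mul (v w : V) (k l : SD) : mk v k * mk w l = mk (v + act k w) (k * l) := rfl

theorem exists_mk (c : G) : ∃ v k, c = mk v k := ⟨c.left.toAdd, c.right, rfl⟩

theorem mk_one : mk 0 1 = (1 : G) := rfl

theorem mk_inv (v : V) (k : SD) : (mk v k)⁻¹ = mk (-(act k⁻¹ v)) k⁻¹ := by
  apply inv_eq_of_mul_eq_one_right
  rw [mk_mul, ← mk_one, mul_inv_cancel]
  congr 1
  have h := act_add k (act k⁻¹ v) (-(act k⁻¹ v))
  rw [add_neg_cancel] at h
  have h0 : act k 0 = 0 := by
    have := act_add k 0 0
    rw [add_zero] at this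
    exact left_eq_add.1 this
  rw [h0, ← act_mul, mul_inv_cancel, act_one] at h
  exact h.symm

/-- conjugation by a translation -/
theorem conj_transl (w v : V) (k : SD) : mk w 1 * mk v k * (mk w 1)⁻¹ = mk (w + v - act k w) k := by
  rw [mk_inv, mk_mul, mk_mul, act_one, inv_one, act_one, one_mul, mul_one]
  congr 1
  have h := act_add k w (-w)
  rw [add_neg_cancel] at h
  have h0 : act k 0 = 0 := by
    have := act_add k 0 0
    rw [add_zero] at this
    exact left_eq_add.1 this
  rw [h0] at h
  have : act k (-w) = - act k w := by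
    rw [eq_neg_iff_add_eq_zero, add_comm]; exact h.symm
  rw [this]; abel

/-- conjugation by an element of the complement -/
theorem conj_compl (u : SD) (v : V) (k : SD) :
    mk 0 u * mk v k * (mk 0 u)⁻¹ = mk (act u v) (u * k * u⁻¹) := by
  have h0 : ∀ l : SD, act l 0 = 0 := by
    intro l
    have := act_add l 0 0
    rw [add_zero] at this
    exact left_eq_add.1 this
  rw [mk_inv, mk_mul, mk_mul, h0, neg_zero, h0, zero_add, add_zero]

/-- the involution generating `A` -/
def a : G := mk 0 tt

theorem comm_a (x : V) (hx : x.2 = 0) (k : SD) (hk : k * tt = tt * k) : mk x k * a = a * mk x k := by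
  have h0 : ∀ l : SD, act l 0 = 0 := by
    intro l
    have := act_add l 0 0
    rw [add_zero] at this
    exact left_eq_add.1 this
  rw [a, mk_mul, mk_mul, h0, F4 x hx, add_zero, zero_add, hk]

/-- every conjugacy class contains an element of the complement or an element commuting with `a` -/
theorem exists_rep (c : G) : ∃ g : G, IsConj c g ∧ (g.left = 1 ∨ g * a = a * g) := by
  obtain ⟨v, k, rfl⟩ := exists_mk c
  rcases F1 k with h | rfl | ⟨u, hu⟩
  · obtain ⟨w, hw⟩ := h v
    refine ⟨mk 0 k, isConj_iff.2 ⟨mk w 1, ?_⟩, Or.inl rfl⟩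
    rw [conj_transl, hw]
  · obtain ⟨u, hu⟩ := F2 v
    refine ⟨mk (act u v) 1, isConj_iff.2 ⟨mk 0 u, ?_⟩, Or.inr ?_⟩
    · rw [conj_compl, mul_one, mul_inv_cancel]
    · exact comm_a _ hu 1 (by rw [one_mul, mul_one])
  · obtain ⟨w, hw⟩ := F3 (act u v)
    refine ⟨mk (w + act u v - act tt w) tt, isConj_iff.2 ⟨mk w 1 * mk 0 u, ?_⟩, Or.inr ?_⟩
    · have e : mk w 1 * mk 0 u * mk v k * (mk w 1 * mk 0 u)⁻¹ =
          mk w 1 * (mk 0 u * mk v k * (mk 0 u)⁻¹) * (mk w 1)⁻¹ := by group
      rw [e, conj_compl, hu, conj_transl]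
    · exact comm_a _ hw tt rfl

/-- In a finite `p`-group every subgroup is subnormal. -/
theorem isSubnormal_of_isPGroup {P : Type*} [Group P] [Finite P] {p : ℕ} [Fact p.Prime]
    (hP : IsPGroup p P) (H : Subgroup P) : H.IsSubnormal := by
  haveI : Group.IsNilpotent P := hP.isNilpotent
  have hnc : NormalizerCondition P := normalizerCondition_of_isNilpotent
  induction H using WellFoundedGT.induction with
  | ind H ih =>
    by_cases htop : H = ⊤
    · rw [htop]; exact Subgroup.IsSubnormal.top
    · have hlt : H < Subgroup.normalizer (H : Set P) := hnc H (lt_top_iff_ne_top.2 htop)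
      exact Subgroup.IsSubnormal.step H _ hlt.le (ih _ hlt) Subgroup.normal_in_normalizer

theorem subnormal_of_commute (g : G) (h : g * a = a * g) :
    ((Subgroup.zpowers a).subgroupOf (Subgroup.zpowers a ⊔ Subgroup.zpowers g)).IsSubnormal := by
  apply Subgroup.Normal.isSubnormal
  rw [Subgroup.normal_subgroupOf_iff_le_normalizer le_sup_left]
  apply sup_le Subgroup.le_normalizer
  refine le_trans ?_ (Subgroup.centralizer_le_normalizer _)
  rw [Subgroup.zpowers_le, Subgroup.mem_centralizer_iff]
  intro b hb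
  obtain ⟨j, rfl⟩ := Subgroup.mem_zpowers_iff.1 hb
  have hc : Commute g a := h
  exact (hc.zpow_right j).eq.symm

theorem subnormal_of_left (g : G) (h : g.left = 1) :
    ((Subgroup.zpowers a).subgroupOf (Subgroup.zpowers a ⊔ Subgroup.zpowers g)).IsSubnormal := by
  haveI : Fact (Nat.Prime 2) := ⟨Nat.prime_two⟩
  apply isSubnormal_of_isPGroup (p := 2)
  -- every element of the join lies in the complement, so has order dividing 16
  have hle : Subgroup.zpowers a ⊔ Subgroup.zpowers g ≤
      (SemidirectProduct.inr : SD →* G).range := by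
    apply sup_le
    · rw [Subgroup.zpowers_le]; exact ⟨tt, rfl⟩
    · rw [Subgroup.zpowers_le]
      refine ⟨g.right, ?_⟩
      apply SemidirectProduct.ext
      · rw [SemidirectProduct.left_inr, h]
      · rw [SemidirectProduct.right_inr]
  rintro ⟨x, hx⟩
  obtain ⟨k, rfl⟩ := hle hx
  refine ⟨4, ?_⟩
  apply Subtype.ext
  show (SemidirectProduct.inr k : G) ^ 2 ^ 4 = 1
  rw [← map_pow]
  have : k ^ 2 ^ 4 = 1 := pow16 k
  rw [this, map_one]

theorem a_sq : a * a = 1 := by
  rw [a, mk_mul, tt_sq]
  have h0 : act tt 0 = 0 := by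
    have := act_add tt 0 0
    rw [add_zero] at this
    exact left_eq_add.1 this
  rw [h0, add_zero]; rfl

theorem a_ne : a ≠ 1 := by
  intro h
  have := congrArg SemidirectProduct.right h
  exact tt_ne this

theorem card_A : Nat.card (Subgroup.zpowers a) = 2 := by
  rw [Nat.card_zpowers]
  exact orderOf_eq_prime (by rw [pow_two]; exact a_sq) a_ne

theorem solvable_G : Group.IsSolvable G := by
  haveI : Fact (Nat.Prime 2) := ⟨Nat.prime_two⟩
  have hp : IsPGroup 2 SD := fun k => ⟨4, pow16 k⟩
  haveI : Group.IsNilpotent SD := hp.isNilpotent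
  exact Group.isSolvable_of_ker_le_range (SemidirectProduct.inl : Multiplicative V →* G)
    (SemidirectProduct.rightHom : G →* SD)
    (le_of_eq SemidirectProduct.range_inl_eq_ker_rightHom.symm)

theorem not_le_pCore : ¬ Subgroup.zpowers a ≤ Cfsg.pCore 2 G := by
  intro hle
  haveI : Fact (Nat.Prime 2) := ⟨Nat.prime_two⟩
  have hT : IsPGroup 2 (Cfsg.pCore 2 G) :=
    Sylow.sSup_of_normal _ (fun _ h => h.2) (fun _ h => h.1)
  have hTn : (Cfsg.pCore 2 G).Normal := Subgroup.sSup_normal _ (fun _ h => h.1)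
  have haT : a ∈ Cfsg.pCore 2 G := hle (Subgroup.mem_zpowers a)
  -- the commutator of a translation with `a`
  let n : G := mk (0, 1) 1
  have hx : n * a * n⁻¹ * a⁻¹ ∈ Cfsg.pCore 2 G :=
    Subgroup.mul_mem _ (hTn.conj_mem a haT n) (Subgroup.inv_mem _ haT)
  have hainv : a⁻¹ = a := inv_eq_of_mul_eq_one_right a_sq
  have hval : n * a * n⁻¹ * a⁻¹ = mk (0, 2) 1 := by
    rw [hainv]
    show mk (0, 1) 1 * mk 0 tt * (mk (0, 1) 1)⁻¹ * mk 0 tt = mk (0, 2) 1
    rw [conj_transl, mk_mul, tt_sq]
    congr 1
  rw [hval] at hx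
  obtain ⟨k, hk⟩ := hT ⟨mk (0, 2) 1, hx⟩
  have hk' : (mk (0, 2) 1 : G) ^ 2 ^ k = 1 := by
    have := congrArg Subtype.val hk
    simpa using this
  have h3 : (mk (0, 2) 1 : G) ^ 3 = 1 := by
    rw [pow_succ, pow_succ, pow_one, mk_mul, mk_mul, one_mul, one_mul, act_one, ← mk_one]
    congr 1
  have hord1 : orderOf (mk (0, 2) 1 : G) ∣ 2 ^ k := orderOf_dvd_of_pow_eq_one hk'
  have hord2 : orderOf (mk (0, 2) 1 : G) ∣ 3 := orderOf_dvd_of_pow_eq_one h3
  have hcop : Nat.Coprime (2 ^ k) 3 := Nat.Coprime.pow_left k (by norm_num)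
  have h1 : orderOf (mk (0, 2) 1 : G) = 1 := Nat.eq_one_of_dvd_coprimes hcop hord1 hord2
  rw [orderOf_eq_one_iff] at h1
  have := congrArg (fun z : G => z.left.toAdd) h1
  revert this
  decide

/-- There is a finite solvable group G with a subgroup A of order 2 such that every conjugacy class of G contains an element g for which A is subnormal in the subgroup generated by A and g, and yet A is not contained in O_2(G). (So the corresponding criteria for odd primes fail at the prime 2, even for solvable groups.) -/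
theorem result :
    ∃ (G : Type) (_ : Group G) (_ : Finite G) (A : Subgroup G), Group.IsSolvable G ∧ Nat.card A = 2 ∧
      (∀ c : G, ∃ g : G, IsConj c g ∧ (A.subgroupOf (A ⊔ Subgroup.zpowers g)).IsSubnormal) ∧
      ¬ A ≤ Cfsg.pCore 2 G := by
  refine ⟨G, inferInstance, instFiniteG, Subgroup.zpowers a, solvable_G, card_A, ?_, not_le_pCore⟩
  intro c
  obtain ⟨g, hconj, h | h⟩ := exists_rep c
  · exact ⟨g, hconj, subnormal_of_left g h⟩
  · exact ⟨g, hconj, subnormal_of_commute g h⟩

end Cfsg.Agent.S4331
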