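import Cfsg.Statements.S4332
import Cfsg.Agent.S4325
import Mathlib.GroupTheory.Perm.Cycle.Concrete

set_option autoImplicit false
open Pointwise
open Cfsg

namespace Cfsg.Agent.S4332

open Equiv

/-- All multisets of naturals `≥ 2` with sum `≤ n` (with repetitions), using fuel `f`. -/
def enum : ℕ → ℕ → List (Multiset ℕ)
  | 0, _ => [0]
  | (f + 1), n => 0 :: ((List.range (n + 1)).filter (fun a => 2 ≤ a)).flatMap
      (fun a => (enum f (n - a)).map (fun t => a ::ₘ t))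

theorem mem_enum : ∀ (f n : ℕ) (m : Multiset ℕ), n ≤ f → (∀ x ∈ m, 2 ≤ x) → m.sum ≤ n →
    m ∈ enum f n := by
  intro f
  induction f with
  | zero =>
    intro n m hn h2 hs
    have hm : m = 0 := by
      rcases Multiset.empty_or_exists_mem m with h | ⟨a, ha⟩
      · exact h
      · exfalso
        have h1 := h2 a ha
        have h3 := Multiset.le_sum_of_mem ha
        omega
    rw [hm]; simp [enum]
  | succ f ih =>
    intro n m hn h2 hs
    rcases Multiset.empty_or_exists_mem m with h | ⟨a, ha⟩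
    · rw [h]; simp [enum]
    · obtain ⟨t, rfl⟩ := Multiset.exists_cons_of_mem ha
      have ha2 : 2 ≤ a := h2 a ha
      rw [Multiset.sum_cons] at hs
      have ht : t ∈ enum f (n - a) := by
        apply ih
        · omega
        · intro x hx; exact h2 x (Multiset.mem_cons_of_mem hx)
        · omega
      simp only [enum, List.mem_cons, List.mem_flatMap, List.mem_filter, List.mem_range,
        List.mem_map, decide_eq_true_eq]
      right
      exact ⟨a, ⟨by omega, ha2⟩, t, ht, rfl⟩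

/-- the standard 3-cycle -/
def σ0 : Perm (Fin 8) := c[(0 : Fin 8), 1, 2]

/-- one permutation of each cycle type, mapping `{0,1,2}` to itself or off itself -/
def witnesses : List (Perm (Fin 8)) :=
  [1,
   c[(3 : Fin 8), 4],
   c[(3 : Fin 8), 4] * c[(5 : Fin 8), 6],
   c[(3 : Fin 8), 4] * c[(5 : Fin 8), 6] * c[(0 : Fin 8), 1],
   c[(0 : Fin 8), 3] * c[(1 : Fin 8), 4] * c[(2 : Fin 8), 5] * c[(6 : Fin 8), 7],
   c[(0 : Fin 8), 1, 2],
   c[(0 : Fin 8), 1, 2] * c[(3 : Fin 8), 4],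
   c[(0 : Fin 8), 1, 2] * c[(3 : Fin 8), 4] * c[(5 : Fin 8), 6],
   c[(0 : Fin 8), 1, 2] * c[(3 : Fin 8), 4, 5],
   c[(0 : Fin 8), 1, 2] * c[(3 : Fin 8), 4, 5] * c[(6 : Fin 8), 7],
   c[(3 : Fin 8), 4, 5, 6],
   c[(3 : Fin 8), 4, 5, 6] * c[(0 : Fin 8), 1],
   c[(0 : Fin 8), 3, 1, 4] * c[(2 : Fin 8), 5] * c[(6 : Fin 8), 7],
   c[(3 : Fin 8), 4, 5, 6] * c[(0 : Fin 8), 1, 2],
   c[(0 : Fin 8), 3, 1, 4] * c[(2 : Fin 8), 5, 6, 7],
   c[(3 : Fin 8), 4, 5, 6, 7],
   c[(3 : Fin 8), 4, 5, 6, 7] * c[(0 : Fin 8), 1],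
   c[(3 : Fin 8), 4, 5, 6, 7] * c[(0 : Fin 8), 1, 2],
   c[(0 : Fin 8), 3, 1, 4, 2, 5],
   c[(0 : Fin 8), 3, 1, 4, 2, 5] * c[(6 : Fin 8), 7],
   c[(0 : Fin 8), 3, 1, 4, 2, 5, 6],
   c[(0 : Fin 8), 3, 1, 4, 2, 5, 6, 7]]

/-- the cycle types of the witnesses -/
def types : List (Multiset ℕ) :=
  [0, {2}, {2, 2}, {2, 2, 2}, {2, 2, 2, 2}, {3}, {3, 2}, {3, 2, 2}, {3, 3}, {3, 3, 2},
   {4}, {4, 2}, {4, 2, 2}, {4, 3}, {4, 4}, {5}, {5, 2}, {5, 3}, {6}, {6, 2}, {7}, {8}]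

set_option maxRecDepth 100000 in
theorem types_eq : witnesses.map Perm.cycleType = types := by decide +kernel

set_option maxRecDepth 100000 in
theorem comm_all_aux : (witnesses.all fun g =>
    decide ((g * σ0 * g⁻¹) * σ0 = σ0 * (g * σ0 * g⁻¹))) = true := by
  decide +kernel

theorem comm_all : ∀ g ∈ witnesses, (g * σ0 * g⁻¹) * σ0 = σ0 * (g * σ0 * g⁻¹) := by
  intro g hg
  have h := List.all_eq_true.1 comm_all_aux g hg
  exact of_decide_eq_true h

set_option maxRecDepth 100000 in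
theorem enum_sub : ∀ m ∈ enum 9 8, m ∈ types := by decide +kernel

set_option maxRecDepth 100000 in
theorem σ0_cycleType : σ0.cycleType = {3} := by decide +kernel

theorem exists_witness (c : Perm (Fin 8)) :
    ∃ g ∈ witnesses, g.cycleType = c.cycleType := by
  have h1 : c.cycleType ∈ enum 9 8 := by
    apply mem_enum 9 8 _ (by norm_num)
    · intro x hx; exact Perm.two_le_of_mem_cycleType hx
    · rw [Perm.sum_cycleType]
      exact (Finset.card_le_univ _).trans (by simp)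
  have h2 := enum_sub _ h1
  rw [← types_eq, List.mem_map] at h2
  exact h2

/-- If `τ` commutes with `σ` then `⟨σ⟩` is normal (hence subnormal) in `⟨σ⟩ ⊔ g ⟨σ⟩ g⁻¹`
when `τ = g σ g⁻¹`. -/
theorem subnormal_of_commute {G : Type*} [Group G] (σ g : G)
    (h : (g * σ * g⁻¹) * σ = σ * (g * σ * g⁻¹)) :
    ((Subgroup.zpowers σ).subgroupOf
      (Subgroup.zpowers σ ⊔ MulAut.conj g • Subgroup.zpowers σ)).IsSubnormal := by
  apply Subgroup.Normal.isSubnormal
  rw [Subgroup.normal_subgroupOf_iff_le_normalizer le_sup_left]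
  apply sup_le Subgroup.le_normalizer
  refine le_trans ?_ (Subgroup.centralizer_le_normalizer _)
  intro b hb
  rw [Subgroup.mem_pointwise_smul_iff_inv_smul_mem] at hb
  obtain ⟨k, hk⟩ := Subgroup.mem_zpowers_iff.1 hb
  have hb' : b = (g * σ * g⁻¹) ^ k := by
    have h1 : b = g * (σ ^ k) * g⁻¹ := by
      rw [hk]
      simp [MulAut.smul_def, MulAut.conj_apply, mul_assoc]
    rw [h1, conj_zpow]
  rw [Subgroup.mem_centralizer_iff]
  intro a ha
  obtain ⟨j, rfl⟩ := Subgroup.mem_zpowers_iff.1 ha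
  rw [hb']
  have hc : Commute (g * σ * g⁻¹) σ := h
  exact ((hc.zpow_left k).zpow_right j).eq.symm

/-- In the symmetric group of degree 8, let A be the subgroup generated by a 3-cycle. Then every conjugacy class contains an element g for which A is subnormal in the subgroup generated by A and its conjugate by g, although O_3 of the symmetric group of degree 8 is trivial. -/
theorem result
    (σ : Equiv.Perm (Fin 8)) (hσ : σ.IsThreeCycle) :
    (∀ c : Equiv.Perm (Fin 8), ∃ g : Equiv.Perm (Fin 8), IsConj c g ∧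
      ((Subgroup.zpowers σ).subgroupOf (Subgroup.zpowers σ ⊔ MulAut.conj g • Subgroup.zpowers σ)).IsSubnormal) ∧
    Cfsg.pCore 3 (Equiv.Perm (Fin 8)) = ⊥ := by
  constructor
  · intro c
    -- σ is conjugate to σ0
    have hconj : IsConj σ0 σ := by
      rw [Perm.isConj_iff_cycleType_eq, σ0_cycleType]
      exact hσ.symm
    obtain ⟨τ, hτ⟩ := isConj_iff.1 hconj
    obtain ⟨g0, hg0, hct⟩ := exists_witness c
    refine ⟨τ * g0 * τ⁻¹, ?_, ?_⟩
    · rw [Perm.isConj_iff_cycleType_eq, Perm.cycleType_conj, hct]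
    · apply subnormal_of_commute
      have h := comm_all g0 hg0
      rw [← hτ]
      have e1 : τ * g0 * τ⁻¹ * (τ * σ0 * τ⁻¹) * (τ * g0 * τ⁻¹)⁻¹ = τ * (g0 * σ0 * g0⁻¹) * τ⁻¹ := by
        group
      rw [e1]
      calc τ * (g0 * σ0 * g0⁻¹) * τ⁻¹ * (τ * σ0 * τ⁻¹) = τ * ((g0 * σ0 * g0⁻¹) * σ0) * τ⁻¹ := by group
        _ = τ * (σ0 * (g0 * σ0 * g0⁻¹)) * τ⁻¹ := by rw [h]
        _ = τ * σ0 * τ⁻¹ * (τ * (g0 * σ0 * g0⁻¹) * τ⁻¹) := by group
  · unfold Cfsg.pCore
    rw [sSup_eq_bot]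
    rintro N ⟨hN, hNp⟩
    by_contra hne
    have h8 : 8 ∣ Nat.card N := Cfsg.Agent.S4325.dvd_card_of_normal 8 N hN hne
    haveI : Fact (Nat.Prime 3) := ⟨by norm_num⟩
    obtain ⟨k, hk⟩ := (IsPGroup.iff_card.1 hNp)
    rw [hk] at h8
    have h2 : 2 ∣ 3 ^ k := dvd_trans (by norm_num) h8
    have h3 : 2 ∣ 3 := Nat.Prime.dvd_of_dvd_pow Nat.prime_two h2
    omega

end Cfsg.Agent.S4332
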