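-- Statement S4334 (Cfsg.fg11_hall_sylow_theorem_from_nilpotent_direct_factor)
import Cfsg.Statements.S4334
import Cfsg.Agent.Helper78.Frobenius

set_option autoImplicit false
open Cfsg

namespace Cfsg.Agent.S4334

open Subgroup
open scoped Pointwise

variable {G : Type*} [Group G]

theorem mem_map_conj {S : Subgroup G} {g y : G} :
    y ∈ S.map (MulAut.conj g).toMonoidHom ↔ g⁻¹ * y * g ∈ S := by
  constructor
  · rintro ⟨s, hs, rfl⟩
    have : g⁻¹ * ((MulAut.conj g).toMonoidHom s) * g = s := by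
      show g⁻¹ * (g * s * g⁻¹) * g = s
      group
    rw [this]; exact hs
  · intro h
    refine ⟨g⁻¹ * y * g, h, ?_⟩
    show g * (g⁻¹ * y * g) * g⁻¹ = y
    group

theorem relIndex_sup_dvd_card [Finite G] {A B : Subgroup G}
    (hcomm : ∀ a ∈ A, ∀ b ∈ B, a * b = b * a) :
    A.relIndex (A ⊔ B) ∣ Nat.card B := by
  have hA : A ≤ normalizer (A : Set G) := le_normalizer
  have hB : B ≤ normalizer (A : Set G) := by
    refine le_trans ?_ (centralizer_le_normalizer _)
    intro b hb
    rw [mem_centralizer_iff]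
    intro a ha
    exact hcomm a ha b hb
  have : (A.subgroupOf (normalizer (A : Set G))).Normal := normal_in_normalizer
  have h1 := relIndex_sup_left (K := A.subgroupOf (normalizer (A : Set G)))
    (H := B.subgroupOf (normalizer (A : Set G)))
  have h2 := Subgroup.subgroupOf_sup hA hB
  rw [← h2, relIndex_subgroupOf (sup_le hA hB), relIndex_subgroupOf hB] at h1
  rw [h1]
  exact Subgroup.relIndex_dvd_card _ _

theorem not_dvd_index_of_sup [Finite G] {A B : Subgroup G}
    (hcomm : ∀ a ∈ A, ∀ b ∈ B, a * b = b * a) {q : ℕ} (hq : q.Prime)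
    (h1 : ¬ q ∣ (A ⊔ B).index) (h2 : ¬ q ∣ Nat.card B) : ¬ q ∣ A.index := by
  rw [← relIndex_mul_index (le_sup_left : A ≤ A ⊔ B)]
  intro h
  rcases hq.dvd_mul.1 h with h | h
  · exact h2 (h.trans (relIndex_sup_dvd_card hcomm))
  · exact h1 h

theorem mem_of_coprime_orderOf_index {N : Type*} [Group N] [Finite N] (K : Subgroup N) [K.Normal]
    {y : N} (hy : (orderOf y).Coprime K.index) : y ∈ K := by
  rw [← QuotientGroup.eq_one_iff]
  have h1 : orderOf (y : N ⧸ K) ∣ orderOf y :=
    orderOf_dvd_of_pow_eq_one (by rw [← QuotientGroup.mk_pow, pow_orderOf_eq_one]; rfl)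
  have h2 : orderOf (y : N ⧸ K) ∣ K.index := by
    rw [Subgroup.index_eq_card]; exact orderOf_dvd_natCard _
  have : orderOf (y : N ⧸ K) = 1 := Nat.eq_one_of_dvd_coprimes hy h1 h2
  exact orderOf_eq_one_iff.mp this

/-- An element normalizing `U` whose order is coprime to the index of the centralizer of `U`
centralizes `U`. -/
theorem mem_centralizer_of_coprime [Finite G] (U : Subgroup G) {x : G}
    (hx : x ∈ normalizer (U : Set G))
    (hc : (orderOf x).Coprime (centralizer (U : Set G)).index) :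
    x ∈ centralizer (U : Set G) := by
  have hker := normalizerMonoidHom_ker (H := U)
  have hidx : (U.normalizerMonoidHom.ker).index ∣ (centralizer (U : Set G)).index := by
    rw [hker]
    change (centralizer (U : Set G)).relIndex _ ∣ _
    exact relIndex_dvd_index_of_le (centralizer_le_normalizer _)
  have hmem : (⟨x, hx⟩ : normalizer (U : Set G)) ∈ U.normalizerMonoidHom.ker := by
    apply mem_of_coprime_orderOf_index
    have : orderOf (⟨x, hx⟩ : normalizer (U : Set G)) = orderOf x := by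
      rw [← Subgroup.orderOf_coe]
    rw [this]
    exact Nat.Coprime.coprime_dvd_right hidx hc
  rw [hker] at hmem
  exact hmem

/-- The key structural lemma on the Sylow subgroups of the nilpotent factor. -/
theorem exists_sylow_good [Finite G] (σ τ π : Set ℕ) (hπ : π = σ ∪ τ)
    (Hs Ht : Subgroup G)
    (hσ : ∀ q : ℕ, q.Prime → q ∈ σ → ¬ q ∣ Hs.index)
    (hτ : ∀ q : ℕ, q.Prime → q ∈ τ → ¬ q ∣ Ht.index)
    (hsn : Group.IsNilpotent Hs)
    (hcomm : ∀ a ∈ Hs, ∀ b ∈ Ht, a * b = b * a)
    (r : ℕ) [Fact r.Prime] (hr : r ∈ σ) :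
    ∃ R : Sylow r G, (R : Subgroup G) ≤ Hs ∧ Hs ⊔ Ht ≤ normalizer ((R : Subgroup G) : Set G) ∧
      ∀ q : ℕ, q.Prime → q ∈ π → q ≠ r → ¬ q ∣ (centralizer ((R : Subgroup G) : Set G)).index := by
  classical
  let R0 : Sylow r Hs := default
  have hRGp : IsPGroup r ((R0 : Subgroup Hs).map Hs.subtype) := R0.2.map _
  have hRGi : ¬ r ∣ ((R0 : Subgroup Hs).map Hs.subtype).index := by
    rw [index_map_subtype]
    intro h
    rcases (Fact.out : r.Prime).dvd_mul.1 h with h | h
    · exact R0.not_dvd_index h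
    · exact hσ r Fact.out hr h
  refine ⟨hRGp.toSylow hRGi, ?_, ?_, ?_⟩
  · rw [IsPGroup.toSylow_coe]
    exact map_subtype_le _
  · rw [IsPGroup.toSylow_coe]
    refine sup_le ?_ ?_
    · have h1 := le_normalizer_map (H := (R0 : Subgroup Hs)) Hs.subtype
      rw [normalizer_eq_top] at h1
      rw [← MonoidHom.range_eq_map, range_subtype] at h1
      exact h1
    · refine le_trans ?_ (centralizer_le_normalizer _)
      intro b hb
      rw [mem_centralizer_iff]
      rintro _ ⟨a, _, rfl⟩
      exact hcomm a a.2 b hb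
  · intro q hq hqπ hqr
    rw [IsPGroup.toSylow_coe]
    rw [hπ] at hqπ
    rcases hqπ with hqσ | hqτ
    · have : Fact q.Prime := ⟨hq⟩
      let S0 : Sylow q Hs := default
      have hSi : ¬ q ∣ ((S0 : Subgroup Hs).map Hs.subtype).index := by
        rw [index_map_subtype]
        intro h
        rcases hq.dvd_mul.1 h with h | h
        · exact S0.not_dvd_index h
        · exact hσ q hq hqσ h
      have hle : (S0 : Subgroup Hs).map Hs.subtype ≤
          centralizer (((R0 : Subgroup Hs).map Hs.subtype : Subgroup G) : Set G) := by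
        rintro _ ⟨x, hx, rfl⟩
        rw [mem_centralizer_iff]
        rintro _ ⟨y, hy, rfl⟩
        have hdis : Disjoint (R0 : Subgroup Hs) (S0 : Subgroup Hs) :=
          IsPGroup.disjoint_of_ne r q (Ne.symm hqr) _ _ R0.isPGroup' S0.isPGroup'
        have hc := commute_of_normal_of_disjoint (R0 : Subgroup Hs) (S0 : Subgroup Hs)
          inferInstance inferInstance hdis y x hy hx
        have := congrArg Hs.subtype hc.eq
        simpa using this
      exact fun h => hSi (h.trans (index_dvd_of_le hle))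
    · have hle : Ht ≤ centralizer (((R0 : Subgroup Hs).map Hs.subtype : Subgroup G) : Set G) := by
        intro b hb
        rw [mem_centralizer_iff]
        rintro _ ⟨a, _, rfl⟩
        exact hcomm a a.2 b hb
      exact fun h => hτ q hq hqτ (h.trans (index_dvd_of_le hle))


/-- For every `r`-subgroup `U` (`r ∈ σ`), no prime of `π` other than `r` divides the index of
the centralizer of `U`. -/
theorem not_dvd_index_centralizer [Finite G] (π : Set ℕ) (r : ℕ) [Fact r.Prime] (R : Sylow r G)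
    (hR : ∀ q : ℕ, q.Prime → q ∈ π → q ≠ r →
      ¬ q ∣ (centralizer ((R : Subgroup G) : Set G)).index)
    (U : Subgroup G) (hU : IsPGroup r U) (q : ℕ) (hq : q.Prime) (hqπ : q ∈ π) (hqr : q ≠ r) :
    ¬ q ∣ (centralizer (U : Set G)).index := by
  obtain ⟨P', hUP'⟩ := hU.exists_le_sylow
  obtain ⟨g, hg⟩ := MulAction.exists_smul_eq G R P'
  have hle : (centralizer ((R : Subgroup G) : Set G)).map (MulAut.conj g).toMonoidHom ≤
      centralizer (U : Set G) := by
    intro x hx
    rw [mem_map_conj] at hx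
    rw [mem_centralizer_iff]
    intro u hu
    have hu' : u ∈ ((g • R : Sylow r G) : Subgroup G) := hg ▸ hUP' hu
    rw [Cfsg.Agent.Helper78.mem_smul_sylow'] at hu'
    rw [mem_centralizer_iff] at hx
    have h := hx _ hu'
    -- (g⁻¹ u g) (g⁻¹ x g) = (g⁻¹ x g) (g⁻¹ u g)
    have h2 : g * (g⁻¹ * u * g * (g⁻¹ * x * g)) * g⁻¹ = g * (g⁻¹ * x * g * (g⁻¹ * u * g)) * g⁻¹ := by
      rw [h]
    have e1 : g * (g⁻¹ * u * g * (g⁻¹ * x * g)) * g⁻¹ = u * x := by group
    have e2 : g * (g⁻¹ * x * g * (g⁻¹ * u * g)) * g⁻¹ = x * u := by group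
    rw [e1, e2] at h2
    exact h2
  intro h
  have h3 := h.trans (index_dvd_of_le hle)
  have h4 : ((centralizer ((R : Subgroup G) : Set G)).map (MulAut.conj g).toMonoidHom).index =
      (centralizer ((R : Subgroup G) : Set G)).index := index_map_equiv _ (MulAut.conj g)
  rw [h4] at h3
  exact hR q hq hqπ hqr h3

theorem frobHyp_of_piSubgroup [Finite G] (π : Set ℕ) (r : ℕ) [Fact r.Prime]
    (hcent : ∀ U : Subgroup G, IsPGroup r U → ∀ q : ℕ, q.Prime → q ∈ π → q ≠ r →
      ¬ q ∣ (centralizer (U : Set G)).index)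
    (K : Subgroup G) (hK : Cfsg.IsPiSubgroup π K) : Cfsg.Agent.Helper78.FrobHyp r K := by
  intro Q hQ g hg hcop
  have hU : IsPGroup r (Q.map K.subtype) := hQ.map _
  have hnorm : (g : G) ∈ normalizer ((Q.map K.subtype : Subgroup G) : Set G) := by
    rw [mem_normalizer_iff] at hg ⊢
    intro y
    constructor
    · rintro ⟨z, hz, rfl⟩
      exact ⟨g * z * g⁻¹, (hg z).mp hz, by simp⟩
    · rintro ⟨z, hz, hzy⟩
      have : y = ((g⁻¹ * z * g : K) : G) := by
        simp only [Subgroup.coe_mul, Subgroup.coe_inv]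
        rw [show (K.subtype z : G) = (z : G) from rfl] at hzy
        rw [hzy]; group
      refine ⟨g⁻¹ * z * g, ?_, this.symm⟩
      apply (hg _).mpr
      have hz' : z ∈ Q := hz
      convert hz' using 1
      group
  have hord : orderOf (g : G) = orderOf g := Subgroup.orderOf_coe g
  have hcop' : (orderOf (g : G)).Coprime
      (centralizer ((Q.map K.subtype : Subgroup G) : Set G)).index := by
    apply Nat.coprime_of_dvd
    intro q hq hq1 hq2
    rw [hord] at hq1
    have hqπ : q ∈ π := hK q hq (hq1.trans (orderOf_dvd_natCard g))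
    have hqr : q ≠ r := by
      rintro rfl
      exact (Nat.Prime.coprime_iff_not_dvd hq).1 hcop.symm hq1
    exact hcent _ hU q hq hqπ hqr hq2
  have h1 := mem_centralizer_of_coprime _ hnorm hcop'
  rw [mem_centralizer_iff] at h1 ⊢
  intro y hy
  exact Subtype.ext (h1 y ⟨y, hy, rfl⟩)

/-- The inductive heart: every `π`-subgroup lies in a conjugate of `H`. -/
theorem exists_conj_ge [Finite G] (σ τ π : Set ℕ) (hπ : π = σ ∪ τ)
    (H Ht : Subgroup G) (hHt : Ht ≤ H)
    (htmax : Maximal (Cfsg.IsPiSubgroup τ) Ht)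
    (hD : Cfsg.IsDPiGroup τ G)
    (hgood : ∀ r : ℕ, r.Prime → r ∈ σ → ∃ _ : Fact r.Prime, ∃ R : Sylow r G, (R : Subgroup G) ≤ H ∧
      H ≤ normalizer ((R : Subgroup G) : Set G) ∧
      ∀ q : ℕ, q.Prime → q ∈ π → q ≠ r → ¬ q ∣ (centralizer ((R : Subgroup G) : Set G)).index)
    (hcent : ∀ r : ℕ, r.Prime → r ∈ σ → ∀ U : Subgroup G, IsPGroup r U →
      ∀ q : ℕ, q.Prime → q ∈ π → q ≠ r → ¬ q ∣ (centralizer (U : Set G)).index) :
    ∀ (n : ℕ) (K : Subgroup G), Nat.card K = n → Cfsg.IsPiSubgroup π K →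
      ∃ g : G, K ≤ H.map (MulAut.conj g).toMonoidHom := by
  intro n
  induction n using Nat.strong_induction_on with
  | _ n ih =>
  intro K hKn hK
  by_cases hcase : ∃ r : ℕ, r.Prime ∧ r ∈ σ ∧ r ∣ Nat.card K
  · obtain ⟨r, hr, hrσ, hrK⟩ := hcase
    obtain ⟨hfact, R, hRH, hHR, hRc⟩ := hgood r hr hrσ
    have hF := frobHyp_of_piSubgroup π r (hcent r hr hrσ) K hK
    let P : Sylow r K := default
    obtain ⟨N', hN'n, hN'c⟩ := hF.exists_normal_isComplement' P
    -- cardinalities
    have hcardmul : Nat.card N' * Nat.card (P : Subgroup K) = Nat.card K := hN'c.card_mul_card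
    have hPcard : r ∣ Nat.card (P : Subgroup K) := P.dvd_card_of_dvd_card hrK
    have hN'idx : (P : Subgroup K).index = Nat.card N' := hN'c.index_eq_card
    have hrN' : ¬ r ∣ Nat.card N' := by
      rw [← hN'idx]; exact P.not_dvd_index
    set N : Subgroup G := N'.map K.subtype with hN
    have hNcard : Nat.card N = Nat.card N' :=
      Nat.card_congr (N'.equivMapOfInjective K.subtype K.subtype_injective).symm.toEquiv
    have hNK : N ≤ K := map_subtype_le _
    have hNlt : Nat.card N < n := by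
      rw [hNcard, ← hKn, ← hcardmul]
      have h2 : 2 ≤ Nat.card (P : Subgroup K) := by
        have := Nat.le_of_dvd Nat.card_pos hPcard
        exact le_trans hr.two_le this
      have : 0 < Nat.card N' := Nat.card_pos
      nlinarith
    have hNπ : Cfsg.IsPiSubgroup π N := by
      intro q hq hqN
      exact hK q hq (hqN.trans (Subgroup.card_dvd_of_le hNK))
    obtain ⟨g, hg⟩ := ih (Nat.card N) hNlt N rfl hNπ
    -- the conjugate Sylow subgroup
    set R1 : Sylow r G := g • R with hR1
    have hrN : ¬ r ∣ Nat.card N := by rw [hNcard]; exact hrN'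
    -- `N` centralizes `R1`
    have hNcent : N ≤ centralizer ((R1 : Subgroup G) : Set G) := by
      intro x hx
      have hxH : g⁻¹ * x * g ∈ H := mem_map_conj.1 (hg hx)
      have h1 : (g⁻¹ * x * g) • R = R := Sylow.smul_eq_iff_mem_normalizer.2 (hHR hxH)
      have hxn : x ∈ normalizer ((R1 : Subgroup G) : Set G) := by
        refine (Sylow.smul_eq_iff_mem_normalizer (P := R1)).1 ?_
        rw [hR1]
        calc x • g • R = (g * (g⁻¹ * x * g)) • R := by
              rw [← mul_smul]; congr 1; group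
          _ = g • ((g⁻¹ * x * g) • R) := mul_smul _ _ _
          _ = g • R := by rw [h1]
      apply mem_centralizer_of_coprime _ hxn
      apply Nat.coprime_of_dvd
      intro q hq hq1 hq2
      have hqN : q ∣ Nat.card N := hq1.trans (Subgroup.orderOf_dvd_natCard N hx)
      have hqπ : q ∈ π := hNπ q hq hqN
      have hqr : q ≠ r := by
        rintro rfl; exact hrN hqN
      exact hcent r hr hrσ _ R1.isPGroup' q hq hqπ hqr hq2
    have hR1NN : (R1 : Subgroup G) ≤ normalizer (N : Set G) :=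
      le_trans (le_centralizer_iff.1 hNcent) (centralizer_le_normalizer _)
    have hKNN : K ≤ normalizer (N : Set G) := by
      have h1 := le_normalizer_map (H := N') K.subtype
      rw [normalizer_eq_top, ← MonoidHom.range_eq_map, range_subtype] at h1
      exact h1
    -- Sylow's theorem in the normalizer of `N`
    set PG : Subgroup G := (P : Subgroup K).map K.subtype with hPG
    have hPGp : IsPGroup r PG := P.2.map _
    have hPGK : PG ≤ K := map_subtype_le _
    have hPGsub : IsPGroup r (PG.subgroupOf (normalizer (N : Set G))) := hPGp.comap_subtype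
    obtain ⟨S, hS⟩ := hPGsub.exists_le_sylow
    obtain ⟨x, hx⟩ := MulAction.exists_smul_eq (normalizer (N : Set G)) (R1.subtype hR1NN) S
    have hPGx : ∀ y ∈ PG, (x : G)⁻¹ * y * x ∈ (R1 : Subgroup G) := by
      intro y hy
      have hyNN : y ∈ normalizer (N : Set G) := hKNN (hPGK hy)
      have h1 : (⟨y, hyNN⟩ : normalizer (N : Set G)) ∈ (S : Subgroup _) :=
        hS (mem_subgroupOf.2 hy)
      rw [← hx, Cfsg.Agent.Helper78.mem_smul_sylow', Sylow.coe_subtype, mem_subgroupOf] at h1
      exact h1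
    refine ⟨x * g, ?_⟩
    have hKsup : K = N ⊔ PG := by
      have h1 := hN'c.sup_eq_top
      have h2 := congrArg (Subgroup.map K.subtype) h1
      rw [Subgroup.map_sup, ← MonoidHom.range_eq_map, range_subtype] at h2
      exact h2.symm
    rw [hKsup]
    refine sup_le ?_ ?_
    · intro n hn
      rw [mem_map_conj]
      have hxinv : (x : G)⁻¹ ∈ normalizer (N : Set G) := inv_mem x.2
      have h1 : (x : G)⁻¹ * n * ((x : G)⁻¹)⁻¹ ∈ N := (mem_normalizer_iff.1 hxinv n).1 hn
      rw [inv_inv] at h1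
      have h2 := mem_map_conj.1 (hg h1)
      have e : (x * g : G)⁻¹ * n * (x * g) = g⁻¹ * ((x : G)⁻¹ * n * x) * g := by group
      rw [e]; exact h2
    · intro y hy
      rw [mem_map_conj]
      have h1 := hPGx y hy
      rw [hR1, Cfsg.Agent.Helper78.mem_smul_sylow'] at h1
      have e : (x * g : G)⁻¹ * y * (x * g) = g⁻¹ * ((x : G)⁻¹ * y * x) * g := by group
      rw [e]; exact hRH h1
  · -- `K` is a `τ`-group
    have hKτ : Cfsg.IsPiSubgroup τ K := by
      intro q hq hqK
      have hqπ := hK q hq hqK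
      rw [hπ] at hqπ
      rcases hqπ with h | h
      · exact absurd ⟨q, hq, h, hqK⟩ hcase
      · exact h
    obtain ⟨M, hKM, hM⟩ := Set.Finite.exists_le_maximal
      (Set.toFinite {L : Subgroup G | Cfsg.IsPiSubgroup τ L}) hKτ
    obtain ⟨g, hg⟩ := hD Ht M htmax hM
    refine ⟨g, ?_⟩
    rw [hg] at hKM
    exact hKM.trans (Subgroup.map_mono hHt)


end Cfsg.Agent.S4334

namespace Cfsg.Agent.S4334

open Subgroup

/-- Let σ and τ be disjoint sets of primes with union π. Suppose a finite group G has a Hall π-subgroup H which is the direct product of a nilpotent σ-subgroup and a τ-subgroup (two elementwise-commuting subgroups generating H), and that the maximal τ-subgroups of G are pairwise conjugate. Then the maximal π-subgroups of G are pairwise conjugate. -/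
theorem result {G : Type*} [Group G] [Finite G]
    (σ τ π : Set ℕ) (hπ : π = σ ∪ τ) (hd : Disjoint σ τ) (H Hs Ht : Subgroup G) (hH : Cfsg.IsPiHall π H)
    (hs : Cfsg.IsPiSubgroup σ Hs) (ht : Cfsg.IsPiSubgroup τ Ht) (hsn : Group.IsNilpotent Hs)
    (hjoin : Hs ⊔ Ht = H) (hcomm : ∀ a ∈ Hs, ∀ b ∈ Ht, a * b = b * a) (hD : Cfsg.IsDPiGroup τ G) :
    Cfsg.IsDPiGroup π G := by
  have hσ : ∀ q : ℕ, q.Prime → q ∈ σ → ¬ q ∣ Hs.index := by
    intro q hq hqσ
    apply not_dvd_index_of_sup hcomm hq
    · rw [hjoin]; exact hH.2 q hq (hπ ▸ Or.inl hqσ)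
    · intro h; exact Set.disjoint_left.1 hd hqσ (ht q hq h)
  have hτ : ∀ q : ℕ, q.Prime → q ∈ τ → ¬ q ∣ Ht.index := by
    intro q hq hqτ
    apply not_dvd_index_of_sup (A := Ht) (B := Hs) (fun a ha b hb => (hcomm b hb a ha).symm) hq
    · rw [sup_comm, hjoin]; exact hH.2 q hq (hπ ▸ Or.inr hqτ)
    · intro h; exact Set.disjoint_left.1 hd (hs q hq h) hqτ
  have htmax : Maximal (Cfsg.IsPiSubgroup τ) Ht := by
    refine ⟨ht, fun L hL hle => ?_⟩
    rw [← relIndex_eq_one]
    by_contra hne
    obtain ⟨q, hq, hqd⟩ := Nat.exists_prime_and_dvd hne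
    have h1 : q ∣ Nat.card L := hqd.trans (Subgroup.relIndex_dvd_card _ _)
    have h2 : q ∣ Ht.index := hqd.trans (relIndex_dvd_index_of_le hle)
    exact hτ q hq (hL q hq h1) h2
  have hgood : ∀ r : ℕ, r.Prime → r ∈ σ → ∃ _ : Fact r.Prime, ∃ R : Sylow r G,
      (R : Subgroup G) ≤ H ∧ H ≤ normalizer ((R : Subgroup G) : Set G) ∧
      ∀ q : ℕ, q.Prime → q ∈ π → q ≠ r →
        ¬ q ∣ (centralizer ((R : Subgroup G) : Set G)).index := by
    intro r hr hrσ
    have : Fact r.Prime := ⟨hr⟩
    obtain ⟨R, h1, h2, h3⟩ := exists_sylow_good σ τ π hπ Hs Ht hσ hτ hsn hcomm r hrσ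
    refine ⟨⟨hr⟩, R, h1.trans (hjoin ▸ le_sup_left), ?_, h3⟩
    rw [← hjoin]; exact h2
  have hcent : ∀ r : ℕ, r.Prime → r ∈ σ → ∀ U : Subgroup G, IsPGroup r U →
      ∀ q : ℕ, q.Prime → q ∈ π → q ≠ r → ¬ q ∣ (centralizer (U : Set G)).index := by
    intro r hr hrσ U hU q hq hqπ hqr
    obtain ⟨hf, R, _, _, h3⟩ := hgood r hr hrσ
    exact not_dvd_index_centralizer π r R h3 U hU q hq hqπ hqr
  have hmain := exists_conj_ge σ τ π hπ H Ht (hjoin ▸ le_sup_right) htmax hD hgood hcent
  have hconjπ : ∀ g : G, Cfsg.IsPiSubgroup π (H.map (MulAut.conj g).toMonoidHom) := by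
    intro g q hq hqd
    apply hH.1 q hq
    have e : Nat.card (H.map (MulAut.conj g).toMonoidHom) = Nat.card H :=
      Nat.card_congr (H.equivMapOfInjective _ (MulAut.conj g).injective).symm.toEquiv
    rwa [e] at hqd
  intro A B hA hB
  obtain ⟨g1, hg1⟩ := hmain _ A rfl hA.prop
  obtain ⟨g2, hg2⟩ := hmain _ B rfl hB.prop
  have hA' : A = H.map (MulAut.conj g1).toMonoidHom :=
    le_antisymm hg1 (hA.le_of_ge (hconjπ g1) hg1)
  have hB' : B = H.map (MulAut.conj g2).toMonoidHom :=
    le_antisymm hg2 (hB.le_of_ge (hconjπ g2) hg2)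
  refine ⟨g2 * g1⁻¹, ?_⟩
  rw [hA', hB']
  ext y
  rw [mem_map_conj, mem_map_conj, mem_map_conj]
  have e : g1⁻¹ * ((g2 * g1⁻¹)⁻¹ * y * (g2 * g1⁻¹)) * g1 = g2⁻¹ * y * g2 := by group
  rw [e]

end Cfsg.Agent.S4334
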