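import Cfsg.Statements.S4342
-- import your own Cfsg.Agent.* helpers here

set_option autoImplicit false
open Cfsg

namespace Cfsg.Agent.S4342

/-- Every Sylow `p`-subgroup lies in a normal subgroup of index prime to `p`. -/
theorem sylow_le_of_normal_of_not_dvd_index {G : Type*} [Group G] [Finite G]
    (p : ℕ) [Fact p.Prime] (H : Subgroup G) [H.Normal] (hp : ¬ p ∣ H.index) (P : Sylow p G) :
    (P : Subgroup G) ≤ H := by
  intro x hx
  obtain ⟨k, hk⟩ := P.isPGroup' ⟨x, hx⟩
  have hk' : x ^ p ^ k = 1 := by simpa using congrArg Subtype.val hk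
  have h1 : orderOf (x : G ⧸ H) ∣ p ^ k := by
    apply orderOf_dvd_of_pow_eq_one
    rw [← QuotientGroup.mk_pow, hk']; rfl
  have h2 : orderOf (x : G ⧸ H) ∣ H.index := by
    rw [Subgroup.index_eq_card]
    exact orderOf_dvd_natCard _
  have hcop : Nat.Coprime (p ^ k) H.index :=
    Nat.Coprime.pow_left k ((Nat.Prime.coprime_iff_not_dvd Fact.out).2 hp)
  have h3 : orderOf (x : G ⧸ H) = 1 := Nat.eq_one_of_dvd_coprimes hcop h1 h2
  rw [orderOf_eq_one_iff] at h3
  exact (QuotientGroup.eq_one_iff x).1 h3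

theorem card_sylow_eq_of_normal {G : Type*} [Group G] [Finite G]
    (p : ℕ) [Fact p.Prime] (H : Subgroup G) [H.Normal] (hp : ¬ p ∣ H.index) :
    Nat.card (Sylow p H) = Nat.card (Sylow p G) := by
  symm
  apply Nat.card_congr
  refine Equiv.ofBijective
    (fun P : Sylow p G => P.subtype (sylow_le_of_normal_of_not_dvd_index p H hp P)) ⟨?_, ?_⟩
  · intro P Q h
    exact Sylow.subtype_injective h
  · intro Q
    obtain ⟨P, hP⟩ := Sylow.exists_comap_subtype_eq Q
    refine ⟨P, ?_⟩
    apply Sylow.ext
    rw [Sylow.coe_subtype]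
    exact hP

theorem card_sylow_quotient_center {K : Type*} [Group K] [Finite K]
    (p : ℕ) [Fact p.Prime] :
    Nat.card (Sylow p (K ⧸ Subgroup.center K)) = Nat.card (Sylow p K) := by
  symm
  apply Nat.card_congr
  have hf : Function.Surjective (QuotientGroup.mk' (Subgroup.center K)) :=
    QuotientGroup.mk'_surjective _
  refine Equiv.ofBijective (Sylow.mapSurjective hf) ⟨?_, Sylow.mapSurjective_surjective hf p⟩
  -- injectivity
  have key : ∀ P Q : Sylow p K, Sylow.mapSurjective hf P = Sylow.mapSurjective hf Q →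
      (Q : Subgroup K) ≤ P := by
    intro P Q h x hx
    have h1 : (P : Subgroup K).map (QuotientGroup.mk' (Subgroup.center K)) =
        (Q : Subgroup K).map (QuotientGroup.mk' (Subgroup.center K)) := by
      have := congrArg (fun S : Sylow p (K ⧸ Subgroup.center K) => S.toSubgroup) h
      simpa using this
    have h2 : QuotientGroup.mk' (Subgroup.center K) x ∈
        (P : Subgroup K).map (QuotientGroup.mk' (Subgroup.center K)) := by
      rw [h1]; exact Subgroup.mem_map_of_mem _ hx
    obtain ⟨y, hy, hyx⟩ := Subgroup.mem_map.1 h2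
    -- z = y⁻¹ x is central
    have hz : y⁻¹ * x ∈ Subgroup.center K := by
      have := (QuotientGroup.eq (s := Subgroup.center K) (a := y) (b := x)).1 hyx
      exact this
    -- z is a p-element
    have hcomm : Commute y⁻¹ x := by
      have h3 := Subgroup.mem_center_iff.1 hz y
      -- y * (y⁻¹ * x) = (y⁻¹ * x) * y  → x = y⁻¹ x y
      have : x * y = y * x := by
        have h4 : y * (y⁻¹ * x) = x := by group
        rw [h4] at h3
        calc x * y = y * (y⁻¹ * x * y) := by group
          _ = y * x := by rw [← h3]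
      show y⁻¹ * x = x * y⁻¹
      calc y⁻¹ * x = y⁻¹ * (x * y) * y⁻¹ := by group
        _ = y⁻¹ * (y * x) * y⁻¹ := by rw [this]
        _ = x * y⁻¹ := by group
    obtain ⟨k1, hk1⟩ := P.isPGroup' ⟨y, hy⟩
    obtain ⟨k2, hk2⟩ := Q.isPGroup' ⟨x, hx⟩
    have hy1 : y ^ p ^ k1 = 1 := by simpa using congrArg Subtype.val hk1
    have hx1 : x ^ p ^ k2 = 1 := by simpa using congrArg Subtype.val hk2
    have hzp : (y⁻¹ * x) ^ p ^ (k1 + k2) = 1 := by
      rw [hcomm.mul_pow, pow_add, inv_pow, pow_mul, hy1, mul_comm (p ^ k1), pow_mul x, hx1]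
      simp
    -- zpowers z is a normal p-subgroup
    have hzn : (Subgroup.zpowers (y⁻¹ * x)).Normal := by
      refine ⟨fun n hn g => ?_⟩
      obtain ⟨j, rfl⟩ := Subgroup.mem_zpowers_iff.1 hn
      have hc : (y⁻¹ * x) ^ j ∈ Subgroup.center K := Subgroup.zpow_mem _ hz j
      have := Subgroup.mem_center_iff.1 hc g
      rw [this]
      simp
    have hzpg : IsPGroup p (Subgroup.zpowers (y⁻¹ * x)) := by
      rintro ⟨w, hw⟩
      obtain ⟨j, rfl⟩ := Subgroup.mem_zpowers_iff.1 hw
      refine ⟨k1 + k2, ?_⟩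
      apply Subtype.ext
      simp only [Subgroup.coe_pow, Subgroup.coe_one]
      rw [← zpow_natCast, ← zpow_mul, mul_comm, zpow_mul, zpow_natCast, hzp, one_zpow]
    have hzP : y⁻¹ * x ∈ (P : Subgroup K) :=
      hzpg.le_sylow_of_normal P (Subgroup.mem_zpowers _)
    have := Subgroup.mul_mem _ hy hzP
    simpa using this
  intro P Q h
  exact (Sylow.ext (Q.is_maximal' P.isPGroup' (key P Q h)))

/-- Let H be a normal subgroup of a finite group G and p a prime not dividing the index of H. Then the number of Sylow p-subgroups of H/Z(H) equals the number of Sylow p-subgroups of G. -/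
theorem result {G : Type*} [Group G] [Finite G]
    (p : ℕ) [Fact p.Prime] (H : Subgroup G) [H.Normal] (hp : ¬ p ∣ H.index) :
    Nat.card (Sylow p (H ⧸ Subgroup.center H)) = Nat.card (Sylow p G) := by
  rw [card_sylow_quotient_center, card_sylow_eq_of_normal p H hp]

end Cfsg.Agent.S4342
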