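import Cfsg.Statements.S4343

set_option autoImplicit false
open Cfsg

namespace Cfsg.Agent.S4343

open Subgroup MulAction

variable {S : Type*} [Group S] [Finite S] {p : ℕ} [Fact p.Prime]

omit [Finite S] [Fact p.Prime] in
/-- The index of `P ∩ Q` in `P` is the size of the `P`-orbit of `Q`. -/
theorem relIndex_eq_ncard_orbit (P Q : Sylow p S) :
    (Q : Subgroup S).relIndex (P : Subgroup S) = (orbit (↥(P : Subgroup S)) Q).ncard := by
  rw [← index_stabilizer]
  have h1 : stabilizer (↥(P : Subgroup S)) Q =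
      (stabilizer S Q).subgroupOf (P : Subgroup S) := by
    ext x
    simp [mem_stabilizer_iff, mem_subgroupOf, Subgroup.smul_def]
  rw [h1, Sylow.stabilizer_eq_normalizer]
  change _ = (normalizer (Q : Subgroup S)).relIndex (P : Subgroup S)
  rw [← inf_relIndex_right (normalizer (Q : Subgroup S)) (P : Subgroup S), inf_comm]
  have h2 := P.2.inf_normalizer_sylow Q
  rw [Sylow.coe_coe, h2, inf_comm, inf_relIndex_right]

theorem relIndex_eq_prime (hn : Nat.card (Sylow p S) < p ^ 2) (P Q : Sylow p S) (hPQ : P ≠ Q) :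
    (Q : Subgroup S).relIndex (P : Subgroup S) = p := by
  have hp : p.Prime := Fact.out
  have hnot : P ∉ orbit (↥(P : Subgroup S)) Q := by
    rintro ⟨x, hx⟩
    have hx' : x • Q = P := hx
    have h2 : (x⁻¹ : ↥(P : Subgroup S)) • P = P := by
      rw [Subgroup.smul_def, Sylow.smul_eq_iff_mem_normalizer]
      exact le_normalizer (x⁻¹).2
    have : Q = P := by
      calc Q = x⁻¹ • (x • Q) := by rw [smul_smul, inv_mul_cancel, one_smul]
        _ = x⁻¹ • P := by rw [hx']
        _ = P := h2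
    exact hPQ this.symm
  have hle : (orbit (↥(P : Subgroup S)) Q).ncard + 1 ≤ Nat.card (Sylow p S) := by
    rw [← Set.ncard_insert_of_notMem hnot (Set.toFinite _)]
    exact Set.ncard_le_card _
  rw [← relIndex_eq_ncard_orbit] at hle
  obtain ⟨n, hn'⟩ := IsPGroup.iff_card.mp P.2
  have hdvd : (Q : Subgroup S).relIndex (P : Subgroup S) ∣ p ^ n := by
    rw [← hn']; exact relIndex_dvd_card _ _
  obtain ⟨m, -, hm⟩ := (Nat.dvd_prime_pow hp).1 hdvd
  rw [hm] at hle ⊢
  have hm2 : m < 2 := by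
    rw [← Nat.pow_lt_pow_iff_right hp.one_lt]
    omega
  interval_cases m
  · exfalso
    rw [pow_zero, relIndex_eq_one] at hm
    exact hPQ (Sylow.ext (P.3 Q.2 hm)).symm
  · simp

theorem exists_ne [IsSimpleGroup S] (hS : ¬ IsMulCommutative S) (hp : p ∣ Nat.card S)
    (P : Sylow p S) : ∃ Q : Sylow p S, Q ≠ P := by
  by_contra hcon
  push Not at hcon
  have hsub : Subsingleton (Sylow p S) := ⟨fun a b => (hcon a).trans (hcon b).symm⟩
  have hN : (P : Subgroup S).Normal := Sylow.normal_of_subsingleton P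
  rcases hN.eq_bot_or_eq_top with h | h
  · exact Sylow.ne_bot_of_dvd_card P hp h
  · have hpg : IsPGroup p S := by
      have h3 := P.2
      rw [h] at h3
      exact h3.of_equiv Subgroup.topEquiv
    have hnt : Nontrivial (center S) := hpg.center_nontrivial
    rcases (inferInstance : (center S).Normal).eq_bot_or_eq_top with h4 | h4
    · rw [h4] at hnt
      exact not_nontrivial _ hnt
    · apply hS
      refine ⟨⟨fun a b => ?_⟩⟩
      have : a ∈ center S := h4 ▸ mem_top a
      exact (mem_center_iff.mp this b).symm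

/-- A subgroup of index `p` in a `p`-group is normal. -/
theorem le_normalizer_of_relIndex_eq_prime (A B : Subgroup S) (hA : IsPGroup p A)
    (h : B.relIndex A = p) : A ≤ normalizer ((B ⊓ A : Subgroup S) : Set S) := by
  have hp : p.Prime := Fact.out
  rw [← normal_subgroupOf_iff_le_normalizer_inf]
  apply normal_of_index_eq_minFac_card
  obtain ⟨n, hn⟩ := IsPGroup.iff_card.mp hA
  have hn0 : n ≠ 0 := by
    rintro rfl
    rw [pow_zero] at hn
    have := relIndex_dvd_card B A
    rw [h, hn] at this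
    exact hp.one_lt.ne' (Nat.dvd_one.mp this)
  rw [hn, hp.pow_minFac hn0]
  exact h

/-- Brodkey's argument. -/
theorem inf_le_of_min (A B : Sylow p S) (hAB : A ≠ B)
    (hmin : ∀ A' B' : Sylow p S, A' ≠ B' →
      Nat.card (↥((A : Subgroup S) ⊓ B)) ≤ Nat.card (↥((A' : Subgroup S) ⊓ B')))
    (hA : (A : Subgroup S) ≤ normalizer (((A : Subgroup S) ⊓ B : Subgroup S) : Set S))
    (hB : (B : Subgroup S) ≤ normalizer (((A : Subgroup S) ⊓ B : Subgroup S) : Set S))
    (R : Sylow p S) : (A : Subgroup S) ⊓ B ≤ R := by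
  obtain ⟨Q', hQ'⟩ := (R.2.comap_subtype
    (K := normalizer (((A : Subgroup S) ⊓ B : Subgroup S) : Set S))).exists_le_sylow
  obtain ⟨x, hx⟩ := MulAction.exists_smul_eq
    (↥(normalizer (((A : Subgroup S) ⊓ B : Subgroup S) : Set S))) (A.subtype hA) Q'
  have key : ∀ y : S, y ∈ R → y ∈ normalizer (((A : Subgroup S) ⊓ B : Subgroup S) : Set S) →
      (x : S)⁻¹ * y * x ∈ (A : Subgroup S) := by
    intro y hyR hyN
    have h1 : (⟨y, hyN⟩ : ↥(normalizer (((A : Subgroup S) ⊓ B : Subgroup S) : Set S))) ∈ Q' :=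
      hQ' (by rw [mem_comap]; exact hyR)
    rw [← hx] at h1
    have h2 : (⟨y, hyN⟩ : ↥(normalizer (((A : Subgroup S) ⊓ B : Subgroup S) : Set S))) ∈
        ((x • A.subtype hA : Sylow p _) : Subgroup _) := h1
    rw [Sylow.coe_subgroup_smul, mem_pointwise_smul_iff_inv_smul_mem, MulAut.smul_def,
      MulAut.conj_inv_apply, Sylow.coe_subtype, mem_subgroupOf] at h2
    simpa using h2
  -- the conjugate of R
  have hsub : (((x : S)⁻¹ • R : Sylow p S) : Subgroup S) ⊓ B ≤ (A : Subgroup S) ⊓ B := by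
    intro z hz
    obtain ⟨hz1, hz2⟩ := mem_inf.1 hz
    rw [Sylow.coe_subgroup_smul, mem_pointwise_smul_iff_inv_smul_mem, MulAut.smul_def,
      MulAut.conj_inv_apply, inv_inv] at hz1
    have hzN := hB hz2
    have hyN : (x : S) * z * (x : S)⁻¹ ∈
        normalizer (((A : Subgroup S) ⊓ B : Subgroup S) : Set S) :=
      mul_mem (mul_mem x.2 hzN) (inv_mem x.2)
    have := key _ hz1 hyN
    refine mem_inf.2 ⟨?_, hz2⟩
    convert this using 1
    group
  have hDle : (A : Subgroup S) ⊓ B ≤ (((x : S)⁻¹ • R : Sylow p S) : Subgroup S) := by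
    by_cases hRB : ((x : S)⁻¹ • R : Sylow p S) = B
    · exfalso
      rw [hRB, inf_idem] at hsub
      have : (B : Subgroup S) ≤ A := hsub.trans inf_le_left
      exact hAB (Sylow.ext (B.3 A.2 this))
    · have hc := hmin _ _ hRB
      have := eq_of_le_of_card_ge hsub hc
      exact this.ge.trans inf_le_left
  intro d hd
  have hd' : (x : S)⁻¹ * d * x ∈ (A : Subgroup S) ⊓ B := by
    have hxN : (x : S)⁻¹ ∈ normalizer (((A : Subgroup S) ⊓ B : Subgroup S) : Set S) :=
      inv_mem x.2
    have := (mem_normalizer_iff.mp hxN d).mp hd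
    simpa using this
  have h3 := hDle hd'
  rw [Sylow.coe_subgroup_smul, mem_pointwise_smul_iff_inv_smul_mem, MulAut.smul_def,
    MulAut.conj_inv_apply, inv_inv] at h3
  convert h3 using 1
  group

/-- Let S be a finite non-abelian simple group and p a prime dividing its order. If S has fewer than p² Sylow p-subgroups, then its Sylow p-subgroups have order p. -/
theorem result {S : Type*} [Group S] [Finite S]
    [IsSimpleGroup S] (hS : ¬ IsMulCommutative S) (p : ℕ) [Fact p.Prime] (hp : p ∣ Nat.card S)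
    (hn : Nat.card (Sylow p S) < p ^ 2) (P : Sylow p S) : Nat.card P = p := by
  obtain ⟨Q0, hQ0⟩ := exists_ne hS hp P
  have hne : Nonempty {AB : Sylow p S × Sylow p S // AB.1 ≠ AB.2} := ⟨⟨(Q0, P), hQ0⟩⟩
  obtain ⟨⟨⟨A, B⟩, hAB⟩, hmin⟩ := Finite.exists_min
    (fun t : {AB : Sylow p S × Sylow p S // AB.1 ≠ AB.2} =>
      Nat.card (↥((t.1.1 : Subgroup S) ⊓ t.1.2)))
  have hAB' : A ≠ B := hAB
  have hmin' : ∀ A' B' : Sylow p S, A' ≠ B' →
      Nat.card (↥((A : Subgroup S) ⊓ B)) ≤ Nat.card (↥((A' : Subgroup S) ⊓ B')) :=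
    fun A' B' h => hmin ⟨(A', B'), h⟩
  have h1 : (B : Subgroup S).relIndex A = p := relIndex_eq_prime hn A B hAB'
  have h2 : (A : Subgroup S).relIndex B = p := relIndex_eq_prime hn B A hAB'.symm
  have hA : (A : Subgroup S) ≤ normalizer (((A : Subgroup S) ⊓ B : Subgroup S) : Set S) := by
    have := le_normalizer_of_relIndex_eq_prime (A : Subgroup S) B A.2 h1
    rwa [inf_comm] at this
  have hB : (B : Subgroup S) ≤ normalizer (((A : Subgroup S) ⊓ B : Subgroup S) : Set S) :=
    le_normalizer_of_relIndex_eq_prime (B : Subgroup S) A B.2 h2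
  have hall : ∀ R : Sylow p S, (A : Subgroup S) ⊓ B ≤ R :=
    inf_le_of_min A B hAB' hmin' hA hB
  -- the intersection of all Sylow subgroups is normal
  have hK : (⨅ R : Sylow p S, (R : Subgroup S)).Normal := by
    refine ⟨fun n hn g => ?_⟩
    rw [mem_iInf] at hn ⊢
    intro R
    have := hn (g⁻¹ • R)
    rw [Sylow.coe_subgroup_smul, mem_pointwise_smul_iff_inv_smul_mem, MulAut.smul_def,
      MulAut.conj_inv_apply, inv_inv] at this
    exact this
  have hDK : (A : Subgroup S) ⊓ B ≤ ⨅ R : Sylow p S, (R : Subgroup S) := le_iInf hall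
  have hKbot : (⨅ R : Sylow p S, (R : Subgroup S)) = ⊥ := by
    rcases hK.eq_bot_or_eq_top with h | h
    · exact h
    · exfalso
      have hA' : (A : Subgroup S) = ⊤ := top_le_iff.mp (h ▸ iInf_le _ A)
      have hB' : (B : Subgroup S) = ⊤ := top_le_iff.mp (h ▸ iInf_le _ B)
      exact hAB' (Sylow.ext (hA'.trans hB'.symm))
  have hD : (A : Subgroup S) ⊓ B = ⊥ := le_bot_iff.mp (hKbot ▸ hDK)
  have hcA : Nat.card (A : Subgroup S) = p := by
    rw [← inf_relIndex_right, inf_comm, hD, relIndex_bot_left] at h1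
    exact h1
  exact ((Sylow.card_eq_multiplicity P).trans (Sylow.card_eq_multiplicity A).symm).trans hcA

end Cfsg.Agent.S4343
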