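import Cfsg.Statements.S4344
-- import your own Cfsg.Agent.* helpers here

set_option autoImplicit false
open Cfsg

namespace Cfsg.Agent.S4344

/-- Let S be a finite non-abelian simple group, M a maximal subgroup of S and C a cyclic normal subgroup of M. If a Sylow p-subgroup P of S (for a prime p dividing the order of S) is contained in C, then the number of Sylow p-subgroups of S equals the index of M. -/
theorem result {S : Type*} [Group S] [Finite S]
    [IsSimpleGroup S] (hS : ¬ IsMulCommutative S) (p : ℕ) [Fact p.Prime] (hp : p ∣ Nat.card S)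
    (M : Subgroup S) (hM : IsCoatom M) (C : Subgroup S) (hCM : C ≤ M) (hCn : (C.subgroupOf M).Normal)
    (hC : IsCyclic C) (P : Sylow p S) (hP : (P : Subgroup S) ≤ C) :
    Nat.card (Sylow p S) = M.index := by
  rw [Sylow.card_eq_index_normalizer P]
  -- C is commutative
  have hcomm : ∀ a ∈ C, ∀ b ∈ C, a * b = b * a := by
    intro a ha b hb
    have hcm := hC.commutative
    have := isMulCommutative_iff.1 hcm ⟨a, ha⟩ ⟨b, hb⟩
    exact congrArg Subtype.val this
  -- every p-element of C lies in P
  have hpel : ∀ c ∈ C, (∃ k : ℕ, c ^ p ^ k = 1) → c ∈ (P : Subgroup S) := by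
    intro c hc ⟨k, hk⟩
    have hz : IsPGroup p (Subgroup.zpowers c) := by
      apply IsPGroup.of_card (n := (Nat.factorization (orderOf c) p))
      rw [Nat.card_zpowers]
      have hd : orderOf c ∣ p ^ k := orderOf_dvd_of_pow_eq_one hk
      obtain ⟨j, _, hj⟩ := (Nat.dvd_prime_pow (Fact.out)).1 hd
      rw [hj]
      simp [(Fact.out : p.Prime).factorization_self]
    have hnorm : Subgroup.zpowers c ≤ Subgroup.normalizer ((P : Subgroup S) : Set S) := by
      rw [Subgroup.zpowers_le]
      rw [Subgroup.mem_normalizer_iff]
      intro h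
      constructor
      · intro hh
        have : c * h * c⁻¹ = h := by
          rw [hcomm c hc h (hP hh)]; group
        rw [this]; exact hh
      · intro hh
        have h1 : c * h * c⁻¹ ∈ C := hP hh
        have h2 : h ∈ C := by
          have := C.mul_mem (C.mul_mem (C.inv_mem hc) h1) hc
          simpa [mul_assoc] using this
        have : c * h * c⁻¹ = h := by
          rw [hcomm c hc h h2]; group
        rw [this] at hh; exact hh
    have h1 : IsPGroup p (↥((P : Subgroup S) ⊔ Subgroup.zpowers c)) :=
      IsPGroup.to_sup_of_normal_left' P.isPGroup' hz hnorm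
    have h2 := P.is_maximal' h1 le_sup_left
    rw [← h2]
    exact (le_sup_right : Subgroup.zpowers c ≤ _) (Subgroup.mem_zpowers c)
  -- M normalizes P
  have hMle : M ≤ Subgroup.normalizer ((P : Subgroup S) : Set S) := by
    intro m hm
    have hconjC : ∀ x ∈ C, ∀ m ∈ M, m * x * m⁻¹ ∈ C := by
      intro x hx m hm
      have := hCn.conj_mem ⟨x, hCM hx⟩ (Subgroup.mem_subgroupOf.2 hx) ⟨m, hm⟩
      simpa [Subgroup.mem_subgroupOf] using this
    have hconjP : ∀ x ∈ (P : Subgroup S), ∀ m ∈ M, m * x * m⁻¹ ∈ (P : Subgroup S) := by
      intro x hx m hm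
      apply hpel _ (hconjC x (hP hx) m hm)
      obtain ⟨k, hk⟩ := P.isPGroup' ⟨x, hx⟩
      refine ⟨k, ?_⟩
      have hk' : x ^ p ^ k = 1 := by
        have := congrArg Subtype.val hk
        simpa using this
      rw [conj_pow, hk']; group
    rw [Subgroup.mem_normalizer_iff]
    intro h
    constructor
    · intro hh; exact hconjP h hh m hm
    · intro hh
      have := hconjP _ hh m⁻¹ (M.inv_mem hm)
      simpa [mul_assoc] using this
  -- the normalizer is not everything
  have hne : Subgroup.normalizer ((P : Subgroup S) : Set S) ≠ ⊤ := by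
    intro htop
    have hnormal : (P : Subgroup S).Normal := Subgroup.normalizer_eq_top_iff.1 htop
    rcases hnormal.eq_bot_or_eq_top with hbot | htop'
    · exact P.ne_bot_of_dvd_card hp hbot
    · -- S is a p-group
      have hpS : IsPGroup p S := by
        intro g
        obtain ⟨k, hk⟩ := P.isPGroup' ⟨g, by rw [htop']; trivial⟩
        exact ⟨k, by simpa using congrArg Subtype.val hk⟩
      have : Nontrivial S := IsSimpleGroup.toNontrivial
      have hcn : Nontrivial (Subgroup.center S) := hpS.center_nontrivial
      have hct : Subgroup.center S = ⊤ := by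
        rcases (inferInstance : (Subgroup.center S).Normal).eq_bot_or_eq_top with h | h
        · exfalso
          rw [Subgroup.nontrivial_iff_ne_bot] at hcn
          exact hcn h
        · exact h
      apply hS
      refine ⟨⟨fun a b => ?_⟩⟩
      have : b ∈ Subgroup.center S := by rw [hct]; trivial
      exact (Subgroup.mem_center_iff.1 this a)
  have := hM.2 (Subgroup.normalizer ((P : Subgroup S) : Set S))
  rcases lt_or_eq_of_le hMle with h | h
  · exact absurd (this h) hne
  · rw [h]; rfl
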