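import Cfsg.Statements.S4346
import Cfsg.Agent.S4303
import Cfsg.Agent.Helper95.S22.Simple

set_option autoImplicit false
open Cfsg

namespace Cfsg.Agent.S4346

/-- No finite group has exactly 22 Sylow 3-subgroups. -/
theorem result {G : Type*} [Group G] [Finite G] : Nat.card (Sylow 3 G) ≠ 22 := by
  intro h22
  obtain ⟨l, hprod, hl⟩ := Cfsg.Agent.S4303.result (G := G) 3
  rw [h22] at hprod
  -- some member of the list is `22`
  have hex : ∃ m ∈ l, m = 22 := by
    by_contra hcon
    push Not at hcon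
    have hall : ∀ m ∈ l, m = 1 := by
      intro m hm
      have hdvd : m ∣ 22 := hprod ▸ List.dvd_prod hm
      have hle : m ≤ 22 := Nat.le_of_dvd (by norm_num) hdvd
      have hne := hcon m hm
      have hmod : m % 3 = 1 := by
        rcases hl m hm with ⟨-, h⟩ | ⟨S, _, _, -, h⟩
        · exact h
        · rw [h]
          exact card_sylow_modEq_one 3 S
      interval_cases m <;> omega
    have : l.prod = 1 := List.prod_eq_one hall
    omega
  obtain ⟨m, hm, rfl⟩ := hex
  rcases hl 22 hm with ⟨hpp, -⟩ | ⟨S, _, _, hS, h⟩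
  · exfalso
    obtain ⟨q, k, hq, hk, hqk⟩ := hpp
    have hq' : q.Prime := Nat.prime_iff.mpr hq
    have h2 : q ∣ 22 := hqk ▸ dvd_pow_self q (by omega)
    have h2' : 2 ∣ q ^ k := by rw [hqk]; norm_num
    have h11' : 11 ∣ q ^ k := by rw [hqk]; norm_num
    have e1 := (Nat.prime_dvd_prime_iff_eq Nat.prime_two hq').mp (Nat.prime_two.dvd_of_dvd_pow h2')
    have e2 := (Nat.prime_dvd_prime_iff_eq (by norm_num : Nat.Prime 11) hq').mp
      ((by norm_num : Nat.Prime 11).dvd_of_dvd_pow h11')
    omega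
  · exact Cfsg.Agent.Helper95.S22.simple_ne_22 (G := S) h.symm

end Cfsg.Agent.S4346
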