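import Cfsg.Statements.S4347
-- import your own Cfsg.Agent.* helpers here

set_option autoImplicit false
open Cfsg

namespace Cfsg.Agent.S4347

/-- Let G be a finite group and p a prime. Say a Sylow p-subgroup Q is redundant when every element of p-power order lies in some Sylow p-subgroup other than Q. Then G has no redundant Sylow p-subgroup if and only if some element of p-power order lies in exactly one Sylow p-subgroup. -/
theorem result {G : Type*} [Group G] [Finite G]
    (p : ℕ) [Fact p.Prime] :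
    (¬ ∃ Q : Sylow p G, ∀ x : G, (∃ k : ℕ, orderOf x = p ^ k) → ∃ P : Sylow p G, P ≠ Q ∧ x ∈ P) ↔
      ∃ x : G, (∃ k : ℕ, orderOf x = p ^ k) ∧ ∃! P : Sylow p G, x ∈ P := by
  constructor
  · intro h
    push Not at h
    obtain ⟨Q⟩ := (inferInstance : Nonempty (Sylow p G))
    obtain ⟨x, hx, hQ⟩ := h Q
    have hpg : IsPGroup p (Subgroup.zpowers x) := by
      obtain ⟨k, hk⟩ := hx
      apply IsPGroup.of_card (n := k)
      rw [Nat.card_zpowers, hk]
    obtain ⟨P, hP⟩ := IsPGroup.exists_le_sylow hpg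
    have hxP : x ∈ P := hP (Subgroup.mem_zpowers x)
    have key : ∀ P' : Sylow p G, x ∈ P' → P' = Q := by
      intro P' hP'
      by_contra hne
      exact hQ P' hne hP'
    refine ⟨x, hx, P, hxP, ?_⟩
    intro P' hP'
    rw [key P' hP', key P hxP]
  · rintro ⟨x, hx, P0, hxP0, huniq⟩ ⟨Q, hQ⟩
    obtain ⟨g, rfl⟩ := MulAction.exists_smul_eq G P0 Q
    obtain ⟨k, hk⟩ := hx
    have hord : orderOf (g * x * g⁻¹) = p ^ k := by
      have := (MulAut.conj g).orderOf_eq x
      rw [MulAut.conj_apply] at this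
      rw [this, hk]
    obtain ⟨P, hne, hmem⟩ := hQ (g * x * g⁻¹) ⟨k, hord⟩
    have h1 : x ∈ g⁻¹ • P := by
      show x ∈ ((g⁻¹ • P : Sylow p G) : Subgroup G)
      rw [Sylow.coe_subgroup_smul, Subgroup.mem_pointwise_smul_iff_inv_smul_mem]
      simp only [MulAut.smul_def, map_inv, inv_inv, MulAut.conj_apply]
      exact hmem
    have h2 := huniq _ h1
    apply hne
    rw [← h2]
    simp
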