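import Cfsg.Statements.S4348
-- import your own Cfsg.Agent.* helpers here

set_option autoImplicit false
open Cfsg

namespace Cfsg.Agent.S4348

theorem pCore_le_sylow {G : Type*} [Group G] (p : ℕ) [Fact p.Prime] (Q : Sylow p G) :
    Cfsg.pCore p G ≤ (Q : Subgroup G) := by
  unfold Cfsg.pCore
  apply sSup_le
  rintro N ⟨hN, hpN⟩
  have h1 : IsPGroup p (↥((Q : Subgroup G) ⊔ N)) :=
    IsPGroup.to_sup_of_normal_right Q.isPGroup' hpN
  have h2 := Q.is_maximal' h1 le_sup_left
  rw [← h2]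
  exact le_sup_right

/-- Let G be a finite group, p a prime and P a Sylow p-subgroup of G, and let O_p(G) be the largest normal p-subgroup of G. If P/O_p(G) is cyclic, then some element of p-power order of G lies in exactly one Sylow p-subgroup. -/
theorem result {G : Type*} [Group G] [Finite G]
    (p : ℕ) [Fact p.Prime] (P : Sylow p G)
    [hn : ((Cfsg.pCore p G).subgroupOf (P : Subgroup G)).Normal]
    (hc : IsCyclic ((P : Subgroup G) ⧸ (Cfsg.pCore p G).subgroupOf (P : Subgroup G))) :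
    ∃ x : G, (∃ k : ℕ, orderOf x = p ^ k) ∧ ∃! Q : Sylow p G, x ∈ Q := by
  obtain ⟨g, hg⟩ := hc.exists_generator
  obtain ⟨y, rfl⟩ := QuotientGroup.mk_surjective g
  refine ⟨(y : G), ?_, P, y.2, ?_⟩
  · obtain ⟨k, hk⟩ := P.isPGroup' y
    have : orderOf y ∣ p ^ k := orderOf_dvd_of_pow_eq_one hk
    obtain ⟨j, _, hj⟩ := (Nat.dvd_prime_pow (Fact.out)).1 this
    exact ⟨j, by rw [← hj, Subgroup.orderOf_coe]⟩
  · intro Q hQ
    have hle : (P : Subgroup G) ≤ Q := by
      intro z hz
      obtain ⟨n, hn'⟩ := Subgroup.mem_zpowers_iff.1 (hg (QuotientGroup.mk ⟨z, hz⟩))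
      rw [← QuotientGroup.mk_zpow, QuotientGroup.eq] at hn'
      rw [Subgroup.mem_subgroupOf] at hn'
      have h3 := pCore_le_sylow p Q hn'
      have h4 : ((y : G) ^ n) ∈ (Q : Subgroup G) := Subgroup.zpow_mem _ hQ n
      have h5 := Subgroup.mul_mem _ h4 h3
      simpa using h5
    exact Sylow.ext (P.is_maximal' Q.isPGroup' hle)
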