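import Cfsg.Statements.S4354
import Cfsg.Agent.S4309

set_option autoImplicit false
open Cfsg

namespace Cfsg.Agent.S4354

/-- The class-size condition: every `p`-element has a conjugacy class of size prime to `p`. -/
def CC (p : ℕ) (G : Type*) [Group G] : Prop :=
  ∀ x : G, (∃ k : ℕ, orderOf x = p ^ k) → ¬ p ∣ (Subgroup.centralizer ({x} : Set G)).index

section
variable {G : Type*} [Group G] [Finite G] (p : ℕ) [Fact p.Prime]

theorem CC_normal (hG : CC p G) (N : Subgroup G) [N.Normal] : CC p N := by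
  rintro x ⟨k, hk⟩ hdvd
  have h1 : orderOf (x : G) = p ^ k := by rw [Subgroup.orderOf_coe]; exact hk
  apply hG (x : G) ⟨k, h1⟩
  have h2 : Subgroup.centralizer ({x} : Set N) =
      (Subgroup.centralizer ({(x : G)} : Set G)).subgroupOf N := by
    ext y
    rw [Subgroup.mem_subgroupOf, Subgroup.mem_centralizer_iff, Subgroup.mem_centralizer_iff]
    constructor
    · intro h w hw
      rw [Set.mem_singleton_iff] at hw
      subst hw
      have := h x rfl
      exact congrArg Subtype.val this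
    · intro h w hw
      rw [Set.mem_singleton_iff] at hw
      rw [hw]
      have := h (x : G) rfl
      exact Subtype.ext this
  rw [h2] at hdvd
  exact hdvd.trans (Cfsg.Agent.S4309.relIndex_dvd_index_of_normal_right _ N)

theorem CC_quotient (hG : CC p G) (N : Subgroup G) [N.Normal] : CC p (G ⧸ N) := by
  rintro x ⟨k, hk⟩ hdvd
  have hz : IsPGroup p (Subgroup.zpowers x) :=
    IsPGroup.of_card (n := k) (by rw [Nat.card_zpowers, hk])
  obtain ⟨Q, hQ⟩ := hz.exists_le_sylow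
  obtain ⟨P, rfl⟩ := Sylow.mapSurjective_surjective (QuotientGroup.mk'_surjective N) p Q
  have hx : x ∈ (P : Subgroup G).map (QuotientGroup.mk' N) := hQ (Subgroup.mem_zpowers x)
  obtain ⟨z, hzP, rfl⟩ := Subgroup.mem_map.1 hx
  obtain ⟨j, hj⟩ := (IsPGroup.iff_orderOf.1 P.isPGroup') ⟨z, hzP⟩
  rw [Subgroup.orderOf_mk] at hj
  apply hG z ⟨j, hj⟩
  have hle : (Subgroup.centralizer ({z} : Set G)).map (QuotientGroup.mk' N) ≤
      Subgroup.centralizer ({QuotientGroup.mk' N z} : Set (G ⧸ N)) := by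
    rintro _ ⟨c, hc, rfl⟩
    rw [Subgroup.mem_centralizer_iff]
    rintro _ rfl
    rw [SetLike.mem_coe, Subgroup.mem_centralizer_iff] at hc
    have := hc z rfl
    rw [← map_mul, ← map_mul, this]
  exact (hdvd.trans (Subgroup.index_dvd_of_le hle)).trans
    (Subgroup.index_map_dvd _ (QuotientGroup.mk'_surjective N))

theorem exists_sylow_le_of_not_dvd_index (C : Subgroup G) (hC : ¬ p ∣ C.index)
    (R : Subgroup G) (hR : IsPGroup p R) (hRC : R ≤ C) :
    ∃ S : Sylow p G, (S : Subgroup G) ≤ C ∧ R ≤ S := by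
  have h1 : IsPGroup p (R.subgroupOf C) := hR.comap_subtype
  obtain ⟨T, hT⟩ := h1.exists_le_sylow
  have h2 : IsPGroup p ((T : Subgroup C).map C.subtype) := T.isPGroup'.map _
  have h3 : ¬ p ∣ ((T : Subgroup C).map C.subtype).index := by
    rw [Subgroup.index_map_subtype]
    exact Nat.Prime.not_dvd_mul Fact.out T.not_dvd_index hC
  refine ⟨h2.toSylow h3, ?_, ?_⟩
  · intro g hg
    obtain ⟨c, _, rfl⟩ := Subgroup.mem_map.1 hg
    exact c.2
  · intro r hr
    exact Subgroup.mem_map.2 ⟨⟨r, hRC hr⟩, hT (Subgroup.mem_subgroupOf.2 hr), rfl⟩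

/-- A `p`-element whose image under a hom lies in a subgroup of order prime to `p` maps to `1`. -/
theorem map_eq_one_of_coprime {A B : Type*} [Group A] [Group B] (f : A →* B) (a : A) (k : ℕ)
    (ha : a ^ p ^ k = 1) (D : Subgroup B) [Finite D] (hD : ¬ p ∣ Nat.card D) (hfa : f a ∈ D) :
    f a = 1 := by
  have h1 : orderOf (f a) ∣ p ^ k := by
    apply orderOf_dvd_of_pow_eq_one
    rw [← map_pow, ha, map_one]
  have h2 : orderOf (f a) ∣ Nat.card D := by
    have := orderOf_dvd_natCard (⟨f a, hfa⟩ : D)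
    rwa [Subgroup.orderOf_mk] at this
  have hcop : Nat.Coprime (p ^ k) (Nat.card D) :=
    Nat.Coprime.pow_left k ((Nat.Prime.coprime_iff_not_dvd Fact.out).2 hD)
  have h3 : orderOf (f a) = 1 := Nat.eq_one_of_dvd_coprimes hcop h1 h2
  exact orderOf_eq_one_iff.1 h3

theorem claimA (hG : CC p G) (N : Subgroup G) [N.Normal]
    (hNab : ∀ T : Sylow p N, ∀ a ∈ T, ∀ b ∈ T, a * b = b * a)
    (Q : Sylow p G) (x : G) (hx : x ∈ Q) (r : G) (hrQ : r ∈ Q) (hrN : r ∈ N) :
    x * r = r * x := by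
  -- x is a p-element
  obtain ⟨k, hk⟩ := (IsPGroup.iff_orderOf.1 Q.isPGroup') ⟨x, hx⟩
  rw [Subgroup.orderOf_mk] at hk
  have hCx := hG x ⟨k, hk⟩
  obtain ⟨S, hSC, -⟩ := exists_sylow_le_of_not_dvd_index p _ hCx ⊥ IsPGroup.of_bot bot_le
  -- Sylow subgroups of N
  have hidx : ∀ T : Sylow p G, ¬ p ∣ ((T : Subgroup G).subgroupOf N).index := fun T h =>
    T.not_dvd_index (h.trans (Cfsg.Agent.S4309.relIndex_dvd_index_of_normal_right _ N))
  let AS : Sylow p N := (S.isPGroup'.comap_subtype (K := N)).toSylow (hidx S)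
  let AQ : Sylow p N := (Q.isPGroup'.comap_subtype (K := N)).toSylow (hidx Q)
  obtain ⟨n, hn⟩ := MulAction.exists_smul_eq N AS AQ
  -- R = Q ⊓ N is abelian
  have hRab : ∀ a ∈ Q, a ∈ N → ∀ b ∈ Q, b ∈ N → a * b = b * a := by
    intro a haQ haN b hbQ hbN
    have := hNab AQ ⟨a, haN⟩ haQ ⟨b, hbN⟩ hbQ
    exact congrArg Subtype.val this
  set R : Subgroup G := (Q : Subgroup G) ⊓ N with hRdef
  -- x' = n x n⁻¹ centralizes R
  have hx' : (n : G) * x * (n : G)⁻¹ ∈ Subgroup.centralizer (R : Set G) := by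
    rw [Subgroup.mem_centralizer_iff]
    rintro r ⟨hrQ, hrN⟩
    have h1 : (⟨r, hrN⟩ : N) ∈ AQ := hrQ
    rw [← hn] at h1
    have h2 : (n : G)⁻¹ * r * n ∈ (S : Subgroup G) := by
      have h1' : (⟨r, hrN⟩ : N) ∈ ((n • AS : Sylow p N) : Subgroup N) := h1
      rw [Sylow.coe_subgroup_smul, Subgroup.mem_pointwise_smul_iff_inv_smul_mem] at h1'
      simp only [MulAut.smul_def, map_inv, MulAut.inv_apply, MulAut.conj_symm_apply] at h1'
      exact h1'
    have h3 := hSC h2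
    rw [Subgroup.mem_centralizer_iff] at h3
    have h4 := h3 x rfl
    -- x * (n⁻¹ r n) = (n⁻¹ r n) * x
    calc r * ((n : G) * x * (n : G)⁻¹) = (n : G) * (((n : G)⁻¹ * r * n) * x) * (n : G)⁻¹ := by group
      _ = (n : G) * (x * ((n : G)⁻¹ * r * n)) * (n : G)⁻¹ := by rw [h4]
      _ = (n : G) * x * (n : G)⁻¹ * r := by group
  have hxnorm : x ∈ Subgroup.normalizer (R : Set G) := by
    rw [Subgroup.mem_normalizer_iff]
    intro h
    constructor
    · rintro ⟨h1, h2⟩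
      exact ⟨Subgroup.mul_mem _ (Subgroup.mul_mem _ hx h1) (Subgroup.inv_mem _ hx),
        (inferInstance : N.Normal).conj_mem h h2 x⟩
    · rintro ⟨h1, h2⟩
      have e : h = x⁻¹ * (x * h * x⁻¹) * x⁻¹⁻¹ := by group
      rw [e]
      exact ⟨Subgroup.mul_mem _ (Subgroup.mul_mem _ (Subgroup.inv_mem _ hx) h1)
        (Subgroup.inv_mem _ (Subgroup.inv_mem _ hx)),
        (inferInstance : N.Normal).conj_mem _ h2 x⁻¹⟩
  have hx'norm : (n : G) * x * (n : G)⁻¹ ∈ Subgroup.normalizer (R : Set G) :=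
    Subgroup.centralizer_le_normalizer _ hx'
  set y : G := x⁻¹ * ((n : G) * x * (n : G)⁻¹) with hy
  have hyN : y ∈ N := by
    have : y = (x⁻¹ * (n : G) * x⁻¹⁻¹) * (n : G)⁻¹ := by rw [hy]; group
    rw [this]
    exact N.mul_mem ((inferInstance : N.Normal).conj_mem _ n.2 x⁻¹) (N.inv_mem n.2)
  have hynorm : y ∈ Subgroup.normalizer (R : Set G) :=
    Subgroup.mul_mem _ (Subgroup.inv_mem _ hxnorm) hx'norm
  -- the homomorphism to Aut(R)
  let φ := R.normalizerMonoidHom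
  let L : Subgroup G := Subgroup.normalizer (R : Set G)
  let D : Subgroup L := (N ⊓ L).subgroupOf L
  have hker : φ.ker = (Subgroup.centralizer (R : Set G)).subgroupOf L :=
    Subgroup.normalizerMonoidHom_ker R
  have hRle : R.subgroupOf L ≤ φ.ker := by
    rw [hker]
    intro g hg
    rw [Subgroup.mem_subgroupOf] at hg ⊢
    rw [Subgroup.mem_centralizer_iff]
    intro h hh
    exact hRab h hh.1 hh.2 g hg.1 hg.2
  have hcardD : ¬ p ∣ Nat.card (D.map φ) := by
    rw [← Subgroup.relIndex_ker]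
    intro hdvd
    have h1 : (R.subgroupOf L).relIndex D = R.relIndex (N ⊓ L) :=
      Subgroup.relIndex_subgroupOf inf_le_right
    have h2 : R.relIndex (N ⊓ L) ∣ R.relIndex N := by
      have := Subgroup.relIndex_mul_relIndex R (N ⊓ L) N
        (le_inf inf_le_right Subgroup.le_normalizer) inf_le_left
      exact Dvd.intro _ this
    have h3 : R.relIndex N = (Q : Subgroup G).relIndex N := Subgroup.inf_relIndex_right _ _
    have h4 := ((hdvd.trans (Subgroup.relIndex_dvd_of_le_left D hRle)).trans (h1 ▸ h2))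
    rw [h3] at h4
    exact hidx Q h4
  have hxy : (⟨x, hxnorm⟩ : L) * ⟨y, hynorm⟩ ∈ φ.ker := by
    rw [hker, Subgroup.mem_subgroupOf]
    have : x * y = (n : G) * x * (n : G)⁻¹ := by rw [hy]; group
    show x * y ∈ _
    rw [this]; exact hx'
  have hφx : φ ⟨x, hxnorm⟩ = (φ ⟨y, hynorm⟩)⁻¹ := by
    rw [MonoidHom.mem_ker, map_mul] at hxy
    exact eq_inv_of_mul_eq_one_left hxy
  have hφxD : φ ⟨x, hxnorm⟩ ∈ D.map φ := by
    rw [hφx]
    apply Subgroup.inv_mem
    apply Subgroup.mem_map_of_mem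
    rw [Subgroup.mem_subgroupOf]
    exact ⟨hyN, hynorm⟩
  have hxp : (⟨x, hxnorm⟩ : L) ^ p ^ k = 1 := by
    apply Subtype.ext
    simp only [Subgroup.coe_pow, Subgroup.coe_one]
    rw [← hk]; exact pow_orderOf_eq_one x
  have hone := map_eq_one_of_coprime p φ ⟨x, hxnorm⟩ k hxp (D.map φ) hcardD hφxD
  have hxc : (⟨x, hxnorm⟩ : L) ∈ φ.ker := hone
  rw [hker, Subgroup.mem_subgroupOf, Subgroup.mem_centralizer_iff] at hxc
  exact (hxc r ⟨hrQ, hrN⟩).symm

theorem claimB (hG : CC p G) (N : Subgroup G) [N.Normal]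
    (hNab : ∀ T : Sylow p N, ∀ a ∈ T, ∀ b ∈ T, a * b = b * a)
    (hQab : ∀ T : Sylow p (G ⧸ N), ∀ a ∈ T, ∀ b ∈ T, a * b = b * a)
    (P : Sylow p G) (x : G) (hx : x ∈ P) (y : G) (hy : y ∈ P) : x * y = y * x := by
  set R : Subgroup G := (P : Subgroup G) ⊓ N with hRdef
  obtain ⟨k, hk⟩ := (IsPGroup.iff_orderOf.1 P.isPGroup') ⟨x, hx⟩
  rw [Subgroup.orderOf_mk] at hk
  have hCx := hG x ⟨k, hk⟩
  have hRC : R ≤ Subgroup.centralizer ({x} : Set G) := by
    rintro r ⟨hrP, hrN⟩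
    rw [Subgroup.mem_centralizer_iff]
    intro w hw
    rw [Set.mem_singleton_iff] at hw
    rw [hw]
    exact claimA p hG N hNab P x hx r hrP hrN
  have hRp : IsPGroup p R := P.isPGroup'.to_le inf_le_left
  obtain ⟨S, hSC, hRS⟩ := exists_sylow_le_of_not_dvd_index p _ hCx R hRp hRC
  let K : Subgroup G := Subgroup.centralizer (R : Set G)
  have hPK : (P : Subgroup G) ≤ K := by
    intro g hg
    rw [Subgroup.mem_centralizer_iff]
    rintro r ⟨hrP, hrN⟩
    exact (claimA p hG N hNab P g hg r hrP hrN).symm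
  have hSK : (S : Subgroup G) ≤ K := by
    intro g hg
    rw [Subgroup.mem_centralizer_iff]
    intro r hr
    exact (claimA p hG N hNab S g hg r (hRS hr) hr.2).symm
  -- commutators of elements of P lie in N
  have hcommN : ∀ a ∈ P, ∀ b ∈ P, a * b * a⁻¹ * b⁻¹ ∈ N := by
    intro a ha b hb
    have hpm : IsPGroup p ((P : Subgroup G).map (QuotientGroup.mk' N)) := P.isPGroup'.map _
    obtain ⟨T, hT⟩ := hpm.exists_le_sylow
    have h1 := hQab T _ (hT (Subgroup.mem_map_of_mem _ ha)) _ (hT (Subgroup.mem_map_of_mem _ hb))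
    rw [← QuotientGroup.eq_one_iff]
    have h2 : ((a * b * a⁻¹ * b⁻¹ : G) : G ⧸ N) =
        (QuotientGroup.mk' N a) * (QuotientGroup.mk' N b) * (QuotientGroup.mk' N a)⁻¹ *
          (QuotientGroup.mk' N b)⁻¹ := by
      simp
    rw [h2, h1]
    group
  -- elements of K commute with elements of R
  have hKR : ∀ g ∈ K, ∀ r ∈ R, g * r * g⁻¹ = r := by
    intro g hg r hr
    have := (Subgroup.mem_centralizer_iff.1 hg) r hr
    rw [← this]; group
  -- the subgroup C
  let C : Subgroup G :=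
    { carrier := {g | g ∈ K ∧ x * g * x⁻¹ * g⁻¹ ∈ R}
      one_mem' := ⟨K.one_mem, by simp⟩
      mul_mem' := by
        rintro g h ⟨hgK, hgR⟩ ⟨hhK, hhR⟩
        refine ⟨K.mul_mem hgK hhK, ?_⟩
        have e : x * (g * h) * x⁻¹ * (g * h)⁻¹ =
            (x * g * x⁻¹ * g⁻¹) * (g * (x * h * x⁻¹ * h⁻¹) * g⁻¹) := by group
        rw [e, hKR g hgK _ hhR]
        exact R.mul_mem hgR hhR
      inv_mem' := by
        rintro g ⟨hgK, hgR⟩
        refine ⟨K.inv_mem hgK, ?_⟩
        have e : x * g⁻¹ * x⁻¹ * g⁻¹⁻¹ = g⁻¹ * (x * g * x⁻¹ * g⁻¹)⁻¹ * g⁻¹⁻¹ := by group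
        rw [e, hKR g⁻¹ (K.inv_mem hgK) _ (R.inv_mem hgR)]
        exact R.inv_mem hgR }
  have hmemC : ∀ g, g ∈ C ↔ g ∈ K ∧ x * g * x⁻¹ * g⁻¹ ∈ R := fun g => Iff.rfl
  let θ : C →* R := MonoidHom.mk' (fun g => ⟨x * g * x⁻¹ * g⁻¹, g.2.2⟩) (by
    rintro ⟨g, hgK, hgR⟩ ⟨h, hhK, hhR⟩
    apply Subtype.ext
    show x * (g * h) * x⁻¹ * (g * h)⁻¹ = (x * g * x⁻¹ * g⁻¹) * (x * h * x⁻¹ * h⁻¹)
    have e : x * (g * h) * x⁻¹ * (g * h)⁻¹ =
        (x * g * x⁻¹ * g⁻¹) * (g * (x * h * x⁻¹ * h⁻¹) * g⁻¹) := by group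
    rw [e, hKR g hgK _ hhR])
  have hθ : ∀ g : C, ((θ g : R) : G) = x * g * x⁻¹ * (g : G)⁻¹ := fun g => rfl
  have hSC' : (S : Subgroup G) ≤ C := by
    intro g hg
    refine ⟨hSK hg, ?_⟩
    have h1 := (Subgroup.mem_centralizer_iff.1 (hSC hg)) x rfl
    have : x * g * x⁻¹ * g⁻¹ = 1 := by rw [h1]; group
    rw [this]; exact R.one_mem
  have hPC : (P : Subgroup G) ≤ C := by
    intro g hg
    refine ⟨hPK hg, ?_, hcommN x hx g hg⟩
    exact Subgroup.mul_mem _ (Subgroup.mul_mem _ (Subgroup.mul_mem _ hx hg) (Subgroup.inv_mem _ hx))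
      (Subgroup.inv_mem _ hg)
  have hSker : (S : Subgroup G).subgroupOf C ≤ θ.ker := by
    intro g hg
    rw [Subgroup.mem_subgroupOf] at hg
    rw [MonoidHom.mem_ker]
    apply Subtype.ext
    rw [hθ]
    have h1 := (Subgroup.mem_centralizer_iff.1 (hSC hg)) x rfl
    rw [h1]; simp
  -- the index of the kernel is a power of p and prime to p
  have hidx1 : θ.ker.index ∣ (S : Subgroup G).index := by
    have h1 : θ.ker.index ∣ ((S : Subgroup G).subgroupOf C).index := Subgroup.index_dvd_of_le hSker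
    exact h1.trans (Subgroup.relIndex_dvd_index_of_le hSC')
  have hidx2 : ∃ j : ℕ, θ.ker.index = p ^ j := by
    rw [Subgroup.index_ker]
    exact (hRp.to_subgroup θ.range).exists_card_eq
  obtain ⟨j, hj⟩ := hidx2
  have hj0 : j = 0 := by
    by_contra hne
    apply S.not_dvd_index
    refine dvd_trans ?_ hidx1
    rw [hj]
    exact dvd_pow_self p hne
  rw [hj0, pow_zero, Subgroup.index_eq_one] at hj
  have hyker : (⟨y, hPC hy⟩ : C) ∈ θ.ker := by rw [hj]; trivial
  rw [MonoidHom.mem_ker] at hyker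
  have h3 := congrArg (fun r : R => (r : G)) hyker
  simp only [hθ, Subgroup.coe_one] at h3
  -- x y x⁻¹ y⁻¹ = 1
  calc x * y = (x * y * x⁻¹ * y⁻¹) * (y * x) := by group
    _ = y * x := by rw [h3, one_mul]

end

/-- Let G be a finite group and p a prime such that the Sylow p-subgroups of G are non-abelian while every element of p-power order has conjugacy class size prime to p, and suppose no nontrivial proper normal subgroup N of G has this property and no quotient G/N by such an N has it. Then G is simple. -/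
theorem result {G : Type*} [Group G] [Finite G]
    (p : ℕ) [Fact p.Prime] (h : ((∃ P : Sylow p G, ¬ IsMulCommutative P) ∧ ∀ x : G, (∃ k : ℕ, orderOf x = p ^ k) → ¬ p ∣ (Subgroup.centralizer ({x} : Set G)).index))
    (hmin : ∀ (N : Subgroup G) [N.Normal], N ≠ ⊥ → N ≠ ⊤ →
      ¬ ((∃ P : Sylow p N, ¬ IsMulCommutative P) ∧ ∀ x : N, (∃ k : ℕ, orderOf x = p ^ k) → ¬ p ∣ (Subgroup.centralizer ({x} : Set N)).index) ∧
      ¬ ((∃ P : Sylow p (G ⧸ N), ¬ IsMulCommutative P) ∧ ∀ x : (G ⧸ N), (∃ k : ℕ, orderOf x = p ^ k) → ¬ p ∣ (Subgroup.centralizer ({x} : Set (G ⧸ N))).index)) :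
    IsSimpleGroup G := by
  obtain ⟨⟨P, hP⟩, hCC⟩ := h
  have hCC' : CC p G := hCC
  have hnt : Nontrivial G := by
    by_contra hnt
    rw [not_nontrivial_iff_subsingleton] at hnt
    apply hP
    exact IsMulCommutative.of_comm (fun a b => Subsingleton.elim _ _)
  refine { toNontrivial := hnt, eq_bot_or_eq_top_of_normal := fun N hN => ?_ }
  by_contra hcon
  push Not at hcon
  obtain ⟨hbot, htop⟩ := hcon
  obtain ⟨h1, h2⟩ := hmin N hbot htop
  have hNab : ∀ T : Sylow p N, ∀ a ∈ T, ∀ b ∈ T, a * b = b * a := by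
    intro T
    by_contra hc
    apply h1
    refine ⟨⟨T, ?_⟩, CC_normal p hCC' N⟩
    intro hcomm
    apply hc
    intro a ha b hb
    have := isMulCommutative_iff.1 hcomm ⟨a, ha⟩ ⟨b, hb⟩
    exact congrArg Subtype.val this
  have hQab : ∀ T : Sylow p (G ⧸ N), ∀ a ∈ T, ∀ b ∈ T, a * b = b * a := by
    intro T
    by_contra hc
    apply h2
    refine ⟨⟨T, ?_⟩, CC_quotient p hCC' N⟩
    intro hcomm
    apply hc
    intro a ha b hb
    have := isMulCommutative_iff.1 hcomm ⟨a, ha⟩ ⟨b, hb⟩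
    exact congrArg Subtype.val this
  apply hP
  refine IsMulCommutative.of_comm (fun a b => ?_)
  apply Subtype.ext
  exact claimB p hCC' N hNab hQab P a a.2 b b.2

end Cfsg.Agent.S4354
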