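import Cfsg.Statements.S4358
import Cfsg.Agent.Helper42.RedD2
import Cfsg.Agent.Helper42.RedE2

set_option autoImplicit false
open Cfsg

namespace Cfsg.Agent.S4358

/-- Let p be an odd prime and F a finite field with q elements such that p divides q - 1 but p² does not. Then GL(p, F) has a Sylow p-subgroup Q such that every element of p-power order lies in some Sylow p-subgroup other than Q (a redundant Sylow p-subgroup). -/
theorem result {F : Type*} [Field F] [Fintype F] (p : ℕ) [Fact p.Prime]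
    (hp : p ≠ 2) (h1 : p ∣ Fintype.card F - 1) (h2 : ¬ p ^ 2 ∣ Fintype.card F - 1) :
    ∃ Q : Sylow p (Matrix.GeneralLinearGroup (Fin p) F), ∀ x : Matrix.GeneralLinearGroup (Fin p) F,
      (∃ k : ℕ, orderOf x = p ^ k) → ∃ P : Sylow p (Matrix.GeneralLinearGroup (Fin p) F), P ≠ Q ∧ x ∈ P := by
  classical
  haveI : NeZero p := ⟨(Fact.out : p.Prime).ne_zero⟩
  refine ⟨Cfsg.Agent.Helper42.redSylow hp h1 h2, ?_⟩
  rintro x ⟨k, hk⟩
  by_cases hxQ : x ∈ ((Cfsg.Agent.Helper42.redSylow hp h1 h2 :
      Sylow p (Matrix.GeneralLinearGroup (Fin p) F)) : Subgroup (Matrix.GeneralLinearGroup (Fin p) F))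
  · rw [Cfsg.Agent.Helper42.coe_redSylow] at hxQ
    obtain ⟨d, a, hd, rfl⟩ := Cfsg.Agent.Helper42.mem_redQ.1 hxQ
    by_cases ha : a = 0
    · subst ha
      by_cases hinj : Function.Injective d
      · exact Cfsg.Agent.Helper42.redundant_diag_injective hp h1 h2 d hd hinj
      · rw [Function.not_injective_iff] at hinj
        obtain ⟨i, j, hij, hne⟩ := hinj
        exact Cfsg.Agent.Helper42.redundant_diag_repeat hp h1 h2 d hd hne hij
    · by_cases hone : (∏ l, d l) = 1
      · exact Cfsg.Agent.Helper42.redundant_offdiag_one hp h1 h2 d hd ha hone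
      · exact Cfsg.Agent.Helper42.redundant_offdiag_ne_one hp h1 h2 d hd ha hone
  · have hP : IsPGroup p (Subgroup.zpowers x) :=
      IsPGroup.of_card (n := k) (by rw [Nat.card_zpowers, hk])
    obtain ⟨P, hP⟩ := hP.exists_le_sylow
    refine ⟨P, ?_, hP (Subgroup.mem_zpowers x)⟩
    intro h
    apply hxQ
    rw [← h]
    exact hP (Subgroup.mem_zpowers x)

end Cfsg.Agent.S4358
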