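import Cfsg.Statements.S4376
import Cfsg.Agent.Helper62.Piwek.GL32Counts
import Cfsg.Agent.Helper62.Piwek.X00
import Cfsg.Agent.Helper62.Piwek.X01
import Cfsg.Agent.Helper62.Piwek.X02
import Cfsg.Agent.Helper62.Piwek.X03
import Cfsg.Agent.Helper62.Piwek.X04
import Cfsg.Agent.Helper62.Piwek.X05
import Cfsg.Agent.Helper62.Piwek.X06
import Cfsg.Agent.Helper62.Piwek.X07
import Cfsg.Agent.Helper62.Piwek.X08
import Cfsg.Agent.Helper62.Piwek.X09
import Cfsg.Agent.Helper62.Piwek.X10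
import Cfsg.Agent.Helper62.Piwek.X11
import Cfsg.Agent.Helper62.Piwek.X12
import Cfsg.Agent.Helper62.Piwek.X13
import Cfsg.Agent.Helper62.Piwek.X14

set_option autoImplicit false
set_option synthInstance.maxHeartbeats 2000000
set_option synthInstance.maxSize 2048
set_option maxRecDepth 100000
set_option maxHeartbeats 4000000
open Cfsg
open Cfsg.Agent.Helper62.Piwek

namespace Cfsg.Agent.S4376

/-- the solvable group: a direct product of small split extensions -/
abbrev PG : Type := (Fin 30 → X00.X) × (Fin 3 → X02.X) × (Fin 6 → X04.X) × (Fin 8 → X07.X) × (Fin 6 → X08.X) × (Fin 6 → X10.X) × (Fin 5 → X11.X) × (Fin 6 → X14.X)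

/-- the non-solvable group: `GL₃(𝔽₂)^6` times a direct product of small solvable groups -/
abbrev PH : Type := (Fin 6 → Y) × (Fin 44 → X01.X) × (Fin 8 → X03.X) × (Fin 6 → X05.X) × (Fin 9 → X06.X) × (Fin 1 → X09.X) × (Fin 2 → X12.X) × (Fin 2 → X13.X)

/-- the power counts of `PG` -/
def Gtab (d : ℕ) : ℕ := X00.tab d ^ 30 * (X02.tab d ^ 3 * (X04.tab d ^ 6 * (X07.tab d ^ 8 * (X08.tab d ^ 6 * (X10.tab d ^ 6 * (X11.tab d ^ 5 * (X14.tab d ^ 6)))))))

/-- the power counts of `PH` -/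
def Htab (d : ℕ) : ℕ := Ytab d ^ 6 * (X01.tab d ^ 44 * (X03.tab d ^ 8 * (X05.tab d ^ 6 * (X06.tab d ^ 9 * (X09.tab d ^ 1 * (X12.tab d ^ 2 * (X13.tab d ^ 2)))))))

theorem tab_eq : ∀ d ∈ Nat.divisors 84, Gtab d = Htab d := by decide +kernel

theorem G_pc (d : ℕ) (hd : d ∈ Nat.divisors 84) : powCount PG d = Gtab d := by
  unfold Gtab
  simp only [powCount_prod, powCount_pi_fin]
  rw [X00.pc_tab d hd, X02.pc_tab d hd, X04.pc_tab d hd, X07.pc_tab d hd, X08.pc_tab d hd, X10.pc_tab d hd, X11.pc_tab d hd, X14.pc_tab d hd]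

theorem H_pc (d : ℕ) (hd : d ∈ Nat.divisors 84) : powCount PH d = Htab d := by
  unfold Htab
  simp only [powCount_prod, powCount_pi_fin]
  rw [Ypc_tab d hd, X01.pc_tab d hd, X03.pc_tab d hd, X05.pc_tab d hd, X06.pc_tab d hd, X09.pc_tab d hd, X12.pc_tab d hd, X13.pc_tab d hd]

theorem G_exp (x : PG) : x ^ 84 = 1 :=
  (pow_eq_one_prod (pow_eq_one_pi X00.exp84) (pow_eq_one_prod (pow_eq_one_pi X02.exp84) (pow_eq_one_prod (pow_eq_one_pi X04.exp84) (pow_eq_one_prod (pow_eq_one_pi X07.exp84) (pow_eq_one_prod (pow_eq_one_pi X08.exp84) (pow_eq_one_prod (pow_eq_one_pi X10.exp84) (pow_eq_one_prod (pow_eq_one_pi X11.exp84) (pow_eq_one_pi X14.exp84)))))))) x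

theorem H_exp (x : PH) : x ^ 84 = 1 :=
  (pow_eq_one_prod (pow_eq_one_pi Y_exp84) (pow_eq_one_prod (pow_eq_one_pi X01.exp84) (pow_eq_one_prod (pow_eq_one_pi X03.exp84) (pow_eq_one_prod (pow_eq_one_pi X05.exp84) (pow_eq_one_prod (pow_eq_one_pi X06.exp84) (pow_eq_one_prod (pow_eq_one_pi X09.exp84) (pow_eq_one_prod (pow_eq_one_pi X12.exp84) (pow_eq_one_pi X13.exp84)))))))) x

theorem pc_eq (n : ℕ) (_hn : 0 < n) : powCount PG n = powCount PH n := by
  rw [powCount_eq_gcd G_exp n, powCount_eq_gcd H_exp n, G_pc _ (gcd_84_mem n),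
    H_pc _ (gcd_84_mem n)]
  exact tab_eq _ (gcd_84_mem n)

/-- projection of `PH` onto one factor `GL₃(𝔽₂)` -/
def toY : PH →* Y := (Pi.evalMonoidHom (fun _ : Fin 6 => Y) 0).comp (MonoidHom.fst _ _)

theorem toY_surjective : Function.Surjective toY := by
  intro y
  exact ⟨(fun _ => y, 1), rfl⟩

theorem PH_not_solvable : ¬ Group.IsSolvable PH := fun _ =>
  Y_not_solvable (Group.isSolvable_of_surjective toY_surjective)

/-- There are finite groups G and H having the same number of elements of each order (the same order type) with G solvable and H not solvable. -/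
theorem result :
    ∃ (G : Type) (_ : Group G) (_ : Finite G) (H : Type) (_ : Group H) (_ : Finite H),
      Group.IsSolvable G ∧ ¬ Group.IsSolvable H ∧ ∀ n : ℕ, Nat.card {g : G // orderOf g = n} = Nat.card {h : H // orderOf h = n} := by
  exact ⟨PG, inferInstance, inferInstance, PH, inferInstance, inferInstance, inferInstance,
    PH_not_solvable, card_orderOf_eq_of_powCount_eq pc_eq⟩

end Cfsg.Agent.S4376
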