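import Cfsg.Statements.S4381
import Cfsg.Agent.Helper29.Maschke
import Cfsg.Agent.Helper29.ExternalSylow
import Cfsg.Agent.S0012

set_option autoImplicit false
open Pointwise
open Cfsg

namespace Cfsg.Agent.S4381

section
variable (A : Type*) {G : Type*} [Group A] [Group G] [MulDistribMulAction A G]

/-- `A`-invariance of a subgroup. -/
@[reducible] def Inv (L : Subgroup G) : Prop := ∀ a : A, ∀ x ∈ L, a • x ∈ L

/-- maximal `A`-invariant subgroups. -/
@[reducible] def MaxInv (M : Subgroup G) : Prop :=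
  M ≠ ⊤ ∧ Inv A M ∧ ∀ L : Subgroup G, M < L → Inv A L → L = ⊤

variable {A}

theorem Inv.smul_mem_iff {L : Subgroup G} (hL : Inv A L) (a : A) (x : G) : a • x ∈ L ↔ x ∈ L := by
  constructor
  · intro h
    have := hL a⁻¹ _ h
    rwa [inv_smul_smul] at this
  · exact hL a x

theorem inv_frattini : Inv A (frattini G) := by
  intro a x hx
  have h := (frattini_characteristic (G := G)).fixed (MulDistribMulAction.toMulEquiv G a⁻¹)
  rw [← h, Subgroup.mem_comap]
  simpa using hx

theorem inv_bot : Inv A (⊥ : Subgroup G) := by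
  intro a x hx
  rw [Subgroup.mem_bot] at hx ⊢
  rw [hx, smul_one]

theorem Inv.sup {L₁ L₂ : Subgroup G} (h₁ : Inv A L₁) (h₂ : Inv A L₂) : Inv A (L₁ ⊔ L₂) := by
  intro a x hx
  have : L₁ ⊔ L₂ ≤ (L₁ ⊔ L₂).comap (MulDistribMulAction.toMonoidHom G a) :=
    sup_le (fun y hy => Subgroup.mem_comap.mpr (Subgroup.mem_sup_left (h₁ a y hy)))
      (fun y hy => Subgroup.mem_comap.mpr (Subgroup.mem_sup_right (h₂ a y hy)))
  exact this hx

theorem inv_normalizer {M : Subgroup G} (hM : Inv A M) :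
    Inv A (Subgroup.normalizer (M : Set G)) := by
  intro a x hx
  rw [Subgroup.mem_normalizer_iff] at hx ⊢
  intro h
  have h1 : a • x * h * (a • x)⁻¹ = a • (x * (a⁻¹ • h) * x⁻¹) := by
    rw [smul_mul', smul_mul', smul_inv', smul_inv_smul]
  rw [h1, hM.smul_mem_iff, ← hx, hM.smul_mem_iff]

theorem exists_maxInv_ge [Finite G] {L : Subgroup G} (hL : Inv A L) (hLtop : L ≠ ⊤) :
    ∃ M : Subgroup G, L ≤ M ∧ MaxInv A M := by
  obtain ⟨M, hLM, hM⟩ := Finite.exists_le_maximal (p := fun M : Subgroup G => M ≠ ⊤ ∧ Inv A M)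
    (a := L) ⟨hLtop, hL⟩
  refine ⟨M, hLM, hM.prop.1, hM.prop.2, fun L' hML' hL' => ?_⟩
  by_contra hne
  exact absurd (hM.le_of_ge ⟨hne, hL'⟩ hML'.le) (not_le_of_gt hML')

theorem frattini_le_of_maxInv [Finite G] {M : Subgroup G} (hM : MaxInv A M) : frattini G ≤ M := by
  by_contra hnot
  have hlt : M < M ⊔ frattini G := by
    refine lt_of_le_of_ne le_sup_left fun h => hnot ?_
    rw [h]
    exact le_sup_right
  have htop := hM.2.2 _ hlt (hM.2.1.sup inv_frattini)
  exact hM.1 (frattini_nongenerating htop)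

theorem maxInv_iff_of_irred [Finite G]
    (hirr : ∀ L : Subgroup G, frattini G < L → Inv A L → L = ⊤) (M : Subgroup G) :
    MaxInv A M ↔ (M = frattini G ∧ M ≠ ⊤) := by
  constructor
  · intro hM
    refine ⟨?_, hM.1⟩
    have hle := frattini_le_of_maxInv hM
    by_contra hne
    exact hM.1 (hirr M (lt_of_le_of_ne hle (Ne.symm hne)) hM.2.1)
  · rintro ⟨rfl, hne⟩
    exact ⟨hne, inv_frattini, fun L hL hLinv => hirr L hL hLinv⟩

end

section main
variable {A G : Type*} [Group A] [Finite A] [Group G] [Finite G] [MulDistribMulAction A G]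

theorem exists_prime_isPGroup (hcop : (Nat.card A).Coprime (Nat.card G))
    (hsol : Group.IsSolvable A ∨ Group.IsSolvable G)
    (hconj : ∀ M N : Subgroup G, MaxInv A M → MaxInv A N → ∃ c : G, N = MulAut.conj c • M) :
    ∃ p : ℕ, p.Prime ∧ IsPGroup p G := by
  by_cases htriv : Nat.card G = 1
  · exact ⟨2, Nat.prime_two, IsPGroup.of_card (n := 0) (by rw [htriv, pow_zero])⟩
  by_contra hno
  push Not at hno
  haveI : Nontrivial G := by
    rw [← Finite.one_lt_card_iff_nontrivial]
    have : Nat.card G ≠ 0 := Nat.card_pos.ne'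
    omega
  obtain ⟨M0, -, hM0⟩ := exists_maxInv_ge (A := A) (inv_bot (G := G)) bot_ne_top
  have hdvd : Nat.card G ∣ Nat.card M0 := by
    rw [← Nat.factorization_prime_le_iff_dvd Nat.card_pos.ne' Nat.card_pos.ne']
    intro q hq
    haveI : Fact q.Prime := ⟨hq⟩
    obtain ⟨Q, hQ⟩ := Cfsg.Agent.Helper29.exists_invariant_sylow_ext hcop hsol q
    have hQtop : (Q : Subgroup G) ≠ ⊤ := by
      intro h
      apply hno q hq
      intro g
      obtain ⟨k, hk⟩ := Q.isPGroup' ⟨g, h ▸ Subgroup.mem_top g⟩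
      exact ⟨k, by simpa [Subtype.ext_iff] using hk⟩
    obtain ⟨M1, hQM1, hM1⟩ := exists_maxInv_ge (A := A) hQ hQtop
    obtain ⟨c, hc⟩ := hconj M0 M1 hM0 hM1
    have hcard : Nat.card M1 = Nat.card M0 := by
      rw [hc]
      exact (Nat.card_congr (Subgroup.equivSMul (MulAut.conj c) M0).toEquiv).symm
    have h1 : q ^ (Nat.card G).factorization q ∣ Nat.card M0 := by
      rw [← hcard, ← Q.card_eq_multiplicity]
      exact Subgroup.card_dvd_of_le hQM1
    exact (hq.pow_dvd_iff_le_factorization Nat.card_pos.ne').mp h1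
  have hle : Nat.card M0 ≤ Nat.card G := Subgroup.card_le_card_group M0
  have : Nat.card M0 = Nat.card G := le_antisymm hle (Nat.le_of_dvd Nat.card_pos hdvd)
  exact hM0.1 ((Subgroup.card_eq_iff_eq_top M0).mp this)

theorem normal_of_maxInv {p : ℕ} [Fact p.Prime] (hG : IsPGroup p G) {M : Subgroup G}
    (hM : MaxInv A M) : M.Normal := by
  haveI : Group.IsNilpotent G := hG.isNilpotent
  have hlt : M < Subgroup.normalizer (M : Set G) :=
    normalizerCondition_of_isNilpotent M (lt_top_iff_ne_top.mpr hM.1)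
  have := hM.2.2 _ hlt (inv_normalizer hM.2.1)
  exact Subgroup.normalizer_eq_top_iff.mp this

theorem irred_of_conj {p : ℕ} [hp : Fact p.Prime] (hG : IsPGroup p G)
    (hcop : (Nat.card A).Coprime (Nat.card G))
    (hconj : ∀ M N : Subgroup G, MaxInv A M → MaxInv A N → ∃ c : G, N = MulAut.conj c • M)
    (L : Subgroup G) (hΦL : frattini G < L) (hL : Inv A L) : L = ⊤ := by
  by_contra hLtop
  obtain ⟨hcomm, hpow⟩ := Cfsg.Agent.S0012.result p hG
  haveI : (frattini G).Normal := inferInstance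
  letI act : MulDistribMulAction A (G ⧸ frattini G) :=
    Cfsg.Agent.Helper29.quotientAction (frattini G) inv_frattini
  have hact : ∀ (a : A) (x : G), a • (x : G ⧸ frattini G) = ((a • x : G) : G ⧸ frattini G) :=
    fun _ _ => rfl
  have hcommV : ∀ x y : G ⧸ frattini G, x * y = y * x := by
    haveI := Subgroup.Normal.quotient_commutative_iff_commutator_le.mpr hcomm
    exact fun x y => mul_comm' x y
  have hexpV : ∀ x : G ⧸ frattini G, x ^ p = 1 := by
    intro x
    induction x using QuotientGroup.induction_on with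
    | H x =>
      rw [← QuotientGroup.mk_pow, QuotientGroup.eq_one_iff]
      exact hpow x
  have hcopV : (Nat.card A).Coprime (Nat.card (G ⧸ frattini G)) :=
    hcop.coprime_dvd_right (Subgroup.card_quotient_dvd_card _)
  set π : G →* G ⧸ frattini G := QuotientGroup.mk' (frattini G) with hπ
  have hπsurj : Function.Surjective π := QuotientGroup.mk'_surjective _
  have hπker : π.ker = frattini G := QuotientGroup.ker_mk' _
  have hπact : ∀ (a : A) (x : G), π (a • x) = a • π x := fun a x => (hact a x).symm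
  have hLbar : ∀ a : A, ∀ v ∈ L.map π, a • v ∈ L.map π := by
    rintro a _ ⟨x, hx, rfl⟩
    rw [← hπact]
    exact Subgroup.mem_map_of_mem _ (hL a x hx)
  obtain ⟨U, hU1, hU2⟩ :=
    Cfsg.Agent.Helper29.exists_compl_of_exponent_prime hp.out hcommV hexpV (L.map π)
  obtain ⟨Kb, hKbinv, hK1, hK2⟩ :=
    Cfsg.Agent.Helper29.exists_invariant_compl hcommV hcopV (L.map π) U hLbar hU1 hU2
  set K : Subgroup G := Kb.comap π with hK
  have hKinv : Inv A K := by
    intro a x hx
    rw [hK, Subgroup.mem_comap] at hx ⊢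
    rw [hπact]
    exact hKbinv a _ hx
  have hKmap : K.map π = Kb := Subgroup.map_comap_eq_self_of_surjective hπsurj Kb
  have hLK : L ⊔ K = ⊤ := by
    have h1 : (L ⊔ K).map π = ⊤ := by rw [Subgroup.map_sup, hKmap, hK2]
    have h2 : π.ker ≤ L ⊔ K := by rw [hπker]; exact hΦL.le.trans le_sup_left
    rw [← Subgroup.comap_map_eq_self h2, h1, Subgroup.comap_top]
  have hKtop : K ≠ ⊤ := by
    intro h
    have hKb : Kb = ⊤ := by
      rw [← hKmap, h, ← MonoidHom.range_eq_map, MonoidHom.range_eq_top]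
      exact hπsurj
    rw [hKb, inf_top_eq] at hK1
    have : L ≤ π.ker := (Subgroup.map_eq_bot_iff _).mp hK1
    rw [hπker] at this
    exact absurd this (not_le_of_gt hΦL)
  obtain ⟨M1, hLM1, hM1⟩ := exists_maxInv_ge hL hLtop
  obtain ⟨M2, hKM2, hM2⟩ := exists_maxInv_ge hKinv hKtop
  obtain ⟨c, hc⟩ := hconj M1 M2 hM1 hM2
  haveI := normal_of_maxInv hG hM1
  rw [Subgroup.Normal.conj_smul_eq_self] at hc
  have : (⊤ : Subgroup G) ≤ M1 := by
    rw [← hLK]
    exact sup_le hLM1 (hc ▸ hKM2)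
  exact hM1.1 (top_le_iff.mp this)

end main

/-- Let the finite group A act by automorphisms on the finite group G with the orders of A and G coprime, and assume that A or G is solvable. Call a proper A-invariant subgroup of G maximal A-invariant when no A-invariant subgroup lies strictly between it and G. Then all maximal A-invariant subgroups of G are conjugate under elements of the fixed-point subgroup C_G(A) if and only if G is a p-group for some prime p and A leaves invariant no subgroup strictly between the Frattini subgroup of G and G. In that case, if G is nontrivial, the Frattini subgroup is the only maximal A-invariant subgroup (a trivial G has none). -/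
theorem result {A G : Type*} [Group A] [Finite A]
    [Group G] [Finite G] [MulDistribMulAction A G] (hcop : (Nat.card A).Coprime (Nat.card G)) (hsol : Group.IsSolvable A ∨ Group.IsSolvable G) :
    ((∀ M N : Subgroup G, (M ≠ ⊤ ∧ (∀ a : A, ∀ x ∈ M, a • x ∈ M) ∧ ∀ L : Subgroup G, M < L → (∀ a : A, ∀ x ∈ L, a • x ∈ L) → L = ⊤) → (N ≠ ⊤ ∧ (∀ a : A, ∀ x ∈ N, a • x ∈ N) ∧ ∀ L : Subgroup G, N < L → (∀ a : A, ∀ x ∈ L, a • x ∈ L) → L = ⊤) →
        ∃ c : G, (∀ a : A, a • c = c) ∧ N = MulAut.conj c • M) ↔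
      ((∃ p : ℕ, p.Prime ∧ IsPGroup p G) ∧ ∀ L : Subgroup G, frattini G < L → (∀ a : A, ∀ x ∈ L, a • x ∈ L) → L = ⊤)) ∧
    (((∃ p : ℕ, p.Prime ∧ IsPGroup p G) ∧ ∀ L : Subgroup G, frattini G < L → (∀ a : A, ∀ x ∈ L, a • x ∈ L) → L = ⊤) →
      ∀ M : Subgroup G, (M ≠ ⊤ ∧ (∀ a : A, ∀ x ∈ M, a • x ∈ M) ∧ ∀ L : Subgroup G, M < L → (∀ a : A, ∀ x ∈ L, a • x ∈ L) → L = ⊤) ↔ (M = frattini G ∧ M ≠ ⊤)) := by
  refine ⟨⟨fun hconj => ?_, fun hR M N hM hN => ?_⟩, fun hR M => maxInv_iff_of_irred hR.2 M⟩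
  · have hconj' : ∀ M N : Subgroup G, MaxInv A M → MaxInv A N → ∃ c : G, N = MulAut.conj c • M := by
      intro M N hM hN
      obtain ⟨c, -, hc⟩ := hconj M N hM hN
      exact ⟨c, hc⟩
    obtain ⟨p, hp, hG⟩ := exists_prime_isPGroup hcop hsol hconj'
    haveI : Fact p.Prime := ⟨hp⟩
    exact ⟨⟨p, hp, hG⟩, fun L hΦL hL => irred_of_conj hG hcop hconj' L hΦL hL⟩
  · have h1 := (maxInv_iff_of_irred (A := A) hR.2 M).mp hM
    have h2 := (maxInv_iff_of_irred (A := A) hR.2 N).mp hN
    refine ⟨1, fun a => smul_one a, ?_⟩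
    rw [h1.1, h2.1, map_one, one_smul]

end Cfsg.Agent.S4381
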