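-- Statement S4387: all maximal subgroups conjugate implies cyclic of prime power order.
import Cfsg.Statements.S4387

set_option autoImplicit false
open Pointwise
open Cfsg

namespace Cfsg.Agent.S4387

theorem index_conj_smul {G : Type*} [Group G] (g : G) (M : Subgroup G) :
    (MulAut.conj g • M).index = M.index := by
  have : MulAut.conj g • M = M.map ((MulAut.conj g : G ≃* G) : G →* G) := rfl
  rw [this, Subgroup.index_map_equiv]

/-- Let G be a non-trivial finite group in which any two maximal subgroups are conjugate. Then G is cyclic of prime-power order. -/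
theorem result {G : Type*} [Group G] [Finite G] [Nontrivial G]
    (h : ∀ M N : Subgroup G, IsCoatom M → IsCoatom N → ∃ g : G, N = MulAut.conj g • M) :
    IsCyclic G ∧ IsPrimePow (Nat.card G) := by
  classical
  -- a maximal subgroup exists
  obtain ⟨M, hM⟩ : ∃ M : Subgroup G, IsCoatom M := by
    rcases eq_top_or_exists_le_coatom (⊥ : Subgroup G) with h0 | ⟨M, hM, -⟩
    · exact absurd h0 bot_ne_top
    · exact ⟨M, hM⟩
  have hMtop : M ≠ ⊤ := hM.1
  have hidx1 : M.index ≠ 1 := fun h1 => hMtop (Subgroup.index_eq_one.1 h1)
  set p := (M.index).minFac with hp_def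
  have hp : p.Prime := Nat.minFac_prime hidx1
  have hpdvd : p ∣ M.index := Nat.minFac_dvd _
  have : Fact p.Prime := ⟨hp⟩
  -- the Sylow p-subgroup is everything
  let P : Sylow p G := default
  have hPtop : (P : Subgroup G) = ⊤ := by
    by_contra hne
    rcases eq_top_or_exists_le_coatom (P : Subgroup G) with h0 | ⟨N, hN, hPN⟩
    · exact hne h0
    · obtain ⟨g, hg⟩ := h M N hM hN
      have h1 : N.index = M.index := by rw [hg, index_conj_smul]
      have h2 : N.index ∣ (P : Subgroup G).index := Subgroup.index_dvd_of_le hPN
      have h3 : ¬ p ∣ (P : Subgroup G).index := P.not_dvd_index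
      exact h3 (dvd_trans (h1 ▸ hpdvd) h2)
  have hcard : Nat.card G = p ^ (Nat.card G).factorization p := by
    have := P.card_eq_multiplicity
    rw [hPtop, Subgroup.card_top] at this
    exact this
  have hpG : IsPGroup p G := IsPGroup.of_card hcard
  have : Group.IsNilpotent G := hpG.isNilpotent
  have hnc : NormalizerCondition G := Group.normalizerCondition_of_isNilpotent
  have hMn : M.Normal := Subgroup.NormalizerCondition.normal_of_coatom M hnc hM
  -- M is the unique maximal subgroup
  have huniq : ∀ N : Subgroup G, IsCoatom N → N = M := by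
    intro N hN
    obtain ⟨g, hg⟩ := h M N hM hN
    rw [hg]
    exact Subgroup.Normal.conj_smul_eq_self g M
  obtain ⟨x, -, hx⟩ := SetLike.exists_of_lt (lt_top_iff_ne_top.2 hMtop)
  have hxtop : Subgroup.zpowers x = ⊤ := by
    rcases eq_top_or_exists_le_coatom (Subgroup.zpowers x) with h0 | ⟨N, hN, hxN⟩
    · exact h0
    · exfalso
      rw [huniq N hN] at hxN
      exact hx (hxN (Subgroup.mem_zpowers x))
  refine ⟨⟨⟨x, fun y => ?_⟩⟩, ?_⟩
  · have : y ∈ Subgroup.zpowers x := by rw [hxtop]; trivial
    exact this
  · have hone : 1 < Nat.card G := Finite.one_lt_card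
    refine ⟨p, (Nat.card G).factorization p, hp.prime, ?_, hcard.symm⟩
    rcases Nat.eq_zero_or_pos ((Nat.card G).factorization p) with h0 | h0
    · rw [h0, pow_zero] at hcard
      omega
    · exact h0

end Cfsg.Agent.S4387
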