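import Mathlib
import Cfsg.Statements.S4394
import Cfsg.Agent.Helper71.SchMain
import Cfsg.Agent.Helper14.SchA1
import Cfsg.Agent.Helper37.SchA2a
import Cfsg.Agent.Helper71.SchA2b
import Cfsg.Agent.Helper67.SchA2c

set_option autoImplicit false
open Cfsg

namespace Cfsg.Agent.S4394

open scoped commutatorElement
open Cfsg.Agent.Helper71.Sch

/-- assembly of Part A: a `SchAut` forces the Schmidt-type properties. -/
theorem schType_of_aut {P₀ : Type*} [Group P₀] [Finite P₀] {p q : ℕ} [Fact p.Prime]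
    (hP : IsPGroup p P₀) (φ : MulAut P₀) (hφ : SchAut p q φ) : SchType p P₀ := by
  by_cases hnc : Subgroup.center P₀ = ⊤
  · refine ⟨fun x y => by rw [hnc]; trivial, fun x => by rw [hnc]; trivial,
      fun u hu => absurd (by rw [hnc]; trivial) hu, fun hc => ?_⟩
    exfalso
    rw [hnc, Subgroup.card_top] at hc
    have hpos : 0 < Nat.card P₀ := Nat.card_pos
    have hp1 : 1 < p ^ 2 := Nat.one_lt_pow (by norm_num) (Fact.out : p.Prime).one_lt
    nlinarith
  · obtain ⟨hfix, hcomm, hpow⟩ := Cfsg.Agent.Helper37.Sch.fixed_iff_center hP φ hφ hnc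
    exact ⟨hcomm, hpow, Cfsg.Agent.Helper71.Sch.surj_of_schAut hP φ hφ hfix hcomm,
      Cfsg.Agent.Helper67.Sch.small_of_schAut hP φ hφ hfix hcomm hpow⟩

/-- Let X be a finite minimal non-nilpotent group (not nilpotent, every proper subgroup nilpotent) with a nontrivial normal Sylow p-subgroup P. If G is a finite p-solvable group whose Sylow p-subgroups are isomorphic to P, then G has p-length at most 1. -/
theorem result {G X : Type*} [Group G] [Finite G] [Group X] [Finite X] (p : ℕ) [Fact p.Prime]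
    (hX : Cfsg.IsMinimalNonNilpotent X) (P : Sylow p X) (hPn : (P : Subgroup X).Normal) (hP1 : (P : Subgroup X) ≠ ⊥)
    (hG : Cfsg.IsPSolvable p G) (Q : Sylow p G) (hQ : Nonempty (↥(Q : Subgroup G) ≃* ↥(P : Subgroup X))) : Cfsg.PLengthLE p 1 G := by
  obtain ⟨q, φ, hφ⟩ := Cfsg.Agent.Helper14.Sch.exists_aut_of_minimalNonNilpotent p hX P hPn hP1
  obtain ⟨e⟩ := hQ
  exact pLengthLE_one_of_schType (schType_of_aut P.isPGroup' φ hφ) hG Q e

end Cfsg.Agent.S4394
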