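import Mathlib
import Cfsg.Statements.S4396
import Cfsg.Agent.Helper68.FrobFreeMain

set_option autoImplicit false
open Cfsg
open scoped Pointwise

namespace Cfsg.Agent.S4396

open Cfsg.Agent.Helper68 in
/-- Let the finite group A act faithfully and linearly on a finite-dimensional vector space V over a field k, and suppose A is a Frobenius group with nilpotent kernel F (every Frobenius kernel is nilpotent) and complement H such that F fixes no nonzero vector. Then V is free as a module for H: there is a subspace W with V the direct sum of the translates hW, h ∈ H. (No assumption on the characteristic of k.) -/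
theorem result {k V A : Type*} [Field k] [AddCommGroup V] [Module k V] [FiniteDimensional k V] [Group A] [Finite A] [DecidableEq A]
    (ρ : Representation k A V) (hρ : Function.Injective ρ)
    (Fk Hc : Subgroup A) [Fk.Normal] (hHc : Cfsg.IsFrobeniusComplement Hc) (hker : Cfsg.frobeniusKernel Hc = (Fk : Set A)) (hnil : Group.IsNilpotent ↥Fk)
    (hCF : ∀ v : V, (∀ f ∈ Fk, ρ f v = v) → v = 0) :
    ∃ W : Submodule k V, DirectSum.IsInternal (fun h : ↥Hc => W.map (ρ (h : A))) := by
  let act : Hc →* MulAut Fk := (MulAut.conjNormal (H := Fk)).comp Hc.subtype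
  have hact : ∀ (h : Hc) (f : Fk), ((act h f : Fk) : A) = (h : A) * f * (h : A)⁻¹ :=
    fun h f => rfl
  have hfpf : ∀ h : Hc, h ≠ 1 → ∀ f : Fk, act h f = f → f = 1 := by
    intro h hh f hf
    by_contra hf1
    have hfA : (f : A) ≠ 1 := fun h' => hf1 (Subtype.ext h')
    have hfk : (f : A) ∈ Cfsg.frobeniusKernel Hc := by rw [hker]; exact f.2
    rcases hfk with h1 | h2
    · exact hfA h1
    · have hfH : (f : A) ∉ Hc := by
        intro hmem
        apply h2 1
        rw [map_one, one_smul]
        exact hmem
      have hbot := hHc.2.2 (f : A) hfH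
      have hcomm : (h : A) * f * (h : A)⁻¹ = f := by
        rw [← hact, hf]
      have hmem : (h : A) ∈ Hc ⊓ (MulAut.conj (f : A) • Hc) := by
        refine ⟨h.2, ?_⟩
        change (h : A) ∈ MulAut.conj (f : A) • Hc
        rw [Subgroup.mem_smul_pointwise_iff_exists]
        refine ⟨h, h.2, ?_⟩
        rw [MulAut.smul_def, MulAut.conj_apply]
        have : (f : A) * h = h * f := by
          rw [mul_inv_eq_iff_eq_mul] at hcomm
          exact hcomm.symm
        rw [this, mul_inv_cancel_right]
      rw [hbot, Subgroup.mem_bot] at hmem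
      exact hh (Subtype.ext hmem)
  let ρF : Fk →* Module.End k V := ρ.comp Fk.subtype
  let ρH : Hc →* Module.End k V := ρ.comp Hc.subtype
  have hcompat : ∀ h f, ρH h * ρF f = ρF (act h f) * ρH h := by
    intro h f
    change ρ (h : A) * ρ (f : A) = ρ ((act h f : Fk) : A) * ρ (h : A)
    rw [hact, ← map_mul, ← map_mul, inv_mul_cancel_right]
  have hCF' : ∀ v : V, (∀ f : Fk, ρF f v = v) → v = 0 :=
    fun v hv => hCF v (fun f hf => hv ⟨f, hf⟩)
  have := hnil
  let _ : Fintype Hc := Fintype.ofFinite Hc
  obtain ⟨π, hπ⟩ := frob_free_main (k := k) (F := Fk) _ Hc V act hfpf ρF ρH hcompat hCF' rfl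
  exact ⟨LinearMap.range π, isInternal_of_relFree ρH hπ⟩

end Cfsg.Agent.S4396
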