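import Cfsg.Statements.S4397
import Cfsg.Agent.Helper63.Meta2D
import Cfsg.Agent.Helper63.PGroup

set_option autoImplicit false
open Cfsg

namespace Cfsg.Agent.S4397

open Subgroup Cfsg.Agent.Helper63 Cfsg.Agent.Helper63.M2

universe u

/-- induction on the order. -/
theorem main_aux (k : ℕ) : ∀ (S : Type u) [Group S] [Finite S], Nat.card S ≤ k → IsPGroup 2 S →
    Cfsg.SectionalPRankLE 2 2 S → Cfsg.IsMetacyclic S := by
  induction k with
  | zero =>
    intro S _ _ hcard _ _
    have : 0 < Nat.card S := Nat.card_pos
    omega
  | succ k ih =>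
    intro S _ _ hcard h2 hr
    have : Fact (Nat.Prime 2) := ⟨Nat.prime_two⟩
    by_cases hab : ∀ a b : S, a * b = b * a
    · exact metacyclic_of_comm h2 hab hr
    · -- a central involution in the commutator subgroup
      have hcne : commutator S ≠ ⊥ := by
        intro h
        apply hab
        rw [commutator_eq_bot_iff_center_eq_top] at h
        intro a b
        have hb : b ∈ center S := by rw [h]; exact mem_top b
        exact (mem_center_iff.1 hb a)
      have h0 := normal_inf_center_ne_bot h2 (commutator S) hcne
      rw [Ne, eq_bot_iff_forall] at h0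
      push Not at h0
      obtain ⟨x, hxmem, hx1⟩ := h0
      obtain ⟨m, hm⟩ := (IsPGroup.iff_orderOf.1 h2) x
      have hm1 : 1 ≤ m := by
        by_contra h
        have : m = 0 := by omega
        rw [this, pow_zero, orderOf_eq_one_iff] at hm
        exact hx1 hm
      have hno := Cfsg.Agent.Helper73.orderOf_pow_pred hm hm1
      obtain ⟨n, hn_def⟩ : ∃ n : S, n = x ^ 2 ^ (m - 1) := ⟨_, rfl⟩
      rw [← hn_def] at hno
      have hnmem : n ∈ commutator S ⊓ center S := by rw [hn_def]; exact pow_mem hxmem _
      have hn2 : n ^ 2 = 1 := by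
        have := pow_orderOf_eq_one n
        rwa [hno] at this
      have hn1 : n ≠ 1 := by
        intro h; rw [h, orderOf_one] at hno; omega
      have hnc : ∀ g : S, g * n = n * g := mem_center_iff.1 hnmem.2
      have hnS : n ∈ commutator S := hnmem.1
      have hNn : (zpowers n).Normal := ⟨fun y hy w => by
        obtain ⟨j, rfl⟩ := mem_zpowers_iff.1 hy
        have hc : Commute w n := hnc w
        have : w * n ^ j * w⁻¹ = n ^ j := by rw [(hc.zpow_right j).eq, mul_inv_cancel_right]
        rw [this]; exact zpow_mem (mem_zpowers n) j⟩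
      -- the quotient is metacyclic
      have hcardQ : Nat.card (S ⧸ zpowers n) ≤ k := by
        have h1 := Subgroup.card_eq_card_quotient_mul_card_subgroup (zpowers n)
        rw [Nat.card_zpowers, hno] at h1
        omega
      have hQm : Cfsg.IsMetacyclic (S ⧸ zpowers n) :=
        ih (S ⧸ zpowers n) hcardQ (h2.to_quotient _)
          (sectionalPRankLE_of_surjective (QuotientGroup.mk' (zpowers n))
            (QuotientGroup.mk'_surjective _) hr)
      obtain ⟨L, hLn, l, hNL, hlL, hcyc, hL⟩ := pullback_metacyclic (zpowers n) hQm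
      by_cases hnl : n ∈ zpowers l
      · -- `L` is cyclic
        have hLc : IsCyclic L := by
          refine ⟨⟨⟨l, hlL⟩, fun y => ?_⟩⟩
          obtain ⟨j, hj⟩ := hL y y.2
          have hy : (y : S) ∈ zpowers l := by
            have h1 : (l ^ j)⁻¹ * (y : S) ∈ zpowers l := (zpowers_le.2 hnl) hj
            have h2' : (y : S) = l ^ j * ((l ^ j)⁻¹ * y) := by group
            rw [h2']
            exact mul_mem (zpow_mem (mem_zpowers l) j) h1
          obtain ⟨i, hi⟩ := mem_zpowers_iff.1 hy
          refine ⟨i, Subtype.ext ?_⟩
          show ((⟨l, hlL⟩ : L) ^ i : L) = (y : S)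
          rw [Subgroup.coe_zpow]; exact hi
        exact ⟨L, hLn, hLc, hcyc⟩
      · have hcomm := blackburn_step h2 n hn2 hnc hnS L l hlL hL hcyc hnl
        exact metacyclic_of_derived_two h2 hr n hn1 hn2 hnc hcomm hab

/-- A finite 2-group of sectional 2-rank at most 2 (every section has no elementary abelian subgroup of order 8) is metacyclic: it has a cyclic normal subgroup with cyclic quotient. -/
theorem result {S : Type*} [Group S] [Finite S] (h2 : IsPGroup 2 S) (hr : Cfsg.SectionalPRankLE 2 2 S) : Cfsg.IsMetacyclic S :=
  main_aux (Nat.card S) S le_rfl h2 hr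

end Cfsg.Agent.S4397
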