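import Cfsg.Statements.S4398
import Cfsg.Agent.Helper63.SectRank2C
import Cfsg.Agent.Helper73.NormalAbelianCyclic
import Cfsg.Agent.S3224

set_option autoImplicit false
open Cfsg

namespace Cfsg.Agent.S4398

open Subgroup Cfsg.Agent.Helper63.SR2

/-- conversion of a quasi-dihedral group to the statement's format. -/
theorem quasiDihedral_conv {S : Type*} [Group S] (h : Cfsg.IsQuasiDihedral S) :
    ∃ k : ℕ, Nat.card S = 2 ^ (k + 4) ∧ ∃ a b : S, orderOf a = 2 ^ (k + 3) ∧ orderOf b = 2 ∧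
      b * a * b⁻¹ = a ^ (2 ^ (k + 2) - 1) := by
  obtain ⟨n, hn3, hcard, x, y, hx, hy, hxy⟩ := h
  obtain ⟨k, rfl⟩ : ∃ k, n = k + 3 := ⟨n - 3, by omega⟩
  exact ⟨k, hcard, x, y, hx, hy, hxy⟩

/-- conversion of a dihedral group of 2-power order at least 8. -/
theorem dihedral_conv {S : Type*} [Group S] {m n : ℕ} (hm : 3 ≤ m) (hcard : Nat.card S = 2 ^ m)
    (e : S ≃* DihedralGroup n) : ∃ k : ℕ, Nonempty (S ≃* DihedralGroup (2 ^ (k + 2))) := by
  have h1 : Nat.card S = 2 * n := by rw [Nat.card_congr e.toEquiv, DihedralGroup.nat_card]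
  obtain ⟨k, rfl⟩ : ∃ k, m = k + 3 := ⟨m - 3, by omega⟩
  have h2 : n = 2 ^ (k + 2) := by
    rw [hcard] at h1
    have : 2 ^ (k + 3) = 2 * 2 ^ (k + 2) := by ring
    omega
  subst h2
  exact ⟨k, ⟨e⟩⟩

/-- A finite 2-group of sectional 2-rank at most 2 containing `D₈` or `Q₈` is dihedral, semidihedral or generalized quaternion. -/
theorem result {S : Type*} [Group S] [Finite S] (h2 : IsPGroup 2 S) (hr : Cfsg.SectionalPRankLE 2 2 S)
    (hsub : ∃ H : Subgroup S, Nonempty (↥H ≃* DihedralGroup 4) ∨ Nonempty (↥H ≃* QuaternionGroup 2)) :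
    ((∃ k : ℕ, Nonempty (S ≃* DihedralGroup (2 ^ (k + 2)))) ∨
      (∃ k : ℕ, Nat.card S = 2 ^ (k + 4) ∧ ∃ a b : S, orderOf a = 2 ^ (k + 3) ∧ orderOf b = 2 ∧ b * a * b⁻¹ = a ^ (2 ^ (k + 2) - 1)) ∨
      (∃ k : ℕ, Nonempty (S ≃* QuaternionGroup (2 ^ (k + 1))))) := by
  have : Fact (Nat.Prime 2) := ⟨Nat.prime_two⟩
  obtain ⟨T, hTiso⟩ := hsub
  obtain ⟨z, hT⟩ := exists_d8Like T hTiso
  have hzord : orderOf z = 2 := orderOf_eq_prime hT.z_sq hT.z_ne
  -- `S` is not cyclic
  have hnc : ¬ IsCyclic S := by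
    intro hcyc
    have hcomm : ∀ a b : S, a * b = b * a := fun a b => hcyc.isMulCommutative.is_comm.comm a b
    have hle : T ≤ zpowers z := by
      intro t ht
      rcases hT.cen t ht (fun t' _ => hcomm t t') with h | h
      · rw [h]; exact one_mem _
      · rw [h]; exact mem_zpowers z
    have := card_le_of_le hle
    rw [hT.card, Nat.card_zpowers, hzord] at this
    omega
  obtain ⟨m, hm⟩ := (IsPGroup.iff_card).1 h2
  have hm3 : 3 ≤ m := by
    have h8 : 8 ≤ Nat.card S := by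
      rw [← hT.card]; exact Subgroup.card_le_card_group T
    by_contra hlt
    have : m ≤ 2 := by omega
    have : 2 ^ m ≤ 2 ^ 2 := Nat.pow_le_pow_right (by norm_num) this
    omega
  by_cases hn : ∀ A : Subgroup S, A.Normal → IsMulCommutative A → IsCyclic A
  · rcases Cfsg.Agent.Helper73.two_group_normal_abelian_cyclic h2 hn hnc with
      ⟨n, ⟨e⟩⟩ | ⟨n, _, ⟨e⟩⟩ | hqd
    · right; right
      have hn0 : n ≠ 0 := by
        rintro rfl
        have hZ : Infinite (ZMod 0) := (inferInstance : Infinite ℤ)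
        have hinf : Infinite (QuaternionGroup 0) :=
          Infinite.of_injective (fun i : ZMod 0 => QuaternionGroup.a i)
            (fun i j h => QuaternionGroup.a.inj h)
        have : Infinite S := Infinite.of_injective e.symm e.symm.injective
        exact not_finite S
      have : NeZero n := ⟨hn0⟩
      have h1 : Nat.card S = 4 * n := by
        rw [Nat.card_congr e.toEquiv, Nat.card_eq_fintype_card, QuaternionGroup.card]
      obtain ⟨k, rfl⟩ : ∃ k, m = k + 3 := ⟨m - 3, by omega⟩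
      have h2' : n = 2 ^ (k + 1) := by
        rw [hm] at h1
        have : 2 ^ (k + 3) = 4 * 2 ^ (k + 1) := by ring
        omega
      subst h2'
      exact ⟨k, ⟨e⟩⟩
    · left
      exact dihedral_conv hm3 hm e
    · right; left
      exact quasiDihedral_conv hqd
  · push Not at hn
    obtain ⟨A, hAn, hAc, hAnc⟩ := hn
    obtain ⟨V, hVn, hV4, hVsq, hVc⟩ := exists_normal_four h2 hr A hAn hAc hAnc
    obtain ⟨t, htord, htC⟩ := exists_involution_centralizer_four h2 hr T z hT V hV4 hVsq hVc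
    rcases Cfsg.Agent.S3224.result h2 t htord htC with ⟨n, ⟨e⟩⟩ | hqd | h4
    · left
      exact dihedral_conv hm3 hm e
    · right; left
      exact quasiDihedral_conv hqd
    · exfalso
      rw [hm] at h4
      have : 2 ^ 3 ≤ 2 ^ m := Nat.pow_le_pow_right (by norm_num) hm3
      omega

end Cfsg.Agent.S4398
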