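import Cfsg.Statements.S4399
import Mathlib
import Cfsg.Agent.Helper73.Taussky
import Cfsg.Agent.S0646
import Cfsg.Agent.Helper45.Dihedral

set_option autoImplicit false
open Cfsg

namespace Cfsg.Agent.S4399

open Subgroup
open scoped commutatorElement

/-- Let S be a finite 2-group whose commutator quotient S/[S,S] is a Klein four-group (order 4 and exponent 2). Then S itself has order 4, or S is dihedral of order at least 8, semidihedral of order at least 16 (order 2^(k+4) with an element a of order 2^(k+3) and an involution b with b a b⁻¹ = a^(2^(k+2)−1)), or generalized quaternion of order at least 8. -/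
theorem result {S : Type*} [Group S] [Finite S] (h2 : IsPGroup 2 S) (hab : Nat.card (Abelianization S) = 4)
    (hexp : ∀ x : Abelianization S, x ^ 2 = 1) :
    Nat.card S = 4 ∨
    ((∃ k : ℕ, Nonempty (S ≃* DihedralGroup (2 ^ (k + 2)))) ∨
      (∃ k : ℕ, Nat.card S = 2 ^ (k + 4) ∧ ∃ a b : S, orderOf a = 2 ^ (k + 3) ∧ orderOf b = 2 ∧ b * a * b⁻¹ = a ^ (2 ^ (k + 2) - 1)) ∨
      (∃ k : ℕ, Nonempty (S ≃* QuaternionGroup (2 ^ (k + 1))))) := by
  have : Fact (Nat.Prime 2) := ⟨Nat.prime_two⟩
  have hidx : (commutator S).index = 4 := hab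
  obtain ⟨n, hn⟩ := IsPGroup.iff_card.1 h2
  -- 4 ∣ |S|
  have h4 : 4 ∣ 2 ^ n := by
    rw [← hn, ← hidx]; exact (commutator S).index_dvd_card
  have hn2 : 2 ≤ n := by
    by_contra hlt
    have hn1 : n ≤ 1 := by omega
    have h5 : 2 ^ n ≤ 2 ^ 1 := Nat.pow_le_pow_right (by norm_num) hn1
    have h6 := Nat.le_of_dvd (by positivity) h4
    omega
  by_cases hn3 : n = 2
  · left; rw [hn, hn3]; norm_num
  right
  have hn3' : 3 ≤ n := by omega
  -- non-abelian
  have hna : ∃ x y : S, x * y ≠ y * x := by
    by_contra h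
    push Not at h
    have hc := Cfsg.Agent.Helper73.commutator_eq_bot_of_comm h
    rw [hc, index_bot, hn] at hidx
    have h7 : (2 : ℕ) ^ n = 2 ^ 2 := by rw [hidx]; norm_num
    exact hn3 (Nat.pow_right_injective (le_refl 2) h7)
  obtain ⟨a0, ha0⟩ := Cfsg.Agent.Helper73.taussky n hn3' hn hidx
  have hCi : (zpowers a0).index = 2 := by
    have h := (zpowers a0).card_mul_index
    rw [Nat.card_zpowers, ha0, hn] at h
    have h8 : 2 ^ n = 2 ^ (n - 1) * 2 := by
      rw [← pow_succ, Nat.sub_add_cancel (by omega)]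
    rw [h8] at h
    exact Nat.eq_of_mul_eq_mul_left (by positivity) h
  obtain ⟨a, b, ha, hb, hrel⟩ := Cfsg.Agent.S0646.result n hn3' hn (zpowers a0) inferInstance hCi hna
  have hai : (zpowers a).index = 2 := by
    have h := (zpowers a).card_mul_index
    rw [Nat.card_zpowers, ha, hn] at h
    have h8 : 2 ^ n = 2 ^ (n - 1) * 2 := by
      rw [← pow_succ, Nat.sub_add_cancel (by omega)]
    rw [h8] at h
    exact Nat.eq_of_mul_eq_mul_left (by positivity) h
  rcases hrel with ⟨hb2, hconj⟩ | ⟨hb2, hconj⟩ | ⟨hn4, hb2, hconj⟩ | ⟨hn4, hb2, hconj⟩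
  · -- dihedral
    left
    refine ⟨n - 3, ?_⟩
    have e : n - 3 + 2 = n - 1 := by omega
    rw [e]
    apply Cfsg.Agent.Helper45.nonempty_mulEquiv_dihedral (2 ^ (n - 1)) a b ha (by rw [← sq]; exact hb2)
      hconj hb
    intro g
    by_cases hg : g ∈ zpowers a
    · exact Or.inl hg
    · right
      rw [mul_mem_iff_of_index_two hai]
      exact ⟨fun h => (hb h).elim, fun h => (hg h).elim⟩
  · -- quaternion
    right; right
    refine ⟨n - 3, ?_⟩
    have e : n - 3 + 1 = n - 2 := by omega
    rw [e]
    have ha' : orderOf a = 2 * 2 ^ (n - 2) := by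
      rw [ha, ← pow_succ', show n - 2 + 1 = n - 1 by omega]
    exact Cfsg.Agent.Helper73.nonempty_mulEquiv_quaternionGroup ha' hb hconj hb2 hai
  · -- modular: impossible
    exfalso
    set c := a ^ 2 ^ (n - 2) with hc
    -- c is central
    have hca : Commute c a := (Commute.refl a).pow_left _
    have hcb : b * c * b⁻¹ = c := by
      rw [hc, ← conj_pow, hconj, ← pow_mul, pow_eq_pow_iff_modEq, ha]
      have h9 : (1 + 2 ^ (n - 2)) * 2 ^ (n - 2) = 2 ^ (n - 2) + 2 ^ (n - 1) * 2 ^ (n - 3) := by
        have e1 : 2 ^ (n - 2) * 2 ^ (n - 2) = 2 ^ (n - 1) * 2 ^ (n - 3) := by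
          rw [← pow_add, ← pow_add]; congr 1; omega
        rw [add_mul, one_mul, e1]
      rw [h9]
      show (2 ^ (n - 2) + 2 ^ (n - 1) * 2 ^ (n - 3)) % 2 ^ (n - 1) = 2 ^ (n - 2) % 2 ^ (n - 1)
      rw [Nat.add_mul_mod_self_left]
    have hdec : ∀ g : S, g ∈ zpowers a ∨ b⁻¹ * g ∈ zpowers a := by
      intro g
      by_cases hg : g ∈ zpowers a
      · exact Or.inl hg
      · right
        rw [mul_mem_iff_of_index_two hai, inv_mem_iff]
        exact ⟨fun h => (hb h).elim, fun h => (hg h).elim⟩
    have hgen : closure ({a, b} : Set S) = ⊤ := by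
      rw [eq_top_iff]
      intro g _
      have ha_mem : a ∈ closure ({a, b} : Set S) := subset_closure (by simp)
      have hb_mem : b ∈ closure ({a, b} : Set S) := subset_closure (by simp)
      have hle : zpowers a ≤ closure ({a, b} : Set S) := zpowers_le.2 ha_mem
      rcases hdec g with hg | hg
      · exact hle hg
      · have : g = b * (b⁻¹ * g) := by group
        rw [this]
        exact mul_mem hb_mem (hle hg)
    have hcz : ∀ g ∈ zpowers a, g * c = c * g := by
      intro g hg
      obtain ⟨k, rfl⟩ := mem_zpowers_iff.1 hg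
      exact ((hca.symm).zpow_left k).eq
    have hcb' : b * c = c * b := by
      calc b * c = (b * c * b⁻¹) * b := by group
        _ = c * b := by rw [hcb]
    have hcc : c ∈ center S := by
      rw [mem_center_iff]
      intro g
      rcases hdec g with hg | hg
      · exact hcz g hg
      · have h13 := hcz _ hg
        calc g * c = b * ((b⁻¹ * g) * c) := by group
          _ = b * (c * (b⁻¹ * g)) := by rw [h13]
          _ = (b * c) * (b⁻¹ * g) := by group
          _ = (c * b) * (b⁻¹ * g) := by rw [hcb']
          _ = c * g := by group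
    have hZn : (zpowers c).Normal := by
      constructor
      intro x hx g
      have : g * x * g⁻¹ = x := by
        rw [mem_center_iff.1 (zpowers_le.2 hcc hx) g]; group
      rw [this]; exact hx
    have hle : commutator S ≤ zpowers c := by
      apply Cfsg.Agent.Helper66.commutator_le_of_generators ({a, b} : Set S) hgen
      have hba : ⁅b, a⁆ = c := by
        rw [commutatorElement_def, hconj, pow_add, pow_one, hc, ← pow_succ', pow_succ,
          mul_inv_cancel_right]
      rintro s (rfl | rfl) t (rfl | rfl)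
      · rw [commutatorElement_self]; exact one_mem _
      · rw [← commutatorElement_inv, hba]; exact inv_mem (mem_zpowers c)
      · rw [hba]; exact mem_zpowers c
      · rw [commutatorElement_self]; exact one_mem _
    have hcord : orderOf c = 2 := by
      have := Cfsg.Agent.Helper73.orderOf_pow_pred ha (by omega : 1 ≤ n - 1)
      rwa [show n - 1 - 1 = n - 2 by omega] at this
    have hdvd := index_dvd_of_le hle
    rw [hidx] at hdvd
    have hci : (zpowers c).index = 2 ^ (n - 1) := by
      have h := (zpowers c).card_mul_index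
      rw [Nat.card_zpowers, hcord, hn] at h
      have h8 : 2 ^ n = 2 * 2 ^ (n - 1) := by
        rw [← pow_succ', Nat.sub_add_cancel (by omega)]
      rw [h8] at h
      exact Nat.eq_of_mul_eq_mul_left (by norm_num) h
    rw [hci] at hdvd
    have h11 : 2 ^ 3 ≤ 2 ^ (n - 1) := Nat.pow_le_pow_right (by norm_num) (by omega)
    have h12 := Nat.le_of_dvd (by norm_num) hdvd
    omega
  · -- semidihedral
    right; left
    refine ⟨n - 4, ?_, a, b, ?_, ?_, ?_⟩
    · rw [hn]; congr 1; omega
    · rw [ha]; congr 1; omega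
    · apply orderOf_eq_prime hb2
      rintro rfl
      exact hb (one_mem _)
    · rw [hconj]; congr 3; omega

end Cfsg.Agent.S4399
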