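-- Statement S4400: two normal non-abelian subgroups with centres of order 2 in a 2-group of sectional rank ≤ 4.
import Cfsg.Statements.S4400
import Cfsg.Agent.Helper63.PGroup
import Mathlib

set_option autoImplicit false
open Cfsg

namespace Cfsg.Agent.S4400

open Subgroup

/-- if `a b a⁻¹ = z b` with `z` central of order ≤ 2 then `a²` commutes with `b`. -/
theorem sq_commute {G : Type*} [Group G] (a b z : G) (hz : a * b * a⁻¹ = z * b)
    (hzc : ∀ y : G, z * y = y * z) (hz2 : z ^ 2 = 1) : Commute (a ^ 2) b := by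
  have e1 : a * b = z * b * a := by rw [← hz]; group
  have e2 : a * z = z * a := (hzc a).symm
  show a ^ 2 * b = b * a ^ 2
  calc a ^ 2 * b = a * (a * b) := by rw [sq, mul_assoc]
    _ = a * (z * b * a) := by rw [e1]
    _ = (a * z) * b * a := by group
    _ = (z * a) * b * a := by rw [e2]
    _ = z * (a * b) * a := by group
    _ = z * (z * b * a) * a := by rw [e1]
    _ = z ^ 2 * b * a ^ 2 := by rw [sq, sq]; simp only [mul_assoc]
    _ = b * a ^ 2 := by rw [hz2, one_mul]

theorem two_le_relIndex {G : Type*} [Group G] [Finite G] {K L : Subgroup G} (hKL : ¬ L ≤ K) :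
    2 ≤ K.relIndex L := by
  have h0 : K.relIndex L ≠ 0 := by
    unfold Subgroup.relIndex
    exact Subgroup.index_ne_zero_of_finite
  have h1 : K.relIndex L ≠ 1 := fun h => hKL (Subgroup.relIndex_eq_one.1 h)
  omega

/-- A configuration of five elements giving an elementary abelian section of order at least `32`. -/
theorem not_sectionalRank_four {S : Type*} [Group S] [Finite S]
    (x g x' g' c z z' : S) (PQ : Subgroup S)
    (hz : z = x * g * x⁻¹ * g⁻¹) (hz' : z' = x' * g' * x'⁻¹ * g'⁻¹)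
    (hzc : ∀ y : S, z * y = y * z) (hz'c : ∀ y : S, z' * y = y * z') (hz1 : z ≠ 1) (hz'1 : z' ≠ 1)
    (hz2 : z ^ 2 = 1) (hz'2 : z' ^ 2 = 1)
    (hxx' : Commute x x') (hxg' : Commute x g') (hgx' : Commute g x') (hgg' : Commute g g')
    (hcx : Commute c x) (hcg : Commute c g) (hcx' : Commute c x') (hcg' : Commute c g')
    (hxPQ : x ∈ PQ) (hgPQ : g ∈ PQ) (hx'PQ : x' ∈ PQ) (hg'PQ : g' ∈ PQ) (hcPQ : c ∉ PQ)
    (hc2 : c ^ 2 ∈ PQ) :
    ¬ Cfsg.SectionalPRankLE 2 4 S := by
  intro hr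
  -- basic commutation facts
  have hxg : x * g * x⁻¹ = z * g := by rw [hz]; group
  have hgx : g * x * g⁻¹ = z * x := by
    have : z⁻¹ = z := by rw [inv_eq_iff_mul_eq_one, ← sq, hz2]
    rw [← this, hz]; group
  have hx'g' : x' * g' * x'⁻¹ = z' * g' := by rw [hz']; group
  have hg'x' : g' * x' * g'⁻¹ = z' * x' := by
    have : z'⁻¹ = z' := by rw [inv_eq_iff_mul_eq_one, ← sq, hz'2]
    rw [← this, hz']; group
  have hx2g : Commute (x ^ 2) g := sq_commute x g z hxg hzc hz2
  have hg2x : Commute (g ^ 2) x := sq_commute g x z hgx hzc hz2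
  have hx'2g' : Commute (x' ^ 2) g' := sq_commute x' g' z' hx'g' hz'c hz'2
  have hg'2x' : Commute (g' ^ 2) x' := sq_commute g' x' z' hg'x' hz'c hz'2
  have hnxg : ¬ Commute x g := by
    intro h
    apply hz1
    rw [hz, h.eq]; group
  have hnx'g' : ¬ Commute x' g' := by
    intro h
    apply hz'1
    rw [hz', h.eq]; group
  have hzC : ∀ y : S, Commute z y := fun y => hzc y
  have hz'C : ∀ y : S, Commute z' y := fun y => hz'c y
  -- the subgroups
  let X7 : Set S := {x ^ 2, g ^ 2, z, x' ^ 2, g' ^ 2, z', c ^ 2}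
  let N₀ : Subgroup S := closure X7
  -- N₀ centralizes each generator
  have hN₀ : ∀ y : S, Commute (x ^ 2) y → Commute (g ^ 2) y → Commute (x' ^ 2) y → Commute (g' ^ 2) y →
      Commute (c ^ 2) y → N₀ ≤ centralizer {y} := by
    intro y h1 h2 h3 h4 h5
    refine (closure_le _).2 ?_
    intro a ha
    simp only [X7, Set.mem_insert_iff, Set.mem_singleton_iff] at ha
    simp only [SetLike.mem_coe, mem_centralizer_iff, Set.mem_singleton_iff, forall_eq]
    rcases ha with rfl | rfl | rfl | rfl | rfl | rfl | rfl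
    · exact h1.eq.symm
    · exact h2.eq.symm
    · exact (hzC y).eq.symm
    · exact h3.eq.symm
    · exact h4.eq.symm
    · exact (hz'C y).eq.symm
    · exact h5.eq.symm
  have hN₀x : N₀ ≤ centralizer {x} :=
    hN₀ x (Commute.pow_left (Commute.refl x) 2) hg2x (hxx'.symm.pow_left 2) (hxg'.symm.pow_left 2) (hcx.pow_left 2)
  have hN₀g : N₀ ≤ centralizer {g} :=
    hN₀ g hx2g (Commute.pow_left (Commute.refl g) 2) (hgx'.symm.pow_left 2) (hgg'.symm.pow_left 2) (hcg.pow_left 2)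
  have hN₀x' : N₀ ≤ centralizer {x'} :=
    hN₀ x' (hxx'.pow_left 2) (hgx'.pow_left 2) (Commute.pow_left (Commute.refl x') 2) hg'2x' (hcx'.pow_left 2)
  have hN₀g' : N₀ ≤ centralizer {g'} :=
    hN₀ g' (hxg'.pow_left 2) (hgg'.pow_left 2) hx'2g' (Commute.pow_left (Commute.refl g') 2) (hcg'.pow_left 2)
  have hN₀c : N₀ ≤ centralizer {c} :=
    hN₀ c (hcx.symm.pow_left 2) (hcg.symm.pow_left 2) (hcx'.symm.pow_left 2) (hcg'.symm.pow_left 2)
      (Commute.pow_left (Commute.refl c) 2)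
  have memC : ∀ a y : S, Commute a y → a ∈ centralizer ({y} : Set S) := by
    intro a y h
    simp only [mem_centralizer_iff, Set.mem_singleton_iff, forall_eq]
    exact h.eq.symm
  have notMemC : ∀ a y : S, ¬ Commute a y → a ∉ centralizer ({y} : Set S) := by
    intro a y h h'
    simp only [mem_centralizer_iff, Set.mem_singleton_iff, forall_eq] at h'
    exact h h'.symm
  -- the chain
  let T₁ : Subgroup S := N₀ ⊔ zpowers x
  let T₂ : Subgroup S := T₁ ⊔ zpowers g
  let T₃ : Subgroup S := T₂ ⊔ zpowers x'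
  let T₄ : Subgroup S := T₃ ⊔ zpowers g'
  let T₅ : Subgroup S := T₄ ⊔ zpowers c
  have h01 : ¬ T₁ ≤ N₀ := fun h =>
    notMemC x g hnxg (hN₀g (h (le_sup_right (a := N₀) (mem_zpowers x))))
  have hT₁x : T₁ ≤ centralizer {x} := sup_le hN₀x (zpowers_le.2 (memC x x (Commute.refl x)))
  have h12 : ¬ T₂ ≤ T₁ := fun h =>
    notMemC g x (fun h' => hnxg h'.symm) (hT₁x (h (le_sup_right (a := T₁) (mem_zpowers g))))
  have hT₂g' : T₂ ≤ centralizer {g'} :=
    sup_le (sup_le hN₀g' (zpowers_le.2 (memC x g' hxg'))) (zpowers_le.2 (memC g g' hgg'))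
  have h23 : ¬ T₃ ≤ T₂ := fun h =>
    notMemC x' g' hnx'g' (hT₂g' (h (le_sup_right (a := T₂) (mem_zpowers x'))))
  have hT₃x' : T₃ ≤ centralizer {x'} :=
    sup_le (sup_le (sup_le hN₀x' (zpowers_le.2 (memC x x' hxx'))) (zpowers_le.2 (memC g x' hgx')))
      (zpowers_le.2 (memC x' x' (Commute.refl x')))
  have h34 : ¬ T₄ ≤ T₃ := fun h =>
    notMemC g' x' (fun h' => hnx'g' h'.symm) (hT₃x' (h (le_sup_right (a := T₃) (mem_zpowers g'))))
  have hzPQ : z ∈ PQ := by
    rw [hz]; exact PQ.mul_mem (PQ.mul_mem (PQ.mul_mem hxPQ hgPQ) (PQ.inv_mem hxPQ)) (PQ.inv_mem hgPQ)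
  have hz'PQ : z' ∈ PQ := by
    rw [hz']; exact PQ.mul_mem (PQ.mul_mem (PQ.mul_mem hx'PQ hg'PQ) (PQ.inv_mem hx'PQ)) (PQ.inv_mem hg'PQ)
  have hN₀PQ : N₀ ≤ PQ := by
    refine (closure_le _).2 ?_
    intro a ha
    simp only [X7, Set.mem_insert_iff, Set.mem_singleton_iff] at ha
    rcases ha with rfl | rfl | rfl | rfl | rfl | rfl | rfl
    · exact PQ.pow_mem hxPQ 2
    · exact PQ.pow_mem hgPQ 2
    · exact hzPQ
    · exact PQ.pow_mem hx'PQ 2
    · exact PQ.pow_mem hg'PQ 2
    · exact hz'PQ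
    · exact hc2
  have hT₄PQ : T₄ ≤ PQ :=
    sup_le (sup_le (sup_le (sup_le hN₀PQ (zpowers_le.2 hxPQ)) (zpowers_le.2 hgPQ)) (zpowers_le.2 hx'PQ))
      (zpowers_le.2 hg'PQ)
  have h45 : ¬ T₅ ≤ T₄ := fun h =>
    hcPQ (hT₄PQ (h (le_sup_right (a := T₄) (mem_zpowers c))))
  -- the index
  have hidx : 32 ≤ N₀.relIndex T₅ := by
    have e1 : N₀.relIndex T₅ = N₀.relIndex T₁ * T₁.relIndex T₂ * T₂.relIndex T₃ * T₃.relIndex T₄ * T₄.relIndex T₅ := by
      rw [relIndex_mul_relIndex N₀ T₁ T₂ le_sup_left le_sup_left,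
        relIndex_mul_relIndex N₀ T₂ T₃ (le_trans le_sup_left le_sup_left) le_sup_left,
        relIndex_mul_relIndex N₀ T₃ T₄ (le_trans (le_trans le_sup_left le_sup_left) le_sup_left) le_sup_left,
        relIndex_mul_relIndex N₀ T₄ T₅
          (le_trans (le_trans (le_trans le_sup_left le_sup_left) le_sup_left) le_sup_left) le_sup_left]
    rw [e1]
    have a1 := two_le_relIndex h01
    have a2 := two_le_relIndex h12
    have a3 := two_le_relIndex h23
    have a4 := two_le_relIndex h34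
    have a5 := two_le_relIndex h45
    calc 32 = 2 * 2 * 2 * 2 * 2 := by norm_num
      _ ≤ _ := by gcongr
  -- membership of generators in T₅
  have hT₁T : T₁ ≤ T₅ := le_trans (le_trans (le_trans le_sup_left le_sup_left) le_sup_left) le_sup_left
  have hN₀T : N₀ ≤ T₅ := le_trans le_sup_left hT₁T
  have hxT : x ∈ T₅ := hT₁T (le_sup_right (a := N₀) (mem_zpowers x))
  have hgT : g ∈ T₅ :=
    (le_trans (le_trans le_sup_left le_sup_left) le_sup_left : T₂ ≤ T₅) (le_sup_right (a := T₁) (mem_zpowers g))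
  have hx'T : x' ∈ T₅ :=
    (le_trans le_sup_left le_sup_left : T₃ ≤ T₅) (le_sup_right (a := T₂) (mem_zpowers x'))
  have hg'T : g' ∈ T₅ := (le_sup_left : T₄ ≤ T₅) (le_sup_right (a := T₃) (mem_zpowers g'))
  have hcT : c ∈ T₅ := le_sup_right (a := T₄) (mem_zpowers c)
  -- N₀ is central in T₅
  have hYcent : ∀ y : S, N₀ ≤ centralizer {y} → y ∈ centralizer (N₀ : Set S) := by
    intro y hy
    rw [mem_centralizer_iff]
    intro n hn
    have := hy hn
    simp only [mem_centralizer_iff, Set.mem_singleton_iff, forall_eq] at this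
    exact this.symm
  have hN₀self : N₀ ≤ centralizer (N₀ : Set S) := by
    have h1 : N₀ ≤ closure ({x, g, x', g', c} : Set S) := by
      refine (closure_le _).2 ?_
      intro a ha
      have hx0 : x ∈ closure ({x, g, x', g', c} : Set S) := subset_closure (by simp)
      have hg0 : g ∈ closure ({x, g, x', g', c} : Set S) := subset_closure (by simp)
      have hx'0 : x' ∈ closure ({x, g, x', g', c} : Set S) := subset_closure (by simp)
      have hg'0 : g' ∈ closure ({x, g, x', g', c} : Set S) := subset_closure (by simp)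
      have hc0 : c ∈ closure ({x, g, x', g', c} : Set S) := subset_closure (by simp)
      simp only [X7, Set.mem_insert_iff, Set.mem_singleton_iff] at ha
      rcases ha with rfl | rfl | rfl | rfl | rfl | rfl | rfl
      · exact pow_mem hx0 2
      · exact pow_mem hg0 2
      · rw [hz]; exact mul_mem (mul_mem (mul_mem hx0 hg0) (inv_mem hx0)) (inv_mem hg0)
      · exact pow_mem hx'0 2
      · exact pow_mem hg'0 2
      · rw [hz']; exact mul_mem (mul_mem (mul_mem hx'0 hg'0) (inv_mem hx'0)) (inv_mem hg'0)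
      · exact pow_mem hc0 2
    have h2 : closure ({x, g, x', g', c} : Set S) ≤ centralizer (N₀ : Set S) := by
      refine (closure_le _).2 ?_
      intro a ha
      simp only [Set.mem_insert_iff, Set.mem_singleton_iff] at ha
      rcases ha with rfl | rfl | rfl | rfl | rfl
      · exact hYcent _ hN₀x
      · exact hYcent _ hN₀g
      · exact hYcent _ hN₀x'
      · exact hYcent _ hN₀g'
      · exact hYcent _ hN₀c
    exact le_trans h1 h2
  have hTcent : T₅ ≤ centralizer (N₀ : Set S) :=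
    sup_le (sup_le (sup_le (sup_le (sup_le hN₀self (zpowers_le.2 (hYcent _ hN₀x)))
      (zpowers_le.2 (hYcent _ hN₀g))) (zpowers_le.2 (hYcent _ hN₀x'))) (zpowers_le.2 (hYcent _ hN₀g')))
      (zpowers_le.2 (hYcent _ hN₀c))
  have hNnormal : (N₀.subgroupOf T₅).Normal := by
    constructor
    intro n hn t
    rw [mem_subgroupOf] at hn ⊢
    have h1 := hTcent t.2 n hn
    have h2 : ((t * n * t⁻¹ : ↥T₅) : S) = n := by
      push_cast
      rw [← h1]; group
    rw [h2]; exact hn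
  -- the quotient
  let N : Subgroup ↥T₅ := N₀.subgroupOf T₅
  let π : ↥T₅ →* ↥T₅ ⧸ N := QuotientGroup.mk' N
  let ux : ↥T₅ := ⟨x, hxT⟩
  let ug : ↥T₅ := ⟨g, hgT⟩
  let ux' : ↥T₅ := ⟨x', hx'T⟩
  let ug' : ↥T₅ := ⟨g', hg'T⟩
  let uc : ↥T₅ := ⟨c, hcT⟩
  let gens : Set (↥T₅ ⧸ N) := {π ux, π ug, π ux', π ug', π uc}
  let A₀ : Subgroup (↥T₅ ⧸ N) := closure gens
  -- when do images commute
  have hπcomm : ∀ u v : ↥T₅, (∃ w ∈ N₀, (u : S) * v = w * (v * u)) → π u * π v = π v * π u := by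
    intro u v ⟨w, hw, huv⟩
    rw [← map_mul, ← map_mul]
    show (QuotientGroup.mk (u * v) : ↥T₅ ⧸ N) = QuotientGroup.mk (v * u)
    rw [eq_comm, QuotientGroup.eq]
    show (v * u)⁻¹ * (u * v) ∈ N₀.subgroupOf T₅
    rw [mem_subgroupOf]
    push_cast
    rw [huv]
    have hwc := hTcent (mul_mem v.2 u.2) w hw
    have : ((v : S) * u)⁻¹ * (w * (v * u)) = w := by
      rw [hwc]; group
    rw [this]; exact hw
  have hπcomm' : ∀ u v : ↥T₅, Commute (u : S) v → π u * π v = π v * π u := by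
    intro u v h
    exact hπcomm u v ⟨1, one_mem _, by rw [one_mul]; exact h.eq⟩
  have hzN : z ∈ N₀ := subset_closure (by simp [X7])
  have hz'N : z' ∈ N₀ := subset_closure (by simp [X7])
  have e_xg : x * g = z * (g * x) := by rw [hz]; group
  have e_gx : g * x = z * (x * g) := by
    have : z⁻¹ = z := by rw [inv_eq_iff_mul_eq_one, ← sq, hz2]
    rw [← this, hz]; group
  have e_x'g' : x' * g' = z' * (g' * x') := by rw [hz']; group
  have e_g'x' : g' * x' = z' * (x' * g') := by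
    have : z'⁻¹ = z' := by rw [inv_eq_iff_mul_eq_one, ← sq, hz'2]
    rw [← this, hz']; group
  have hgens_comm : ∀ a ∈ gens, ∀ b ∈ gens, a * b = b * a := by
    intro a ha b hb
    simp only [gens, Set.mem_insert_iff, Set.mem_singleton_iff] at ha hb
    rcases ha with rfl | rfl | rfl | rfl | rfl <;> rcases hb with rfl | rfl | rfl | rfl | rfl
    · rfl
    · exact hπcomm ux ug ⟨z, hzN, e_xg⟩
    · exact hπcomm' ux ux' hxx'
    · exact hπcomm' ux ug' hxg'
    · exact hπcomm' ux uc hcx.symm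
    · exact hπcomm ug ux ⟨z, hzN, e_gx⟩
    · rfl
    · exact hπcomm' ug ux' hgx'
    · exact hπcomm' ug ug' hgg'
    · exact hπcomm' ug uc hcg.symm
    · exact hπcomm' ux' ux hxx'.symm
    · exact hπcomm' ux' ug hgx'.symm
    · rfl
    · exact hπcomm ux' ug' ⟨z', hz'N, e_x'g'⟩
    · exact hπcomm' ux' uc hcx'.symm
    · exact hπcomm' ug' ux hxg'.symm
    · exact hπcomm' ug' ug hgg'.symm
    · exact hπcomm ug' ux' ⟨z', hz'N, e_g'x'⟩
    · rfl
    · exact hπcomm' ug' uc hcg'.symm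
    · exact hπcomm' uc ux hcx
    · exact hπcomm' uc ug hcg
    · exact hπcomm' uc ux' hcx'
    · exact hπcomm' uc ug' hcg'
    · rfl
  have hA₀comm : IsMulCommutative ↥A₀ := isMulCommutative_closure hgens_comm
  have hπsq : ∀ u : ↥T₅, (u : S) ^ 2 ∈ N₀ → (π u) ^ 2 = 1 := by
    intro u hu
    rw [← map_pow]
    show (QuotientGroup.mk (u ^ 2) : ↥T₅ ⧸ N) = 1
    rw [QuotientGroup.eq_one_iff]
    show u ^ 2 ∈ N₀.subgroupOf T₅
    rw [mem_subgroupOf]
    push_cast
    exact hu
  have hA₀exp : ∀ a ∈ A₀, a ^ 2 = 1 := by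
    intro a ha
    induction ha using closure_induction with
    | mem a ha =>
      simp only [gens, Set.mem_insert_iff, Set.mem_singleton_iff] at ha
      rcases ha with rfl | rfl | rfl | rfl | rfl
      · exact hπsq ux (show x ^ 2 ∈ N₀ from subset_closure (by simp [X7]))
      · exact hπsq ug (show g ^ 2 ∈ N₀ from subset_closure (by simp [X7]))
      · exact hπsq ux' (show x' ^ 2 ∈ N₀ from subset_closure (by simp [X7]))
      · exact hπsq ug' (show g' ^ 2 ∈ N₀ from subset_closure (by simp [X7]))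
      · exact hπsq uc (show c ^ 2 ∈ N₀ from subset_closure (by simp [X7]))
    | one => exact one_pow 2
    | mul a b ha hb iha ihb =>
      have hab : Commute a b := by
        have := hA₀comm.is_comm.comm ⟨a, ha⟩ ⟨b, hb⟩
        exact congrArg Subtype.val this
      rw [hab.mul_pow, iha, ihb, one_mul]
    | inv a ha iha => rw [inv_pow, iha, inv_one]
  -- A₀ is everything
  have hA₀top : A₀ = ⊤ := by
    let B : Subgroup ↥T₅ := A₀.comap π
    have hgenB : ∀ (s : S) (hs : s ∈ T₅), π ⟨s, hs⟩ ∈ A₀ → s ∈ B.map T₅.subtype := by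
      intro s hs h
      exact mem_map.2 ⟨⟨s, hs⟩, h, rfl⟩
    have hle : T₅ ≤ B.map T₅.subtype := by
      refine sup_le (sup_le (sup_le (sup_le (sup_le ?_ ?_) ?_) ?_) ?_) ?_
      · intro n hn
        refine hgenB n (hN₀T hn) ?_
        have : π ⟨n, hN₀T hn⟩ = 1 := by
          show (QuotientGroup.mk (⟨n, hN₀T hn⟩ : ↥T₅) : ↥T₅ ⧸ N) = 1
          rw [QuotientGroup.eq_one_iff]
          show (⟨n, hN₀T hn⟩ : ↥T₅) ∈ N₀.subgroupOf T₅
          rw [mem_subgroupOf]
          exact hn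
        rw [this]; exact one_mem _
      · exact zpowers_le.2 (hgenB x hxT (subset_closure (by simp [gens, ux])))
      · exact zpowers_le.2 (hgenB g hgT (subset_closure (by simp [gens, ug])))
      · exact zpowers_le.2 (hgenB x' hx'T (subset_closure (by simp [gens, ux'])))
      · exact zpowers_le.2 (hgenB g' hg'T (subset_closure (by simp [gens, ug'])))
      · exact zpowers_le.2 (hgenB c hcT (subset_closure (by simp [gens, uc])))
    rw [eq_top_iff]
    intro q _
    obtain ⟨t, rfl⟩ := QuotientGroup.mk'_surjective N q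
    obtain ⟨b, hb, hbt⟩ := mem_map.1 (hle t.2)
    have : b = t := Subtype.ext hbt
    rw [← this]
    exact hb
  -- conclusion
  have hcard : Nat.card ↥A₀ = N₀.relIndex T₅ := by
    rw [hA₀top, Subgroup.card_top]
    rfl
  have hle := hr T₅ N A₀ hA₀comm hA₀exp
  rw [hcard] at hle
  norm_num at hle
  omega

/-- the image of the centre of a normal subgroup `R` with `|Z(R)| = 2` is central in a `2`-group. -/
theorem center_map_le_center {S : Type*} [Group S] [Finite S] (h2 : IsPGroup 2 S) (R : Subgroup S) [R.Normal]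
    (hZ : Nat.card ↥(center ↥R) = 2) : (center ↥R).map R.subtype ≤ center S := by
  have : Fact (Nat.Prime 2) := ⟨Nat.prime_two⟩
  have hc : Nat.card ↥((center ↥R).map R.subtype) = 2 := by
    rw [Subgroup.card_map_of_injective R.subtype_injective]; exact hZ
  exact Cfsg.Agent.Helper63.le_center_of_normal_of_card_eq_prime h2 _ hc

/-- a non-commutative finite `p`-group has a nontrivial commutator lying in the centre. -/
theorem exists_comm_central {R : Type*} [Group R] [Finite R] {p : ℕ} [Fact p.Prime] (hR : IsPGroup p R)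
    (hnc : ¬ IsMulCommutative R) :
    ∃ x g : R, x * g * x⁻¹ * g⁻¹ ∈ center R ∧ x * g * x⁻¹ * g⁻¹ ≠ 1 := by
  have hQ : IsPGroup p (R ⧸ center R) := hR.to_quotient (center R)
  have hnt : Nontrivial (R ⧸ center R) := by
    by_contra hnt
    rw [not_nontrivial_iff_subsingleton] at hnt
    apply hnc
    refine ⟨⟨fun a b => ?_⟩⟩
    have h1 : (QuotientGroup.mk a : R ⧸ center R) = 1 := Subsingleton.elim _ _
    rw [QuotientGroup.eq_one_iff] at h1
    exact (mem_center_iff.1 h1 b).symm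
  have hcnt := hQ.center_nontrivial
  obtain ⟨⟨y', hy'c⟩, hy'1⟩ := exists_ne (1 : ↥(center (R ⧸ center R)))
  obtain ⟨y, rfl⟩ := QuotientGroup.mk_surjective y'
  have hy1 : (QuotientGroup.mk y : R ⧸ center R) ≠ 1 := fun h => hy'1 (Subtype.ext h)
  have hyZ : y ∉ center R := fun h => hy1 ((QuotientGroup.eq_one_iff y).2 h)
  rw [mem_center_iff] at hyZ
  push Not at hyZ
  obtain ⟨g, hg⟩ := hyZ
  refine ⟨y, g, ?_, ?_⟩
  · rw [← QuotientGroup.eq_one_iff]
    have h1 := mem_center_iff.1 hy'c (QuotientGroup.mk g)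
    -- mk g * mk y = mk y * mk g
    have : (QuotientGroup.mk (y * g * y⁻¹ * g⁻¹) : R ⧸ center R) =
        (QuotientGroup.mk y) * (QuotientGroup.mk g) * (QuotientGroup.mk y)⁻¹ * (QuotientGroup.mk g)⁻¹ := by
      simp
    rw [this, ← h1]; group
  · intro h
    apply hg
    have : y * g = g * y := by
      have h' := congrArg (fun t => t * g * y) h
      simpa [mul_assoc] using h'
    exact this.symm

theorem exists_sq_mem {S : Type*} [Group S] (h2 : IsPGroup 2 S) (K C : Subgroup S) (c₀ : S)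
    (hc₀C : c₀ ∈ C) (hc₀K : c₀ ∉ K) : ∃ c ∈ C, c ∉ K ∧ c ^ 2 ∈ K := by
  obtain ⟨k, hk⟩ := h2 c₀
  induction k generalizing c₀ with
  | zero =>
    exfalso
    apply hc₀K
    have : c₀ = 1 := by simpa using hk
    rw [this]; exact K.one_mem
  | succ k ih =>
    by_cases h : c₀ ^ 2 ∈ K
    · exact ⟨c₀, hc₀C, hc₀K, h⟩
    · exact ih (c₀ ^ 2) (C.pow_mem hc₀C 2) h (by rw [← pow_mul, ← pow_succ']; exact hk)

theorem eq_of_card_two {S : Type*} [Group S] (K : Subgroup S) (hK : Nat.card ↥K = 2) (w : S) (hw : w ∈ K)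
    (hw1 : w ≠ 1) (y : S) (hy : y ∈ K) : y = 1 ∨ y = w := by
  by_cases hy1 : y = 1
  · exact Or.inl hy1
  · right
    obtain ⟨b, -, hb⟩ := (Nat.card_eq_two_iff' (1 : ↥K)).1 hK
    have h1 : (⟨y, hy⟩ : ↥K) = b := hb _ (fun h => hy1 (congrArg Subtype.val h))
    have h2 : (⟨w, hw⟩ : ↥K) = b := hb _ (fun h => hw1 (congrArg Subtype.val h))
    exact congrArg Subtype.val (h1.trans h2.symm)

/-- Let S be a finite 2-group of sectional 2-rank at most 4, and let P and Q be normal non-abelian subgroups of S whose centres have order 2 and are different. Then P and Q commute elementwise and intersect trivially, and PQ contains its own centralizer in S. -/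
theorem result {S : Type*} [Group S] [Finite S] (h2 : IsPGroup 2 S) (hr : Cfsg.SectionalPRankLE 2 4 S)
    (P Q : Subgroup S) [P.Normal] [Q.Normal] (hP : ¬ IsMulCommutative ↥P) (hQ : ¬ IsMulCommutative ↥Q)
    (hZP : Nat.card ↥(Subgroup.center ↥P) = 2) (hZQ : Nat.card ↥(Subgroup.center ↥Q) = 2)
    (hne : (Subgroup.center ↥P).map P.subtype ≠ (Subgroup.center ↥Q).map Q.subtype) :
    ⁅P, Q⁆ = ⊥ ∧ P ⊓ Q = ⊥ ∧ Subgroup.centralizer ((P ⊔ Q : Subgroup S) : Set S) ≤ P ⊔ Q := by
  have : Fact (Nat.Prime 2) := ⟨Nat.prime_two⟩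
  have hZPc := center_map_le_center h2 P hZP
  have hZQc := center_map_le_center h2 Q hZQ
  have hcardZP : Nat.card ↥((center ↥P).map P.subtype) = 2 := by
    rw [Subgroup.card_map_of_injective P.subtype_injective]; exact hZP
  have hcardZQ : Nat.card ↥((center ↥Q).map Q.subtype) = 2 := by
    rw [Subgroup.card_map_of_injective Q.subtype_injective]; exact hZQ
  -- P ⊓ Q = ⊥
  have hinf : P ⊓ Q = ⊥ := by
    by_contra hne'
    have h1 := Cfsg.Agent.Helper63.normal_inf_center_ne_bot h2 (P ⊓ Q) hne'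
    obtain ⟨⟨w, hw⟩, hw1'⟩ := (Subgroup.ne_bot_iff_exists_ne_one).1 h1
    have hw1 : w ≠ 1 := fun h => hw1' (Subtype.ext h)
    have hwP : w ∈ P := hw.1.1
    have hwQ : w ∈ Q := hw.1.2
    have hwZ : w ∈ center S := hw.2
    have hwZP : w ∈ (center ↥P).map P.subtype := by
      refine mem_map.2 ⟨⟨w, hwP⟩, ?_, rfl⟩
      rw [mem_center_iff]
      intro g
      exact Subtype.ext (mem_center_iff.1 hwZ g)
    have hwZQ : w ∈ (center ↥Q).map Q.subtype := by
      refine mem_map.2 ⟨⟨w, hwQ⟩, ?_, rfl⟩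
      rw [mem_center_iff]
      intro g
      exact Subtype.ext (mem_center_iff.1 hwZ g)
    apply hne
    ext y
    constructor
    · intro hy
      rcases eq_of_card_two _ hcardZP w hwZP hw1 y hy with rfl | rfl
      · exact one_mem _
      · exact hwZQ
    · intro hy
      rcases eq_of_card_two _ hcardZQ w hwZQ hw1 y hy with rfl | rfl
      · exact one_mem _
      · exact hwZP
  have hcomm : ⁅P, Q⁆ = ⊥ := by
    rw [eq_bot_iff, ← hinf]
    exact commutator_le_inf P Q
  refine ⟨hcomm, hinf, ?_⟩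
  -- elements of P and Q commute
  have hPQc : ∀ a ∈ P, ∀ b ∈ Q, Commute a b := by
    intro a ha b hb
    have := (commutator_eq_bot_iff_le_centralizer.1 hcomm) ha
    rw [mem_centralizer_iff] at this
    exact (this b hb).symm
  -- the centralizer
  intro c₀ hc₀
  by_contra hc₀PQ
  obtain ⟨c, hcC, hcPQ, hc2⟩ := exists_sq_mem h2 (P ⊔ Q) (centralizer ((P ⊔ Q : Subgroup S) : Set S)) c₀ hc₀ hc₀PQ
  have hPle : P ≤ P ⊔ Q := le_sup_left
  have hQle : Q ≤ P ⊔ Q := le_sup_right
  have hcc : ∀ y ∈ P ⊔ Q, Commute c y := by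
    intro y hy
    rw [mem_centralizer_iff] at hcC
    exact (hcC y hy).symm
  obtain ⟨xP, gP, hzP, hzP1⟩ := exists_comm_central (h2.to_subgroup P) hP
  obtain ⟨xQ, gQ, hzQ, hzQ1⟩ := exists_comm_central (h2.to_subgroup Q) hQ
  -- squares
  have hsqP : ((xP * gP * xP⁻¹ * gP⁻¹ : ↥P) : S) ^ 2 = 1 := by
    have := pow_card_eq_one' (G := ↥(center ↥P)) (x := ⟨_, hzP⟩)
    rw [hZP] at this
    have h' := congrArg (fun t : ↥(center ↥P) => ((t : ↥P) : S)) this
    simpa using h'
  have hsqQ : ((xQ * gQ * xQ⁻¹ * gQ⁻¹ : ↥Q) : S) ^ 2 = 1 := by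
    have := pow_card_eq_one' (G := ↥(center ↥Q)) (x := ⟨_, hzQ⟩)
    rw [hZQ] at this
    have h' := congrArg (fun t : ↥(center ↥Q) => ((t : ↥Q) : S)) this
    simpa using h'
  have hzPc : ((xP * gP * xP⁻¹ * gP⁻¹ : ↥P) : S) ∈ center S := hZPc (mem_map.2 ⟨_, hzP, rfl⟩)
  have hzQc : ((xQ * gQ * xQ⁻¹ * gQ⁻¹ : ↥Q) : S) ∈ center S := hZQc (mem_map.2 ⟨_, hzQ, rfl⟩)
  refine not_sectionalRank_four (xP : S) (gP : S) (xQ : S) (gQ : S) c
    ((xP * gP * xP⁻¹ * gP⁻¹ : ↥P) : S) ((xQ * gQ * xQ⁻¹ * gQ⁻¹ : ↥Q) : S) (P ⊔ Q)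
    (by push_cast; rfl) (by push_cast; rfl)
    (fun y => (mem_center_iff.1 hzPc y).symm) (fun y => (mem_center_iff.1 hzQc y).symm)
    (fun h => hzP1 (Subtype.ext h)) (fun h => hzQ1 (Subtype.ext h)) hsqP hsqQ
    (hPQc _ xP.2 _ xQ.2) (hPQc _ xP.2 _ gQ.2) (hPQc _ gP.2 _ xQ.2) (hPQc _ gP.2 _ gQ.2)
    (hcc _ (hPle xP.2)) (hcc _ (hPle gP.2)) (hcc _ (hQle xQ.2)) (hcc _ (hQle gQ.2))
    (hPle xP.2) (hPle gP.2) (hQle xQ.2) (hQle gQ.2) hcPQ hc2 hr

end Cfsg.Agent.S4400
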