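import Cfsg.Statements.S4401
import Cfsg.Agent.Helper63.Sect4E
-- import your own Cfsg.Agent.* helpers here

set_option autoImplicit false
open Cfsg

namespace Cfsg.Agent.S4401

/-- Let S be a finite 2-group of sectional 2-rank at most 4 and P a proper non-abelian subgroup whose centre has order 2. Let S₀ be the centralizer in S of Z(P) and suppose P is normal in S₀. Then either S₀ = S, or P has sectional 2-rank at most 2 and S₀ has index 2 in S. -/
theorem result {S : Type*} [Group S] [Finite S] (h2 : IsPGroup 2 S) (hr : Cfsg.SectionalPRankLE 2 4 S)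
    (P : Subgroup S) (hPlt : P ≠ ⊤) (hP : ¬ IsMulCommutative ↥P) (hZP : Nat.card ↥(Subgroup.center ↥P) = 2)
    (S₀ : Subgroup S) (hS₀ : S₀ = Subgroup.centralizer (((Subgroup.center ↥P).map P.subtype : Subgroup S) : Set S))
    (hPn : ∀ s ∈ S₀, ∀ x ∈ P, s * x * s⁻¹ ∈ P) :
    S₀ = ⊤ ∨ (Cfsg.SectionalPRankLE 2 2 ↥P ∧ S₀.index = 2) := by
  by_cases htop : S₀ = ⊤
  · exact Or.inl htop
  right
  obtain ⟨z', hz'1, hz'u⟩ := (Nat.card_eq_two_iff' (1 : Subgroup.center ↥P)).1 hZP
  have hz'c : ∀ g : ↥P, g * (z' : ↥P) = (z' : ↥P) * g := fun g => Subgroup.mem_center_iff.1 z'.2 g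
  have hcenP : ∀ x ∈ P, (∀ y ∈ P, x * y = y * x) → x = 1 ∨ x = ((z' : ↥P) : S) := by
    intro x hx hxc
    have hxcen : (⟨x, hx⟩ : ↥P) ∈ Subgroup.center ↥P := by
      rw [Subgroup.mem_center_iff]
      intro g
      apply Subtype.ext
      exact (hxc g g.2).symm
    by_cases h1 : (⟨⟨x, hx⟩, hxcen⟩ : Subgroup.center ↥P) = 1
    · left
      have := congrArg (fun a : Subgroup.center ↥P => ((a : ↥P) : S)) h1
      simpa using this
    · right
      have := hz'u _ h1
      have := congrArg (fun a : Subgroup.center ↥P => ((a : ↥P) : S)) this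
      simpa using this
  have hcent : ∀ s : S, s ∈ S₀ ↔ s * ((z' : ↥P) : S) = ((z' : ↥P) : S) * s := by
    intro s
    rw [hS₀, Subgroup.mem_centralizer_iff]
    constructor
    · intro h
      exact (h _ ⟨(z' : ↥P), z'.2, rfl⟩).symm
    · rintro h _ ⟨a, ha, rfl⟩
      by_cases h1 : (⟨a, ha⟩ : Subgroup.center ↥P) = 1
      · have : a = 1 := congrArg (fun a : Subgroup.center ↥P => (a : ↥P)) h1
        rw [this]; simp
      · have := hz'u _ h1
        have : a = (z' : ↥P) := congrArg (fun a : Subgroup.center ↥P => (a : ↥P)) this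
        rw [this]; exact h.symm
  have hle : P ≤ S₀ := by
    intro x hx
    rw [hcent]
    exact congrArg Subtype.val (hz'c ⟨x, hx⟩)
  have c₀ : Cfsg.Agent.Helper63.SR4.Cfg P ((frattini ↥P).map P.subtype) S₀ ((z' : ↥P) : S) :=
    ⟨Cfsg.Agent.Helper63.SR4.v4Quot_frattini h2 P hP, hcenP, hcent, hle, hPn⟩
  obtain ⟨⟨t, hbot, hcomm⟩, hidx⟩ := Cfsg.Agent.Helper63.SR4.core h2 hr c₀ hP htop
  exact ⟨Cfsg.Agent.Helper63.SR4.sectional_two_of_pair hr P t hbot hcomm, hidx⟩

end Cfsg.Agent.S4401
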