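import Cfsg.Statements.S4403
import Cfsg.Agent.Helper29.CyclicSylow
import Cfsg.Agent.Helper22.PConstrained
import Cfsg.Agent.Helper22.FStar
import Cfsg.Agent.Helper22.Layer
import Cfsg.Agent.Helper21.Radical
import Cfsg.Agent.S0088
import Cfsg.Agent.Helper2.CyclicP

set_option autoImplicit false
open Cfsg

namespace Cfsg.Agent.S4403

open scoped commutatorElement

/-- The case `E(K) = 1`. -/
theorem case_layer_bot {K : Type*} [Group K] [Finite K] (p : ℕ) [Fact p.Prime]
    (hO : Cfsg.pPrimeCore p K = ⊥) (P : Sylow p K) (hP : IsCyclic ↥(P : Subgroup K))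
    (hE : Cfsg.layer K = ⊥) :
    (P : Subgroup K).Normal ∧ Subgroup.centralizer ((P : Subgroup K) : Set K) = (P : Subgroup K) ∧
      (∀ (_ : (P : Subgroup K).Normal), IsCyclic (K ⧸ (P : Subgroup K))) ∧
      (P : Subgroup K).index ∣ p - 1 := by
  have hp : p.Prime := Fact.out
  have hcent := (Cfsg.Agent.Helper22.layer_eq_bot_iff_centralizer_pCore_le p hO).mp hE
  have hFP : Cfsg.pCore p K ≤ P := Cfsg.Agent.Lib.pCore_le_sylow P
  haveI := hP
  have hc : IsMulCommutative (P : Subgroup K) := IsCyclic.isMulCommutative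
  have hcomm : ∀ x ∈ (P : Subgroup K), ∀ y ∈ (P : Subgroup K), x * y = y * x := by
    intro x hx y hy
    exact congrArg Subtype.val (mul_comm' (⟨x, hx⟩ : (P : Subgroup K)) ⟨y, hy⟩)
  have hPc : (P : Subgroup K) ≤ Subgroup.centralizer ((P : Subgroup K) : Set K) := by
    intro x hx
    rw [Subgroup.mem_centralizer_iff]
    intro y hy
    exact hcomm y hy x hx
  have hPF : (P : Subgroup K) = Cfsg.pCore p K :=
    le_antisymm (hPc.trans ((Subgroup.centralizer_le (fun x hx => hFP hx)).trans hcent)) hFP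
  have hPn : (P : Subgroup K).Normal := by
    rw [hPF]
    haveI := Cfsg.Agent.Lib.pCore_characteristic (G := K) p
    infer_instance
  have hCP : Subgroup.centralizer ((P : Subgroup K) : Set K) = (P : Subgroup K) := by
    refine le_antisymm ?_ hPc
    calc Subgroup.centralizer ((P : Subgroup K) : Set K)
        ≤ Subgroup.centralizer ((Cfsg.pCore p K : Subgroup K) : Set K) :=
          Subgroup.centralizer_le (fun x hx => hFP hx)
      _ ≤ Cfsg.pCore p K := hcent
      _ = P := hPF.symm
  -- the conjugation action on `P`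
  let ψ : K →* MulAut (P : Subgroup K) := MulAut.conjNormal
  have hker : ψ.ker = (P : Subgroup K) := by
    ext x
    rw [MonoidHom.mem_ker]
    constructor
    · intro hx
      rw [← hCP, Subgroup.mem_centralizer_iff]
      intro y hy
      have h1 : ((ψ x ⟨y, hy⟩ : (P : Subgroup K)) : K) = x * y * x⁻¹ :=
        MulAut.conjNormal_apply x ⟨y, hy⟩
      rw [hx] at h1
      have h2 : y = x * y * x⁻¹ := h1
      calc y * x = (x * y * x⁻¹) * x := by rw [← h2]
        _ = x * y := by group
    · intro hx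
      ext y
      have h1 : ((ψ x y : (P : Subgroup K)) : K) = x * y * x⁻¹ := MulAut.conjNormal_apply x y
      rw [h1, hcomm x hx y y.2]
      simp
  have hinj : Function.Injective (QuotientGroup.kerLift ψ) := QuotientGroup.kerLift_injective ψ
  obtain ⟨n, hn⟩ := P.2.exists_card_eq
  have hidx : (P : Subgroup K).index ∣ p - 1 := by
    have h1 : Nat.card (K ⧸ ψ.ker) ∣ Nat.card (MulAut (P : Subgroup K)) :=
      Subgroup.card_dvd_of_injective _ hinj
    have h2 : Nat.card (K ⧸ ψ.ker) = (P : Subgroup K).index := by rw [hker]; rfl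
    rw [h2, IsCyclic.card_mulAut, hn] at h1
    rcases Nat.eq_zero_or_pos n with h0 | h0
    · rw [h0, pow_zero, Nat.totient_one] at h1
      exact h1.trans (one_dvd _)
    · rw [Nat.totient_prime_pow hp h0] at h1
      have hcop : ((P : Subgroup K).index).Coprime (p ^ (n - 1)) := by
        apply Nat.Coprime.pow_right
        exact ((Nat.Prime.coprime_iff_not_dvd hp).mpr P.not_dvd_index).symm
      exact hcop.dvd_of_dvd_mul_left h1
  refine ⟨hPn, hCP, ?_, hidx⟩
  intro hPn'
  by_cases hp2 : p = 2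
  · have h1 : (P : Subgroup K).index = 1 := by
      have h21 : p - 1 = 1 := by omega
      have := hidx
      rw [h21] at this
      exact Nat.dvd_one.mp this
    have h2 : Nat.card (K ⧸ (P : Subgroup K)) = 1 := h1
    haveI : Subsingleton (K ⧸ (P : Subgroup K)) := (Nat.card_eq_one_iff_unique.mp h2).1
    exact isCyclic_of_subsingleton
  · have hZ : IsCyclic (ZMod (Nat.card (P : Subgroup K)))ˣ := by
      rw [hn]
      exact ZMod.isCyclic_units_of_prime_pow p hp hp2 n
    have hA : IsCyclic (MulAut (P : Subgroup K)) :=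
      isCyclic_of_injective (IsCyclic.mulAutMulEquiv (P : Subgroup K)).toMonoidHom
        (IsCyclic.mulAutMulEquiv (P : Subgroup K)).injective
    have hQ : IsCyclic (K ⧸ ψ.ker) := isCyclic_of_injective (QuotientGroup.kerLift ψ) hinj
    exact isCyclic_of_surjective (QuotientGroup.quotientMulEquivOfEq hker).toMonoidHom
      (QuotientGroup.quotientMulEquivOfEq hker).surjective

/-- The case `E(K) ≠ 1`. -/
theorem case_layer_ne_bot {K : Type*} [Group K] [Finite K] (p : ℕ) [Fact p.Prime]
    (hO : Cfsg.pPrimeCore p K = ⊥) (P : Sylow p K) (hP : IsCyclic ↥(P : Subgroup K))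
    (hE : Cfsg.layer K ≠ ⊥) :
    IsSimpleGroup ↥(Cfsg.generalizedFittingSubgroup K) ∧
      ¬ IsMulCommutative ↥(Cfsg.generalizedFittingSubgroup K) ∧
      ¬ p ∣ (Cfsg.generalizedFittingSubgroup K).index := by
  have hp : p.Prime := Fact.out
  haveI hEn : (Cfsg.layer K).Normal := Cfsg.Agent.Helper21.layer_normal
  have hEperf : ⁅Cfsg.layer K, Cfsg.layer K⁆ = Cfsg.layer K :=
    Cfsg.Agent.Helper22.layer_commutator_self
  -- `p` divides `|E|`
  have hpE : p ∣ Nat.card (Cfsg.layer K) := by
    by_contra h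
    have hcop : (Nat.card (Cfsg.layer K)).Coprime p :=
      ((Nat.Prime.coprime_iff_not_dvd hp).mpr h).symm
    have := Cfsg.Agent.Lib.le_pPrimeCore hEn hcop
    rw [hO] at this
    exact hE (le_bot_iff.mp this)
  obtain ⟨y, hyP, hyE, hyo⟩ :=
    Cfsg.Agent.Helper29.exists_mem_sylow_mem_normal_orderOf P (Cfsg.layer K) hpE
  have hne : (P : Subgroup K) ⊓ Cfsg.layer K ≠ ⊥ := by
    intro hbot
    have : y ∈ (P : Subgroup K) ⊓ Cfsg.layer K := ⟨hyP, hyE⟩
    rw [hbot, Subgroup.mem_bot] at this
    rw [this, orderOf_one] at hyo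
    exact hp.one_lt.ne hyo
  -- `P ≤ E`
  have hPE : (P : Subgroup K) ≤ Cfsg.layer K :=
    Cfsg.Agent.Helper29.sylow_le_of_cyclic_of_perfect_normal P hP (Cfsg.layer K) hEperf.ge hne
  have hF : Cfsg.fittingSubgroup K = Cfsg.pCore p K :=
    Cfsg.Agent.Helper22.fittingSubgroup_eq_pCore_of_pPrimeCore_eq_bot p hO
  have hFP : Cfsg.fittingSubgroup K ≤ P := hF ▸ Cfsg.Agent.Lib.pCore_le_sylow P
  let PE : Sylow p (Cfsg.layer K) := P.subtype hPE
  have hPEcoe : (PE : Subgroup (Cfsg.layer K)) = (P : Subgroup K).subgroupOf (Cfsg.layer K) :=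
    Sylow.coe_subtype P hPE
  have hPEc : IsMulCommutative (PE : Subgroup (Cfsg.layer K)) := by
    haveI : IsCyclic ↥(PE : Subgroup (Cfsg.layer K)) := by
      rw [hPEcoe]
      haveI := hP
      exact isCyclic_of_surjective (Subgroup.subgroupOfEquivOfLe hPE).symm (MulEquiv.surjective _)
    exact IsCyclic.isMulCommutative
  have hHall : Nat.Coprime (Nat.card (PE : Subgroup (Cfsg.layer K)))
      (PE : Subgroup (Cfsg.layer K)).index := PE.card_coprime_index
  have hT := Cfsg.Agent.S0088.result (PE : Subgroup (Cfsg.layer K)) hPEc hHall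
  have hcommE : commutator (Cfsg.layer K) = ⊤ :=
    (Subgroup.isPerfect_iff.mpr hEperf).commutator_eq_top
  -- `Z(E) = 1`
  have hZE : Subgroup.center (Cfsg.layer K) = ⊥ := by
    rw [eq_bot_iff]
    intro z hz
    have hzF : (z : K) ∈ Cfsg.fittingSubgroup K :=
      Cfsg.Agent.Helper22.map_center_layer_le_fittingSubgroup ⟨z, hz, rfl⟩
    have hzP : z ∈ (PE : Subgroup (Cfsg.layer K)) := by
      rw [hPEcoe]
      exact Subgroup.mem_subgroupOf.mpr (hFP hzF)
    have : z ∈ (PE : Subgroup (Cfsg.layer K)) ⊓ commutator (Cfsg.layer K) ⊓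
        Subgroup.center (Cfsg.layer K) := ⟨⟨hzP, by rw [hcommE]; trivial⟩, hz⟩
    rw [hT] at this
    exact this
  -- `F(K) = 1`
  have hcomm0 : ⁅Cfsg.layer K, Cfsg.fittingSubgroup K⁆ = ⊥ :=
    Cfsg.Agent.Helper22.layer_commutator_fittingSubgroup
  have hFbot : Cfsg.fittingSubgroup K = ⊥ := by
    rw [eq_bot_iff]
    intro f hf
    have hfE : f ∈ Cfsg.layer K := hPE (hFP hf)
    have hc := Subgroup.commutator_eq_bot_iff_le_centralizer.mp hcomm0
    have : (⟨f, hfE⟩ : Cfsg.layer K) ∈ Subgroup.center (Cfsg.layer K) := by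
      rw [Subgroup.mem_center_iff]
      intro g
      apply Subtype.ext
      exact (Subgroup.mem_centralizer_iff.mp (hc g.2) f hf).symm
    rw [hZE, Subgroup.mem_bot] at this
    rw [Subgroup.mem_bot]
    exact congrArg Subtype.val this
  have hFstar : Cfsg.generalizedFittingSubgroup K = Cfsg.layer K := by
    unfold Cfsg.generalizedFittingSubgroup
    rw [hFbot, sup_bot_eq]
  -- every component has order divisible by `p`
  have hcomp_p : ∀ L : Subgroup K, Cfsg.IsComponent L → p ∣ Nat.card L := by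
    intro L hL
    by_contra h
    have hLE : L ≤ Cfsg.layer K := Cfsg.Agent.Helper22.IsComponent.le_layer hL
    haveI hLn : (L.subgroupOf (Cfsg.layer K)).Normal :=
      Cfsg.Agent.Helper22.IsComponent.normal_subgroupOf_layer hL
    have hcop : (Nat.card (L.subgroupOf (Cfsg.layer K))).Coprime p := by
      rw [Nat.card_congr (Subgroup.subgroupOfEquivOfLe hLE).toEquiv]
      exact ((Nat.Prime.coprime_iff_not_dvd hp).mpr h).symm
    have h1 := Cfsg.Agent.Lib.le_pPrimeCore hLn hcop
    haveI := Cfsg.Agent.Lib.pPrimeCore_characteristic (G := Cfsg.layer K) p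
    have hMn : ((Cfsg.pPrimeCore p (Cfsg.layer K)).map (Cfsg.layer K).subtype).Normal :=
      ConjAct.normal_of_characteristic_of_normal
    have hMcop : (Nat.card ((Cfsg.pPrimeCore p (Cfsg.layer K)).map
        (Cfsg.layer K).subtype)).Coprime p := by
      rw [Subgroup.card_map_of_injective (Subgroup.subtype_injective _)]
      exact Cfsg.Agent.Lib.card_pPrimeCore_coprime p
    have h2 := Cfsg.Agent.Lib.le_pPrimeCore hMn hMcop
    rw [hO, le_bot_iff, Subgroup.map_eq_bot_iff_of_injective _ (Subgroup.subtype_injective _)] at h2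
    rw [h2, le_bot_iff, Subgroup.subgroupOf_eq_bot] at h1
    exact Cfsg.Agent.Helper22.IsComponent.ne_bot hL ((disjoint_of_le_iff_left_eq_bot hLE).mp h1)
  have hcomp_el : ∀ L : Subgroup K, Cfsg.IsComponent L →
      ∃ y ∈ (P : Subgroup K), y ∈ L ∧ orderOf y = p := by
    intro L hL
    have hLE : L ≤ Cfsg.layer K := Cfsg.Agent.Helper22.IsComponent.le_layer hL
    haveI hLn : (L.subgroupOf (Cfsg.layer K)).Normal :=
      Cfsg.Agent.Helper22.IsComponent.normal_subgroupOf_layer hL
    have hdvd : p ∣ Nat.card (L.subgroupOf (Cfsg.layer K)) := by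
      rw [Nat.card_congr (Subgroup.subgroupOfEquivOfLe hLE).toEquiv]
      exact hcomp_p L hL
    obtain ⟨y, hyP, hyL, hyo⟩ := Cfsg.Agent.Helper29.exists_mem_sylow_mem_normal_orderOf PE
      (L.subgroupOf (Cfsg.layer K)) hdvd
    refine ⟨(y : K), ?_, Subgroup.mem_subgroupOf.mp hyL, by rw [Subgroup.orderOf_coe]; exact hyo⟩
    rw [hPEcoe] at hyP
    exact Subgroup.mem_subgroupOf.mp hyP
  have huniq : ∀ L L' : Subgroup K, Cfsg.IsComponent L → Cfsg.IsComponent L' → L = L' := by
    intro L L' hL hL'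
    by_contra hneq
    obtain ⟨y, hyP, hyL, hyo⟩ := hcomp_el L hL
    obtain ⟨y', hy'P, hy'L', hy'o⟩ := hcomp_el L' hL'
    haveI := hP
    have hmem := Cfsg.Agent.Helper2.mem_zpowers_of_pow_eq_one_of_isCyclic
      (C := (P : Subgroup K)) hp.pos ⟨y, hyP⟩ ⟨y', hy'P⟩
      (by rw [Subgroup.orderOf_mk]; exact hyo)
      (by
        apply Subtype.ext
        show y' ^ p = 1
        rw [← hy'o]
        exact pow_orderOf_eq_one y')
    have hy'L : y' ∈ L := by
      obtain ⟨k, hk⟩ := Subgroup.mem_zpowers_iff.mp hmem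
      have h1 : y ^ k = y' := by
        have := congrArg Subtype.val hk
        simpa using this
      rw [← h1]
      exact L.zpow_mem hyL k
    have hcent : Cfsg.layer K ≤ Subgroup.centralizer ({y'} : Set K) := by
      rw [Cfsg.Agent.Helper22.layer_le_iff]
      intro M hM
      by_cases hML : M = L
      · have h1 := Cfsg.Agent.Helper22.IsComponent.commutator_eq_bot_of_ne hM hL' (hML ▸ hneq)
        rw [Subgroup.commutator_eq_bot_iff_le_centralizer] at h1
        exact h1.trans (Subgroup.centralizer_le (Set.singleton_subset_iff.mpr hy'L'))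
      · have h1 := Cfsg.Agent.Helper22.IsComponent.commutator_eq_bot_of_ne hM hL hML
        rw [Subgroup.commutator_eq_bot_iff_le_centralizer] at h1
        exact h1.trans (Subgroup.centralizer_le (Set.singleton_subset_iff.mpr hy'L))
    have hy'E : y' ∈ Cfsg.layer K := hPE hy'P
    have : (⟨y', hy'E⟩ : Cfsg.layer K) ∈ Subgroup.center (Cfsg.layer K) := by
      rw [Subgroup.mem_center_iff]
      intro g
      apply Subtype.ext
      exact (Subgroup.mem_centralizer_iff.mp (hcent g.2) y' (Set.mem_singleton _)).symm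
    rw [hZE, Subgroup.mem_bot] at this
    have hy'1 : y' = 1 := congrArg Subtype.val this
    rw [hy'1, orderOf_one] at hy'o
    exact hp.one_lt.ne hy'o
  obtain ⟨L, hL⟩ : ∃ L : Subgroup K, Cfsg.IsComponent L := by
    by_contra h
    push Not at h
    exact hE (Cfsg.Agent.Helper22.layer_eq_bot_iff.mpr h)
  have hEL : Cfsg.layer K = L :=
    le_antisymm (Cfsg.Agent.Helper22.layer_le_iff.mpr fun M hM => (huniq M L hM hL).le)
      (Cfsg.Agent.Helper22.IsComponent.le_layer hL)
  have hQS : Cfsg.IsQuasisimple ↥(Cfsg.layer K) := hEL ▸ hL.2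
  have hsimple : IsSimpleGroup ↥(Cfsg.layer K) := by
    haveI := hQS.2
    let e : ↥(Cfsg.layer K) ⧸ Subgroup.center ↥(Cfsg.layer K) ≃* ↥(Cfsg.layer K) :=
      (QuotientGroup.quotientMulEquivOfEq hZE).trans QuotientGroup.quotientBot
    exact e.symm.isSimpleGroup
  have hnonab : ¬ IsMulCommutative ↥(Cfsg.layer K) := by
    intro hc
    have : ⁅Cfsg.layer K, Cfsg.layer K⁆ = ⊥ := by
      rw [Subgroup.commutator_eq_bot_iff_le_centralizer]
      intro x hx
      rw [Subgroup.mem_centralizer_iff]
      intro y hy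
      exact congrArg Subtype.val (mul_comm' (⟨y, hy⟩ : Cfsg.layer K) ⟨x, hx⟩)
    rw [hEperf] at this
    exact hE this
  have hidx : ¬ p ∣ (Cfsg.layer K).index := fun h =>
    P.not_dvd_index (h.trans (Subgroup.index_dvd_of_le hPE))
  rw [hFstar]
  exact ⟨hsimple, hnonab, hidx⟩

/-- Let K be a finite group, p a prime dividing its order with O_{p'}(K) = 1 (no nontrivial normal subgroup of order prime to p), and P a cyclic Sylow p-subgroup of K. Then either P is normal and self-centralizing in K with K/P cyclic of order dividing p − 1 (so K is the semidirect product of P by a group of automorphisms of P of order dividing p − 1), or the generalized Fitting subgroup F*(K) is a non-abelian simple group and p does not divide the index of F*(K) in K. -/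
theorem result {K : Type*} [Group K] [Finite K] (p : ℕ) [Fact p.Prime] (hp : p ∣ Nat.card K) (hO : Cfsg.pPrimeCore p K = ⊥)
    (P : Sylow p K) (hP : IsCyclic ↥(P : Subgroup K)) :
    ((P : Subgroup K).Normal ∧ Subgroup.centralizer ((P : Subgroup K) : Set K) = (P : Subgroup K) ∧
      (∀ (_ : (P : Subgroup K).Normal), IsCyclic (K ⧸ (P : Subgroup K))) ∧ (P : Subgroup K).index ∣ p - 1) ∨
    (IsSimpleGroup ↥(Cfsg.generalizedFittingSubgroup K) ∧ ¬ IsMulCommutative ↥(Cfsg.generalizedFittingSubgroup K) ∧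
      ¬ p ∣ (Cfsg.generalizedFittingSubgroup K).index) := by
  by_cases hE : Cfsg.layer K = ⊥
  · exact Or.inl (case_layer_bot p hO P hP hE)
  · exact Or.inr (case_layer_ne_bot p hO P hP hE)

end Cfsg.Agent.S4403
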