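import Cfsg.Statements.S4405
import Cfsg.Agent.S3739
import Cfsg.Agent.S0044
import Cfsg.Agent.S0199
import Cfsg.Agent.Helper63.Frattini
import Cfsg.Agent.Lib.BurnsidePQ
import Cfsg.Agent.Lib.Cores

set_option autoImplicit false
open Cfsg
open scoped commutatorElement

namespace Cfsg.Agent.S4405

open Cfsg.Agent.Helper24 Cfsg.Agent.S3738 Cfsg.Agent.S3739

variable {X : Type*} [Group X]

/-- Fixed-point congruence for an element of order dividing `p` normalizing a subgroup. -/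
theorem card_modEq_card_inf_centralizer [Finite X] {p : ℕ} [Fact p.Prime] (W : Subgroup X) (s : X)
    (hs : s ^ p = 1) (hsW : s ∈ Subgroup.normalizer (W : Set X)) :
    Nat.card W ≡ Nat.card ↥(W ⊓ Subgroup.centralizer {s}) [MOD p] := by
  have hconj : ∀ a ∈ Subgroup.normalizer (W : Set X), ∀ x ∈ W, a * x * a⁻¹ ∈ W :=
    fun a ha x hx => (Subgroup.mem_normalizer_iff.mp ha x).mp hx
  have h := card_modEq_card_fixed_conj (Subgroup.zpowers s) (isPGroup_zpowers_of_pow_eq_one s hs)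
    (W : Set X) (fun a ha x hx => hconj a ((Subgroup.zpowers_le.mpr hsW) ha) x hx)
  have e : {x : X // x ∈ (W : Set X) ∧ ∀ a ∈ Subgroup.zpowers s, a * x = x * a} ≃
      ↥(W ⊓ Subgroup.centralizer {s}) :=
    Equiv.subtypeEquivRight (fun x => by
      rw [Subgroup.mem_inf, Subgroup.mem_centralizer_iff]
      constructor
      · rintro ⟨h1, h2⟩
        refine ⟨h1, fun y hy => ?_⟩
        rw [Set.mem_singleton_iff.mp hy]
        exact h2 s (Subgroup.mem_zpowers s)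
      · rintro ⟨h1, h2⟩
        refine ⟨h1, fun a ha => ?_⟩
        have hle : Subgroup.zpowers s ≤ Subgroup.centralizer {x} := by
          rw [Subgroup.zpowers_le, Subgroup.mem_centralizer_iff]
          intro y hy
          rw [Set.mem_singleton_iff.mp hy]
          exact (h2 s rfl).symm
        exact (Subgroup.mem_centralizer_iff.mp (hle ha) x rfl).symm)
  rw [Nat.card_congr e] at h
  exact h

/-- The product inequality `|B₁| |B₂| ≤ |L| |B₁ ∩ B₂|` for subgroups of `L`. -/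
theorem card_mul_card_le [Finite X] (B₁ B₂ L : Subgroup X) (h₁ : B₁ ≤ L) (h₂ : B₂ ≤ L) :
    Nat.card B₁ * Nat.card B₂ ≤ Nat.card L * Nat.card (B₁ ⊓ B₂ : Subgroup X) := by
  have key : ∀ B : Subgroup X, B ≤ L → Nat.card B * B.relIndex L = Nat.card L := by
    intro B hB
    have := Subgroup.relIndex_mul_relIndex ⊥ B L bot_le hB
    rwa [Subgroup.relIndex_bot_left, Subgroup.relIndex_bot_left] at this
  have e1 := key B₁ h₁
  have e2 := key B₂ h₂
  have e3 := key (B₁ ⊓ B₂) (inf_le_left.trans h₁)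
  have hle := Subgroup.relIndex_inf_le (H := B₁) (K := B₂) (L := L)
  have hpos : 0 < (B₁ ⊓ B₂).relIndex L := by
    rcases Nat.eq_zero_or_pos ((B₁ ⊓ B₂).relIndex L) with h | h
    · rw [h, mul_zero] at e3
      have : 0 < Nat.card L := Nat.card_pos
      omega
    · exact h
  have h4 : Nat.card B₁ * Nat.card B₂ * (B₁ ⊓ B₂).relIndex L ≤
      Nat.card L * Nat.card (B₁ ⊓ B₂ : Subgroup X) * (B₁ ⊓ B₂).relIndex L := by
    calc Nat.card B₁ * Nat.card B₂ * (B₁ ⊓ B₂).relIndex L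
        ≤ Nat.card B₁ * Nat.card B₂ * (B₁.relIndex L * B₂.relIndex L) := Nat.mul_le_mul_left _ hle
      _ = (Nat.card B₁ * B₁.relIndex L) * (Nat.card B₂ * B₂.relIndex L) := by ring
      _ = Nat.card L * Nat.card L := by rw [e1, e2]
      _ = Nat.card L * (Nat.card (B₁ ⊓ B₂ : Subgroup X) * (B₁ ⊓ B₂).relIndex L) := by rw [e3]
      _ = Nat.card L * Nat.card (B₁ ⊓ B₂ : Subgroup X) * (B₁ ⊓ B₂).relIndex L := by ring
  exact Nat.le_of_mul_le_mul_right h4 hpos

/-- The elements commuting with `x` modulo a central subgroup `Z`. -/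
def commMod (Z : Subgroup X) (hZ : Z ≤ Subgroup.center X) (x : X) : Subgroup X where
  carrier := {k | x * k * x⁻¹ * k⁻¹ ∈ Z}
  one_mem' := by
    show x * 1 * x⁻¹ * 1⁻¹ ∈ Z
    have : x * 1 * x⁻¹ * 1⁻¹ = 1 := by group
    rw [this]; exact Z.one_mem
  mul_mem' := by
    intro k k' hk hk'
    show x * (k * k') * x⁻¹ * (k * k')⁻¹ ∈ Z
    have hc := Subgroup.mem_center_iff.mp (hZ hk')
    have : x * (k * k') * x⁻¹ * (k * k')⁻¹ = (x * k * x⁻¹ * k⁻¹) * (x * k' * x⁻¹ * k'⁻¹) := by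
      calc x * (k * k') * x⁻¹ * (k * k')⁻¹ = x * k * x⁻¹ * ((x * k' * x⁻¹ * k'⁻¹) * k⁻¹) := by group
        _ = x * k * x⁻¹ * (k⁻¹ * (x * k' * x⁻¹ * k'⁻¹)) := by rw [hc k⁻¹]
        _ = (x * k * x⁻¹ * k⁻¹) * (x * k' * x⁻¹ * k'⁻¹) := by group
    rw [this]
    exact Z.mul_mem hk hk'
  inv_mem' := by
    intro k hk
    show x * k⁻¹ * x⁻¹ * k⁻¹⁻¹ ∈ Z
    have hc := Subgroup.mem_center_iff.mp (hZ hk)
    have : x * k⁻¹ * x⁻¹ * k⁻¹⁻¹ = (x * k * x⁻¹ * k⁻¹)⁻¹ := by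
      calc x * k⁻¹ * x⁻¹ * k⁻¹⁻¹ = k⁻¹ * ((k * x * k⁻¹ * x⁻¹)) * k := by group
        _ = k⁻¹ * (x * k * x⁻¹ * k⁻¹)⁻¹ * k := by
          have : k * x * k⁻¹ * x⁻¹ = (x * k * x⁻¹ * k⁻¹)⁻¹ := by group
          rw [this]
        _ = k⁻¹ * ((x * k * x⁻¹ * k⁻¹)⁻¹ * k) := by group
        _ = k⁻¹ * (k * (x * k * x⁻¹ * k⁻¹)⁻¹) := by
          have h2 := Subgroup.mem_center_iff.mp (hZ (Z.inv_mem hk))
          rw [h2 k]
        _ = (x * k * x⁻¹ * k⁻¹)⁻¹ := by group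
    rw [this]
    exact Z.inv_mem hk

theorem mem_commMod (Z : Subgroup X) (hZ : Z ≤ Subgroup.center X) (x k : X) :
    k ∈ commMod Z hZ x ↔ x * k * x⁻¹ * k⁻¹ ∈ Z := Iff.rfl

theorem mem_commMod_symm (Z : Subgroup X) (hZ : Z ≤ Subgroup.center X) (x k : X)
    (h : k ∈ commMod Z hZ x) : x ∈ commMod Z hZ k := by
  rw [mem_commMod] at h ⊢
  have : k * x * k⁻¹ * x⁻¹ = (x * k * x⁻¹ * k⁻¹)⁻¹ := by group
  rw [this]
  exact Z.inv_mem h

/-- Surjectivity by counting of `(x, ζ) ↦ [x, t] ζ` onto `A`, when it is injective modulo `A`. -/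
theorem exists_comm_mul_eq_of_card [Finite X] (H A Z : Subgroup X) (t : X) (hAH : A ≤ H)
    (hAt : ∀ a ∈ A, a * t = t * a) (hZA : Z ≤ A)
    (hφA : ∀ x ∈ H, x * t * x⁻¹ * t⁻¹ ∈ A)
    (hinj : ∀ x ∈ H, ∀ y ∈ H, ∀ ζ ∈ Z, x * t * x⁻¹ * t⁻¹ = y * t * y⁻¹ * t⁻¹ * ζ → x⁻¹ * y ∈ A)
    (hcard : Nat.card H * Nat.card Z = Nat.card A * Nat.card A) :
    ∀ a ∈ A, ∃ x ∈ H, ∃ ζ ∈ Z, a = x * t * x⁻¹ * t⁻¹ * ζ := by
  classical
  set S : Subgroup ↥H := A.subgroupOf H with hS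
  have hwd : ∀ x y : ↥H, QuotientGroup.leftRel S x y →
      (x : X) * t * (x : X)⁻¹ * t⁻¹ = (y : X) * t * (y : X)⁻¹ * t⁻¹ := by
    intro x y hxy
    rw [QuotientGroup.leftRel_apply, hS, Subgroup.mem_subgroupOf] at hxy
    have hxy' : (x : X)⁻¹ * (y : X) ∈ A := by simpa using hxy
    have hc := hAt _ hxy'
    have hy : (y : X) = x * ((x : X)⁻¹ * y) := by group
    rw [hy]
    generalize (x : X)⁻¹ * (y : X) = a at hc
    have hc' : t * a⁻¹ = a⁻¹ * t := by
      calc t * a⁻¹ = a⁻¹ * (a * t) * a⁻¹ := by group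
        _ = a⁻¹ * (t * a) * a⁻¹ := by rw [hc]
        _ = a⁻¹ * t := by group
    calc (x : X) * t * (x : X)⁻¹ * t⁻¹ = x * (t * a * a⁻¹) * (x : X)⁻¹ * t⁻¹ := by group
      _ = x * (a * t * a⁻¹) * (x : X)⁻¹ * t⁻¹ := by rw [hc]
      _ = x * a * t * (x * a)⁻¹ * t⁻¹ := by group
  let φ : (↥H ⧸ S) → X := fun q => Quotient.liftOn' q (fun x : ↥H => (x : X) * t * (x : X)⁻¹ * t⁻¹) hwd
  have hφmk : ∀ x : ↥H, φ (QuotientGroup.mk x) = (x : X) * t * (x : X)⁻¹ * t⁻¹ := fun x => rfl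
  let Ψ : (↥H ⧸ S) × ↥Z → ↥A := fun qz =>
    ⟨φ qz.1 * (qz.2 : X), by
      obtain ⟨q, ζ⟩ := qz
      induction q using QuotientGroup.induction_on with
      | H x => exact A.mul_mem (hφA x x.2) (hZA ζ.2)⟩
  have hΨinj : Function.Injective Ψ := by
    rintro ⟨q, ζ⟩ ⟨q', ζ'⟩ h
    have h' : φ q * (ζ : X) = φ q' * (ζ' : X) := congrArg Subtype.val h
    induction q using QuotientGroup.induction_on with
    | H x =>
      induction q' using QuotientGroup.induction_on with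
      | H y =>
        rw [hφmk, hφmk] at h'
        have h1 : (x : X) * t * (x : X)⁻¹ * t⁻¹ = (y : X) * t * (y : X)⁻¹ * t⁻¹ * ((ζ' : X) * (ζ : X)⁻¹) := by
          calc (x : X) * t * (x : X)⁻¹ * t⁻¹ = ((x : X) * t * (x : X)⁻¹ * t⁻¹ * ζ) * (ζ : X)⁻¹ := by group
            _ = ((y : X) * t * (y : X)⁻¹ * t⁻¹ * ζ') * (ζ : X)⁻¹ := by rw [h']
            _ = (y : X) * t * (y : X)⁻¹ * t⁻¹ * ((ζ' : X) * (ζ : X)⁻¹) := by group
        have h2 := hinj x x.2 y y.2 _ (Z.mul_mem ζ'.2 (Z.inv_mem ζ.2)) h1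
        have hq : (QuotientGroup.mk x : ↥H ⧸ S) = QuotientGroup.mk y := by
          rw [QuotientGroup.eq, hS, Subgroup.mem_subgroupOf]
          simpa using h2
        have h3 : (x : X) * t * (x : X)⁻¹ * t⁻¹ = (y : X) * t * (y : X)⁻¹ * t⁻¹ := by
          rw [← hφmk, ← hφmk, hq]
        rw [h3] at h'
        have h4 : (ζ : X) = ζ' := mul_left_cancel h'
        rw [Prod.mk.injEq]
        exact ⟨hq, Subtype.ext h4⟩
  have hcards : Nat.card ((↥H ⧸ S) × ↥Z) = Nat.card ↥A := by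
    rw [Nat.card_prod]
    have h1 := Subgroup.card_eq_card_quotient_mul_card_subgroup S
    have h2 : Nat.card ↥S = Nat.card ↥A := by
      rw [hS]
      exact Nat.card_congr (Subgroup.subgroupOfEquivOfLe hAH).toEquiv
    rw [h2] at h1
    have hApos : 0 < Nat.card ↥A := Nat.card_pos
    have h3 : Nat.card (↥H ⧸ S) * Nat.card ↥Z * Nat.card ↥A = Nat.card ↥A * Nat.card ↥A := by
      rw [← hcard, h1]; ring
    exact Nat.eq_of_mul_eq_mul_right hApos h3
  have hΨsurj : Function.Surjective Ψ :=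
    ((Nat.bijective_iff_injective_and_card Ψ).mpr ⟨hΨinj, hcards⟩).2
  intro a ha
  obtain ⟨⟨q, ζ⟩, hqζ⟩ := hΨsurj ⟨a, ha⟩
  induction q using QuotientGroup.induction_on with
  | H x =>
    refine ⟨x, x.2, ζ, ζ.2, ?_⟩
    have := congrArg Subtype.val hqζ
    exact this.symm

theorem mem_commMod' (Z : Subgroup X) (hZ : Z ≤ Subgroup.center X) (x k : X) :
    k ∈ commMod Z hZ x ↔ k * x * k⁻¹ * x⁻¹ ∈ Z :=
  ⟨fun h => (mem_commMod Z hZ k x).mp (mem_commMod_symm Z hZ x k h),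
    fun h => mem_commMod_symm Z hZ k x ((mem_commMod Z hZ k x).mpr h)⟩

end Cfsg.Agent.S4405

namespace Cfsg.Agent.S4405

open Cfsg.Agent.Helper24 Cfsg.Agent.S3738 Cfsg.Agent.S3739 in
/-- Let G be a finite group of order 320 = 64·5 whose largest normal 2-subgroup H = O₂(G) equals the Fitting subgroup F(G) and is extraspecial of order 32 containing no elementary abelian subgroup of order 8 (so H is the central product of a quaternion group and a dihedral group of order 8). If T is an involution of G outside H whose centralizer in H contains an elementary abelian subgroup of order 4, then C_H(T) itself is elementary abelian of order 4. -/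
theorem result {G : Type*} [Group G] [Finite G]
    (hG : Nat.card G = 320) (hHF : Cfsg.pCore 2 G = Cfsg.fittingSubgroup G)
    (hex : Cfsg.IsExtraspecial 2 ↥(Cfsg.pCore 2 G)) (h32 : Nat.card ↥(Cfsg.pCore 2 G) = 32)
    (hminus : ∀ A : Subgroup G, A ≤ Cfsg.pCore 2 G → Cfsg.IsElementaryAbelian 2 A → Nat.card ↥A ≤ 4)
    (T : G) (hT : orderOf T = 2) (hTH : T ∉ Cfsg.pCore 2 G)
    (V : Subgroup G) (hV : V ≤ Cfsg.pCore 2 G ⊓ Subgroup.centralizer ({T} : Set G)) (hV4 : Nat.card ↥V = 4) (hVe : Cfsg.IsElementaryAbelian 2 V) :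
    Nat.card ↥(Cfsg.pCore 2 G ⊓ Subgroup.centralizer ({T} : Set G)) = 4 ∧
      Cfsg.IsElementaryAbelian 2 (Cfsg.pCore 2 G ⊓ Subgroup.centralizer ({T} : Set G)) := by
  classical
  have _ : Fact (Nat.Prime 2) := ⟨Nat.prime_two⟩
  have _ : Fact (Nat.Prime 5) := ⟨by norm_num⟩
  set H : Subgroup G := Cfsg.pCore 2 G with hH
  have hHchar : H.Characteristic := Cfsg.Agent.Lib.pCore_characteristic 2
  have hHn : H.Normal := inferInstance
  have hH2 : IsPGroup 2 ↥H := Cfsg.Agent.Lib.isPGroup_pCore 2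
  have hHconj : ∀ a : G, ∀ x ∈ H, a * x * a⁻¹ ∈ H := fun a x hx => hHn.conj_mem x hx a
  have hNH : ∀ a : G, a ∈ Subgroup.normalizer (H : Set G) := fun a =>
    Subgroup.mem_normalizer_fintype (hHconj a)
  obtain ⟨⟨-, hfrat, hcomm⟩, hZcard⟩ := hex
  -- the centre of `H`, as a subgroup of `G`
  let ZH : Subgroup G :=
    { carrier := {x | x ∈ H ∧ ∀ y ∈ H, y * x = x * y}
      one_mem' := ⟨H.one_mem, fun y _ => by rw [one_mul, mul_one]⟩
      mul_mem' := by
        rintro x y ⟨hx, hxc⟩ ⟨hy, hyc⟩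
        refine ⟨H.mul_mem hx hy, fun w hw => ?_⟩
        rw [← mul_assoc, hxc w hw, mul_assoc, hyc w hw, mul_assoc]
      inv_mem' := by
        rintro x ⟨hx, hxc⟩
        refine ⟨H.inv_mem hx, fun w hw => ?_⟩
        exact inv_comm_of_comm w x (hxc w hw) }
  have hZmem : ∀ x, x ∈ ZH ↔ x ∈ H ∧ ∀ y ∈ H, y * x = x * y := fun x => Iff.rfl
  have hZH : ZH ≤ H := fun x hx => ((hZmem x).mp hx).1
  have hcenZ : ∀ c : ↥H, c ∈ Subgroup.center ↥H → (c : G) ∈ ZH := by
    intro c hc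
    refine (hZmem _).mpr ⟨c.2, fun y hy => ?_⟩
    have := Subgroup.mem_center_iff.mp hc ⟨y, hy⟩
    exact congrArg Subtype.val this
  have hZH2 : Nat.card ZH = 2 := by
    rw [← hZcard]
    refine Nat.card_congr
      { toFun := fun x => ⟨⟨x.1, x.2.1⟩, Subgroup.mem_center_iff.mpr
          (fun w => Subtype.ext (x.2.2 w.1 w.2))⟩
        invFun := fun c => ⟨(c.1 : G), hcenZ c.1 c.2⟩
        left_inv := fun x => rfl
        right_inv := fun c => rfl }
  have hZconj : ∀ a : G, ∀ x ∈ ZH, a * x * a⁻¹ ∈ ZH := by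
    intro a x hx
    rw [hZmem] at hx ⊢
    obtain ⟨hxH, hxc⟩ := hx
    refine ⟨hHconj a x hxH, fun y hy => ?_⟩
    have hy' : a⁻¹ * y * a ∈ H := by
      have := hHconj a⁻¹ y hy
      rwa [inv_inv] at this
    have h1 := hxc _ hy'
    calc y * (a * x * a⁻¹) = a * ((a⁻¹ * y * a) * x) * a⁻¹ := by group
      _ = a * (x * (a⁻¹ * y * a)) * a⁻¹ := by rw [h1]
      _ = a * x * a⁻¹ * y := by group
  obtain ⟨z, hz1, hzu⟩ := (Nat.card_eq_two_iff' (1 : ↥ZH)).mp hZH2
  have hzu' : ∀ ζ ∈ ZH, ζ = 1 ∨ ζ = (z : G) := by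
    intro ζ hζ
    by_cases h : ζ = 1
    · exact Or.inl h
    · right
      have h' : (⟨ζ, hζ⟩ : ↥ZH) ≠ 1 := fun h2 => h (congrArg Subtype.val h2)
      exact congrArg Subtype.val (hzu _ h')
  have hz1' : (z : G) ≠ 1 := fun h => hz1 (Subtype.ext h)
  have hzc : ∀ a : G, a * (z : G) = z * a := by
    intro a
    have h1 := hZconj a z z.2
    rcases hzu' _ h1 with h | h
    · exfalso
      apply hz1'
      calc (z : G) = a⁻¹ * (a * z * a⁻¹) * a := by group
        _ = 1 := by rw [h]; group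
    · calc a * (z : G) = (a * z * a⁻¹) * a := by group
        _ = z * a := by rw [h]
  have hZcen : ZH ≤ Subgroup.center G := by
    intro ζ hζ
    rw [Subgroup.mem_center_iff]
    intro a
    rcases hzu' ζ hζ with h | h
    · rw [h, mul_one, one_mul]
    · rw [h]; exact hzc a
  have hZc : ∀ ζ ∈ ZH, ∀ a : G, a * ζ = ζ * a := fun ζ hζ a =>
    Subgroup.mem_center_iff.mp (hZcen hζ) a
  have hZ2 : ∀ ζ ∈ ZH, ζ * ζ = 1 := by
    intro ζ hζ
    have h := pow_card_eq_one' (G := ↥ZH) (x := ⟨ζ, hζ⟩)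
    rw [hZH2] at h
    have := congrArg Subtype.val h
    simpa [pow_two] using this
  -- commutators and squares of `H` lie in `Z(H)`
  have hsqZ : ∀ x ∈ H, x * x ∈ ZH := by
    intro x hx
    have h := Cfsg.Agent.Helper63.pow_prime_mem_frattini hH2 (⟨x, hx⟩ : ↥H)
    rw [hfrat] at h
    have := hcenZ _ h
    simpa [pow_two] using this
  -- `C_G(H) ≤ H`
  have hsolv : Group.IsSolvable G :=
    Cfsg.Agent.Lib.burnside_pq 2 5 6 1 Nat.prime_two (by norm_num) (by rw [hG]; norm_num)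
  have hCH : Subgroup.centralizer (H : Set G) ≤ H := by
    have := Cfsg.Agent.S0044.result (G := G)
    rwa [← hHF] at this
  -- an element of order `5` has centralizer `Z(H)` in `H`
  have hfix : ∀ f : G, orderOf f = 5 → H ⊓ Subgroup.centralizer {f} = ZH := by
    intro f hf
    have hf5 : f ^ 5 = 1 := by rw [← hf]; exact pow_orderOf_eq_one f
    have hmod := card_modEq_card_inf_centralizer (p := 5) H f hf5 (hNH f)
    rw [h32] at hmod
    set C : Subgroup G := H ⊓ Subgroup.centralizer {f} with hC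
    obtain ⟨j, hj⟩ := (IsPGroup.iff_card).mp (hH2.to_le inf_le_left : IsPGroup 2 ↥C)
    have hle : Nat.card ↥C ≤ 32 := h32 ▸ Subgroup.card_le_of_le (inf_le_left : C ≤ H)
    have hj5 : j ≤ 5 := by
      by_contra h
      push Not at h
      have : 2 ^ 6 ≤ 2 ^ j := Nat.pow_le_pow_right (by norm_num) h
      omega
    have hZC : ZH ≤ C := by
      intro ζ hζ
      refine Subgroup.mem_inf.mpr ⟨hZH hζ, ?_⟩
      rw [Subgroup.mem_centralizer_iff]
      intro y hy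
      rw [Set.mem_singleton_iff.mp hy]
      exact hZc ζ hζ f
    have hmod' : 32 % 5 = Nat.card ↥C % 5 := hmod
    rw [hj] at hmod'
    interval_cases j
    · omega
    · exact (Subgroup.eq_of_le_of_card_ge hZC (by rw [hj, hZH2]; norm_num)).symm
    · omega
    · omega
    · omega
    · exfalso
      have hCH' : C = H := Subgroup.eq_of_le_of_card_ge inf_le_left (by rw [hj, h32]; norm_num)
      have hfc : f ∈ Subgroup.centralizer (H : Set G) := by
        rw [Subgroup.mem_centralizer_iff]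
        intro x hx
        have hx' : x ∈ C := by rw [hCH']; exact hx
        exact (Subgroup.mem_centralizer_iff.mp (Subgroup.mem_inf.mp hx').2 f rfl).symm
      have hfH : f ∈ H := hCH hfc
      obtain ⟨k, hk⟩ := (IsPGroup.iff_orderOf.mp hH2) ⟨f, hfH⟩
      rw [Subgroup.orderOf_mk, hf] at hk
      rcases k with _ | k
      · norm_num at hk
      · rw [pow_succ] at hk
        omega
  -- `T` is an involution
  have hT2 : T * T = 1 := by
    rw [← pow_two, ← hT]; exact pow_orderOf_eq_one T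
  have hTinv : T⁻¹ = T := inv_eq_of_mul_eq_one_left hT2
  -- Baer-Suzuki: some conjugate of `T` generates with `T` a group of order divisible by `5`
  have hBS : ∃ g : G, ¬ IsPGroup 2 ↥(Subgroup.zpowers T ⊔
      (Subgroup.zpowers T).map (MulAut.conj g).toMonoidHom) := by
    by_contra hcon
    push Not at hcon
    obtain ⟨N, hNn, hN2, hTN⟩ := Cfsg.Agent.S0199.result (p := 2) (Subgroup.zpowers T)
      (isPGroup_zpowers_of_pow_eq_one T (by rw [pow_two]; exact hT2)) hcon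
    exact hTH (Cfsg.Agent.Lib.le_pCore hNn hN2 (hTN (Subgroup.mem_zpowers T)))
  obtain ⟨g, hg⟩ := hBS
  set K : Subgroup G := Subgroup.zpowers T ⊔ (Subgroup.zpowers T).map (MulAut.conj g).toMonoidHom
    with hK
  set Tg : G := g * T * g⁻¹ with hTg
  have hKle : ∀ M : Subgroup G, T ∈ M → Tg ∈ M → K ≤ M := by
    intro M h1 h2
    refine sup_le (Subgroup.zpowers_le.mpr h1) ?_
    rw [MonoidHom.map_zpowers, Subgroup.zpowers_le]
    exact h2
  have h5K : 5 ∣ Nat.card ↥K := by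
    by_contra h5
    have hcop : Nat.Coprime (Nat.card ↥K) 5 :=
      ((Nat.Prime.coprime_iff_not_dvd (by norm_num : Nat.Prime 5)).mpr h5).symm
    have hdvd : Nat.card ↥K ∣ 2 ^ 6 * 5 := by
      have := Subgroup.card_subgroup_dvd_card K
      rwa [hG] at this
    have h64 : Nat.card ↥K ∣ 2 ^ 6 := hcop.dvd_of_dvd_mul_right hdvd
    obtain ⟨i, -, hi⟩ := (Nat.dvd_prime_pow Nat.prime_two).mp h64
    exact hg (IsPGroup.of_card hi)
  obtain ⟨f', hf'⟩ := exists_prime_orderOf_dvd_card' 5 h5K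
  have hf5 : orderOf (f' : G) = 5 := by rw [Subgroup.orderOf_coe]; exact hf'
  -- the subgroups `B₁`, `B₂`
  set B₁ : Subgroup G := H ⊓ commMod ZH hZcen T with hB₁
  set B₂ : Subgroup G := H ⊓ commMod ZH hZcen Tg with hB₂
  have hB12 : B₁ ⊓ B₂ ≤ ZH := by
    intro x hx
    obtain ⟨hx1, hx2⟩ := Subgroup.mem_inf.mp hx
    obtain ⟨hxH, hxT⟩ := Subgroup.mem_inf.mp hx1
    obtain ⟨-, hxTg⟩ := Subgroup.mem_inf.mp hx2
    have h1 : T ∈ commMod ZH hZcen x := mem_commMod_symm ZH hZcen T x hxT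
    have h2 : Tg ∈ commMod ZH hZcen x := mem_commMod_symm ZH hZcen Tg x hxTg
    have hfK : (f' : G) ∈ commMod ZH hZcen x := hKle _ h1 h2 f'.2
    rw [mem_commMod] at hfK
    set f : G := (f' : G) with hf
    set ζ : G := x * f * x⁻¹ * f⁻¹ with hζ
    have hζf : x * f * x⁻¹ = ζ * f := by rw [hζ]; group
    have hpow : (x * f * x⁻¹) ^ 5 = 1 := by
      have : (x * f * x⁻¹) ^ 5 = x * f ^ 5 * x⁻¹ := by
        rw [← conj_pow]
      rw [this, ← hf5, pow_orderOf_eq_one]; group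
    have hcomm : Commute ζ f := (hZc ζ hfK f).symm
    rw [hζf, hcomm.mul_pow, ← hf5, pow_orderOf_eq_one, mul_one, hf5] at hpow
    have hζ1 : ζ = 1 := by
      have h2 := hZ2 ζ hfK
      calc ζ = ζ ^ 5 * ((ζ * ζ) * (ζ * ζ))⁻¹ := by group
        _ = 1 := by rw [hpow, h2]; group
    have hxf : x * f = f * x := by
      calc x * f = (x * f * x⁻¹ * f⁻¹) * f * x := by group
        _ = f * x := by rw [← hζ, hζ1, one_mul]
    rw [← hfix f hf5]
    refine Subgroup.mem_inf.mpr ⟨hxH, ?_⟩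
    rw [Subgroup.mem_centralizer_iff]
    intro y hy
    rw [Set.mem_singleton_iff.mp hy]
    exact hxf.symm
  have hB12card : Nat.card ↥B₁ = Nat.card ↥B₂ := by
    have hmem : ∀ x : G, x ∈ B₁ ↔ g * x * g⁻¹ ∈ B₂ := by
      intro x
      rw [hB₁, hB₂, Subgroup.mem_inf, Subgroup.mem_inf, mem_commMod', mem_commMod']
      have e : g * x * g⁻¹ * Tg * (g * x * g⁻¹)⁻¹ * Tg⁻¹ = g * (x * T * x⁻¹ * T⁻¹) * g⁻¹ := by
        rw [hTg]; group
      constructor
      · rintro ⟨h1, h2⟩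
        refine ⟨hHconj g x h1, ?_⟩
        rw [e]
        exact hZconj g _ h2
      · rintro ⟨h1, h2⟩
        refine ⟨?_, ?_⟩
        · have := hHconj g⁻¹ _ h1
          have e2 : g⁻¹ * (g * x * g⁻¹) * g⁻¹⁻¹ = x := by group
          rwa [e2] at this
        · rw [e] at h2
          have := hZconj g⁻¹ _ h2
          have e2 : g⁻¹ * (g * (x * T * x⁻¹ * T⁻¹) * g⁻¹) * g⁻¹⁻¹ = x * T * x⁻¹ * T⁻¹ := by group
          rwa [e2] at this
    refine Nat.card_congr
      { toFun := fun x => ⟨g * x.1 * g⁻¹, (hmem x.1).mp x.2⟩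
        invFun := fun y => ⟨g⁻¹ * y.1 * g, (hmem _).mpr (by
          have e2 : g * (g⁻¹ * y.1 * g) * g⁻¹ = y.1 := by group
          rw [e2]; exact y.2)⟩
        left_inv := fun x => Subtype.ext (by
          show g⁻¹ * (g * x.1 * g⁻¹) * g = x.1
          group)
        right_inv := fun y => Subtype.ext (by
          show g * (g⁻¹ * y.1 * g) * g⁻¹ = y.1
          group) }
  have hB8 : Nat.card ↥B₁ ≤ 8 := by
    have h1 := card_mul_card_le B₁ B₂ H inf_le_left inf_le_left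
    have h2 : Nat.card ↥(B₁ ⊓ B₂ : Subgroup G) ≤ 2 := hZH2 ▸ Subgroup.card_le_of_le hB12
    rw [← hB12card, h32] at h1
    by_contra hcon
    push Not at hcon
    have : 9 * 9 ≤ Nat.card ↥B₁ * Nat.card ↥B₁ := Nat.mul_le_mul hcon hcon
    have : 32 * Nat.card ↥(B₁ ⊓ B₂ : Subgroup G) ≤ 32 * 2 := Nat.mul_le_mul_left 32 h2
    omega
  -- `A = C_H(T)`
  set A : Subgroup G := H ⊓ Subgroup.centralizer ({T} : Set G) with hA
  have hAT : ∀ a ∈ A, a * T = T * a := fun a ha =>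
    (Subgroup.mem_centralizer_iff.mp (Subgroup.mem_inf.mp ha).2 T rfl).symm
  have hAB : A ≤ B₁ := by
    intro a ha
    refine Subgroup.mem_inf.mpr ⟨(Subgroup.mem_inf.mp ha).1, ?_⟩
    rw [mem_commMod']
    have : a * T * a⁻¹ * T⁻¹ = 1 := by
      rw [hAT a ha]; group
    rw [this]; exact ZH.one_mem
  have hA2 : IsPGroup 2 ↥A := hH2.to_le inf_le_left
  obtain ⟨j, hj⟩ := (IsPGroup.iff_card).mp hA2
  have hA8 : Nat.card ↥A ≤ 8 := (Subgroup.card_le_of_le hAB).trans hB8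
  have hVA : Nat.card ↥V ∣ Nat.card ↥A := Subgroup.card_dvd_of_le hV
  rw [hV4, hj] at hVA
  rw [hj] at hA8
  have hj3 : j ≤ 3 := by
    by_contra h
    push Not at h
    have : 2 ^ 4 ≤ 2 ^ j := Nat.pow_le_pow_right (by norm_num) h
    omega
  have hj2 : 2 ≤ j := by
    by_contra h
    push Not at h
    interval_cases j <;> omega
  have hjcases : j = 2 ∨ j = 3 := by omega
  rcases hjcases with rfl | rfl
  · have hAV : V = A := Subgroup.eq_of_le_of_card_ge hV (by rw [hV4, hj]; norm_num)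
    rw [← hAV]
    exact ⟨hV4, hVe⟩
  · exfalso
    have hA8' : Nat.card ↥A = 8 := by rw [hj]; norm_num
    have hAB' : A = B₁ := Subgroup.eq_of_le_of_card_ge hAB (by rw [hA8']; exact hB8)
    have hZA : ZH ≤ A := by
      intro ζ hζ
      refine Subgroup.mem_inf.mpr ⟨hZH hζ, ?_⟩
      rw [Subgroup.mem_centralizer_iff]
      intro y hy
      rw [Set.mem_singleton_iff.mp hy]
      exact hZc ζ hζ T
    -- `T` inverts the commutators `[x, T]`
    have hTφ : ∀ x : G, T * (x * T * x⁻¹ * T⁻¹) * T⁻¹ = (x * T * x⁻¹ * T⁻¹)⁻¹ := by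
      intro x
      rw [hTinv]
      calc T * (x * T * x⁻¹ * T) * T = T * x * T * x⁻¹ * (T * T) := by group
        _ = T * x * T * x⁻¹ := by rw [hT2, mul_one]
        _ = (x * T * x⁻¹ * T)⁻¹ := by
          have : (x * T * x⁻¹ * T)⁻¹ = T⁻¹ * x * T⁻¹ * x⁻¹ := by group
          rw [this, hTinv]
    have hφH : ∀ x ∈ H, x * T * x⁻¹ * T⁻¹ ∈ H := by
      intro x hx
      have h1 : T * x⁻¹ * T⁻¹ ∈ H := hHconj T _ (H.inv_mem hx)
      have : x * T * x⁻¹ * T⁻¹ = x * (T * x⁻¹ * T⁻¹) := by group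
      rw [this]
      exact H.mul_mem hx h1
    have hφA : ∀ x ∈ H, x * T * x⁻¹ * T⁻¹ ∈ A := by
      intro x hx
      rw [hAB']
      refine Subgroup.mem_inf.mpr ⟨hφH x hx, ?_⟩
      rw [mem_commMod']
      set c := x * T * x⁻¹ * T⁻¹ with hc
      have h1 : T * c⁻¹ * T⁻¹ = c := by
        have := hTφ x
        rw [← hc] at this
        calc T * c⁻¹ * T⁻¹ = (T * c * T⁻¹)⁻¹ := by group
          _ = c := by rw [this, inv_inv]
      have : c * T * c⁻¹ * T⁻¹ = c * (T * c⁻¹ * T⁻¹) := by group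
      rw [this, h1]
      exact hsqZ c (hφH x hx)
    have hinj : ∀ x ∈ H, ∀ y ∈ H, ∀ ζ ∈ ZH,
        x * T * x⁻¹ * T⁻¹ = y * T * y⁻¹ * T⁻¹ * ζ → x⁻¹ * y ∈ A := by
      intro x hx y hy ζ hζ h
      rw [hAB']
      refine Subgroup.mem_inf.mpr ⟨H.mul_mem (H.inv_mem hx) hy, ?_⟩
      rw [mem_commMod']
      have h1 : y * T * y⁻¹ = x * T * x⁻¹ * ζ⁻¹ := by
        have hζT : ζ * T = T * ζ := (hZc ζ hζ T).symm
        calc y * T * y⁻¹ = (y * T * y⁻¹ * T⁻¹ * ζ) * ζ⁻¹ * T := by group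
          _ = (x * T * x⁻¹ * T⁻¹) * ζ⁻¹ * T := by rw [← h]
          _ = x * T * x⁻¹ * T⁻¹ * (ζ⁻¹ * T) := by group
          _ = x * T * x⁻¹ * T⁻¹ * (T * ζ⁻¹) := by
            rw [inv_comm_of_comm T ζ hζT.symm]
          _ = x * T * x⁻¹ * ζ⁻¹ := by group
      have h2 : x⁻¹ * y * T * (x⁻¹ * y)⁻¹ * T⁻¹ = ζ⁻¹ := by
        have hζx : ζ⁻¹ * x = x * ζ⁻¹ := (hZc ζ⁻¹ (ZH.inv_mem hζ) x).symm
        calc x⁻¹ * y * T * (x⁻¹ * y)⁻¹ * T⁻¹ = x⁻¹ * (y * T * y⁻¹) * x * T⁻¹ := by group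
          _ = x⁻¹ * (x * T * x⁻¹ * ζ⁻¹) * x * T⁻¹ := by rw [h1]
          _ = T * x⁻¹ * (ζ⁻¹ * x) * T⁻¹ := by group
          _ = T * x⁻¹ * (x * ζ⁻¹) * T⁻¹ := by rw [hζx]
          _ = T * ζ⁻¹ * T⁻¹ := by group
          _ = ζ⁻¹ := by
            rw [hZc ζ⁻¹ (ZH.inv_mem hζ) T]; group
      rw [h2]
      exact ZH.inv_mem hζ
    have hsurj := exists_comm_mul_eq_of_card H A ZH T inf_le_left hAT hZA hφA hinj
      (by rw [h32, hZH2, hA8'])
    have hAexp : ∀ a ∈ A, a * a = 1 := by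
      intro a ha
      obtain ⟨x, hx, ζ, hζ, rfl⟩ := hsurj a ha
      set c := x * T * x⁻¹ * T⁻¹ with hc
      have hcA : c ∈ A := hφA x hx
      have h1 : T * c * T⁻¹ = c⁻¹ := hTφ x
      have h2 : T * c * T⁻¹ = c := by
        rw [← hAT c hcA]; group
      have hcc : c * c = 1 := by
        have : c = c⁻¹ := h2.symm.trans h1
        calc c * c = c * c⁻¹ := by rw [← this]
          _ = 1 := mul_inv_cancel c
      have hζc : ζ * c = c * ζ := (hZc ζ hζ c).symm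
      calc c * ζ * (c * ζ) = c * (ζ * c) * ζ := by group
        _ = c * (c * ζ) * ζ := by rw [hζc]
        _ = (c * c) * (ζ * ζ) := by group
        _ = 1 := by rw [hcc, hZ2 ζ hζ, one_mul]
    have hAcomm : ∀ a ∈ A, ∀ b ∈ A, a * b = b * a := by
      intro a ha b hb
      have h1 := hAexp a ha
      have h2 := hAexp b hb
      have h3 := hAexp (a * b) (A.mul_mem ha hb)
      have ha' : a⁻¹ = a := inv_eq_of_mul_eq_one_left h1
      have hb' : b⁻¹ = b := inv_eq_of_mul_eq_one_left h2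
      have hab' : (a * b)⁻¹ = a * b := inv_eq_of_mul_eq_one_left h3
      calc a * b = (a * b)⁻¹ := hab'.symm
        _ = b⁻¹ * a⁻¹ := mul_inv_rev a b
        _ = b * a := by rw [ha', hb']
    have hAel : Cfsg.IsElementaryAbelian 2 A :=
      ⟨⟨⟨fun a b => Subtype.ext (hAcomm a a.2 b b.2)⟩⟩, fun a ha => by rw [pow_two]; exact hAexp a ha⟩
    have := hminus A inf_le_left hAel
    omega

end Cfsg.Agent.S4405
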