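-- Statement S4406: order-4 subgroups of the Sylow 2-subgroup of A₄ × A₄.
import Cfsg.Statements.S4406
import Mathlib

set_option autoImplicit false
open Cfsg
open Equiv

namespace Cfsg.Agent.S4406

/-- conjugation by `(a, b)` maps `u = (u₁, u₂)` and `v = (v₁, v₂)` into `{u, v, u * v}`. -/
abbrev NB (a b u₁ u₂ v₁ v₂ : Perm (Fin 4)) : Prop :=
  ((a * u₁ * a⁻¹ = u₁ ∧ b * u₂ * b⁻¹ = u₂) ∨ (a * u₁ * a⁻¹ = v₁ ∧ b * u₂ * b⁻¹ = v₂) ∨
      (a * u₁ * a⁻¹ = u₁ * v₁ ∧ b * u₂ * b⁻¹ = u₂ * v₂)) ∧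
  ((a * v₁ * a⁻¹ = u₁ ∧ b * v₂ * b⁻¹ = u₂) ∨ (a * v₁ * a⁻¹ = v₁ ∧ b * v₂ * b⁻¹ = v₂) ∨
      (a * v₁ * a⁻¹ = u₁ * v₁ ∧ b * v₂ * b⁻¹ = u₂ * v₂))

def c2 : Fin 3 → Perm (Fin 4) := ![swap 0 1 * swap 2 3, swap 0 2 * swap 1 3, swap 0 3 * swap 1 2]
def c3 : Fin 8 → Perm (Fin 4) := ![swap 0 1 * swap 1 2, swap 0 2 * swap 2 1, swap 0 1 * swap 1 3, swap 0 3 * swap 3 1,
  swap 0 2 * swap 2 3, swap 0 3 * swap 3 2, swap 1 2 * swap 2 3, swap 1 3 * swap 3 2]

set_option maxRecDepth 100000 in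
theorem mem_c2 : ∀ u : Perm (Fin 4), u ≠ 1 → u ^ 2 = 1 → Perm.sign u = 1 → ∃ i, u = c2 i := by
  decide

set_option maxRecDepth 100000 in
theorem mem_c3 : ∀ u : Perm (Fin 4), u ≠ 1 → u ^ 3 = 1 → ∃ i, u = c3 i := by
  decide

set_option synthInstance.maxSize 100000 in
set_option synthInstance.maxHeartbeats 10000000 in
set_option maxRecDepth 1000000 in
theorem main_fin : ∀ i j : Fin 8, ∀ k₁ k₂ l₁ l₂ : Fin 3, k₁ ≠ l₁ → k₂ ≠ l₂ →
    NB (c3 i) (c3 j) (c2 k₁) (c2 k₂) (c2 l₁) (c2 l₂) ∨ NB (c3 i) ((c3 j) ^ 2) (c2 k₁) (c2 k₂) (c2 l₁) (c2 l₂) := by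
  decide +kernel

theorem main_perm (a b u₁ u₂ v₁ v₂ : Perm (Fin 4)) (ha : a ≠ 1) (ha3 : a ^ 3 = 1) (hb : b ≠ 1) (hb3 : b ^ 3 = 1)
    (hu₁ : u₁ ≠ 1) (hu₁2 : u₁ ^ 2 = 1) (hu₁s : Perm.sign u₁ = 1)
    (hu₂ : u₂ ≠ 1) (hu₂2 : u₂ ^ 2 = 1) (hu₂s : Perm.sign u₂ = 1)
    (hv₁ : v₁ ≠ 1) (hv₁2 : v₁ ^ 2 = 1) (hv₁s : Perm.sign v₁ = 1)
    (hv₂ : v₂ ≠ 1) (hv₂2 : v₂ ^ 2 = 1) (hv₂s : Perm.sign v₂ = 1)
    (h1 : u₁ ≠ v₁) (h2 : u₂ ≠ v₂) :
    NB a b u₁ u₂ v₁ v₂ ∨ NB a (b ^ 2) u₁ u₂ v₁ v₂ := by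
  obtain ⟨i, rfl⟩ := mem_c3 a ha ha3
  obtain ⟨j, rfl⟩ := mem_c3 b hb hb3
  obtain ⟨k₁, rfl⟩ := mem_c2 u₁ hu₁ hu₁2 hu₁s
  obtain ⟨k₂, rfl⟩ := mem_c2 u₂ hu₂ hu₂2 hu₂s
  obtain ⟨l₁, rfl⟩ := mem_c2 v₁ hv₁ hv₁2 hv₁s
  obtain ⟨l₂, rfl⟩ := mem_c2 v₂ hv₂ hv₂2 hv₂s
  exact main_fin i j k₁ k₂ l₁ l₂ (fun h => h1 (by rw [h])) (fun h => h2 (by rw [h]))

abbrev A4 : Type := ↥(alternatingGroup (Fin 4))
abbrev GG : Type := A4 × A4

set_option maxRecDepth 100000 in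
theorem pow_six_A4 : ∀ a : A4, a ^ 6 = 1 := by
  decide

set_option maxRecDepth 100000 in
theorem card_A4 : Nat.card A4 = 12 := by
  rw [Nat.card_eq_fintype_card]
  decide

theorem pow_six (g : GG) : g ^ 6 = 1 := by
  ext1
  · simp [pow_six_A4]
  · simp [pow_six_A4]

/-- conjugation by `r` maps `u` and `v` into `{u, v, u * v}`. -/
def NBG (r u v : GG) : Prop :=
  (r * u * r⁻¹ = u ∨ r * u * r⁻¹ = v ∨ r * u * r⁻¹ = u * v) ∧
  (r * v * r⁻¹ = u ∨ r * v * r⁻¹ = v ∨ r * v * r⁻¹ = u * v)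

theorem NBG_of_NB (r u v : GG)
    (h : NB (r.1 : Perm (Fin 4)) (r.2 : Perm (Fin 4)) (u.1 : Perm (Fin 4)) (u.2 : Perm (Fin 4))
      (v.1 : Perm (Fin 4)) (v.2 : Perm (Fin 4))) : NBG r u v := by
  have key : ∀ x y : GG, ((x.1 : Perm (Fin 4)) = (y.1 : Perm (Fin 4)) ∧ (x.2 : Perm (Fin 4)) = (y.2 : Perm (Fin 4))) → x = y := by
    intro x y hxy
    exact Prod.ext (Subtype.ext hxy.1) (Subtype.ext hxy.2)
  obtain ⟨h1, h2⟩ := h
  constructor
  · rcases h1 with h1 | h1 | h1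
    · exact Or.inl (key _ _ (by simpa using h1))
    · exact Or.inr (Or.inl (key _ _ (by simpa using h1)))
    · exact Or.inr (Or.inr (key _ _ (by simpa using h1)))
  · rcases h2 with h2 | h2 | h2
    · exact Or.inl (key _ _ (by simpa using h2))
    · exact Or.inr (Or.inl (key _ _ (by simpa using h2)))
    · exact Or.inr (Or.inr (key _ _ (by simpa using h2)))

theorem sign_coe (a : A4) : Perm.sign (a : Perm (Fin 4)) = 1 := Perm.mem_alternatingGroup.1 a.2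

theorem coe_ne_one {a : A4} (h : a ≠ 1) : (a : Perm (Fin 4)) ≠ 1 := fun h' => h (Subtype.ext h')

theorem coe_pow_eq_one {a : A4} {n : ℕ} (h : a ^ n = 1) : (a : Perm (Fin 4)) ^ n = 1 := by
  have := congrArg (fun x : A4 => (x : Perm (Fin 4))) h
  simpa using this

/-- the main dichotomy, in `A₄ × A₄`. -/
theorem main_GG (a b : A4) (u v : GG) (ha : a ≠ 1) (ha3 : a ^ 3 = 1) (hb : b ≠ 1) (hb3 : b ^ 3 = 1)
    (hu2 : u ^ 2 = 1) (hv2 : v ^ 2 = 1)
    (hu₁ : u.1 ≠ 1) (hu₂ : u.2 ≠ 1) (hv₁ : v.1 ≠ 1) (hv₂ : v.2 ≠ 1) (h1 : u.1 ≠ v.1) (h2 : u.2 ≠ v.2) :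
    NBG (a, b) u v ∨ NBG (a, b ^ 2) u v := by
  have hu12 : u.1 ^ 2 = 1 := by simpa using congrArg Prod.fst hu2
  have hu22 : u.2 ^ 2 = 1 := by simpa using congrArg Prod.snd hu2
  have hv12 : v.1 ^ 2 = 1 := by simpa using congrArg Prod.fst hv2
  have hv22 : v.2 ^ 2 = 1 := by simpa using congrArg Prod.snd hv2
  rcases main_perm (a : Perm (Fin 4)) (b : Perm (Fin 4)) (u.1 : Perm (Fin 4)) (u.2 : Perm (Fin 4))
    (v.1 : Perm (Fin 4)) (v.2 : Perm (Fin 4)) (coe_ne_one ha) (coe_pow_eq_one ha3) (coe_ne_one hb) (coe_pow_eq_one hb3)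
    (coe_ne_one hu₁) (coe_pow_eq_one hu12) (sign_coe _) (coe_ne_one hu₂) (coe_pow_eq_one hu22) (sign_coe _)
    (coe_ne_one hv₁) (coe_pow_eq_one hv12) (sign_coe _) (coe_ne_one hv₂) (coe_pow_eq_one hv22) (sign_coe _)
    (fun h => h1 (Subtype.ext h)) (fun h => h2 (Subtype.ext h)) with h | h
  · exact Or.inl (NBG_of_NB _ _ _ h)
  · exact Or.inr (NBG_of_NB _ _ _ (by simpa using h))

/-- a subgroup of order 4 containing `u ≠ v` nontrivial with `u² = 1` is `{1, u, v, uv}`. -/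
theorem B_eq (B : Subgroup GG) (hB4 : Nat.card ↥B = 4) (u v : GG) (hu : u ∈ B) (hv : v ∈ B)
    (hu1 : u ≠ 1) (hv1 : v ≠ 1) (huv : u ≠ v) (hu2 : u ^ 2 = 1) :
    ∀ g ∈ B, g = 1 ∨ g = u ∨ g = v ∨ g = u * v := by
  classical
  have huinv : u⁻¹ = u := by rw [inv_eq_iff_mul_eq_one, ← sq, hu2]
  have h1 : u * v ≠ 1 := by
    intro h
    have := eq_inv_of_mul_eq_one_right h
    rw [huinv] at this
    exact huv this.symm
  have h2 : u * v ≠ u := fun h => hv1 (by simpa using h)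
  have h3 : u * v ≠ v := fun h => hu1 (by simpa using h)
  let s : Finset GG := {1, u, v, u * v}
  have hs : s.card = 4 := by
    simp only [s]
    rw [Finset.card_insert_of_notMem, Finset.card_insert_of_notMem, Finset.card_insert_of_notMem,
      Finset.card_singleton]
    · simp only [Finset.mem_singleton]; exact fun h => h3 h.symm
    · simp only [Finset.mem_insert, Finset.mem_singleton, not_or]; exact ⟨huv, fun h => h2 h.symm⟩
    · simp only [Finset.mem_insert, Finset.mem_singleton, not_or]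
      exact ⟨fun h => hu1 h.symm, fun h => hv1 h.symm, fun h => h1 h.symm⟩
  have hsub : (s : Set GG) ⊆ (B : Set GG) := by
    intro x hx
    simp only [s, Finset.coe_insert, Finset.coe_singleton, Set.mem_insert_iff, Set.mem_singleton_iff] at hx
    rcases hx with rfl | rfl | rfl | rfl
    · exact B.one_mem
    · exact hu
    · exact hv
    · exact B.mul_mem hu hv
  have hcard : (B : Set GG).ncard ≤ (s : Set GG).ncard := by
    rw [Set.ncard_coe_finset, hs]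
    have h' : (B : Set GG).ncard = Nat.card ↥B := (Nat.card_coe_set_eq _).symm
    rw [h', hB4]
  have heq : (s : Set GG) = (B : Set GG) := Set.eq_of_subset_of_ncard_le hsub hcard (Set.toFinite _)
  intro g hg
  have : g ∈ (s : Set GG) := by rw [heq]; exact hg
  simpa [s] using this

theorem mem_normalizer_of_NBG (B : Subgroup GG) (r u v : GG) (hr3 : r ^ 3 = 1)
    (hB : ∀ g ∈ B, g = 1 ∨ g = u ∨ g = v ∨ g = u * v) (hu : u ∈ B) (hv : v ∈ B) (h : NBG r u v) :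
    r ∈ Subgroup.normalizer (B : Set GG) := by
  have huv : u * v ∈ B := B.mul_mem hu hv
  have hcu : r * u * r⁻¹ ∈ B := by
    rcases h.1 with h | h | h <;> rw [h] <;> assumption
  have hcv : r * v * r⁻¹ ∈ B := by
    rcases h.2 with h | h | h <;> rw [h] <;> assumption
  have hconj : ∀ n ∈ B, r * n * r⁻¹ ∈ B := by
    intro n hn
    rcases hB n hn with rfl | rfl | rfl | rfl
    · simp
    · exact hcu
    · exact hcv
    · have : r * (u * v) * r⁻¹ = (r * u * r⁻¹) * (r * v * r⁻¹) := by group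
      rw [this]
      exact B.mul_mem hcu hcv
  rw [Subgroup.mem_set_normalizer_iff]
  intro n
  refine ⟨fun hn => hconj n hn, fun hn => ?_⟩
  have h2 := hconj _ (hconj _ hn)
  have h3 : r * (r * (r * n * r⁻¹) * r⁻¹) * r⁻¹ = r ^ 3 * n * (r ^ 3)⁻¹ := by
    simp only [pow_succ, pow_zero, one_mul, mul_inv_rev, mul_assoc]
  rw [h3, hr3] at h2
  simpa using h2

theorem card_GG : Nat.card GG = 144 := by
  rw [Nat.card_prod, card_A4]

theorem card_Q (Q : Sylow 3 GG) : Nat.card ↥(Q : Subgroup GG) = 9 := by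
  have : Fact (Nat.Prime 3) := ⟨Nat.prime_three⟩
  rw [Q.card_eq_multiplicity, card_GG, Nat.factorization_def _ Nat.prime_three]
  have : (144 : ℕ) = 3 ^ 2 * 16 := by norm_num
  have h16 : padicValNat 3 16 = 0 := padicValNat.eq_zero_of_not_dvd (by norm_num)
  rw [this, padicValNat.mul (by norm_num) (by norm_num), padicValNat.prime_pow, h16]
  norm_num

theorem exists_snd_one (Q : Subgroup GG) (hQ : Nat.card ↥Q = 9) :
    ∃ x ∈ Q, x ≠ 1 ∧ x.2 = 1 := by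
  by_contra hno
  push Not at hno
  let f : ↥Q →* A4 := (MonoidHom.snd A4 A4).comp Q.subtype
  have hf : Function.Injective f := by
    rw [injective_iff_map_eq_one]
    intro x hx
    have : (x : GG) = 1 := by
      by_contra hne
      exact hno x x.2 hne hx
    exact Subtype.ext this
  have := Subgroup.card_dvd_of_injective f hf
  rw [hQ, card_A4] at this
  omega

theorem exists_fst_one (Q : Subgroup GG) (hQ : Nat.card ↥Q = 9) :
    ∃ x ∈ Q, x ≠ 1 ∧ x.1 = 1 := by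
  by_contra hno
  push Not at hno
  let f : ↥Q →* A4 := (MonoidHom.fst A4 A4).comp Q.subtype
  have hf : Function.Injective f := by
    rw [injective_iff_map_eq_one]
    intro x hx
    have : (x : GG) = 1 := by
      by_contra hne
      exact hno x x.2 hne hx
    exact Subtype.ext this
  have := Subgroup.card_dvd_of_injective f hf
  rw [hQ, card_A4] at this
  omega

theorem pow_three_of_mem (Q : Subgroup GG) (hQ : Nat.card ↥Q = 9) (x : GG) (hx : x ∈ Q) : x ^ 3 = 1 := by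
  have h9 : x ^ 9 = 1 := by
    have := pow_card_eq_one' (G := ↥Q) (x := ⟨x, hx⟩)
    rw [hQ] at this
    simpa using congrArg Subtype.val this
  have h6 := pow_six x
  have : x ^ 9 = x ^ 6 * x ^ 3 := by rw [← pow_add]
  rw [this, h6, one_mul] at h9
  exact h9

theorem sq_of_mem (B : Subgroup GG) (hB4 : Nat.card ↥B = 4) (x : GG) (hx : x ∈ B) : x ^ 2 = 1 := by
  have h4 : x ^ 4 = 1 := by
    have := pow_card_eq_one' (G := ↥B) (x := ⟨x, hx⟩)
    rw [hB4] at this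
    simpa using congrArg Subtype.val this
  have h6 := pow_six x
  have : x ^ 6 = x ^ 4 * x ^ 2 := by rw [← pow_add]
  rw [this, h4, one_mul] at h6
  exact h6

/-- In the direct product P = A₄ × A₄, let X be the Sylow 2-subgroup, X₁ and X₂ its intersections with the two direct factors, Q a Sylow 3-subgroup and Q₁, Q₂ its intersections with the two factors. Then every subgroup B of X of order 4 either meets X₁ or X₂ nontrivially, or is normalized by one of the two subgroups of Q of order 3 other than Q₁ and Q₂. -/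
theorem result
    (X : Sylow 2 (↥(alternatingGroup (Fin 4)) × ↥(alternatingGroup (Fin 4))))
    (Q : Sylow 3 (↥(alternatingGroup (Fin 4)) × ↥(alternatingGroup (Fin 4))))
    (B : Subgroup (↥(alternatingGroup (Fin 4)) × ↥(alternatingGroup (Fin 4)))) (hBX : B ≤ (X : Subgroup _)) (hB4 : Nat.card ↥B = 4) :
    B ⊓ ((X : Subgroup _) ⊓ Subgroup.prod ⊤ ⊥) ≠ ⊥ ∨ B ⊓ ((X : Subgroup _) ⊓ Subgroup.prod ⊥ ⊤) ≠ ⊥ ∨
      ∃ R : Subgroup (↥(alternatingGroup (Fin 4)) × ↥(alternatingGroup (Fin 4))), R ≤ (Q : Subgroup _) ∧ Nat.card ↥R = 3 ∧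
        R ≠ (Q : Subgroup _) ⊓ Subgroup.prod ⊤ ⊥ ∧ R ≠ (Q : Subgroup _) ⊓ Subgroup.prod ⊥ ⊤ ∧ R ≤ Subgroup.normalizer (B : Set _) := by
  classical
  by_cases hX1 : B ⊓ ((X : Subgroup GG) ⊓ Subgroup.prod ⊤ ⊥) = ⊥
  swap
  · exact Or.inl hX1
  by_cases hX2 : B ⊓ ((X : Subgroup GG) ⊓ Subgroup.prod ⊥ ⊤) = ⊥
  swap
  · exact Or.inr (Or.inl hX2)
  refine Or.inr (Or.inr ?_)
  -- elements of B with a trivial coordinate are trivial
  have hsnd : ∀ g ∈ B, g.2 = 1 → g = 1 := by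
    intro g hg h2
    have : g ∈ B ⊓ ((X : Subgroup GG) ⊓ Subgroup.prod ⊤ ⊥) :=
      Subgroup.mem_inf.2 ⟨hg, Subgroup.mem_inf.2 ⟨hBX hg,
        Subgroup.mem_prod.2 ⟨Subgroup.mem_top _, by simpa using h2⟩⟩⟩
    rw [hX1] at this
    simpa using this
  have hfst : ∀ g ∈ B, g.1 = 1 → g = 1 := by
    intro g hg h1
    have : g ∈ B ⊓ ((X : Subgroup GG) ⊓ Subgroup.prod ⊥ ⊤) :=
      Subgroup.mem_inf.2 ⟨hg, Subgroup.mem_inf.2 ⟨hBX hg,
        Subgroup.mem_prod.2 ⟨by simpa using h1, Subgroup.mem_top _⟩⟩⟩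
    rw [hX2] at this
    simpa using this
  -- pick u, v
  have : Finite ↥B := Nat.finite_of_card_ne_zero (by omega)
  have hBnt : Nontrivial ↥B := Finite.one_lt_card_iff_nontrivial.1 (by omega)
  obtain ⟨⟨u, hu⟩, hu1'⟩ := exists_ne (1 : ↥B)
  have hu1 : u ≠ 1 := fun h => hu1' (Subtype.ext h)
  have hu2 : u ^ 2 = 1 := sq_of_mem B hB4 u hu
  obtain ⟨v, hv, hv1, hvu⟩ : ∃ v ∈ B, v ≠ 1 ∧ u ≠ v := by
    by_contra hno
    push Not at hno
    -- then B ⊆ {1, u}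
    have hle : Nat.card ↥B ≤ 2 := by
      have hinj : Function.Injective (fun x : ↥B => if (x : GG) = 1 then (0 : Fin 2) else 1) := by
        intro x y hxy
        by_cases hx : (x : GG) = 1 <;> by_cases hy : (y : GG) = 1
        · exact Subtype.ext (hx.trans hy.symm)
        · simp [hx, hy] at hxy
        · simp [hx, hy] at hxy
        · exact Subtype.ext ((hno x x.2 hx).symm.trans (hno y y.2 hy))
      have := Nat.card_le_card_of_injective _ hinj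
      simpa using this
    omega
  have hv2 : v ^ 2 = 1 := sq_of_mem B hB4 v hv
  have hBeq := B_eq B hB4 u v hu hv hu1 hv1 hvu hu2
  have huv : u * v ∈ B := B.mul_mem hu hv
  have huv1 : u * v ≠ 1 := by
    intro h
    have huinv : u⁻¹ = u := by rw [inv_eq_iff_mul_eq_one, ← sq, hu2]
    have := eq_inv_of_mul_eq_one_right h
    rw [huinv] at this
    exact hvu this.symm
  have hu₁ : u.1 ≠ 1 := fun h => hu1 (hfst u hu h)
  have hu₂ : u.2 ≠ 1 := fun h => hu1 (hsnd u hu h)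
  have hv₁ : v.1 ≠ 1 := fun h => hv1 (hfst v hv h)
  have hv₂ : v.2 ≠ 1 := fun h => hv1 (hsnd v hv h)
  have hu12 : u.1 ^ 2 = 1 := by simpa using congrArg Prod.fst hu2
  have hu22 : u.2 ^ 2 = 1 := by simpa using congrArg Prod.snd hu2
  have h1 : u.1 ≠ v.1 := by
    intro h
    apply huv1
    apply hfst _ huv
    rw [Prod.fst_mul, ← h, ← sq, hu12]
  have h2 : u.2 ≠ v.2 := by
    intro h
    apply huv1
    apply hsnd _ huv
    rw [Prod.snd_mul, ← h, ← sq, hu22]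
  -- elements of Q
  have hQ9 := card_Q Q
  obtain ⟨x, hxQ, hx1, hx2⟩ := exists_snd_one (Q : Subgroup GG) hQ9
  obtain ⟨y, hyQ, hy1, hy2⟩ := exists_fst_one (Q : Subgroup GG) hQ9
  have hx3 := pow_three_of_mem _ hQ9 x hxQ
  have hy3 := pow_three_of_mem _ hQ9 y hyQ
  have ha : x.1 ≠ 1 := fun h => hx1 (Prod.ext h hx2)
  have hb : y.2 ≠ 1 := fun h => hy1 (Prod.ext hy2 h)
  have ha3 : x.1 ^ 3 = 1 := by simpa using congrArg Prod.fst hx3
  have hb3 : y.2 ^ 3 = 1 := by simpa using congrArg Prod.snd hy3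
  have hxy : x * y = (x.1, y.2) := Prod.ext (by simp [hy2]) (by simp [hx2])
  have hxy2 : x * y ^ 2 = (x.1, y.2 ^ 2) := Prod.ext (by simp [hy2]) (by simp [hx2])
  have hb2 : y.2 ^ 2 ≠ 1 := by
    intro h
    apply hb
    have : y.2 ^ 3 = y.2 ^ 2 * y.2 := pow_succ _ _
    rw [hb3, h, one_mul] at this
    exact this.symm
  have : Fact (Nat.Prime 3) := ⟨Nat.prime_three⟩
  -- the common finishing argument
  have finish : ∀ r : GG, r ∈ (Q : Subgroup GG) → r.1 ≠ 1 → r.2 ≠ 1 → NBG r u v →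
      ∃ R : Subgroup GG, R ≤ (Q : Subgroup GG) ∧ Nat.card ↥R = 3 ∧
        R ≠ (Q : Subgroup GG) ⊓ Subgroup.prod ⊤ ⊥ ∧ R ≠ (Q : Subgroup GG) ⊓ Subgroup.prod ⊥ ⊤ ∧
        R ≤ Subgroup.normalizer (B : Set GG) := by
    intro r hrQ hr1 hr2 hN
    have hr3 := pow_three_of_mem _ hQ9 r hrQ
    have hrne : r ≠ 1 := fun h => hr1 (by rw [h]; rfl)
    refine ⟨Subgroup.zpowers r, Subgroup.zpowers_le.2 hrQ, ?_, ?_, ?_, ?_⟩
    · rw [Nat.card_zpowers]
      exact orderOf_eq_prime hr3 hrne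
    · intro h
      have hmem : r ∈ (Q : Subgroup GG) ⊓ Subgroup.prod ⊤ ⊥ := h ▸ Subgroup.mem_zpowers r
      have := Subgroup.mem_prod.1 (Subgroup.mem_inf.1 hmem).2
      exact hr2 (by simpa using this.2)
    · intro h
      have hmem : r ∈ (Q : Subgroup GG) ⊓ Subgroup.prod ⊥ ⊤ := h ▸ Subgroup.mem_zpowers r
      have := Subgroup.mem_prod.1 (Subgroup.mem_inf.1 hmem).2
      exact hr1 (by simpa using this.1)
    · exact Subgroup.zpowers_le.2 (mem_normalizer_of_NBG B r u v hr3 hBeq hu hv hN)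
  rcases main_GG x.1 y.2 u v ha ha3 hb hb3 hu2 hv2 hu₁ hu₂ hv₁ hv₂ h1 h2 with hN | hN
  · exact finish (x.1, y.2) (hxy ▸ (Q : Subgroup GG).mul_mem hxQ hyQ) ha hb hN
  · exact finish (x.1, y.2 ^ 2) (hxy2 ▸ (Q : Subgroup GG).mul_mem hxQ ((Q : Subgroup GG).pow_mem hyQ 2)) ha hb2 hN

end Cfsg.Agent.S4406
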