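import Cfsg.Statements.S4408
import Cfsg.Agent.Helper24.EA2Act
import Cfsg.Agent.Lib.Cores

set_option autoImplicit false
open Cfsg

namespace Cfsg.Agent.S4408

/-- Let S be a finite solvable group whose Fitting subgroup F(S) has odd order, and let I be an elementary abelian 2-subgroup of S of order 2ⁿ with n ≥ 1. Then F(S) contains subgroups A₁, …, Aₙ of prime order, each normalized by I, pairwise commuting and generating a subgroup A of order |A₁|⋯|Aₙ| (their internal direct product), such that no non-identity element of I centralizes A. -/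
theorem result {S : Type*} [Group S] [Finite S]
    [Group.IsSolvable S] (hF : Odd (Nat.card ↥(Cfsg.fittingSubgroup S)))
    (I : Subgroup S) (hI : Cfsg.IsElementaryAbelian 2 I) (n : ℕ) (hn : 1 ≤ n) (hIn : Nat.card ↥I = 2 ^ n) :
    ∃ f : Fin n → Subgroup S, (∀ i, (Nat.card ↥(f i)).Prime) ∧ (∀ i, f i ≤ Cfsg.fittingSubgroup S) ∧
      (∀ i, I ≤ Subgroup.normalizer ((f i) : Set S)) ∧ (∀ i j, i ≠ j → ∀ a ∈ f i, ∀ b ∈ f j, a * b = b * a) ∧
      Nat.card ↥(⨆ i, f i) = ∏ i, Nat.card ↥(f i) ∧ I ⊓ Subgroup.centralizer ((⨆ i, f i : Subgroup S) : Set S) = ⊥ := by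
  classical
  set F := Cfsg.fittingSubgroup S with hFdef
  have hFc : F.Characteristic := Cfsg.Agent.Lib.fittingSubgroup_characteristic
  have hFn : F.Normal := Subgroup.normal_of_characteristic F
  have hFnil : Group.IsNilpotent ↥F := Cfsg.Agent.Lib.isNilpotent_fittingSubgroup
  have hIc : ∀ a ∈ I, ∀ b ∈ I, a * b = b * a := isMulCommutative_iff_of_setLike.mp hI.1
  have hI2 : ∀ a ∈ I, a * a = 1 := fun a ha => by rw [← pow_two]; exact hI.2 a ha
  have hIF : I ≤ Subgroup.normalizer (F : Set S) := by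
    rw [Subgroup.normalizer_eq_top_iff.mpr hFn]; exact le_top
  have hCF : Subgroup.centralizer (F : Set S) ≤ F := by
    have hCn : (Subgroup.centralizer (F : Set S)).Normal := Subgroup.normal_centralizer
    exact Cfsg.Agent.Helper21.le_fittingSubgroup_of_isSolvable_of_le_centralizer
      (Nat.card (Subgroup.centralizer (F : Set S))) _ le_rfl hCn inferInstance le_rfl
  have hfaith : I ⊓ Subgroup.centralizer (F : Set S) = ⊥ := by
    rw [eq_bot_iff]
    intro x hx
    obtain ⟨hxI, hxC⟩ := Subgroup.mem_inf.mp hx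
    exact Cfsg.Agent.Helper24.mem_of_sq_mem_of_odd hF (hCF hxC)
      (by rw [hI2 x hxI]; exact Subgroup.one_mem _)
  exact Cfsg.Agent.Helper24.exists_independent_family I hIc hI2 n I F le_rfl hIF hFnil hF hIn hfaith

end Cfsg.Agent.S4408
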