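import Mathlib
import Cfsg.Statements.S4410
import Cfsg.Agent.Helper53.Transv
import Cfsg.Agent.Helper53.OddFitting
import Cfsg.Agent.Helper53.OddDihedral

set_option autoImplicit false
open Cfsg

namespace Cfsg.Agent.S4410

open Cfsg.Agent.Helper53 Cfsg.Agent.Lib

/-- Let V be a finite-dimensional vector space over the field with two elements and S a solvable group of linear automorphisms of V with O₂(S) = 1. If P ∈ S has order 4 and (P − 1)³ = 0 on V, then the image of (P − 1)² has at least 4 elements; equivalently, in the decomposition of V into indecomposable modules for the cyclic group generated by P, at least two summands have dimension 3. -/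
theorem result
    {V : Type*} [AddCommGroup V] [Module (ZMod 2) V] [Finite V]
    (S : Subgroup (V ≃ₗ[ZMod 2] V)) (hS : Group.IsSolvable ↥S) (hO2 : Cfsg.pCore 2 ↥S = ⊥)
    (P : V ≃ₗ[ZMod 2] V) (hPS : P ∈ S) (hP4 : orderOf P = 4)
    (hcub : ((P : V →ₗ[ZMod 2] V) - LinearMap.id) ^ 3 = 0) :
    4 ≤ Nat.card ↥(LinearMap.range (((P : V →ₗ[ZMod 2] V) - LinearMap.id) ^ 2)) := by
  by_contra hcon
  push Not at hcon
  have hfin : Finite (V ≃ₗ[ZMod 2] V) :=
    Finite.of_injective (fun e => (e : V → V)) DFunLike.coe_injective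
  obtain ⟨a, ha⟩ := exists_tv_of_card_range_lt P hcon
  obtain ⟨t, ht⟩ : ∃ t, t = P ^ 2 := ⟨_, rfl⟩
  rw [← ht] at ha
  have hP4' : P ^ 4 = 1 := by rw [← hP4]; exact pow_orderOf_eq_one P
  have ht2 : t ^ 2 = 1 := by rw [ht, ← pow_mul]; exact hP4'
  have ht1 : t ≠ 1 := by
    rw [ht]; exact pow_ne_one_of_lt_orderOf (by norm_num) (by rw [hP4]; norm_num)
  have htS : t ∈ S := ht ▸ S.pow_mem hPS 2
  have htinv : t⁻¹ = t := by rw [inv_eq_iff_mul_eq_one, ← sq, ht2]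
  -- the group theory: an element of `O_r(S)` not centralized by `t`
  have htS1 : (⟨t, htS⟩ : S) ≠ 1 := fun h => ht1 (congrArg Subtype.val h)
  have htS2 : (⟨t, htS⟩ : S) ^ 2 = 1 := Subtype.ext (by rw [Subgroup.coe_pow]; exact ht2)
  obtain ⟨r, hr, hr2, y, hy, hty⟩ := exists_pCore_not_commute hO2 (⟨t, htS⟩ : S) htS1 htS2
  have hrF : Fact r.Prime := ⟨hr⟩
  -- the image of `O_r(S)` in the full linear group
  obtain ⟨R, hR⟩ : ∃ R : Subgroup (V ≃ₗ[ZMod 2] V), R = (Cfsg.pCore r ↥S).map S.subtype :=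
    ⟨_, rfl⟩
  have hRp : IsPGroup r R := by rw [hR]; exact (isPGroup_pCore r).map _
  have hRn : ∀ g ∈ S, ∀ z ∈ R, g * z * g⁻¹ ∈ R := by
    intro g hg z hz
    rw [hR] at hz ⊢
    obtain ⟨z', hz', rfl⟩ := hz
    have hn : (Cfsg.pCore r ↥S).Normal := Cfsg.pCore_normal r ↥S
    exact ⟨⟨g, hg⟩ * z' * ⟨g, hg⟩⁻¹, hn.conj_mem z' hz' ⟨g, hg⟩, rfl⟩
  obtain ⟨yV, hyV⟩ : ∃ yV : V ≃ₗ[ZMod 2] V, yV = (y : V ≃ₗ[ZMod 2] V) := ⟨_, rfl⟩
  have hyR : yV ∈ R := by rw [hR, hyV]; exact Subgroup.mem_map_of_mem _ hy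
  have hty' : t * yV ≠ yV * t := by
    intro h
    apply hty
    apply Subtype.ext
    rw [hyV] at h
    exact h
  -- the second transvection and the element `x`
  obtain ⟨s, hs⟩ : ∃ s, s = yV * t * yV⁻¹ := ⟨_, rfl⟩
  have hsTv : Tv (yV a) s := hs ▸ ha.conj yV
  have hs2 : s ^ 2 = 1 := by rw [hs, conj_pow, ht2, mul_one, mul_inv_cancel]
  obtain ⟨x, hx⟩ : ∃ x, x = t * s := ⟨_, rfl⟩
  have hxinv : t * x * t⁻¹ = x⁻¹ := by rw [hx]; exact conj_mul_of_sq_eq_one ht2 hs2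
  have hxR : x ∈ R := by
    have h1 : x = (t * yV * t⁻¹) * yV⁻¹ := by rw [hx, hs, htinv]; group
    rw [h1]
    exact R.mul_mem (hRn t htS yV hyR) (R.inv_mem hyR)
  have hx1 : x ≠ 1 := by
    intro h
    apply hty'
    rw [hx, hs] at h
    have h2 : yV * t * yV⁻¹ = t⁻¹ := by
      rw [eq_comm, inv_eq_iff_mul_eq_one]; exact h
    rw [htinv] at h2
    calc t * yV = (yV * t * yV⁻¹) * yV := by rw [h2]
      _ = yV * t := by group
  -- `x` acts trivially on `V/W`, `W = ⟨a, y a⟩`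
  have hcard_span : ∀ T : Finset V, Nat.card (Submodule.span (ZMod 2) (T : Set V)) ≤ 2 ^ T.card := by
    intro T
    have h1 := Module.natCard_eq_pow_finrank (K := ZMod 2)
      (V := Submodule.span (ZMod 2) (T : Set V))
    rw [Nat.card_zmod] at h1
    rw [h1]
    exact Nat.pow_le_pow_right (by norm_num) (finrank_span_finset_le_card T)
  classical
  obtain ⟨W, hW⟩ : ∃ W : Submodule (ZMod 2) V,
      W = Submodule.span (ZMod 2) (({a, yV a} : Finset V) : Set V) := ⟨_, rfl⟩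
  have hWcard : Nat.card W ≤ 4 := by
    rw [hW]
    refine (hcard_span _).trans ?_
    calc 2 ^ ({a, yV a} : Finset V).card ≤ 2 ^ 2 :=
          Nat.pow_le_pow_right (by norm_num) Finset.card_le_two
      _ = 4 := by norm_num
  have haW : a ∈ W := by
    rw [hW]; exact Submodule.subset_span (by simp)
  have hbW : yV a ∈ W := by
    rw [hW]; exact Submodule.subset_span (by simp)
  have hxW : x ∈ disSubgroup W := by
    rw [hx]
    exact (disSubgroup W).mul_mem (ha.mem_disSubgroup haW) (hsTv.mem_disSubgroup hbW)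
  have hx48 : x ^ 48 = 1 := pow_48_eq_one_of_dis hWcard hxW
  obtain ⟨k, hk⟩ := hRp ⟨x, hxR⟩
  have hxk : x ^ r ^ k = 1 := by
    have := congrArg Subtype.val hk
    rw [Subgroup.coe_pow] at this
    exact this
  have hd1 : orderOf x ∣ 48 := orderOf_dvd_of_pow_eq_one hx48
  have hd2 : orderOf x ∣ r ^ k := orderOf_dvd_of_pow_eq_one hxk
  have hone : orderOf x ≠ 1 := fun h => hx1 (orderOf_eq_one_iff.mp h)
  have hr3 : r = 3 := by
    obtain ⟨q, hq, hqd⟩ := Nat.exists_prime_and_dvd hone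
    have hqr : q = r := (Nat.prime_dvd_prime_iff_eq hq hr).mp (hq.dvd_of_dvd_pow (hqd.trans hd2))
    have hq48 : q ∣ 48 := hqd.trans hd1
    have hq48' : q ∣ 2 ^ 4 * 3 := by norm_num; exact hq48
    rcases (Nat.Prime.dvd_mul hq).mp hq48' with h | h
    · have := (Nat.prime_dvd_prime_iff_eq hq Nat.prime_two).mp (hq.dvd_of_dvd_pow h)
      omega
    · have := (Nat.prime_dvd_prime_iff_eq hq Nat.prime_three).mp h
      omega
  subst hr3
  have hx3 : x ^ 3 = 1 := by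
    have h3 : orderOf x ∣ Nat.gcd 48 (3 ^ k) := Nat.dvd_gcd hd1 hd2
    have h4 : Nat.gcd 48 (3 ^ k) ∣ 3 := by
      have h6 : Nat.Coprime 16 (3 ^ k) := by
        apply Nat.Coprime.pow_right
        norm_num
      have h5 : Nat.gcd (16 * 3) (3 ^ k) = Nat.gcd 3 (3 ^ k) :=
        Nat.Coprime.gcd_mul_left_cancel 3 h6
      have h7 : Nat.gcd 48 (3 ^ k) = Nat.gcd 3 (3 ^ k) := h5
      rw [h7]
      exact Nat.gcd_dvd_left _ _
    exact orderOf_dvd_iff_pow_eq_one.mp (h3.trans h4)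
  have hox : orderOf x = 3 := orderOf_eq_prime hx3 hx1
  -- conjugate by `Q = P⁻¹`
  obtain ⟨Q, hQ⟩ : ∃ Q, Q = P⁻¹ := ⟨_, rfl⟩
  have hQS : Q ∈ S := hQ ▸ S.inv_mem hPS
  have hQQ : Q * Q = t := by
    calc Q * Q = (P ^ 2)⁻¹ := by rw [hQ]; group
      _ = t⁻¹ := by rw [ht]
      _ = t := htinv
  have hQt : Q * t * Q⁻¹ = t := by rw [hQ, ht]; group
  obtain ⟨x', hx'⟩ : ∃ x', x' = Q * x * Q⁻¹ := ⟨_, rfl⟩
  have hx'R : x' ∈ R := hx' ▸ hRn Q hQS x hxR
  obtain ⟨s', hs'⟩ : ∃ s', s' = Q * s * Q⁻¹ := ⟨_, rfl⟩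
  have hs'Tv : Tv (Q (yV a)) s' := hs' ▸ hsTv.conj Q
  have hx's : x' = t * s' := by
    rw [hx', hs', hx]
    calc Q * (t * s) * Q⁻¹ = (Q * t * Q⁻¹) * (Q * s * Q⁻¹) := by group
      _ = t * (Q * s * Q⁻¹) := by rw [hQt]
  obtain ⟨U, hU⟩ : ∃ U : Submodule (ZMod 2) V,
      U = Submodule.span (ZMod 2) (({a, yV a, Q (yV a)} : Finset V) : Set V) := ⟨_, rfl⟩
  have hUcard : Nat.card U ≤ 8 := by
    rw [hU]
    refine (hcard_span _).trans ?_
    calc 2 ^ ({a, yV a, Q (yV a)} : Finset V).card ≤ 2 ^ 3 :=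
          Nat.pow_le_pow_right (by norm_num) Finset.card_le_three
      _ = 8 := by norm_num
  have haU : a ∈ U := by
    rw [hU]; exact Submodule.subset_span (by simp)
  have hbU : yV a ∈ U := by
    rw [hU]; exact Submodule.subset_span (by simp)
  have hcU : Q (yV a) ∈ U := by
    rw [hU]; exact Submodule.subset_span (by simp)
  have hxU : x ∈ disSubgroup U := by
    rw [hx]
    exact (disSubgroup U).mul_mem (ha.mem_disSubgroup haU) (hsTv.mem_disSubgroup hbU)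
  have hx'U : x' ∈ disSubgroup U := by
    rw [hx's]
    exact (disSubgroup U).mul_mem (ha.mem_disSubgroup haU) (hs'Tv.mem_disSubgroup hcU)
  -- the `3`-group generated by `x` and `x'`
  obtain ⟨Y, hY⟩ : ∃ Y : Subgroup (V ≃ₗ[ZMod 2] V), Y = Subgroup.closure {x, x'} := ⟨_, rfl⟩
  have hYR : Y ≤ R := by
    rw [hY, Subgroup.closure_le]
    intro z hz
    rcases hz with rfl | rfl
    · exact hxR
    · exact hx'R
  have hYU : Y ≤ disSubgroup U := by
    rw [hY, Subgroup.closure_le]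
    intro z hz
    rcases hz with rfl | rfl
    · exact hxU
    · exact hx'U
  have hxY : x ∈ Y := by rw [hY]; exact Subgroup.subset_closure (by simp)
  have hx'Y : x' ∈ Y := by rw [hY]; exact Subgroup.subset_closure (by simp)
  have hYp : IsPGroup 3 Y := hRp.to_le hYR
  have hYcard : Nat.card Y ≤ 3 :=
    card_le_three_of_dis U Y.subtype hYp Subtype.val_injective (fun γ => hYU γ.2) hUcard
  have hzp : Subgroup.zpowers x = Y := by
    apply Subgroup.eq_of_le_of_card_ge ((Subgroup.zpowers_le).mpr hxY)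
    rw [Nat.card_zpowers, hox]
    exact hYcard
  rw [← hzp] at hx'Y
  obtain ⟨m, hm⟩ := Subgroup.mem_zpowers_iff.mp hx'Y
  -- now `Q x Q⁻¹ = x ^ m`, so `t x t⁻¹ = x ^ (m * m)`
  have h1 : Q * x' * Q⁻¹ = x ^ (m * m) := by
    rw [← hm, ← conj_zpow, ← hx', ← hm, ← zpow_mul]
  have h2 : Q * x' * Q⁻¹ = x⁻¹ := by
    rw [← hxinv, hx', ← hQQ]; group
  have h3 : x ^ (m * m + 1) = 1 := by
    rw [zpow_add, zpow_one, ← h1, h2, inv_mul_cancel]
  have h4 : ((orderOf x : ℕ) : ℤ) ∣ m * m + 1 := orderOf_dvd_iff_zpow_eq_one.mpr h3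
  rw [hox] at h4
  obtain ⟨j, hj⟩ : ∃ j, m = 3 * j ∨ m = 3 * j + 1 ∨ m = 3 * j + 2 := ⟨m / 3, by omega⟩
  obtain ⟨c, hc⟩ := h4
  rcases hj with rfl | rfl | rfl
  · have : (3 : ℤ) * (3 * j * j - c) = -1 := by ring_nf; ring_nf at hc; omega
    omega
  · have : (3 : ℤ) * (3 * j * j + 2 * j - c) = -2 := by ring_nf; ring_nf at hc; omega
    omega
  · have : (3 : ℤ) * (3 * j * j + 4 * j + 1 - c) = -2 := by ring_nf; ring_nf at hc; omega
    omega

end Cfsg.Agent.S4410
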