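import Cfsg.Statements.S4411
import Cfsg.Agent.Helper11.QLoc8

set_option autoImplicit false
open Cfsg

namespace Cfsg.Agent.S4411

/-- Let p and q be distinct primes with {p, q} ≠ {2, 3}, and let G be a finite group such that for every p-subgroup H of G the automizer N_G(H)/C_G(H) is p-solvable. If q divides the order of N_G(H)/C_G(H) for some p-subgroup H, then a Sylow p-subgroup of G has a normal subgroup K (normal in the Sylow subgroup) such that q divides the order of N_G(K)/C_G(K). -/
theorem result {G : Type*} [Group G] [Finite G]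
    (p q : ℕ) [Fact p.Prime] [Fact q.Prime] (hpq : p ≠ q) (h23 : ¬ ((p = 2 ∧ q = 3) ∨ (p = 3 ∧ q = 2)))
    (hsol : ∀ H : Subgroup G, IsPGroup p ↥H →
      Cfsg.IsPSolvable p (↥(Subgroup.normalizer (H : Set G)) ⧸ (Subgroup.centralizer (H : Set G)).subgroupOf (Subgroup.normalizer (H : Set G))))
    (H : Subgroup G) (hH : IsPGroup p ↥H)
    (hq : q ∣ ((Subgroup.centralizer (H : Set G)).subgroupOf (Subgroup.normalizer (H : Set G))).index)
    (Gp : Sylow p G) :
    ∃ K : Subgroup G, K ≤ (Gp : Subgroup G) ∧ (Gp : Subgroup G) ≤ Subgroup.normalizer (K : Set G) ∧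
      q ∣ ((Subgroup.centralizer (K : Set G)).subgroupOf (Subgroup.normalizer (K : Set G))).index := by
  have hqp : q.Prime := Fact.out
  obtain ⟨P, K, hKP, hPK, hqK⟩ :=
    Cfsg.Agent.Helper11.exists_sylow_normal_automizer hqp hpq h23 hsol H hH hq
  obtain ⟨g, hg⟩ := MulAction.exists_smul_eq G P Gp
  set c : G ≃* G := MulAut.conj g with hc
  have hGp : (Gp : Subgroup G) = (P : Subgroup G).map c.toMonoidHom := by
    rw [← hg]
    ext x
    rw [Cfsg.Agent.Helper11.mem_smul_sylow_iff]
    constructor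
    · intro hx
      refine ⟨g⁻¹ * x * g, hx, ?_⟩
      show g * (g⁻¹ * x * g) * g⁻¹ = x
      group
    · rintro ⟨y, hy, rfl⟩
      have : g⁻¹ * (c.toMonoidHom y) * g = y := by
        show g⁻¹ * (g * y * g⁻¹) * g = y
        group
      rw [this]
      exact hy
  refine ⟨K.map c.toMonoidHom, ?_, ?_, ?_⟩
  · rw [hGp]
    exact Subgroup.map_mono hKP
  · rw [hGp, ← Subgroup.map_equiv_normalizer_eq K c]
    exact Subgroup.map_mono hPK
  · have h1 := Cfsg.Agent.Helper11.autIdx_map_equiv c K
    have h2 : q ∣ Cfsg.Agent.Helper11.autIdx (K.map c.toMonoidHom) := by rw [h1]; exact hqK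
    exact h2

end Cfsg.Agent.S4411
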