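import Cfsg.Statements.S4412
import Cfsg.Agent.Helper50.E8Struct
import Cfsg.Agent.Helper50.E8Shell
import Cfsg.Agent.Helper50.E8Words

set_option autoImplicit false
open Cfsg

namespace Cfsg.Agent.S4412

/-- Let p be an odd prime, P a finite p-group and I an elementary abelian subgroup of order 8 of Aut(P). Call T ∈ I, T ≠ 1, broad when its fixed-point subgroup C_P(T) is not cyclic. Suppose I has a proper subgroup I₀ containing no broad element such that the product of any two broad elements lies in I₀. Then P is abelian of rank exactly 3 (generated by three elements but not by two), there are exactly three broad elements and they generate I, and I₀ is exactly the set of products of two broad elements. -/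
theorem result
    {P : Type*} [Group P] [Finite P] (p : ℕ) (hp : p.Prime) (hp2 : p ≠ 2) (hP : IsPGroup p P)
    (I : Subgroup (MulAut P)) (hI : Cfsg.IsElementaryAbelian 2 I) (hI8 : Nat.card ↥I = 8)
    (I₀ : Subgroup (MulAut P)) (hI₀ : I₀ < I)
    (hdisj : ∀ T ∈ I₀, T ≠ 1 → ∃ g : P, ∀ x : P, (T x = x ↔ x ∈ Subgroup.zpowers g))
    (hprod : ∀ T ∈ I, ∀ T' ∈ I, T ≠ 1 → T' ≠ 1 → (¬ ∃ g : P, ∀ x : P, (T x = x ↔ x ∈ Subgroup.zpowers g)) →
      (¬ ∃ g : P, ∀ x : P, (T' x = x ↔ x ∈ Subgroup.zpowers g)) → T * T' ∈ I₀) :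
    IsMulCommutative P ∧ (∃ a b c : P, Subgroup.closure {a, b, c} = ⊤) ∧ (¬ ∃ a b : P, Subgroup.closure {a, b} = ⊤) ∧
      Nat.card {T : MulAut P // T ∈ I ∧ T ≠ 1 ∧ ¬ ∃ g : P, ∀ x : P, (T x = x ↔ x ∈ Subgroup.zpowers g)} = 3 ∧
      Subgroup.closure {T : MulAut P | T ∈ I ∧ T ≠ 1 ∧ ¬ ∃ g : P, ∀ x : P, (T x = x ↔ x ∈ Subgroup.zpowers g)} = I ∧
      (I₀ : Set (MulAut P)) = {S : MulAut P | ∃ T T' : MulAut P, T ∈ I ∧ T' ∈ I ∧ T ≠ 1 ∧ T' ≠ 1 ∧
        (¬ ∃ g : P, ∀ x : P, (T x = x ↔ x ∈ Subgroup.zpowers g)) ∧ (¬ ∃ g : P, ∀ x : P, (T' x = x ↔ x ∈ Subgroup.zpowers g)) ∧ S = T * T'} := by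
  classical
  have : Fact p.Prime := ⟨hp⟩
  obtain ⟨hIc, hIsq⟩ := hI
  have hcm : ∀ x ∈ I, ∀ y ∈ I, x * y = y * x := by
    intro x hx y hy
    exact congrArg Subtype.val (hIc.is_comm.comm (⟨x, hx⟩ : I) ⟨y, hy⟩)
  have hsq : ∀ x ∈ I, x * x = 1 := fun x hx => by rw [← pow_two]; exact hIsq x hx
  have pinv : ∀ x ∈ I, ∀ z : P, x (x z) = z := by
    intro x hx z
    have h2 := congrArg (fun f : MulAut P => f z) (hsq x hx)
    simpa only [MulAut.mul_apply, MulAut.one_apply] using h2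
  have pcom : ∀ x ∈ I, ∀ y ∈ I, ∀ z : P, x (y z) = y (x z) := fun x hx y hy =>
    Helper50.pw_of_commute (hcm x hx y hy)
  -- choose `T₀`
  obtain ⟨T₀, hT₀I, hT₀0, hstar⟩ : ∃ T₀ ∈ I, T₀ ∉ I₀ ∧
      ∀ T ∈ I, T ≠ 1 → ¬ Helper50.CycE T → T * T₀ ∈ I₀ := by
    by_cases hB : ∃ T ∈ I, T ≠ 1 ∧ ¬ Helper50.CycE T
    · obtain ⟨T₀, h1, h2, h3⟩ := hB
      exact ⟨T₀, h1, fun h0 => h3 (hdisj T₀ h0 h2),
        fun T hT hT1 hTc => hprod T hT T₀ h1 hT1 h2 hTc h3⟩
    · push Not at hB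
      obtain ⟨T₀, h1, h2⟩ := SetLike.exists_of_lt hI₀
      exact ⟨T₀, h1, h2, fun T hT hT1 hTc => absurd (hB T hT hT1) hTc⟩
  obtain ⟨a, b, haI, hbI, ha1, hb1, hab, hc1, hca, hcb, hcab, hJ0, hJc⟩ :=
    Helper50.exists_four_group I I₀ hcm hsq hI8 hI₀.le T₀ hT₀I hT₀0
  have haa := hsq a haI
  have hbb := hsq b hbI
  have habc := hcm a haI b hbI
  obtain ⟨J, hJ⟩ := Helper50.exists_fourSub a b haa hbb habc
  have haJ : a ∈ J := (hJ a).mpr (Or.inr (Or.inl rfl))
  have hbJ : b ∈ J := (hJ b).mpr (Or.inr (Or.inr (Or.inl rfl)))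
  have habJ : a * b ∈ J := J.mul_mem haJ hbJ
  have hJI : J ≤ I := by
    intro x hx
    rcases (hJ x).mp hx with rfl | rfl | rfl | rfl
    · exact I.one_mem
    · exact haI
    · exact hbI
    · exact I.mul_mem haI hbI
  have hI₀J : I₀ ≤ J := fun x hx => (hJ x).mpr (hJ0 x hx)
  have hcJ : T₀ ∉ J := by
    intro h
    rcases (hJ T₀).mp h with h | h | h | h
    · exact hc1 h
    · exact hca h
    · exact hcb h
    · exact hcab h
  have hab1 : a * b ≠ 1 := by
    intro h
    apply hab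
    have : a = b⁻¹ := eq_inv_of_mul_eq_one_left h
    rw [this, Helper50.inv_eq_self_of_sq hbb]
  -- cyclicity on `J`
  have hcycJ : ∀ x ∈ J, x ≠ 1 → Helper50.CycE x := by
    intro x hx hx1
    by_contra hcon
    have h1 := hI₀J (hstar x (hJI hx) hx1 hcon)
    exact hcJ ((J.mul_mem_cancel_left hx).mp h1)
  have hJne : ∀ x ∈ J, ∀ y : MulAut P, y ∉ J → x * y ≠ 1 := by
    intro x hx y hy h
    apply hy
    have : y = x⁻¹ := eq_inv_of_mul_eq_one_right h
    rw [this]
    exact J.inv_mem hx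
  -- the fixed-point-free element
  obtain ⟨t, htc, ht0⟩ := Helper50.exists_fpf hp2 hP a b T₀ (pinv a haI) (pinv b hbI)
    (pinv T₀ hT₀I) (pcom a haI b hbI) (pcom a haI T₀ hT₀I) (pcom b hbI T₀ hT₀I)
    ha1 hb1 hab1 hc1 (hJne a haJ T₀ hcJ) (hJne b hbJ T₀ hcJ) (hJne (a * b) habJ T₀ hcJ)
    (hcycJ a haJ ha1) (hcycJ b hbJ hb1) (hcycJ (a * b) habJ hab1)
  obtain ⟨j, hjJ, htj⟩ : ∃ j ∈ J, t = j * T₀ := by
    rcases htc with h | h | h | h
    · exact ⟨1, J.one_mem, by rw [h, one_mul]⟩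
    · exact ⟨a, haJ, h⟩
    · exact ⟨b, hbJ, h⟩
    · exact ⟨a * b, habJ, h⟩
  have htI : t ∈ I := by rw [htj]; exact I.mul_mem (hJI hjJ) hT₀I
  have htJ : t ∉ J := by
    rw [htj]
    intro h
    exact hcJ ((J.mul_mem_cancel_left hjJ).mp h)
  have hJt : ∀ x ∈ I, x ∈ J ∨ x * t ∈ J := by
    intro x hx
    rcases hJc x hx with h | h
    · exact Or.inl ((hJ x).mpr h)
    · right
      have h' : x * T₀ ∈ J := (hJ _).mpr h
      have : x * t = j * (x * T₀) := by
        rw [htj, ← mul_assoc, ← mul_assoc, hcm x hx j (hJI hjJ)]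
      rw [this]
      exact J.mul_mem hjJ h'
  have htt := hsq t htI
  have hatc := hcm a haI t htI
  have hbtc := hcm b hbI t htI
  obtain ⟨hcomm, hgen3, hgen2, htfix, hB1, hB2, hB3⟩ :=
    Helper50.e8_structure hp2 hP a b t (pinv a haI) (pinv b hbI) (pinv t htI)
      (pcom a haI b hbI) (pcom a haI t htI) (pcom b hbI t htI) ha1 hb1 hab1
      (hJne a haJ t htJ) (hJne b hbJ t htJ) (hJne (a * b) habJ t htJ)
      (hcycJ a haJ ha1) (hcycJ b hbJ hb1) (hcycJ (a * b) habJ hab1) ht0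
  have hcyct : Helper50.CycE t := by
    refine ⟨1, fun x => ?_⟩
    rw [Subgroup.zpowers_one_eq_bot, Subgroup.mem_bot]
    exact htfix x
  have hatI : a * t ∈ I := I.mul_mem haI htI
  have hbtI : b * t ∈ I := I.mul_mem hbI htI
  have habtI : a * b * t ∈ I := I.mul_mem (I.mul_mem haI hbI) htI
  -- the broad set
  have hBset : {T : MulAut P | T ∈ I ∧ T ≠ 1 ∧ ¬ Helper50.CycE T} = {a * t, b * t, a * b * t} := by
    ext T
    simp only [Set.mem_ofPred_eq, Set.mem_insert_iff, Set.mem_singleton_iff]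
    constructor
    · rintro ⟨hTI, hT1, hTc⟩
      rcases hJt T hTI with h | h
      · exact absurd (hcycJ T h hT1) hTc
      · have hT : T = (T * t) * t := (Helper50.w_cancel_t T htt).symm
        rcases (hJ _).mp h with h | h | h | h
        · rw [h, one_mul] at hT
          rw [hT] at hTc
          exact absurd hcyct hTc
        · left; rw [hT, h]
        · right; left; rw [hT, h]
        · right; right; rw [hT, h]
    · rintro (h | h | h)
      · rw [h]; exact ⟨hatI, hJne a haJ t htJ, hB1⟩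
      · rw [h]; exact ⟨hbtI, hJne b hbJ t htJ, hB2⟩
      · rw [h]; exact ⟨habtI, hJne (a * b) habJ t htJ, hB3⟩
  have hmemB : ∀ T, T ∈ ({a * t, b * t, a * b * t} : Set (MulAut P)) →
      T ∈ I ∧ T ≠ 1 ∧ ¬ Helper50.CycE T := by
    intro T hT
    rw [← hBset] at hT
    exact hT
  have m1 : a * t ∈ ({a * t, b * t, a * b * t} : Set (MulAut P)) := Set.mem_insert _ _
  have m2 : b * t ∈ ({a * t, b * t, a * b * t} : Set (MulAut P)) :=
    Set.mem_insert_of_mem _ (Set.mem_insert _ _)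
  have m3 : a * b * t ∈ ({a * t, b * t, a * b * t} : Set (MulAut P)) :=
    Set.mem_insert_of_mem _ (Set.mem_insert_of_mem _ (Set.mem_singleton _))
  refine ⟨⟨⟨hcomm⟩⟩, hgen3, hgen2, ?_, ?_, ?_⟩
  · -- exactly three broad elements
    have hne1 : a * t ≠ b * t := fun h => hab (mul_right_cancel h)
    have hne2 : a * t ≠ a * b * t := fun h => by
      have h' : a = a * b := mul_right_cancel h
      exact hb1 (by simpa using h'.symm)
    have hne3 : b * t ≠ a * b * t := fun h => by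
      have h' : b = a * b := mul_right_cancel h
      exact ha1 (by simpa using h'.symm)
    have h3 : ({a * t, b * t, a * b * t} : Set (MulAut P)).ncard = 3 :=
      Set.ncard_eq_three.mpr ⟨_, _, _, hne1, hne2, hne3, rfl⟩
    rw [← hBset, ← Nat.card_coe_set_eq] at h3
    exact h3
  · -- they generate `I`
    show Subgroup.closure {T : MulAut P | T ∈ I ∧ T ≠ 1 ∧ ¬ Helper50.CycE T} = I
    rw [hBset]
    apply le_antisymm
    · rw [Subgroup.closure_le]
      intro T hT
      exact (hmemB T hT).1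
    · set K := Subgroup.closure ({a * t, b * t, a * b * t} : Set (MulAut P)) with hK
      have k1 : a * t ∈ K := Subgroup.subset_closure m1
      have k2 : b * t ∈ K := Subgroup.subset_closure m2
      have k3 : a * b * t ∈ K := Subgroup.subset_closure m3
      have kab : a * b ∈ K := by
        rw [← Helper50.w_at_bt (a := a) htt hbtc]; exact K.mul_mem k1 k2
      have kt : t ∈ K := by
        rw [← Helper50.w_ab_abt (t := t) haa hbb habc]; exact K.mul_mem kab k3
      have ka : a ∈ K := by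
        rw [← Helper50.w_cancel_t a htt]; exact K.mul_mem k1 kt
      have kb : b ∈ K := by
        rw [← Helper50.w_cancel_t b htt]; exact K.mul_mem k2 kt
      have hJK : J ≤ K := by
        intro x hx
        rcases (hJ x).mp hx with rfl | rfl | rfl | rfl
        · exact K.one_mem
        · exact ka
        · exact kb
        · exact kab
      intro x hx
      rcases hJt x hx with h | h
      · exact hJK h
      · rw [← Helper50.w_cancel_t x htt]
        exact K.mul_mem (hJK h) kt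
  · -- `I₀` is the set of products
    show (I₀ : Set (MulAut P)) = {S : MulAut P | ∃ T T' : MulAut P, T ∈ I ∧ T' ∈ I ∧ T ≠ 1 ∧
      T' ≠ 1 ∧ ¬ Helper50.CycE T ∧ ¬ Helper50.CycE T' ∧ S = T * T'}
    ext S
    simp only [SetLike.mem_coe, Set.mem_ofPred_eq]
    constructor
    · intro hS
      have key : ∀ T T' : MulAut P, T ∈ ({a * t, b * t, a * b * t} : Set (MulAut P)) →
          T' ∈ ({a * t, b * t, a * b * t} : Set (MulAut P)) → S = T * T' →
          ∃ T T' : MulAut P, T ∈ I ∧ T' ∈ I ∧ T ≠ 1 ∧ T' ≠ 1 ∧ ¬ Helper50.CycE T ∧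
            ¬ Helper50.CycE T' ∧ S = T * T' := by
        intro T T' hT hT' hS
        obtain ⟨x1, x2, x3⟩ := hmemB T hT
        obtain ⟨y1, y2, y3⟩ := hmemB T' hT'
        exact ⟨T, T', x1, y1, x2, y2, x3, y3, hS⟩
      rcases hJ0 S hS with h | h | h | h
      · exact key _ _ m1 m1 (by rw [h, Helper50.w_sq haa htt hatc])
      · exact key _ _ m3 m2 (by rw [h, Helper50.w_abt_bt hbb htt hbtc])
      · exact key _ _ m3 m1 (by rw [h, Helper50.w_abt_at haa htt habc hatc])
      · exact key _ _ m1 m2 (by rw [h, Helper50.w_at_bt htt hbtc])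
    · rintro ⟨T, T', hT, hT', hT1, hT'1, hTc, hT'c, rfl⟩
      exact hprod T hT T' hT' hT1 hT'1 hTc hT'c

end Cfsg.Agent.S4412
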