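import Cfsg.Statements.S4413
import Cfsg.Agent.Helper90.XOut

set_option autoImplicit false
open Cfsg

namespace Cfsg.Agent.S4413

/-- Let P be an extraspecial 2-group of order 32 with no elementary abelian subgroup of order 8 (the central product of a dihedral and a quaternion group of order 8). Then the inner automorphism group of P has order 16 and the outer automorphism group Aut(P)/Inn(P) is isomorphic to the symmetric group of degree 5; in particular Aut(P) has order 1920. -/
theorem result {P : Type*} [Group P] [Finite P]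
    (hex : Cfsg.IsExtraspecial 2 P) (h32 : Nat.card P = 32)
    (hminus : ∀ A : Subgroup P, Cfsg.IsElementaryAbelian 2 A → Nat.card ↥A ≤ 4)
    [(MulAut.conj : P →* MulAut P).range.Normal] :
    Nat.card ↥(MulAut.conj : P →* MulAut P).range = 16 ∧ Nat.card (MulAut P) = 1920 ∧
      Nonempty ((MulAut P ⧸ (MulAut.conj : P →* MulAut P).range) ≃* Equiv.Perm (Fin 5)) := by
  classical
  obtain ⟨z, hX⟩ := Cfsg.Agent.Helper90.exists_xdata hex
  have : Fintype P := Fintype.ofFinite P
  have hker : (MulAut.conj : P →* MulAut P).ker = Subgroup.center P := by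
    ext g
    rw [MonoidHom.mem_ker, Subgroup.mem_center_iff]
    constructor
    · intro h x
      have h1 : (MulAut.conj g) x = x := by rw [h]; rfl
      rw [MulAut.conj_apply] at h1
      calc x * g = (g * x * g⁻¹) * g := by rw [h1]
        _ = g * x := by group
    · intro h
      ext x
      rw [MulAut.conj_apply]
      have := h x
      calc g * x * g⁻¹ = (x * g) * g⁻¹ := by rw [this]
        _ = x := by group
  have hinn : Nat.card ↥(MulAut.conj : P →* MulAut P).range = 16 := by
    have e := QuotientGroup.quotientKerEquivRange (MulAut.conj : P →* MulAut P)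
    rw [← Nat.card_congr e.toEquiv]
    have h1 := Subgroup.card_eq_card_quotient_mul_card_subgroup (MulAut.conj : P →* MulAut P).ker
    rw [h32] at h1
    have h2 : Nat.card ↥(MulAut.conj : P →* MulAut P).ker = 2 := by
      rw [hker]; exact hex.2
    rw [h2] at h1
    omega
  have hk := hX.ker_sigmaHom h32
  have hs := hX.sigmaHom_surjective hminus
  have e1 : MulAut P ⧸ (hX.sigmaHom).ker ≃* Equiv.Perm (Cfsg.Agent.Helper90.XData.sigmaSub hX) :=
    QuotientGroup.quotientKerEquivOfSurjective _ hs
  have e2 : MulAut P ⧸ (MulAut.conj : P →* MulAut P).range ≃* MulAut P ⧸ (hX.sigmaHom).ker :=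
    QuotientGroup.quotientMulEquivOfEq hk.symm
  have e3 : Equiv.Perm (Cfsg.Agent.Helper90.XData.sigmaSub hX) ≃* Equiv.Perm (Fin 5) :=
    (Finite.equivFinOfCardEq (hX.card_sigmaSub h32 hminus)).permCongrHom
  refine ⟨hinn, ?_, ⟨(e2.trans e1).trans e3⟩⟩
  have h1 := Subgroup.card_eq_card_quotient_mul_card_subgroup (MulAut.conj : P →* MulAut P).range
  rw [h1, hinn, Nat.card_congr ((e2.trans e1).trans e3).toEquiv, Nat.card_eq_fintype_card, Fintype.card_perm,
    Fintype.card_fin]
  rfl

end Cfsg.Agent.S4413
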