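import Cfsg.Statements.S4417
import Cfsg.Agent.Helper58.LinDL

set_option autoImplicit false
open Cfsg

namespace Cfsg.Agent.S4417

open Cfsg.Agent.Helper58.LinP

/-- Let F be a field with q elements, p a prime not dividing q, and e the multiplicative order of q modulo p; assume e ≤ n. Then every p-subgroup of GL_n(F) has derived length at most ⌊log₂(n/e)⌋ + 1: that term of its derived series is trivial (n/e is the integer quotient). -/
theorem result {F : Type*} [Field F] [Fintype F] (q : ℕ) (hF : Fintype.card F = q) (p : ℕ) [Fact p.Prime] (hpq : ¬ p ∣ q) (n e : ℕ) (he : e = orderOf (q : ZMod p)) (hen : e ≤ n) (P : Subgroup (GL (Fin n) F)) (hP : IsPGroup p P) : derivedSeries ↥P (Nat.log 2 (n / e) + 1) = ⊥ := by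
  classical
  have hp : p.Prime := Fact.out
  let φ : Matrix.GeneralLinearGroup (Fin n) F →* ((Fin n → F) ≃ₗ[F] (Fin n → F)) :=
    (LinearMap.GeneralLinearGroup.generalLinearEquiv F (Fin n → F)).toMonoidHom.comp
      (Matrix.GeneralLinearGroup.toLin.toMonoidHom)
  have hφ : Function.Injective φ :=
    (LinearMap.GeneralLinearGroup.generalLinearEquiv F (Fin n → F)).injective.comp
      Matrix.GeneralLinearGroup.toLin.injective
  let ρ' : P →* ((Fin n → F) ≃ₗ[F] (Fin n → F)) := φ.comp P.subtype
  have hρ' : Function.Injective ρ' := hφ.comp P.subtype_injective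
  have hker : ρ'.ker = ⊥ := (MonoidHom.ker_eq_bot_iff ρ').mpr hρ'
  have hfin : Module.finrank F (Fin n → F) = n := Module.finrank_fin_fun F
  -- characteristic
  have hpk : ((p : ℕ) : F) ≠ 0 := by
    intro h0
    apply hpq
    have h1 : addOrderOf (1 : F) = p := by
      apply addOrderOf_eq_prime
      · rw [nsmul_eq_mul, mul_one]; exact h0
      · exact one_ne_zero
    rw [← hF, ← Nat.card_eq_fintype_card, ← h1]
    exact addOrderOf_dvd_natCard _
  have hq0 : (q : ZMod p) ≠ 0 := by
    intro h
    exact hpq ((ZMod.natCast_eq_zero_iff q p).mp h)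
  have hepos : 0 < e := by
    rw [he, orderOf_pos_iff, isOfFinOrder_iff_pow_eq_one]
    exact ⟨p - 1, by have := hp.two_le; omega, ZMod.pow_card_sub_one_eq_one hq0⟩
  have h2 : p = 2 → e = 1 := by
    intro hp2
    subst hp2
    rw [he, orderOf_eq_one_iff]
    have hodd : q % 2 = 1 := by
      rcases Nat.mod_two_eq_zero_or_one q with h | h
      · exact absurd (Nat.dvd_of_mod_eq_zero h) hpq
      · exact h
    have : (q : ZMod 2) = ((q % 2 : ℕ) : ZMod 2) := by
      rw [ZMod.natCast_mod]
    rw [this, hodd, Nat.cast_one]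
  have hE : ∀ (W : Type _) [AddCommGroup W] [Module F W] [FiniteDimensional F W] (z : W ≃ₗ[F] W),
      z ^ p = 1 → (∀ w, z w = w → w = 0) → e ∣ Module.finrank F W := by
    intro W _ _ _ z hz hfix
    have : Finite W := Module.finite_of_finite F
    have hZ : IsPGroup p (Subgroup.zpowers z) := by
      intro g
      refine ⟨1, ?_⟩
      obtain ⟨m, hm⟩ := Subgroup.mem_zpowers_iff.mp g.2
      apply Subtype.ext
      rw [pow_one, Subgroup.coe_pow, Subgroup.coe_one, ← hm, ← zpow_natCast, ← zpow_mul, mul_comm,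
        zpow_mul, zpow_natCast, hz, one_zpow]
    have hmod := hZ.card_modEq_card_fixedPoints W
    have hfp : Nat.card (MulAction.fixedPoints (Subgroup.zpowers z) W) = 1 := by
      rw [Nat.card_eq_one_iff_unique]
      refine ⟨⟨?_⟩, ⟨⟨0, ?_⟩⟩⟩
      · rintro ⟨a, ha⟩ ⟨b, hb⟩
        apply Subtype.ext
        have ha' : a = 0 := hfix a (ha ⟨z, Subgroup.mem_zpowers z⟩)
        have hb' : b = 0 := hfix b (hb ⟨z, Subgroup.mem_zpowers z⟩)
        show a = b
        rw [ha', hb']
      · intro g
        exact smul_zero g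
    rw [hfp, Module.natCard_eq_pow_finrank (K := F) (V := W), Nat.card_eq_fintype_card, hF] at hmod
    rw [he]
    apply orderOf_dvd_of_pow_eq_one
    have := (ZMod.natCast_eq_natCast_iff _ _ p).mpr hmod
    rw [Nat.cast_pow, Nat.cast_one] at this
    exact this
  have h := derivedSeries_le_ker (k := F) p hpk e hepos h2 hE n (Fin n → F) P hP ρ' hfin
  have hb : dlBound e n = Nat.log 2 (n / e) + 1 := by
    unfold dlBound
    rw [if_neg (by omega)]
  rw [hb, hker] at h
  exact eq_bot_iff.mpr h

end Cfsg.Agent.S4417
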