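import Cfsg.Statements.S4419
import Cfsg.Agent.S0071
import Cfsg.Agent.Lib.Cores
import Cfsg.Agent.Helper2.PComplement
import Cfsg.Agent.Helper63.PrimePow
import Cfsg.Agent.Helper97.Metacyclic
-- import your own Cfsg.Agent.* helpers here

set_option autoImplicit false
open Cfsg

namespace Cfsg.Agent.S4419

/-- Let p be a prime and G a finite group whose Sylow p-subgroups are metacyclic (a cyclic normal subgroup with cyclic quotient). Then G has a normal p-complement if and only if the order of G/O_{p′,p}(G) is coprime to p² − 1. -/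
theorem result {G : Type*} [Group G] [Finite G] (p : ℕ) [Fact p.Prime] (S : Sylow p G) (hS : Cfsg.IsMetacyclic ↥(S : Subgroup G)) : Cfsg.HasNormalPComplement p G ↔ Nat.Coprime (Nat.card (G ⧸ Cfsg.pPrimePCore p G)) (p ^ 2 - 1) := by
  classical
  have hp : p.Prime := Fact.out
  set K : Subgroup G := Cfsg.pPrimeCore p G with hK
  have hKn : K.Normal := by
    have := Cfsg.Agent.Lib.pPrimeCore_characteristic (G := G) p
    infer_instance
  have hOn : (Cfsg.pCore p (G ⧸ K)).Normal := by
    have := Cfsg.Agent.Lib.pCore_characteristic (G := G ⧸ K) p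
    infer_instance
  set M : Subgroup G := Cfsg.pPrimePCore p G with hM
  have hMdef : M = (Cfsg.pCore p (G ⧸ K)).comap (QuotientGroup.mk' K) := rfl
  have hMn : M.Normal := by
    rw [hMdef]; infer_instance
  constructor
  · rintro ⟨P, N, hNn, hN⟩
    have hNcop : (Nat.card ↥N).Coprime p := by
      rw [← hN.index_eq_card]
      exact ((Nat.Prime.coprime_iff_not_dvd hp).2 P.not_dvd_index).symm
    have hNK : N ≤ K := Cfsg.Agent.Lib.le_pPrimeCore hNn hNcop
    have hidx : K.index ∣ N.index := Subgroup.index_dvd_of_le hNK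
    have hNidx : N.index = Nat.card ↥(P : Subgroup G) := hN.symm.index_eq_card
    obtain ⟨n, hn⟩ := IsPGroup.iff_card.1 P.isPGroup'
    rw [hNidx, hn] at hidx
    obtain ⟨j, -, hj⟩ := (Nat.dvd_prime_pow hp).1 hidx
    have hpG : IsPGroup p (G ⧸ K) :=
      IsPGroup.of_card (n := j) (by rw [← Subgroup.index_eq_card]; exact hj)
    have htop : M = ⊤ := by
      rw [hMdef, Cfsg.Agent.Lib.pCore_eq_top_of_isPGroup hpG, Subgroup.comap_top]
    have h1 : Nat.card (G ⧸ M) = 1 := by
      rw [← Subgroup.index_eq_card, htop, Subgroup.index_top]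
    rw [h1]
    exact Nat.coprime_one_left _
  · intro hcop
    rw [Cfsg.Agent.Helper2.hasNormalPComplement_iff S, Cfsg.Agent.S0071.result S]
    intro Q hQS g hgN hgo
    have hle : Subgroup.zpowers g ≤ Subgroup.centralizer (Q : Set G) := by
      apply Cfsg.Agent.Helper63.le_of_forall_primePow_mem
      intro x hx r e hr hxo
      by_contra hxC
      have : Fact r.Prime := ⟨hr⟩
      have hxN : x ∈ Subgroup.normalizer (Q : Set G) := (Subgroup.zpowers_le.2 hgN) hx
      have he : e ≠ 0 := by
        rintro rfl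
        rw [pow_zero, orderOf_eq_one_iff] at hxo
        subst hxo
        exact hxC (one_mem _)
      have hro : r ∣ orderOf g := by
        have h1 : orderOf x ∣ orderOf g := orderOf_dvd_of_mem_zpowers hx
        rw [hxo] at h1
        exact (dvd_pow_self r he).trans h1
      have hrp : r ≠ p := by
        rintro rfl
        have h1 := Nat.dvd_gcd hro (dvd_refl r)
        rw [hgo.gcd_eq_one] at h1
        exact hr.one_lt.ne' (Nat.dvd_one.1 h1)
      have hxpow : x ^ r ^ e = 1 := by rw [← hxo]; exact pow_orderOf_eq_one x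
      have hRr : IsPGroup r ↥(Subgroup.zpowers x) := by
        intro y
        obtain ⟨y, hy⟩ := y
        obtain ⟨n, rfl⟩ := Subgroup.mem_zpowers_iff.1 hy
        refine ⟨e, Subtype.ext ?_⟩
        show (x ^ n) ^ r ^ e = 1
        rw [← zpow_natCast, ← zpow_mul, mul_comm, zpow_mul, zpow_natCast, hxpow, one_zpow]
      have hQp : IsPGroup p ↥Q := S.isPGroup'.to_le hQS
      have h1 : r ∣ p ^ 2 - 1 :=
        Cfsg.Agent.Helper97.prime_dvd_sq_sub_one_of_not_centralize hrp hQp
          (Cfsg.Agent.Helper97.exists_two_generators_of_le_metacyclic hS hQS) hRr hxN hxC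
      have h2 : r ∣ Nat.card (G ⧸ M) := by
        by_contra hnd
        have hcop2 : (r ^ e).Coprime (Nat.card (G ⧸ M)) :=
          Nat.Coprime.pow_left _ ((Nat.Prime.coprime_iff_not_dvd hr).2 hnd)
        have hxM : x ∈ M := by
          refine Cfsg.Agent.Helper63.mem_of_pow_mem_of_coprime hcop2 ?_ ?_
          · rw [hxpow]; exact one_mem _
          · rw [← Subgroup.index_eq_card]
            exact Subgroup.pow_index_mem M x
        -- `x ∈ K`
        have hxK : x ∈ K := by
          have h3 : (QuotientGroup.mk' K x) ∈ Cfsg.pCore p (G ⧸ K) := hxM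
          have hOp : IsPGroup p ↥(Cfsg.pCore p (G ⧸ K)) := Cfsg.Agent.Lib.isPGroup_pCore p
          obtain ⟨k, hk⟩ := hOp ⟨_, h3⟩
          have hk' : (QuotientGroup.mk' K x) ^ p ^ k = 1 := congrArg Subtype.val hk
          have hcop3 : (r ^ e).Coprime (p ^ k) :=
            Nat.Coprime.pow _ _ ((Nat.coprime_primes hr hp).2 hrp)
          refine Cfsg.Agent.Helper63.mem_of_pow_mem_of_coprime hcop3 ?_ ?_
          · rw [hxpow]; exact one_mem _
          · rw [← map_pow] at hk'
            exact (QuotientGroup.eq_one_iff _).1 hk'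
        -- `[Q, x] ≤ Q ⊓ K = ⊥`
        apply hxC
        rw [Subgroup.mem_centralizer_iff]
        intro q hq
        have h4 : x * q * x⁻¹ * q⁻¹ ∈ Q :=
          Q.mul_mem ((Subgroup.mem_normalizer_iff.1 hxN q).1 hq) (Q.inv_mem hq)
        have h5 : x * q * x⁻¹ * q⁻¹ ∈ K := by
          have h6 : q * x⁻¹ * q⁻¹ ∈ K := hKn.conj_mem _ (K.inv_mem hxK) q
          have h7 : x * q * x⁻¹ * q⁻¹ = x * (q * x⁻¹ * q⁻¹) := by group
          rw [h7]
          exact K.mul_mem hxK h6
        have hKcop : (Nat.card ↥K).Coprime p := Cfsg.Agent.Lib.card_pPrimeCore_coprime p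
        have h8 : x * q * x⁻¹ * q⁻¹ = 1 := by
          obtain ⟨k, hk⟩ := hQp ⟨_, h4⟩
          have hk' : (x * q * x⁻¹ * q⁻¹) ^ p ^ k = 1 := congrArg Subtype.val hk
          have h9 : orderOf (x * q * x⁻¹ * q⁻¹) ∣ p ^ k := orderOf_dvd_of_pow_eq_one hk'
          have h10 : orderOf (x * q * x⁻¹ * q⁻¹) ∣ Nat.card ↥K := by
            have := orderOf_dvd_natCard (⟨_, h5⟩ : ↥K)
            rwa [Subgroup.orderOf_mk] at this
          have h11 := Nat.dvd_gcd h10 h9
          rw [(Nat.Coprime.pow_right k hKcop).gcd_eq_one] at h11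
          exact orderOf_eq_one_iff.1 (Nat.dvd_one.1 h11)
        calc q * x = (x * q * x⁻¹ * q⁻¹)⁻¹ * (x * q) := by group
          _ = x * q := by rw [h8, inv_one, one_mul]
      have h3 := Nat.dvd_gcd h2 h1
      rw [hcop.gcd_eq_one] at h3
      exact hr.one_lt.ne' (Nat.dvd_one.1 h3)
    exact hle (Subgroup.mem_zpowers g)

end Cfsg.Agent.S4419
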