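-- Statement S4420: groups in which every element outside a proper subgroup has square 1.
import Cfsg.Statements.S4420

set_option autoImplicit false
open Cfsg

namespace Cfsg.Agent.S4420

theorem inv_eq_self_of_sq {H : Type*} [Group H] {x : H} (hx : x ^ 2 = 1) : x⁻¹ = x := by
  rw [inv_eq_iff_mul_eq_one, ← sq, hx]

/-- an element outside `A` inverts `A`. -/
theorem inverts {H : Type*} [Group H] (A : Subgroup H) (hD : ∀ x : H, x ∉ A → x ^ 2 = 1)
    {x : H} (hx : x ∉ A) {a : H} (ha : a ∈ A) : x * a * x⁻¹ = a⁻¹ := by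
  have hxa : x * a ∉ A := fun h => hx (by simpa using A.mul_mem h (A.inv_mem ha))
  have h1 := hD x hx
  have h2 := hD (x * a) hxa
  rw [inv_eq_self_of_sq h1]
  rw [sq] at h2
  -- x a x a = 1
  have : x * a * x * a = 1 := by simpa [mul_assoc] using h2
  exact eq_inv_of_mul_eq_one_left this

theorem comm_of_all_sq {H : Type*} [Group H] (h : ∀ x : H, x ^ 2 = 1) (a b : H) : a * b = b * a := by
  have h1 := inv_eq_self_of_sq (h (a * b))
  rw [mul_inv_rev, inv_eq_self_of_sq (h a), inv_eq_self_of_sq (h b)] at h1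
  exact h1.symm

theorem exists_index_two {H : Type*} [Group H] [Finite H] (h : ∀ x : H, x ^ 2 = 1) (hnt : Nontrivial H) :
    ∃ B : Subgroup H, B.index = 2 := by
  have : Fact (Nat.Prime 2) := ⟨Nat.prime_two⟩
  have hp : IsPGroup 2 H := fun g => ⟨1, by simpa using h g⟩
  obtain ⟨n, hn⟩ := IsPGroup.iff_card.1 hp
  have hone : 1 < Nat.card H := Finite.one_lt_card
  have hn0 : n ≠ 0 := by
    rintro rfl
    simp at hn
    omega
  obtain ⟨m, rfl⟩ := Nat.exists_eq_succ_of_ne_zero hn0
  obtain ⟨K, hK⟩ := Sylow.exists_subgroup_card_pow_prime (G := H) 2 (n := m)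
    (by rw [hn]; exact pow_dvd_pow 2 (Nat.le_succ m))
  refine ⟨K, ?_⟩
  have h1 := K.card_mul_index
  rw [hK, hn, pow_succ] at h1
  exact Nat.eq_of_mul_eq_mul_left (pow_pos (by norm_num) m) h1

/-- Structure of groups in which every element outside some proper subgroup has square 1. Let H be a finite group with a proper subgroup A such that every element outside A has square 1. Then H has an abelian normal subgroup B of index 2 such that every element outside B is an involution inverting every element of B; and if H is not an elementary abelian 2-group, B is the only abelian normal subgroup of index 2 with this property. -/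
theorem result {H : Type*} [Group H] [Finite H] (A : Subgroup H) (hA : A ≠ ⊤) (hD : ∀ x : H, x ∉ A → x ^ 2 = 1) :
    ∃ B : Subgroup H, B.Normal ∧ IsMulCommutative ↥B ∧ B.index = 2 ∧
      (∀ x : H, x ∉ B → x ^ 2 = 1 ∧ ∀ b ∈ B, x * b * x⁻¹ = b⁻¹) ∧
      (¬ (IsMulCommutative H ∧ ∀ x : H, x ^ 2 = 1) →
        ∀ B' : Subgroup H, B'.Normal → IsMulCommutative ↥B' → B'.index = 2 →
          (∀ x : H, x ∉ B' → x ^ 2 = 1 ∧ ∀ b ∈ B', x * b * x⁻¹ = b⁻¹) → B' = B) := by
  classical
  obtain ⟨x₀, -, hx₀⟩ := SetLike.exists_of_lt (lt_top_iff_ne_top.2 hA)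
  by_cases hall : ∀ x : H, x ^ 2 = 1
  · -- elementary abelian case
    have hnt : Nontrivial H := ⟨⟨x₀, 1, fun h => hx₀ (h ▸ A.one_mem)⟩⟩
    obtain ⟨B, hB⟩ := exists_index_two hall hnt
    have hcomm : ∀ a b : H, a * b = b * a := comm_of_all_sq hall
    refine ⟨B, ⟨fun n hn g => ?_⟩, ⟨⟨fun a b => ?_⟩⟩, hB, fun x _ => ⟨hall x, fun b _ => ?_⟩, fun hne => ?_⟩
    · rw [hcomm g n]; simpa using hn
    · exact Subtype.ext (hcomm a b)
    · rw [hcomm x b, mul_inv_cancel_right, inv_eq_self_of_sq (hall b)]
    · exact absurd ⟨⟨⟨fun a b => hcomm a b⟩⟩, hall⟩ hne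
  · -- then A has index 2
    have hidx : A.index = 2 := by
      by_contra hne
      apply hall
      -- find x y ∉ A with x * y ∉ A
      have hex : ∃ x y : H, x ∉ A ∧ y ∉ A ∧ x * y ∉ A := by
        by_contra hno
        push Not at hno
        apply hne
        rw [Subgroup.index_eq_two_iff]
        refine ⟨x₀, fun b => ?_⟩
        by_cases hb : b ∈ A
        · refine Or.inr ⟨hb, fun h => hx₀ ?_⟩
          simpa using A.mul_mem (A.inv_mem hb) h
        · exact Or.inl ⟨hno b x₀ hb hx₀, hb⟩
      obtain ⟨x, y, hx, hy, hxy⟩ := hex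
      intro z
      by_cases hz : z ∈ A
      · have h1 := inverts A hD hxy hz
        have h2 := inverts A hD hy hz
        have h3 := inverts A hD hx (A.inv_mem hz)
        have h4 : x * y * z * (x * y)⁻¹ = x * (y * z * y⁻¹) * x⁻¹ := by group
        rw [h4, h2, h3, inv_inv] at h1
        rw [sq]
        exact mul_eq_one_iff_eq_inv.2 h1
      · exact hD z hz
    have hAn : A.Normal := Subgroup.normal_of_index_eq_two hidx
    have hAc : ∀ a ∈ A, ∀ b ∈ A, a * b = b * a := by
      intro a ha b hb
      have h1 := inverts A hD hx₀ (A.mul_mem ha hb)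
      have h2 := inverts A hD hx₀ ha
      have h3 := inverts A hD hx₀ hb
      have h4 : x₀ * (a * b) * x₀⁻¹ = (x₀ * a * x₀⁻¹) * (x₀ * b * x₀⁻¹) := by group
      rw [h4, h2, h3, mul_inv_rev] at h1
      have := congrArg (fun t => t⁻¹) h1
      simpa using this.symm
    refine ⟨A, hAn, ⟨⟨fun a b => Subtype.ext (hAc a a.2 b b.2)⟩⟩, hidx,
      fun x hx => ⟨hD x hx, fun b hb => inverts A hD hx hb⟩, fun _ B' hB'n hB'c hB'i hB' => ?_⟩
    -- uniqueness
    by_contra hne
    apply hall
    -- B' is not contained in A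
    have hnle : ¬ B' ≤ A := by
      intro hle
      apply hne
      exact Subgroup.eq_of_le_of_card_ge hle (by
        have h1 := A.card_mul_index
        have h2 := B'.card_mul_index
        rw [hidx] at h1
        rw [hB'i] at h2
        have : Nat.card A * 2 = Nat.card B' * 2 := by rw [h1, h2]
        omega)
    obtain ⟨x, hxB', hxA⟩ := SetLike.not_le_iff_exists.1 hnle
    intro z
    by_cases hzA : z ∈ A
    · by_cases hzB : z ∈ B'
      · -- x commutes with z (both in abelian B') and x inverts z
        have h1 := inverts A hD hxA hzA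
        have h2 : x * z = z * x := by
          have := hB'c.is_comm.comm ⟨x, hxB'⟩ ⟨z, hzB⟩
          exact congrArg Subtype.val this
        rw [h2, mul_inv_cancel_right] at h1
        rw [sq]
        exact mul_eq_one_iff_eq_inv.2 h1
      · exact (hB' z hzB).1
    · exact hD z hzA

end Cfsg.Agent.S4420
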