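-- Statement S4422: primitive divisors of q^e - 1 are congruent to 1 modulo e.
import Cfsg.Statements.S4422

set_option autoImplicit false
open Cfsg

namespace Cfsg.Agent.S4422

theorem prime_case (q e p : ℕ) (hq : 2 ≤ q) (he : 1 ≤ e) (hp : p.Prime)
    (hm : p ∣ q ^ e - 1) (hcop : ∀ i : ℕ, 1 ≤ i → i < e → Nat.Coprime p (q ^ i - 1)) :
    p ≡ 1 [MOD e] := by
  have : Fact p.Prime := ⟨hp⟩
  have hpow : ∀ i : ℕ, ((q : ZMod p)) ^ i = 1 ↔ p ∣ q ^ i - 1 := by
    intro i
    have h1 : 1 ≤ q ^ i := Nat.one_le_pow _ _ (by omega)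
    rw [← ZMod.natCast_eq_zero_iff, Nat.cast_sub h1, Nat.cast_pow, Nat.cast_one, sub_eq_zero]
  have h1 : (q : ZMod p) ^ e = 1 := (hpow e).2 hm
  have hd : orderOf (q : ZMod p) ∣ e := orderOf_dvd_of_pow_eq_one h1
  have hdpos : 0 < orderOf (q : ZMod p) := Nat.pos_of_dvd_of_pos hd he
  have hde : orderOf (q : ZMod p) = e := by
    by_contra hne
    have hlt : orderOf (q : ZMod p) < e := lt_of_le_of_ne (Nat.le_of_dvd he hd) hne
    have h2 : p ∣ q ^ orderOf (q : ZMod p) - 1 := (hpow _).1 (pow_orderOf_eq_one _)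
    have h3 := hcop _ hdpos hlt
    have h4 : p ∣ Nat.gcd p (q ^ orderOf (q : ZMod p) - 1) := Nat.dvd_gcd dvd_rfl h2
    rw [h3] at h4
    exact hp.one_lt.ne' (Nat.dvd_one.1 h4)
  have hq0 : (q : ZMod p) ≠ 0 := by
    intro h0
    rw [h0, zero_pow (by omega)] at h1
    exact zero_ne_one h1
  have h5 : orderOf (q : ZMod p) ∣ p - 1 := ZMod.orderOf_dvd_card_sub_one hq0
  rw [hde] at h5
  have h6 : 1 ≤ p := hp.one_lt.le
  exact ((Nat.modEq_iff_dvd' h6).2 h5).symm

/-- Primitive divisors of `q^e - 1` are congruent to 1 modulo `e`. Let `q ≥ 2` and `e ≥ 1` be natural numbers and let `m` be a divisor of `q^e - 1` that is coprime to `q^i - 1` for every `1 ≤ i < e` (so `m` divides the primitive part of `q^e - 1`, the largest such divisor). Then `m ≡ 1 (mod e)`. -/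
theorem result (q e m : ℕ) (hq : 2 ≤ q) (he : 1 ≤ e)
    (hm : m ∣ q ^ e - 1) (hcop : ∀ i : ℕ, 1 ≤ i → i < e → Nat.Coprime m (q ^ i - 1)) :
    m % e = 1 % e := by
  show m ≡ 1 [MOD e]
  induction m using Nat.recOnMul with
  | zero =>
    exfalso
    have h1 : 2 ≤ q ^ e := le_trans hq (Nat.le_self_pow (by omega) q)
    have := Nat.eq_zero_of_zero_dvd hm
    omega
  | one => rfl
  | prime p hp => exact prime_case q e p hq he hp hm hcop
  | mul a b iha ihb =>
    have ha := iha (dvd_trans (dvd_mul_right a b) hm)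
      (fun i h1 h2 => Nat.Coprime.coprime_dvd_left (dvd_mul_right a b) (hcop i h1 h2))
    have hb := ihb (dvd_trans (dvd_mul_left b a) hm)
      (fun i h1 h2 => Nat.Coprime.coprime_dvd_left (dvd_mul_left b a) (hcop i h1 h2))
    simpa using ha.mul hb

end Cfsg.Agent.S4422
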