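import Cfsg.Statements.S4423
import Cfsg.Agent.Helper57.ZsigMain

set_option autoImplicit false
open Cfsg

namespace Cfsg.Agent.S4423

open Cfsg.Agent.Helper57.Zsig

/-- If `m ∣ N`, `N ∣ Y * P` and `m` is prime to `Y` then `m ≤ P`. -/
theorem le_of_coprime {m N Y P : ℕ} (hP : 0 < P) (hm : m ∣ N) (hN : N ∣ Y * P)
    (hc : Nat.Coprime m Y) : m ≤ P :=
  Nat.le_of_dvd hP (Nat.Coprime.dvd_of_dvd_mul_left hc (hm.trans hN))

/-- Size of the primitive part of `q^e - 1`. For a prime power `q` and `e ≥ 3`, call a divisor of `q^e - 1` primitive when it is coprime to `q^i - 1` for every `1 ≤ i < e`; the primitive part is the largest primitive divisor. Apart from thirteen exceptional pairs, the primitive part is at least `3e + 1`: there is a primitive divisor `m ≥ 3e + 1` unless `(q, e)` is `(2, 6)` (where every primitive divisor is 1), one of `(2,4), (2,10), (2,12), (2,18), (3,4), (3,6), (5,6)` (where the primitive part is exactly `e + 1`), or one of `(2,3), (2,8), (2,20), (4,3), (4,6)` (where it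 is exactly `2e + 1`). The statement asserts the existence of a primitive divisor `m ≥ 3e + 1` outside the thirteen pairs, and that every primitive divisor is at most `2e + 1` for the thirteen pairs. -/
theorem result (q e : ℕ) (hq : IsPrimePow q) (he : 3 ≤ e) :
    ((q, e) ∉ [(2, 6), (2, 4), (2, 10), (2, 12), (2, 18), (3, 4), (3, 6), (5, 6), (2, 3), (2, 8), (2, 20), (4, 3), (4, 6)] →
      ∃ m : ℕ, m ∣ q ^ e - 1 ∧ (∀ i : ℕ, 1 ≤ i → i < e → Nat.Coprime m (q ^ i - 1)) ∧ 3 * e + 1 ≤ m) ∧
    ((q, e) ∈ [(2, 6), (2, 4), (2, 10), (2, 12), (2, 18), (3, 4), (3, 6), (5, 6), (2, 3), (2, 8), (2, 20), (4, 3), (4, 6)] →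
      ∀ m : ℕ, m ∣ q ^ e - 1 → (∀ i : ℕ, 1 ≤ i → i < e → Nat.Coprime m (q ^ i - 1)) → m ≤ 2 * e + 1) := by
  constructor
  · intro hex
    exact exists_primitive_divisor_ge hq.two_le he hex
  · intro hmem m hm hc
    simp only [List.mem_cons, Prod.mk.injEq, List.mem_nil_iff, or_false] at hmem
    rcases hmem with ⟨rfl, rfl⟩ | ⟨rfl, rfl⟩ | ⟨rfl, rfl⟩ | ⟨rfl, rfl⟩ | ⟨rfl, rfl⟩ | ⟨rfl, rfl⟩ |
      ⟨rfl, rfl⟩ | ⟨rfl, rfl⟩ | ⟨rfl, rfl⟩ | ⟨rfl, rfl⟩ | ⟨rfl, rfl⟩ | ⟨rfl, rfl⟩ | ⟨rfl, rfl⟩
    · -- (2, 6)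
      have h3 := hc 3 (by norm_num) (by norm_num)
      have h2 := hc 2 (by norm_num) (by norm_num)
      have := le_of_coprime (P := 1) (Y := (2 ^ 3 - 1) * (2 ^ 2 - 1) ^ 2) (by norm_num) hm
        (by norm_num) (h3.mul_right (h2.pow_right 2))
      omega
    · -- (2, 4)
      have h2 := hc 2 (by norm_num) (by norm_num)
      have := le_of_coprime (P := 5) (Y := (2 ^ 2 - 1)) (by norm_num) hm (by norm_num) h2
      omega
    · -- (2, 10)
      have h2 := hc 2 (by norm_num) (by norm_num)
      have h5 := hc 5 (by norm_num) (by norm_num)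
      have := le_of_coprime (P := 11) (Y := (2 ^ 2 - 1) * (2 ^ 5 - 1)) (by norm_num) hm
        (by norm_num) (h2.mul_right h5)
      omega
    · -- (2, 12)
      have h6 := hc 6 (by norm_num) (by norm_num)
      have h4 := hc 4 (by norm_num) (by norm_num)
      have := le_of_coprime (P := 13) (Y := (2 ^ 6 - 1) * (2 ^ 4 - 1)) (by norm_num) hm
        (by norm_num) (h6.mul_right h4)
      omega
    · -- (2, 18)
      have h9 := hc 9 (by norm_num) (by norm_num)
      have h2 := hc 2 (by norm_num) (by norm_num)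
      have := le_of_coprime (P := 19) (Y := (2 ^ 9 - 1) * (2 ^ 2 - 1) ^ 3) (by norm_num) hm
        (by norm_num) (h9.mul_right (h2.pow_right 3))
      omega
    · -- (3, 4)
      have h1 := hc 1 (by norm_num) (by norm_num)
      have := le_of_coprime (P := 5) (Y := (3 ^ 1 - 1) ^ 4) (by norm_num) hm
        (by norm_num) (h1.pow_right 4)
      omega
    · -- (3, 6)
      have h3 := hc 3 (by norm_num) (by norm_num)
      have h2 := hc 2 (by norm_num) (by norm_num)
      have := le_of_coprime (P := 7) (Y := (3 ^ 3 - 1) * (3 ^ 2 - 1)) (by norm_num) hm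
        (by norm_num) (h3.mul_right h2)
      omega
    · -- (5, 6)
      have h3 := hc 3 (by norm_num) (by norm_num)
      have h2 := hc 2 (by norm_num) (by norm_num)
      have := le_of_coprime (P := 7) (Y := (5 ^ 3 - 1) * (5 ^ 2 - 1) ^ 2) (by norm_num) hm
        (by norm_num) (h3.mul_right (h2.pow_right 2))
      omega
    · -- (2, 3)
      have := Nat.le_of_dvd (by norm_num) hm
      omega
    · -- (2, 8)
      have h4 := hc 4 (by norm_num) (by norm_num)
      have := le_of_coprime (P := 17) (Y := (2 ^ 4 - 1)) (by norm_num) hm (by norm_num) h4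
      omega
    · -- (2, 20)
      have h10 := hc 10 (by norm_num) (by norm_num)
      have h4 := hc 4 (by norm_num) (by norm_num)
      have := le_of_coprime (P := 41) (Y := (2 ^ 10 - 1) * (2 ^ 4 - 1) ^ 2) (by norm_num) hm
        (by norm_num) (h10.mul_right (h4.pow_right 2))
      omega
    · -- (4, 3)
      have h1 := hc 1 (by norm_num) (by norm_num)
      have := le_of_coprime (P := 7) (Y := (4 ^ 1 - 1) ^ 2) (by norm_num) hm
        (by norm_num) (h1.pow_right 2)
      omega
    · -- (4, 6)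
      have h3 := hc 3 (by norm_num) (by norm_num)
      have h2 := hc 2 (by norm_num) (by norm_num)
      have := le_of_coprime (P := 13) (Y := (4 ^ 3 - 1) * (4 ^ 2 - 1)) (by norm_num) hm
        (by norm_num) (h3.mul_right h2)
      omega

end Cfsg.Agent.S4423
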