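import Cfsg.Statements.S4429
import Cfsg.Agent.Helper20.M11Deg3
-- import your own Cfsg.Agent.* helpers here

set_option autoImplicit false
open Cfsg

namespace Cfsg.Agent.S4429

/-- Let G be a simple group of order 7920. Then G has exactly ten irreducible complex characters, and their degrees, listed with multiplicity, are 1, 10, 10, 10, 11, 16, 16, 44, 45, 55: for every natural number n, the number of irreducible characters of degree n is 1 if n ∈ {1, 11, 44, 45, 55}, 3 if n = 10, 2 if n = 16, and 0 otherwise. -/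
theorem result {G : Type*} [Group G] [Finite G] [IsSimpleGroup G] (hG : Nat.card G = 7920) : Nat.card (Cfsg.IrrCharacter G) = 10 ∧ ∀ n : ℕ, Nat.card {χ : Cfsg.IrrCharacter G // Cfsg.charDegree (χ : G → ℂ) = n} = (if n = 1 ∨ n = 11 ∨ n = 44 ∨ n = 45 ∨ n = 55 then 1 else if n = 10 then 3 else if n = 16 then 2 else 0) := by
  classical
  letI : Fintype G := Fintype.ofFinite G
  letI : Fintype (Cfsg.IrrCharacter G) := Cfsg.Agent.Helper74.irrFintype G
  obtain ⟨x, hx, ⟨B⟩⟩ := Cfsg.Agent.Helper20.M11.exists_B11 hG
  rcases Cfsg.Agent.Helper20.M11.B11.cases hG hx B with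
    ⟨hd16, hσ1, ψ45, ψa, ψb, ψc, h45a, h45b, h45c, hab, hac, hbc, h451, ha1, hb1, hc1,
      hA45, hd45, hAa, hda, hAb, hdb, hAc, hdc, hrest⟩ | ⟨hd5, ψ, ψ', hne, h12, h12'⟩
  · have key := Cfsg.Agent.Helper20.M11.case_I_degrees hG hx B hd16 hσ1 ψ45 ψa ψb ψc
      h45a h45b h45c hab hac hbc h451 ha1 hb1 hc1 hA45 hd45 hAa hda hAb hdb hAc hdc hrest
    refine ⟨?_, ?_⟩
    · rw [Nat.card_eq_fintype_card, ← Finset.card_univ, Finset.card_eq_sum_ones]
      have := key (fun _ => 1)
      simpa using this
    · intro n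
      have hcount : Nat.card {χ : Cfsg.IrrCharacter G // Cfsg.charDegree (χ : G → ℂ) = n}
          = ∑ χ : Cfsg.IrrCharacter G, (if Cfsg.charDegree (χ : G → ℂ) = n then 1 else 0) := by
        rw [Nat.card_eq_fintype_card, Fintype.card_subtype, Finset.card_filter]
      rw [hcount, key (fun m => if m = n then 1 else 0)]
      by_cases h1 : n = 1
      · subst h1; norm_num
      by_cases h10 : n = 10
      · subst h10; norm_num
      by_cases h11 : n = 11
      · subst h11; norm_num
      by_cases h16 : n = 16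
      · subst h16; norm_num
      by_cases h44 : n = 44
      · subst h44; norm_num
      by_cases h45 : n = 45
      · subst h45; norm_num
      by_cases h55 : n = 55
      · subst h55; norm_num
      have e1 : ¬ (1 = n) := fun h => h1 h.symm
      have e10 : ¬ (10 = n) := fun h => h10 h.symm
      have e11 : ¬ (11 = n) := fun h => h11 h.symm
      have e16 : ¬ (16 = n) := fun h => h16 h.symm
      have e44 : ¬ (44 = n) := fun h => h44 h.symm
      have e45 : ¬ (45 = n) := fun h => h45 h.symm
      have e55 : ¬ (55 = n) := fun h => h55 h.symm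
      simp [h1, h10, h11, h16, h44, h45, h55, e1, e10, e11, e16, e44, e45, e55]
  · exact (Cfsg.Agent.Helper20.M11.case_II_false hG B.Λ1 ψ ψ' (by rw [B.hd1, hd5]) hne h12
      h12').elim

end Cfsg.Agent.S4429
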