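import Cfsg.Statements.S4430
import Cfsg.Agent.Helper16.BlockPart
import Cfsg.Agent.Helper15.ConjChar
-- import your own Cfsg.Agent.* helpers here

set_option autoImplicit false
open Cfsg

namespace Cfsg.Agent.S4430

open Cfsg.Agent.Helper16 in
/-- Let H be a subgroup of the finite group G, b a block of H whose induced block B₀ in G is defined (relative to a maximal ideal M of the algebraic integers containing p), and ξ ∈ b. For a block B of G let n_B be the value at 1 of the B-part of the induced character ξ^G (a natural number: the sum over χ ∈ B of the multiplicity of χ in ξ^G times χ(1)). Then for B = B₀ the exact power of p dividing n_B equals the exact power of p dividing ξ^G(1), while for every other block B either n_B = 0 or n_B is divisible by a strictly higher power of p than ξ^G(1). -/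
theorem result {G : Type*} [Group G] [Fintype G] (p : ℕ) [Fact p.Prime] (M : Ideal Cfsg.AlgInt) (hM : Cfsg.IsPModular p M) (H : Subgroup G) [Fintype H] (b : Set (Cfsg.IrrCharacter H)) (B₀ : Set (Cfsg.IrrCharacter G)) (hind : Cfsg.IsInducedBlock M H b B₀) (ξ : Cfsg.IrrCharacter H) (hξ : ξ ∈ b) : (∃ n : ℕ, Cfsg.blockPart B₀ (Cfsg.indFun H (ξ : H → ℂ)) 1 = (n : ℂ) ∧ n ≠ 0 ∧ n.factorization p = (Cfsg.charDegree (Cfsg.indFun H (ξ : H → ℂ))).factorization p) ∧ ∀ B : Set (Cfsg.IrrCharacter G), Cfsg.IsPBlock M B → B ≠ B₀ → ∃ n : ℕ, Cfsg.blockPart B (Cfsg.indFun H (ξ : H → ℂ)) 1 = (n : ℂ) ∧ (n = 0 ∨ (Cfsg.charDegree (Cfsg.indFun H (ξ : H → ℂ))).factorization p < n.factorization p) := by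
  classical
  haveI hMp : M.IsPrime := IsPModular.isPrime hM
  set η : G → ℂ := Cfsg.indFun H (ξ : H → ℂ) with hη
  have hηchar : IsCharacter G η := Helper15.isCharacter_indFun H (Helper74.irr_isCharacter ξ)
  have hdeg : ((charDegree η : ℕ) : ℂ) = η 1 := Helper74.charDegree_cast hηchar
  have hη1 : η 1 ≠ 0 := by
    rw [hη, Helper15.indFun_apply_one]
    refine mul_ne_zero ?_ (irr_one_ne_zero ξ)
    have : H.index ≠ 0 := Subgroup.index_ne_zero_of_finite
    exact_mod_cast this
  have hm0 : charDegree η ≠ 0 := by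
    intro h0
    apply hη1
    rw [← hdeg, h0, Nat.cast_zero]
  obtain ⟨χ₀, hχ₀⟩ := Helper78.isPBlock_nonempty hMp hind.2.1
  -- the general congruence
  have key : ∀ B : Set (IrrCharacter G), IsPBlock M B → ∀ n : ℕ, blockPart B η 1 = (n : ℂ) →
      MemLocalIdeal M ((n : ℂ) / (charDegree η : ℂ) - (if χ₀ ∈ B then (1 : ℂ) else 0)) := by
    intro B hB n hn
    have h1 := omega_indFun_blockCoeff_sub (M := M) H hind hξ hχ₀ hB
    have h2 : omega η (blockCoeff B) = (n : ℂ) / (charDegree η : ℂ) := by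
      rw [hdeg, ← hn, blockPart_one_eq_mul_omega B η hη1]
      field_simp
    rw [← h2]
    exact h1
  refine ⟨?_, ?_⟩
  · obtain ⟨n, hn⟩ := blockPart_one_nat B₀ hηchar
    have h := key B₀ hind.2.1 n hn
    rw [if_pos hχ₀] at h
    obtain ⟨hn0, hfac⟩ := factorization_eq_of_memLocalIdeal_div_sub_one hM hm0 h
    exact ⟨n, hn, hn0, hfac⟩
  · intro B hB hne
    obtain ⟨n, hn⟩ := blockPart_one_nat B hηchar
    have h := key B hB n hn
    have hnot : χ₀ ∉ B := fun hmem =>
      hne (Helper78.isPBlock_eq_of_mem_of_mem hMp hB hind.2.1 hmem hχ₀)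
    rw [if_neg hnot, sub_zero] at h
    exact ⟨n, hn, factorization_lt_of_memLocalIdeal_div hM hm0 h⟩

end Cfsg.Agent.S4430
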