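import Cfsg.Statements.S4433
import Cfsg.Agent.Helper16.QuotientDefect
import Cfsg.Agent.Helper16.UnionBlocks
import Cfsg.Agent.Helper78.FirstMain
import Cfsg.Agent.Helper78.BlockBasic
import Cfsg.Agent.Helper77.LocalRing
import Cfsg.Agent.S0911

set_option autoImplicit false
open Cfsg

namespace Cfsg.Agent.S4433

open Cfsg.Agent.Helper16 in
/-- Let N be a normal subgroup of the finite group G and write Ḡ = G/N; fix a maximal ideal M of the algebraic integers containing p. Let B̄ be a block of Ḡ contained in the block B of G, in the sense that the inflation of every member of B̄ lies in B, and let D̄ be a defect group of B̄. Then B has a defect group P whose image in Ḡ contains D̄. -/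
theorem result {G : Type*} [Group G] [Finite G] (p : ℕ) [Fact p.Prime] (M : Ideal Cfsg.AlgInt) (hM : Cfsg.IsPModular p M) (N : Subgroup G) [N.Normal] (Bbar : Set (Cfsg.IrrCharacter (G ⧸ N))) (hBbar : Cfsg.IsPBlock M Bbar) (B : Set (Cfsg.IrrCharacter G)) (hB : Cfsg.IsPBlock M B) (hsub : ∀ χ ∈ Bbar, ∀ ψ : Cfsg.IrrCharacter G, (ψ : G → ℂ) = (χ : G ⧸ N → ℂ) ∘ QuotientGroup.mk → ψ ∈ B) (Dbar : Subgroup (G ⧸ N)) (hDbar : Cfsg.IsDefectGroup p M Bbar Dbar) : ∃ P : Subgroup G, Cfsg.IsDefectGroup p M B P ∧ Dbar ≤ P.map (QuotientGroup.mk' N) := by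
  classical
  haveI : Fintype G := Fintype.ofFinite G
  haveI : Fintype (G ⧸ N) := Fintype.ofFinite _
  haveI hMp : M.IsPrime := IsPModular.isPrime hM
  have hp : p.Prime := Fact.out
  -- a character of `B̄` and its inflation
  obtain ⟨χbar, hχbar⟩ := Helper78.isPBlock_nonempty hMp hBbar
  have hψB : inflate N χbar ∈ B := hsub χbar hχbar (inflate N χbar) (inflate_coe N χbar)
  -- a class where both the idempotent coefficient and the central character are units
  have hom := omega_eq_sum_classes ((inflate N χbar : IrrCharacter G) : G → ℂ) (blockCoeff B)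
    (irr_isClassFunction _) (isClassFunction_blockCoeff B)
  rw [omega_blockCoeff, if_pos hψB] at hom
  obtain ⟨C, hC⟩ : ∃ C : ConjClasses G, ¬ MemLocalIdeal M (blockCoeff B (classRep C) *
      centralChar ((inflate N χbar : IrrCharacter G) : G → ℂ) (classRep C)) := by
    by_contra hcon
    push_neg at hcon
    apply not_memLocalIdeal_one (M := M)
    rw [hom]
    exact memLocalIdeal_sum _ _ (fun C _ => hcon C)
  set x := classRep C with hx
  have hx1 : ¬ MemLocalIdeal M (blockCoeff B x) := fun h =>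
    hC (memLocalIdeal_mul_right h (memLocalRing_of_isIntegral (irr_isIntegral_centralChar _ _)))
  have hx2 : ¬ MemLocalIdeal M (centralChar ((inflate N χbar : IrrCharacter G) : G → ℂ) x) :=
    fun h => hC (memLocalIdeal_mul_left (osima hB x) h)
  -- split the central character of the inflation
  rw [inflate_coe, centralChar_comp_mk] at hx2
  have hrel : ¬ p ∣ (Subgroup.centralizer ({x} : Set G)).relIndex
      ((Subgroup.centralizer ({(QuotientGroup.mk x : G ⧸ N)} : Set (G ⧸ N))).comap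
        (QuotientGroup.mk' N)) := by
    intro hdvd
    apply hx2
    exact memLocalIdeal_mul_right ((Helper77.memLocalIdeal_natCast_iff hM _).mpr hdvd)
      (memLocalRing_of_isIntegral (irr_isIntegral_centralChar χbar _))
  have hx3 : ¬ MemLocalIdeal M (centralChar (χbar : G ⧸ N → ℂ) (QuotientGroup.mk x)) := by
    intro h
    apply hx2
    refine memLocalIdeal_mul_left ?_ h
    exact Helper16.memLocalRing_natCast _
  -- the defect group of `B` and min-max (a)
  obtain ⟨χ₀, rfl⟩ := hB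
  obtain ⟨g₀, hg₀⟩ := exists_defectClass (M := M) χ₀
  obtain ⟨D₀⟩ : Nonempty (Sylow p (Subgroup.centralizer ({g₀} : Set G))) := inferInstance
  obtain ⟨w, Q, hQ⟩ := (Cfsg.Agent.S0911.result p M hM _ ⟨χ₀, rfl⟩ g₀ hg₀ D₀ x).1
    (osima ⟨χ₀, rfl⟩ x) hx1
  have hP₁ : IsDefectGroup p M (blockOf M (χ₀ : G → ℂ))
      (((D₀ : Subgroup (Subgroup.centralizer ({g₀} : Set G))).map
        (Subgroup.centralizer ({g₀} : Set G)).subtype).map (MulAut.conj w).toMonoidHom) :=
    Helper78.isDefectGroup_map_conj χ₀ ⟨g₀, hg₀, D₀, rfl⟩ w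
  -- min-max (b) in the quotient
  obtain ⟨gbar, hgbar, Pbar, rfl⟩ := hDbar
  obtain ⟨ybar, Qbar, hQbar⟩ := (Cfsg.Agent.S0911.result p M hM Bbar hBbar gbar hgbar Pbar
    (QuotientGroup.mk x)).2 ⟨χbar, hχbar, hx3⟩
  -- the image of `Q` is a Sylow subgroup of the centralizer of the image of `x`
  obtain ⟨hSle, hScard⟩ := card_map_mk_sylow_centralizer N x Q hrel
  have hQbarcard := ((sylowIn_iff p (Subgroup.centralizer
    ({(QuotientGroup.mk x : G ⧸ N)} : Set (G ⧸ N))) _).mp ⟨Qbar, rfl⟩)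
  obtain ⟨t, ht, htconj⟩ := exists_conj_of_card p _ _ _ hSle hQbarcard.1 hScard hQbarcard.2
  -- lift `(t * ybar)⁻¹`
  obtain ⟨z, hz⟩ := QuotientGroup.mk_surjective (t * ybar)⁻¹
  refine ⟨_, Helper78.isDefectGroup_map_conj χ₀ hP₁ z, ?_⟩
  intro d hd
  -- `t * ybar * d * (t * ybar)⁻¹` lies in the image of `Q`
  have h1 : ybar * d * ybar⁻¹ ∈ ((Qbar : Subgroup _).map (Subgroup.centralizer
      ({(QuotientGroup.mk x : G ⧸ N)} : Set (G ⧸ N))).subtype) := by
    apply hQbar
    exact ⟨d, hd, rfl⟩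
  have h2 : t * (ybar * d * ybar⁻¹) * t⁻¹ ∈
      ((Q : Subgroup (Subgroup.centralizer ({x} : Set G))).map
        (Subgroup.centralizer ({x} : Set G)).subtype).map (QuotientGroup.mk' N) := by
    rw [← htconj]
    exact ⟨_, h1, rfl⟩
  obtain ⟨q, hq, hqeq⟩ := h2
  have hqP : q ∈ ((D₀ : Subgroup (Subgroup.centralizer ({g₀} : Set G))).map
      (Subgroup.centralizer ({g₀} : Set G)).subtype).map (MulAut.conj w).toMonoidHom := hQ hq
  refine ⟨z * q * z⁻¹, ⟨q, hqP, rfl⟩, ?_⟩
  show (QuotientGroup.mk (z * q * z⁻¹) : G ⧸ N) = d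
  rw [QuotientGroup.mk_mul, QuotientGroup.mk_mul, QuotientGroup.mk_inv, hz]
  have hqeq' : (QuotientGroup.mk q : G ⧸ N) = t * (ybar * d * ybar⁻¹) * t⁻¹ := hqeq
  rw [hqeq']
  group

end Cfsg.Agent.S4433
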