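import Cfsg.Statements.S4434
import Cfsg.Agent.Helper16.QuotientDefect2
import Cfsg.Agent.S4433
import Cfsg.Agent.S0941
import Cfsg.Agent.S0912
import Cfsg.Agent.Lib.Cores
import Cfsg.Agent.Helper77.BlockOrth

set_option autoImplicit false
open Cfsg

namespace Cfsg.Agent.S4434

open Cfsg.Agent.Helper16

/-- The order of the image of a subgroup containing `N` in `G ⧸ N`. -/
theorem card_map_mk_mul_card {G : Type*} [Group G] [Finite G] (N : Subgroup G) [N.Normal]
    {P : Subgroup G} (hNP : N ≤ P) :
    Nat.card (P.map (QuotientGroup.mk' N)) * Nat.card N = Nat.card P := by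
  have h1 : (P.map (QuotientGroup.mk' N)).index = P.index := by
    rw [← Subgroup.index_comap_of_surjective _ (QuotientGroup.mk'_surjective N),
      Subgroup.comap_map_eq, QuotientGroup.ker_mk', sup_eq_left.mpr hNP]
  have h2 := Subgroup.card_mul_index (P.map (QuotientGroup.mk' N))
  have h3 := Subgroup.card_mul_index P
  have h4 := Subgroup.card_eq_card_quotient_mul_card_subgroup N
  have hidx : P.index ≠ 0 := Subgroup.index_ne_zero_of_finite
  rw [h1] at h2
  have : Nat.card (P.map (QuotientGroup.mk' N)) * Nat.card N * P.index =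
      Nat.card P * P.index := by
    rw [h3, h4, ← h2]; ring
  exact Nat.eq_of_mul_eq_mul_right (Nat.pos_of_ne_zero hidx) this

/-- Conjugation commutes with the quotient map. -/
theorem map_conj_map_mk {G : Type*} [Group G] (N : Subgroup G) [N.Normal] (P : Subgroup G)
    (g : G) :
    (P.map (MulAut.conj g).toMonoidHom).map (QuotientGroup.mk' N) =
      (P.map (QuotientGroup.mk' N)).map
        (MulAut.conj ((QuotientGroup.mk g : G ⧸ N))).toMonoidHom := by
  rw [Subgroup.map_map, Subgroup.map_map]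
  congr 1

/-- Let N be a normal p-subgroup of the finite group G and write Ḡ = G/N; fix a maximal ideal M of the algebraic integers containing p. Then every block B of G contains a block B̄ of Ḡ (the inflation of every member of B̄ lies in B) whose defect groups are exactly the images in Ḡ of the defect groups of B. -/
theorem result {G : Type*} [Group G] [Finite G] (p : ℕ) [Fact p.Prime] (M : Ideal Cfsg.AlgInt) (hM : Cfsg.IsPModular p M) (N : Subgroup G) [N.Normal] (hN : IsPGroup p N) (B : Set (Cfsg.IrrCharacter G)) (hB : Cfsg.IsPBlock M B) : ∃ Bbar : Set (Cfsg.IrrCharacter (G ⧸ N)), Cfsg.IsPBlock M Bbar ∧ (∀ χ ∈ Bbar, ∀ ψ : Cfsg.IrrCharacter G, (ψ : G → ℂ) = (χ : G ⧸ N → ℂ) ∘ QuotientGroup.mk → ψ ∈ B) ∧ ∀ Dbar : Subgroup (G ⧸ N), Cfsg.IsDefectGroup p M Bbar Dbar ↔ ∃ P : Subgroup G, Cfsg.IsDefectGroup p M B P ∧ Dbar = P.map (QuotientGroup.mk' N) := by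
  classical
  haveI : Fintype G := Fintype.ofFinite G
  haveI : Fintype (G ⧸ N) := Fintype.ofFinite _
  haveI hMp : M.IsPrime := IsPModular.isPrime hM
  have hp : p.Prime := Fact.out
  -- every defect group of `B` contains `N`
  have hNle : ∀ P : Subgroup G, IsDefectGroup p M B P → N ≤ P := fun P hP =>
    (Cfsg.Agent.Lib.le_pCore inferInstance hN).trans (Cfsg.Agent.S0912.result p M hM B hB P hP)
  -- a defect class of `B`
  obtain ⟨χ₀, hχ₀⟩ := hB
  obtain ⟨x, hx⟩ := exists_defectClass (M := M) χ₀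
  rw [← hχ₀] at hx
  have hB : IsPBlock M B := ⟨χ₀, hχ₀⟩
  obtain ⟨D₀⟩ : Nonempty (Sylow p (Subgroup.centralizer ({x} : Set G))) := inferInstance
  have hD : IsDefectGroup p M B ((D₀ : Subgroup _).map
      (Subgroup.centralizer ({x} : Set G)).subtype) := ⟨x, hx, D₀, rfl⟩
  have hND := hNle _ hD
  have hxN : x ∈ Subgroup.centralizer (N : Set G) := by
    rw [Subgroup.mem_centralizer_iff]
    intro n hn
    have h1 : n ∈ Subgroup.centralizer ({x} : Set G) := Subgroup.map_subtype_le _ (hND hn)
    rw [Subgroup.mem_centralizer_singleton_iff] at h1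
    exact h1
  have hxreg : ¬ p ∣ orderOf x := fun h => hx.2.1 (by
    rw [Helper77.blockCoeff_eq_zero_of_dvd_orderOf hM hB x h]; exact memLocalIdeal_zero)
  -- the push-forward at the image of `x`
  have hpush : pushQ N (blockCoeff B) (QuotientGroup.mk x) = blockCoeff B x := by
    unfold pushQ
    rw [Finset.sum_eq_single x]
    · rw [if_pos rfl]
    · intro g _ hgx
      by_cases hmk : (QuotientGroup.mk g : G ⧸ N) = QuotientGroup.mk x
      · rw [if_pos hmk]
        have hn : x⁻¹ * g ∈ N := QuotientGroup.eq.mp hmk.symm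
        have hn1 : x⁻¹ * g ≠ 1 := by
          intro h1
          apply hgx
          have : g = x * (x⁻¹ * g) := by group
          rw [this, h1, mul_one]
        have hcomm : (x⁻¹ * g) * x = x * (x⁻¹ * g) :=
          (Subgroup.mem_centralizer_iff.mp hxN) _ hn
        have hdvd := Helper77.dvd_orderOf_mul_of_isPGroup hN hn hn1 hcomm hxreg
        have hg : g = (x⁻¹ * g) * x := by rw [hcomm]; group
        rw [hg]
        exact Helper77.blockCoeff_eq_zero_of_dvd_orderOf hM hB _ hdvd
      · rw [if_neg hmk]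
    · intro h; exact absurd (Finset.mem_univ _) h
  -- decomposition into blocks of the quotient
  have hSclosed : ∀ χ ∈ {χ : IrrCharacter (G ⧸ N) | inflate N χ ∈ B},
      ∀ ψ : IrrCharacter (G ⧸ N), SameBlock M (χ : G ⧸ N → ℂ) (ψ : G ⧸ N → ℂ) →
        ψ ∈ {χ : IrrCharacter (G ⧸ N) | inflate N χ ∈ B} := by
    intro χ hχ ψ hψ
    have h1 : inflate N χ ∈ blockOf M (χ₀ : G → ℂ) := by rw [← hχ₀]; exact hχ
    have h2 := sameBlock_comp_mk N hψ
    show inflate N ψ ∈ B
    rw [hχ₀]
    exact sameBlock_trans h1 h2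
  have hsum := congrFun (blockCoeff_eq_sum_blocks (M := M) _ hSclosed) (QuotientGroup.mk x)
  rw [← pushQ_blockCoeff, hpush, Finset.sum_apply] at hsum
  obtain ⟨b, hbmem, hbx⟩ : ∃ b ∈ (Helper77.blocksFinset M (G ⧸ N)).filter
      (fun b => b ⊆ {χ : IrrCharacter (G ⧸ N) | inflate N χ ∈ B}),
      ¬ MemLocalIdeal M (blockCoeff b (QuotientGroup.mk x)) := by
    by_contra hcon
    push_neg at hcon
    apply hx.2.1
    rw [hsum]
    exact memLocalIdeal_sum _ _ hcon
  rw [Finset.mem_filter, Helper77.mem_blocksFinset] at hbmem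
  obtain ⟨hb, hbS⟩ := hbmem
  have hsub : ∀ χ ∈ b, ∀ ψ : IrrCharacter G,
      (ψ : G → ℂ) = (χ : G ⧸ N → ℂ) ∘ QuotientGroup.mk → ψ ∈ B := by
    intro χ hχ ψ hψ
    have h1 : inflate N χ ∈ B := hbS hχ
    have h2 : ψ = inflate N χ := Subtype.ext (by rw [hψ, inflate_coe])
    rw [h2]; exact h1
  -- the class sizes of `x` and its image agree
  have hrel : ¬ p ∣ (Subgroup.centralizer ({x} : Set G)).relIndex
      ((Subgroup.centralizer ({(QuotientGroup.mk x : G ⧸ N)} : Set (G ⧸ N))).comap
        (QuotientGroup.mk' N)) := by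
    have h1 := Subgroup.relIndex_mul_index (centralizer_le_comap_centralizer_mk N x)
    rw [Subgroup.index_comap_of_surjective _ (QuotientGroup.mk'_surjective N),
      Cfsg.Agent.S0941.index_centralizer_mk p N hN x hxN hxreg] at h1
    have hidx : (Subgroup.centralizer ({x} : Set G)).index ≠ 0 := Subgroup.index_ne_zero_of_finite
    have h2 : (Subgroup.centralizer ({x} : Set G)).relIndex
        ((Subgroup.centralizer ({(QuotientGroup.mk x : G ⧸ N)} : Set (G ⧸ N))).comap
          (QuotientGroup.mk' N)) = 1 := by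
      have : (Subgroup.centralizer ({x} : Set G)).relIndex
          ((Subgroup.centralizer ({(QuotientGroup.mk x : G ⧸ N)} : Set (G ⧸ N))).comap
            (QuotientGroup.mk' N)) * (Subgroup.centralizer ({x} : Set G)).index =
          1 * (Subgroup.centralizer ({x} : Set G)).index := by rw [h1, one_mul]
      exact Nat.eq_of_mul_eq_mul_right (Nat.pos_of_ne_zero hidx) this
    rw [h2]
    exact hp.not_dvd_one
  obtain ⟨-, hScard⟩ := card_map_mk_sylow_centralizer N x D₀ hrel
  -- forward direction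
  have fwd : ∀ Dbar : Subgroup (G ⧸ N), IsDefectGroup p M b Dbar →
      ∃ P : Subgroup G, IsDefectGroup p M B P ∧ Dbar = P.map (QuotientGroup.mk' N) := by
    intro Dbar hDbar
    obtain ⟨P', hP', hle⟩ := Cfsg.Agent.S4433.result p M hM N b hb B hB hsub Dbar hDbar
    refine ⟨P', hP', ?_⟩
    obtain ⟨gbar, hgbar, Pbar, rfl⟩ := hDbar
    obtain ⟨ybar, Qbar, hQbar⟩ := (Cfsg.Agent.S0911.result p M hM b hb gbar hgbar Pbar
      (QuotientGroup.mk x)).1 (osima hb _) hbx
    have hQbarcard := ((sylowIn_iff p (Subgroup.centralizer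
      ({(QuotientGroup.mk x : G ⧸ N)} : Set (G ⧸ N))) _).mp ⟨Qbar, rfl⟩).2
    have h1 : Nat.card ((Qbar : Subgroup _).map (Subgroup.centralizer
        ({(QuotientGroup.mk x : G ⧸ N)} : Set (G ⧸ N))).subtype) ≤
        Nat.card ((Pbar : Subgroup _).map (Subgroup.centralizer ({gbar} : Set (G ⧸ N))).subtype) := by
      have h0 := Subgroup.card_le_of_le hQbar
      have e : Nat.card (((Pbar : Subgroup _).map
          (Subgroup.centralizer ({gbar} : Set (G ⧸ N))).subtype).map
          (MulAut.conj ybar).toMonoidHom) = Nat.card ((Pbar : Subgroup _).map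
          (Subgroup.centralizer ({gbar} : Set (G ⧸ N))).subtype) :=
        Subgroup.card_map_of_injective (MulAut.conj ybar).injective
      rwa [e] at h0
    rw [hQbarcard, ← hScard] at h1
    -- compare cardinalities of images
    have c1 := card_map_mk_mul_card N (hNle _ hP')
    have c2 := card_map_mk_mul_card N hND
    have c3 : Nat.card P' = Nat.card ((D₀ : Subgroup _).map
        (Subgroup.centralizer ({x} : Set G)).subtype) := by
      rw [Helper77.card_defectGroup hM hB _ hP', Helper77.card_defectGroup hM hB _ hD]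
    have hNpos : 0 < Nat.card N := Nat.card_pos
    have c4 : Nat.card (P'.map (QuotientGroup.mk' N)) =
        Nat.card (((D₀ : Subgroup _).map (Subgroup.centralizer ({x} : Set G)).subtype).map
          (QuotientGroup.mk' N)) := by
      apply Nat.eq_of_mul_eq_mul_right hNpos
      rw [c1, c2, c3]
    exact Subgroup.eq_of_le_of_card_ge hle (by rw [c4]; exact h1)
  refine ⟨b, hb, hsub, fun Dbar => ⟨fwd Dbar, ?_⟩⟩
  -- backward direction
  rintro ⟨P, hP, rfl⟩
  obtain ⟨χ₁, rfl⟩ := hb
  obtain ⟨D₁, hD₁⟩ := exists_defectGroup (M := M) p χ₁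
  obtain ⟨P', hP', rfl⟩ := fwd D₁ hD₁
  obtain ⟨g, rfl⟩ := exists_conj_eq_of_isDefectGroup hM hB hP' hP
  rw [map_conj_map_mk]
  exact Helper78.isDefectGroup_map_conj χ₁ hD₁ _

end Cfsg.Agent.S4434
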