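import Cfsg.Statements.S4445
import Cfsg.Agent.Helper81.GlaubSolv
import Cfsg.Agent.Helper81.GlaubP5

set_option autoImplicit false
open Cfsg

namespace Cfsg.Agent.S4445

/-- Inside a finite group Γ let the solvable subgroup S normalise G with the orders of G and S coprime. Then the number of S-invariant irreducible characters of G (χ(s g s⁻¹) = χ(g) for all s ∈ S, g ∈ G) equals the number of conjugacy classes of G mapped to themselves by conjugation by every element of S. -/
theorem result {Γ : Type*} [Group Γ] [Fintype Γ] (G S : Subgroup Γ) [Fintype G] (hnorm : ∀ s ∈ S, ∀ g ∈ G, s * g * s⁻¹ ∈ G) (hcop : (Nat.card G).Coprime (Nat.card S)) (hsolv : Group.IsSolvable S) : Nat.card {χ : Cfsg.IrrCharacter G // (∀ s ∈ S, ∀ g g' : G, (g' : Γ) = s * g * s⁻¹ → (χ : G → ℂ) g' = (χ : G → ℂ) g)} = Nat.card {K : ConjClasses G // ∀ s ∈ S, ∀ g g' : G, (g' : Γ) = s * g * s⁻¹ → ConjClasses.mk g = K → ConjClasses.mk g' = K} := by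
  classical
  let _ := Helper81.conjMulDistribMulAction G S hnorm
  have h := Helper81.card_invIrr_eq_card_invCls S G hsolv hcop
  have e1 : {χ : Cfsg.IrrCharacter G // (∀ s ∈ S, ∀ g g' : G, (g' : Γ) = s * g * s⁻¹ →
      (χ : G → ℂ) g' = (χ : G → ℂ) g)} ≃ Helper81.InvIrr S G :=
    Equiv.subtypeEquivRight (fun χ => Helper81.invariant_iff G S hnorm _)
  have e2 : {K : ConjClasses G // ∀ s ∈ S, ∀ g g' : G, (g' : Γ) = s * g * s⁻¹ →
      ConjClasses.mk g = K → ConjClasses.mk g' = K} ≃ Helper81.InvCls S G :=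
    Equiv.subtypeEquivRight (fun K => by
      constructor
      · intro h s g hg
        exact h s s.2 g (s • g) rfl hg
      · intro h s hs g g' hg' hg
        have := h ⟨s, hs⟩ g hg
        have e : (⟨s, hs⟩ : S) • g = g' := Subtype.ext hg'.symm
        rwa [e] at this)
  rw [Nat.card_congr e1, Nat.card_congr e2, h]

end Cfsg.Agent.S4445
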