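import Cfsg.Statements.S4446
import Cfsg.Agent.Helper82.CyclicGlaubSetup

set_option autoImplicit false
open Cfsg

namespace Cfsg.Agent.S4446

open Cfsg.Agent.Helper82 in
/-- Uniqueness of the pair `(β, ε)`. -/
theorem pair_unique {C : Type*} [Group C] [Fintype C] (β β' : Cfsg.IrrCharacter C) (ε ε' : ℤ)
    (hε : ε = 1 ∨ ε = -1)
    (h : ∀ c : C, (ε' : ℂ) * (β' : C → ℂ) c = (ε : ℂ) * (β : C → ℂ) c) : β' = β ∧ ε' = ε := by
  classical
  have hfun : (ε' : ℂ) • (β' : C → ℂ) = (ε : ℂ) • (β : C → ℂ) := by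
    funext c; exact h c
  have h1 := congrArg (fun f => Cfsg.classInner f (β : C → ℂ)) hfun
  simp only [Cfsg.Agent.Helper74.classInner_smul_left,
    Cfsg.Agent.Helper74.irr_inner_self, mul_one] at h1
  have hεne : (ε : ℂ) ≠ 0 := by
    rcases hε with rfl | rfl <;> norm_num
  have hββ' : β' = β := by
    by_contra hne
    rw [Cfsg.Agent.Helper74.irr_inner_ne hne, mul_zero] at h1
    exact hεne h1.symm
  refine ⟨hββ', ?_⟩
  rw [hββ', Cfsg.Agent.Helper74.irr_inner_self, mul_one] at h1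
  exact_mod_cast h1

open Cfsg.Agent.Helper82 in
/-- Let the finite group Γ be generated by a normal subgroup G and a cyclic subgroup S of coprime orders, C = G ⊓ C(S), and let χ be an S-invariant irreducible character of G with canonical extension χ̂ to Γ (the extension whose determinantal order is coprime to the order of S). Then there are exactly one irreducible character β of C and one sign ε such that χ̂(c s) = ε β(c) for every c ∈ C and every generator s of S; this β is a constituent of the restriction of χ to C; distinct S-invariant χ give distinct β; and every irreducible character of C arises in this way. -/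
theorem result {Γ : Type*} [Group Γ] [Fintype Γ] (G S : Subgroup Γ) [Fintype G] (hnorm : ∀ s ∈ S, ∀ g ∈ G, s * g * s⁻¹ ∈ G) (hcop : (Nat.card G).Coprime (Nat.card S)) (htop : G ⊔ S = ⊤) (hcyc : IsCyclic S) (C : Subgroup Γ) [Fintype C] (hC : C = G ⊓ Subgroup.centralizer (S : Set Γ)) (hCG : C ≤ G) : (∀ (χ : Cfsg.IrrCharacter G) (χh : Cfsg.IrrCharacter Γ), (∀ s ∈ S, ∀ g g' : G, (g' : Γ) = s * g * s⁻¹ → (χ : G → ℂ) g' = (χ : G → ℂ) g) → (∀ g : G, (χh : Γ → ℂ) g = (χ : G → ℂ) g) → (Cfsg.detOrder (χh : Γ → ℂ)).Coprime (Nat.card S) → (∃! βε : Cfsg.IrrCharacter C × ℤ, (βε.2 = 1 ∨ βε.2 = -1) ∧ ∀ c : C, ∀ s : Γ, Subgroup.zpowers s = S → (χh : Γ → ℂ) ((c : Γ) * s) = (βε.2 : ℂ) * (βε.1 : C → ℂ) c) ∧ ∀ β : Cfsg.IrrCharacter C, ∀ ε : ℤ, (ε = 1 ∨ ε = -1) → (∀ c : C, ∀ s : Γ, Subgroup.zpowers s = S → (χh : Γ → ℂ) ((c : Γ) * s) = (ε : ℂ) * (β : C → ℂ) c) → Cfsg.classInner (fun c : C => (χ : G → ℂ) ⟨c,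 hCG c.2⟩) (β : C → ℂ) ≠ 0) ∧ (∀ (χ χ' : Cfsg.IrrCharacter G) (χh χh' : Cfsg.IrrCharacter Γ), (∀ s ∈ S, ∀ g g' : G, (g' : Γ) = s * g * s⁻¹ → (χ : G → ℂ) g' = (χ : G → ℂ) g) → (∀ s ∈ S, ∀ g g' : G, (g' : Γ) = s * g * s⁻¹ → (χ' : G → ℂ) g' = (χ' : G → ℂ) g) → (∀ g : G, (χh : Γ → ℂ) g = (χ : G → ℂ) g) → (∀ g : G, (χh' : Γ → ℂ) g = (χ' : G → ℂ) g) → (Cfsg.detOrder (χh : Γ → ℂ)).Coprime (Nat.card S) → (Cfsg.detOrder (χh' : Γ → ℂ)).Coprime (Nat.card S) → ∀ β : Cfsg.IrrCharacter C, ∀ ε ε' : ℤ, (ε = 1 ∨ ε = -1) → (ε' = 1 ∨ ε' = -1) → (∀ c : C, ∀ s : Γ, Subgroup.zpowers s = S → (χh : Γ → ℂ) ((c : Γ) * s) = (ε : ℂ) * (β : C → ℂ) c) → (∀ c : C, ∀ s : Γ, Subgroup.zpowers s = S → (χh' : Γ → ℂ) ((c : Γ) * s) = (ε' : ℂ) * (β : C → ℂ) c) → χ = χ') ∧ (∀ β : Cfsg.IrrCharacter C, ∃ (χ : Cfsg.IrrCharacter G) (χh : Cfsg.IrrCharacter Γ) (ε : ℤ), (∀ s ∈ S, ∀ g g' : G, (g' : Γ) = s * g * s⁻¹ → (χ : G → ℂ) g' =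 (χ : G → ℂ) g) ∧ (∀ g : G, (χh : Γ → ℂ) g = (χ : G → ℂ) g) ∧ (Cfsg.detOrder (χh : Γ → ℂ)).Coprime (Nat.card S) ∧ (ε = 1 ∨ ε = -1) ∧ ∀ c : C, ∀ s : Γ, Subgroup.zpowers s = S → (χh : Γ → ℂ) ((c : Γ) * s) = (ε : ℂ) * (β : C → ℂ) c) := by
  classical
  haveI hGn : G.Normal := normal_of_normalizes_of_sup_eq_top G S hnorm htop
  have hidxS : G.index = Nat.card S := index_eq_card_of_coprime G S hcop htop
  have hab := quotient_comm_of_sup_cyclic G S htop hcyc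
  -- a generator `s₀` of `S`
  obtain ⟨⟨s₀, hs₀S⟩, hs₀gen⟩ := hcyc.exists_generator
  have hz₀ : Subgroup.zpowers s₀ = S := by
    apply le_antisymm
    · rw [Subgroup.zpowers_le]; exact hs₀S
    · intro t ht
      have := hs₀gen ⟨t, ht⟩
      obtain ⟨j, hj⟩ := Subgroup.mem_zpowers_iff.mp this
      rw [Subgroup.mem_zpowers_iff]
      exact ⟨j, by
        have := congrArg Subtype.val hj
        simpa using this⟩
  have ho₀ : orderOf s₀ = Nat.card S := by rw [← Nat.card_zpowers, hz₀]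
  have hC₀ : ∀ x : Γ, x ∈ C ↔ x ∈ G ∧ x * s₀ = s₀ * x := by
    intro x
    rw [hC, ← hz₀]
    exact mem_inf_centralizer_zpowers_iff G s₀ x
  have hcop₀ : (orderOf s₀).Coprime (Nat.card G) := by rw [ho₀]; exact hcop.symm
  have hidx₀ : G.index = orderOf s₀ := by rw [ho₀]; exact hidxS
  have hcopidx : Nat.Coprime G.index (Nat.card G) := by rw [hidxS]; exact hcop.symm
  have htop₀ : G ⊔ Subgroup.zpowers s₀ = ⊤ := by rw [hz₀]; exact htop
  -- canonical data from the hypotheses of the statement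
  have mkCan : ∀ (χ : Cfsg.IrrCharacter G) (χh : Cfsg.IrrCharacter Γ),
      (∀ s ∈ S, ∀ g g' : G, (g' : Γ) = s * g * s⁻¹ → (χ : G → ℂ) g' = (χ : G → ℂ) g) →
      (∀ g : G, (χh : Γ → ℂ) g = (χ : G → ℂ) g) →
      (Cfsg.detOrder (χh : Γ → ℂ)).Coprime (Nat.card S) →
      IsCanonicalExt G (χ : G → ℂ) (χh : Γ → ℂ) := by
    intro χ χh hS hext hdet
    exact ⟨χ.2, invariant_of_sup_eq_top G S htop (Cfsg.Agent.Helper79.irr_isClassFunction χ) hS,
      χh.2, hext, by rw [hidxS]; exact hdet.symm⟩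
  -- transfer from the generator `s₀` to all generators
  have transfer : ∀ {χ : G → ℂ} {χh : Γ → ℂ}, IsCanonicalExt G χ χh →
      ∀ (β : C → ℂ) (ε : ℤ), twRes C χh s₀ = (ε : ℂ) • β →
      ∀ c : C, ∀ s : Γ, Subgroup.zpowers s = S → χh ((c : Γ) * s) = (ε : ℂ) * β c := by
    intro χ χh hcan β ε hθ c s hs
    obtain ⟨k, hk, rfl⟩ := exists_coprime_pow_of_zpowers_eq (hs.trans hz₀.symm)
    have h1 := hcan.twRes_pow_eq s₀ C hC₀ hcop₀ hidx₀ k hk
    have h2 := congrFun h1 c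
    rw [twRes_apply, twRes_apply] at h2
    rw [h2]
    have h3 := congrFun hθ c
    rw [twRes_apply] at h3
    rw [h3]
    rfl
  refine ⟨?_, ?_, ?_⟩
  · -- part (A)
    intro χ χh hS hext hdet
    have hcan := mkCan χ χh hS hext hdet
    obtain ⟨β, ε, hε, hθ, hconst⟩ := hcan.exists_glauberman s₀ C hC₀ hcop₀ hidx₀ hab
    have hall := transfer hcan (β : C → ℂ) ε hθ
    have huniq : ∀ (β' : Cfsg.IrrCharacter C) (ε' : ℤ),
        (∀ c : C, ∀ s : Γ, Subgroup.zpowers s = S →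
          (χh : Γ → ℂ) ((c : Γ) * s) = (ε' : ℂ) * (β' : C → ℂ) c) → β' = β ∧ ε' = ε := by
      intro β' ε' h'
      apply pair_unique β β' ε ε' hε
      intro c
      rw [← h' c s₀ hz₀, ← hall c s₀ hz₀]
    refine ⟨⟨(β, ε), ⟨hε, hall⟩, ?_⟩, ?_⟩
    · rintro ⟨β', ε'⟩ ⟨_, h'⟩
      obtain ⟨h1, h2⟩ := huniq β' ε' h'
      exact Prod.ext h1 h2
    · intro β' ε' _ h'
      obtain ⟨h1, -⟩ := huniq β' ε' h'
      rw [h1]
      have : (fun c : C => (χ : G → ℂ) ⟨c, hCG c.2⟩) = fun c : C => (χh : Γ → ℂ) (c : Γ) := by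
        funext c
        exact (hext ⟨c, hCG c.2⟩).symm
      rw [this]
      exact hconst
  · -- part (B)
    intro χ χ' χh χh' hS hS' hext hext' hdet hdet' β ε ε' hε hε' hf hf'
    have hcan := mkCan χ χh hS hext hdet
    have hcan' := mkCan χ' χh' hS' hext' hdet'
    have ht : twRes C (χh : Γ → ℂ) s₀ = (ε : ℂ) • (β : C → ℂ) := by
      funext c; exact hf c s₀ hz₀
    have ht' : twRes C (χh' : Γ → ℂ) s₀ = (ε' : ℂ) • (β : C → ℂ) := by
      funext c; exact hf' c s₀ hz₀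
    exact Subtype.ext (hcan.eq_of_twRes s₀ C hcan' hC₀ hcop₀ hidx₀ hab β.2 hε hε' ht ht')
  · -- part (C)
    have hdata : ∀ θ : {θ : Cfsg.IrrCharacter G // irrConjPerm G s₀ θ = θ},
        ∃ (χh : Γ → ℂ) (β : Cfsg.IrrCharacter C) (ε : ℤ),
          IsCanonicalExt G (θ.1 : G → ℂ) χh ∧ (ε = 1 ∨ ε = -1) ∧
          twRes C χh s₀ = (ε : ℂ) • (β : C → ℂ) := by
      intro θ
      have hinv := invariant_of_irrConjPerm_eq G s₀ htop₀ θ.1 θ.2
      obtain ⟨χh, hcan⟩ := exists_isCanonicalExt G hcopidx θ.1.2 hinv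
      obtain ⟨β, ε, hε, hθ, -⟩ := hcan.exists_glauberman s₀ C hC₀ hcop₀ hidx₀ hab
      exact ⟨χh, β, ε, hcan, hε, hθ⟩
    choose Xh F E hcanF hEF hθF using hdata
    have hFinj : Function.Injective F := by
      intro θ θ' hFF
      have h1 := (hcanF θ).eq_of_twRes s₀ C (hcanF θ') hC₀ hcop₀ hidx₀ hab (F θ).2 (hEF θ)
        (hEF θ') (hθF θ) (by rw [hFF]; exact hθF θ')
      exact Subtype.ext (Subtype.ext h1)
    have hcard := card_fixed_irr_eq_card_irr G s₀ C hC₀ hcop₀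
    haveI : Finite (Cfsg.IrrCharacter C) := Cfsg.Agent.Helper79.irr_finite'
    have hFbij : Function.Bijective F :=
      hFinj.bijective_of_nat_card_le (le_of_eq hcard.symm)
    intro β
    obtain ⟨θ, rfl⟩ := hFbij.2 β
    refine ⟨θ.1, ⟨Xh θ, (hcanF θ).irrh⟩, E θ, ?_, (hcanF θ).ext, ?_, hEF θ, ?_⟩
    · intro s _ g g' hg'
      have : g' = ⟨s * (g : Γ) * s⁻¹, hGn.conj_mem (g : Γ) g.2 s⟩ := Subtype.ext hg'
      rw [this]
      exact (hcanF θ).inv s g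
    · have := (hcanF θ).det
      rw [hidxS] at this
      exact this.symm
    · exact transfer (hcanF θ) (F θ : C → ℂ) (E θ) (hθF θ)

end Cfsg.Agent.S4446
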