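import Cfsg.Statements.S4451
import Cfsg.Agent.Helper82.CyclicGlaubSetup
import Cfsg.Agent.Helper82.CyclicFrobRes

set_option autoImplicit false
open Cfsg

namespace Cfsg.Agent.S4451

open Cfsg.Agent.Helper82 in
/-- Let the finite group Γ be generated by a normal subgroup G and a cyclic subgroup S of coprime orders such that every non-identity element of S has the same centraliser C = G ⊓ C(S) in G. Let χ be an S-invariant irreducible character of G, χ̂ its canonical extension to Γ (determinantal order coprime to the order of S), and β the irreducible character of C with χ̂(c s) = ε₀ β(c) for c ∈ C and generators s of S (ε₀ = ±1). Then there are a sign ε = ±1, which may differ from ε₀, and a linear character μ of S with μ² = 1, such that: (a) χ̂(c x) = ε β(c) μ(x) for all c ∈ C and all x ∈ S other than 1; (b) the restriction of χ to C equals |S|·ϑ + ε β for some character ϑ of C or ϑ = 0; (c) |S| divides χ(1)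 − ε β(1). -/
theorem result {Γ : Type*} [Group Γ] [Fintype Γ] (G S : Subgroup Γ) [Fintype G] (hnorm : ∀ s ∈ S, ∀ g ∈ G, s * g * s⁻¹ ∈ G) (hcop : (Nat.card G).Coprime (Nat.card S)) (htop : G ⊔ S = ⊤) (hcyc : IsCyclic S) (C : Subgroup Γ) [Fintype C] (hC : C = G ⊓ Subgroup.centralizer (S : Set Γ)) (hCG : C ≤ G) (hfpf : ∀ x ∈ S, x ≠ 1 → G ⊓ Subgroup.centralizer ({x} : Set Γ) = C) (χ : Cfsg.IrrCharacter G) (hinv : (∀ s ∈ S, ∀ g g' : G, (g' : Γ) = s * g * s⁻¹ → (χ : G → ℂ) g' = (χ : G → ℂ) g)) (χh : Cfsg.IrrCharacter Γ) (hext : (∀ g : G, (χh : Γ → ℂ) g = (χ : G → ℂ) g)) (hdet : (Cfsg.detOrder (χh : Γ → ℂ)).Coprime (Nat.card S)) (β : Cfsg.IrrCharacter C) (ε₀ : ℤ) (hε₀ : ε₀ = 1 ∨ ε₀ = -1) (hβ : ∀ c : C, ∀ s : Γ, Subgroup.zpowers s = S → (χh : Γ → ℂ) ((c : Γ) * s) = (ε₀ : ℂ) * (β : C → ℂ) c) : ∃ ε : ℤ, (ε = 1 ∨ ε = -1) ∧ (∃ μ : S → ℂ, Cfsg.IsCharacter S μ ∧ μ 1 = 1 ∧ (∀ x : S, μ x * μ x = 1) ∧ ∀ c : C, ∀ x : S, x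 ≠ 1 → (χh : Γ → ℂ) ((c : Γ) * x) = (ε : ℂ) * (β : C → ℂ) c * μ x) ∧ (∃ ϑ : C → ℂ, Cfsg.IsCharacter C ϑ ∧ (fun c : C => (χ : G → ℂ) ⟨c, hCG c.2⟩) = fun c => (Nat.card S : ℂ) * ϑ c + (ε : ℂ) * (β : C → ℂ) c) ∧ (Nat.card S : ℤ) ∣ (Cfsg.charDegree (χ : G → ℂ) : ℤ) - ε * (Cfsg.charDegree (β : C → ℂ) : ℤ) := by
  classical
  haveI hGn : G.Normal := normal_of_normalizes_of_sup_eq_top G S hnorm htop
  have hidxS : G.index = Nat.card S := index_eq_card_of_coprime G S hcop htop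
  have hab := quotient_comm_of_sup_cyclic G S htop hcyc
  obtain ⟨⟨s₀, hs₀S⟩, hs₀gen⟩ := hcyc.exists_generator
  have hz₀ : Subgroup.zpowers s₀ = S := by
    apply le_antisymm
    · rw [Subgroup.zpowers_le]; exact hs₀S
    · intro t ht
      have := hs₀gen ⟨t, ht⟩
      obtain ⟨j, hj⟩ := Subgroup.mem_zpowers_iff.mp this
      rw [Subgroup.mem_zpowers_iff]
      exact ⟨j, by
        have := congrArg Subtype.val hj
        simpa using this⟩
  have ho₀ : orderOf s₀ = Nat.card S := by rw [← Nat.card_zpowers, hz₀]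
  have hcop₀ : (orderOf s₀).Coprime (Nat.card G) := by rw [ho₀]; exact hcop.symm
  have hcopidx : Nat.Coprime G.index (Nat.card G) := by rw [hidxS]; exact hcop.symm
  have hcan : IsCanonicalExt G (χ : G → ℂ) (χh : Γ → ℂ) :=
    ⟨χ.2, invariant_of_sup_eq_top G S htop (Cfsg.Agent.Helper79.irr_isClassFunction χ) hinv,
      χh.2, hext, by rw [hidxS]; exact hdet.symm⟩
  have hβ₀ : twRes C (χh : Γ → ℂ) s₀ = (ε₀ : ℂ) • (β : C → ℂ) := funext fun c => hβ c s₀ hz₀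
  have hχc := Cfsg.Agent.Helper74.irr_isCharacter χ
  have hβc := Cfsg.Agent.Helper74.irr_isCharacter β
  by_cases hs₀1 : s₀ = 1
  · -- `S` is trivial
    have hcard1 : Nat.card S = 1 := by rw [← ho₀, hs₀1, orderOf_one]
    have hSsub : ∀ x : S, x = 1 := by
      intro x
      have hx : (x : Γ) ∈ Subgroup.zpowers s₀ := by rw [hz₀]; exact x.2
      rw [hs₀1, Subgroup.zpowers_one_eq_bot] at hx
      exact Subtype.ext (Subgroup.mem_bot.mp hx)
    have hχβ : ∀ c : C, (χ : G → ℂ) ⟨c, hCG c.2⟩ = (ε₀ : ℂ) * (β : C → ℂ) c := by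
      intro c
      have := hβ c s₀ hz₀
      rw [hs₀1, mul_one] at this
      rw [← this]
      exact (hext ⟨c, hCG c.2⟩).symm
    refine ⟨ε₀, hε₀, ⟨fun _ => 1, Cfsg.Agent.Helper74.isCharacter_one, rfl, fun _ => by simp,
      fun c x hx => absurd (hSsub x) hx⟩, ⟨0, Cfsg.Agent.Helper74.isCharacter_zero, ?_⟩, ?_⟩
    · funext c
      rw [hχβ c]
      simp
    · rw [hcard1]
      exact one_dvd _
  · -- the main case
    have hCt : ∀ t ∈ Subgroup.zpowers s₀, t ≠ 1 →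
        ∀ y : Γ, y ∈ C ↔ y ∈ G ∧ y * t = t * y := by
      intro t ht ht1 y
      rw [hz₀] at ht
      rw [← hfpf t ht ht1, Subgroup.mem_inf, Subgroup.mem_centralizer_iff]
      constructor
      · rintro ⟨h1, h2⟩
        exact ⟨h1, (h2 t rfl).symm⟩
      · rintro ⟨h1, h2⟩
        exact ⟨h1, fun h hh => by rw [Set.mem_singleton_iff.mp hh]; exact h2.symm⟩
    obtain ⟨ε, μ, hε, hμsq, htw, ϑ, hϑ, hres⟩ :=
      hcan.frobenius_cyclic s₀ C hab hcopidx hcop₀ hs₀1 hCt β ε₀ hε₀ hβ₀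
    subst hz₀
    have hZcomm : ∀ a b : Subgroup.zpowers s₀, a * b = b * a := by
      intro a b
      obtain ⟨i, hi⟩ := Subgroup.mem_zpowers_iff.mp a.2
      obtain ⟨j, hj⟩ := Subgroup.mem_zpowers_iff.mp b.2
      apply Subtype.ext
      show (a : Γ) * (b : Γ) = (b : Γ) * (a : Γ)
      rw [← hi, ← hj, ← zpow_add, ← zpow_add, add_comm]
    have hresχ : ∀ c : C, (χ : G → ℂ) ⟨c, hCG c.2⟩ =
        (Nat.card (Subgroup.zpowers s₀) : ℂ) * ϑ c + (ε : ℂ) * (β : C → ℂ) c := by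
      intro c
      rw [← hext ⟨c, hCG c.2⟩]
      exact congrFun hres c
    refine ⟨ε, hε, ⟨(μ : Subgroup.zpowers s₀ → ℂ), Cfsg.Agent.Helper74.irr_isCharacter μ,
      Cfsg.Agent.Helper15.irr_one_eq_one_of_comm hZcomm μ.2, hμsq, ?_⟩, ⟨ϑ, hϑ, ?_⟩, ?_⟩
    · intro c x hx
      have h1 := congrFun (htw x hx) c
      rw [twRes_apply] at h1
      rw [h1]
      simp only [Pi.smul_apply, smul_eq_mul]
      ring
    · funext c
      exact hresχ c
    · have h1 := hresχ 1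
      have e1 : (⟨((1 : C) : Γ), hCG (1 : C).2⟩ : G) = 1 := rfl
      rw [e1, ← Cfsg.Agent.Helper80.IsCharacter.charDegree_cast hχc,
        ← Cfsg.Agent.Helper80.IsCharacter.charDegree_cast hβc,
        ← Cfsg.Agent.Helper80.IsCharacter.charDegree_cast hϑ] at h1
      refine ⟨(Cfsg.charDegree ϑ : ℤ), ?_⟩
      have h2 : ((Cfsg.charDegree (χ : G → ℂ) : ℤ) : ℂ) =
          ((Nat.card (Subgroup.zpowers s₀) : ℤ) * (Cfsg.charDegree ϑ : ℤ) +
            ε * (Cfsg.charDegree (β : C → ℂ) : ℤ) : ℤ) := by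
        push_cast
        exact h1
      have h3 : (Cfsg.charDegree (χ : G → ℂ) : ℤ) =
          (Nat.card (Subgroup.zpowers s₀) : ℤ) * (Cfsg.charDegree ϑ : ℤ) +
            ε * (Cfsg.charDegree (β : C → ℂ) : ℤ) := by exact_mod_cast h2
      rw [h3]
      ring

end Cfsg.Agent.S4451
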