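import Cfsg.Statements.S4452
import Cfsg.Agent.Helper81.CoprimeDeg4
import Cfsg.Agent.Helper81.GlaubFix
import Cfsg.Agent.Helper81.GlaubP5

set_option autoImplicit false
open Cfsg

namespace Cfsg.Agent.S4452

open Cfsg.Agent.Helper81

/-- Let the finite group G be the product of a normal subgroup K and a solvable subgroup H of coprime orders, and let N = N_G(H). Then the number of irreducible characters of G of degree coprime to the order of H equals the number of irreducible characters of N of degree coprime to the order of H. (The two sets are in fact in a canonical bijection; only the equality of their sizes is stated here.) -/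
theorem result {G : Type*} [Group G] [Finite G] (K H : Subgroup G) [K.Normal] (hKH : K ⊔ H = ⊤) (hcop : (Nat.card K).Coprime (Nat.card H)) (hsolv : Group.IsSolvable H) : Nat.card {χ : Cfsg.IrrCharacter G // (Cfsg.charDegree (χ : G → ℂ)).Coprime (Nat.card H)} = Nat.card {η : Cfsg.IrrCharacter (Subgroup.normalizer (H : Set G)) // (Cfsg.charDegree (η : Subgroup.normalizer (H : Set G) → ℂ)).Coprime (Nat.card H)} := by
  classical
  have hKn : K.Normal := inferInstance
  have : Fintype G := Fintype.ofFinite G
  have : Fintype K := Fintype.ofFinite K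
  obtain ⟨Nm, hNm⟩ : ∃ Nm : Subgroup G, Nm = Subgroup.normalizer (H : Set G) := ⟨_, rfl⟩
  rw [← hNm]
  have hHNm : H ≤ Nm := hNm ▸ Subgroup.le_normalizer
  have : Fintype Nm := Fintype.ofFinite Nm
  have : Fintype (K.subgroupOf Nm) := Fintype.ofFinite _
  -- basic group theory
  have hdisj : K ⊓ H = ⊥ := disjoint_iff.mp (Subgroup.disjoint_of_coprime_natCard hcop)
  have hmul : ∀ g : G, ∃ k ∈ K, ∃ h ∈ H, g = k * h := by
    intro g
    have hg : g ∈ ((K ⊔ H : Subgroup G) : Set G) := by rw [hKH]; exact Set.mem_univ g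
    rw [Subgroup.normal_mul] at hg
    obtain ⟨k, hk, h, hh, rfl⟩ := Set.mem_mul.mp hg
    exact ⟨k, hk, h, hh, rfl⟩
  -- elements of `K ∩ N_G(H)` commute with `H`
  have hcomm : ∀ m ∈ K, m ∈ Nm → ∀ h ∈ H, h * m = m * h := by
    intro m hmK hmN h hh
    have h1 : m * h * m⁻¹ ∈ H := by
      rw [hNm] at hmN
      exact (Subgroup.mem_normalizer_iff.mp hmN h).mp hh
    have h2 : m * h * m⁻¹ * h⁻¹ ∈ H := H.mul_mem h1 (H.inv_mem hh)
    have h3 : m * h * m⁻¹ * h⁻¹ ∈ K := by
      have : m * h * m⁻¹ * h⁻¹ = m * (h * m⁻¹ * h⁻¹) := by group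
      rw [this]
      exact K.mul_mem hmK (hKn.conj_mem _ (K.inv_mem hmK) h)
    have h4 : m * h * m⁻¹ * h⁻¹ ∈ K ⊓ H := ⟨h3, h2⟩
    rw [hdisj, Subgroup.mem_bot] at h4
    calc h * m = (m * h * m⁻¹ * h⁻¹)⁻¹ * (m * h) := by group
      _ = m * h := by rw [h4, inv_one, one_mul]
  -- the two surjections onto `G ⧸ K`
  have hsurj₁ : Function.Surjective (QuotientGroup.mk' K) := QuotientGroup.mk'_surjective K
  have hker₁ : ∀ x : G, (QuotientGroup.mk' K) x = 1 ↔ x ∈ K := fun x =>
    QuotientGroup.eq_one_iff x
  have hsurj₂ : Function.Surjective ((QuotientGroup.mk' K).comp Nm.subtype) := by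
    intro q
    obtain ⟨g, rfl⟩ := QuotientGroup.mk'_surjective K q
    obtain ⟨k, hk, h, hh, rfl⟩ := hmul g
    refine ⟨⟨h, hHNm hh⟩, ?_⟩
    change (QuotientGroup.mk' K) h = (QuotientGroup.mk' K) (k * h)
    rw [map_mul, (hker₁ k).mpr hk, one_mul]
  have hker₂ : ∀ x : Nm, ((QuotientGroup.mk' K).comp Nm.subtype) x = 1 ↔ x ∈ K.subgroupOf Nm :=
    fun x => by
      rw [Subgroup.mem_subgroupOf]
      exact hker₁ (x : G)
  -- indices
  have hKindex : K.index = Nat.card H := by
    have hc : Subgroup.IsComplement' H K := by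
      apply Subgroup.isComplement'_of_disjoint_and_mul_eq_univ
      · rw [disjoint_iff, inf_comm]; exact hdisj
      · rw [← Subgroup.mul_normal, sup_comm, hKH]; rfl
    exact hc.index_eq_card
  have hMindex : (K.subgroupOf Nm).index = Nat.card H := by
    have h1 : ((QuotientGroup.mk' K).comp Nm.subtype).ker = K.subgroupOf Nm := by
      ext x
      rw [MonoidHom.mem_ker]
      exact hker₂ x
    rw [← h1, Subgroup.index_ker, MonoidHom.range_eq_top.mpr hsurj₂, Subgroup.card_top,
      ← Subgroup.index_eq_card, hKindex]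
  have hcopK : (Nat.card K).Coprime K.index := by rw [hKindex]; exact hcop
  have hMK : Nat.card (K.subgroupOf Nm) ∣ Nat.card K := by
    let f : (K.subgroupOf Nm) →* K :=
      { toFun := fun x => ⟨(x.1 : G), Subgroup.mem_subgroupOf.mp x.2⟩
        map_one' := rfl
        map_mul' := fun _ _ => rfl }
    have hf : Function.Injective f := by
      intro a b hab
      have h' : ((f a : K) : G) = ((f b : K) : G) := congrArg _ hab
      exact Subtype.ext (Subtype.ext h')
    exact Subgroup.card_dvd_of_injective f hf
  have hcopM : (Nat.card (K.subgroupOf Nm)).Coprime (K.subgroupOf Nm).index := by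
    rw [hMindex]
    exact Nat.Coprime.coprime_dvd_left hMK hcop
  -- the counting lemma, twice
  have hG := card_goodIrr K hcopK
  have hN := card_goodIrr (K.subgroupOf Nm) hcopM
  -- linear characters
  have hL : Nat.card (LinOver K) = Nat.card (LinOver (K.subgroupOf Nm)) := by
    rw [card_linOver_eq K (QuotientGroup.mk' K) hsurj₁ hker₁,
      card_linOver_eq (K.subgroupOf Nm) ((QuotientGroup.mk' K).comp Nm.subtype) hsurj₂ hker₂]
  -- invariant characters
  have hI : Nat.card (InvIrrIn K) = Nat.card (InvIrrIn (K.subgroupOf Nm)) := by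
    -- all characters of `K ∩ N` are invariant
    have e1 : InvIrrIn (K.subgroupOf Nm) ≃ IrrCharacter (K.subgroupOf Nm) :=
      Equiv.subtypeUnivEquiv (fun θ x m => by
        obtain ⟨k, hk, h, hh, hx⟩ := hmul (x : G)
        have hkN : k ∈ Nm := by
          have : k = (x : G) * h⁻¹ := by rw [hx]; group
          rw [this]
          exact Nm.mul_mem x.2 (Nm.inv_mem (hHNm hh))
        have hmK : ((m : Nm) : G) ∈ K := Subgroup.mem_subgroupOf.mp m.2
        have hc := hcomm _ hmK (m : Nm).2 h hh
        let k' : K.subgroupOf Nm := ⟨⟨k, hkN⟩, Subgroup.mem_subgroupOf.mpr hk⟩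
        have hcf := Helper74.isClassFunction_of_isCharacter (Helper74.irr_isCharacter θ)
        have := hcf m k'
        rw [← this]
        refine congrArg (θ : (K.subgroupOf Nm) → ℂ) ?_
        apply Subtype.ext
        apply Subtype.ext
        change (x : G) * ((m : Nm) : G) * (x : G)⁻¹ = k * ((m : Nm) : G) * k⁻¹
        rw [hx]
        calc k * h * ((m : Nm) : G) * (k * h)⁻¹ = k * (h * ((m : Nm) : G)) * h⁻¹ * k⁻¹ := by group
          _ = k * (((m : Nm) : G) * h) * h⁻¹ * k⁻¹ := by rw [hc]
          _ = k * ((m : Nm) : G) * k⁻¹ := by group)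
    -- `G`-invariant iff `H`-invariant
    have hnormKH : ∀ s ∈ H, ∀ g ∈ K, s * g * s⁻¹ ∈ K := fun s _ g hg => hKn.conj_mem g hg s
    let _ := conjMulDistribMulAction K H hnormKH
    have e2 : InvIrrIn K ≃ InvIrr H K :=
      Equiv.subtypeEquivRight (fun θ => by
        constructor
        · intro hθ s g
          exact hθ (s : G) g
        · intro hθ x m
          obtain ⟨k, hk, h, hh, hx⟩ := hmul x
          have hcf := Helper74.isClassFunction_of_isCharacter (Helper74.irr_isCharacter θ)
          have h1 := hθ ⟨h, hh⟩ m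
          have h2 := hcf ((⟨h, hh⟩ : H) • m) ⟨k, hk⟩
          rw [← h1, ← h2]
          refine congrArg (θ : K → ℂ) ?_
          apply Subtype.ext
          change x * (m : G) * x⁻¹ = k * (h * (m : G) * h⁻¹) * k⁻¹
          rw [hx]
          group)
    have e3 : FixedPoints.subgroup H K ≃* K.subgroupOf Nm :=
      { toFun := fun c => ⟨⟨(c.1 : G), by
            have hcc : ∀ h ∈ H, h * (c.1 : G) = (c.1 : G) * h := by
              intro h hh
              have h1 := congrArg Subtype.val (c.2 ⟨h, hh⟩)
              change h * (c.1 : G) * h⁻¹ = (c.1 : G) at h1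
              calc h * (c.1 : G) = h * (c.1 : G) * h⁻¹ * h := by group
                _ = (c.1 : G) * h := by rw [h1]
            rw [hNm, Subgroup.mem_normalizer_iff]
            intro x
            constructor
            · intro hx
              have h1 : (c.1 : G) * x * (c.1 : G)⁻¹ = x := by
                rw [← hcc x hx, mul_inv_cancel_right]
              rw [h1]
              exact hx
            · intro hx
              have h1 := hcc _ hx
              have h2 : x = (c.1 : G) * x * (c.1 : G)⁻¹ := by
                have h3 : (c.1 : G) * x = (c.1 : G) * ((c.1 : G) * x * (c.1 : G)⁻¹) := by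
                  rw [← h1]
                  group
                exact mul_left_cancel h3
              rw [h2]
              exact hx⟩, Subgroup.mem_subgroupOf.mpr c.1.2⟩
        invFun := fun m => ⟨⟨((m : Nm) : G), Subgroup.mem_subgroupOf.mp m.2⟩, fun h => by
          apply Subtype.ext
          change (h : G) * ((m : Nm) : G) * (h : G)⁻¹ = ((m : Nm) : G)
          rw [hcomm _ (Subgroup.mem_subgroupOf.mp m.2) (m : Nm).2 h h.2, mul_inv_cancel_right]⟩
        left_inv := fun c => rfl
        right_inv := fun m => rfl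
        map_mul' := fun a b => rfl }
    rw [Nat.card_congr e2, card_invIrr_eq_card_irr_fixed H K hsolv hcop,
      Nat.card_congr (Helper80.irrCongr e3), Nat.card_congr e1]
  -- conclusion
  have eL : {χ : Cfsg.IrrCharacter G // (Cfsg.charDegree (χ : G → ℂ)).Coprime (Nat.card H)} ≃
      GoodIrr K := Equiv.subtypeEquivRight (fun χ => by rw [hKindex])
  have eR : {η : Cfsg.IrrCharacter Nm // (Cfsg.charDegree (η : Nm → ℂ)).Coprime (Nat.card H)} ≃
      GoodIrr (K.subgroupOf Nm) := Equiv.subtypeEquivRight (fun χ => by rw [hMindex])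
  rw [Nat.card_congr eL, Nat.card_congr eR, hG, hN, hL, hI]

end Cfsg.Agent.S4452
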