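import Cfsg.Statements.S4455
import Cfsg.Agent.Helper74.RestrictIrr
import Cfsg.Agent.S0867

set_option autoImplicit false
open Cfsg

namespace Cfsg.Agent.S4455

open Cfsg.Agent Cfsg.Agent.Helper74

universe u

theorem main {G : Type u} [Group G] [Finite G] (p : ℕ) (hp : p.Prime) : (Nat.card (Cfsg.pResidual p G) : ℤ) ≡ (∑ᶠ χ ∈ {χ : Cfsg.IrrCharacter G | ¬ p ∣ Cfsg.charDegree (χ : G → ℂ) ∧ ¬ p ∣ Cfsg.detOrder (χ : G → ℂ)}, (Cfsg.charDegree (χ : G → ℂ) : ℤ) ^ 2) [ZMOD p] := by
  classical
  have : Fact p.Prime := ⟨hp⟩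
  have := Fintype.ofFinite G
  have hHn : (pResidual p G).Normal := Helper34.pResidual_normal p G
  have := Fintype.ofFinite (pResidual p G)
  let _ := irrFintype (pResidual p G)
  obtain ⟨a, ha⟩ : ∃ a, (pResidual p G).index = p ^ a := by
    obtain ⟨a, ha⟩ := IsPGroup.iff_card.mp (Helper34.pResidual_quotient_isPGroup p G)
    exact ⟨a, by rw [Subgroup.index_eq_card]; exact ha⟩
  have hcopidx : ∀ m : ℕ, ¬ p ∣ m → Nat.Coprime (pResidual p G).index m := by
    intro m hm
    rw [ha]
    exact Nat.Coprime.pow_left a ((Nat.Prime.coprime_iff_not_dvd hp).mpr hm)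
  let P : Sylow p G := default
  have hsup := Helper34.pResidual_sup_sylow p G P
  have hnorm : ∀ s ∈ (P : Subgroup G), ∀ h ∈ pResidual p G, s * h * s⁻¹ ∈ pResidual p G :=
    fun s _ h hh => hHn.conj_mem h hh s
  let act : MulDistribMulAction (P : Subgroup G) (pResidual p G) :=
    Helper81.conjMulDistribMulAction (pResidual p G) P hnorm
  let actIrr : MulAction (P : Subgroup G) (IrrCharacter (pResidual p G)) :=
    Helper81.irrSMulAction _ (pResidual p G)
  have hfix : ∀ θ : IrrCharacter (pResidual p G),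
      θ ∈ MulAction.fixedPoints (P : Subgroup G) (IrrCharacter (pResidual p G)) ↔
        ∀ g : G, Helper15.conjFun (pResidual p G) g (θ : pResidual p G → ℂ) =
          (θ : pResidual p G → ℂ) := by
    intro θ
    have h0 := Helper81.irrSMul_eq_self_iff (S := (P : Subgroup G)) θ
    constructor
    · intro hθ
      have h1 := h0.mp hθ
      have hP : (P : Subgroup G) ≤ Helper15.inertia (pResidual p G) (θ : pResidual p G → ℂ) := by
        intro s hs
        rw [Helper15.mem_inertia]
        funext n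
        exact h1 ⟨s, hs⟩ n
      have hH := Helper15.le_inertia (pResidual p G) (irr_isClassFunction θ)
      have htop : (⊤ : Subgroup G) ≤ Helper15.inertia (pResidual p G) (θ : pResidual p G → ℂ) := by
        rw [← hsup]
        exact sup_le hH hP
      intro g
      exact (Helper15.mem_inertia _ _ g).mp (htop (Subgroup.mem_top g))
    · intro hθ
      apply h0.mpr
      intro s n
      exact congrFun (hθ (s : G)) n
  -- the two index sets
  set Y : Set (IrrCharacter G) := {χ : Cfsg.IrrCharacter G | ¬ p ∣ Cfsg.charDegree (χ : G → ℂ) ∧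
    ¬ p ∣ Cfsg.detOrder (χ : G → ℂ)} with hY
  set Z : Set (IrrCharacter (pResidual p G)) := {θ |
    θ ∈ MulAction.fixedPoints (P : Subgroup G) (IrrCharacter (pResidual p G)) ∧
      ¬ p ∣ charDegree (θ : pResidual p G → ℂ)} with hZ
  let r : IrrCharacter G → IrrCharacter (pResidual p G) := fun χ =>
    if h : IsIrrCharacter (pResidual p G) (fun n : pResidual p G => (χ : G → ℂ) n) then ⟨_, h⟩
    else ⟨fun _ => 1, Helper15.isIrrCharacter_one _⟩
  have hY1 : ∀ χ ∈ Y, IsIrrCharacter (pResidual p G) (fun n : pResidual p G => (χ : G → ℂ) n) ∧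
      ∀ g : G, Helper15.conjFun (pResidual p G) g (fun n : pResidual p G => (χ : G → ℂ) n) =
        fun n : pResidual p G => (χ : G → ℂ) n := by
    intro χ hχ
    exact restrict_irr_of_coprime (pResidual p G) χ.2 (hcopidx _ hχ.1).symm
  have hr : ∀ χ ∈ Y, ((r χ : IrrCharacter (pResidual p G)) : pResidual p G → ℂ) =
      fun n : pResidual p G => (χ : G → ℂ) n := by
    intro χ hχ
    simp only [r, dif_pos (hY1 χ hχ).1]
  have hbij : Set.BijOn r Y Z := by
    refine ⟨?_, ?_, ?_⟩
    · intro χ hχ
      refine ⟨?_, ?_⟩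
      · rw [hfix, hr χ hχ]
        exact (hY1 χ hχ).2
      · rw [hr χ hχ]
        exact hχ.1
    · intro χ hχ χ' hχ' heq
      have h1 := hr χ hχ
      have h2 := hr χ' hχ'
      rw [heq] at h1
      have hθirr := (hY1 χ hχ).1
      have hθinv := (hY1 χ hχ).2
      have hd : (fun n : pResidual p G => (χ : G → ℂ) n) 1 = (charDegree (χ : G → ℂ) : ℂ) :=
        (charDegree_cast (irr_isCharacter χ)).symm
      have hcop : Nat.Coprime (pResidual p G).index
          (detOrder (fun n : pResidual p G => (χ : G → ℂ) n) * charDegree (χ : G → ℂ)) := by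
        apply hcopidx
        intro hdvd
        rcases (Nat.Prime.dvd_mul hp).mp hdvd with h | h
        · exact not_dvd_detOrder_pResidual p (isCharacter_of_isIrr hθirr) h
        · exact hχ.1 h
      obtain ⟨χ₀, -, huniq⟩ := Cfsg.Agent.S0867.result (pResidual p G)
        (fun n : pResidual p G => (χ : G → ℂ) n) hθirr
        (fun g n => congrFun (hθinv g) n) _ hd hcop
      have e1 := huniq (χ : G → ℂ) χ.2 (fun n => rfl) (hcopidx _ hχ.2)
      have e2 := huniq (χ' : G → ℂ) χ'.2 (fun n => by
        have := congrFun (h1.symm.trans h2) n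
        exact this.symm) (hcopidx _ hχ'.2)
      exact Subtype.ext (e1.trans e2.symm)
    · intro θ hθ
      have hθinv := (hfix θ).mp hθ.1
      have hd : (θ : pResidual p G → ℂ) 1 = (charDegree (θ : pResidual p G → ℂ) : ℂ) :=
        (charDegree_cast (irr_isCharacter θ)).symm
      have hcop : Nat.Coprime (pResidual p G).index
          (detOrder (θ : pResidual p G → ℂ) * charDegree (θ : pResidual p G → ℂ)) := by
        apply hcopidx
        intro hdvd
        rcases (Nat.Prime.dvd_mul hp).mp hdvd with h | h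
        · exact not_dvd_detOrder_pResidual p (irr_isCharacter θ) h
        · exact hθ.2 h
      obtain ⟨χ₀, ⟨hχ₀, hres, hdet⟩, -⟩ := Cfsg.Agent.S0867.result (pResidual p G)
        (θ : pResidual p G → ℂ) θ.2 (fun g n => congrFun (hθinv g) n) _ hd hcop
      have hfun : (fun n : pResidual p G => χ₀ n) = (θ : pResidual p G → ℂ) := funext hres
      have hdeg : charDegree χ₀ = charDegree (θ : pResidual p G → ℂ) := by
        have : charDegree χ₀ = charDegree (fun n : pResidual p G => χ₀ n) := rfl
        rw [this, hfun]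
      have hmem : (⟨χ₀, hχ₀⟩ : IrrCharacter G) ∈ Y := by
        refine ⟨?_, ?_⟩
        · change ¬ p ∣ charDegree χ₀
          rw [hdeg]
          exact hθ.2
        · change ¬ p ∣ detOrder χ₀
          rw [hdet]
          exact not_dvd_detOrder_pResidual p (irr_isCharacter θ)
      refine ⟨⟨χ₀, hχ₀⟩, hmem, ?_⟩
      apply Subtype.ext
      rw [hr _ hmem]
      exact hfun
  have hsum1 : (∑ᶠ χ ∈ Y, (Cfsg.charDegree (χ : G → ℂ) : ℤ) ^ 2) =
      ∑ᶠ θ ∈ Z, (charDegree (θ : pResidual p G → ℂ) : ℤ) ^ 2 := by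
    apply finsum_mem_eq_of_bijOn r hbij
    intro χ hχ
    rw [hr χ hχ]
    rfl
  rw [hsum1]
  -- now count in `Irr(O^p(G))`
  have hsq := Helper79.sum_charDegree_sq (G := pResidual p G)
  have hstep1 := natCast_sum_eq_sum_fixedPoints (p := p) (S := (P : Subgroup G))
    (X := IrrCharacter (pResidual p G)) P.isPGroup'
    (fun θ => charDegree (θ : pResidual p G → ℂ) ^ 2) (by
      intro s θ
      have : ((s • θ : IrrCharacter (pResidual p G)) : pResidual p G → ℂ) 1 =
          (θ : pResidual p G → ℂ) 1 := by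
        rw [Helper81.irrSMulAction_apply, smul_one]
      unfold charDegree
      rw [this])
  rw [hsq] at hstep1
  have hstep2 : ((∑ θ with θ ∈ MulAction.fixedPoints (P : Subgroup G)
      (IrrCharacter (pResidual p G)), charDegree (θ : pResidual p G → ℂ) ^ 2 : ℕ) : ZMod p) =
      ((∑ θ with θ ∈ Z, charDegree (θ : pResidual p G → ℂ) ^ 2 : ℕ) : ZMod p) := by
    have hsub : (Finset.univ.filter (· ∈ Z)) ⊆ Finset.univ.filter
        (· ∈ MulAction.fixedPoints (P : Subgroup G) (IrrCharacter (pResidual p G))) := by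
      intro θ hθ
      rw [Finset.mem_filter] at hθ ⊢
      exact ⟨hθ.1, hθ.2.1⟩
    push_cast
    rw [← Finset.sum_subset hsub]
    intro θ hθ hθZ
    rw [Finset.mem_filter] at hθ hθZ
    have hdvd : p ∣ charDegree (θ : pResidual p G → ℂ) := by
      by_contra hnd
      exact hθZ ⟨Finset.mem_univ _, hθ.2, hnd⟩
    rw [(ZMod.natCast_eq_zero_iff _ _).mpr hdvd]
    exact zero_pow two_ne_zero
  have hfin : (∑ᶠ θ ∈ Z, (charDegree (θ : pResidual p G → ℂ) : ℤ) ^ 2) =
      ((∑ θ with θ ∈ Z, charDegree (θ : pResidual p G → ℂ) ^ 2 : ℕ) : ℤ) := by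
    rw [finsum_mem_eq_finite_toFinset_sum _ (Set.toFinite Z)]
    push_cast
    apply Finset.sum_congr
    · ext θ
      rw [Set.Finite.mem_toFinset, Finset.mem_filter]
      simp only [Finset.mem_univ, true_and]
    · intro θ _
      rfl
  rw [hfin]
  rw [← ZMod.intCast_eq_intCast_iff]
  push_cast
  have := hstep1.trans hstep2
  push_cast at this
  exact this


/-- Fix a prime p and a finite group G. Let s be the sum of χ(1)² over the irreducible characters χ of G whose degree is not divisible by p and whose determinantal order o(χ) is not divisible by p. Then the order of O^p(G), the subgroup generated by the elements of order prime to p, is congruent to s modulo p. -/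
theorem result {G : Type*} [Group G] [Finite G] (p : ℕ) (hp : p.Prime) : (Nat.card (Cfsg.pResidual p G) : ℤ) ≡ (∑ᶠ χ ∈ {χ : Cfsg.IrrCharacter G | ¬ p ∣ Cfsg.charDegree (χ : G → ℂ) ∧ ¬ p ∣ Cfsg.detOrder (χ : G → ℂ)}, (Cfsg.charDegree (χ : G → ℂ) : ℤ) ^ 2) [ZMOD p] := by
  exact main p hp

end Cfsg.Agent.S4455
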