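import Cfsg.Statements.S4459
import Cfsg.Agent.S4457
import Cfsg.Agent.Helper74.DegPFinal

set_option autoImplicit false
open Cfsg

namespace Cfsg.Agent.S4459

/-- Let G be a non-abelian finite group and p a prime. Then the irreducible character degrees of G are exactly 1 and p if and only if either G has an abelian normal subgroup of index p or the centre of G has index p³. -/
theorem result {G : Type*} [Group G] [Finite G] (hG : ∃ a b : G, a * b ≠ b * a) (p : ℕ) (hp : p.Prime) : ((∀ χ : Cfsg.IrrCharacter G, Cfsg.charDegree (χ : G → ℂ) = 1 ∨ Cfsg.charDegree (χ : G → ℂ) = p) ∧ ∃ χ : Cfsg.IrrCharacter G, Cfsg.charDegree (χ : G → ℂ) = p) ↔ ((∃ A : Subgroup G, A.Normal ∧ (∀ a ∈ A, ∀ b ∈ A, a * b = b * a) ∧ A.index = p) ∨ (Subgroup.center G).index = p ^ 3) := by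
  classical
  let _ : Fintype G := Fintype.ofFinite G
  constructor
  · rintro ⟨hcd, hex⟩
    rcases Cfsg.Agent.S4457.result p hcd hex hp.one_lt.ne' with h | ⟨q, e, hq, hpe, P, A, hPn, hAn, hP, hA, hPA, hsup⟩
    · exact Or.inl h
    · have hqp : q = p := by
        have he : e ≠ 0 := by
          rintro rfl
          rw [pow_zero] at hpe
          exact hp.one_lt.ne' hpe
        have hdvd : q ∣ p := by
          rw [hpe]; exact dvd_pow_self q he
        exact (Nat.prime_dvd_prime_iff_eq hq hp).mp hdvd
      subst hqp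
      haveI : Fact q.Prime := ⟨hp⟩
      exact Cfsg.Agent.Helper74.structure_of_direct hG hcd P A hPn hAn hP hA hPA hsup
  · rintro (⟨A, hAn, hA, hAp⟩ | hZ)
    · exact Cfsg.Agent.Helper74.cd_of_abelian_index_p hp hG A hAn hA hAp
    · exact Cfsg.Agent.Helper74.cd_of_center_index hp hG hZ

end Cfsg.Agent.S4459
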