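import Cfsg.Statements.S4468
import Cfsg.Agent.Helper15.ItoCoreE
import Cfsg.Agent.Helper11.PSolvable
import Cfsg.Agent.Helper55.CyclicInf

set_option autoImplicit false
open Cfsg

namespace Cfsg.Agent.S4468

open Cfsg.Agent.Helper15.ItoCore

/-- Let the finite p-solvable group G have a faithful character χ of degree n ≤ p − 1 and suppose that a Sylow p-subgroup of G is not normal. Then n = p − 1, n is a power of 2, and χ is irreducible. -/
theorem result {G : Type*} [Group G] [Finite G] (χ : G → ℂ) (hχ : Cfsg.IsCharacter G χ) (hfaith : ∀ g : G, χ g = χ 1 → g = 1) (n : ℕ) (hn : Cfsg.charDegree χ = n) (p : ℕ) (hp : p.Prime) (hsolv : Cfsg.IsPSolvable p G) (hnp : n + 1 ≤ p) (P : Sylow p G) (hP : ¬ (P : Subgroup G).Normal) : n + 1 = p ∧ (∃ k : ℕ, n = 2 ^ k) ∧ Cfsg.IsIrrCharacter G χ := by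
  have : Fact p.Prime := ⟨hp⟩
  subst hn
  -- `P` is abelian
  have hPab : ∀ a ∈ (P : Subgroup G), ∀ b ∈ (P : Subgroup G), a * b = b * a :=
    abelian_of_faithful_small hχ hfaith (by omega) P P.2
  set K := Cfsg.pPrimeCore p G with hKdef
  have hKc : K.Characteristic := Cfsg.Agent.Lib.pPrimeCore_characteristic p
  have hKn : K.Normal := Subgroup.normal_of_characteristic K
  have hKcop : (Nat.card K).Coprime p := Cfsg.Agent.Lib.card_pPrimeCore_coprime p
  have hpK : ¬ p ∣ Nat.card K := (Nat.Prime.coprime_iff_not_dvd hp).mp hKcop.symm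
  -- the quotient
  have hO : Cfsg.pPrimeCore p (G ⧸ K) = ⊥ := Cfsg.Agent.Helper55.pPrimeCore_quotient_pPrimeCore p
  have hsol' : Cfsg.IsPSolvable p (G ⧸ K) := Cfsg.Agent.Helper11.isPSolvable_quotient K hsolv
  have hHH := Cfsg.Agent.Helper11.centralizer_pCore_le_of_isPSolvable hsol' hO
  set Pbar : Sylow p (G ⧸ K) := P.mapSurjective (QuotientGroup.mk'_surjective K) with hPbar
  have hPbar_coe : (Pbar : Subgroup (G ⧸ K)) = (P : Subgroup G).map (QuotientGroup.mk' K) := rfl
  have hcore_le : Cfsg.pCore p (G ⧸ K) ≤ Pbar := Cfsg.Agent.Lib.pCore_le_sylow Pbar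
  have hPbar_le : (Pbar : Subgroup (G ⧸ K)) ≤ Cfsg.pCore p (G ⧸ K) := by
    refine le_trans ?_ hHH
    intro y hy
    rw [Subgroup.mem_centralizer_iff]
    intro z hz
    have hz' : z ∈ (Pbar : Subgroup (G ⧸ K)) := hcore_le hz
    rw [hPbar_coe] at hy hz'
    obtain ⟨a, ha, rfl⟩ := hy
    obtain ⟨b, hb, rfl⟩ := hz'
    rw [← map_mul, ← map_mul, hPab a ha b hb]
  have hPbar_eq : (Pbar : Subgroup (G ⧸ K)) = Cfsg.pCore p (G ⧸ K) := le_antisymm hPbar_le hcore_le
  -- `L = P K` is normal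
  have hLeq : ((P : Subgroup G) ⊔ K) = (Cfsg.pCore p (G ⧸ K)).comap (QuotientGroup.mk' K) := by
    rw [← hPbar_eq, hPbar_coe, Subgroup.comap_map_eq, QuotientGroup.ker_mk']
  have hcoreN : (Cfsg.pCore p (G ⧸ K)).Normal := by
    have := Cfsg.Agent.Lib.pCore_characteristic (G := G ⧸ K) p
    exact Subgroup.normal_of_characteristic _
  have hLn : ((P : Subgroup G) ⊔ K).Normal := by
    rw [hLeq]
    exact Subgroup.Normal.comap hcoreN _
  -- `P` does not centralize `K`
  have hnc : ∃ x ∈ (P : Subgroup G), ∃ t ∈ K, x * t * x⁻¹ ≠ t := by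
    by_contra hcon
    push Not at hcon
    apply hP
    apply sylow_normal_of_normal_le P ((P : Subgroup G) ⊔ K) le_sup_left
    apply sup_le Subgroup.le_normalizer
    refine le_trans ?_ (Subgroup.centralizer_le_normalizer _)
    intro t ht
    rw [Subgroup.mem_centralizer_iff]
    intro x hx
    have := hcon x hx t ht
    calc x * t = x * t * x⁻¹ * x := by group
      _ = t * x := by rw [this]
  obtain ⟨x, hx, t, ht, hne⟩ := hnc
  obtain ⟨a, ha⟩ := P.2 ⟨x, hx⟩
  have hxa : x ^ (p ^ a) = 1 := by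
    have := congrArg Subtype.val ha
    simpa using this
  exact ito_endgame hχ hfaith hnp K hpK x hxa ⟨t, ht, hne⟩

end Cfsg.Agent.S4468
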