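import Cfsg.Statements.S4476
import Cfsg.Agent.Helper74.FSCount
import Mathlib.Algebra.Order.Chebyshev

set_option autoImplicit false
open Cfsg

namespace Cfsg.Agent.S4476

open Cfsg.Agent.Helper74
open scoped ComplexConjugate

section aux
variable {G : Type*} [Group G] [Fintype G]

open Classical in
/-- Core data: the real nontrivial irreducible characters `S`, with `t ≤ ∑_S d`,
`∑_S d² ≤ g - 1`, and `g * |S| = ∑_{x real, x ≠ 1} |C(x)|`. -/
theorem core [Fintype (IrrCharacter G)] (t : ℕ)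
    (ht : Nat.card {x : G // orderOf x = 2} = t) :
    ∃ S : Finset (IrrCharacter G),
      (∀ χ ∈ S, (χ : G → ℂ) ≠ (fun _ => 1) ∧ ∀ g : G, ((χ : G → ℂ) g).im = 0) ∧
      t ≤ ∑ χ ∈ S, charDegree (χ : G → ℂ) ∧
      (∑ χ ∈ S, charDegree (χ : G → ℂ) ^ 2) + 1 ≤ Nat.card G ∧
      Nat.card G * S.card =
        ∑ x ∈ Finset.univ.filter (fun x : G => x ≠ 1 ∧ IsConj x x⁻¹),
          Nat.card (Subgroup.centralizer ({x} : Set G)) := by
  classical
  let d : IrrCharacter G → ℕ := fun χ => charDegree (χ : G → ℂ)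
  have hd : ∀ χ : IrrCharacter G, (d χ : ℂ) = (χ : G → ℂ) 1 :=
    fun χ => charDegree_cast (irr_isCharacter χ)
  let real : IrrCharacter G → Prop := fun χ => ∀ g : G, ((χ : G → ℂ) g).im = 0
  -- integer-valued indicators
  have hν : ∀ χ : IrrCharacter G, ∃ z : ℤ, (z : ℂ) = fsIndF (χ : G → ℂ) ∧
      (z = 0 ∨ ((z = 1 ∨ z = -1) ∧ real χ)) := by
    intro χ
    rcases fsIndF_cases χ with h | ⟨h | h, hr⟩
    · exact ⟨0, by simp [h], Or.inl rfl⟩
    · exact ⟨1, by simp [h], Or.inr ⟨Or.inl rfl, hr⟩⟩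
    · exact ⟨-1, by simp [h], Or.inr ⟨Or.inr rfl, hr⟩⟩
  choose ν hν1 hν2 using hν
  have htriv_real : real (irrTriv G) := fun g => by simp
  have hνtriv : ν (irrTriv G) = 1 := by
    have := hν1 (irrTriv G)
    rw [fsIndF_irrTriv] at this
    exact_mod_cast this
  have hdtriv : d (irrTriv G) = 1 := by
    have := hd (irrTriv G)
    simp only [irrTriv_apply] at this
    exact_mod_cast this
  -- the involution count in ℤ
  have hcount : (1 + t : ℤ) = ∑ χ : IrrCharacter G, ν χ * (d χ : ℤ) := by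
    have h := one_add_involutions_eq_sum (G := G)
    rw [ht] at h
    have h2 : ((1 + t : ℤ) : ℂ) = ((∑ χ : IrrCharacter G, ν χ * (d χ : ℤ) : ℤ) : ℂ) := by
      push_cast
      push_cast at h
      rw [h]
      refine Finset.sum_congr rfl (fun χ _ => ?_)
      rw [hν1, hd]
    exact_mod_cast h2
  -- the set S
  let S : Finset (IrrCharacter G) := Finset.univ.filter (fun χ => χ ≠ irrTriv G ∧ real χ)
  have hSmem : ∀ χ, χ ∈ S ↔ χ ≠ irrTriv G ∧ real χ := by
    intro χ; simp [S]
  refine ⟨S, ?_, ?_, ?_, ?_⟩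
  · intro χ hχ
    obtain ⟨h1, h2⟩ := (hSmem χ).mp hχ
    refine ⟨fun h => h1 (Subtype.ext h), h2⟩
  · -- t ≤ ∑_S d
    have h1 : ∑ χ : IrrCharacter G, ν χ * (d χ : ℤ) =
        1 + ∑ χ ∈ Finset.univ.erase (irrTriv G), ν χ * (d χ : ℤ) := by
      rw [← Finset.add_sum_erase _ _ (Finset.mem_univ (irrTriv G)), hνtriv, hdtriv]
      simp
    have h2 : ∑ χ ∈ Finset.univ.erase (irrTriv G), ν χ * (d χ : ℤ) ≤
        ∑ χ ∈ Finset.univ.erase (irrTriv G), (if real χ then (d χ : ℤ) else 0) := by
      apply Finset.sum_le_sum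
      intro χ _
      rcases hν2 χ with h | ⟨h | h, hr⟩
      · rw [h, zero_mul]
        split_ifs
        · exact Int.natCast_nonneg _
        · exact le_refl _
      · rw [h, one_mul, if_pos hr]
      · rw [h, if_pos hr]
        have : (0 : ℤ) ≤ d χ := Int.natCast_nonneg _
        linarith
    have h3 : ∑ χ ∈ Finset.univ.erase (irrTriv G), (if real χ then (d χ : ℤ) else 0) =
        ∑ χ ∈ S, (d χ : ℤ) := by
      rw [← Finset.sum_filter]
      apply Finset.sum_congr _ (fun _ _ => rfl)
      ext χ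
      simp [S]
    have h4 : (t : ℤ) ≤ ∑ χ ∈ S, (d χ : ℤ) := by
      rw [h1] at hcount
      linarith
    exact_mod_cast h4
  · -- ∑_S d² + 1 ≤ |G|
    have h1 : ∑ χ : IrrCharacter G, d χ * d χ = Nat.card G := by
      have h := sum_irr_degree_sq (G := G)
      have h2 : ((∑ χ : IrrCharacter G, d χ * d χ : ℕ) : ℂ) = (Nat.card G : ℂ) := by
        rw [← h]
        push_cast
        refine Finset.sum_congr rfl (fun χ _ => ?_)
        rw [hd]
      exact_mod_cast h2
    rw [← h1, ← Finset.add_sum_erase _ _ (Finset.mem_univ (irrTriv G)), hdtriv, add_comm, one_mul]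
    apply Nat.add_le_add_left
    calc ∑ χ ∈ S, charDegree (χ : G → ℂ) ^ 2 = ∑ χ ∈ S, d χ * d χ := by
          refine Finset.sum_congr rfl (fun χ _ => ?_); rw [sq]
      _ ≤ ∑ χ ∈ Finset.univ.erase (irrTriv G), d χ * d χ := by
          apply Finset.sum_le_sum_of_subset
          intro χ hχ
          rw [Finset.mem_erase]
          exact ⟨((hSmem χ).mp hχ).1, Finset.mem_univ _⟩
  · -- counting real elements
    have h := sum_real_elements_centralizer (G := G)
    have hfilter : Finset.univ.filter (fun χ : IrrCharacter G => ∀ g : G, ((χ : G → ℂ) g).im = 0) =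
        insert (irrTriv G) S := by
      ext χ
      simp only [Finset.mem_filter, Finset.mem_univ, true_and, Finset.mem_insert, hSmem]
      constructor
      · intro hr
        by_cases h1 : χ = irrTriv G
        · exact Or.inl h1
        · exact Or.inr ⟨h1, hr⟩
      · rintro (h1 | h1)
        · rw [h1]; exact htriv_real
        · exact h1.2
    have hnotmem : irrTriv G ∉ S := by
      intro hm; exact ((hSmem _).mp hm).1 rfl
    rw [hfilter, Finset.card_insert_of_notMem hnotmem] at h
    -- split off x = 1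
    have hsplit : ∑ x : G, (if IsConj x x⁻¹ then
        (Nat.card (Subgroup.centralizer ({x} : Set G)) : ℂ) else 0) =
        (Nat.card G : ℂ) + ∑ x ∈ Finset.univ.filter (fun x : G => x ≠ 1 ∧ IsConj x x⁻¹),
          (Nat.card (Subgroup.centralizer ({x} : Set G)) : ℂ) := by
      rw [← Finset.add_sum_erase _ _ (Finset.mem_univ (1 : G))]
      congr 1
      · rw [if_pos (by simp)]
        have : Subgroup.centralizer ({1} : Set G) = ⊤ := by
          ext x; simp [Subgroup.mem_centralizer_iff]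
        rw [this]; simp
      · rw [← Finset.sum_filter]
        apply Finset.sum_congr _ (fun _ _ => rfl)
        ext x
        simp [Finset.mem_erase]
    rw [hsplit] at h
    have h5 : ((Nat.card G * S.card : ℕ) : ℂ) =
        ((∑ x ∈ Finset.univ.filter (fun x : G => x ≠ 1 ∧ IsConj x x⁻¹),
          Nat.card (Subgroup.centralizer ({x} : Set G)) : ℕ) : ℂ) := by
      push_cast
      push_cast at h
      linear_combination -h
    exact_mod_cast h5

end aux

/-- Let G be a finite group of even order g with exactly t involutions, and put α = (g − 1)/t (a rational number). Then (a) some non-identity element x of G has at most α² conjugates; and (b) some non-principal real-valued irreducible character of G has degree at most α. -/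
theorem result {G : Type*} [Group G] [Fintype G] (heven : Even (Nat.card G)) (t : ℕ) (ht : Nat.card {x : G // orderOf x = 2} = t) : (∃ x : G, x ≠ 1 ∧ ((Subgroup.centralizer ({x} : Set G)).index : ℚ) ≤ (((Nat.card G : ℚ) - 1) / t) ^ 2) ∧ ∃ χ : Cfsg.IrrCharacter G, (χ : G → ℂ) ≠ (fun _ => 1) ∧ (∀ g : G, ((χ : G → ℂ) g).im = 0) ∧ (Cfsg.charDegree (χ : G → ℂ) : ℚ) ≤ ((Nat.card G : ℚ) - 1) / t := by
  classical
  have := irrFintype G
  obtain ⟨S, hS, htle, hsq, hreal⟩ := core (G := G) t ht
  -- t ≥ 1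
  have htpos : 1 ≤ t := by
    have : Fact (Nat.Prime 2) := ⟨Nat.prime_two⟩
    obtain ⟨x, hx⟩ := exists_prime_orderOf_dvd_card' 2 (even_iff_two_dvd.mp heven)
    rw [← ht]
    exact Nat.card_pos_iff.mpr ⟨⟨⟨x, hx⟩⟩, inferInstance⟩
  set g : ℕ := Nat.card G with hg
  have hg2 : 2 ≤ g := by
    have hpos : 0 < g := Nat.card_pos
    obtain ⟨k, hk⟩ := heven
    omega
  have htQ : (0 : ℚ) < t := by exact_mod_cast htpos
  have hgQ : (0 : ℚ) < (g : ℚ) - 1 := by
    have : (2 : ℚ) ≤ g := by exact_mod_cast hg2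
    linarith
  set α : ℚ := ((g : ℚ) - 1) / t with hα
  have hαpos : 0 < α := div_pos hgQ htQ
  have hαt : α * t = (g : ℚ) - 1 := by rw [hα]; field_simp
  -- rational versions
  have htleQ : (t : ℚ) ≤ ∑ χ ∈ S, (charDegree (χ : G → ℂ) : ℚ) := by exact_mod_cast htle
  have hsqQ : ∑ χ ∈ S, (charDegree (χ : G → ℂ) : ℚ) ^ 2 ≤ (g : ℚ) - 1 := by
    have : ((∑ χ ∈ S, charDegree (χ : G → ℂ) ^ 2 : ℕ) : ℚ) + 1 ≤ (g : ℚ) := by exact_mod_cast hsq
    push_cast at this
    linarith
  have hSne : S.Nonempty := by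
    by_contra hne
    rw [Finset.not_nonempty_iff_eq_empty] at hne
    rw [hne, Finset.sum_empty] at htle
    omega
  constructor
  · -- part (a)
    by_contra hcon
    push Not at hcon
    -- every nonidentity x has |C(x)| * α² < g
    have hC : ∀ x : G, x ≠ 1 →
        (Nat.card (Subgroup.centralizer ({x} : Set G)) : ℚ) * α ^ 2 < g := by
      intro x hx
      have h1 := hcon x hx
      have h2 : Nat.card (Subgroup.centralizer ({x} : Set G)) *
          (Subgroup.centralizer ({x} : Set G)).index = g :=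
        Subgroup.card_mul_index _
      have h3 : (0 : ℚ) < Nat.card (Subgroup.centralizer ({x} : Set G)) := by
        exact_mod_cast Nat.card_pos
      calc (Nat.card (Subgroup.centralizer ({x} : Set G)) : ℚ) * α ^ 2
          < Nat.card (Subgroup.centralizer ({x} : Set G)) *
            ((Subgroup.centralizer ({x} : Set G)).index : ℚ) := by
            apply mul_lt_mul_of_pos_left h1 h3
        _ = g := by exact_mod_cast h2
    set R := Finset.univ.filter (fun x : G => x ≠ 1 ∧ IsConj x x⁻¹) with hR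
    have hRcard : R.card + 1 ≤ g := by
      have : R ⊆ Finset.univ.erase (1 : G) := by
        intro x hx
        rw [Finset.mem_erase]
        exact ⟨(Finset.mem_filter.mp hx).2.1, Finset.mem_univ _⟩
      have h2 := Finset.card_le_card this
      rw [Finset.card_erase_of_mem (Finset.mem_univ _), Finset.card_univ,
        ← Nat.card_eq_fintype_card] at h2
      omega
    have hrealQ : (g : ℚ) * S.card =
        ∑ x ∈ R, (Nat.card (Subgroup.centralizer ({x} : Set G)) : ℚ) := by
      exact_mod_cast hreal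
    have hRne : R.Nonempty := by
      by_contra hne
      rw [Finset.not_nonempty_iff_eq_empty] at hne
      rw [hne, Finset.sum_empty] at hrealQ
      have : (S.card : ℚ) = 0 := by
        have hgpos : (0 : ℚ) < g := by linarith
        rcases mul_eq_zero.mp hrealQ with h | h
        · linarith
        · exact h
      have h0 : S.card = 0 := by exact_mod_cast this
      exact (Finset.card_pos.mpr hSne).ne' h0
    -- g * |S| * α² < |R| * g ≤ (g-1) * g
    have h1 : (g : ℚ) * S.card * α ^ 2 < R.card * (g : ℚ) := by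
      rw [hrealQ, Finset.sum_mul]
      calc ∑ x ∈ R, (Nat.card (Subgroup.centralizer ({x} : Set G)) : ℚ) * α ^ 2
          < ∑ x ∈ R, (g : ℚ) := by
            apply Finset.sum_lt_sum_of_nonempty hRne
            intro x hx
            exact hC x (Finset.mem_filter.mp hx).2.1
        _ = R.card * (g : ℚ) := by rw [Finset.sum_const, nsmul_eq_mul]
    have hRQ : (R.card : ℚ) ≤ (g : ℚ) - 1 := by
      have : ((R.card + 1 : ℕ) : ℚ) ≤ g := by exact_mod_cast hRcard
      push_cast at this; linarith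
    have hgpos : (0 : ℚ) < g := by linarith
    have h2 : (S.card : ℚ) * α ^ 2 < (g : ℚ) - 1 := by
      have h3 : (g : ℚ) * (S.card * α ^ 2) < (g : ℚ) * ((g : ℚ) - 1) := by
        calc (g : ℚ) * (S.card * α ^ 2) = (g : ℚ) * S.card * α ^ 2 := by ring
          _ < R.card * (g : ℚ) := h1
          _ ≤ ((g : ℚ) - 1) * g := by apply mul_le_mul_of_nonneg_right hRQ hgpos.le
          _ = (g : ℚ) * ((g : ℚ) - 1) := by ring
      exact lt_of_mul_lt_mul_left h3 hgpos.le
    -- Cauchy–Schwarz
    have hCS : (∑ χ ∈ S, (charDegree (χ : G → ℂ) : ℚ)) ^ 2 ≤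
        S.card * ∑ χ ∈ S, (charDegree (χ : G → ℂ) : ℚ) ^ 2 :=
      sq_sum_le_card_mul_sum_sq
    have h4 : (t : ℚ) ^ 2 ≤ S.card * ((g : ℚ) - 1) := by
      calc (t : ℚ) ^ 2 ≤ (∑ χ ∈ S, (charDegree (χ : G → ℂ) : ℚ)) ^ 2 := by
            apply pow_le_pow_left₀ htQ.le htleQ
        _ ≤ S.card * ∑ χ ∈ S, (charDegree (χ : G → ℂ) : ℚ) ^ 2 := hCS
        _ ≤ S.card * ((g : ℚ) - 1) := by
            apply mul_le_mul_of_nonneg_left hsqQ (Nat.cast_nonneg _)
    -- combine: |S| α² t² < (g-1) t² ≤ ... 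
    have h5 : (S.card : ℚ) * ((g : ℚ) - 1) ^ 2 < ((g : ℚ) - 1) * (t : ℚ) ^ 2 := by
      have : α ^ 2 * (t : ℚ) ^ 2 = ((g : ℚ) - 1) ^ 2 := by rw [← mul_pow, hαt]
      calc (S.card : ℚ) * ((g : ℚ) - 1) ^ 2 = (S.card : ℚ) * α ^ 2 * (t : ℚ) ^ 2 := by
            rw [mul_assoc, this]
        _ < ((g : ℚ) - 1) * (t : ℚ) ^ 2 := by
            apply mul_lt_mul_of_pos_right h2 (pow_pos htQ 2)
    have h6 : ((g : ℚ) - 1) * (t : ℚ) ^ 2 ≤ ((g : ℚ) - 1) * (S.card * ((g : ℚ) - 1)) :=
      mul_le_mul_of_nonneg_left h4 hgQ.le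
    nlinarith
  · -- part (b)
    by_contra hcon
    push Not at hcon
    have hall : ∀ χ ∈ S, α < (charDegree (χ : G → ℂ) : ℚ) := by
      intro χ hχ
      exact hcon χ (hS χ hχ).1 (hS χ hχ).2
    have h1 : ∑ χ ∈ S, α * (charDegree (χ : G → ℂ) : ℚ) <
        ∑ χ ∈ S, (charDegree (χ : G → ℂ) : ℚ) ^ 2 := by
      apply Finset.sum_lt_sum_of_nonempty hSne
      intro χ hχ
      have h2 := hall χ hχ
      have h3 : (0 : ℚ) < (charDegree (χ : G → ℂ) : ℚ) := lt_trans hαpos h2
      rw [sq]
      exact mul_lt_mul_of_pos_right h2 h3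
    rw [← Finset.mul_sum] at h1
    have h2 : α * (t : ℚ) ≤ α * ∑ χ ∈ S, (charDegree (χ : G → ℂ) : ℚ) :=
      mul_le_mul_of_nonneg_left htleQ hαpos.le
    rw [hαt] at h2
    linarith

end Cfsg.Agent.S4476
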