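import Cfsg.Statements.S4478
import Cfsg.Agent.Helper74.DefectZero
import Cfsg.Agent.Helper74.CharCount

set_option autoImplicit false
open Cfsg

namespace Cfsg.Agent.S4478

open Cfsg.Agent.Helper74

/-- The sum of `χ(g²)` when `χ` vanishes on enough elements. -/
theorem sum_sq_eq {G : Type*} [Group G] [Fintype G] (χ : G → ℂ)
    (hsum : ∑ g : G, χ g = 0)
    (hvan2 : ∀ y : G, 2 ∣ orderOf y → χ y = 0)
    (hvanp : ∀ p : ℕ, p.Prime → p ≠ 2 → (∃ g : G, orderOf g = 2 * p) →
      ∀ y : G, p ∣ orderOf y → χ y = 0) :
    ∑ g : G, χ (g * g) = (Nat.card {x : G // orderOf x = 2} : ℂ) * χ 1 := by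
  classical
  -- the odd part
  have hodd : ∑ g ∈ Finset.univ.filter (fun g : G => Odd (orderOf g)), χ (g * g) = 0 := by
    have h1 : ∑ g ∈ Finset.univ.filter (fun g : G => Odd (orderOf g)), χ (g * g) =
        ∑ h ∈ Finset.univ.filter (fun g : G => Odd (orderOf g)), χ h := by
      refine Finset.sum_nbij' (fun g => g * g) (fun h => h ^ ((orderOf h + 1) / 2)) ?_ ?_ ?_ ?_ ?_
      · intro g hg
        simp only [Finset.mem_filter, Finset.mem_univ, true_and] at hg ⊢
        rw [← sq, Nat.Coprime.orderOf_pow (Nat.coprime_two_right.mpr hg)]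
        exact hg
      · intro h hh
        simp only [Finset.mem_filter, Finset.mem_univ, true_and] at hh ⊢
        exact Odd.of_dvd_nat hh (orderOf_pow_dvd _)
      · intro g hg
        simp only [Finset.mem_filter, Finset.mem_univ, true_and] at hg
        have ho : orderOf (g * g) = orderOf g := by
          rw [← sq, Nat.Coprime.orderOf_pow (Nat.coprime_two_right.mpr hg)]
        rw [ho, ← sq, ← pow_mul]
        obtain ⟨k, hk⟩ := hg
        have : 2 * ((orderOf g + 1) / 2) = orderOf g + 1 := by omega
        rw [this, pow_succ, pow_orderOf_eq_one, one_mul]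
      · intro h hh
        simp only [Finset.mem_filter, Finset.mem_univ, true_and] at hh
        rw [← pow_add]
        obtain ⟨k, hk⟩ := hh
        have : (orderOf h + 1) / 2 + (orderOf h + 1) / 2 = orderOf h + 1 := by omega
        rw [this, pow_succ, pow_orderOf_eq_one, one_mul]
      · intro g _
        rfl
    rw [h1]
    have h2 : ∑ h ∈ Finset.univ.filter (fun g : G => ¬ Odd (orderOf g)), χ h = 0 := by
      refine Finset.sum_eq_zero (fun h hh => ?_)
      simp only [Finset.mem_filter, Finset.mem_univ, true_and] at hh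
      exact hvan2 h (even_iff_two_dvd.mp (Nat.not_odd_iff_even.mp hh))
    have h3 := Finset.sum_filter_add_sum_filter_not Finset.univ (fun g : G => Odd (orderOf g)) χ
    rw [h2, add_zero, hsum] at h3
    exact h3
  -- the even part
  have heven : ∀ g : G, ¬ Odd (orderOf g) → orderOf g ≠ 2 → χ (g * g) = 0 := by
    intro g hg hg2
    have hev : 2 ∣ orderOf g := even_iff_two_dvd.mp (Nat.not_odd_iff_even.mp hg)
    have hpos : 0 < orderOf g := orderOf_pos g
    have ho : orderOf (g * g) = orderOf g / 2 := by
      rw [← sq, orderOf_pow_of_dvd two_ne_zero hev]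
    by_cases h4 : 2 ∣ orderOf g / 2
    · exact hvan2 _ (ho ▸ h4)
    · -- orderOf g = 2 * m with m odd, m > 1
      obtain ⟨m, hm⟩ := hev
      have hm2 : orderOf g / 2 = m := by omega
      rw [hm2] at h4 ho
      have hm1 : m ≠ 1 := by
        intro h; apply hg2; rw [hm, h]
      obtain ⟨p, hp, hpm⟩ := Nat.exists_prime_and_dvd hm1
      have hp2 : p ≠ 2 := by
        rintro rfl
        exact h4 hpm
      have hdvd : 2 * p ∣ orderOf g := by
        rw [hm]; exact Nat.mul_dvd_mul_left 2 hpm
      refine hvanp p hp hp2 ⟨g ^ (orderOf g / (2 * p)), ?_⟩ _ (ho ▸ hpm)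
      exact orderOf_pow_orderOf_div hpos.ne' hdvd
  -- assemble
  have h3 := Finset.sum_filter_add_sum_filter_not Finset.univ (fun g : G => Odd (orderOf g))
    (fun g => χ (g * g))
  rw [hodd, zero_add] at h3
  rw [← h3]
  have h4 := Finset.sum_filter_add_sum_filter_not
    (Finset.univ.filter (fun g : G => ¬ Odd (orderOf g))) (fun g : G => orderOf g = 2)
    (fun g => χ (g * g))
  rw [← h4]
  have h5 : ∑ g ∈ (Finset.univ.filter (fun g : G => ¬ Odd (orderOf g))).filter
      (fun g => ¬ orderOf g = 2), χ (g * g) = 0 := by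
    refine Finset.sum_eq_zero (fun g hg => ?_)
    simp only [Finset.mem_filter, Finset.mem_univ, true_and] at hg
    exact heven g hg.1 hg.2
  rw [h5, add_zero]
  have h6 : (Finset.univ.filter (fun g : G => ¬ Odd (orderOf g))).filter
      (fun g => orderOf g = 2) = Finset.univ.filter (fun g : G => orderOf g = 2) := by
    ext g
    simp only [Finset.mem_filter, Finset.mem_univ, true_and, and_iff_right_iff_imp]
    intro h
    rw [h]
    decide
  rw [h6]
  have h7 : ∀ g ∈ Finset.univ.filter (fun g : G => orderOf g = 2), χ (g * g) = χ 1 := by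
    intro g hg
    simp only [Finset.mem_filter, Finset.mem_univ, true_and] at hg
    rw [← sq, ← hg, pow_orderOf_eq_one]
  rw [Finset.sum_congr rfl h7, Finset.sum_const, nsmul_eq_mul, Nat.card_eq_fintype_card,
    Fintype.card_subtype]

/-- Let G be a finite group of even order and χ an irreducible character of G whose degree x is divisible by the full power of 2 dividing the order of G and, for every odd prime p such that G has an element of order 2p, by the full power of p dividing the order of G. Then all involutions of G are conjugate, the centralizer of every involution has order exactly x with x coprime to its index, and the Frobenius–Schur indicator of χ equals 1. -/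
theorem result {G : Type*} [Group G] [Fintype G] (heven : Even (Nat.card G)) (χ : Cfsg.IrrCharacter G) (h2 : 2 ^ (Nat.card G).factorization 2 ∣ Cfsg.charDegree (χ : G → ℂ)) (hp : ∀ p : ℕ, p.Prime → p ≠ 2 → (∃ g : G, orderOf g = 2 * p) → p ^ (Nat.card G).factorization p ∣ Cfsg.charDegree (χ : G → ℂ)) : (∀ s t : G, orderOf s = 2 → orderOf t = 2 → IsConj s t) ∧ (∀ s : G, orderOf s = 2 → Nat.card (Subgroup.centralizer ({s} : Set G)) = Cfsg.charDegree (χ : G → ℂ) ∧ (Nat.card (Subgroup.centralizer ({s} : Set G))).Coprime (Subgroup.centralizer ({s} : Set G)).index) ∧ (Nat.card G : ℂ)⁻¹ * ∑ g : G, (χ : G → ℂ) (g * g) = 1 := by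
  classical
  have hG0 : Nat.card G ≠ 0 := Nat.card_pos.ne'
  have hGC : (Nat.card G : ℂ) ≠ 0 := by exact_mod_cast hG0
  obtain ⟨x, hxdef⟩ : ∃ x, x = Cfsg.charDegree (χ : G → ℂ) := ⟨_, rfl⟩
  rw [← hxdef] at h2 hp ⊢
  have hx : (x : ℂ) = (χ : G → ℂ) 1 := by rw [hxdef]; exact charDegree_cast (irr_isCharacter χ)
  have hχ1 : (χ : G → ℂ) 1 ≠ 0 := by
    obtain ⟨n, ρ, hρ, hχ⟩ := χ.2
    rw [← hχ, Representation.char_one]
    simpa using finrank_pos_of_irr hρ
  have hx0 : x ≠ 0 := by
    intro h
    rw [h] at hx
    exact hχ1 (by rw [← hx]; simp)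
  -- vanishing
  have hvan2 : ∀ y : G, 2 ∣ orderOf y → (χ : G → ℂ) y = 0 := fun y hy =>
    irr_eq_zero_of_defect_zero χ Nat.prime_two (hxdef ▸ h2) y hy
  have hvanp : ∀ p : ℕ, p.Prime → p ≠ 2 → (∃ g : G, orderOf g = 2 * p) →
      ∀ y : G, p ∣ orderOf y → (χ : G → ℂ) y = 0 := fun p hpp hp2 hex y hy =>
    irr_eq_zero_of_defect_zero χ hpp (hxdef ▸ hp p hpp hp2 hex) y hy
  -- an involution exists
  obtain ⟨s₀, hs₀⟩ : ∃ s : G, orderOf s = 2 := by
    haveI : Fact (Nat.Prime 2) := ⟨Nat.prime_two⟩
    exact exists_prime_orderOf_dvd_card' (G := G) 2 (even_iff_two_dvd.mp heven)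
  -- χ is not the trivial character
  have hsum : ∑ g : G, (χ : G → ℂ) g = 0 := by
    have hne : χ ≠ irrTriv G := by
      intro h
      have := hvan2 s₀ (hs₀ ▸ dvd_rfl)
      rw [h] at this
      simp at this
    have h := irr_inner_ne hne
    rw [classInner_def] at h
    simp only [irrTriv_apply, map_one, mul_one] at h
    exact (mul_eq_zero.mp h).resolve_left (inv_ne_zero hGC)
  obtain ⟨t, htdef⟩ : ∃ t, t = Nat.card {x : G // orderOf x = 2} := ⟨_, rfl⟩
  have hsq := sum_sq_eq (χ : G → ℂ) hsum hvan2 hvanp
  rw [← htdef, ← hx] at hsq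
  have ht0 : 0 < t := by
    rw [htdef]
    haveI : Nonempty {x : G // orderOf x = 2} := ⟨⟨s₀, hs₀⟩⟩
    exact Nat.card_pos
  -- the indicator
  have hν : fsIndF (χ : G → ℂ) = (Nat.card G : ℂ)⁻¹ * ((t : ℂ) * (x : ℂ)) := by
    unfold fsIndF
    rw [hsq]
  have htx : t * x = Nat.card G := by
    rcases fsIndF_cases χ with h | ⟨h | h, _⟩
    · exfalso
      rw [hν] at h
      rcases mul_eq_zero.mp h with h | h
      · exact inv_ne_zero hGC h
      · have : t * x = 0 := by exact_mod_cast h
        rcases Nat.mul_eq_zero.mp this with h | h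
        · omega
        · exact hx0 h
    · rw [hν] at h
      have h' : (t : ℂ) * (x : ℂ) = (Nat.card G : ℂ) := by
        field_simp at h
        exact h
      exact_mod_cast h'
    · exfalso
      rw [hν] at h
      have h' : (t : ℂ) * (x : ℂ) + (Nat.card G : ℂ) = 0 := by
        field_simp at h
        rw [h]; ring
      have : t * x + Nat.card G = 0 := by exact_mod_cast h'
      omega
  have hνone : (Nat.card G : ℂ)⁻¹ * ∑ g : G, (χ : G → ℂ) (g * g) = 1 := by
    rw [hsq]
    have : (t : ℂ) * (x : ℂ) = (Nat.card G : ℂ) := by exact_mod_cast htx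
    rw [this, inv_mul_cancel₀ hGC]
  -- key divisibility
  have key : ∀ s : G, orderOf s = 2 → ∀ p : ℕ, p.Prime →
      p ∣ Nat.card (Subgroup.centralizer ({s} : Set G)) →
      p ^ (Nat.card G).factorization p ∣ x := by
    intro s hs p hpp hpc
    by_cases hp2 : p = 2
    · rw [hp2]; exact h2
    · haveI : Fact p.Prime := ⟨hpp⟩
      obtain ⟨k, hk⟩ := exists_prime_orderOf_dvd_card' (G := Subgroup.centralizer ({s} : Set G))
        p hpc
      have hk' : orderOf (k : G) = p := by rw [Subgroup.orderOf_coe]; exact hk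
      have hcomm : Commute s (k : G) := by
        have := k.2
        rw [Subgroup.mem_centralizer_iff] at this
        exact this s (Set.mem_singleton s)
      refine hp p hpp hp2 ⟨s * (k : G), ?_⟩
      rw [hcomm.orderOf_mul_eq_mul_orderOf_of_coprime, hs, hk']
      rw [hs, hk']
      exact (Nat.coprime_primes Nat.prime_two hpp).mpr (Ne.symm hp2)
  have hcdvd : ∀ s : G, orderOf s = 2 →
      Nat.card (Subgroup.centralizer ({s} : Set G)) ∣ x := by
    intro s hs
    have hc0 : Nat.card (Subgroup.centralizer ({s} : Set G)) ≠ 0 := Nat.card_pos.ne'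
    rw [← Nat.factorization_prime_le_iff_dvd hc0 hx0]
    intro p hpp
    by_cases hpc : p ∣ Nat.card (Subgroup.centralizer ({s} : Set G))
    · have h1 := (hpp.pow_dvd_iff_le_factorization hx0).mp (key s hs p hpp hpc)
      have h2 : Nat.card (Subgroup.centralizer ({s} : Set G)) ∣ Nat.card G :=
        Subgroup.card_subgroup_dvd_card _
      have h3 := (Nat.factorization_le_iff_dvd hc0 hG0).mpr h2 p
      exact h3.trans h1
    · rw [Nat.factorization_eq_zero_of_not_dvd hpc]
      exact Nat.zero_le _
  -- class sizes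
  have hclass : ∀ s : G, orderOf s = 2 →
      (Subgroup.centralizer ({s} : Set G)).index = t ∧
      Nat.card (Subgroup.centralizer ({s} : Set G)) = x ∧
      ∀ s' : G, orderOf s' = 2 → IsConj s' s := by
    intro s hs
    have hle : Nat.card (Subgroup.centralizer ({s} : Set G)) ≤ x :=
      Nat.le_of_dvd (Nat.pos_of_ne_zero hx0) (hcdvd s hs)
    have hcpos : 0 < Nat.card (Subgroup.centralizer ({s} : Set G)) := Nat.card_pos
    have hidx := card_isConj_eq_index s
    have hmul := (Subgroup.centralizer ({s} : Set G)).index_mul_card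
    have hsub : Finset.univ.filter (fun y : G => IsConj y s) ⊆
        Finset.univ.filter (fun y : G => orderOf y = 2) := by
      intro y hy
      simp only [Finset.mem_filter, Finset.mem_univ, true_and] at hy ⊢
      obtain ⟨c, hc⟩ := hy
      rw [SemiconjBy.orderOf_eq (c : G) hc, hs]
    have hK : (Finset.univ.filter (fun y : G => IsConj y s)).card =
        (Subgroup.centralizer ({s} : Set G)).index := by
      rw [← hidx, Nat.card_eq_fintype_card, Fintype.card_subtype]
    have hI : (Finset.univ.filter (fun y : G => orderOf y = 2)).card = t := by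
      rw [htdef, Nat.card_eq_fintype_card, Fintype.card_subtype]
    have hidxle : (Subgroup.centralizer ({s} : Set G)).index ≤ t := by
      rw [← hK, ← hI]
      exact Finset.card_le_card hsub
    have hidxpos : 0 < (Subgroup.centralizer ({s} : Set G)).index := by
      rcases Nat.eq_zero_or_pos (Subgroup.centralizer ({s} : Set G)).index with h | h
      · rw [h, zero_mul] at hmul; omega
      · exact h
    have heq1 : (Subgroup.centralizer ({s} : Set G)).index = t := by
      by_contra hne
      have hlt : (Subgroup.centralizer ({s} : Set G)).index < t := lt_of_le_of_ne hidxle hne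
      have : (Subgroup.centralizer ({s} : Set G)).index *
          Nat.card (Subgroup.centralizer ({s} : Set G)) < t * x :=
        calc _ < t * Nat.card (Subgroup.centralizer ({s} : Set G)) :=
              Nat.mul_lt_mul_of_pos_right hlt hcpos
          _ ≤ t * x := Nat.mul_le_mul_left t hle
      omega
    have heq2 : Nat.card (Subgroup.centralizer ({s} : Set G)) = x := by
      rw [heq1] at hmul
      have : t * Nat.card (Subgroup.centralizer ({s} : Set G)) = t * x := by rw [hmul, htx]
      exact Nat.eq_of_mul_eq_mul_left ht0 this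
    refine ⟨heq1, heq2, ?_⟩
    have hKI : Finset.univ.filter (fun y : G => IsConj y s) =
        Finset.univ.filter (fun y : G => orderOf y = 2) :=
      Finset.eq_of_subset_of_card_le hsub (by rw [hK, hI, heq1])
    intro s' hs'
    have : s' ∈ Finset.univ.filter (fun y : G => orderOf y = 2) := by
      simp only [Finset.mem_filter, Finset.mem_univ, true_and]; exact hs'
    rw [← hKI] at this
    simpa using this
  refine ⟨fun s s' hs hs' => (hclass s' hs').2.2 s hs, fun s hs => ?_, hνone⟩
  obtain ⟨hidx, hcard, _⟩ := hclass s hs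
  refine ⟨hcard, ?_⟩
  apply Nat.coprime_of_dvd
  intro p hpp hpc hpi
  have h1 := (hpp.pow_dvd_iff_le_factorization hx0).mp (key s hs p hpp hpc)
  rw [hidx] at hpi
  have ht0' : t ≠ 0 := ht0.ne'
  have h3 : (Nat.card G).factorization p = t.factorization p + x.factorization p := by
    rw [← htx, Nat.factorization_mul ht0' hx0]
    rfl
  have h4 : 1 ≤ t.factorization p :=
    (hpp.dvd_iff_one_le_factorization ht0').mp hpi
  omega

end Cfsg.Agent.S4478
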