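import Cfsg.Statements.S4482
import Cfsg.Agent.Helper79.DihOrderChar
import Cfsg.Agent.Helper76.DihInvolutions

set_option autoImplicit false
set_option maxHeartbeats 1000000
open Cfsg

namespace Cfsg.Agent.S4482

/-- The final algebra. -/
theorem order_algebra (g I N cJ a b x : ℕ) (δ : ℤ)
    (hint : (I : ℤ) * ((x : ℤ) - δ) ^ 2 = 2 * (N : ℤ) ^ 2 * (x : ℤ) * ((x : ℤ) + δ))
    (hpos : 0 < (x : ℤ) + δ) (hG : I * cJ = g) (hN : (N : ℚ) = (cJ : ℚ) / a + (cJ : ℚ) / b)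
    (hcJ : 0 < cJ) (ha : 0 < a) (hb : 0 < b) :
    (x : ℤ) ≠ δ ∧ (g : ℚ) * ((x : ℚ) - δ) ^ 2 =
      2 * (x : ℚ) * ((x : ℚ) + δ) * (cJ : ℚ) ^ 3 * (1 / (a : ℚ) + 1 / (b : ℚ)) ^ 2 := by
  have hcJq : (0 : ℚ) < cJ := by exact_mod_cast hcJ
  have haq : (0 : ℚ) < a := by exact_mod_cast ha
  have hbq : (0 : ℚ) < b := by exact_mod_cast hb
  have hNpos : (0 : ℚ) < N := by rw [hN]; positivity
  have hq : (I : ℚ) * ((x : ℚ) - δ) ^ 2 = 2 * (N : ℚ) ^ 2 * x * (x + δ) := by exact_mod_cast hint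
  have hGq : (g : ℚ) = I * cJ := by rw [← hG]; push_cast; ring
  constructor
  · intro hxe
    have h0 : (I : ℤ) * ((x : ℤ) - δ) ^ 2 = 0 := by rw [hxe]; ring
    rw [hint] at h0
    have hNz : (0 : ℤ) < N := by exact_mod_cast hNpos
    have hxpos : (0 : ℤ) < x := by omega
    have : 0 < 2 * (N : ℤ) ^ 2 * x * (x + δ) :=
      mul_pos (mul_pos (mul_pos two_pos (pow_pos hNz 2)) hxpos) hpos
    omega
  · rw [hGq]
    have e : (I : ℚ) * cJ * ((x : ℚ) - δ) ^ 2 = cJ * (I * ((x : ℚ) - δ) ^ 2) := by ring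
    rw [e, hq, hN]
    field_simp

/-- All involutions are conjugate to `J`. -/
theorem all_involutions_conj {G : Type*} [Group G] [Finite G] {n : ℕ} {P : Sylow 2 G} {σ τ : G}
    (hd : Cfsg.Agent.Helper79.DihLocal.DihData P σ n) (hτ : τ ∈ (P : Subgroup G))
    (hτA : τ ∉ Subgroup.zpowers σ)
    (hconj : IsConj (σ ^ (2 ^ (n - 2))) τ ∧ IsConj (σ ^ (2 ^ (n - 2))) (σ * τ)) :
    ∀ u : G, orderOf u = 2 → IsConj (σ ^ (2 ^ (n - 2))) u := by
  classical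
  have : Fintype G := Fintype.ofFinite G
  intro u hu
  have hpg : IsPGroup 2 (Subgroup.zpowers u) := by
    apply IsPGroup.of_card (n := 1)
    rw [Nat.card_zpowers, hu]; norm_num
  obtain ⟨g, hg⟩ := Cfsg.Agent.Helper79.DihLocal.exists_conj_mem_sylow P (Subgroup.zpowers u) hpg
  have hy := hg u (Subgroup.mem_zpowers u)
  have hyo : orderOf (g⁻¹ * u * g) = 2 := by
    have : g⁻¹ * u * g = MulAut.conj g⁻¹ u := by simp
    rw [this, MulEquiv.orderOf_eq, hu]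
  have huy : IsConj (g⁻¹ * u * g) u := by
    rw [isConj_iff]; exact ⟨g, by group⟩
  have hy1 : g⁻¹ * u * g ≠ 1 := by
    intro h
    rw [h, orderOf_one] at hyo
    omega
  have hyy : (g⁻¹ * u * g) * (g⁻¹ * u * g) = 1 := by
    have := pow_orderOf_eq_one (g⁻¹ * u * g)
    rw [hyo, pow_two] at this
    exact this
  by_cases hyA : g⁻¹ * u * g ∈ Subgroup.zpowers σ
  · have : g⁻¹ * u * g = σ ^ (2 ^ (n - 2)) :=
      Cfsg.Agent.Helper79.DihOrder.eq_J_of_mem_A_of_sq hd hyA hy1 hyy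
    rw [← this]; exact huy
  · obtain ⟨d, hdA, h | h⟩ := Cfsg.Agent.Helper76.dih_noncentral_conj hd hτ hτA hy hyA
    · have : IsConj τ (g⁻¹ * u * g) := isConj_iff.2 ⟨d, h⟩
      exact (hconj.1.trans this).trans huy
    · have : IsConj (σ * τ) (g⁻¹ * u * g) := isConj_iff.2 ⟨d, h⟩
      exact (hconj.2.trans this).trans huy

/-- An order formula for groups with dihedral Sylow 2-subgroups and one class of involutions. Let G be a finite group whose Sylow 2-subgroup P = ⟨σ, τ⟩ is dihedral of order 2^n ≥ 8 (σ of order 2^(n−1), τ an involution inverting σ), let J be the central involution σ^(2^(n−2)), and suppose J, τ and στ are conjugate in G. Fix M over 2 and let χ₁ be an irreducible character in the principal 2-block taking one constant value δ₁ = ±1 at every non-identity power of σ, with χ₁ ≠ 1. Then, with x₁ = χ₁(1) and c(·) denoting orders of centralizers, x₁ ≠ δ₁ and #G · (x₁ − δ₁)²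 = 2·x₁(x₁ + δ₁)·c(J)³·(1/c(J, τ) + 1/c(J, στ))², where c(J, y) is the order of the joint centralizer of J and y. -/
theorem result {G : Type*} [Group G] [Finite G] (M : Ideal Cfsg.AlgInt) (hM : Cfsg.IsPModular 2 M) (n : ℕ) (hn : 3 ≤ n) (P : Sylow 2 G) (σ τ : G) (hσ : σ ∈ (P : Subgroup G)) (hτ : τ ∈ (P : Subgroup G)) (hσo : orderOf σ = 2 ^ (n - 1)) (hτo : orderOf τ = 2) (hrel : τ * σ * τ⁻¹ = σ⁻¹) (hgen : Subgroup.closure ({σ, τ} : Set G) = (P : Subgroup G)) (hconj : IsConj (σ ^ (2 ^ (n - 2))) τ ∧ IsConj (σ ^ (2 ^ (n - 2))) (σ * τ)) (χ₁ : Cfsg.IrrCharacter G) (hχ₁ : χ₁ ∈ Cfsg.principalBlock M G) (h1 : (χ₁ : G → ℂ) ≠ (fun _ => 1)) (δ₁ : ℤ) (hδ₁ : δ₁ = 1 ∨ δ₁ = -1) (hval : ∀ l : ℕ, 0 < l → l < 2 ^ (n - 1) → (χ₁ : G → ℂ) (σ ^ l) = δ₁) : (Cfsg.charDegree (χ₁ : G → ℂ) : ℤ) ≠ δ₁ ∧ (Nat.card G : ℚ) * ((Cfsg.charDegree (χ₁ : G → ℂ) : ℚ) - δ₁) ^ 2 = 2 * (Cfsg.charDegree (χ₁ : G → ℂ) : ℚ) *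 ((Cfsg.charDegree (χ₁ : G → ℂ) : ℚ) + δ₁) * (Nat.card (Subgroup.centralizer ({σ ^ (2 ^ (n - 2))} : Set G)) : ℚ) ^ 3 * (1 / (Nat.card (Subgroup.centralizer ({σ ^ (2 ^ (n - 2)), τ} : Set G)) : ℚ) + 1 / (Nat.card (Subgroup.centralizer ({σ ^ (2 ^ (n - 2)), σ * τ} : Set G)) : ℚ)) ^ 2 := by
  classical
  have : Fintype G := Fintype.ofFinite G
  obtain ⟨hd, hτA⟩ :=
    Cfsg.Agent.Helper79.DihOrder.dihData_of_gens n hn P σ τ hσ hτ hσo hτo hrel hgen
  have hJ2 : orderOf (σ ^ (2 ^ (n - 2))) = 2 := hd.orderOf_J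
  have hone := all_involutions_conj hd hτ hτA hconj
  have hq2 : 2 ≤ 2 ^ (n - 2) := by
    calc 2 = 2 ^ 1 := by norm_num
      _ ≤ 2 ^ (n - 2) := Nat.pow_le_pow_right (by norm_num) (by omega)
  have hNq : 2 ^ (n - 1) = 2 * 2 ^ (n - 2) := hd.two_pow_eq
  -- the primitive root
  have hN0 : (2 ^ (n - 1) : ℕ) ≠ 0 := by positivity
  obtain ⟨ζ, hζ⟩ : ∃ ζ : ℂ, IsPrimitiveRoot ζ (2 ^ (n - 1)) :=
    ⟨_, Complex.isPrimitiveRoot_exp _ hN0⟩
  obtain ⟨-, χa, χb, χc, χf, δa, δb, δc, hδa, hδb, hδc, -, -, -, -, -, -, -, -, hB0, hvals, hrels⟩ :=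
    Cfsg.Agent.Helper79.DihPrincipal.principal_block_of_dihData M hM n P σ hd ζ hζ
  have h1lt : 1 < 2 ^ (n - 1) := by omega
  have h2lt : 2 < 2 ^ (n - 1) := by omega
  have hqlt : 2 ^ (n - 2) < 2 ^ (n - 1) := by omega
  have hq0 : 0 < 2 ^ (n - 2) := by omega
  -- identify χ₁ with χa
  have hχ₁' := hχ₁
  rw [hB0] at hχ₁'
  have hδ₁C : (δ₁ : ℂ) = 1 ∨ (δ₁ : ℂ) = -1 := by
    rcases hδ₁ with h | h <;> rw [h] <;> simp
  have hδaC : (δa : ℂ) = 1 ∨ (δa : ℂ) = -1 := by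
    rcases hδa with h | h <;> rw [h] <;> simp
  have hδbC : (δb : ℂ) = 1 ∨ (δb : ℂ) = -1 := by
    rcases hδb with h | h <;> rw [h] <;> simp
  have hδcC : (δc : ℂ) = 1 ∨ (δc : ℂ) = -1 := by
    rcases hδc with h | h <;> rw [h] <;> simp
  have hχa : χ₁ = χa := by
    rcases hχ₁' with h | h | h | h | ⟨j, h⟩
    · exact absurd h h1
    · exact h
    · exfalso
      have e1 := hval 1 (by norm_num) h1lt
      have e2 := hval 2 (by norm_num) h2lt
      rw [h] at e1 e2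
      rw [(hvals 1 (by norm_num) h1lt).2.1] at e1
      rw [(hvals 2 (by norm_num) h2lt).2.1] at e2
      norm_num at e1 e2
      have e2' : -δb = δ₁ := by exact_mod_cast e2
      omega
    · exfalso
      have e1 := hval 1 (by norm_num) h1lt
      have e2 := hval 2 (by norm_num) h2lt
      rw [h] at e1 e2
      rw [(hvals 1 (by norm_num) h1lt).2.2.1] at e1
      rw [(hvals 2 (by norm_num) h2lt).2.2.1] at e2
      norm_num at e1 e2
      have e2' : -δc = δ₁ := by exact_mod_cast e2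
      omega
    · exfalso
      have e1 := hval (2 ^ (n - 2)) hq0 hqlt
      rw [h, (hvals (2 ^ (n - 2)) hq0 hqlt).2.2.2 j] at e1
      have hw : (ζ ^ (((j : ℕ) + 1) * 2 ^ (n - 2))) ^ 2 = 1 := by
        rw [← pow_mul, mul_assoc, mul_comm (2 ^ (n - 2)) 2, ← hNq, mul_comm, pow_mul, hζ.pow_eq_one,
          one_pow]
      rcases sq_eq_one_iff.1 hw with hw1 | hw1
      · have h2 : ((δa * 2 : ℤ) : ℂ) = (δ₁ : ℂ) := by
          push_cast; rw [← e1, hw1]; norm_num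
        have h3 : δa * 2 = δ₁ := by exact_mod_cast h2
        omega
      · have h2 : ((δa * (-2) : ℤ) : ℂ) = (δ₁ : ℂ) := by
          push_cast; rw [← e1, hw1]; norm_num
        have h3 : δa * (-2) = δ₁ := by exact_mod_cast h2
        omega
  subst hχa
  have hδeq : δ₁ = δa := by
    have e1 := hval 1 (by norm_num) h1lt
    rw [(hvals 1 (by norm_num) h1lt).1] at e1
    exact_mod_cast e1.symm
  subst hδeq
  have hj0 : 0 < 2 ^ (n - 2) - 1 := by omega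
  have hχ' : χf ⟨0, hj0⟩ ∈ principalBlock M G := by
    rw [hB0]; right; right; right; right; exact ⟨_, rfl⟩
  have hv' : ∀ l : ℕ, 0 < l → l < 2 ^ (n - 1) →
      (χf ⟨0, hj0⟩ : G → ℂ) (σ ^ l) = δ₁ * (ζ ^ l + (ζ ^ l)⁻¹) := by
    intro l hl0 hl
    have := (hvals l hl0 hl).2.2.2 ⟨0, hj0⟩
    simpa using this
  have hrel' : ∀ ρ : G, Odd (orderOf ρ) →
      1 + δ₁ * (χ₁ : G → ℂ) ρ = δ₁ * (χf ⟨0, hj0⟩ : G → ℂ) ρ :=
    fun ρ hρ => (hrels ρ hρ ⟨0, hj0⟩).2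
  obtain ⟨hint, hpos⟩ := Cfsg.Agent.Helper79.DihOrderChar.order_formula_aux hM hd τ hτ hτA hone
    ζ hζ χ₁ (χf ⟨0, hj0⟩) hχ₁ hχ' δ₁ hδ₁ hval hv' hrel'
  have hI := Cfsg.Agent.Helper79.DihOrderChar.card_involutions (σ ^ (2 ^ (n - 2))) hJ2 hone
  have hN := Cfsg.Agent.Helper76.card_involutions_centralizer_J hd τ hτ hτA
  have hidx : (Subgroup.centralizer ({σ ^ (2 ^ (n - 2))} : Set G)).index *
      Nat.card (Subgroup.centralizer ({σ ^ (2 ^ (n - 2))} : Set G)) = Nat.card G :=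
    Subgroup.index_mul_card _
  rw [← hI] at hidx
  exact order_algebra _ _ _ _ _ _ _ _ hint hpos hidx hN Nat.card_pos Nat.card_pos Nat.card_pos

end Cfsg.Agent.S4482
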