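import Cfsg.Statements.S4483
import Cfsg.Agent.S4494
import Cfsg.Agent.Helper79.ConjBlock
import Cfsg.Agent.Helper79.Linear
import Cfsg.Agent.Helper16.UnionBlocks
import Cfsg.Agent.Helper16.BlockIdem
import Cfsg.Agent.Helper77.BlockOrth

set_option autoImplicit false
open Cfsg
open scoped ComplexConjugate

namespace Cfsg.Agent.S4483

universe u

section

variable {G : Type u} [Group G] [Fintype G]

/-- the block idempotent coefficients of a conjugation-stable set are inversion invariant. -/
theorem blockCoeff_inv_of_conj_stable (B : Set (IrrCharacter G))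
    (hB : ∀ ξ ∈ B, Helper81.irrConj G ξ ∈ B) (x : G) : blockCoeff B x⁻¹ = blockCoeff B x := by
  unfold blockCoeff
  congr 1
  have hbij : Set.BijOn (Helper81.irrConj G) B B := by
    refine ⟨fun ξ hξ => hB ξ hξ, (Helper81.irrConj G).injective.injOn, fun ξ hξ => ?_⟩
    refine ⟨Helper81.irrConj G ξ, hB ξ hξ, ?_⟩
    apply Subtype.ext; funext g; simp
  refine finsum_mem_eq_of_bijOn (fun ξ => Helper81.irrConj G ξ) hbij ?_
  intro ξ _
  rw [Helper81.irrConj_apply, Helper81.irrConj_apply, Complex.conj_conj,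
    Helper74.char_inv (Helper74.irr_isCharacter ξ), Complex.conj_conj,
    Helper78.irrChar_one_eq_charDegree ξ.2, Complex.conj_natCast]

/-- A real-valued irreducible character of odd degree lies in the principal `2`-block. -/
theorem mem_principalBlock_of_real_of_odd {M : Ideal AlgInt} (hM : IsPModular 2 M)
    (χ : IrrCharacter G) (hreal : ∀ g : G, ((χ : G → ℂ) g).im = 0)
    (hodd : Odd (charDegree (χ : G → ℂ))) : χ ∈ principalBlock M G := by
  classical
  have hMp : M.IsPrime := hM.2.1.isPrime
  have hreal' : ∀ g : G, conj ((χ : G → ℂ) g) = (χ : G → ℂ) g := fun g =>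
    Complex.conj_eq_iff_im.2 (hreal g)
  set B := blockOf M (χ : G → ℂ) with hBdef
  have hB : IsPBlock M B := ⟨χ, rfl⟩
  have hχB : χ ∈ B := Helper78.mem_blockOf_self hMp χ
  have hBconj : ∀ ξ ∈ B, Helper81.irrConj G ξ ∈ B := fun ξ hξ =>
    Helper79.irrConj_mem_blockOf_of_real hM χ hreal' hξ
  set d := charDegree (χ : G → ℂ) with hd
  have hχ1 : (χ : G → ℂ) 1 = (d : ℂ) := Helper78.irrChar_one_eq_charDegree χ.2
  have hdcop : Nat.Coprime d 2 := Nat.coprime_two_right.mpr hodd
  have hd0 : (d : ℂ) ≠ 0 := by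
    exact_mod_cast (Helper78.charDegree_pos_of_isIrrCharacter χ.2).ne'
  set t : G → ℂ := fun x => blockCoeff B x * ((χ : G → ℂ) x * (d : ℂ)⁻¹ - 1) with ht
  have hsum : MemLocalIdeal M (∑ x : G, t x) := by
    refine Helper79.memLocalIdeal_sum_of_inv_invariant hM t ?_ ?_ ?_
    · intro x
      refine Helper78.memLocalRing_mul hMp (Helper16.osima hB x) ?_
      refine Helper78.memLocalRing_sub hMp ?_ (Helper78.memLocalRing_one hMp)
      exact Helper78.memLocalRing_mul hMp
        (Helper78.memLocalRing_of_isIntegral hMp (Helper78.isIntegral_irrChar_apply χ.2 x))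
        (Helper78.memLocalRing_inv_natCast hM hdcop)
    · intro x
      simp only [ht]
      rw [blockCoeff_inv_of_conj_stable B hBconj x,
        Helper74.char_inv (Helper74.irr_isCharacter χ), hreal' x]
    · intro x hx
      simp only [ht]
      by_cases h1 : x = 1
      · rw [h1, hχ1, mul_inv_cancel₀ hd0, sub_self, mul_zero]
      · have h2 : x ^ 2 = 1 := by
          rw [pow_two]
          nth_rewrite 1 [← hx]
          exact inv_mul_cancel x
        have h3 : orderOf x = 2 := orderOf_eq_prime h2 h1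
        rw [Helper77.blockCoeff_eq_zero_of_dvd_orderOf hM hB x (by rw [h3]), zero_mul]
  -- identify the sum
  have h1 := Helper16.omega_blockCoeff B χ
  have h2 := Helper16.omega_blockCoeff B (Helper79.principalIrr G)
  rw [if_pos hχB] at h1
  unfold Helper16.omega at h1 h2
  have hone : (Helper79.principalIrr G : G → ℂ) = fun _ => (1 : ℂ) := rfl
  rw [hone] at h2
  have hD : ∑ x : G, t x = 1 - (if Helper79.principalIrr G ∈ B then (1 : ℂ) else 0) := by
    have h3 : ∑ x : G, t x = (∑ x : G, blockCoeff B x * (χ : G → ℂ) x) / (χ : G → ℂ) 1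
        - (∑ x : G, blockCoeff B x * (fun _ : G => (1 : ℂ)) x) / (fun _ : G => (1 : ℂ)) 1 := by
      rw [hχ1]
      simp only [ht, mul_one, div_one]
      rw [Finset.sum_div, ← Finset.sum_sub_distrib]
      refine Finset.sum_congr rfl fun x _ => ?_
      field_simp
    rw [h3, h1, h2]
  rw [hD] at hsum
  by_cases hmem : Helper79.principalIrr G ∈ B
  · -- `1_G ∈ B`
    have h3 : SameBlock M (χ : G → ℂ) (fun _ : G => (1 : ℂ)) := hmem
    exact Helper78.sameBlock_symm h3
  · rw [if_neg hmem, sub_zero] at hsum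
    exact absurd hsum (Helper78.not_memLocalIdeal_one hMp)

end

/-- Let G be a finite group of order 2^n·g₀ with g₀ odd, and M a maximal ideal of the algebraic integers containing 2. Every real-valued irreducible character of G of odd degree lies in the principal 2-block; consequently G has at most 2^(2n) real-valued irreducible characters of odd degree. -/
theorem result {G : Type*} [Group G] [Finite G] (M : Ideal Cfsg.AlgInt) (hM : Cfsg.IsPModular 2 M) : (∀ χ : Cfsg.IrrCharacter G, (∀ g : G, ((χ : G → ℂ) g).im = 0) → Odd (Cfsg.charDegree (χ : G → ℂ)) → χ ∈ Cfsg.principalBlock M G) ∧ Nat.card {χ : Cfsg.IrrCharacter G // (∀ g : G, ((χ : G → ℂ) g).im = 0) ∧ Odd (Cfsg.charDegree (χ : G → ℂ))} ≤ 2 ^ (2 * (Nat.card G).factorization 2) := by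
  classical
  have : Fintype G := Fintype.ofFinite G
  have hMp : M.IsPrime := hM.2.1.isPrime
  refine ⟨fun χ hreal hodd => mem_principalBlock_of_real_of_odd hM χ hreal hodd, ?_⟩
  set B₀ := principalBlock M G with hB₀
  have hB₀blk : IsPBlock M B₀ := ⟨Helper79.principalIrr G, rfl⟩
  have hfin : Finite (IrrCharacter G) := (Helper74.irrFintype G).finite
  -- injection into the principal block
  have hle : Nat.card {χ : Cfsg.IrrCharacter G // (∀ g : G, ((χ : G → ℂ) g).im = 0) ∧
      Odd (Cfsg.charDegree (χ : G → ℂ))} ≤ Nat.card B₀ := by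
    refine Nat.card_le_card_of_injective
      (fun χ => (⟨χ.1, mem_principalBlock_of_real_of_odd hM χ.1 χ.2.1 χ.2.2⟩ : B₀)) ?_
    intro χ ψ h
    apply Subtype.ext
    exact congrArg (fun z : B₀ => (z : IrrCharacter G)) h
  refine hle.trans ?_
  have hBF := Cfsg.Agent.S4494.result 2 M hM B₀ hB₀blk
  set n := (Nat.card G).factorization 2 with hn
  have hdle : blockDefect 2 B₀ ≤ n := Nat.sub_le _ _
  have hpow : 2 ^ (2 * blockDefect 2 B₀) ≤ 2 ^ (2 * n) :=
    Nat.pow_le_pow_right (by norm_num) (by omega)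
  by_cases hn0 : n = 0
  · have hd0 : blockDefect 2 B₀ = 0 := by omega
    rw [hd0] at hBF
    rw [hn0]
    norm_num at hBF ⊢
    omega
  · have h4 : 4 ≤ 2 ^ (2 * n) := by
      calc 4 = 2 ^ 2 := by norm_num
        _ ≤ 2 ^ (2 * n) := Nat.pow_le_pow_right (by norm_num) (by omega)
    omega

end Cfsg.Agent.S4483
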