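import Cfsg.Statements.S4486
import Cfsg.Agent.Helper75.BLGroup
import Cfsg.Agent.Helper75.BLFinal

set_option autoImplicit false
open Cfsg

namespace Cfsg.Agent.S4486

/-- Let G be a finite group and p a prime dividing its order such that every non-identity element of a Sylow p-subgroup P has the same centralizer as P; let p^n be the order of P. If G has a non-principal irreducible character χ of degree x with x² < p^n − 1, then either G has a proper normal subgroup containing P, or G has a normal subgroup of index p^n and x = 1. -/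
theorem result {G : Type*} [Group G] [Finite G] (p : ℕ) (hp : p.Prime) (hpG : p ∣ Nat.card G) (P : Sylow p G) (hstar : ∀ x ∈ (P : Subgroup G), x ≠ 1 → Subgroup.centralizer ({x} : Set G) = Subgroup.centralizer ((P : Subgroup G) : Set G)) (n : ℕ) (hn : Nat.card P = p ^ n) (χ : Cfsg.IrrCharacter G) (h1 : (χ : G → ℂ) ≠ fun _ => 1) (hdeg : Cfsg.charDegree (χ : G → ℂ) ^ 2 + 1 < p ^ n) : (∃ K : Subgroup G, K.Normal ∧ K ≠ ⊤ ∧ (P : Subgroup G) ≤ K) ∨ ((∃ N : Subgroup G, N.Normal ∧ N.index = p ^ n) ∧ Cfsg.charDegree (χ : G → ℂ) = 1) := by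
  classical
  haveI : Fact p.Prime := ⟨hp⟩
  by_cases hex : ∃ K : Subgroup G, K.Normal ∧ K ≠ ⊤ ∧ (P : Subgroup G) ≤ K
  · exact Or.inl hex
  right
  have hnc : ∀ M : Subgroup G, M.Normal → (P : Subgroup G) ≤ M → M = ⊤ := by
    intro M hM hPM
    by_contra hne
    exact hex ⟨M, hM, hne, hPM⟩
  letI : Fintype G := Fintype.ofFinite G
  set C : Subgroup G := Subgroup.centralizer ((P : Subgroup G) : Set G) with hC
  set N : Subgroup G := Subgroup.normalizer ((P : Subgroup G) : Set G) with hN
  letI : Fintype ↥(P : Subgroup G) := Fintype.ofFinite _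
  letI : Fintype ↥C := Fintype.ofFinite _
  letI : Fintype ↥N := Fintype.ofFinite _
  letI : Fintype (IrrCharacter ↥C) := Agent.Helper74.irrFintype ↥C
  letI : Fintype (IrrCharacter G) := Agent.Helper74.irrFintype G
  have hPC := Agent.Helper75.bl_P_le_C P hstar
  obtain ⟨K, hKC, hdisj, hprod, hcop⟩ := Agent.Helper75.bl_exists_complement P hPC
  letI : Fintype ↥K := Fintype.ofFinite _
  have S := Agent.Helper75.bl_setup P hstar K hKC hdisj hprod hcop
  -- the index `e`
  have hdvd : Nat.card C ∣ Nat.card N := Subgroup.card_dvd_of_le S.hCN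
  set e : ℕ := Nat.card N / Nat.card C with he
  have heq : Nat.card N = e * Nat.card C := (Nat.div_mul_cancel hdvd).symm
  -- the degree
  obtain ⟨x, _, hx⟩ := Agent.Helper76.irr_exists_degree χ.2
  have hcd : Cfsg.charDegree (χ : G → ℂ) = x := Agent.Helper75.BLSetup.charDegree_eq hx
  rw [hcd] at hdeg ⊢
  have hdeg' : x ^ 2 + 1 < Nat.card (P : Subgroup G) := by
    have : Nat.card (P : Subgroup G) = p ^ n := hn
    rw [this]; exact hdeg
  obtain ⟨he1, hx1⟩ := S.final hnc e heq χ.2 h1 x hx hdeg'
  refine ⟨?_, hx1⟩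
  -- Burnside transfer
  have hNC : N = C := by
    symm
    apply Subgroup.eq_of_le_of_card_ge S.hCN
    rw [heq, he1, one_mul]
  have hP : Subgroup.normalizer ((P : Subgroup G) : Set G)
      ≤ Subgroup.centralizer ((P : Subgroup G) : Set G) := by
    rw [← hN, ← hC, hNC]
  have hcomp := MonoidHom.ker_transferSylow_isComplement' P hP
  refine ⟨(MonoidHom.transferSylow P hP).ker, MonoidHom.normal_ker _, ?_⟩
  rw [hcomp.symm.index_eq_card]
  exact hn

end Cfsg.Agent.S4486
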