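import Cfsg.Statements.S4485
import Cfsg.Agent.S4486
import Cfsg.Agent.Helper79.Linear

set_option autoImplicit false
open Cfsg
open scoped commutatorElement

namespace Cfsg.Agent.S4485

universe u

/-- The inductive form. -/
theorem aux (p : ℕ) [hp : Fact p.Prime] : ∀ (m : ℕ) (G : Type u) [Group G] [Finite G],
    Nat.card G = m → ∀ (P : Sylow p G),
    (∀ x ∈ (P : Subgroup G), x ≠ 1 → Subgroup.centralizer ({x} : Set G)
      = Subgroup.centralizer ((P : Subgroup G) : Set G)) →
    ∀ (χ : G → ℂ), Cfsg.IsCharacter G χ → (∀ g : G, χ g = χ 1 → g = 1) →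
    Cfsg.charDegree χ ^ 2 + 1 < Nat.card (P : Subgroup G) → (P : Subgroup G).Normal := by
  intro m
  induction m using Nat.strong_induction_on with
  | _ m ih =>
  intro G _ _ hcard P hstar χ hχ hfaith hdeg
  classical
  set M : Subgroup G := Subgroup.normalClosure ((P : Subgroup G) : Set G) with hM
  have hPM : (P : Subgroup G) ≤ M := Subgroup.le_normalClosure
  have hMn : M.Normal := Subgroup.normalClosure_normal
  by_cases hMtop : M = ⊤
  · -- no proper normal subgroup contains `P`
    have hnc : ∀ M' : Subgroup G, M'.Normal → (P : Subgroup G) ≤ M' → M' = ⊤ := by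
      intro M' hM' hPM'
      have : M ≤ M' := Subgroup.normalClosure_le_normal hPM'
      rw [hMtop] at this
      exact top_le_iff.mp this
    letI : Fintype G := Fintype.ofFinite G
    letI : Fintype (IrrCharacter G) := Agent.Helper74.irrFintype G
    -- `p` divides `|G|`
    have hP1 : 1 < Nat.card (P : Subgroup G) := by omega
    have hpG : p ∣ Nat.card G := by
      have h1 : Nat.card (P : Subgroup G) = p ^ (Nat.card G).factorization p :=
        P.card_eq_multiplicity
      have h2 : (Nat.card G).factorization p ≠ 0 := by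
        intro h0
        rw [h0, pow_zero] at h1
        omega
      have h3 : p ∣ p ^ (Nat.card G).factorization p := dvd_pow_self p h2
      rw [← h1] at h3
      exact h3.trans (Subgroup.card_subgroup_dvd_card _)
    -- decomposition of `χ`
    choose mm hmm using fun ψ : IrrCharacter G => Agent.Helper74.isCharacter_inner_irr_nat hχ ψ
    have hdec := Agent.Helper74.isCharacter_eq_sum_irr hχ
    have hval : ∀ g : G, χ g = ∑ ψ : IrrCharacter G, (mm ψ : ℂ) * (ψ : G → ℂ) g := by
      intro g
      have := congrFun hdec g
      simp only [Finset.sum_apply, Pi.smul_apply, smul_eq_mul] at this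
      rw [this]
      exact Finset.sum_congr rfl (fun ψ _ => by rw [hmm ψ])
    choose dd hdd0 hdd using fun ψ : IrrCharacter G => Agent.Helper76.irr_exists_degree ψ.2
    obtain ⟨X, hX⟩ := Agent.Helper74.isCharacter_apply_one hχ
    have hXsum : X = ∑ ψ : IrrCharacter G, mm ψ * dd ψ := by
      have h1 := hval 1
      rw [hX] at h1
      have : (X : ℂ) = ((∑ ψ : IrrCharacter G, mm ψ * dd ψ : ℕ) : ℂ) := by
        rw [h1]; push_cast
        exact Finset.sum_congr rfl (fun ψ _ => by rw [hdd ψ])
      exact_mod_cast this
    have hcdχ : Cfsg.charDegree χ = X := Agent.Helper75.BLSetup.charDegree_eq hX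
    -- every constituent is linear
    have hlin : ∀ ψ : IrrCharacter G, mm ψ ≠ 0 → (ψ : G → ℂ) 1 = 1 := by
      intro ψ hψ
      by_cases hprin : (ψ : G → ℂ) = fun _ => 1
      · rw [hprin]
      · have hle : dd ψ ≤ X := by
          rw [hXsum]
          have h1 : mm ψ * dd ψ ≤ ∑ ψ : IrrCharacter G, mm ψ * dd ψ :=
            Finset.single_le_sum (f := fun ψ : IrrCharacter G => mm ψ * dd ψ)
              (fun _ _ => Nat.zero_le _) (Finset.mem_univ ψ)
          have h2 : dd ψ ≤ mm ψ * dd ψ := Nat.le_mul_of_pos_left _ (Nat.pos_of_ne_zero hψ)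
          omega
        have hcdψ : Cfsg.charDegree (ψ : G → ℂ) = dd ψ :=
          Agent.Helper75.BLSetup.charDegree_eq (hdd ψ)
        have hdegψ : Cfsg.charDegree (ψ : G → ℂ) ^ 2 + 1
            < p ^ (Nat.card G).factorization p := by
          rw [← P.card_eq_multiplicity, hcdψ]
          rw [hcdχ] at hdeg
          have : dd ψ ^ 2 ≤ X ^ 2 := Nat.pow_le_pow_left hle 2
          omega
        have := Agent.S4486.result p hp.out hpG P hstar _ P.card_eq_multiplicity ψ hprin hdegψ
        rcases this with ⟨K, hK, hKtop, hPK⟩ | ⟨_, h1⟩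
        · exact absurd (hnc K hK hPK) hKtop
        · rw [hcdψ] at h1
          rw [hdd ψ, h1]; simp
    -- `G` is abelian
    have hcomm : commutator G = ⊥ := by
      rw [Subgroup.eq_bot_iff_forall]
      intro u hu
      apply hfaith
      rw [hval u, hval 1]
      refine Finset.sum_congr rfl (fun ψ _ => ?_)
      by_cases hψ : mm ψ = 0
      · rw [hψ]; simp
      · have h1 := hlin ψ hψ
        rw [Agent.Helper79.isCharacter_linear_commutator (Agent.Helper74.irr_isCharacter ψ) h1 hu,
          h1]
    have hab : ∀ a b : G, a * b = b * a := by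
      intro a b
      have : ⁅a, b⁆ ∈ commutator G := Subgroup.commutator_mem_commutator
        (Subgroup.mem_top a) (Subgroup.mem_top b)
      rw [hcomm, Subgroup.mem_bot, commutatorElement_def] at this
      have h2 : a * b = (a * b * a⁻¹ * b⁻¹) * (b * a) := by group
      rw [h2, this, one_mul]
    constructor
    intro y hy g
    have : g * y * g⁻¹ = y := by rw [hab g y]; group
    rw [this]; exact hy
  · -- pass to `M`
    have hlt : Nat.card M < m := by
      rw [← hcard]
      exact lt_of_le_of_ne (Subgroup.card_le_card_group M)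
        (fun h => hMtop (Subgroup.eq_top_of_card_eq M h))
    let P' : Sylow p ↥M := P.subtype hPM
    have hP'coe : (P' : Subgroup ↥M) = (P : Subgroup G).subgroupOf M := Sylow.coe_subtype ..
    have hmemP' : ∀ z : ↥M, z ∈ (P' : Subgroup ↥M) ↔ (z : G) ∈ (P : Subgroup G) := by
      intro z
      rw [hP'coe, Subgroup.mem_subgroupOf]
    have hstar' : ∀ x ∈ (P' : Subgroup ↥M), x ≠ 1 → Subgroup.centralizer ({x} : Set ↥M)
        = Subgroup.centralizer ((P' : Subgroup ↥M) : Set ↥M) := by
      intro x hx hx1
      have hxP : (x : G) ∈ (P : Subgroup G) := (hmemP' x).mp hx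
      have hx1' : (x : G) ≠ 1 := fun h => hx1 (Subtype.ext h)
      ext c
      rw [Subgroup.mem_centralizer_iff, Subgroup.mem_centralizer_iff]
      constructor
      · intro hc z hz
        have h1 : (c : G) ∈ Subgroup.centralizer ({(x : G)} : Set G) := by
          rw [Subgroup.mem_centralizer_iff]
          intro h hh
          rw [Set.mem_singleton_iff] at hh
          rw [hh]
          have := congrArg Subtype.val (hc x (Set.mem_singleton x))
          simpa using this
        rw [hstar (x : G) hxP hx1', Subgroup.mem_centralizer_iff] at h1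
        apply Subtype.ext
        have := h1 (z : G) ((hmemP' z).mp hz)
        simpa using this
      · intro hc z hz
        rw [Set.mem_singleton_iff] at hz
        rw [hz]
        exact hc x hx
    have hcardP' : Nat.card (P' : Subgroup ↥M) = Nat.card (P : Subgroup G) := by
      rw [hP'coe]
      exact Nat.card_congr (Subgroup.subgroupOfEquivOfLe hPM).toEquiv
    have hχ' : Cfsg.IsCharacter ↥M (fun z : ↥M => χ z) := Agent.Helper74.isCharacter_restrict M hχ
    have hfaith' : ∀ z : ↥M, (fun z : ↥M => χ z) z = (fun z : ↥M => χ z) 1 → z = 1 := by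
      intro z hz
      exact Subtype.ext (hfaith (z : G) hz)
    have hdeg' : Cfsg.charDegree (fun z : ↥M => χ z) ^ 2 + 1 < Nat.card (P' : Subgroup ↥M) := by
      rw [hcardP']
      exact hdeg
    have hP'n : (P' : Subgroup ↥M).Normal :=
      ih (Nat.card M) hlt ↥M rfl P' hstar' _ hχ' hfaith' hdeg'
    have hchar : (P' : Subgroup ↥M).Characteristic := Sylow.characteristic_of_normal P' hP'n
    have hmap : ((P' : Subgroup ↥M).map M.subtype).Normal :=
      ConjAct.normal_of_characteristic_of_normal
    have heq : (P' : Subgroup ↥M).map M.subtype = (P : Subgroup G) := by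
      rw [hP'coe, Subgroup.subgroupOf_map_subtype]
      exact inf_eq_left.mpr hPM
    rw [heq] at hmap
    exact hmap

/-- Let G be a finite group and p a prime dividing its order such that every non-identity element of a Sylow p-subgroup P has the same centralizer as P itself (so P is abelian); let p^n be the order of P. If G has a faithful character of degree x with x² < p^n − 1, then P is normal in G. -/
theorem result {G : Type*} [Group G] [Finite G] (p : ℕ) (hp : p.Prime) (hpG : p ∣ Nat.card G) (P : Sylow p G) (hstar : ∀ x ∈ (P : Subgroup G), x ≠ 1 → Subgroup.centralizer ({x} : Set G) = Subgroup.centralizer ((P : Subgroup G) : Set G)) (n : ℕ) (hn : Nat.card P = p ^ n) (χ : G → ℂ) (hχ : Cfsg.IsCharacter G χ) (hfaith : ∀ g : G, χ g = χ 1 → g = 1) (hdeg : Cfsg.charDegree χ ^ 2 + 1 < p ^ n) : (P : Subgroup G).Normal := by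
  haveI : Fact p.Prime := ⟨hp⟩
  refine aux p (Nat.card G) G rfl P hstar χ hχ hfaith ?_
  have : Nat.card (P : Subgroup G) = p ^ n := hn
  rw [this]; exact hdeg

end Cfsg.Agent.S4485
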