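import Cfsg.Statements.S4487
import Cfsg.Agent.Helper77.SupportOn
import Cfsg.Agent.Lib.Cores
import Cfsg.Agent.Helper74.CharCount

set_option autoImplicit false
open Cfsg

namespace Cfsg.Agent.S4487

open scoped ComplexConjugate

/-- If O_{p'}(G) = 1 and C_G(O_p(G)) ≤ O_p(G) (G is p-constrained with trivial p'-core), then all irreducible characters of G lie in one p-block. -/
theorem result {G : Type*} [Group G] [Finite G] (p : ℕ) [Fact p.Prime] (M : Ideal Cfsg.AlgInt) (hM : Cfsg.IsPModular p M) (hcore : Cfsg.pPrimeCore p G = ⊥) (hconstr : Subgroup.centralizer ((Cfsg.pCore p G) : Set G) ≤ Cfsg.pCore p G) (χ ψ : Cfsg.IrrCharacter G) : Cfsg.SameBlock M (χ : G → ℂ) (ψ : G → ℂ) := by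
  classical
  have hfin := Fintype.ofFinite G
  have hMp : M.IsPrime := hM.2.1.isPrime
  have hpp : p.Prime := Fact.out
  have hG0 : (Nat.card G : ℂ) ≠ 0 := by exact_mod_cast Nat.card_pos.ne'
  have hB : IsPBlock M (blockOf M (χ : G → ℂ)) := ⟨χ, rfl⟩
  have hP : IsPGroup p (Cfsg.pCore p G) := Cfsg.Agent.Lib.isPGroup_pCore p
  haveI hchar : (Cfsg.pCore p G).Characteristic := Cfsg.Agent.Lib.pCore_characteristic p
  haveI hnorm : (Cfsg.pCore p G).Normal := inferInstance
  -- the block idempotent vanishes off the identity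
  have h0 : ∀ g : G, g ≠ 1 → blockCoeff (blockOf M (χ : G → ℂ)) g = 0 := by
    intro g hg
    by_cases hc : g ∈ Subgroup.centralizer ((Cfsg.pCore p G) : Set G)
    · have hgP := hconstr hc
      obtain ⟨k, hk⟩ := hP ⟨g, hgP⟩
      have hk' : g ^ p ^ k = 1 := by
        have := congrArg Subtype.val hk
        simpa using this
      have hdvd : orderOf g ∣ p ^ k := orderOf_dvd_of_pow_eq_one hk'
      obtain ⟨j, _, hj⟩ := (Nat.dvd_prime_pow hpp).mp hdvd
      have hj0 : j ≠ 0 := by
        intro h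
        rw [h, pow_zero, orderOf_eq_one_iff] at hj
        exact hg hj
      refine Cfsg.Agent.Helper77.blockCoeff_eq_zero_of_dvd_orderOf hM hB g ?_
      rw [hj]
      exact dvd_pow_self p hj0
    · exact Cfsg.Agent.Helper77.blockCoeff_eq_zero_of_not_mem_centralizer hM (Cfsg.pCore p G) hP
        hB g hc
  -- idempotency at the identity
  have hconv := congrFun (Cfsg.Agent.Helper77.blockCoeff_conv_self hB) 1
  rw [Cfsg.Agent.Helper16.conv_apply] at hconv
  rw [Finset.sum_eq_single (1 : G)] at hconv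
  rotate_left
  · intro b _ hb
    rw [h0 b hb, zero_mul]
  · intro h
    exact absurd (Finset.mem_univ _) h
  rw [inv_one, mul_one] at hconv
  -- the value at the identity as a natural number
  have hval := Cfsg.Agent.Helper16.blockCoeff_eq_sum (blockOf M (χ : G → ℂ)) (1 : G)
  have hdeg : ∀ φ : IrrCharacter G, (φ : G → ℂ) 1 = (charDegree (φ : G → ℂ) : ℂ) := fun φ =>
    (Cfsg.Agent.Helper74.charDegree_cast (Cfsg.Agent.Helper74.irr_isCharacter φ)).symm
  have hval' : blockCoeff (blockOf M (χ : G → ℂ)) 1 = (Nat.card G : ℂ)⁻¹ *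
      ((∑ φ : IrrCharacter G, (if φ ∈ blockOf M (χ : G → ℂ) then
        charDegree (φ : G → ℂ) ^ 2 else 0) : ℕ) : ℂ) := by
    rw [hval]
    congr 1
    rw [Nat.cast_sum]
    refine Finset.sum_congr rfl (fun φ _ => ?_)
    rw [hdeg φ]
    split_ifs <;> simp [sq]
  have hdegpos : ∀ φ : IrrCharacter G, 0 < charDegree (φ : G → ℂ) := by
    intro φ
    rcases Nat.eq_zero_or_pos (charDegree (φ : G → ℂ)) with h | h
    · exfalso
      have h1 := hdeg φ
      rw [h] at h1
      exact Cfsg.Agent.Helper16.irr_one_ne_zero φ (by rw [h1]; simp)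
    · exact h
  set S : ℕ := ∑ φ : IrrCharacter G, (if φ ∈ blockOf M (χ : G → ℂ) then
        charDegree (φ : G → ℂ) ^ 2 else 0) with hS
  have hSpos : 0 < S := by
    have hχmem : χ ∈ blockOf M (χ : G → ℂ) := Cfsg.Agent.Helper16.sameBlock_refl _
    have hle : (if χ ∈ blockOf M (χ : G → ℂ) then charDegree (χ : G → ℂ) ^ 2 else 0) ≤ S :=
      Finset.single_le_sum (f := fun φ : IrrCharacter G =>
        (if φ ∈ blockOf M (χ : G → ℂ) then charDegree (φ : G → ℂ) ^ 2 else 0))
        (fun _ _ => Nat.zero_le _) (Finset.mem_univ χ)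
    rw [if_pos hχmem] at hle
    have := pow_pos (hdegpos χ) 2
    omega
  have hS0 : (S : ℂ) ≠ 0 := by exact_mod_cast hSpos.ne'
  have hSG : S = Nat.card G := by
    rw [hval'] at hconv
    have h1 : (Nat.card G : ℂ)⁻¹ * (S : ℂ) ≠ 0 := mul_ne_zero (inv_ne_zero hG0) hS0
    have h2 : (Nat.card G : ℂ)⁻¹ * (S : ℂ) = 1 := by
      have := mul_right_cancel₀ h1 (hconv.trans (one_mul _).symm)
      exact this
    have h3 : (S : ℂ) = (Nat.card G : ℂ) := by
      field_simp at h2
      exact h2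
    exact_mod_cast h3
  -- total sum of squares
  have htot : ∑ φ : IrrCharacter G, charDegree (φ : G → ℂ) ^ 2 = Nat.card G := by
    have h := Cfsg.Agent.Helper74.sum_irr_degree_sq (G := G)
    have : ((∑ φ : IrrCharacter G, charDegree (φ : G → ℂ) ^ 2 : ℕ) : ℂ) = (Nat.card G : ℂ) := by
      rw [← h, Nat.cast_sum]
      refine Finset.sum_congr rfl (fun φ _ => ?_)
      rw [hdeg φ]
      push_cast
      ring
    exact_mod_cast this
  have hall := (Finset.sum_eq_sum_iff_of_le (s := (Finset.univ : Finset (IrrCharacter G)))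
    (f := fun φ => (if φ ∈ blockOf M (χ : G → ℂ) then charDegree (φ : G → ℂ) ^ 2 else 0))
    (g := fun φ => charDegree (φ : G → ℂ) ^ 2)
    (fun φ _ => by
      show (if φ ∈ blockOf M (χ : G → ℂ) then charDegree (φ : G → ℂ) ^ 2 else 0) ≤ _
      split_ifs
      · exact le_rfl
      · exact Nat.zero_le _)).mp (by rw [← hS, hSG, htot])
  have hψ := hall ψ (Finset.mem_univ ψ)
  by_contra hne
  have hnot : ψ ∉ blockOf M (χ : G → ℂ) := hne
  simp only [if_neg hnot] at hψ
  have := pow_pos (hdegpos ψ) 2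
  omega

end Cfsg.Agent.S4487
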