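import Cfsg.Statements.S4489
import Cfsg.Agent.Helper75.PGFAsm
import Cfsg.Agent.Helper81.PGFA
import Cfsg.Agent.Helper81.PGFB
import Cfsg.Agent.Helper68.PGFE
import Cfsg.Agent.Helper81.NilpotentMonomial
import Cfsg.Agent.Helper15.ConjChar

set_option autoImplicit false
open Cfsg

namespace Cfsg.Agent.S4489

open Cfsg.Agent.Helper75.PGF Cfsg.Agent.Helper81.PGF Cfsg.Agent.Helper68.PGF

/-- Let P be a finite p-group of order p^a with a > 0, and χ a faithful irreducible character of P of degree f whose field of values ℚ(χ) has degree (p − 1)·p^t over ℚ. Then a ≤ (f − 1)/(p − 1) + (t + 1)·f; in integer form, (p − 1)·a ≤ (f − 1) + (p − 1)(t + 1)·f. -/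
theorem result {P : Type*} [Group P] [Finite P] (p a : ℕ) (hp : p.Prime) (ha : 0 < a) (hP : Nat.card P = p ^ a) (χ : Cfsg.IrrCharacter P) (hfaith : ∀ g : P, (χ : P → ℂ) g = (χ : P → ℂ) 1 → g = 1) (f t : ℕ) (hf : Cfsg.charDegree (χ : P → ℂ) = f) (hfield : Module.finrank ℚ (IntermediateField.adjoin ℚ (Set.range (χ : P → ℂ))) = (p - 1) * p ^ t) : (p - 1) * a ≤ (f - 1) + (p - 1) * (t + 1) * f := by
  classical
  haveI := Fintype.ofFinite P
  haveI : Fact p.Prime := ⟨hp⟩
  have hPG : IsPGroup p P := IsPGroup.of_card hP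
  haveI : Group.IsNilpotent P := hPG.isNilpotent
  obtain ⟨H, lam, hχ⟩ := Cfsg.Agent.Helper81.isMonomial_of_nilpotent _ P rfl χ.1 χ.2
  have hχ1 : (χ : P → ℂ) 1 = (H.index : ℂ) := by
    rw [hχ, Cfsg.Agent.Helper15.indFun_apply_one]
    simp
  -- `f = [P : H]`
  have hfH : f = H.index := by
    rw [← hf]
    unfold charDegree
    rw [hχ1]
    simp
  -- the core and its constituents
  obtain ⟨ν, hν⟩ := indFun_core_eq_sum H lam
  obtain ⟨n, hn⟩ : ∃ n, Nat.card ↥H.normalCore = p ^ n :=
    (hPG.to_subgroup H.normalCore).exists_card_eq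
  obtain ⟨b, hb⟩ : ∃ b, H.normalCore.index = p ^ b := hPG.index H.normalCore
  have hab : a = n + b := by
    have h1 := H.normalCore.card_mul_index
    rw [hn, hb, hP, ← pow_add] at h1
    exact (Nat.pow_right_injective hp.two_le h1).symm
  have hB := core_index_bound p hp H b hb
  -- the field of values
  have hEν : ∀ k : ↥H.normalCore, (∑ i, ((ν i k : ℂˣ) : ℂ)) ∈
      IntermediateField.adjoin ℚ (Set.range (χ : P → ℂ)) := by
    intro k
    rw [← hν k, ← hχ]
    exact IntermediateField.subset_adjoin _ _ ⟨(k : P), rfl⟩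
  -- the constituents separate the points of the core
  have hsep : ∀ k : ↥H.normalCore, (∀ μ ∈ Set.range ν, μ k = 1) → k = 1 := by
    intro k hk
    have h1 : (χ : P → ℂ) (k : P) = (χ : P → ℂ) 1 := by
      rw [hχ1]
      have h2 : (χ : P → ℂ) (k : P) = ∑ i, ((ν i k : ℂˣ) : ℂ) := by
        have := hν k
        rw [← hχ] at this
        exact this
      rw [h2]
      have h3 : ∀ i, ((ν i k : ℂˣ) : ℂ) = 1 := by
        intro i
        rw [hk (ν i) ⟨i, rfl⟩]
        rfl
      simp [h3]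
    exact Subtype.ext (hfaith (k : P) h1)
  have hcls : ∀ μ ∈ Set.range ν, ∀ m : ℕ, Nat.card ↥μ.range = p ^ m →
      p ^ (m - 1 - t) ≤
        Nat.card {μ' : ↥H.normalCore →* ℂˣ // μ' ∈ Set.range ν ∧ μ'.ker = μ.ker} := by
    rintro μ ⟨i0, rfl⟩ m hm
    exact class_card_bound p t m hp _ hfield ν hEν i0 hm
  have hE := log_card_le p t n hp hn (Set.range ν) (Set.finite_range ν) hsep hcls
  have hS : (Set.range ν).ncard ≤ H.index := by
    have h1 : (Set.range ν).ncard ≤ (Set.univ : Set (Fin H.index)).ncard := by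
      rw [← Set.image_univ]
      exact Set.ncard_image_le (Set.toFinite _)
    rw [Set.ncard_univ, Nat.card_eq_fintype_card, Fintype.card_fin] at h1
    exact h1
  -- arithmetic
  rw [hab, hfH]
  have h1 : (p - 1) * n ≤ (p - 1) * ((t + 1) * H.index) :=
    Nat.mul_le_mul_left _ (hE.trans (Nat.mul_le_mul_left _ hS))
  calc (p - 1) * (n + b) = (p - 1) * b + (p - 1) * n := by ring
    _ ≤ (H.index - 1) + (p - 1) * ((t + 1) * H.index) := Nat.add_le_add hB h1
    _ = (H.index - 1) + (p - 1) * (t + 1) * H.index := by ring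

end Cfsg.Agent.S4489
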