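import Cfsg.Statements.S4490
import Cfsg.Agent.Helper16.RealBlock
import Cfsg.Agent.Helper16.Defect
import Cfsg.Agent.Helper78.IrrTransport

set_option autoImplicit false
open Cfsg

namespace Cfsg.Agent.S4490

open Cfsg.Agent.Helper16 in
/-- Let G be a finite group and M a maximal ideal of the algebraic integers containing 2. Every 2-block B of G whose defect groups are the Sylow 2-subgroups of G (a block of full defect) and which is not the principal block is different from its complex-conjugate block, the block formed by the complex conjugates of the members of B. -/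
theorem result {G : Type*} [Group G] [Finite G] (M : Ideal Cfsg.AlgInt) (hM : Cfsg.IsPModular 2 M) (B : Set (Cfsg.IrrCharacter G)) (hB : Cfsg.IsPBlock M B) (P : Sylow 2 G) (hfull : Cfsg.IsDefectGroup 2 M B (P : Subgroup G)) (hnp : B ≠ Cfsg.principalBlock M G) : {ψ : Cfsg.IrrCharacter G | ∃ χ ∈ B, (ψ : G → ℂ) = fun g => (starRingEnd ℂ) ((χ : G → ℂ) g)} ≠ B := by
  classical
  haveI : Fintype G := Fintype.ofFinite G
  haveI hMp : M.IsPrime := IsPModular.isPrime hM
  haveI : Fact (Nat.Prime 2) := ⟨Nat.prime_two⟩
  intro hEq
  -- `B` is real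
  have hreal : IsRealSet B := by
    intro ψ hψ
    rw [← hEq] at hψ
    obtain ⟨χ, hχB, hχ⟩ := hψ
    refine ⟨χ, hχB, ?_⟩
    funext g
    rw [hχ]
    simp
  have h2 : MemLocalIdeal M 2 := by
    have := Helper77.memLocalIdeal_p hM
    simpa using this
  -- a character of odd degree in `B`
  obtain ⟨χ₀, hχ₀B, hdef, -⟩ := exists_height_zero' 2 B (Helper78.isPBlock_nonempty hMp hB)
  have hcardP := Helper77.card_defectGroup hM hB (P : Subgroup G) hfull
  have hsyl : Nat.card (P : Subgroup G) = 2 ^ (Nat.card G).factorization 2 :=
    P.card_eq_multiplicity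
  have hdeq : blockDefect 2 B = (Nat.card G).factorization 2 :=
    Nat.pow_right_injective le_rfl (hcardP.symm.trans hsyl)
  have hle := factorization_charDegree_le 2 χ₀
  have hν : (charDegree (χ₀ : G → ℂ)).factorization 2 = 0 := by omega
  have hodd : ¬ 2 ∣ charDegree (χ₀ : G → ℂ) := by
    intro hdvd
    have := (Nat.Prime.dvd_iff_one_le_factorization Nat.prime_two
      (irr_charDegree_ne_zero χ₀)).mp hdvd
    omega
  -- central characters vanish modulo the ideal on classes of even size
  have hJ : ∀ g : G, 2 ∣ (Subgroup.centralizer ({g} : Set G)).index →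
      MemLocalIdeal M (centralChar (χ₀ : G → ℂ) g) := by
    intro g hg
    by_contra hunit
    have hdvd := Helper77.pow_dvd_charDegree_of_centralChar_unit hM χ₀ g hunit
    have hidx0 : (Subgroup.centralizer ({g} : Set G)).index ≠ 0 := Subgroup.index_ne_zero_of_finite
    have h1 : 1 ≤ (Subgroup.centralizer ({g} : Set G)).index.factorization 2 :=
      (Nat.Prime.dvd_iff_one_le_factorization Nat.prime_two hidx0).mp hg
    apply hodd
    exact dvd_trans (dvd_pow_self 2 (by omega)) hdvd
  -- the inversion involution on conjugacy classes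
  let σ : ConjClasses G → ConjClasses G := fun C => ConjClasses.mk (classRep C)⁻¹
  have hσmk : ∀ g : G, σ (ConjClasses.mk g) = ConjClasses.mk g⁻¹ := by
    intro g
    show ConjClasses.mk (classRep (ConjClasses.mk g))⁻¹ = ConjClasses.mk g⁻¹
    rw [ConjClasses.mk_eq_mk_iff_isConj]
    obtain ⟨c, hc⟩ := isConj_iff.mp (isConj_classRep_mk g)
    have e : c * (classRep (ConjClasses.mk g))⁻¹ * c⁻¹ =
        (c * classRep (ConjClasses.mk g) * c⁻¹)⁻¹ := by group
    exact isConj_iff.mpr ⟨c, by rw [e, hc]⟩
  have hσσ : ∀ C, σ (σ C) = C := by
    intro C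
    show σ (ConjClasses.mk (classRep C)⁻¹) = C
    rw [hσmk, inv_inv, mk_classRep]
  have hrepσ : ∀ C, IsConj (classRep (σ C)) (classRep C)⁻¹ := fun C => isConj_classRep_mk _
  have hσone : σ (ConjClasses.mk (1 : G)) = ConjClasses.mk 1 := by rw [hσmk, inv_one]
  -- key summation principle
  have key : ∀ f : ConjClasses G → ℂ, (∀ C, MemLocalRing M (f C)) →
      (∀ C, MemLocalIdeal M (f (σ C) - f C)) →
      (∀ C, σ C = C → C ≠ ConjClasses.mk 1 → MemLocalIdeal M (f C)) →
      MemLocalIdeal M (∑ C : ConjClasses G, f C - f (ConjClasses.mk 1)) := by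
    intro f hfR hfσ hfix
    have h1 := sum_involution_memLocalIdeal h2 σ hσσ f hfR hfσ
    have hsplit := Finset.sum_filter_add_sum_filter_not (Finset.univ : Finset (ConjClasses G))
      (fun C => σ C ≠ C) f
    have hfixsum : ∑ C ∈ Finset.univ.filter (fun C => ¬ σ C ≠ C), f C =
        f (ConjClasses.mk 1) +
          ∑ C ∈ (Finset.univ.filter (fun C => ¬ σ C ≠ C)).erase (ConjClasses.mk 1), f C := by
      rw [Finset.add_sum_erase]
      simp only [Finset.mem_filter, Finset.mem_univ, true_and, not_not]
      exact hσone
    have h3 : MemLocalIdeal M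
        (∑ C ∈ (Finset.univ.filter (fun C => ¬ σ C ≠ C)).erase (ConjClasses.mk 1), f C) := by
      refine memLocalIdeal_sum _ _ (fun C hC => ?_)
      simp only [Finset.mem_erase, Finset.mem_filter, Finset.mem_univ, true_and, not_not] at hC
      exact hfix C hC.2 hC.1
    have e : ∑ C : ConjClasses G, f C - f (ConjClasses.mk 1) =
        ∑ C ∈ Finset.univ.filter (fun C => σ C ≠ C), f C +
          ∑ C ∈ (Finset.univ.filter (fun C => ¬ σ C ≠ C)).erase (ConjClasses.mk 1), f C := by
      rw [← hsplit, hfixsum]; ring
    rw [e]
    exact memLocalIdeal_add h1 h3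
  -- facts about real classes
  have hrealclass : ∀ C : ConjClasses G, σ C = C → C ≠ ConjClasses.mk 1 →
      ¬ 2 ∣ orderOf (classRep C) → 2 ∣ (Subgroup.centralizer ({classRep C} : Set G)).index := by
    intro C hC hC1 hord
    apply two_dvd_index_centralizer_of_real _ _ hord
    · have h1 : ConjClasses.mk (classRep C)⁻¹ = ConjClasses.mk (classRep C) := by
        rw [mk_classRep]; exact hC
      exact (ConjClasses.mk_eq_mk_iff_isConj.mp h1).symm
    · intro h1
      apply hC1
      rw [← mk_classRep C, h1]
  have hbc : ∀ C, blockCoeff B (classRep (σ C)) = blockCoeff B (classRep C) := by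
    intro C
    rw [isClassFunction_eq_of_isConj (isClassFunction_blockCoeff B) (hrepσ C),
      blockCoeff_inv_of_real hreal]
  have hone : classRep (ConjClasses.mk (1 : G)) = 1 := by
    have := isConj_classRep_mk (1 : G)
    exact isConj_one_left.mp this
  -- first sum: with `χ₀`
  have hsum1 : MemLocalIdeal M (1 - blockCoeff B 1) := by
    have h := key (fun C => blockCoeff B (classRep C) * centralChar (χ₀ : G → ℂ) (classRep C))
      (fun C => memLocalRing_mul (osima hB _)
        (memLocalRing_of_isIntegral (irr_isIntegral_centralChar χ₀ _)))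
      (fun C => by
        show MemLocalIdeal M (blockCoeff B (classRep (σ C)) *
          centralChar (χ₀ : G → ℂ) (classRep (σ C)) -
          blockCoeff B (classRep C) * centralChar (χ₀ : G → ℂ) (classRep C))
        rw [hbc, ← mul_sub]
        refine memLocalIdeal_mul_left (osima hB _) ?_
        have hcc : centralChar (χ₀ : G → ℂ) (classRep (σ C)) =
            centralChar (χ₀ : G → ℂ) (classRep C)⁻¹ := by
          exact (centralChar_of_isConj (irr_isClassFunction χ₀) (hrepσ C)).symm
        rw [hcc]
        exact centralChar_inv_sub_memLocalIdeal hB hreal hχ₀B _)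
      (fun C hC hC1 => by
        show MemLocalIdeal M (blockCoeff B (classRep C) *
          centralChar (χ₀ : G → ℂ) (classRep C))
        by_cases hord : 2 ∣ orderOf (classRep C)
        · rw [Helper77.blockCoeff_eq_zero_of_dvd_orderOf hM hB _ hord, zero_mul]
          exact memLocalIdeal_zero
        · exact memLocalIdeal_mul_left (osima hB _) (hJ _ (hrealclass C hC hC1 hord)))
    have hom := omega_eq_sum_classes (χ₀ : G → ℂ) (blockCoeff B) (irr_isClassFunction χ₀)
      (isClassFunction_blockCoeff B)
    rw [omega_blockCoeff, if_pos hχ₀B] at hom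
    rw [← hom, hone] at h
    have hc1 : centralChar (χ₀ : G → ℂ) 1 = 1 := by
      unfold centralChar
      have : (Subgroup.centralizer ({(1 : G)} : Set G)) = ⊤ := by
        ext x; simp [Subgroup.mem_centralizer_singleton_iff]
      rw [this, Subgroup.index_top, Nat.cast_one, one_mul, div_self (irr_one_ne_zero χ₀)]
    rwa [hc1, mul_one] at h
  -- second sum: with the principal character
  have hprin : Helper79.principalIrr G ∉ B := by
    intro hmem
    apply hnp
    exact Helper78.isPBlock_eq_of_mem_of_mem hMp hB (Helper78.isPBlock_principalBlock M G) hmem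
      (Helper78.principalIrr_mem_principalBlock M hMp G)
  have hsum2 : MemLocalIdeal M (0 - blockCoeff B 1) := by
    have hcc1 : ∀ g : G, centralChar ((Helper79.principalIrr G : IrrCharacter G) : G → ℂ) g =
        ((Subgroup.centralizer ({g} : Set G)).index : ℂ) := by
      intro g
      unfold centralChar
      show ((Subgroup.centralizer ({g} : Set G)).index : ℂ) * 1 / 1 = _
      rw [mul_one, div_one]
    have h := key (fun C => blockCoeff B (classRep C) *
        centralChar ((Helper79.principalIrr G : IrrCharacter G) : G → ℂ) (classRep C))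
      (fun C => memLocalRing_mul (osima hB _)
        (memLocalRing_of_isIntegral (irr_isIntegral_centralChar _ _)))
      (fun C => by
        show MemLocalIdeal M (blockCoeff B (classRep (σ C)) *
          centralChar ((Helper79.principalIrr G : IrrCharacter G) : G → ℂ) (classRep (σ C)) -
          blockCoeff B (classRep C) *
          centralChar ((Helper79.principalIrr G : IrrCharacter G) : G → ℂ) (classRep C))
        rw [hbc, ← mul_sub]
        refine memLocalIdeal_mul_left (osima hB _) ?_
        have hcc : centralChar ((Helper79.principalIrr G : IrrCharacter G) : G → ℂ)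
            (classRep (σ C)) =
            centralChar ((Helper79.principalIrr G : IrrCharacter G) : G → ℂ) (classRep C)⁻¹ := by
          exact (centralChar_of_isConj (irr_isClassFunction _) (hrepσ C)).symm
        rw [hcc, hcc1, hcc1, centralizer_singleton_inv, sub_self]
        exact memLocalIdeal_zero)
      (fun C hC hC1 => by
        show MemLocalIdeal M (blockCoeff B (classRep C) *
          centralChar ((Helper79.principalIrr G : IrrCharacter G) : G → ℂ) (classRep C))
        by_cases hord : 2 ∣ orderOf (classRep C)
        · rw [Helper77.blockCoeff_eq_zero_of_dvd_orderOf hM hB _ hord, zero_mul]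
          exact memLocalIdeal_zero
        · refine memLocalIdeal_mul_left (osima hB _) ?_
          rw [hcc1]
          exact (Helper77.memLocalIdeal_natCast_iff hM _).mpr (hrealclass C hC hC1 hord))
    have hom := omega_eq_sum_classes ((Helper79.principalIrr G : IrrCharacter G) : G → ℂ)
      (blockCoeff B) (irr_isClassFunction _) (isClassFunction_blockCoeff B)
    rw [omega_blockCoeff, if_neg hprin] at hom
    rw [← hom, hone, hcc1] at h
    have : (Subgroup.centralizer ({(1 : G)} : Set G)) = ⊤ := by
      ext x; simp [Subgroup.mem_centralizer_singleton_iff]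
    rwa [this, Subgroup.index_top, Nat.cast_one, mul_one] at h
  have hfinal := memLocalIdeal_sub hsum1 hsum2
  have e : 1 - blockCoeff B 1 - (0 - blockCoeff B 1) = 1 := by ring
  rw [e] at hfinal
  exact not_memLocalIdeal_one hfinal

end Cfsg.Agent.S4490
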