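import Cfsg.Statements.S4493
import Mathlib
import Cfsg.Agent.Helper80.ItoConv
import Cfsg.Agent.Helper74.Ito
import Cfsg.Agent.Helper70.PSolvable

set_option autoImplicit false
open Cfsg

namespace Cfsg.Agent.S4493

open Cfsg.Agent.Helper80

/-- Let G be a finite solvable group and p a prime. Then G has a normal abelian Sylow p-subgroup if and only if no irreducible character degree of G is divisible by p. -/
theorem result {G : Type*} [Group G] [Finite G] (hsolv : Group.IsSolvable G) (p : ℕ) (hp : p.Prime) : (∃ P : Subgroup G, P.Normal ∧ (∀ x ∈ P, ∀ y ∈ P, x * y = y * x) ∧ IsPGroup p P ∧ ¬ p ∣ P.index) ↔ ∀ χ : Cfsg.IrrCharacter G, ¬ p ∣ Cfsg.charDegree (χ : G → ℂ) := by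
  haveI : Fact p.Prime := ⟨hp⟩
  constructor
  · rintro ⟨P, hn, hc, -, hidx⟩ χ hdvd
    have := Fintype.ofFinite G
    haveI := hn
    obtain ⟨n, h1, h2⟩ := Cfsg.Agent.Helper74.ito_degree_dvd_index P hc χ.2
    have h3 : Cfsg.charDegree (χ : G → ℂ) = n := by
      have := IsCharacter.charDegree_cast (IsIrrCharacter.isCharacter χ.2)
      rw [h1] at this
      exact_mod_cast this
    rw [h3] at hdvd
    exact hidx (hdvd.trans h2)
  · intro h
    have hdeg : ∀ χ : G → ℂ, Cfsg.IsIrrCharacter G χ → ¬ p ∣ Cfsg.charDegree χ :=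
      fun χ hχ => h ⟨χ, hχ⟩
    haveI := hsolv
    have hps : Cfsg.IsPSolvable p G := Cfsg.Agent.Helper70.isPSolvable_of_isSolvable p
    obtain ⟨P⟩ : Nonempty (Sylow p G) := inferInstance
    have hn := sylow_normal_of_degrees p hps hdeg P
    have hc := sylow_comm_of_normal p hdeg P hn
    refine ⟨(P : Subgroup G), hn, ?_, P.2, P.not_dvd_index⟩
    intro x hx y hy
    have := hc.is_comm.comm (⟨x, hx⟩ : (P : Subgroup G)) ⟨y, hy⟩
    exact congrArg Subtype.val this

end Cfsg.Agent.S4493
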