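import Cfsg.Statements.S4497
import Cfsg.Agent.Helper75.SelfCent
import Cfsg.Agent.Lib.Cores

set_option autoImplicit false
open Cfsg


namespace Cfsg.Agent.S4497

open scoped commutatorElement
open Cfsg.Agent.Helper75

/-- Let the finite group G contain an element x of prime order p with C_G(x) = ⟨x⟩, let t be the number of conjugacy classes of elements of order p, and let S* = O_{p′}(G) be the largest normal subgroup of order prime to p. Then S* ≤ G′; if t ≠ p − 1 the quotient G′/S* is simple (in particular non-trivial); if t = p − 1 then G′ = S*. -/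
theorem result {G : Type*} [Group G] [Finite G] (p : ℕ) (hp : p.Prime) (x : G) (hx : orderOf x = p) (hC : Subgroup.centralizer ({x} : Set G) = Subgroup.zpowers x) (t : ℕ) (ht : Nat.card {C : ConjClasses G // ∃ g ∈ C.carrier, orderOf g = p} = t) : Cfsg.pPrimeCore p G ≤ commutator G ∧ (t ≠ p - 1 → ∀ h : ((Cfsg.pPrimeCore p G).subgroupOf (commutator G)).Normal, IsSimpleGroup (↥(commutator G) ⧸ (Cfsg.pPrimeCore p G).subgroupOf (commutator G))) ∧ (t = p - 1 → commutator G = Cfsg.pPrimeCore p G) := by
  have hcount := sc_class_count hp hx hC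
  rw [ht] at hcount
  have hp1 : 0 < p - 1 := Nat.sub_pos_of_lt hp.one_lt
  have hSp : ¬ p ∣ Nat.card (Cfsg.pPrimeCore p G) := by
    have h1 := Cfsg.Agent.Lib.card_pPrimeCore_coprime (G := G) p
    intro h
    exact hp.ne_one (Nat.Coprime.eq_one_of_dvd h1.symm h)
  have hpart1 : Cfsg.pPrimeCore p G ≤ commutator G := by
    intro u hu
    obtain ⟨s, _, hsu⟩ := sc_exists_conj_eq hp hx hC hSp hu
    rw [← hsu, ← commutatorElement_def, commutator_def]
    exact Subgroup.commutator_mem_commutator (Subgroup.mem_top _) (Subgroup.mem_top _)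
  refine ⟨hpart1, ?_, ?_⟩
  · intro hne hnormal
    have he : (Subgroup.zpowers x).relIndex (Subgroup.normalizer (Subgroup.zpowers x : Set G)) ≠ 1 := by
      intro h
      rw [h, mul_one] at hcount
      exact hne hcount
    have hxD : x ∈ commutator G := sc_mem_commutator_of_relIndex_ne_one hp hx hC he
    have hxD_ord : orderOf (⟨x, hxD⟩ : commutator G) = p := by rw [Subgroup.orderOf_mk, hx]
    have hCD := sc_subgroup hC (commutator G) hxD
    have hxS : x ∉ Cfsg.pPrimeCore p G := by
      intro h
      apply hSp
      have := orderOf_dvd_natCard (⟨x, h⟩ : Cfsg.pPrimeCore p G)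
      rwa [Subgroup.orderOf_mk, hx] at this
    refine { exists_pair_ne := ?_, eq_bot_or_eq_top_of_normal := ?_ }
    · refine ⟨QuotientGroup.mk (⟨x, hxD⟩ : commutator G), 1, ?_⟩
      rw [Ne, QuotientGroup.eq_one_iff, Subgroup.mem_subgroupOf]
      exact hxS
    · intro H hH
      set K' := H.comap (QuotientGroup.mk' ((Cfsg.pPrimeCore p G).subgroupOf (commutator G))) with hK'
      have hK'n : K'.Normal := Subgroup.Normal.comap hH _
      by_cases hdvd : p ∣ Nat.card K'
      · right
        have hxK : (⟨x, hxD⟩ : commutator G) ∈ K' := sc_mem_of_dvd_card hp hxD_ord hCD hdvd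
        have h1 : Subgroup.normalClosure ({(⟨x, hxD⟩ : commutator G)} : Set (commutator G)) ≤ K' :=
          Subgroup.normalClosure_le_normal (Set.singleton_subset_iff.mpr hxK)
        rw [sc_normalClosure_eq_top hp hx hC (commutator G) hxD le_rfl] at h1
        rw [eq_top_iff]
        intro q _
        obtain ⟨d, rfl⟩ := QuotientGroup.mk_surjective q
        have : d ∈ K' := h1 (Subgroup.mem_top d)
        exact this
      · left
        have hcop : (Nat.card K').Coprime p := ((Nat.Prime.coprime_iff_not_dvd hp).mpr hdvd).symm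
        have h1 : K' ≤ Cfsg.pPrimeCore p (commutator G) := Cfsg.Agent.Lib.le_pPrimeCore hK'n hcop
        have hchar := Cfsg.Agent.Lib.pPrimeCore_characteristic (G := commutator G) p
        have hnorm : ((Cfsg.pPrimeCore p (commutator G)).map (commutator G).subtype).Normal :=
          ConjAct.normal_of_characteristic_of_normal
        have hcard : Nat.card ((Cfsg.pPrimeCore p (commutator G)).map (commutator G).subtype) =
            Nat.card (Cfsg.pPrimeCore p (commutator G)) :=
          Nat.card_congr ((Cfsg.pPrimeCore p (commutator G)).equivMapOfInjective _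
            (commutator G).subtype_injective).symm.toEquiv
        have h2 : (Cfsg.pPrimeCore p (commutator G)).map (commutator G).subtype ≤ Cfsg.pPrimeCore p G := by
          apply Cfsg.Agent.Lib.le_pPrimeCore hnorm
          rw [hcard]
          exact Cfsg.Agent.Lib.card_pPrimeCore_coprime p
        rw [eq_bot_iff]
        intro q hq
        obtain ⟨d, rfl⟩ := QuotientGroup.mk_surjective q
        have hd : d ∈ K' := hq
        have hd2 : (d : G) ∈ Cfsg.pPrimeCore p G := h2 (Subgroup.mem_map.mpr ⟨d, h1 hd, rfl⟩)
        rw [Subgroup.mem_bot, QuotientGroup.eq_one_iff, Subgroup.mem_subgroupOf]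
        exact hd2
  · intro heq
    have he : (Subgroup.zpowers x).relIndex (Subgroup.normalizer (Subgroup.zpowers x : Set G)) = 1 := by
      rw [heq] at hcount
      exact Nat.eq_of_mul_eq_mul_left hp1 (by rw [hcount, mul_one])
    have hcard := (sc_commutator_of_relIndex_eq_one hp hx hC he).2
    have hnd : ¬ p ∣ Nat.card (commutator G) := by
      intro h
      apply sc_not_sq_dvd hp hx hC
      rw [← hcard, pow_two]
      exact Nat.mul_dvd_mul_right h p
    have hcop : (Nat.card (commutator G)).Coprime p := ((Nat.Prime.coprime_iff_not_dvd hp).mpr hnd).symm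
    exact le_antisymm (Cfsg.Agent.Lib.le_pPrimeCore inferInstance hcop) hpart1

end Cfsg.Agent.S4497
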