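import Cfsg.Statements.S4498
import Cfsg.Agent.Helper79.TwoPrimes
import Cfsg.Agent.Helper79.Linear
import Cfsg.Agent.Helper77.LocalRing

set_option autoImplicit false
open Cfsg

namespace Cfsg.Agent.S4498

open Cfsg.Agent.Helper79 in
/-- Let p and q be distinct primes dividing the order of the finite group G, and suppose G has no element of order p·q. Fix maximal ideals M_p over p and M_q over q of the algebraic integers. Then the principal p-block and the principal q-block of G have a non-principal irreducible character in common. -/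
theorem result {G : Type*} [Group G] [Finite G] (p q : ℕ) [Fact p.Prime] [Fact q.Prime] (hpq : p ≠ q) (hp : p ∣ Nat.card G) (hq : q ∣ Nat.card G) (hno : ∀ g : G, orderOf g ≠ p * q) (Mp Mq : Ideal Cfsg.AlgInt) (hMp : Cfsg.IsPModular p Mp) (hMq : Cfsg.IsPModular q Mq) : ∃ χ : Cfsg.IrrCharacter G, (χ : G → ℂ) ≠ (fun _ => 1) ∧ χ ∈ Cfsg.principalBlock Mp G ∧ χ ∈ Cfsg.principalBlock Mq G := by
  classical
  have hqp : q.Prime := Fact.out
  have := Fintype.ofFinite G
  have hMpp : Mp.IsPrime := Helper16.IsPModular.isPrime hMp
  have hMqp : Mq.IsPrime := Helper16.IsPModular.isPrime hMq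
  by_contra hcon
  push Not at hcon
  -- the two principal blocks meet in the principal character only
  have hBp : IsPBlock Mp (principalBlock Mp G) := ⟨principalIrr G, rfl⟩
  have hBq : IsPBlock Mq (principalBlock Mq G) := ⟨principalIrr G, rfl⟩
  have hmemp : principalIrr G ∈ principalBlock Mp G := Helper16.sameBlock_refl _
  have hmemq : principalIrr G ∈ principalBlock Mq G := Helper16.sameBlock_refl _
  have hinter : principalBlock Mp G ∩ principalBlock Mq G = {principalIrr G} := by
    ext χ
    simp only [Set.mem_inter_iff, Set.mem_singleton_iff]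
    constructor
    · rintro ⟨h1, h2⟩
      by_contra hne
      have hne' : (χ : G → ℂ) ≠ fun _ => 1 := fun h => hne (Subtype.ext h)
      exact hcon χ hne' h1 h2
    · rintro rfl
      exact ⟨hmemp, hmemq⟩
  obtain ⟨y, hy⟩ := exists_prime_orderOf_dvd_card' p hp
  obtain ⟨r, hr, hsum⟩ := sum_inter_eq_pow_mul hpq hMp hMq hno hBp hBq y
    (by rw [hy])
  rw [hinter, finsum_mem_singleton] at hsum
  have h1 : ((principalIrr G : IrrCharacter G) : G → ℂ) 1 *
      ((principalIrr G : IrrCharacter G) : G → ℂ) y = 1 := by simp [principalIrr]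
  rw [h1] at hsum
  have hbpos : 0 < (Nat.card G).factorization q :=
    hqp.factorization_pos_of_dvd Nat.card_pos.ne' hq
  have hqI : MemLocalIdeal Mq ((q : ℂ) ^ (Nat.card G).factorization q) := by
    have : ((q : ℂ) ^ (Nat.card G).factorization q) = ((q ^ (Nat.card G).factorization q : ℕ) : ℂ) := by
      push_cast; rfl
    rw [this, Helper77.memLocalIdeal_natCast_iff hMq]
    exact dvd_pow_self q hbpos.ne'
  have := Helper16.memLocalIdeal_mul_right hqI hr
  rw [← hsum] at this
  exact Helper16.not_memLocalIdeal_one this

end Cfsg.Agent.S4498
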