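import Cfsg.Statements.S4502
import Cfsg.Agent.Helper82.DefOne.Chain
import Cfsg.Agent.Helper82.McKayP.RegQuot
import Cfsg.Agent.Helper24.DefOneMZ2b
import Cfsg.Agent.Helper74.DefectZero
import Cfsg.Agent.Helper79.CharComplete

set_option autoImplicit false
open Cfsg

namespace Cfsg.Agent.S4502

open Cfsg.Agent.Helper16.DefOne Cfsg.Agent.Helper82.DefOne Cfsg.Agent.Helper82.McKayP in
/-- the local count: `k(N_G(P)) = |Irr(N/P)| + s(G)`, stated for a subgroup `N' = N_G(P)` -/
theorem local_count {G : Type*} [Group G] [Finite G] (p : ℕ) [Fact p.Prime] (P : Sylow p G)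
    (hP : Nat.card P = p) (N' : Subgroup G)
    (hN' : N' = Subgroup.normalizer ((P : Subgroup G) : Set G))
    [hn : ((P : Subgroup G).subgroupOf N').Normal] :
    Nat.card (Cfsg.IrrCharacter (↥N' ⧸ (P : Subgroup G).subgroupOf N')) +
        Nat.card (SingClass p G) =
      Nat.card (ConjClasses (Subgroup.normalizer ((P : Subgroup G) : Set G))) := by
  subst hN'
  have hPN : (P : Subgroup G) ≤ Subgroup.normalizer ((P : Subgroup G) : Set G) :=
    Subgroup.le_normalizer
  have hcard : Nat.card ((P : Subgroup G).subgroupOf
      (Subgroup.normalizer ((P : Subgroup G) : Set G))) = p := by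
    exact (Nat.card_congr (Subgroup.subgroupOfEquivOfLe hPN).toEquiv).trans hP
  have hidx : ¬ p ∣ ((P : Subgroup G).subgroupOf
      (Subgroup.normalizer ((P : Subgroup G) : Set G))).index := by
    intro h
    have h1 : (P : Subgroup G).relIndex (Subgroup.normalizer ((P : Subgroup G) : Set G)) ∣
        (P : Subgroup G).index := Subgroup.relIndex_dvd_index_of_le hPN
    exact P.not_dvd_index (h.trans h1)
  letI : Fintype (↥(Subgroup.normalizer ((P : Subgroup G) : Set G)) ⧸
      (P : Subgroup G).subgroupOf (Subgroup.normalizer ((P : Subgroup G) : Set G))) :=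
    Fintype.ofFinite _
  rw [Cfsg.Agent.Helper79.card_irr_eq_card_conjClasses,
    ← card_regClass_eq_quotient p _ hcard hidx, ← card_singClass_normalizer p P hP,
    ← card_conjClasses_eq p]

/-- Let G be a finite group whose order is divisible by the prime p exactly once, and let P be a Sylow p-subgroup. Then the number of irreducible characters of G of degree not divisible by p equals the number of conjugacy classes of the normalizer of P. -/
theorem result {G : Type*} [Group G] [Finite G] (p : ℕ) [Fact p.Prime] (hdiv : p ∣ Nat.card G) (hsq : ¬ p ^ 2 ∣ Nat.card G) (P : Sylow p G) : Nat.card {χ : Cfsg.IrrCharacter G // ¬ p ∣ Cfsg.charDegree (χ : G → ℂ)} = Nat.card (ConjClasses (Subgroup.normalizer ((P : Subgroup G) : Set G))) := by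
  classical
  have hp : p.Prime := Fact.out
  letI : Fintype G := Fintype.ofFinite G
  have hP : Nat.card P = p := by
    have h1 : Nat.card P = p ^ (Nat.card G).factorization p := P.card_eq_multiplicity
    have h2 : (Nat.card G).factorization p = 1 := by
      have hpos : Nat.card G ≠ 0 := Nat.card_pos.ne'
      have hge : 1 ≤ (Nat.card G).factorization p :=
        (hp.dvd_iff_one_le_factorization hpos).mp hdiv
      have hlt : ¬ 2 ≤ (Nat.card G).factorization p := by
        intro h
        exact hsq ((hp.pow_dvd_iff_le_factorization hpos).mpr h)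
      omega
    rw [h1, h2, pow_one]
  obtain ⟨M, hM⟩ := Cfsg.Agent.Helper74.exists_isPModular p hp
  have hnor := Cfsg.Agent.Helper82.DefOne.nor_eq_normalizer P hP
  haveI hn : ((P : Subgroup G).subgroupOf (Cfsg.Agent.Helper16.DefOne.nor P)).Normal := by
    rw [hnor]
    exact Subgroup.normal_in_normalizer
  have hmod : Cfsg.Agent.Helper82.DefOne.ModCount p P :=
    Cfsg.Agent.Helper24.DefOneMZ2.module_count M hM P hP hnor
  rw [Cfsg.Agent.Helper82.DefOne.card_pPrime_degree P hP hmod]
  exact local_count p P hP _ hnor

end Cfsg.Agent.S4502
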