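import Cfsg.Statements.S4505
import Cfsg.Agent.Helper16.DetLocal
import Cfsg.Agent.Helper16.DefectClasses

set_option autoImplicit false
open Cfsg

namespace Cfsg.Agent.S4505

open Cfsg.Agent.Helper16

/-- The number of p-blocks of defect exactly σ is at most the number of p-regular classes of defect exactly σ. -/
theorem result {G : Type*} [Group G] [Finite G] (p : ℕ) [Fact p.Prime] (M : Ideal Cfsg.AlgInt) (hM : Cfsg.IsPModular p M) (σ : ℕ) : Nat.card {B : Set (Cfsg.IrrCharacter G) // Cfsg.IsPBlock M B ∧ Cfsg.blockDefect p B = σ} ≤ Nat.card {C : ConjClasses G // ∃ g : G, ConjClasses.mk g = C ∧ ¬ p ∣ orderOf g ∧ (Nat.card (Subgroup.centralizer ({g} : Set G))).factorization p = σ} := by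
  classical
  haveI : Fintype G := Fintype.ofFinite G
  haveI hMp : M.IsPrime := IsPModular.isPrime hM
  haveI : Finite (IrrCharacter G) := Helper79.irr_finite
  haveI : Fintype (IrrCharacter G) := Fintype.ofFinite _
  rw [Nat.card_eq_fintype_card, Nat.card_eq_fintype_card]
  have hsel : ∀ B : {B : Set (IrrCharacter G) // IsPBlock M B ∧ blockDefect p B = σ},
      ∃ χ : IrrCharacter G, χ ∈ B.1 := by
    intro B
    exact Helper78.isPBlock_nonempty hMp B.2.1
  choose χsel hχmem using hsel
  let P : ConjClasses G → Prop := fun C => ∃ g : G, ConjClasses.mk g = C ∧ ¬ p ∣ orderOf g ∧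
      (Nat.card (Subgroup.centralizer ({g} : Set G))).factorization p = σ
  let U : Matrix {B : Set (IrrCharacter G) // IsPBlock M B ∧ blockDefect p B = σ}
      {C : ConjClasses G // P C} ℂ := fun B C => centralChar (χsel B : G → ℂ) (classRep C.1)
  let V : Matrix {B : Set (IrrCharacter G) // IsPBlock M B ∧ blockDefect p B = σ}
      {C : ConjClasses G // P C} ℂ := fun B C => blockCoeff B.1 (classRep C.1)
  have htail : ∀ B B' : {B : Set (IrrCharacter G) // IsPBlock M B ∧ blockDefect p B = σ},
      MemLocalIdeal M (∑ C : {C : ConjClasses G // ¬ P C},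
        blockCoeff B'.1 (classRep C.1) * centralChar (χsel B : G → ℂ) (classRep C.1)) := by
    intro B B'
    refine memLocalIdeal_sum _ _ (fun C _ => ?_)
    set g := classRep C.1 with hg
    by_cases hreg : p ∣ orderOf g
    · rw [Helper77.blockCoeff_eq_zero_of_dvd_orderOf hM B'.2.1 g hreg, zero_mul]
      exact memLocalIdeal_zero
    · rcases lt_trichotomy ((Nat.card (Subgroup.centralizer ({g} : Set G))).factorization p) σ
        with hlt | heq | hgt
      · refine memLocalIdeal_mul_left (osima B'.2.1 g) ?_
        apply centralChar_memLocalIdeal_of_lt hM B.2.1 (hχmem B) g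
        rw [B.2.2]
        exact hlt
      · exfalso
        exact C.2 ⟨g, mk_classRep C.1, hreg, heq⟩
      · refine memLocalIdeal_mul_right ?_
          (memLocalRing_of_isIntegral (irr_isIntegral_centralChar (χsel B) g))
        apply blockCoeff_memLocalIdeal_of_gt hM B'.2.1 g
        rw [B'.2.2]
        exact hgt
  have hfull : ∀ B B' : {B : Set (IrrCharacter G) // IsPBlock M B ∧ blockDefect p B = σ},
      (U * V.transpose) B B' = (1 : Matrix _ _ ℂ) B B' -
        ∑ C : {C : ConjClasses G // ¬ P C},
          blockCoeff B'.1 (classRep C.1) * centralChar (χsel B : G → ℂ) (classRep C.1) := by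
    intro B B'
    have h1 := omega_eq_sum_classes (χsel B : G → ℂ) (blockCoeff B'.1)
      (irr_isClassFunction (χsel B)) (isClassFunction_blockCoeff B'.1)
    rw [omega_blockCoeff] at h1
    have h2 := Fintype.sum_subtype_add_sum_subtype P
      (fun C : ConjClasses G => blockCoeff B'.1 (classRep C) *
        centralChar (χsel B : G → ℂ) (classRep C))
    have h3 : (U * V.transpose) B B' = ∑ C : {C : ConjClasses G // P C},
        blockCoeff B'.1 (classRep C.1) * centralChar (χsel B : G → ℂ) (classRep C.1) := by
      rw [Matrix.mul_apply]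
      refine Finset.sum_congr rfl (fun C _ => ?_)
      rw [Matrix.transpose_apply]
      exact mul_comm _ _
    have h4 : (1 : Matrix {B : Set (IrrCharacter G) // IsPBlock M B ∧ blockDefect p B = σ}
        {B : Set (IrrCharacter G) // IsPBlock M B ∧ blockDefect p B = σ} ℂ) B B' =
        if χsel B ∈ B'.1 then 1 else 0 := by
      rw [Matrix.one_apply]
      by_cases hBB : B = B'
      · rw [if_pos hBB, if_pos (hBB ▸ hχmem B)]
      · rw [if_neg hBB, if_neg]
        intro hmem
        apply hBB
        exact Subtype.ext (Helper78.isPBlock_eq_of_mem_of_mem hMp B.2.1 B'.2.1 (hχmem B) hmem)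
    rw [h3, h4, h1, ← h2]
    ring
  refine card_le_card_of_mul_transpose_congr_one (M := M) U V ?_ ?_
  · intro B B'
    rw [hfull]
    refine memLocalRing_sub ?_ (memLocalIdeal_memLocalRing (htail B B'))
    rw [Matrix.one_apply]
    by_cases hBB : B = B'
    · rw [if_pos hBB]; exact memLocalRing_one
    · rw [if_neg hBB]; exact memLocalRing_zero
  · intro B B'
    rw [hfull, sub_sub_cancel_left]
    exact memLocalIdeal_neg (htail B B')

end Cfsg.Agent.S4505
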