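import Cfsg.Statements.S4509
import Cfsg.Agent.Helper75.SelfCent

set_option autoImplicit false
open Cfsg


namespace Cfsg.Agent.S4509

open scoped commutatorElement
open Cfsg.Agent.Helper75

variable {G : Type*} [Group G]

/-- `|G| = p * e * n_p`. -/
theorem card_eq [Finite G] {p : ℕ} (hp : p.Prime) {x : G} (hx : orderOf x = p)
    (hC : Subgroup.centralizer ({x} : Set G) = Subgroup.zpowers x) :
    Nat.card G = p * (Subgroup.zpowers x).relIndex (Subgroup.normalizer (Subgroup.zpowers x : Set G)) *
      Nat.card {H : Subgroup G // Nat.card H = p} := by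
  have := Fact.mk hp
  rw [sc_card_subgroups_eq hp hx hC, Sylow.card_eq_index_normalizer (scSylow hp hx hC),
    scSylow_coe_set]
  have h1 : (Subgroup.zpowers x).relIndex (Subgroup.normalizer (Subgroup.zpowers x : Set G)) *
      (Subgroup.normalizer (Subgroup.zpowers x : Set G)).index = (Subgroup.zpowers x).index :=
    Subgroup.relIndex_mul_index Subgroup.le_normalizer
  have h2 := Subgroup.card_mul_index (Subgroup.zpowers x)
  rw [Nat.card_zpowers, hx] at h2
  rw [← h2, ← h1, mul_assoc]

/-- the index of the normalizer is the number of subgroups of order `p`. -/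
theorem index_normalizer [Finite G] {p : ℕ} (hp : p.Prime) {x : G} (hx : orderOf x = p)
    (hC : Subgroup.centralizer ({x} : Set G) = Subgroup.zpowers x) :
    (Subgroup.normalizer (Subgroup.zpowers x : Set G)).index =
      Nat.card {H : Subgroup G // Nat.card H = p} := by
  have := Fact.mk hp
  rw [sc_card_subgroups_eq hp hx hC, Sylow.card_eq_index_normalizer (scSylow hp hx hC),
    scSylow_coe_set]

theorem commute_of_mem_zpowers {x a b : G} (ha : a ∈ Subgroup.zpowers x) (hb : b ∈ Subgroup.zpowers x) :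
    a * b = b * a := by
  obtain ⟨i, rfl⟩ := Subgroup.mem_zpowers_iff.mp ha
  obtain ⟨j, rfl⟩ := Subgroup.mem_zpowers_iff.mp hb
  rw [← zpow_add, ← zpow_add, add_comm]

/-- A normal subgroup of order `n_p` contains `G''`. -/
theorem derived_two_le [Finite G] {p : ℕ} (hp : p.Prime) {x : G} (hx : orderOf x = p)
    (hC : Subgroup.centralizer ({x} : Set G) = Subgroup.zpowers x)
    {S : Subgroup G} [hSn : S.Normal] (hS : ¬ p ∣ Nat.card S)
    (hcard : Nat.card S = Nat.card {H : Subgroup G // Nat.card H = p}) :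
    derivedSeries G 2 ≤ S := by
  -- Step A
  have hinf := sc_inf_normalizer hp hx hC hS
  have hsup : Subgroup.normalizer (Subgroup.zpowers x : Set G) ⊔ S = ⊤ := by
    apply Subgroup.eq_top_of_card_eq
    rw [card_sup_of_inf_eq_bot _ S hinf, hcard, ← index_normalizer hp hx hC]
    exact Subgroup.card_mul_index _
  -- Step B
  have hB : commutator G ≤ Subgroup.zpowers x ⊔ S := by
    rw [commutator_def, Subgroup.commutator_le]
    intro a _ b _
    have ha : a ∈ (Subgroup.normalizer (Subgroup.zpowers x : Set G) ⊔ S : Subgroup G) := by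
      rw [hsup]; exact Subgroup.mem_top a
    have hb : b ∈ (Subgroup.normalizer (Subgroup.zpowers x : Set G) ⊔ S : Subgroup G) := by
      rw [hsup]; exact Subgroup.mem_top b
    obtain ⟨n₁, hn₁, s₁, hs₁, rfl⟩ := Subgroup.mem_sup_of_normal_right.mp ha
    obtain ⟨n₂, hn₂, s₂, hs₂, rfl⟩ := Subgroup.mem_sup_of_normal_right.mp hb
    have hcomm := sc_commutator_normalizer hC hn₁ hn₂
    rw [Subgroup.mem_sup_of_normal_right]
    refine ⟨⁅n₁, n₂⁆, hcomm, ⁅n₁, n₂⁆⁻¹ * ⁅n₁ * s₁, n₂ * s₂⁆, ?_, by group⟩
    rw [← QuotientGroup.eq_one_iff]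
    have hs1 : (QuotientGroup.mk s₁ : G ⧸ S) = 1 := (QuotientGroup.eq_one_iff s₁).mpr hs₁
    have hs2 : (QuotientGroup.mk s₂ : G ⧸ S) = 1 := (QuotientGroup.eq_one_iff s₂).mpr hs₂
    simp only [commutatorElement_def, QuotientGroup.mk_mul, QuotientGroup.mk_inv, hs1, hs2, mul_one]
    group
  -- Step C
  have hCc : ∀ c ∈ Subgroup.zpowers x ⊔ S, ∀ d ∈ Subgroup.zpowers x ⊔ S, ⁅c, d⁆ ∈ S := by
    intro c hc d hd
    obtain ⟨y₁, hy₁, s₁, hs₁, rfl⟩ := Subgroup.mem_sup_of_normal_right.mp hc
    obtain ⟨y₂, hy₂, s₂, hs₂, rfl⟩ := Subgroup.mem_sup_of_normal_right.mp hd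
    rw [← QuotientGroup.eq_one_iff]
    have hs1 : (QuotientGroup.mk s₁ : G ⧸ S) = 1 := (QuotientGroup.eq_one_iff s₁).mpr hs₁
    have hs2 : (QuotientGroup.mk s₂ : G ⧸ S) = 1 := (QuotientGroup.eq_one_iff s₂).mpr hs₂
    have hy : y₁ * y₂ = y₂ * y₁ := commute_of_mem_zpowers hy₁ hy₂
    simp only [commutatorElement_def, QuotientGroup.mk_mul, QuotientGroup.mk_inv, hs1, hs2, mul_one]
    rw [← QuotientGroup.mk_mul, hy, QuotientGroup.mk_mul]
    group
  -- Step D
  show ⁅derivedSeries G 1, derivedSeries G 1⁆ ≤ S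
  rw [derivedSeries_one, Subgroup.commutator_le]
  intro c hc d hd
  exact hCc c (hB hc) d (hB hd)

/-- if `G'' ≠ G'` then `G''` is a `p'`-group. -/
theorem not_dvd_card_derived_two [Finite G] {p : ℕ} (hp : p.Prime) {x : G} (hx : orderOf x = p)
    (hC : Subgroup.centralizer ({x} : Set G) = Subgroup.zpowers x)
    (hne : derivedSeries G 2 ≠ derivedSeries G 1) : ¬ p ∣ Nat.card (derivedSeries G 2) := by
  intro h
  apply hne
  apply le_antisymm
  · show ⁅derivedSeries G 1, derivedSeries G 1⁆ ≤ derivedSeries G 1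
    exact Subgroup.commutator_le_left _ _
  · rw [derivedSeries_one]
    exact sc_commutator_le hp hx hC h

/-- if `G'' ≠ G'` then `G' ≤ ⟨x⟩ G''`. -/
theorem commutator_le_sup [Finite G] {p : ℕ} (hp : p.Prime) {x : G} (hx : orderOf x = p)
    (hC : Subgroup.centralizer ({x} : Set G) = Subgroup.zpowers x)
    (hxD : x ∈ commutator G)
    (hne : derivedSeries G 2 ≠ derivedSeries G 1) :
    commutator G ≤ Subgroup.zpowers x ⊔ derivedSeries G 2 := by
  have hnd := not_dvd_card_derived_two hp hx hC hne
  have hcent := sc_centralizer_mk hp hx hC hnd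
  intro d hd
  -- the image of d in G/G'' commutes with the image of x
  have h1 : ⁅d, x⁆ ∈ derivedSeries G 2 := by
    show ⁅d, x⁆ ∈ ⁅derivedSeries G 1, derivedSeries G 1⁆
    rw [derivedSeries_one]
    exact Subgroup.commutator_mem_commutator hd hxD
  have h2 : (QuotientGroup.mk d : G ⧸ derivedSeries G 2) ∈
      Subgroup.centralizer ({(QuotientGroup.mk x : G ⧸ derivedSeries G 2)} : Set (G ⧸ derivedSeries G 2)) := by
    rw [Subgroup.mem_centralizer_singleton_iff]
    have h3 : (QuotientGroup.mk ⁅d, x⁆ : G ⧸ derivedSeries G 2) = 1 :=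
      (QuotientGroup.eq_one_iff _).mpr h1
    rw [commutatorElement_def] at h3
    simp only [QuotientGroup.mk_mul, QuotientGroup.mk_inv] at h3
    have h4 := mul_inv_eq_one.mp h3
    have h5 := mul_inv_eq_iff_eq_mul.mp h4
    exact h5
  rw [hcent, Subgroup.mem_zpowers_iff] at h2
  obtain ⟨k, hk⟩ := h2
  rw [← QuotientGroup.mk_zpow] at hk
  have h6 : (x ^ k)⁻¹ * d ∈ derivedSeries G 2 := by
    rw [← QuotientGroup.eq_one_iff, QuotientGroup.mk_mul, QuotientGroup.mk_inv, hk]
    group
  rw [Subgroup.mem_sup_of_normal_right]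
  exact ⟨x ^ k, Subgroup.zpow_mem_zpowers x k, (x ^ k)⁻¹ * d, h6, by group⟩

/-- if `N_G(⟨x⟩) ≠ ⟨x⟩` and `G'' ≠ G'` then `|G''| = n_p` and `|G'| = p n_p`. -/
theorem card_derived [Finite G] {p : ℕ} (hp : p.Prime) {x : G} (hx : orderOf x = p)
    (hC : Subgroup.centralizer ({x} : Set G) = Subgroup.zpowers x)
    (he : (Subgroup.zpowers x).relIndex (Subgroup.normalizer (Subgroup.zpowers x : Set G)) ≠ 1)
    (hne : derivedSeries G 2 ≠ derivedSeries G 1) :
    Nat.card (derivedSeries G 2) = Nat.card {H : Subgroup G // Nat.card H = p} ∧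
      Nat.card (commutator G) = p * Nat.card {H : Subgroup G // Nat.card H = p} := by
  have hxD : x ∈ commutator G := sc_mem_commutator_of_relIndex_ne_one hp hx hC he
  have hnd := not_dvd_card_derived_two hp hx hC hne
  have hle := commutator_le_sup hp hx hC hxD hne
  have hD2le : derivedSeries G 2 ≤ commutator G := by
    show ⁅derivedSeries G 1, derivedSeries G 1⁆ ≤ commutator G
    rw [derivedSeries_one]
    exact Subgroup.commutator_le_left _ _
  have hDeq : commutator G = Subgroup.zpowers x ⊔ derivedSeries G 2 :=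
    le_antisymm hle (sup_le (Subgroup.zpowers_le.mpr hxD) hD2le)
  -- |G'| = p |G''|
  have hinf1 : derivedSeries G 2 ⊓ Subgroup.zpowers x = ⊥ := by
    rw [eq_bot_iff]
    rintro s ⟨hs1, hs2⟩
    exact sc_eq_one_of_mem_of_mem_zpowers hp hx hnd hs1 hs2
  have hcardD : Nat.card (commutator G) = p * Nat.card (derivedSeries G 2) := by
    rw [hDeq, card_sup_of_inf_eq_bot _ _ hinf1, Nat.card_zpowers, hx]
  -- N ⊓ G' = ⟨x⟩
  have hinfN : commutator G ⊓ Subgroup.normalizer (Subgroup.zpowers x : Set G) = Subgroup.zpowers x := by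
    apply le_antisymm
    · rintro m ⟨hm1, hm2⟩
      obtain ⟨y, hy, u, hu, rfl⟩ := Subgroup.mem_sup_of_normal_right.mp (hle hm1)
      have hyN : y ∈ Subgroup.normalizer (Subgroup.zpowers x : Set G) := Subgroup.le_normalizer hy
      have huN : u ∈ Subgroup.normalizer (Subgroup.zpowers x : Set G) := by
        have : u = y⁻¹ * (y * u) := by group
        rw [this]
        exact Subgroup.mul_mem _ (Subgroup.inv_mem _ hyN) hm2
      have hu1 : u ∈ derivedSeries G 2 ⊓ Subgroup.normalizer (Subgroup.zpowers x : Set G) := ⟨hu, huN⟩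
      rw [sc_inf_normalizer hp hx hC hnd, Subgroup.mem_bot] at hu1
      rw [hu1, mul_one]; exact hy
    · exact le_inf (Subgroup.zpowers_le.mpr hxD) Subgroup.le_normalizer
  -- index G' = e
  have hidx : (commutator G).index =
      (Subgroup.zpowers x).relIndex (Subgroup.normalizer (Subgroup.zpowers x : Set G)) := by
    have hfr := sc_frattini hp hx hC hxD
    have h1 : (commutator G).relIndex (Subgroup.normalizer (Subgroup.zpowers x : Set G) ⊔ commutator G) =
        (commutator G).relIndex (Subgroup.normalizer (Subgroup.zpowers x : Set G)) :=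
      Subgroup.relIndex_sup_right _ _
    rw [hfr, Subgroup.relIndex_top_right] at h1
    rw [h1, ← Subgroup.inf_relIndex_right, hinfN]
  have hG := card_eq hp hx hC
  have hG2 := Subgroup.card_mul_index (commutator G)
  rw [hidx, hcardD, hG] at hG2
  have hepos : 0 < (Subgroup.zpowers x).relIndex (Subgroup.normalizer (Subgroup.zpowers x : Set G)) := by
    rcases Nat.eq_zero_or_pos ((Subgroup.zpowers x).relIndex (Subgroup.normalizer (Subgroup.zpowers x : Set G))) with h | h
    · exfalso
      rw [h, mul_zero, zero_mul] at hG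
      exact Nat.card_pos.ne' hG
    · exact h
  have h3 : Nat.card (derivedSeries G 2) = Nat.card {H : Subgroup G // Nat.card H = p} := by
    have h4 : (p * (Subgroup.zpowers x).relIndex (Subgroup.normalizer (Subgroup.zpowers x : Set G))) * Nat.card (derivedSeries G 2) =
        (p * (Subgroup.zpowers x).relIndex (Subgroup.normalizer (Subgroup.zpowers x : Set G))) * Nat.card {H : Subgroup G // Nat.card H = p} := by
      rw [← hG2]; ring
    exact Nat.eq_of_mul_eq_mul_left (Nat.mul_pos hp.pos hepos) h4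
  exact ⟨h3, by rw [hcardD, h3]⟩

/-- Let the finite group G contain an element x of prime order p with C_G(x) = ⟨x⟩; let t be the number of conjugacy classes of elements of order p and 1 + n·p the number of subgroups of order p. Then G has a normal subgroup of order 1 + n·p if and only if either t = p − 1, or t < p − 1 and G″ ≠ G′. Moreover, if t = p − 1 then G′ has order 1 + n·p and G/G′ is cyclic of order p; and if t < p − 1 and G″ ≠ G′ then G″ has order 1 + n·p and G′ has order p·(1 + n·p). -/
theorem result {G : Type*} [Group G] [Finite G] (p : ℕ) (hp : p.Prime) (x : G) (hx : orderOf x = p) (hC : Subgroup.centralizer ({x} : Set G) = Subgroup.zpowers x) (t : ℕ) (ht : Nat.card {C : ConjClasses G // ∃ g ∈ C.carrier, orderOf g = p} = t) (n : ℕ) (hn : Nat.card {H : Subgroup G // Nat.card H = p} = 1 + n * p) : ((∃ S : Subgroup G, S.Normal ∧ Nat.card S = 1 + n * p) ↔ (t = p - 1 ∨ (t < p - 1 ∧ derivedSeries G 2 ≠ derivedSeries G 1))) ∧ (t = p - 1 → Nat.card (commutator G) = 1 + n * p ∧ IsCyclic (G ⧸ commutator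 G) ∧ (commutator G).index = p) ∧ (t < p - 1 → derivedSeries G 2 ≠ derivedSeries G 1 → Nat.card (derivedSeries G 2) = 1 + n * p ∧ Nat.card (commutator G) = p * (1 + n * p)) := by
  have := Fact.mk hp
  have hcount := sc_class_count hp hx hC
  rw [ht] at hcount
  have hp1 : 0 < p - 1 := Nat.sub_pos_of_lt hp.one_lt
  have hG := card_eq hp hx hC
  rw [hn] at hG
  -- part (ii)
  have part2 : t = p - 1 → Nat.card (commutator G) = 1 + n * p ∧ IsCyclic (G ⧸ commutator G) ∧
      (commutator G).index = p := by
    intro heq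
    have he : (Subgroup.zpowers x).relIndex (Subgroup.normalizer (Subgroup.zpowers x : Set G)) = 1 := by
      rw [heq] at hcount
      exact Nat.eq_of_mul_eq_mul_left hp1 (by rw [hcount, mul_one])
    obtain ⟨hidx, hcard⟩ := sc_commutator_of_relIndex_eq_one hp hx hC he
    rw [he, mul_one] at hG
    refine ⟨?_, ?_, hidx⟩
    · rw [hG, mul_comm] at hcard
      exact Nat.eq_of_mul_eq_mul_left hp.pos hcard
    · apply isCyclic_of_prime_card (p := p)
      rw [← Subgroup.index_eq_card, hidx]
  -- part (iii)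
  have part3 : t < p - 1 → derivedSeries G 2 ≠ derivedSeries G 1 →
      Nat.card (derivedSeries G 2) = 1 + n * p ∧ Nat.card (commutator G) = p * (1 + n * p) := by
    intro hlt hne
    have he : (Subgroup.zpowers x).relIndex (Subgroup.normalizer (Subgroup.zpowers x : Set G)) ≠ 1 := by
      intro h
      rw [h, mul_one] at hcount
      omega
    have := card_derived hp hx hC he hne
    rw [hn] at this
    exact this
  refine ⟨⟨?_, ?_⟩, part2, part3⟩
  · rintro ⟨S, hSn, hScard⟩
    have hle : t ≤ p - 1 := by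
      rw [← hcount]
      apply Nat.le_mul_of_pos_right
      rcases Nat.eq_zero_or_pos ((Subgroup.zpowers x).relIndex (Subgroup.normalizer (Subgroup.zpowers x : Set G))) with h | h
      · rw [h, mul_zero] at hcount; omega
      · exact h
    rcases Nat.lt_or_eq_of_le hle with hlt | heq
    · right
      refine ⟨hlt, ?_⟩
      intro hDD
      have hSp : ¬ p ∣ Nat.card S := by
        rw [hScard]
        intro h
        have h2 : p ∣ n * p := Dvd.intro_left n rfl
        have h3 : p ∣ 1 := (Nat.dvd_add_left h2).mp h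
        exact hp.one_lt.ne' (Nat.dvd_one.mp h3)
      have hd2 := derived_two_le hp hx hC hSp (by rw [hScard, hn])
      have he : (Subgroup.zpowers x).relIndex (Subgroup.normalizer (Subgroup.zpowers x : Set G)) ≠ 1 := by
        intro h
        rw [h, mul_one] at hcount
        omega
      have hxD : x ∈ commutator G := sc_mem_commutator_of_relIndex_ne_one hp hx hC he
      rw [hDD, derivedSeries_one] at hd2
      have hxS : x ∈ S := hd2 hxD
      apply hSp
      have := orderOf_dvd_natCard (⟨x, hxS⟩ : S)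
      rwa [Subgroup.orderOf_mk, hx] at this
    · left; exact heq
  · rintro (heq | ⟨hlt, hne⟩)
    · exact ⟨commutator G, inferInstance, (part2 heq).1⟩
    · exact ⟨derivedSeries G 2, inferInstance, (part3 hlt hne).1⟩

end Cfsg.Agent.S4509
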