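import Cfsg.Statements.S4510
import Cfsg.Agent.Helper16.DefectClasses

set_option autoImplicit false
open Cfsg

namespace Cfsg.Agent.S4510

open Cfsg.Agent.Helper16

/-- Two irreducible characters in p-blocks of defect d lie in the same block iff their central characters agree (mod 𝔭) on the p-regular classes of defect d. -/
theorem result {G : Type*} [Group G] [Finite G] (p : ℕ) [Fact p.Prime] (M : Ideal Cfsg.AlgInt) (hM : Cfsg.IsPModular p M) (d : ℕ) (χ ψ : Cfsg.IrrCharacter G) (hχ : Cfsg.blockDefect p (Cfsg.blockOf M (χ : G → ℂ)) = d) (hψ : Cfsg.blockDefect p (Cfsg.blockOf M (ψ : G → ℂ)) = d) : Cfsg.SameBlock M (χ : G → ℂ) (ψ : G → ℂ) ↔ ∀ x : G, ¬ p ∣ orderOf x → (Nat.card (Subgroup.centralizer ({x} : Set G))).factorization p = d → Cfsg.MemLocalIdeal M (Cfsg.centralChar (χ : G → ℂ) x - Cfsg.centralChar (ψ : G → ℂ) x) := by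
  classical
  haveI : Fintype G := Fintype.ofFinite G
  haveI hMp : M.IsPrime := IsPModular.isPrime hM
  constructor
  · intro h x _ _
    exact h x
  · intro H
    obtain ⟨hcf, hR, hom⟩ := osima_strong (M := M) χ
    have hB : IsPBlock M (blockOf M (χ : G → ℂ)) := ⟨χ, rfl⟩
    have hB' : IsPBlock M (blockOf M (ψ : G → ℂ)) := ⟨ψ, rfl⟩
    have h1 := omega_eq_sum_classes (χ : G → ℂ) _ (irr_isClassFunction χ) hcf
    have h2 := omega_eq_sum_classes (ψ : G → ℂ) _ (irr_isClassFunction ψ) hcf
    have hdiff : MemLocalIdeal M (omega (χ : G → ℂ) (blockCoeff (blockOf M (χ : G → ℂ))) -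
        omega (ψ : G → ℂ) (blockCoeff (blockOf M (χ : G → ℂ)))) := by
      rw [h1, h2, ← Finset.sum_sub_distrib]
      refine memLocalIdeal_sum _ _ (fun C _ => ?_)
      rw [← mul_sub]
      set g := classRep C with hg
      by_cases hreg : p ∣ orderOf g
      · rw [Helper77.blockCoeff_eq_zero_of_dvd_orderOf hM hB g hreg, zero_mul]
        exact memLocalIdeal_zero
      · rcases lt_trichotomy ((Nat.card (Subgroup.centralizer ({g} : Set G))).factorization p) d
          with hlt | heq | hgt
        · refine memLocalIdeal_mul_left (hR g) ?_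
          apply memLocalIdeal_sub
          · apply centralChar_memLocalIdeal_of_lt hM hB (sameBlock_refl _) g
            rw [hχ]; exact hlt
          · apply centralChar_memLocalIdeal_of_lt hM hB' (sameBlock_refl _) g
            rw [hψ]; exact hlt
        · exact memLocalIdeal_mul_left (hR g) (H g hreg heq)
        · refine memLocalIdeal_mul_right ?_ (memLocalRing_sub
            (memLocalRing_of_isIntegral (irr_isIntegral_centralChar χ g))
            (memLocalRing_of_isIntegral (irr_isIntegral_centralChar ψ g)))
          apply blockCoeff_memLocalIdeal_of_gt hM hB g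
          rw [hχ]; exact hgt
    rw [hom χ, hom ψ, if_pos (sameBlock_refl _)] at hdiff
    by_contra hns
    rw [if_neg hns, sub_zero] at hdiff
    exact not_memLocalIdeal_one hdiff

end Cfsg.Agent.S4510
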