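import Cfsg.Statements.S4521
import Cfsg.Agent.Helper16.CentralProduct
import Cfsg.Agent.Helper78.IrrTransport

set_option autoImplicit false
open Cfsg

namespace Cfsg.Agent.S4521

open Cfsg.Agent.Helper16

/-- The principal character lies over the principal character of any subgroup. -/
theorem classInner_principal {G : Type*} [Group G] (U : Subgroup G) [Fintype U] :
    Cfsg.classInner (fun u : U => ((Helper79.principalIrr G : IrrCharacter G) : G → ℂ) u)
      ((Helper79.principalIrr U : IrrCharacter U) : U → ℂ) ≠ 0 := by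
  unfold classInner
  show (Nat.card U : ℂ)⁻¹ * ∑ g : U, (1 : ℂ) * (starRingEnd ℂ) 1 ≠ 0
  simp only [map_one, mul_one, Finset.sum_const, Finset.card_univ, nsmul_eq_mul]
  rw [← Nat.card_eq_fintype_card]
  have : (Nat.card U : ℂ) ≠ 0 := by
    have := Nat.card_pos (α := U)
    exact_mod_cast this.ne'
  rw [inv_mul_cancel₀ this]
  exact one_ne_zero

/-- Let the finite group G be generated by subgroups U₁ and U₂ that commute elementwise and whose intersection is a p-group, and let M be a maximal ideal of the algebraic integers containing the prime p. If the irreducible character χ of G has the irreducible constituents ψ₁ on U₁ and ψ₂ on U₂, then χ lies in the principal block of G if and only if ψ₁ and ψ₂ lie in the principal blocks of U₁ and U₂. -/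
theorem result {G : Type*} [Group G] [Fintype G] (p : ℕ) [Fact p.Prime] (M : Ideal Cfsg.AlgInt) (hM : Cfsg.IsPModular p M) (U₁ U₂ : Subgroup G) [Fintype U₁] [Fintype U₂] (hcomm : ∀ u ∈ U₁, ∀ v ∈ U₂, u * v = v * u) (hgen : U₁ ⊔ U₂ = ⊤) (hZ : IsPGroup p ↥(U₁ ⊓ U₂)) (χ : Cfsg.IrrCharacter G) (ψ₁ : Cfsg.IrrCharacter U₁) (ψ₂ : Cfsg.IrrCharacter U₂) (h₁ : Cfsg.classInner (fun u : U₁ => (χ : G → ℂ) u) (ψ₁ : U₁ → ℂ) ≠ 0) (h₂ : Cfsg.classInner (fun u : U₂ => (χ : G → ℂ) u) (ψ₂ : U₂ → ℂ) ≠ 0) : χ ∈ Cfsg.principalBlock M G ↔ (ψ₁ ∈ Cfsg.principalBlock M U₁ ∧ ψ₂ ∈ Cfsg.principalBlock M U₂) := by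
  classical
  haveI hMp : M.IsPrime := IsPModular.isPrime hM
  have hp : p.Prime := Fact.out
  have hcomm' : ∀ v ∈ U₂, ∀ u ∈ U₁, v * u = u * v := fun v hv u hu => (hcomm u hu v hv).symm
  have hgen' : U₂ ⊔ U₁ = ⊤ := by rw [sup_comm]; exact hgen
  have hZ' : IsPGroup p ↥(U₂ ⊓ U₁) := by rw [inf_comm]; exact hZ
  -- central characters of the principal character
  have hP₁ : ∀ u : U₁, centralChar ((Helper79.principalIrr G : IrrCharacter G) : G → ℂ) (u : G) =
      centralChar ((Helper79.principalIrr U₁ : IrrCharacter U₁) : U₁ → ℂ) u :=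
    centralChar_eq_centralChar_left U₁ U₂ hcomm hgen _ _ (classInner_principal U₁)
  have hP₂ : ∀ u : U₂, centralChar ((Helper79.principalIrr G : IrrCharacter G) : G → ℂ) (u : G) =
      centralChar ((Helper79.principalIrr U₂ : IrrCharacter U₂) : U₂ → ℂ) u :=
    centralChar_eq_centralChar_left U₂ U₁ hcomm' hgen' _ _ (classInner_principal U₂)
  have hC₁ : ∀ u : U₁, centralChar (χ : G → ℂ) (u : G) = centralChar (ψ₁ : U₁ → ℂ) u :=
    centralChar_eq_centralChar_left U₁ U₂ hcomm hgen χ ψ₁ h₁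
  have hC₂ : ∀ u : U₂, centralChar (χ : G → ℂ) (u : G) = centralChar (ψ₂ : U₂ → ℂ) u :=
    centralChar_eq_centralChar_left U₂ U₁ hcomm' hgen' χ ψ₂ h₂
  constructor
  · intro hχ
    have hχ' : SameBlock M ((Helper79.principalIrr G : IrrCharacter G) : G → ℂ) (χ : G → ℂ) := hχ
    refine ⟨?_, ?_⟩
    · show SameBlock M ((Helper79.principalIrr U₁ : IrrCharacter U₁) : U₁ → ℂ) (ψ₁ : U₁ → ℂ)
      intro u
      rw [← hP₁, ← hC₁]
      exact hχ' u
    · show SameBlock M ((Helper79.principalIrr U₂ : IrrCharacter U₂) : U₂ → ℂ) (ψ₂ : U₂ → ℂ)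
      intro u
      rw [← hP₂, ← hC₂]
      exact hχ' u
  · rintro ⟨hψ₁, hψ₂⟩
    have hψ₁' : SameBlock M ((Helper79.principalIrr U₁ : IrrCharacter U₁) : U₁ → ℂ)
      (ψ₁ : U₁ → ℂ) := hψ₁
    have hψ₂' : SameBlock M ((Helper79.principalIrr U₂ : IrrCharacter U₂) : U₂ → ℂ)
      (ψ₂ : U₂ → ℂ) := hψ₂
    show SameBlock M ((Helper79.principalIrr G : IrrCharacter G) : G → ℂ) (χ : G → ℂ)
    apply sameBlock_of_forall_pRegular hM
    intro g hg
    obtain ⟨u₁, hu₁, u₂, hu₂, rfl⟩ := exists_mul_of_sup_eq_top U₁ U₂ hcomm hgen g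
    obtain ⟨k, hk, hr₁, hr₂⟩ := exists_pow_pRegular_of_commute hp (hcomm u₁ hu₁ u₂ hu₂) hg
    have hv₁ : u₁ ^ k ∈ U₁ := U₁.pow_mem hu₁ k
    have hv₂ : u₂ ^ k ∈ U₂ := U₂.pow_mem hu₂ k
    have hconv := conv_classInd_mul U₁ U₂ hcomm hgen hZ hv₁ hv₂ hr₁
    have key : ∀ φ : IrrCharacter G, centralChar (φ : G → ℂ) (u₁ * u₂) =
        centralChar (φ : G → ℂ) (u₁ ^ k) * centralChar (φ : G → ℂ) (u₂ ^ k) := by
      intro φ
      rw [hk, ← omega_classInd _ (irr_isClassFunction φ), ← hconv,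
        irr_omega_conv φ (isClassFunction_classInd _) (isClassFunction_classInd _),
        omega_classInd _ (irr_isClassFunction φ), omega_classInd _ (irr_isClassFunction φ)]
    rw [key, key]
    have a1 := hψ₁' ⟨u₁ ^ k, hv₁⟩
    have a2 := hψ₂' ⟨u₂ ^ k, hv₂⟩
    rw [← hP₁ ⟨u₁ ^ k, hv₁⟩, ← hC₁ ⟨u₁ ^ k, hv₁⟩] at a1
    rw [← hP₂ ⟨u₂ ^ k, hv₂⟩, ← hC₂ ⟨u₂ ^ k, hv₂⟩] at a2
    have r1 : MemLocalRing M
        (centralChar ((Helper79.principalIrr G : IrrCharacter G) : G → ℂ) (u₁ ^ k)) :=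
      memLocalRing_of_isIntegral (irr_isIntegral_centralChar _ _)
    have r2 : MemLocalRing M (centralChar (χ : G → ℂ) (u₂ ^ k)) :=
      memLocalRing_of_isIntegral (irr_isIntegral_centralChar _ _)
    have e : centralChar ((Helper79.principalIrr G : IrrCharacter G) : G → ℂ) (u₁ ^ k) *
        centralChar ((Helper79.principalIrr G : IrrCharacter G) : G → ℂ) (u₂ ^ k) -
        centralChar (χ : G → ℂ) (u₁ ^ k) * centralChar (χ : G → ℂ) (u₂ ^ k) =
        centralChar ((Helper79.principalIrr G : IrrCharacter G) : G → ℂ) (u₁ ^ k) *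
          (centralChar ((Helper79.principalIrr G : IrrCharacter G) : G → ℂ) (u₂ ^ k) -
            centralChar (χ : G → ℂ) (u₂ ^ k)) +
        (centralChar ((Helper79.principalIrr G : IrrCharacter G) : G → ℂ) (u₁ ^ k) -
          centralChar (χ : G → ℂ) (u₁ ^ k)) * centralChar (χ : G → ℂ) (u₂ ^ k) := by ring
    rw [e]
    exact memLocalIdeal_add (memLocalIdeal_mul_left r1 a2) (memLocalIdeal_mul_right a1 r2)

end Cfsg.Agent.S4521
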