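import Cfsg.Statements.S4539
import Cfsg.Agent.Helper78.Olsson.Main

set_option autoImplicit false
open Cfsg

namespace Cfsg.Agent.S4539

/-- Let B be a p-block of the finite group G (relative to a maximal ideal M of the algebraic integers containing p) of defect d with defect group D. Let z be an element of D commuting with every element of D, and let b be a block of the centralizer C of z with defect group D that induces B (a major subsection (z, b)). If b has p-regular rank at most two, then B contains at most p ^ d irreducible characters. -/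
theorem result {G : Type*} [Group G] [Finite G] (p : ℕ) [Fact p.Prime] (M : Ideal Cfsg.AlgInt) (hM : Cfsg.IsPModular p M) (B : Set (Cfsg.IrrCharacter G)) (hB : Cfsg.IsPBlock M B) (D : Subgroup G) (hD : Cfsg.IsDefectGroup p M B D) (z : G) (hzD : z ∈ D) (hzc : ∀ d ∈ D, d * z = z * d) (b : Set (Cfsg.IrrCharacter ↥(Subgroup.centralizer ({z} : Set G)))) (hb : Cfsg.IsInducedBlock M (Subgroup.centralizer ({z} : Set G)) b B) (hbD : Cfsg.IsDefectGroup p M b (D.subgroupOf (Subgroup.centralizer ({z} : Set G)))) (hl : Cfsg.blockRank p b ≤ 2) : Nat.card B ≤ p ^ Cfsg.blockDefect p B := by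
  classical
  haveI : Fintype G := Fintype.ofFinite G
  have hpr : p.Prime := Fact.out
  haveI : Fintype (Subgroup.centralizer ({z} : Set G)) := Fintype.ofFinite _
  have hzH : z ∈ Subgroup.centralizer ({z} : Set G) := by
    rw [Subgroup.mem_centralizer_iff]
    intro g hg
    rw [Set.mem_singleton_iff] at hg
    rw [hg]
  have hDH : D ≤ Subgroup.centralizer ({z} : Set G) := by
    intro d hd
    rw [Subgroup.mem_centralizer_iff]
    intro g hg
    rw [Set.mem_singleton_iff] at hg
    rw [hg]
    exact (hzc d hd).symm
  have hyc : (⟨z, hzH⟩ : Subgroup.centralizer ({z} : Set G)) ∈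
      Subgroup.center (Subgroup.centralizer ({z} : Set G)) := by
    rw [Subgroup.mem_center_iff]
    intro g
    apply Subtype.ext
    have hg := g.2
    rw [Subgroup.mem_centralizer_iff] at hg
    exact (hg z (Set.mem_singleton z)).symm
  have hcardD : Nat.card D = p ^ blockDefect p B := Helper77.card_defectGroup hM hB D hD
  have hcardb : Nat.card (D.subgroupOf (Subgroup.centralizer ({z} : Set G))) =
      p ^ blockDefect p b := Helper77.card_defectGroup hM hb.1 _ hbD
  have hcardeq : Nat.card (D.subgroupOf (Subgroup.centralizer ({z} : Set G))) = Nat.card D :=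
    Nat.card_congr (Subgroup.subgroupOfEquivOfLe hDH).toEquiv
  have hdef : blockDefect p b = blockDefect p B := by
    apply Nat.pow_right_injective hpr.two_le
    show p ^ blockDefect p b = p ^ blockDefect p B
    rw [← hcardb, hcardeq, hcardD]
  have hy : orderOf ((⟨z, hzH⟩ : Subgroup.centralizer ({z} : Set G)) : G) ∣
      p ^ blockDefect p B := by
    show orderOf z ∣ p ^ blockDefect p B
    rw [← hcardD]
    have := orderOf_dvd_natCard (⟨z, hzD⟩ : D)
    rwa [← Subgroup.orderOf_coe] at this
  by_cases h2 : blockRank p b = 2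
  · exact Helper78.Olsson.card_block_le_of_blockRank_eq_two hM hB _ ⟨z, hzH⟩ hyc rfl
      (blockDefect p B) hy hb hdef h2
  · have h1 : blockRank p b ≤ 1 := by omega
    obtain ⟨k, -, hk⟩ := (Nat.dvd_prime_pow hpr).1 hy
    have hle := Helper16.card_block_le_pow_mul_blockRank hM hB _ ⟨z, hzH⟩ hyc rfl ⟨k, hk⟩ hb hdef
    calc Nat.card B ≤ p ^ blockDefect p B * blockRank p b := hle
      _ ≤ p ^ blockDefect p B * 1 := Nat.mul_le_mul_left _ h1
      _ = p ^ blockDefect p B := mul_one _

end Cfsg.Agent.S4539
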