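import Cfsg.Statements.S4540
import Cfsg.Agent.Helper79.Samb.MainM
import Cfsg.Agent.Helper77.DefectOrder

set_option autoImplicit false
open Cfsg

namespace Cfsg.Agent.S4540

/-- Let B be a 2-block of the finite group G (relative to a maximal ideal M of the algebraic integers containing 2) of defect d with defect group D. Let z be an element of D commuting with every element of D, and let b be a block of the centralizer C of z with defect group D that induces B (a major subsection (z, b)). If b has 2-regular rank at most three, then 3·k(B) ≤ 3·k₀(B) + 2·Σ 2 ^ h(χ), where k(B) is the number of members of B, k₀(B) the number of members of height zero, and the sum runs over the members χ of B of positive height h(χ); this bound is at most 3·2 ^ d, so in particular B contains at most 2 ^ d irreducible characters. -/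
theorem result {G : Type*} [Group G] [Finite G] (M : Ideal Cfsg.AlgInt) (hM : Cfsg.IsPModular 2 M) (B : Set (Cfsg.IrrCharacter G)) (hB : Cfsg.IsPBlock M B) (D : Subgroup G) (hD : Cfsg.IsDefectGroup 2 M B D) (z : G) (hzD : z ∈ D) (hzc : ∀ d ∈ D, d * z = z * d) (b : Set (Cfsg.IrrCharacter ↥(Subgroup.centralizer ({z} : Set G)))) (hb : Cfsg.IsInducedBlock M (Subgroup.centralizer ({z} : Set G)) b B) (hbD : Cfsg.IsDefectGroup 2 M b (D.subgroupOf (Subgroup.centralizer ({z} : Set G)))) (hl : Cfsg.blockRank 2 b ≤ 3) : 3 * Nat.card B ≤ 3 * Nat.card {χ : Cfsg.IrrCharacter G // χ ∈ B ∧ Cfsg.blockHeight 2 B (χ : G → ℂ) = 0} + 2 * (∑ᶠ χ ∈ {χ : Cfsg.IrrCharacter G | χ ∈ B ∧ 1 ≤ Cfsg.blockHeight 2 B (χ : G → ℂ)}, 2 ^ Cfsg.blockHeight 2 B (χ : G → ℂ)) ∧ 3 * Nat.card {χ : Cfsg.IrrCharacter G // χ ∈ B ∧ Cfsg.blockHeight 2 B (χ : G → ℂ) = 0} + 2 * (∑ᶠ χ ∈ {χ : Cfsg.IrrCharacter G | χ ∈ B ∧ 1 ≤ Cfsg.blockHeight 2 B (χ : G → ℂ)}, 2 ^ Cfsg.blockHeight 2 B (χ : G → ℂ)) ≤ 3 * 2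 ^ Cfsg.blockDefect 2 B := by
  classical
  haveI : Fintype G := Fintype.ofFinite G
  haveI : Fact (2 : ℕ).Prime := ⟨Nat.prime_two⟩
  have hpr : (2 : ℕ).Prime := Nat.prime_two
  haveI : Fintype (Subgroup.centralizer ({z} : Set G)) := Fintype.ofFinite _
  have hzH : z ∈ Subgroup.centralizer ({z} : Set G) := by
    rw [Subgroup.mem_centralizer_iff]
    intro g hg
    rw [Set.mem_singleton_iff] at hg
    rw [hg]
  have hDH : D ≤ Subgroup.centralizer ({z} : Set G) := by
    intro d hd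
    rw [Subgroup.mem_centralizer_iff]
    intro g hg
    rw [Set.mem_singleton_iff] at hg
    rw [hg]
    exact (hzc d hd).symm
  have hyc : (⟨z, hzH⟩ : Subgroup.centralizer ({z} : Set G)) ∈
      Subgroup.center (Subgroup.centralizer ({z} : Set G)) := by
    rw [Subgroup.mem_center_iff]
    intro g
    apply Subtype.ext
    have hg := g.2
    rw [Subgroup.mem_centralizer_iff] at hg
    exact (hg z (Set.mem_singleton z)).symm
  have hcardD : Nat.card D = 2 ^ blockDefect 2 B := Agent.Helper77.card_defectGroup hM hB D hD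
  have hcardb : Nat.card (D.subgroupOf (Subgroup.centralizer ({z} : Set G))) =
      2 ^ blockDefect 2 b := Agent.Helper77.card_defectGroup hM hb.1 _ hbD
  have hcardeq : Nat.card (D.subgroupOf (Subgroup.centralizer ({z} : Set G))) = Nat.card D :=
    Nat.card_congr (Subgroup.subgroupOfEquivOfLe hDH).toEquiv
  have hdef : blockDefect 2 b = blockDefect 2 B := by
    apply Nat.pow_right_injective hpr.two_le
    show 2 ^ blockDefect 2 b = 2 ^ blockDefect 2 B
    rw [← hcardb, hcardeq, hcardD]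
  have hy : orderOf ((⟨z, hzH⟩ : Subgroup.centralizer ({z} : Set G)) : G) ∣
      2 ^ (blockDefect 2 B + 1) := by
    show orderOf z ∣ 2 ^ (blockDefect 2 B + 1)
    refine dvd_trans ?_ (pow_dvd_pow 2 (Nat.le_succ _))
    rw [← hcardD]
    have := orderOf_dvd_natCard (⟨z, hzD⟩ : D)
    rwa [← Subgroup.orderOf_coe] at this
  -- the finsets
  set S : Finset (IrrCharacter G) := Finset.univ.filter (fun χ => χ ∈ B) with hS
  set T0 : Finset (IrrCharacter G) :=
    Finset.univ.filter (fun χ => χ ∈ B ∧ blockHeight 2 B (χ : G → ℂ) = 0) with hT0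
  set P : Finset (IrrCharacter G) :=
    Finset.univ.filter (fun χ => χ ∈ B ∧ 1 ≤ blockHeight 2 B (χ : G → ℂ)) with hP
  have hmemS : ∀ χ : IrrCharacter G, χ ∈ S ↔ χ ∈ B := by
    intro χ
    rw [hS, Finset.mem_filter]
    simp
  have hmemT0 : ∀ χ : IrrCharacter G, χ ∈ T0 ↔ χ ∈ B ∧ blockHeight 2 B (χ : G → ℂ) = 0 := by
    intro χ
    rw [hT0, Finset.mem_filter]
    simp
  have hmemP : ∀ χ : IrrCharacter G, χ ∈ P ↔ χ ∈ B ∧ 1 ≤ blockHeight 2 B (χ : G → ℂ) := by
    intro χ
    rw [hP, Finset.mem_filter]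
    simp
  have hSP : S \ T0 = P := by
    ext χ
    rw [Finset.mem_sdiff, hmemS, hmemT0, hmemP]
    constructor
    · rintro ⟨h1, h2⟩
      refine ⟨h1, ?_⟩
      by_contra h3
      exact h2 ⟨h1, by omega⟩
    · rintro ⟨h1, h2⟩
      exact ⟨h1, fun h3 => by omega⟩
  have hmain := Agent.Helper79.Samb.three_mul_card_height_le hM hB _ ⟨z, hzH⟩ hyc rfl
    (blockDefect 2 B + 1) (Nat.le_add_left 1 _) hy hb hdef hl S T0 hmemS hmemT0
  rw [hSP] at hmain
  have hX : Nat.card {χ : IrrCharacter G // χ ∈ B ∧ blockHeight 2 B (χ : G → ℂ) = 0} = T0.card := by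
    rw [Nat.card_eq_fintype_card, Fintype.card_subtype]
  have hY : (∑ᶠ χ ∈ {χ : IrrCharacter G | χ ∈ B ∧ 1 ≤ blockHeight 2 B (χ : G → ℂ)},
      2 ^ blockHeight 2 B (χ : G → ℂ)) = ∑ χ ∈ P, 2 ^ blockHeight 2 B (χ : G → ℂ) := by
    rw [finsum_mem_eq_finite_toFinset_sum _ (Set.toFinite _)]
    refine Finset.sum_congr ?_ (fun _ _ => rfl)
    ext χ
    rw [Set.Finite.mem_toFinset, hmemP]
    rfl
  have hcardB : Nat.card B = S.card := by
    rw [Nat.card_eq_fintype_card, Fintype.card_subtype]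
  rw [hX, hY, hcardB]
  refine ⟨?_, hmain⟩
  have hdisj : Disjoint T0 P := by
    rw [Finset.disjoint_left]
    intro χ h1 h2
    rw [hmemT0] at h1
    rw [hmemP] at h2
    omega
  have hunion : S = T0 ∪ P := by
    ext χ
    rw [Finset.mem_union, hmemS, hmemT0, hmemP]
    constructor
    · intro h1
      by_cases h2 : blockHeight 2 B (χ : G → ℂ) = 0
      · exact Or.inl ⟨h1, h2⟩
      · exact Or.inr ⟨h1, by omega⟩
    · rintro (h1 | h1) <;> exact h1.1
  have hScard : S.card = T0.card + P.card := by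
    rw [hunion, Finset.card_union_of_disjoint hdisj]
  have hPsum : 2 * P.card ≤ ∑ χ ∈ P, 2 ^ blockHeight 2 B (χ : G → ℂ) := by
    rw [mul_comm, ← smul_eq_mul, ← Finset.sum_const]
    refine Finset.sum_le_sum (fun χ hχ => ?_)
    rw [hmemP] at hχ
    calc 2 = 2 ^ 1 := (pow_one 2).symm
      _ ≤ 2 ^ blockHeight 2 B (χ : G → ℂ) := Nat.pow_le_pow_right (by norm_num) hχ.2
  omega

end Cfsg.Agent.S4540
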