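import Cfsg.Statements.S4541
import Cfsg.Agent.Helper16.Contribution5

set_option autoImplicit false
open Cfsg

namespace Cfsg.Agent.S4541

open Cfsg.Agent.Helper16 in
/-- Let B be a 2-block of the finite group G (relative to a maximal ideal M of the algebraic integers containing 2), u a 2-element, and b a block of the centralizer of u inducing B (a subsection (u, b)), of defect q and 2-regular rank l; write s for the integer square root of l and k₀(B) for the number of members of B of height zero. If s is odd then k₀(B) ≤ s·2 ^ q, and otherwise (s + 1)·k₀(B) ≤ l·2 ^ q; in particular k₀(B) ≤ 2 ^ q when l ≤ 3. -/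
theorem result {G : Type*} [Group G] [Finite G] (M : Ideal Cfsg.AlgInt) (hM : Cfsg.IsPModular 2 M) (B : Set (Cfsg.IrrCharacter G)) (hB : Cfsg.IsPBlock M B) (u : G) (hu : ∃ j : ℕ, orderOf u = 2 ^ j) (b : Set (Cfsg.IrrCharacter ↥(Subgroup.centralizer ({u} : Set G)))) (hb : Cfsg.IsInducedBlock M (Subgroup.centralizer ({u} : Set G)) b B) : (Odd (Nat.sqrt (Cfsg.blockRank 2 b)) → Nat.card {χ : Cfsg.IrrCharacter G // χ ∈ B ∧ Cfsg.blockHeight 2 B (χ : G → ℂ) = 0} ≤ Nat.sqrt (Cfsg.blockRank 2 b) * 2 ^ Cfsg.blockDefect 2 b) ∧ (¬ Odd (Nat.sqrt (Cfsg.blockRank 2 b)) → (Nat.sqrt (Cfsg.blockRank 2 b) + 1) * Nat.card {χ : Cfsg.IrrCharacter G // χ ∈ B ∧ Cfsg.blockHeight 2 B (χ : G → ℂ) = 0} ≤ Cfsg.blockRank 2 b * 2 ^ Cfsg.blockDefect 2 b) ∧ (Cfsg.blockRank 2 b ≤ 3 → Nat.card {χ : Cfsg.IrrCharacter G // χ ∈ B ∧ Cfsg.blockHeight 2 B (χ : G → ℂ) = 0} ≤ 2 ^ Cfsg.blockDefect 2 b) := by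
  classical
  haveI : Fintype G := Fintype.ofFinite G
  haveI : Fintype ↥(Subgroup.centralizer ({u} : Set G)) := Fintype.ofFinite _
  haveI : Fact (Nat.Prime 2) := ⟨Nat.prime_two⟩
  obtain ⟨n, hn⟩ := hu
  have hyc : (⟨u, mem_centralizer_singleton_self u⟩ : ↥(Subgroup.centralizer ({u} : Set G))) ∈
      Subgroup.center ↥(Subgroup.centralizer ({u} : Set G)) := by
    rw [Subgroup.mem_center_iff]
    intro g
    apply Subtype.ext
    have := g.2
    rw [Subgroup.mem_centralizer_iff] at this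
    exact (this u (Set.mem_singleton u)).symm
  set K0 : Finset (Cfsg.IrrCharacter G) := Finset.univ.filter
    (fun χ => χ ∈ B ∧ Cfsg.blockHeight 2 B (χ : G → ℂ) = 0) with hK0
  have hcard : Nat.card {χ : Cfsg.IrrCharacter G // χ ∈ B ∧ Cfsg.blockHeight 2 B (χ : G → ℂ) = 0} =
      K0.card := by
    rw [Nat.card_eq_fintype_card, Fintype.card_subtype]
  rw [hcard]
  rcases K0.eq_empty_or_nonempty with hemp | hne
  · rw [hemp, Finset.card_empty]
    refine ⟨fun _ => Nat.zero_le _, fun _ => ?_, fun _ => Nat.zero_le _⟩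
    rw [mul_zero]
    exact Nat.zero_le _
  · obtain ⟨a, ha, h1, h2⟩ := k0_bounds_aux hM (Subgroup.centralizer ({u} : Set G))
      ⟨u, mem_centralizer_singleton_self u⟩ hyc rfl n hn hb K0
      (fun χ hχ => (Finset.mem_filter.mp hχ).2) hne
    exact sqrt_bounds ha h1 h2

end Cfsg.Agent.S4541
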