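import Cfsg.Statements.S4549
import Cfsg.Agent.Helper76.GaloisTwoPrincipal

set_option autoImplicit false
open Cfsg

namespace Cfsg.Agent.S4549

/-- Let G be a finite group and M a maximal ideal of the algebraic integers containing 2. Let k be a natural number with g ^ k = g ^ 3 for every 2-element g and g ^ k = g for every element g of odd order (such k exist); an irreducible character χ is unchanged by g ↦ g ^ k exactly when it is fixed by the field automorphism that cubes the 2-power roots of unity and fixes the roots of unity of odd order. Then G has a normal 2-complement if and only if every member χ of the principal 2-block of odd degree with χ (g ^ k) = χ g for all g has degree one. -/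
theorem result {G : Type*} [Group G] [Finite G] (M : Ideal Cfsg.AlgInt) (hM : Cfsg.IsPModular 2 M) (k : ℕ) (hk₁ : ∀ g : G, (∃ j : ℕ, orderOf g = 2 ^ j) → g ^ k = g ^ 3) (hk₂ : ∀ g : G, Odd (orderOf g) → g ^ k = g) : Cfsg.HasNormalPComplement 2 G ↔ ∀ χ ∈ Cfsg.principalBlock M G, Odd (Cfsg.charDegree (χ : G → ℂ)) → (∀ g : G, (χ : G → ℂ) (g ^ k) = (χ : G → ℂ) g) → Cfsg.charDegree (χ : G → ℂ) = 1 := by
  classical
  let _ : Fintype G := Fintype.ofFinite G
  haveI : Fact (Nat.Prime 2) := ⟨Nat.prime_two⟩
  constructor
  · intro hG χ hχ hodd _
    apply Helper76.charDegree_eq_one_of_hasNormalPComplement 2 hM hG χ hχ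
    rw [← even_iff_two_dvd, Nat.not_even_iff_odd]
    exact hodd
  · intro h
    obtain ⟨P⟩ : Nonempty (Sylow 2 G) := inferInstance
    apply Helper76.hasNormalPComplement_of_forall_extension 2 P
    intro μ hμ
    exact Helper76.exists_linear_extension_of_fixed_two hM k hk₁ hk₂ h P μ hμ

end Cfsg.Agent.S4549
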