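import Cfsg.Statements.S4550
import Cfsg.Agent.Helper76.GaloisTwoCount

set_option autoImplicit false
open Cfsg

namespace Cfsg.Agent.S4550

/-- Let G be a finite group of even order and M a maximal ideal of the algebraic integers containing 2. Let k be a natural number with g ^ k = g ^ 3 for every 2-element g and g ^ k = g for every element g of odd order (such k exist); an irreducible character χ is unchanged by g ↦ g ^ k exactly when it is fixed by the field automorphism that cubes the 2-power roots of unity and fixes the roots of unity of odd order. Then the number of members χ of the principal 2-block of odd degree with χ (g ^ k) = χ g for all g is even. -/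
theorem result {G : Type*} [Group G] [Finite G] (M : Ideal Cfsg.AlgInt) (hM : Cfsg.IsPModular 2 M) (hev : Even (Nat.card G)) (k : ℕ) (hk₁ : ∀ g : G, (∃ j : ℕ, orderOf g = 2 ^ j) → g ^ k = g ^ 3) (hk₂ : ∀ g : G, Odd (orderOf g) → g ^ k = g) : Even (Nat.card {χ : Cfsg.IrrCharacter G // χ ∈ Cfsg.principalBlock M G ∧ Odd (Cfsg.charDegree (χ : G → ℂ)) ∧ ∀ g : G, (χ : G → ℂ) (g ^ k) = (χ : G → ℂ) g}) := by
  classical
  let _ : Fintype G := Fintype.ofFinite G
  let _ := Helper74.irrFintype G
  have hk := Helper76.coprime_card_of_pow_eq k hk₁ hk₂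
  have h := Helper76.even_card_fixed_odd_principalBlock hM hev k hk₁ hk₂ hk
  have e : Nat.card {χ : Cfsg.IrrCharacter G // χ ∈ Cfsg.principalBlock M G ∧
      Odd (Cfsg.charDegree (χ : G → ℂ)) ∧ ∀ g : G, (χ : G → ℂ) (g ^ k) = (χ : G → ℂ) g}
      = (((Set.toFinite (Cfsg.principalBlock M G)).toFinset.filter
        (fun ψ : Cfsg.IrrCharacter G => Helper79.irrPow k hk ψ = ψ)).filter
          (fun ψ : Cfsg.IrrCharacter G => Odd (Cfsg.charDegree (ψ : G → ℂ)))).card := by
    rw [Nat.card_eq_fintype_card, Fintype.card_subtype]
    congr 1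
    ext χ
    simp only [Finset.mem_filter, Finset.mem_univ, true_and, Set.Finite.mem_toFinset]
    have hfix : Helper79.irrPow k hk χ = χ ↔ ∀ g : G, (χ : G → ℂ) (g ^ k) = (χ : G → ℂ) g := by
      constructor
      · intro h g
        exact congrFun (congrArg Subtype.val h) g
      · intro h
        apply Subtype.ext
        funext g
        exact h g
    rw [hfix]
    tauto
  rw [e]
  exact h

end Cfsg.Agent.S4550
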