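import Cfsg.Statements.S4560
import Cfsg.Agent.Helper76.AltSmallChars

set_option autoImplicit false
open Cfsg

namespace Cfsg.Agent.S4560

/-- For n ≥ 7 the alternating group on n letters has an irreducible character that vanishes at some 2-element and is the restriction of an irreducible character of the symmetric group, and an irreducible character that vanishes at some element of order 3 and is the restriction of an irreducible character of the symmetric group. -/
theorem result (n : ℕ) (hn : 7 ≤ n) : (∃ χ : Cfsg.IrrCharacter (alternatingGroup (Fin n)), (∃ x : alternatingGroup (Fin n), (∃ j : ℕ, orderOf x = 2 ^ j) ∧ (χ : alternatingGroup (Fin n) → ℂ) x = 0) ∧ ∃ ψ : Cfsg.IrrCharacter (Equiv.Perm (Fin n)), ∀ x : alternatingGroup (Fin n), (ψ : Equiv.Perm (Fin n) → ℂ) x = (χ : alternatingGroup (Fin n) → ℂ) x) ∧ (∃ χ : Cfsg.IrrCharacter (alternatingGroup (Fin n)), (∃ y : alternatingGroup (Fin n), orderOf y = 3 ∧ (χ : alternatingGroup (Fin n) → ℂ) y = 0) ∧ ∃ ψ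 : Cfsg.IrrCharacter (Equiv.Perm (Fin n)), ∀ x : alternatingGroup (Fin n), (ψ : Equiv.Perm (Fin n) → ℂ) x = (χ : alternatingGroup (Fin n) → ℂ) x) := by
  have h6 : 6 ≤ n := by omega
  have hns : ∀ x : Equiv.Perm (Fin n), 2 ∉ x.cycleType →
      ∀ a : Fin n, x • x • a = a → x • a = a := fun x h2 a ha =>
    Helper76.no_swap_of_two_notMem_cycleType x h2 a ha
  constructor
  · -- the 2-element
    rcases Nat.lt_or_ge n 8 with h8 | h8
    · obtain rfl : n = 7 := by omega
      obtain ⟨x, hsign, hord, hfix⟩ := Helper76.exists_two_elt_seven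
      have hx : x ∈ alternatingGroup (Fin 7) := Equiv.Perm.mem_alternatingGroup.mpr hsign
      obtain ⟨χ, hχ, ψ, hψ⟩ := Helper76.exists_irr_pair 7 h6 x hx
        (Or.inl (Helper76.chiStd_eq_zero x hfix))
      refine ⟨χ, ⟨⟨x, hx⟩, ?_, hχ⟩, ψ, hψ⟩
      obtain ⟨j, hj⟩ := hord
      exact ⟨j, by rw [Subgroup.orderOf_mk, hj]⟩
    · obtain ⟨x, hsign, hord, h2, hfix⟩ := Helper76.exists_two_elt n h8
      have hx : x ∈ alternatingGroup (Fin n) := Equiv.Perm.mem_alternatingGroup.mpr hsign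
      have hzero : Helper76.chiStd (Equiv.Perm (Fin n)) (Fin n) x = 0 ∨
          Helper76.psiA (Equiv.Perm (Fin n)) (Fin n) x = 0 ∨
          Helper76.psiB (Equiv.Perm (Fin n)) (Fin n) x = 0 := by
        have hlt : n % 4 < 4 := Nat.mod_lt _ (by norm_num)
        have hcases : n % 4 = 0 ∨ n % 4 = 3 ∨ n % 4 = 1 ∨ n % 4 = 2 := by omega
        rcases hcases with h | h | h | h
        · exact Or.inr (Or.inl (Helper76.psiA_eq_zero x (hns x h2) (Or.inl (hfix.trans h))))
        · exact Or.inr (Or.inl (Helper76.psiA_eq_zero x (hns x h2) (Or.inr (hfix.trans h))))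
        · exact Or.inr (Or.inr (Helper76.psiB_eq_zero x (hns x h2) (Or.inl (hfix.trans h))))
        · exact Or.inr (Or.inr (Helper76.psiB_eq_zero x (hns x h2) (Or.inr (hfix.trans h))))
      obtain ⟨χ, hχ, ψ, hψ⟩ := Helper76.exists_irr_pair n h6 x hx hzero
      refine ⟨χ, ⟨⟨x, hx⟩, ?_, hχ⟩, ψ, hψ⟩
      obtain ⟨j, hj⟩ := hord
      exact ⟨j, by rw [Subgroup.orderOf_mk, hj]⟩
  · -- the element of order 3
    obtain ⟨y, hsign, hord, h2, hfix⟩ := Helper76.exists_three_elt n (by omega)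
    have hy : y ∈ alternatingGroup (Fin n) := Equiv.Perm.mem_alternatingGroup.mpr hsign
    have hzero : Helper76.chiStd (Equiv.Perm (Fin n)) (Fin n) y = 0 ∨
        Helper76.psiA (Equiv.Perm (Fin n)) (Fin n) y = 0 ∨
        Helper76.psiB (Equiv.Perm (Fin n)) (Fin n) y = 0 := by
      have hlt : n % 3 < 3 := Nat.mod_lt _ (by norm_num)
      have hcases : n % 3 = 0 ∨ n % 3 = 1 ∨ n % 3 = 2 := by omega
      rcases hcases with h | h | h
      · exact Or.inr (Or.inl (Helper76.psiA_eq_zero y (hns y h2) (Or.inl (hfix.trans h))))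
      · exact Or.inr (Or.inr (Helper76.psiB_eq_zero y (hns y h2) (Or.inl (hfix.trans h))))
      · exact Or.inr (Or.inr (Helper76.psiB_eq_zero y (hns y h2) (Or.inr (hfix.trans h))))
    obtain ⟨χ, hχ, ψ, hψ⟩ := Helper76.exists_irr_pair n h6 y hy hzero
    exact ⟨χ, ⟨⟨y, hy⟩, by rw [Subgroup.orderOf_mk, hord], hχ⟩, ψ, hψ⟩

end Cfsg.Agent.S4560
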