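import Cfsg.Statements.S4563
import Cfsg.Agent.Helper82.RamifiedInduced
import Cfsg.Agent.Lib.HallConverse
-- import your own Cfsg.Agent.* helpers here

set_option autoImplicit false
open Cfsg

namespace Cfsg.Agent.S4563

/-- Let χ be an irreducible character of the finite group H that is fully ramified over the normal subgroup Z: the restriction of χ to Z is e times an irreducible character of Z with e ^ 2 equal to the index of Z. If K is a proper normal subgroup of H containing Z and χ is induced from a character of K, then H/K is solvable; in particular, if K is solvable then so is H. -/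
theorem result {H : Type*} [Group H] [Fintype H] (Z : Subgroup H) [Z.Normal] (χ : Cfsg.IrrCharacter H) (hfr : ∃ (θ : Cfsg.IrrCharacter ↥Z) (e : ℕ), e ^ 2 = Z.index ∧ ∀ z : ↥Z, (χ : H → ℂ) z = (e : ℂ) * (θ : ↥Z → ℂ) z) (K : Subgroup H) [K.Normal] [Fintype K] (hZK : Z ≤ K) (hK : K ≠ ⊤) (φ : ↥K → ℂ) (hφ : Cfsg.IsCharacter ↥K φ) (hind : Cfsg.indFun K φ = (χ : H → ℂ)) : Group.IsSolvable (H ⧸ K) ∧ (Group.IsSolvable ↥K → Group.IsSolvable H) := by
  classical
  obtain ⟨θ, e, he2, hχZ⟩ := hfr
  let _ : Fintype Z := Fintype.ofFinite Z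
  have hFR : Helper82.IsFullyRamified Z (χ : H → ℂ) (θ : Z → ℂ) e :=
    { irr := χ.2, irr' := θ.2, sq := he2, res := hχZ }
  have hsolv : Group.IsSolvable (H ⧸ K) := by
    apply Lib.isSolvable_of_hasPComplements
    intro p hp
    haveI : Fact p.Prime := ⟨hp⟩
    apply hFR.exists_pComplement K hZK p
    intro y hyK _ φ' hφ' heq
    apply hyK
    exact hFR.inertia_le_of_induced K hZK hφ hind φ' hφ'
      ((Helper15.mem_inertia K (φ' : K → ℂ) y).mpr heq)
  refine ⟨hsolv, fun hKs => ?_⟩
  exact solvable_of_ker_le_range K.subtype (QuotientGroup.mk' K)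
    (by rw [QuotientGroup.ker_mk', Subgroup.range_subtype])

end Cfsg.Agent.S4563
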