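import Cfsg.Statements.S4564
import Cfsg.Agent.Helper82.RamifiedCyclicSylow
-- import your own Cfsg.Agent.* helpers here

set_option autoImplicit false
open Cfsg

namespace Cfsg.Agent.S4564

/-- Let χ be an irreducible character of the finite group H that is fully ramified over the normal subgroup Z: the restriction of χ to Z is e times an irreducible character of Z with e ^ 2 equal to the index of Z. Let K be a normal subgroup of H containing Z and P a cyclic Sylow p-subgroup of H/K. Then P has a complement in H/K: a subgroup meeting P trivially whose product with P is the whole group. -/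
theorem result {H : Type*} [Group H] [Finite H] (Z : Subgroup H) [Z.Normal] (χ : Cfsg.IrrCharacter H) (hfr : ∃ (θ : Cfsg.IrrCharacter ↥Z) (e : ℕ), e ^ 2 = Z.index ∧ ∀ z : ↥Z, (χ : H → ℂ) z = (e : ℂ) * (θ : ↥Z → ℂ) z) (K : Subgroup H) [K.Normal] (hZK : Z ≤ K) (p : ℕ) [Fact p.Prime] (P : Sylow p (H ⧸ K)) (hcyc : IsCyclic P) : ∃ M : Subgroup (H ⧸ K), M.IsComplement' (P : Subgroup (H ⧸ K)) := by
  classical
  obtain ⟨θ, e, he2, hχZ⟩ := hfr
  have hp : p.Prime := Fact.out
  let _ : Fintype H := Fintype.ofFinite H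
  let _ : Fintype Z := Fintype.ofFinite Z
  let _ : Fintype K := Fintype.ofFinite K
  have hFR : Helper82.IsFullyRamified Z (χ : H → ℂ) (θ : Z → ℂ) e :=
    { irr := χ.2, irr' := θ.2, sq := he2, res := hχZ }
  obtain ⟨M, ⟨k, hk⟩, hM⟩ := hFR.exists_pComplement K hZK p
    (fun y hyK hyp φ hφ => hFR.conjFun_ne_of_cyclic_sylow K hZK p P hcyc φ hφ y hyK hyp)
  refine ⟨M, ?_⟩
  have h1 : Nat.card M * M.index = Nat.card (H ⧸ K) := M.card_mul_index
  have hM0 : Nat.card M ≠ 0 := Nat.card_pos.ne'
  have h2 : Nat.card P = p ^ k := by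
    rw [P.card_eq_multiplicity, ← h1, hk]
    congr 1
    rw [Nat.factorization_mul hM0 (pow_ne_zero _ hp.ne_zero), Finsupp.add_apply,
      Nat.factorization_eq_zero_of_not_dvd hM, zero_add, Nat.Prime.factorization_pow hp]
    simp
  apply Subgroup.isComplement'_of_coprime
  · rw [h2, ← hk]
    exact h1
  · rw [h2]
    exact Nat.Coprime.pow_right k (Nat.Coprime.symm ((Nat.Prime.coprime_iff_not_dvd hp).mpr hM))

end Cfsg.Agent.S4564
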