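import Cfsg.Statements.S4565
import Cfsg.Agent.Helper82.RamifiedCyclic
-- import your own Cfsg.Agent.* helpers here

set_option autoImplicit false
open Cfsg

namespace Cfsg.Agent.S4565

open scoped ComplexConjugate in
/-- Let χ be an irreducible character of the finite group H that is fully ramified over the normal subgroup Z: the restriction of χ to Z is e times an irreducible character of Z with e ^ 2 equal to the index of Z. If Z ≠ H, then H/Z has no cyclic subgroup that is its own centralizer. -/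
theorem result {H : Type*} [Group H] [Finite H] (Z : Subgroup H) [Z.Normal] (χ : Cfsg.IrrCharacter H) (hfr : ∃ (θ : Cfsg.IrrCharacter ↥Z) (e : ℕ), e ^ 2 = Z.index ∧ ∀ z : ↥Z, (χ : H → ℂ) z = (e : ℂ) * (θ : ↥Z → ℂ) z) (hZ : Z ≠ ⊤) (C : Subgroup (H ⧸ Z)) (hC : IsCyclic C) : Subgroup.centralizer (C : Set (H ⧸ Z)) ≠ C := by
  classical
  intro hcent
  obtain ⟨θ, e, he2, hχZ⟩ := hfr
  let _ : Fintype H := Fintype.ofFinite H
  let _ : Fintype Z := Fintype.ofFinite Z
  have hZn : Z.Normal := inferInstance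
  have he : e ≠ 0 := by
    intro h0
    rw [h0] at he2
    have : Z.index ≠ 0 := Subgroup.index_ne_zero_of_finite
    exact this (by rw [← he2]; norm_num)
  have heC : (e : ℂ) ≠ 0 := by exact_mod_cast he
  have hZ0 : (Nat.card Z : ℂ) ≠ 0 := by
    have : 0 < Nat.card Z := Nat.card_pos
    exact_mod_cast this.ne'
  -- `χ` vanishes off `Z`
  have hvan : ∀ g : H, g ∉ Z → (χ : H → ℂ) g = 0 := by
    intro g hg
    apply Helper82.vanish_off_of_sum_normSq Z χ _ hg
    have h1 := Helper74.irr_inner_self θ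
    rw [Helper74.classInner_def] at h1
    have h2 : ∑ z : Z, (θ : Z → ℂ) z * conj ((θ : Z → ℂ) z) = (Nat.card Z : ℂ) := by
      field_simp at h1
      exact h1
    calc ∑ z : Z, (χ : H → ℂ) z * conj ((χ : H → ℂ) z)
        = ∑ z : Z, (e : ℂ) ^ 2 * ((θ : Z → ℂ) z * conj ((θ : Z → ℂ) z)) := by
          refine Finset.sum_congr rfl fun z _ => ?_
          rw [hχZ z, map_mul, Complex.conj_natCast]; ring
      _ = (e : ℂ) ^ 2 * (Nat.card Z : ℂ) := by rw [← Finset.mul_sum, h2]
      _ = (Nat.card H : ℂ) := by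
          have := Subgroup.index_mul_card Z
          rw [← this, ← he2]; push_cast; ring
  -- `θ` is `H`-invariant
  have hχcf := Helper74.irr_isClassFunction χ
  have hθinv : ∀ (x : H) (z : Z), (θ : Z → ℂ) ⟨x * z * x⁻¹, hZn.conj_mem z z.2 x⟩ =
      (θ : Z → ℂ) z := by
    intro x z
    have h1 := hχZ ⟨x * z * x⁻¹, hZn.conj_mem z z.2 x⟩
    have h2 := hχZ z
    have h3 : (χ : H → ℂ) (x * z * x⁻¹) = (χ : H → ℂ) z := hχcf z x
    simp only at h1
    rw [h3, h2] at h1
    exact (mul_left_cancel₀ heC h1).symm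
  -- the preimage `K` of `C`
  set K : Subgroup H := C.comap (QuotientGroup.mk' Z) with hK
  have hZK : Z ≤ K := by
    intro z hz
    show (QuotientGroup.mk' Z z) ∈ C
    rw [QuotientGroup.mk'_apply, (QuotientGroup.eq_one_iff z).mpr hz]
    exact C.one_mem
  let _ : Fintype K := Fintype.ofFinite K
  let _ : Fintype C := Fintype.ofFinite C
  let _ := Helper74.irrFintype C
  let φ : K →* C := (QuotientGroup.mk' Z).subgroupComap C
  have hφ : ∀ k : K, ((φ k : C) : H ⧸ Z) = ((k : H) : H ⧸ Z) := fun k => rfl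
  have hA : ∀ a b : C, a * b = b * a := fun a b => Helper82.comm_of_isCyclic a b
  have hφZ : ∀ k : K, (k : H) ∈ Z → φ k = 1 := by
    intro k hk
    apply Subtype.ext
    rw [hφ, (QuotientGroup.eq_one_iff (k : H)).mpr hk]
    rfl
  obtain ⟨c₀, hc₀⟩ := hC.exists_generator
  by_cases hc1 : c₀ = 1
  · -- `C = ⊥`
    have hCbot : C = ⊥ := by
      rw [eq_bot_iff]
      intro c hc
      obtain ⟨k, hk⟩ := Subgroup.mem_zpowers_iff.mp (hc₀ ⟨c, hc⟩)
      rw [hc1, one_zpow] at hk
      have := congrArg Subtype.val hk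
      rw [Subgroup.mem_bot]
      exact this.symm
    apply hZ
    rw [eq_top_iff]
    intro h _
    have h1 : (h : H ⧸ Z) ∈ Subgroup.centralizer (C : Set (H ⧸ Z)) := by
      rw [Subgroup.mem_centralizer_iff]
      intro c hc
      have hc' : c ∈ C := hc
      rw [hCbot, Subgroup.mem_bot] at hc'
      rw [hc', one_mul, mul_one]
    rw [hcent, hCbot, Subgroup.mem_bot] at h1
    exact (QuotientGroup.eq_one_iff h).mp h1
  · obtain ⟨g₀, hg₀⟩ := QuotientGroup.mk_surjective (c₀ : H ⧸ Z)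
    have hg₀K : g₀ ∈ K := by
      show (QuotientGroup.mk' Z g₀) ∈ C
      rw [QuotientGroup.mk'_apply, hg₀]
      exact c₀.2
    have hφg₀ : φ ⟨g₀, hg₀K⟩ = c₀ := Subtype.ext (by rw [hφ]; exact hg₀)
    -- `K ⧸ Z'` is cyclic
    have hcycK : IsCyclic (K ⧸ Z.subgroupOf K) := by
      refine ⟨⟨((⟨g₀, hg₀K⟩ : K) : K ⧸ Z.subgroupOf K), ?_⟩⟩
      intro q
      obtain ⟨k, rfl⟩ := QuotientGroup.mk_surjective q
      obtain ⟨j, hj⟩ := Subgroup.mem_zpowers_iff.mp (hc₀ (φ k))
      refine Subgroup.mem_zpowers_iff.mpr ⟨j, ?_⟩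
      rw [← QuotientGroup.mk_zpow, QuotientGroup.eq, Subgroup.mem_subgroupOf]
      rw [← QuotientGroup.eq_one_iff]
      have h1 := congrArg Subtype.val hj
      rw [hφ, ← hφg₀] at h1
      simp only [Subgroup.coe_mul, Subgroup.coe_inv, Subgroup.coe_zpow, QuotientGroup.mk_mul,
        QuotientGroup.mk_inv, QuotientGroup.mk_zpow]
      rw [← h1]
      simp only [Subgroup.coe_zpow, hφ]
      group
    have habK : ∀ a b : K ⧸ Z.subgroupOf K, a * b = b * a := fun a b =>
      Helper82.comm_of_isCyclic a b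
    -- the character `θ'` of `Z' = Z ∩ K`
    set θ' : Z.subgroupOf K → ℂ := fun n => (θ : Z → ℂ) ⟨((n : K) : H), n.2⟩ with hθ'
    have hθ'irr : IsIrrCharacter (Z.subgroupOf K) θ' :=
      Helper80.IsIrrCharacter.comp_surjective θ.2 (Subgroup.subgroupOfEquivOfLe hZK).toMonoidHom
        (Subgroup.subgroupOfEquivOfLe hZK).surjective
    obtain ⟨θh, hθh, hθhext⟩ := Cfsg.Agent.S0886.result (Z.subgroupOf K) hcycK θ' hθ'irr
      (fun k n => hθinv (k : H) ⟨((n : K) : H), n.2⟩)
    have hθhc := Helper74.isCharacter_of_isIrr hθh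
    have hθhcf := Helper74.isClassFunction_of_isCharacter hθhc
    have hθhZ' : IsIrrCharacter (Z.subgroupOf K) (fun n : Z.subgroupOf K => θh n) := by
      have : (fun n : Z.subgroupOf K => θh n) = θ' := funext hθhext
      rw [this]; exact hθ'irr
    -- an element of the coset of `g₀` where `θh` does not vanish
    have hco := Helper82.coset_orthogonality (Z.subgroupOf K) habK hθh hθh hθhZ' ⟨g₀, hg₀K⟩
      (fun _ _ _ => rfl)
    rw [if_pos rfl] at hco
    have hex : ∃ n : Z.subgroupOf K, θh ((n : K) * ⟨g₀, hg₀K⟩) ≠ 0 := by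
      by_contra hcon
      push Not at hcon
      rw [Finset.sum_eq_zero (fun n _ => by rw [hcon n, zero_mul]), mul_zero] at hco
      exact zero_ne_one hco
    obtain ⟨n, hn⟩ := hex
    set g' : K := (n : K) * ⟨g₀, hg₀K⟩ with hg'
    have hφg' : φ g' = c₀ := by
      rw [hg', map_mul, hφZ (n : K) n.2, one_mul, hφg₀]
    have hg'Z : (g' : H) ∉ Z := by
      intro hmem
      apply hc1
      rw [← hφg']
      exact hφZ g' hmem
    -- the key sum
    have hself : ∀ x : H, ∀ hx : x⁻¹ * (g' : H) * x ∈ K,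
        φ ⟨x⁻¹ * g' * x, hx⟩ = φ g' → x ∈ K := by
      intro x hx hφx
      have h1 := congrArg Subtype.val hφx
      rw [hφ, hφ] at h1
      simp only [QuotientGroup.mk_mul, QuotientGroup.mk_inv] at h1
      have h2 : ((g' : H) : H ⧸ Z) = (c₀ : H ⧸ Z) := by rw [← hφ, hφg']
      rw [h2] at h1
      have hcomm : Commute (c₀ : H ⧸ Z) (x : H ⧸ Z) := by
        show (c₀ : H ⧸ Z) * (x : H ⧸ Z) = (x : H ⧸ Z) * (c₀ : H ⧸ Z)
        calc (c₀ : H ⧸ Z) * (x : H ⧸ Z)
            = (x : H ⧸ Z) * ((x : H ⧸ Z)⁻¹ * (c₀ : H ⧸ Z) * (x : H ⧸ Z)) := by group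
          _ = (x : H ⧸ Z) * (c₀ : H ⧸ Z) := by rw [h1]
      have hxC : (x : H ⧸ Z) ∈ Subgroup.centralizer (C : Set (H ⧸ Z)) := by
        rw [Subgroup.mem_centralizer_iff]
        intro c hc
        obtain ⟨j, hj⟩ := Subgroup.mem_zpowers_iff.mp (hc₀ ⟨c, hc⟩)
        have h3 : c = (c₀ : H ⧸ Z) ^ j := by
          have := congrArg Subtype.val hj
          rw [Subgroup.coe_zpow] at this
          exact this.symm
        rw [h3]
        exact (hcomm.zpow_left j).eq
      rw [hcent] at hxC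
      exact hxC
    have hsum := Helper82.sum_irr_conj_mul_indFun hA K φ hθhcf g' hself
    have hzero : ∀ μ : IrrCharacter C,
        indFun K (fun k => θh k * (μ : C → ℂ) (φ k)) (g' : H) = 0 := by
      intro μ
      apply Helper82.indFun_eq_zero_of_fully_ramified Z χ (θ : Z → ℂ) (e : ℂ) heC hχZ hvan K hZK
        (η := fun k => θh k * (μ : C → ℂ) (φ k))
      · exact Helper74.isCharacter_mul hθhc
          (Helper74.isCharacter_comp φ (Helper74.irr_isCharacter μ))
      · intro z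
        have h1 := hθhext ⟨⟨(z : H), hZK z.2⟩, z.2⟩
        have h2 : φ ⟨(z : H), hZK z.2⟩ = 1 := hφZ _ z.2
        show θh ⟨(z : H), hZK z.2⟩ * (μ : C → ℂ) (φ ⟨(z : H), hZK z.2⟩) = (θ : Z → ℂ) z
        rw [h2, Helper15.irr_one_eq_one_of_comm hA μ.2, mul_one]
        exact h1
      · exact hg'Z
    rw [Finset.sum_eq_zero (fun μ _ => by rw [hzero μ, mul_zero])] at hsum
    have hC0 : (Nat.card C : ℂ) ≠ 0 := by
      have : 0 < Nat.card C := Nat.card_pos
      exact_mod_cast this.ne'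
    rcases mul_eq_zero.mp hsum.symm with h | h
    · exact hC0 h
    · exact hn h

end Cfsg.Agent.S4565
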