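import Cfsg.Statements.S4566
import Cfsg.Agent.Helper76.CharCentral

set_option autoImplicit false
open Cfsg

namespace Cfsg.Agent.S4566

open Cfsg.Agent.Helper76 in
/-- Let N be a central subgroup of the finite group G, ψ a faithful irreducible (hence degree-one) character of N, and χ an irreducible character of G whose restriction to N contains ψ. If g ∈ G and some x ∈ G has commutator x⁻¹ g⁻¹ x g in N but different from 1, then χ g = 0. -/
theorem result {G : Type*} [Group G] [Fintype G] (N : Subgroup G) [Fintype N] (hN : N ≤ Subgroup.center G) (ψ : Cfsg.IrrCharacter ↥N) (hfaith : ∀ n : ↥N, (ψ : ↥N → ℂ) n = (ψ : ↥N → ℂ) 1 → n = 1) (χ : Cfsg.IrrCharacter G) (hover : Cfsg.classInner (fun n : ↥N => (χ : G → ℂ) n) (ψ : ↥N → ℂ) ≠ 0) (g x : G) (hcomm : x⁻¹ * g⁻¹ * x * g ∈ N) (hne : x⁻¹ * g⁻¹ * x * g ≠ 1) : (χ : G → ℂ) g = 0 := by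
  obtain ⟨χ, hχ⟩ := χ
  obtain ⟨ψ, hψ⟩ := ψ
  simp only at hfaith hover ⊢
  -- N is commutative
  have hNc : ∀ a b : N, a * b = b * a := by
    intro a b
    apply Subtype.ext
    have := (Subgroup.mem_center_iff.mp (hN a.2)) b
    simpa using this.symm
  have hψ1 : ψ 1 = 1 := irr_one_of_comm hNc hψ
  have hψmul : ∀ a b : N, ψ (a * b) = ψ a * ψ b := irr_mul_of_comm hNc hψ
  -- the central scalars for χ
  have hsc : ∀ z : N, ∃ c : ℂ, ∀ g : G, χ ((z : G) * g) = c * χ g :=
    fun z => irr_exists_central_scalar hχ z (hN z.2)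
  choose lam hlam using hsc
  obtain ⟨n, hn, hχ1⟩ := irr_exists_degree hχ
  -- ψ takes values of norm one
  have hψpow : ∀ (z : N) (k : ℕ), ψ (z ^ k) = ψ z ^ k := by
    intro z k
    induction k with
    | zero => simp [hψ1]
    | succ k ih => rw [pow_succ, hψmul, ih, pow_succ]
  have hψne : ∀ z : N, ψ z ≠ 0 := by
    intro z hz
    have := hψmul z z⁻¹
    rw [mul_inv_cancel, hψ1, hz, zero_mul] at this
    exact one_ne_zero this
  have hψnorm : ∀ z : N, ‖ψ z‖ = 1 := by
    intro z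
    have h1 : ψ z ^ (Fintype.card N) = 1 := by
      rw [← hψpow, pow_card_eq_one, hψ1]
    have h2 : ‖ψ z‖ ^ (Fintype.card N) = 1 := by
      rw [← norm_pow, h1, norm_one]
    exact (pow_eq_one_iff_of_nonneg (norm_nonneg _) Fintype.card_ne_zero).mp h2
  have hψconj : ∀ z : N, (starRingEnd ℂ) (ψ z) = (ψ z)⁻¹ := by
    intro z
    rw [Complex.inv_def, Complex.normSq_eq_norm_sq, hψnorm z]
    simp
  -- λ = ψ on N
  have hlamψ : ∀ z : N, lam z = ψ z := by
    by_contra hcon
    push Not at hcon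
    obtain ⟨z₀, hz₀⟩ := hcon
    apply hover
    unfold Cfsg.classInner
    have hS : ∑ z : N, χ (z : G) * (starRingEnd ℂ) (ψ z) = 0 := by
      have hre : ∑ z : N, χ (z : G) * (starRingEnd ℂ) (ψ z)
          = ∑ z : N, χ ((z₀ * z : N) : G) * (starRingEnd ℂ) (ψ (z₀ * z)) :=
        (Fintype.sum_equiv (Equiv.mulLeft z₀) _ _ (fun z => rfl)).symm
      have hre2 : ∑ z : N, χ ((z₀ * z : N) : G) * (starRingEnd ℂ) (ψ (z₀ * z))
          = (lam z₀ * (ψ z₀)⁻¹) * ∑ z : N, χ (z : G) * (starRingEnd ℂ) (ψ z) := by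
        rw [Finset.mul_sum]
        refine Finset.sum_congr rfl (fun z _ => ?_)
        rw [Subgroup.coe_mul, hlam z₀, hψmul, map_mul, hψconj z₀]
        ring
      rw [hre2] at hre
      have hne1 : lam z₀ * (ψ z₀)⁻¹ ≠ 1 := by
        intro h
        apply hz₀
        field_simp [hψne z₀] at h
        exact h
      have : (1 - lam z₀ * (ψ z₀)⁻¹) * ∑ z : N, χ (z : G) * (starRingEnd ℂ) (ψ z) = 0 := by
        rw [sub_mul, one_mul, ← hre, sub_self]
      rcases mul_eq_zero.mp this with h | h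
      · exact absurd (sub_eq_zero.mp h).symm hne1
      · exact h
    rw [hS, mul_zero]
  -- the commutator
  set z : N := ⟨x⁻¹ * g⁻¹ * x * g, hcomm⟩ with hz
  have hzne : z⁻¹ ≠ 1 := by
    intro h
    apply hne
    have : z = 1 := inv_eq_one.mp h
    exact congrArg Subtype.val this
  have hconj : x⁻¹ * g * x = ((z⁻¹ : N) : G) * g := by
    have hzc : ((z⁻¹ : N) : G) * g = g * ((z⁻¹ : N) : G) :=
      ((Subgroup.mem_center_iff.mp (hN (z⁻¹).2)) g).symm
    rw [hzc]
    simp only [hz, Subgroup.coe_inv]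
    group
  have hclass : χ (x⁻¹ * g * x) = χ g := by
    obtain ⟨m, ρ, _, rfl⟩ := hχ
    have := Representation.char_conj ρ g x⁻¹
    simpa using this
  rw [hconj, hlam, hlamψ] at hclass
  have hne1 : ψ z⁻¹ ≠ 1 := by
    intro h
    exact hzne (hfaith z⁻¹ (h.trans hψ1.symm))
  have : (ψ z⁻¹ - 1) * χ g = 0 := by
    rw [sub_mul, one_mul, hclass, sub_self]
  rcases mul_eq_zero.mp this with h | h
  · exact absurd (sub_eq_zero.mp h) hne1
  · exact h

end Cfsg.Agent.S4566
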