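import Cfsg.Statements.S4574
import Cfsg.Agent.Helper82.BurnsideSum
import Cfsg.Agent.Helper80.CharLevel
-- import your own Cfsg.Agent.* helpers here

set_option autoImplicit false
open Cfsg

namespace Cfsg.Agent.S4574

/-- powers of an element where `‖χ g‖` is the degree again have that property -/
theorem norm_pow_eq_degree {G : Type*} [Group G] [Finite G] {χ : G → ℂ} (hχ : IsCharacter G χ)
    {g : G} (hg : ‖χ g‖ = (charDegree χ : ℝ)) (m : ℕ) : ‖χ (g ^ m)‖ = (charDegree χ : ℝ) := by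
  have hd := Cfsg.Agent.Helper80.IsCharacter.charDegree_cast hχ
  obtain ⟨n, ρ, rfl⟩ := hχ
  rw [Representation.char_one] at hd
  have hd' : Cfsg.charDegree ρ.character = Module.finrank ℂ (Fin n → ℂ) := by exact_mod_cast hd
  rw [hd'] at hg ⊢
  rw [Cfsg.Agent.Helper80.norm_char_eq_finrank_iff ρ _ (isOfFinOrder_of_finite _)] at hg ⊢
  obtain ⟨c, hc⟩ := hg
  refine ⟨c ^ m, ?_⟩
  rw [map_pow, hc, smul_pow, one_pow]

/-- The number of zeros of an irreducible character χ is at least (χ(1)² − 1)·#Z(χ), with equality when all values have absolute value 0, 1 or χ(1). -/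
theorem result {G : Type*} [Group G] [Fintype G] [DecidableEq G] (χ : G → ℂ) (hχ : Cfsg.IsIrrCharacter G χ) : (Cfsg.charDegree χ ^ 2 - 1) * (Finset.univ.filter (fun g : G => ‖χ g‖ = (Cfsg.charDegree χ : ℝ))).card ≤ (Finset.univ.filter (fun g : G => χ g = 0)).card ∧ ((∀ g : G, ‖χ g‖ = 0 ∨ ‖χ g‖ = 1 ∨ ‖χ g‖ = (Cfsg.charDegree χ : ℝ)) → (Cfsg.charDegree χ ^ 2 - 1) * (Finset.univ.filter (fun g : G => ‖χ g‖ = (Cfsg.charDegree χ : ℝ))).card = (Finset.univ.filter (fun g : G => χ g = 0)).card) := by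
  classical
  have hchar : IsCharacter G χ := Cfsg.Agent.Helper80.IsIrrCharacter.isCharacter hχ
  set d := Cfsg.charDegree χ with hd
  have hdpos : 0 < d := Cfsg.Agent.Helper80.IsIrrCharacter.charDegree_pos hχ
  set Z := Finset.univ.filter (fun g : G => ‖χ g‖ = (d : ℝ)) with hZ
  set T := Finset.univ.filter (fun g : G => ¬ ‖χ g‖ = (d : ℝ)) with hT
  set O := Finset.univ.filter (fun g : G => χ g = 0) with hO
  -- total
  have htot : ∑ g : G, ‖χ g‖ ^ 2 = (Nat.card G : ℝ) :=
    Cfsg.Agent.Helper82.sum_normSq_irr (⟨χ, hχ⟩ : IrrCharacter G)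
  have hsplit : ∑ g : G, ‖χ g‖ ^ 2 = ∑ g ∈ Z, ‖χ g‖ ^ 2 + ∑ g ∈ T, ‖χ g‖ ^ 2 :=
    (Finset.sum_filter_add_sum_filter_not Finset.univ (fun g : G => ‖χ g‖ = (d : ℝ)) _).symm
  have hsumZ : ∑ g ∈ Z, ‖χ g‖ ^ 2 = (Z.card : ℝ) * (d : ℝ) ^ 2 := by
    rw [Finset.sum_congr rfl (fun g hg => by rw [(Finset.mem_filter.1 hg).2]),
      Finset.sum_const, nsmul_eq_mul]
  -- power stability of T
  have hTstable : ∀ g ∈ T, ∀ k : ℕ, k.Coprime (Nat.card G) → g ^ k ∈ T := by
    intro g hg k hk
    rw [hT, Finset.mem_filter] at hg ⊢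
    refine ⟨Finset.mem_univ _, fun h => hg.2 ?_⟩
    have hko : k.Coprime (orderOf g) := hk.coprime_dvd_right (orderOf_dvd_natCard g)
    obtain ⟨m, hm⟩ := exists_pow_eq_self_of_coprime hko
    have := norm_pow_eq_degree hchar h m
    rwa [hm] at this
  have hineq := Cfsg.Agent.Helper82.card_nonvanishing_le_sum hchar T hTstable
  -- counting
  have hcount1 : Fintype.card G = Z.card + T.card := by
    rw [hZ, hT, Finset.card_filter_add_card_filter_not, Finset.card_univ]
  have hcount2 : T.card = (T.filter (fun g => χ g ≠ 0)).card +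
      (T.filter (fun g => ¬ χ g ≠ 0)).card := (Finset.card_filter_add_card_filter_not _).symm
  have hTO : T.filter (fun g => ¬ χ g ≠ 0) = O := by
    ext g
    simp only [hT, hO, Finset.mem_filter, Finset.mem_univ, true_and, not_not]
    constructor
    · exact fun h => h.2
    · intro h
      refine ⟨?_, h⟩
      rw [h, norm_zero]
      intro h0
      have : (d : ℝ) = 0 := h0.symm
      have : d = 0 := by exact_mod_cast this
      omega
  rw [hTO] at hcount2
  have hcardR : (Nat.card G : ℝ) = (Z.card : ℝ) + (T.filter (fun g => χ g ≠ 0)).card + O.card := by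
    rw [Nat.card_eq_fintype_card, hcount1, hcount2]; push_cast; ring
  have hd1 : 1 ≤ d ^ 2 := Nat.one_le_pow _ _ hdpos
  have hcast : ((d ^ 2 - 1 : ℕ) : ℝ) = (d : ℝ) ^ 2 - 1 := by
    rw [Nat.cast_sub hd1]; push_cast; ring
  constructor
  · have : (((d ^ 2 - 1) * Z.card : ℕ) : ℝ) ≤ (O.card : ℝ) := by
      rw [Nat.cast_mul, hcast]
      nlinarith
    exact_mod_cast this
  · intro hvals
    have hsumT : ∑ g ∈ T, ‖χ g‖ ^ 2 = ((T.filter (fun g => χ g ≠ 0)).card : ℝ) := by
      rw [← Finset.sum_filter_add_sum_filter_not T (fun g => χ g ≠ 0)]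
      have h1 : ∑ g ∈ T.filter (fun g => χ g ≠ 0), ‖χ g‖ ^ 2 =
          ((T.filter (fun g => χ g ≠ 0)).card : ℝ) := by
        rw [Finset.sum_congr rfl (g := fun _ => (1 : ℝ)), Finset.sum_const, nsmul_eq_mul, mul_one]
        intro g hg
        rw [Finset.mem_filter, hT, Finset.mem_filter] at hg
        rcases hvals g with h | h | h
        · exact absurd (norm_eq_zero.1 h) hg.2
        · rw [h, one_pow]
        · exact absurd h hg.1.2
      have h2 : ∑ g ∈ T.filter (fun g => ¬ χ g ≠ 0), ‖χ g‖ ^ 2 = 0 := by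
        apply Finset.sum_eq_zero
        intro g hg
        rw [Finset.mem_filter, not_not] at hg
        rw [hg.2, norm_zero]; ring
      rw [h1, h2, add_zero]
    have : (((d ^ 2 - 1) * Z.card : ℕ) : ℝ) = (O.card : ℝ) := by
      rw [Nat.cast_mul, hcast]
      nlinarith
    exact_mod_cast this

end Cfsg.Agent.S4574
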