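import Cfsg.Statements.S4575
import Cfsg.Agent.Helper79.Samb.Main
import Cfsg.Agent.Helper77.DefectOrder

set_option autoImplicit false
open Cfsg

namespace Cfsg.Agent.S4575

/-- Let B be a 2-block of the finite group G (relative to a maximal ideal M of the algebraic integers containing 2) of defect d with defect group D. Let z be an element of D commuting with every element of D, and let b be a block of the centralizer of z with defect group D that induces B (a major subsection (z, b)). If the number of irreducible characters in B exceeds the 2-regular rank of b by at most three, then B contains at most 2 ^ d irreducible characters. -/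
theorem result {G : Type*} [Group G] [Finite G] (M : Ideal Cfsg.AlgInt) (hM : Cfsg.IsPModular 2 M) (B : Set (Cfsg.IrrCharacter G)) (hB : Cfsg.IsPBlock M B) (D : Subgroup G) (hD : Cfsg.IsDefectGroup 2 M B D) (z : G) (hzD : z ∈ D) (hzc : ∀ d ∈ D, d * z = z * d) (b : Set (Cfsg.IrrCharacter ↥(Subgroup.centralizer ({z} : Set G)))) (hb : Cfsg.IsInducedBlock M (Subgroup.centralizer ({z} : Set G)) b B) (hbD : Cfsg.IsDefectGroup 2 M b (D.subgroupOf (Subgroup.centralizer ({z} : Set G)))) (h : Nat.card B ≤ Cfsg.blockRank 2 b + 3) : Nat.card B ≤ 2 ^ Cfsg.blockDefect 2 B := by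
  classical
  haveI : Fintype G := Fintype.ofFinite G
  haveI : Fact (2 : ℕ).Prime := ⟨Nat.prime_two⟩
  have hpr : (2 : ℕ).Prime := Nat.prime_two
  haveI : Fintype (Subgroup.centralizer ({z} : Set G)) := Fintype.ofFinite _
  have hzH : z ∈ Subgroup.centralizer ({z} : Set G) := by
    rw [Subgroup.mem_centralizer_iff]
    intro g hg
    rw [Set.mem_singleton_iff] at hg
    rw [hg]
  have hDH : D ≤ Subgroup.centralizer ({z} : Set G) := by
    intro d hd
    rw [Subgroup.mem_centralizer_iff]
    intro g hg
    rw [Set.mem_singleton_iff] at hg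
    rw [hg]
    exact (hzc d hd).symm
  have hyc : (⟨z, hzH⟩ : Subgroup.centralizer ({z} : Set G)) ∈
      Subgroup.center (Subgroup.centralizer ({z} : Set G)) := by
    rw [Subgroup.mem_center_iff]
    intro g
    apply Subtype.ext
    have hg := g.2
    rw [Subgroup.mem_centralizer_iff] at hg
    exact (hg z (Set.mem_singleton z)).symm
  have hcardD : Nat.card D = 2 ^ blockDefect 2 B := Agent.Helper77.card_defectGroup hM hB D hD
  have hcardb : Nat.card (D.subgroupOf (Subgroup.centralizer ({z} : Set G))) =
      2 ^ blockDefect 2 b := Agent.Helper77.card_defectGroup hM hb.1 _ hbD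
  have hcardeq : Nat.card (D.subgroupOf (Subgroup.centralizer ({z} : Set G))) = Nat.card D :=
    Nat.card_congr (Subgroup.subgroupOfEquivOfLe hDH).toEquiv
  have hdef : blockDefect 2 b = blockDefect 2 B := by
    apply Nat.pow_right_injective hpr.two_le
    show 2 ^ blockDefect 2 b = 2 ^ blockDefect 2 B
    rw [← hcardb, hcardeq, hcardD]
  have hy : orderOf ((⟨z, hzH⟩ : Subgroup.centralizer ({z} : Set G)) : G) ∣
      2 ^ (blockDefect 2 B + 1) := by
    show orderOf z ∣ 2 ^ (blockDefect 2 B + 1)
    refine dvd_trans ?_ (pow_dvd_pow 2 (Nat.le_succ _))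
    rw [← hcardD]
    have := orderOf_dvd_natCard (⟨z, hzD⟩ : D)
    rwa [← Subgroup.orderOf_coe] at this
  exact Agent.Helper79.Samb.card_block_le_of_card_le_add_three hM hB _ ⟨z, hzH⟩ hyc rfl
    (blockDefect 2 B + 1) (Nat.le_add_left 1 _) hy hb hdef h

end Cfsg.Agent.S4575
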