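import Cfsg.Statements.S4582
import Cfsg.Agent.Helper76.TransferSq

set_option autoImplicit false
open Cfsg

namespace Cfsg.Agent.S4582

/-- Let N be a normal subgroup of the finite group G, P a Sylow 2-subgroup of G and Q = P ∩ N. Suppose that P/QP' and Q/Q' are elementary abelian (every square of an element of P lies in the subgroup generated by Q and the derived subgroup of P, and every square of an element of Q lies in the derived subgroup of Q), and that the commutator factor group N/N' has odd order. Then P/P' is elementary abelian. -/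
theorem result {G : Type*} [Group G] [Finite G] (N : Subgroup G) [N.Normal] (P : Sylow 2 G)
    (hP : ∀ x ∈ (P : Subgroup G), x ^ 2 ∈ ((P : Subgroup G) ⊓ N) ⊔ ⁅(P : Subgroup G), (P : Subgroup G)⁆)
    (hQ : ∀ x ∈ (P : Subgroup G) ⊓ N, x ^ 2 ∈ ⁅(P : Subgroup G) ⊓ N, (P : Subgroup G) ⊓ N⁆)
    (hodd : Odd (Nat.card (Abelianization N))) :
    ∀ x ∈ (P : Subgroup G), x ^ 2 ∈ ⁅(P : Subgroup G), (P : Subgroup G)⁆ := by
  classical
  set L : Subgroup G := N ⊔ (P : Subgroup G) with hL
  have hNL : N ≤ L := le_sup_left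
  have hPL : (P : Subgroup G) ≤ L := le_sup_right
  set NK : Subgroup L := N.subgroupOf L with hNK
  set PK : Subgroup L := (P : Subgroup G).subgroupOf L with hPK
  have hinj : Function.Injective L.subtype := Subtype.coe_injective
  have hmapN : NK.map L.subtype = N := Subgroup.map_subgroupOf_eq_of_le hNL
  have hmapP : PK.map L.subtype = (P : Subgroup G) := Subgroup.map_subgroupOf_eq_of_le hPL
  have hmem : ∀ (T : Subgroup L) (x : L), x ∈ T ↔ (x : G) ∈ T.map L.subtype := by
    intro T x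
    exact (Subgroup.mem_map_iff_mem hinj).symm
  have hmapC : (⁅PK, PK⁆).map L.subtype = ⁅(P : Subgroup G), (P : Subgroup G)⁆ := by
    rw [Subgroup.map_commutator, hmapP]
  have hmapI : (PK ⊓ NK).map L.subtype = (P : Subgroup G) ⊓ N := by
    rw [Subgroup.map_inf _ _ _ hinj, hmapP, hmapN]
  have hmapS : ((PK ⊓ NK) ⊔ ⁅PK, PK⁆).map L.subtype
      = ((P : Subgroup G) ⊓ N) ⊔ ⁅(P : Subgroup G), (P : Subgroup G)⁆ := by
    rw [Subgroup.map_sup, hmapI, hmapC]
  have hP2 : IsPGroup 2 PK := P.2.comap_subtype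
  have hidx : Odd PK.index := by
    have h1 : PK.index ∣ (P : Subgroup G).index := Subgroup.relIndex_dvd_index_of_le hPL
    have h2 : ¬ 2 ∣ (P : Subgroup G).index := P.not_dvd_index
    rw [← Nat.not_even_iff_odd, even_iff_two_dvd]
    exact fun h => h2 (h.trans h1)
  have hsup : NK ⊔ PK = ⊤ := by
    rw [hNK, hPK, ← Subgroup.subgroupOf_sup hNL hPL, ← hL, Subgroup.subgroupOf_self]
  have hP' : ∀ x ∈ PK, x ^ 2 ∈ (PK ⊓ NK) ⊔ ⁅PK, PK⁆ := by
    intro x hx
    rw [hmem, hmapS]
    exact hP x hx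
  have hQ' : ∀ x ∈ PK ⊓ NK, x ^ 2 ∈ ⁅PK, PK⁆ := by
    intro x hx
    rw [hmem, hmapC]
    have hxG : (x : G) ∈ (P : Subgroup G) ⊓ N := by
      rw [← hmapI, ← hmem]; exact hx
    exact (Subgroup.commutator_mono inf_le_left inf_le_left) (hQ x hxG)
  have hodd' : Odd (Nat.card (Abelianization NK)) := by
    have e : NK ≃* N := Subgroup.subgroupOfEquivOfLe hNL
    rw [Nat.card_congr e.abelianizationCongr.toEquiv]
    exact hodd
  have key := Cfsg.Agent.Helper76.sq_mem_commutator_of_sup_eq_top NK PK hP2 hidx hsup hP' hQ' hodd'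
  intro x hx
  have := key ⟨x, hPL hx⟩ hx
  rw [hmem, hmapC] at this
  exact this

end Cfsg.Agent.S4582
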