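import Cfsg.Statements.S4587
import Cfsg.Agent.Helper76.AbelSqMain

set_option autoImplicit false
open Cfsg

namespace Cfsg.Agent.S4587

/-- Let G be a finite group, p a prime and P a Sylow p-subgroup of order at least p². Assume that G has no nontrivial normal subgroup of order prime to p, that the derived subgroup P' of P contains no nontrivial normal subgroup of G, and that G is not almost simple (there is no non-abelian simple normal subgroup of G with trivial centralizer). Then [P : P'] = p² if and only if some p-element x of G has centralizer whose order has p-part exactly p². -/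
theorem result {G : Type*} [Group G] [Finite G] (p : ℕ) [Fact p.Prime] (P : Sylow p G) (hbig : p ^ 2 ∣ Nat.card G) (hcore : Cfsg.pPrimeCore p G = ⊥)
    (hcore' : (⁅(P : Subgroup G), (P : Subgroup G)⁆).normalCore = ⊥) (hnas : ¬ ∃ S : Subgroup G, S.Normal ∧ IsSimpleGroup S ∧ ¬ IsMulCommutative S ∧ Subgroup.centralizer (S : Set G) = ⊥) :
    (⁅(P : Subgroup G), (P : Subgroup G)⁆).relIndex (P : Subgroup G) = p ^ 2 ↔
      ∃ x : G, (∃ k : ℕ, orderOf x = p ^ k) ∧ (Nat.card (Subgroup.centralizer ({x} : Set G))).factorization p = 2 := by
  constructor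
  · intro hidx
    by_cases hnab : ⁅(P : Subgroup G), (P : Subgroup G)⁆ = ⊥
    · exact Cfsg.Agent.Helper76.exists_centralizer_of_commutator_eq_bot P hidx hnab
    · by_cases hOp : Cfsg.pCore p G = ⊥
      · exact Cfsg.Agent.Helper76.exists_centralizer_of_pCore_eq_bot P hidx hcore hOp hnab hnas
      · exact Cfsg.Agent.Helper76.exists_centralizer_of_pCore_ne_bot P hidx hcore' hnab hOp
  · rintro ⟨x, hx, hfac⟩
    exact Cfsg.Agent.Helper76.relIndex_commutator_of_exists_centralizer P x hx hfac

end Cfsg.Agent.S4587
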