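import Cfsg.Statements.S4604
import Cfsg.Agent.Helper76.PRegularConj

set_option autoImplicit false
open Cfsg

namespace Cfsg.Agent.S4604

/-- Let G be a finite group, p a prime and p^a the p-part of the order of G. Let x, y ∈ G and let x′, y′ be their p-regular parts: x′ has order prime to p, commutes with x·x′⁻¹, and x·x′⁻¹ has p-power order (likewise for y). Then x′ and y′ are conjugate in G if and only if for every irreducible character χ of G the algebraic integer χ(x)^(p^a) − χ(y)^(p^a) is p times an algebraic integer. -/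
theorem result {G : Type*} [Group G] [Finite G] (p : ℕ) [Fact p.Prime] (x y x' y' : G)
    (hx : (∃ k : ℕ, orderOf (x * x'⁻¹) = p ^ k) ∧ Commute (x * x'⁻¹) x' ∧ ¬ p ∣ orderOf x')
    (hy : (∃ k : ℕ, orderOf (y * y'⁻¹) = p ^ k) ∧ Commute (y * y'⁻¹) y' ∧ ¬ p ∣ orderOf y') :
    IsConj x' y' ↔ ∀ χ : Cfsg.IrrCharacter G, ∃ γ : Cfsg.AlgInt,
      (χ : G → ℂ) x ^ (p ^ (Nat.card G).factorization p) - (χ : G → ℂ) y ^ (p ^ (Nat.card G).factorization p) = (p : ℂ) * (γ : ℂ) := by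
  classical
  have hne : Nat.card G ≠ 0 := Nat.card_pos.ne'
  set a := (Nat.card G).factorization p with ha
  have hxq : x ^ (p ^ a) = x' ^ (p ^ a) :=
    Cfsg.Agent.Helper76.pow_eq_pow_pRegular_part p x x' ⟨hx.1, hx.2.1⟩
  have hyq : y ^ (p ^ a) = y' ^ (p ^ a) :=
    Cfsg.Agent.Helper76.pow_eq_pow_pRegular_part p y y' ⟨hy.1, hy.2.1⟩
  have hchar : ∀ χ : Cfsg.IrrCharacter G, Cfsg.IsCharacter G (χ : G → ℂ) := by
    intro χ
    obtain ⟨n, ρ, -, hρ⟩ := χ.2
    exact ⟨n, ρ, hρ⟩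
  constructor
  · intro hconj χ
    obtain ⟨γ₁, h1⟩ := Cfsg.Agent.Helper76.character_pow_prime_pow_sub p a _ (hchar χ) x
    obtain ⟨γ₂, h2⟩ := Cfsg.Agent.Helper76.character_pow_prime_pow_sub p a _ (hchar χ) y
    have hc : IsConj (x ^ (p ^ a)) (y ^ (p ^ a)) := by
      rw [hxq, hyq]; exact hconj.pow _
    have hχ : (χ : G → ℂ) (x ^ (p ^ a)) = (χ : G → ℂ) (y ^ (p ^ a)) :=
      Cfsg.Agent.Helper3.isClassFunction_isConj (Cfsg.Agent.Helper3.isClassFunction_irr χ) hc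
    refine ⟨γ₁ - γ₂, ?_⟩
    push_cast
    linear_combination h1 - h2 + hχ
  · intro hall
    apply Cfsg.Agent.Helper76.isConj_of_isConj_pow_prime_pow p a x' y' hx.2.2 hy.2.2
    rw [← hxq, ← hyq]
    apply Cfsg.Agent.Helper76.isConj_of_irr_congr_mod_p p
    · rw [hxq]; intro hd; exact hx.2.2 (hd.trans (orderOf_pow_dvd _))
    · rw [hyq]; intro hd; exact hy.2.2 (hd.trans (orderOf_pow_dvd _))
    · intro χ
      obtain ⟨γ, hγ⟩ := hall χ
      obtain ⟨γ₁, h1⟩ := Cfsg.Agent.Helper76.character_pow_prime_pow_sub p a _ (hchar χ) x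
      obtain ⟨γ₂, h2⟩ := Cfsg.Agent.Helper76.character_pow_prime_pow_sub p a _ (hchar χ) y
      refine ⟨γ - γ₁ + γ₂, ?_⟩
      push_cast
      linear_combination hγ - h1 + h2

end Cfsg.Agent.S4604
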