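import Cfsg.Statements.S4611
import Cfsg.Agent.S4736
import Cfsg.Agent.Helper70.PSolvable

set_option autoImplicit false
open Cfsg

namespace Cfsg.Agent.S4611

open Cfsg.Agent.Helper79
open scoped ComplexConjugate

section
variable {G : Type*} [Group G] [Finite G]

/-- For a `p`-solvable group the principal block consists of the irreducible characters with
`O_{p'}(G)` in their kernel. -/
theorem mem_principalBlock_iff_of_isPSolvable (p : ℕ) [Fact p.Prime] (M : Ideal AlgInt)
    (hM : IsPModular p M) (hsolv : IsPSolvable p G) (χ : IrrCharacter G) :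
    χ ∈ principalBlock M G ↔ ∀ k ∈ pPrimeCore p G, (χ : G → ℂ) k = (χ : G → ℂ) 1 := by
  set K := pPrimeCore p G with hKdef
  have hK : (Nat.card K).Coprime p := Cfsg.Agent.Lib.card_pPrimeCore_coprime p
  have := Fintype.ofFinite (G ⧸ K)
  constructor
  · intro h
    exact principalBlock_ker hM K hK χ h
  · intro hker
    have hsolvQ : IsPSolvable p (G ⧸ K) := Cfsg.Agent.Helper11.isPSolvable_quotient K hsolv
    have hOQ : pPrimeCore p (G ⧸ K) = ⊥ := Cfsg.Agent.Helper22.pPrimeCore_quotient_eq_bot p
    have hHH := Cfsg.Agent.Helper11.centralizer_pCore_le_of_isPSolvable hsolvQ hOQ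
    have huniv : principalBlock M (G ⧸ K) = Set.univ :=
      Cfsg.Agent.S4736.block_eq_univ hM hHH ⟨principalIrr (G ⧸ K), rfl⟩
    have hψ : (Helper80.irrQuotientEquiv K).symm ⟨χ, hker⟩ ∈ principalBlock M (G ⧸ K) := by
      rw [huniv]; trivial
    have h1 := (mem_principalBlock_quotient_iff hM K hK _).1 hψ
    rw [Equiv.apply_symm_apply] at h1
    exact h1

/-- The set where an irreducible character takes its value at `1` is (the carrier of) a
subgroup. -/
theorem exists_kernel_subgroup (χ : IrrCharacter G) :
    ∃ N : Subgroup G, ∀ g : G, g ∈ N ↔ (χ : G → ℂ) g = (χ : G → ℂ) 1 := by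
  obtain ⟨n, ρ, hρ, hχ⟩ := χ.2
  refine ⟨MonoidHom.ker ρ, fun g => ?_⟩
  rw [MonoidHom.mem_ker, ← hχ, Representation.char_one,
    Helper80.char_eq_finrank_iff ρ g (isOfFinOrder_of_finite g)]

/-- An irreducible character that is constant is the principal character. -/
theorem eq_one_of_const (χ : IrrCharacter G) (h : ∀ g : G, (χ : G → ℂ) g = (χ : G → ℂ) 1) :
    (χ : G → ℂ) = fun _ => 1 := by
  classical
  have := Fintype.ofFinite G
  have h1 := classInner_irr_self χ
  unfold classInner at h1
  have hd := irr_one χ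
  have h2 : ∑ g : G, (χ : G → ℂ) g * conj ((χ : G → ℂ) g) =
      (Nat.card G : ℂ) * ((charDegree (χ : G → ℂ) : ℂ) * (charDegree (χ : G → ℂ) : ℂ)) := by
    rw [Finset.sum_congr rfl (fun g _ => by rw [h g, hd, Complex.conj_natCast]),
      Finset.sum_const, Finset.card_univ, nsmul_eq_mul, Nat.card_eq_fintype_card]
  rw [h2, ← mul_assoc, inv_mul_cancel₀ card_ne_zero_complex, one_mul] at h1
  have h3 : charDegree (χ : G → ℂ) * charDegree (χ : G → ℂ) = 1 := by exact_mod_cast h1
  have h4 : charDegree (χ : G → ℂ) = 1 := Nat.eq_one_of_mul_eq_one_left h3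
  funext g
  rw [h g, hd, h4, Nat.cast_one]

end

/-- Let G be a finite solvable group and π a nonempty set of primes, each dividing the order of G; fix for each p in π a maximal ideal M p of the algebraic integers containing p. Then the only irreducible character lying in the principal p-block for every p in π is the principal character if and only if G is generated by the subgroups O_{p'}(G), p in π (the largest normal subgroups of order prime to p). -/
theorem result {G : Type*} [Group G] [Finite G] [Group.IsSolvable G] (π : Set ℕ) (hπ : ∀ p ∈ π, p.Prime ∧ p ∣ Nat.card G) (hne : π.Nonempty) (M : ℕ → Ideal Cfsg.AlgInt) (hM : ∀ p ∈ π, Cfsg.IsPModular p (M p)) :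
    (∀ χ : Cfsg.IrrCharacter G, (∀ p ∈ π, χ ∈ Cfsg.principalBlock (M p) G) → (χ : G → ℂ) = fun _ => 1) ↔
      ⨆ p ∈ π, Cfsg.pPrimeCore p G = ⊤ := by
  classical
  have hmem : ∀ p ∈ π, ∀ χ : IrrCharacter G, χ ∈ principalBlock (M p) G ↔
      ∀ k ∈ pPrimeCore p G, (χ : G → ℂ) k = (χ : G → ℂ) 1 := by
    intro p hp χ
    have : Fact p.Prime := ⟨(hπ p hp).1⟩
    exact mem_principalBlock_iff_of_isPSolvable p (M p) (hM p hp)
      (Cfsg.Agent.Helper70.isPSolvable_of_isSolvable p) χ
  constructor
  · intro h
    by_contra hne'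
    set L : Subgroup G := ⨆ p ∈ π, Cfsg.pPrimeCore p G with hL
    have hLn : L.Normal := by
      rw [hL]
      infer_instance
    have := Fintype.ofFinite (G ⧸ L)
    -- a non-identity element of the quotient
    obtain ⟨x, hx⟩ : ∃ x : G, x ∉ L := by
      by_contra hall
      push Not at hall
      exact hne' (by rw [eq_top_iff]; intro x _; exact hall x)
    have hx1 : ¬ IsConj ((x : G ⧸ L)) 1 := by
      intro hc
      rw [isConj_comm, isConj_one_right] at hc
      exact hx ((QuotientGroup.eq_one_iff x).1 hc)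
    rw [isConj_iff_forall_irr_eq] at hx1
    push Not at hx1
    obtain ⟨ψ, hψ⟩ := hx1
    have hχ := h (Helper80.irrQuotientEquiv L ψ).1 (by
      intro p hp
      rw [hmem p hp]
      intro k hk
      have hkL : k ∈ L := by
        have : Cfsg.pPrimeCore p G ≤ L := by
          rw [hL]
          exact le_biSup (fun p => Cfsg.pPrimeCore p G) hp
        exact this hk
      exact (Helper80.irrQuotientEquiv L ψ).2 k hkL)
    apply hψ
    have h1 := congrFun hχ x
    have h2 := congrFun hχ 1
    rw [Helper80.irrQuotientEquiv_apply] at h1 h2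
    rw [h1]
    rw [QuotientGroup.mk_one] at h2
    rw [h2]
  · intro htop χ hχ
    obtain ⟨N, hN⟩ := exists_kernel_subgroup χ
    have hle : ⨆ p ∈ π, Cfsg.pPrimeCore p G ≤ N := by
      refine iSup₂_le fun p hp => ?_
      intro k hk
      rw [hN]
      exact (hmem p hp χ).1 (hχ p hp) k hk
    rw [htop] at hle
    exact eq_one_of_const χ fun g => (hN g).1 (hle trivial)

end Cfsg.Agent.S4611
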