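-- Statement S4620: TI Sylow p-subgroups and trivial cores force a unique minimal normal subgroup,
-- which is non-abelian simple with trivial centralizer and again has TI Sylow p-subgroups.
import Cfsg.Statements.S4620
import Cfsg.Agent.Lib.Cores
import Cfsg.Agent.Lib.Hall

set_option autoImplicit false
open scoped Pointwise
open Cfsg

namespace Cfsg.Agent.S4620

open Subgroup

universe u

variable {G : Type u} [Group G]

theorem mem_conj_smul' {g x : G} {S : Subgroup G} :
    x ∈ MulAut.conj g • S ↔ g⁻¹ * x * g ∈ S := by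
  rw [Subgroup.mem_pointwise_smul_iff_inv_smul_mem]
  simp [MulAut.smul_def]

/-- all Sylow `p`-subgroups are trivial-intersection sets -/
def TIall (p : ℕ) (G : Type u) [Group G] : Prop :=
  ∀ P : Sylow p G, ∀ g : G, g ∉ normalizer ((P : Subgroup G) : Set G) →
    (P : Subgroup G) ⊓ (MulAut.conj g • (P : Subgroup G)) = ⊥

theorem tiall_of_one [Finite G] {p : ℕ} [Fact p.Prime] (P : Sylow p G)
    (hTI : ∀ g : G, g ∉ normalizer ((P : Subgroup G) : Set G) →
      (P : Subgroup G) ⊓ (MulAut.conj g • (P : Subgroup G)) = ⊥) : TIall p G := by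
  intro Q g hg
  obtain ⟨h, rfl⟩ := MulAction.exists_smul_eq G P Q
  have hg' : h⁻¹ * g * h ∉ normalizer ((P : Subgroup G) : Set G) := by
    intro hmem
    apply hg
    have h1 : (h⁻¹ * g * h) • P = P := Sylow.smul_eq_iff_mem_normalizer.mpr hmem
    have h2 : g • (h • P) = h • P := by
      have : g • (h • P) = h • ((h⁻¹ * g * h) • P) := by
        rw [← mul_smul, ← mul_smul]; congr 1; group
      rw [this, h1]
    exact Sylow.smul_eq_iff_mem_normalizer.mp h2
  have h0 := hTI _ hg'
  rw [eq_bot_iff]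
  intro y hy
  rw [Subgroup.mem_bot]
  obtain ⟨hy1, hy2⟩ := Subgroup.mem_inf.mp hy
  rw [Sylow.coe_subgroup_smul] at hy1 hy2
  rw [mem_conj_smul'] at hy1 hy2
  rw [mem_conj_smul'] at hy2
  have h3 : h⁻¹ * y * h ∈ (P : Subgroup G) ⊓ (MulAut.conj (h⁻¹ * g * h) • (P : Subgroup G)) := by
    refine Subgroup.mem_inf.mpr ⟨hy1, ?_⟩
    rw [mem_conj_smul']
    have : (h⁻¹ * g * h)⁻¹ * (h⁻¹ * y * h) * (h⁻¹ * g * h) = h⁻¹ * (g⁻¹ * y * g) * h := by group
    rw [this]; exact hy2
  rw [h0, Subgroup.mem_bot] at h3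
  have : y = h * (h⁻¹ * y * h) * h⁻¹ := by group
  rw [this, h3]; group

/-- an element commuting with a nontrivial element of a TI Sylow subgroup normalizes it -/
theorem mem_normalizer_of_commute {p : ℕ} (hTI : TIall p G) (P : Sylow p G) {x : G}
    (hx : x ∈ (P : Subgroup G)) (hx1 : x ≠ 1) {g : G} (hg : g * x = x * g) :
    g ∈ normalizer ((P : Subgroup G) : Set G) := by
  by_contra hgn
  have h0 := hTI P g hgn
  have : x ∈ (P : Subgroup G) ⊓ (MulAut.conj g • (P : Subgroup G)) := by
    refine Subgroup.mem_inf.mpr ⟨hx, ?_⟩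
    rw [mem_conj_smul']
    have : g⁻¹ * x * g = x := by
      calc g⁻¹ * x * g = g⁻¹ * (x * g) := by group
        _ = g⁻¹ * (g * x) := by rw [hg]
        _ = x := by group
    rw [this]; exact hx
  rw [h0, Subgroup.mem_bot] at this
  exact hx1 this

theorem prime_dvd_card_of_normal [Finite G] {p : ℕ} [Fact p.Prime]
    (hOp' : Cfsg.pPrimeCore p G = ⊥) (A : Subgroup G) [hA : A.Normal] (hA1 : A ≠ ⊥) :
    p ∣ Nat.card A := by
  have hp : p.Prime := Fact.out
  by_contra h
  have hcop : (Nat.card A).Coprime p := ((Nat.Prime.coprime_iff_not_dvd hp).mpr h).symm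
  have := Cfsg.Agent.Lib.le_pPrimeCore hA hcop
  rw [hOp', le_bot_iff] at this
  exact hA1 this

/-- key lemma: two nontrivial normal subgroups cannot commute -/
theorem eq_bot_of_le_centralizer [Finite G] {p : ℕ} [Fact p.Prime] (hOp : Cfsg.pCore p G = ⊥)
    (hOp' : Cfsg.pPrimeCore p G = ⊥) (hTI : TIall p G) (A B : Subgroup G) [hAn : A.Normal]
    [hBn : B.Normal] (hA : A ≠ ⊥) (hAB : B ≤ centralizer (A : Set G)) : B = ⊥ := by
  have hp : p.Prime := Fact.out
  by_contra hB
  have hpA := prime_dvd_card_of_normal hOp' A hA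
  have hpB := prime_dvd_card_of_normal hOp' B hB
  obtain ⟨x, hx⟩ := exists_prime_orderOf_dvd_card' (G := A) p hpA
  obtain ⟨y, hy⟩ := exists_prime_orderOf_dvd_card' (G := B) p hpB
  have hxo : orderOf (x : G) = p := by rw [Subgroup.orderOf_coe]; exact hx
  have hyo : orderOf (y : G) = p := by rw [Subgroup.orderOf_coe]; exact hy
  have hx1 : (x : G) ≠ 1 := by
    intro h; rw [h, orderOf_one] at hxo; exact hp.one_lt.ne hxo
  have hxp : IsPGroup p (zpowers (x : G)) :=
    IsPGroup.of_card (n := 1) (by rw [Nat.card_zpowers, hxo, pow_one])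
  have hyp : IsPGroup p (zpowers (y : G)) :=
    IsPGroup.of_card (n := 1) (by rw [Nat.card_zpowers, hyo, pow_one])
  obtain ⟨P, hP⟩ := hxp.exists_le_sylow
  have hall : ∀ Q : Sylow p G, (y : G) ∈ (Q : Subgroup G) := by
    intro Q
    obtain ⟨g, rfl⟩ := MulAction.exists_smul_eq G P Q
    have hx'Q : g * x * g⁻¹ ∈ ((g • P : Sylow p G) : Subgroup G) := by
      rw [Sylow.coe_subgroup_smul, mem_conj_smul']
      have : g⁻¹ * (g * (x : G) * g⁻¹) * g = x := by group
      rw [this]; exact hP (mem_zpowers _)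
    have hx'A : g * x * g⁻¹ ∈ A := hAn.conj_mem _ x.2 g
    have hx'1 : g * (x : G) * g⁻¹ ≠ 1 := by
      intro h
      apply hx1
      have : (x : G) = g⁻¹ * (g * x * g⁻¹) * g := by group
      rw [this, h]; group
    have hcomm : (y : G) * (g * x * g⁻¹) = (g * x * g⁻¹) * y :=
      (mem_centralizer_iff.mp (hAB y.2) _ hx'A).symm
    have hyN := mem_normalizer_of_commute hTI (g • P) hx'Q hx'1 hcomm
    have h1 : zpowers (y : G) ⊓ normalizer (((g • P : Sylow p G) : Subgroup G) : Set G) =
        zpowers (y : G) ⊓ ((g • P : Sylow p G) : Subgroup G) := hyp.inf_normalizer_sylow (g • P)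
    have h2 : (y : G) ∈ zpowers (y : G) ⊓ normalizer (((g • P : Sylow p G) : Subgroup G) : Set G) :=
      Subgroup.mem_inf.mpr ⟨mem_zpowers _, hyN⟩
    rw [h1] at h2
    exact (Subgroup.mem_inf.mp h2).2
  have hycore : (y : G) ∈ Cfsg.pCore p G := by
    rw [Cfsg.Agent.Lib.pCore_eq_iInf_sylow]
    exact Subgroup.mem_iInf.mpr hall
  rw [hOp, Subgroup.mem_bot] at hycore
  rw [hycore, orderOf_one] at hyo
  exact hp.one_lt.ne hyo

/-- the general structure statement (without simplicity) -/
theorem exists_unique_minimal_normal [Finite G] {p : ℕ} [Fact p.Prime] (hOp : Cfsg.pCore p G = ⊥)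
    (hOp' : Cfsg.pPrimeCore p G = ⊥) (hTI : TIall p G) [Nontrivial G] :
    ∃ N : Subgroup G, N.Normal ∧ N ≠ ⊥ ∧ (∀ K : Subgroup G, K.Normal → K ≠ ⊥ → N ≤ K) ∧
      ¬ IsMulCommutative N ∧ centralizer (N : Set G) = ⊥ := by
  obtain ⟨N, hNn, hNne, hNmin⟩ := Cfsg.Agent.Lib.exists_minimal_normal (G := G)
  haveI := hNn
  have hcent : centralizer (N : Set G) = ⊥ :=
    eq_bot_of_le_centralizer hOp hOp' hTI N (centralizer (N : Set G)) hNne le_rfl
  refine ⟨N, hNn, hNne, ?_, ?_, hcent⟩
  · intro K hK hKne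
    haveI := hK
    have hinf : (N ⊓ K).Normal := inferInstance
    rcases hNmin (N ⊓ K) hinf inf_le_left with h | h
    · exfalso
      apply hKne
      apply eq_bot_of_le_centralizer hOp hOp' hTI N K hNne
      intro k hk
      rw [mem_centralizer_iff]
      intro n hn
      have h1 : n * k * n⁻¹ * k⁻¹ ∈ N ⊓ K := by
        refine Subgroup.mem_inf.mpr ⟨?_, ?_⟩
        · have : n * k * n⁻¹ * k⁻¹ = n * (k * n⁻¹ * k⁻¹) := by group
          rw [this]
          exact N.mul_mem hn (hNn.conj_mem _ (N.inv_mem hn) k)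
        · exact K.mul_mem (hK.conj_mem _ hk n) (K.inv_mem hk)
      rw [h, Subgroup.mem_bot] at h1
      have : n * k = (n * k * n⁻¹ * k⁻¹) * (k * n) := by group
      rw [this, h1, one_mul]
    · rw [← h]; exact inf_le_right
  · intro hcomm
    apply hNne
    rw [eq_bot_iff, ← hcent]
    intro n hn
    rw [mem_centralizer_iff]
    intro m hm
    have := hcomm.is_comm.comm (⟨m, hm⟩ : N) ⟨n, hn⟩
    exact congrArg Subtype.val this

/-- the hypotheses pass to a nontrivial normal subgroup -/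
theorem inherit [Finite G] {p : ℕ} [Fact p.Prime] (hOp : Cfsg.pCore p G = ⊥)
    (hOp' : Cfsg.pPrimeCore p G = ⊥) (hTI : TIall p G) (N : Subgroup G) [hNn : N.Normal] :
    Cfsg.pCore p N = ⊥ ∧ Cfsg.pPrimeCore p N = ⊥ ∧ TIall p N := by
  refine ⟨?_, ?_, ?_⟩
  · haveI := Cfsg.Agent.Lib.pCore_characteristic (G := N) p
    have hn : ((Cfsg.pCore p N).map N.subtype).Normal := inferInstance
    have hp : IsPGroup p ((Cfsg.pCore p N).map N.subtype) := (Cfsg.Agent.Lib.isPGroup_pCore p).map _
    have := Cfsg.Agent.Lib.le_pCore hn hp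
    rw [hOp, le_bot_iff, Subgroup.map_eq_bot_iff_of_injective _ (Subgroup.subtype_injective N)] at this
    exact this
  · haveI := Cfsg.Agent.Lib.pPrimeCore_characteristic (G := N) p
    have hn : ((Cfsg.pPrimeCore p N).map N.subtype).Normal := inferInstance
    have hc : (Nat.card ((Cfsg.pPrimeCore p N).map N.subtype)).Coprime p := by
      rw [Subgroup.card_map_of_injective (Subgroup.subtype_injective N)]
      exact Cfsg.Agent.Lib.card_pPrimeCore_coprime p
    have := Cfsg.Agent.Lib.le_pPrimeCore hn hc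
    rw [hOp', le_bot_iff, Subgroup.map_eq_bot_iff_of_injective _ (Subgroup.subtype_injective N)] at this
    exact this
  · intro Q n hn
    have hQ' : IsPGroup p ((Q : Subgroup N).map N.subtype) := Q.2.map _
    obtain ⟨P, hP⟩ := hQ'.exists_le_sylow
    have hQP : ∀ y : N, y ∈ (Q : Subgroup N) ↔ (y : G) ∈ (P : Subgroup G) := by
      have h1 : IsPGroup p ((P : Subgroup G).subgroupOf N) := P.2.comap_subtype
      have h2 : (Q : Subgroup N) ≤ (P : Subgroup G).subgroupOf N := by
        intro y hy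
        rw [Subgroup.mem_subgroupOf]
        exact hP ⟨y, hy, rfl⟩
      have h3 := Q.is_maximal' h1 h2
      intro y
      rw [← h3, Subgroup.mem_subgroupOf]
    have hnP : (n : G) ∉ normalizer ((P : Subgroup G) : Set G) := by
      intro hmem
      apply hn
      rw [mem_normalizer_iff]
      intro y
      rw [hQP, hQP]
      exact mem_normalizer_iff.mp hmem y
    have h0 := hTI P n hnP
    rw [eq_bot_iff]
    intro y hy
    rw [Subgroup.mem_bot]
    obtain ⟨hy1, hy2⟩ := Subgroup.mem_inf.mp hy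
    rw [mem_conj_smul'] at hy2
    have : (y : G) ∈ (P : Subgroup G) ⊓ (MulAut.conj (n : G) • (P : Subgroup G)) := by
      refine Subgroup.mem_inf.mpr ⟨(hQP y).mp hy1, ?_⟩
      rw [mem_conj_smul']
      exact (hQP _).mp hy2
    rw [h0, Subgroup.mem_bot] at this
    exact Subtype.ext this

/-- Let H be a finite group with no nontrivial normal p-subgroup and no nontrivial normal subgroup of order prime to p, whose Sylow p-subgroup P is nontrivial and a trivial-intersection set (P meets its conjugates by elements outside N_H(P) trivially). Then H has a unique minimal normal subgroup N; N is non-abelian simple with trivial centralizer in H (so H embeds in Aut(N)), and a Sylow p-subgroup of N is again a nontrivial trivial-intersection set in N. -/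
theorem result {H : Type*} [Group H] [Finite H] (p : ℕ) [Fact p.Prime] (hOp : Cfsg.pCore p H = ⊥) (hOp' : Cfsg.pPrimeCore p H = ⊥) (P : Sylow p H) (hP1 : (P : Subgroup H) ≠ ⊥)
    (hTI : ∀ g : H, g ∉ Subgroup.normalizer ((P : Subgroup H) : Set H) → (P : Subgroup H) ⊓ (MulAut.conj g • (P : Subgroup H)) = ⊥) :
    ∃ N : Subgroup H, N.Normal ∧ N ≠ ⊥ ∧ (∀ K : Subgroup H, K.Normal → K ≠ ⊥ → N ≤ K) ∧
      IsSimpleGroup N ∧ ¬ IsMulCommutative N ∧ Subgroup.centralizer (N : Set H) = ⊥ ∧
      ∀ Q : Sylow p N, (Q : Subgroup N) ≠ ⊥ ∧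
        ∀ n : N, n ∉ Subgroup.normalizer ((Q : Subgroup N) : Set N) → (Q : Subgroup N) ⊓ (MulAut.conj n • (Q : Subgroup N)) = ⊥ := by
  have hTIall : TIall p H := tiall_of_one P hTI
  haveI : Nontrivial H := by
    obtain ⟨a, h⟩ := (Subgroup.ne_bot_iff_exists_ne_one (H := (P : Subgroup H))).mp hP1
    exact ⟨⟨a.1, 1, fun h1 => h (Subtype.ext h1)⟩⟩
  obtain ⟨N, hNn, hNne, hNmin, hNcomm, hNcent⟩ := exists_unique_minimal_normal hOp hOp' hTIall
  haveI := hNn
  obtain ⟨hNp, hNp', hNTI⟩ := inherit hOp hOp' hTIall N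
  haveI hNnt : Nontrivial N := (Subgroup.nontrivial_iff_ne_bot N).mpr hNne
  obtain ⟨M, hMn, hMne, hMmin, -, -⟩ := exists_unique_minimal_normal hNp hNp' hNTI
  haveI := hMn
  -- `M` is invariant under conjugation by `H`
  have hinv : ∀ h : H, ∀ m ∈ M, (MulAut.conjNormal h : MulAut N) m ∈ M := by
    intro h m hm
    have hn' : (M.map (MulAut.conjNormal h⁻¹ : MulAut N).toMonoidHom).Normal :=
      Subgroup.Normal.map hMn _ (MulAut.conjNormal h⁻¹ : MulAut N).surjective
    have hne' : M.map (MulAut.conjNormal h⁻¹ : MulAut N).toMonoidHom ≠ ⊥ := by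
      intro hbot
      apply hMne
      exact (Subgroup.map_eq_bot_iff_of_injective M
        (f := (MulAut.conjNormal h⁻¹ : MulAut N).toMonoidHom)
        (MulAut.conjNormal h⁻¹ : MulAut N).injective).mp hbot
    obtain ⟨m', hm', hmm'⟩ := hMmin _ hn' hne' hm
    have : (MulAut.conjNormal h : MulAut N) m = m' := by
      rw [← hmm']
      apply Subtype.ext
      simp only [MulEquiv.coe_toMonoidHom, MulAut.conjNormal_apply]
      group
    rw [this]; exact hm'
  have hM'n : (M.map N.subtype).Normal := by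
    refine ⟨fun y hy h => ?_⟩
    obtain ⟨m, hm, rfl⟩ := hy
    refine ⟨(MulAut.conjNormal h : MulAut N) m, hinv h m hm, ?_⟩
    simp [MulAut.conjNormal_apply]
  have hM'ne : M.map N.subtype ≠ ⊥ := by
    rw [Ne, Subgroup.map_eq_bot_iff_of_injective _ (Subgroup.subtype_injective N)]
    exact hMne
  have hNM := hNmin _ hM'n hM'ne
  have hMtop : M = ⊤ := by
    rw [eq_top_iff]
    intro n _
    obtain ⟨m, hm, hmn⟩ := hNM n.2
    have : m = n := Subtype.ext hmn
    rw [← this]; exact hm
  have hpN : p ∣ Nat.card N := prime_dvd_card_of_normal hOp' N hNne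
  refine ⟨N, hNn, hNne, hNmin, ?_, hNcomm, hNcent, ?_⟩
  · exact ⟨fun K hK => by
      by_cases h : K = ⊥
      · exact Or.inl h
      · right
        rw [eq_top_iff, ← hMtop]
        exact hMmin K hK h⟩
  · intro Q
    exact ⟨Q.ne_bot_of_dvd_card hpN, fun n hn => hNTI Q n hn⟩

end Cfsg.Agent.S4620
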