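import Cfsg.Statements.S4625
import Cfsg.Agent.Helper51.SqComm
import Cfsg.Agent.Helper51.SqX
import Cfsg.Agent.Helper80.SqL
import Cfsg.Agent.Helper80.SqS
import Cfsg.Agent.Helper76.SqU
import Cfsg.Agent.Helper37.SqOP
import Cfsg.Agent.Helper13.SqOM
import Cfsg.Agent.Helper66.SqTE6
import Cfsg.Agent.Helper66.SqTD4
import Cfsg.Agent.Helper12.SqSZ
import Cfsg.Agent.Helper12.SqTF4

set_option autoImplicit false
open Cfsg

namespace Cfsg.Agent.S4625

open Cfsg.Agent.Helper51.SQ Cfsg.Agent.Helper80.Sq Cfsg.Agent.Helper76.SqU Cfsg.Agent.Helper37.SqOP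
  Cfsg.Agent.Helper13.SqOM Cfsg.Agent.Helper66.SqTE6 Cfsg.Agent.Helper66.SqTD4 Cfsg.Agent.Helper12.SqSZ
  Cfsg.Agent.Helper12.SqTF4

/-- Let G be a finite simple group of Lie type in characteristic 2, not counting the Tits group ²F₄(2)′. Then a Sylow 2-subgroup P of G has P/P' elementary abelian: the square of every element of P lies in the derived subgroup of P. -/
theorem result {G : Type*} [Group G] [Finite G] [IsSimpleGroup G] (hG : Cfsg.IsLieTypeChar 2 G) (P : Sylow 2 G) :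
    ∀ x : (P : Subgroup G), x ^ 2 ∈ commutator (P : Subgroup G) := by
  have : Fact (Nat.Prime 2) := ⟨Nat.prime_two⟩
  show SqComm (P : Subgroup G)
  rcases hG with h | h | h | h | h | h | h | h | h | h | h
  · obtain ⟨F, _, _, _, n, hn, -, ⟨e⟩⟩ := h
    have : Finite (Matrix.ProjectiveSpecialLinearGroup (Fin n) F) := Finite.of_equiv G e.toEquiv
    exact sylow_all_of_mulEquiv e (fun P' => sq_PSL n hn P') P
  · obtain ⟨F, _, _, _, m, hm, -, ⟨e⟩⟩ := h
    have : Finite (PSp m F) := Finite.of_equiv G e.toEquiv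
    exact sylow_all_of_mulEquiv e (fun P' => sq_PSp m hm P') P
  · obtain ⟨F, _, _, _, n, q, hF, hn, -, ⟨e⟩⟩ := h
    have : Finite (PSU n F q) := Finite.of_equiv G e.toEquiv
    exact sylow_all_of_mulEquiv e (fun P' => sq_PSU n q hF hn P') P
  · exfalso
    obtain ⟨F, _, _, _, m, -, hodd, -⟩ := h
    obtain ⟨k, _, hcard⟩ := FiniteField.card F 2
    rw [hcard] at hodd
    have : Even (2 ^ (k : ℕ)) := (Nat.even_pow' (by exact k.ne_zero)).mpr even_two
    exact (Nat.not_even_iff_odd.mpr hodd) this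
  · obtain ⟨F, _, _, _, m, hm, ⟨e⟩⟩ := h
    have : Finite (POmega F (quadFormPlus m F)) := Finite.of_equiv G e.toEquiv
    exact sylow_all_of_mulEquiv e (fun P' => sq_POmegaPlus m hm P') P
  · obtain ⟨F, _, _, _, m, a, b, hm, hab, ⟨e⟩⟩ := h
    have : Finite (POmega F (quadFormMinus (m - 1) F a b)) := Finite.of_equiv G e.toEquiv
    exact sylow_all_of_mulEquiv e (fun P' => sq_POmegaMinus m hm a b hab P') P
  · obtain ⟨F, _, _, _, h⟩ := h
    rcases h with ⟨-, ⟨e⟩⟩ | ⟨⟨e⟩⟩ | ⟨⟨e⟩⟩ | ⟨⟨e⟩⟩ | ⟨⟨e⟩⟩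
    · have : Finite ↥(Lie.chevG2.group F) := Finite.of_equiv G e.toEquiv
      exact sylow_all_of_mulEquiv e (fun P' => sq_Chev Lie.chevG2 (by simp) P') P
    · have : Finite ↥(Lie.chevF4.group F) := Finite.of_equiv G e.toEquiv
      exact sylow_all_of_mulEquiv e (fun P' => sq_Chev Lie.chevF4 (by simp) P') P
    · have : Finite ↥(Lie.chevE6.group F) := Finite.of_equiv G e.toEquiv
      exact sylow_all_of_mulEquiv e (fun P' => sq_Chev Lie.chevE6 (by simp) P') P
    · have : Finite ↥(Lie.chevE7.group F) := Finite.of_equiv G e.toEquiv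
      exact sylow_all_of_mulEquiv e (fun P' => sq_Chev Lie.chevE7 (by simp) P') P
    · have : Finite ↥(Lie.chevE8.group F) := Finite.of_equiv G e.toEquiv
      exact sylow_all_of_mulEquiv e (fun P' => sq_Chev Lie.chevE8 (by simp) P') P
  · obtain ⟨K, _, _, _, q, hq, h⟩ := h
    rcases h with ⟨hK, ⟨e⟩⟩ | ⟨hK, ⟨e⟩⟩
    · have : Finite ↥(Lie.twistedE6 K q) := Finite.of_equiv G e.toEquiv
      exact sylow_all_of_mulEquiv e (fun P' => sq_2E6 q hq hK P') P
    · have : Finite ↥(Lie.twistedD4 K q) := Finite.of_equiv G e.toEquiv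
      exact sylow_all_of_mulEquiv e (fun P' => sq_3D4 q hq hK P') P
  · obtain ⟨-, F, _, _, m, hm, hF, ⟨e⟩⟩ := h
    have : Finite ↥(Lie.Sz F (2 ^ (m + 1))) := Finite.of_equiv G e.toEquiv
    exact sylow_all_of_mulEquiv e (fun P' => sq_Sz m hm hF P') P
  · obtain ⟨-, K, _, _, m, hm, hK, ⟨e⟩⟩ := h
    have : Finite ↥(Lie.twistedF4 K (2 ^ m)) := Finite.of_equiv G e.toEquiv
    exact sylow_all_of_mulEquiv e (fun P' => sq_2F4 m hm hK P') P
  · exact absurd h.1 (by norm_num)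

end Cfsg.Agent.S4625
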