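import Cfsg.Statements.S4626
-- import your own Cfsg.Agent.* helpers here
import Cfsg.Agent.Helper77.BlockOrth
import Cfsg.Agent.Helper78.LocalRing
import Cfsg.Agent.Helper78.IrrBasic
import Cfsg.Agent.Helper80.Degree

set_option autoImplicit false
open Cfsg

namespace Cfsg.Agent.S4626

/-- Let G be a finite group, p a prime, M a maximal ideal of the algebraic integers containing p, P a Sylow p-subgroup of G and N a normal subgroup of index prime to p containing the centralizer C_G(P). Then every irreducible character of G whose kernel contains N lies in the principal p-block of G. -/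
theorem result {G : Type*} [Group G] [Finite G] (p : ℕ) [Fact p.Prime] (M : Ideal Cfsg.AlgInt) (hM : Cfsg.IsPModular p M) (P : Sylow p G) (N : Subgroup G) [N.Normal] (hidx : ¬ p ∣ N.index)
    (hC : Subgroup.centralizer ((P : Subgroup G) : Set G) ≤ N) (χ : Cfsg.IrrCharacter G) (hker : ∀ n ∈ N, (χ : G → ℂ) n = (χ : G → ℂ) 1) :
    χ ∈ Cfsg.principalBlock M G := by
  classical
  have : Fintype G := Fintype.ofFinite G
  have hMp : M.IsPrime := Helper77.isPrime_of_isPModular hM
  have hp : p.Prime := hM.1
  have hχirr : IsIrrCharacter G (χ : G → ℂ) := χ.2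
  have hχc : IsCharacter G (χ : G → ℂ) := Helper80.IsIrrCharacter.isCharacter hχirr
  -- (a) `p ∤ χ(1)`
  have hdeg : ¬ p ∣ charDegree (χ : G → ℂ) := by
    intro hdvd
    have h1 := Helper80.IsIrrCharacter.card_ker_mul_charDegree_dvd hχirr
    have hcardK : Nat.card {g : G // (χ : G → ℂ) g = (χ : G → ℂ) 1} =
        Nat.card (Helper80.kerChar (χ : G → ℂ) hχc) := by
      apply Nat.card_congr
      exact Equiv.subtypeEquivRight fun g => (Helper80.mem_kerChar hχc g).symm
    have hNle : N ≤ Helper80.kerChar (χ : G → ℂ) hχc := fun n hn =>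
      (Helper80.mem_kerChar hχc n).mpr (hker n hn)
    have h2 : Nat.card N ∣ Nat.card (Helper80.kerChar (χ : G → ℂ) hχc) :=
      Subgroup.card_dvd_of_le hNle
    rw [hcardK] at h1
    have h3 : Nat.card N * charDegree (χ : G → ℂ) ∣ Nat.card N * N.index := by
      rw [Subgroup.card_mul_index]
      exact dvd_trans (Nat.mul_dvd_mul_right h2 _) h1
    have h4 : charDegree (χ : G → ℂ) ∣ N.index :=
      (Nat.mul_dvd_mul_iff_left Nat.card_pos).mp h3
    exact hidx (dvd_trans hdvd h4)
  have hχ1 : (χ : G → ℂ) 1 = (charDegree (χ : G → ℂ) : ℂ) :=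
    Helper78.irrChar_one_eq_charDegree hχirr
  have hχ10 : (χ : G → ℂ) 1 ≠ 0 := Helper78.irrChar_one_ne_zero hχirr
  have hinv : MemLocalRing M ((χ : G → ℂ) 1)⁻¹ := by
    rw [hχ1]
    exact Helper78.memLocalRing_inv_natCast hM
      ((Nat.Prime.coprime_iff_not_dvd hp).mpr hdeg).symm
  -- (b) the central characters agree modulo the local ideal
  intro g
  show MemLocalIdeal M (centralChar (fun _ : G => (1 : ℂ)) g - centralChar (χ : G → ℂ) g)
  set idx := (Subgroup.centralizer ({g} : Set G)).index with hidxdef
  have hc1 : centralChar (fun _ : G => (1 : ℂ)) g = (idx : ℂ) := by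
    show ((Subgroup.centralizer ({g} : Set G)).index : ℂ) * 1 / 1 = _
    rw [mul_one, div_one]
  have hcχ : centralChar (χ : G → ℂ) g = (idx : ℂ) * (χ : G → ℂ) g / (χ : G → ℂ) 1 := rfl
  by_cases hpi : p ∣ idx
  · -- both central characters lie in the local ideal
    have hI : MemLocalIdeal M (idx : ℂ) := (Helper77.memLocalIdeal_natCast_iff hM idx).mpr hpi
    refine Helper77.memLocalIdeal_sub M (hc1 ▸ hI) ?_
    rw [hcχ, div_eq_mul_inv, mul_assoc, mul_comm]
    refine Helper77.memLocalIdeal_mul_left M ?_ hI
    exact Helper77.memLocalRing_mul M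
      (Helper77.memLocalRing_of_isIntegral M (Helper78.isIntegral_irrChar_apply hχirr g)) hinv
  · -- `g` is conjugate into `C_G(P) ≤ N`
    let _ : MulAction (P : Subgroup G) G := Helper16.conjActionOn (P : Subgroup G)
    have hsum : ∑ x : G, Helper16.classInd g x = (idx : ℂ) := by
      have h1 : ∀ x : G, Helper16.classInd g x = if IsConj g x then (1 : ℂ) else 0 := by
        intro x
        unfold Helper16.classInd
        by_cases h : IsConj g x
        · simp only [if_pos h]
        · simp only [if_neg h]
      rw [Finset.sum_congr rfl (fun x _ => h1 x), Finset.sum_boole]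
      exact Helper16.card_filter_isConj' g
    obtain ⟨x, hxfix, hxI⟩ := Helper16.exists_fixed_of_sum_not_memLocalIdeal (M := M) hM.2.2
      (Γ := (P : Subgroup G)) (X := G) P.isPGroup' (Helper16.classInd g)
      (fun y => by
        unfold Helper16.classInd
        split_ifs
        · exact Helper16.memLocalRing_one
        · exact Helper16.memLocalRing_zero)
      (fun u y => Helper16.isClassFunction_classInd g y (u : G))
      (by rw [hsum, Helper77.memLocalIdeal_natCast_iff hM]; exact hpi)
    have hconj : IsConj g x := by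
      by_contra hne
      apply hxI
      unfold Helper16.classInd
      rw [if_neg hne]
      exact Helper77.memLocalIdeal_zero M
    have hxC : x ∈ Subgroup.centralizer ((P : Subgroup G) : Set G) := by
      rw [Subgroup.mem_centralizer_iff]
      intro u hu
      have h1 : u * x * u⁻¹ = x := hxfix ⟨u, hu⟩
      calc u * x = u * x * u⁻¹ * u := by group
        _ = x * u := by rw [h1]
    have hxN : x ∈ N := hC hxC
    have hgN : g ∈ N := by
      obtain ⟨c, hc⟩ := isConj_iff.mp hconj
      have : g = c⁻¹ * x * c := by rw [← hc]; group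
      rw [this]
      have := ‹N.Normal›.conj_mem x hxN c⁻¹
      simpa using this
    rw [hc1, hcχ, hker g hgN, mul_div_assoc, div_self hχ10, mul_one, sub_self]
    exact Helper77.memLocalIdeal_zero M

end Cfsg.Agent.S4626
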