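import Cfsg.Statements.S4630
import Cfsg.Agent.Helper43.SylMatJ

set_option autoImplicit false
open Cfsg

namespace Cfsg.Agent.S4630

/-- Let F be a finite field of odd order and m ≥ 1 with m even or m ≥ 4. For the commutator subgroup Ω of the isometry group of the plus-type quadratic form Σ_{i<m} x_i y_i in dimension 2m over F, a Sylow 2-subgroup P of Ω has P/P' elementary abelian: the square of every element of P lies in the derived subgroup of P. -/
theorem result {F : Type*} [Field F] [Fintype F] (hF : Odd (Fintype.card F)) (m : ℕ) (hm : 1 ≤ m) (hm' : Even m ∨ 4 ≤ m) (P : Sylow 2 (Cfsg.Omega F (Cfsg.quadFormPlus m F))) : ∀ x : (P : Subgroup (Cfsg.Omega F (Cfsg.quadFormPlus m F))), x ^ 2 ∈ commutator (P : Subgroup (Cfsg.Omega F (Cfsg.quadFormPlus m F))) := by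
  classical
  have hodd : Fintype.card F % 2 = 1 := Nat.odd_iff.1 hF
  have hV : Module.finrank F (Fin m ⊕ Fin m → F) = 2 * m := by
    rw [Module.finrank_fintype_fun_eq_card, Fintype.card_sum, Fintype.card_fin, two_mul]
  have hnd := (Cfsg.Agent.Helper44.QType.nondeg_iff _).mp (Cfsg.Agent.Helper44.nondegenerate_plusForm (F := F) m)
  have hQ : Cfsg.Agent.Helper44.QType.HasType (⇑(Cfsg.Agent.Helper44.plusForm m F)) m 1 :=
    Cfsg.Agent.Helper44.QType.hasType_plus m
  have hS := Cfsg.Agent.S0287.result (F := F) rfl m hm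
  by_cases hcase : Fintype.card F % 4 = 1 ∨ Even m
  · -- model with `m` planes
    have hchi : Cfsg.Agent.Helper43.Syl.chi F ^ m = 1 := by
      rcases hcase with h | h
      · rw [(Cfsg.Agent.Helper43.Syl.chi_eq_one_iff hF).2 h, one_pow]
      · by_cases h1 : Fintype.card F % 4 = 1
        · rw [(Cfsg.Agent.Helper43.Syl.chi_eq_one_iff hF).2 h1, one_pow]
        · rw [(Cfsg.Agent.Helper43.Syl.chi_eq_neg_one_iff hF).2 (by omega), h.neg_one_pow]
    have hM := Cfsg.Agent.Helper60.Syl.hasType_mForm_zero hF m (Fin.elim0 : Fin 0 → F)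
    rw [hchi] at hM
    have hk : 2 ≤ m := by
      rcases hm' with h | h
      · rcases h with ⟨r, hr⟩
        omega
      · omega
    exact Cfsg.Agent.Helper43.Syl.sylow_even hF (Cfsg.Agent.Helper44.plusForm m F) hV hnd hQ hk
      (Fin.elim0 : Fin 0 → F) (fun i => Fin.elim0 i) (by omega) hM
      (by
        show padicValNat 2 (Nat.card (Cfsg.isometryGroup F (Cfsg.quadFormPlus m F))) = _
        rw [hS, add_zero]
        exact Cfsg.Agent.Helper49.Syl.v2_card_plus_a _ m hF
          (Cfsg.Agent.Helper43.Syl.three_le_card hF) hm hcase) P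
  · -- model with `m - 1` planes and two lines
    have hq3 : Fintype.card F % 4 = 3 := by
      by_contra h
      exact hcase (Or.inl (by omega))
    have hmodd : Odd m := by
      rw [← Nat.not_even_iff_odd]
      intro h
      exact hcase (Or.inr h)
    have hm4 : 4 ≤ m := by
      rcases hm' with h | h
      · exact absurd h (Nat.not_even_iff_odd.2 hmodd)
      · exact h
    obtain ⟨δ, hδ⟩ := FiniteField.exists_nonsquare (F := F)
      (Cfsg.Agent.Helper44.ringChar_ne_two_of_two_ne_zero
        (Cfsg.Agent.Helper60.Syl.two_ne_zero_of_odd hF))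
    have hδ0 : δ ≠ 0 := by
      rintro rfl
      exact hδ ⟨0, by simp⟩
    have hM := Cfsg.Agent.Helper60.Syl.hasType_mForm_two hF (m - 1) ![1, δ] rfl hδ
    have hm1 : m - 1 + 1 = m := by omega
    rw [hm1, (Cfsg.Agent.Helper43.Syl.chi_eq_neg_one_iff hF).2 hq3, hmodd.neg_one_pow,
      neg_neg] at hM
    exact Cfsg.Agent.Helper43.Syl.sylow_even hF (Cfsg.Agent.Helper44.plusForm m F) hV hnd hQ
      (by omega : 2 ≤ m - 1) ![1, δ]
      (by
        intro i
        fin_cases i
        · exact one_ne_zero
        · exact hδ0) (by omega) hM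
      (by
        show padicValNat 2 (Nat.card (Cfsg.isometryGroup F (Cfsg.quadFormPlus m F))) = _
        rw [hS]
        exact Cfsg.Agent.Helper49.Syl.v2_card_plus_b _ m hF
          (Cfsg.Agent.Helper43.Syl.three_le_card hF) hm ⟨hq3, hmodd⟩) P

end Cfsg.Agent.S4630
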