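import Cfsg.Statements.S4631
import Cfsg.Agent.Helper43.SylMatJ

set_option autoImplicit false
open Cfsg

namespace Cfsg.Agent.S4631

/-- Let F be a finite field of odd order, m ≥ 4, and a, b ∈ F with z₁² + a z₁ z₂ + b z₂² anisotropic. For the commutator subgroup Ω of the isometry group of the minus-type quadratic form Σ_{i<m−1} x_i y_i + (z₁² + a z₁ z₂ + b z₂²) in dimension 2m over F, a Sylow 2-subgroup P of Ω has P/P' elementary abelian: the square of every element of P lies in the derived subgroup of P. -/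
theorem result {F : Type*} [Field F] [Fintype F] (hF : Odd (Fintype.card F)) (m : ℕ) (hm : 4 ≤ m) (a b : F) (hab : ∀ z₁ z₂ : F, z₁ ^ 2 + a * z₁ * z₂ + b * z₂ ^ 2 = 0 → z₁ = 0 ∧ z₂ = 0) (P : Sylow 2 (Cfsg.Omega F (Cfsg.quadFormMinus (m - 1) F a b))) : ∀ x : (P : Subgroup (Cfsg.Omega F (Cfsg.quadFormMinus (m - 1) F a b))), x ^ 2 ∈ commutator (P : Subgroup (Cfsg.Omega F (Cfsg.quadFormMinus (m - 1) F a b))) := by
  classical
  have hodd : Fintype.card F % 2 = 1 := Nat.odd_iff.1 hF
  have h2 : (2 : F) ≠ 0 := Cfsg.Agent.Helper60.Syl.two_ne_zero_of_odd hF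
  have hm1 : m - 1 + 1 = m := by omega
  have hV : Module.finrank F ((Fin (m - 1) ⊕ Fin (m - 1)) ⊕ Fin 2 → F) = 2 * m := by
    rw [Module.finrank_fintype_fun_eq_card, Fintype.card_sum, Fintype.card_sum, Fintype.card_fin,
      Fintype.card_fin]
    omega
  have hnd := (Cfsg.Agent.Helper44.QType.nondeg_iff _).mp
    (Cfsg.Agent.Helper44.nondegenerate_minusForm (F := F) (m - 1) a b
      (Cfsg.Agent.Helper43.Syl.disc_ne_zero h2 a b hab))
  have hQ : Cfsg.Agent.Helper44.QType.HasType (⇑(Cfsg.Agent.Helper44.minusForm (m - 1) F a b)) m (-1) := by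
    have h := Cfsg.Agent.Helper44.QType.hasType_minus (m - 1) a b hab
    rw [hm1] at h
    exact h
  have hS := Cfsg.Agent.S0288.result (F := F) rfl m (by omega) a b hab
  by_cases hcase : Fintype.card F % 4 = 1 ∨ Even m
  · -- model with `m - 1` planes and two lines
    have hchi : Cfsg.Agent.Helper43.Syl.chi F ^ m = 1 := by
      rcases hcase with h | h
      · rw [(Cfsg.Agent.Helper43.Syl.chi_eq_one_iff hF).2 h, one_pow]
      · by_cases h1 : Fintype.card F % 4 = 1
        · rw [(Cfsg.Agent.Helper43.Syl.chi_eq_one_iff hF).2 h1, one_pow]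
        · rw [(Cfsg.Agent.Helper43.Syl.chi_eq_neg_one_iff hF).2 (by omega), h.neg_one_pow]
    obtain ⟨δ, hδ⟩ := FiniteField.exists_nonsquare (F := F)
      (Cfsg.Agent.Helper44.ringChar_ne_two_of_two_ne_zero h2)
    have hδ0 : δ ≠ 0 := by
      rintro rfl
      exact hδ ⟨0, by simp⟩
    have hM := Cfsg.Agent.Helper60.Syl.hasType_mForm_two hF (m - 1) ![1, δ] rfl hδ
    rw [hm1, hchi] at hM
    exact Cfsg.Agent.Helper43.Syl.sylow_even hF (Cfsg.Agent.Helper44.minusForm (m - 1) F a b) hV
      hnd hQ (by omega : 2 ≤ m - 1) ![1, δ]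
      (by
        intro i
        fin_cases i
        · exact one_ne_zero
        · exact hδ0) (by omega) hM
      (by
        show padicValNat 2 (Nat.card (Cfsg.isometryGroup F (Cfsg.quadFormMinus (m - 1) F a b))) = _
        rw [hS]
        exact Cfsg.Agent.Helper49.Syl.v2_card_minus_b _ m hF
          (Cfsg.Agent.Helper43.Syl.three_le_card hF) (by omega) hcase) P
  · -- model with `m` planes
    have hq3 : Fintype.card F % 4 = 3 := by
      by_contra h
      exact hcase (Or.inl (by omega))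
    have hmodd : Odd m := by
      rw [← Nat.not_even_iff_odd]
      intro h
      exact hcase (Or.inr h)
    have hM := Cfsg.Agent.Helper60.Syl.hasType_mForm_zero hF m (Fin.elim0 : Fin 0 → F)
    rw [(Cfsg.Agent.Helper43.Syl.chi_eq_neg_one_iff hF).2 hq3, hmodd.neg_one_pow] at hM
    exact Cfsg.Agent.Helper43.Syl.sylow_even hF (Cfsg.Agent.Helper44.minusForm (m - 1) F a b) hV
      hnd hQ (by omega : 2 ≤ m) (Fin.elim0 : Fin 0 → F) (fun i => Fin.elim0 i) (by omega) hM
      (by
        show padicValNat 2 (Nat.card (Cfsg.isometryGroup F (Cfsg.quadFormMinus (m - 1) F a b))) = _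
        rw [hS, add_zero]
        exact Cfsg.Agent.Helper49.Syl.v2_card_minus_a _ m hF
          (Cfsg.Agent.Helper43.Syl.three_le_card hF) (by omega) ⟨hq3, hmodd⟩) P

end Cfsg.Agent.S4631
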