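import Cfsg.Statements.S4636
-- import your own Cfsg.Agent.* helpers here

set_option autoImplicit false
open scoped Pointwise
open Cfsg

namespace Cfsg.Agent.S4636

/-- Let P be a nontrivial cyclic p-subgroup of the finite group G and Z its subgroup of order p. For every x outside N_G(Z), P meets its conjugate xPx⁻¹ trivially; consequently N_G(Q) ≤ N_G(Z) for every nontrivial subgroup Q of P. -/
theorem result {G : Type*} [Group G] [Finite G] (p : ℕ) [Fact p.Prime] (P : Subgroup G) (hP : IsPGroup p P) (hP1 : P ≠ ⊥) (hcyc : IsCyclic P) (Z : Subgroup G) (hZ : Z ≤ P) (hZcard : Nat.card Z = p) : (∀ x : G, x ∉ Subgroup.normalizer (Z : Set G) → P ⊓ MulAut.conj x • P = ⊥) ∧ ∀ Q : Subgroup G, Q ≤ P → Q ≠ ⊥ → Subgroup.normalizer (Q : Set G) ≤ Subgroup.normalizer (Z : Set G) := by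
  classical
  have : Fintype G := Fintype.ofFinite G
  have hpp : p.Prime := Fact.out
  -- every element of P of order dividing p lies in Z
  have hZchar : ∀ y ∈ P, y ^ p = 1 → y ∈ Z := by
    intro y hy hyp
    have : IsCyclic P := hcyc
    have hle := IsCyclic.card_pow_eq_one_le (α := P) (n := p) hpp.pos
    -- the elements of Z, viewed inside P
    let S : Finset P := Finset.univ.filter (fun a : P => a ^ p = 1)
    let ZP : Finset P := Finset.univ.filter (fun a : P => (a : G) ∈ Z)
    have hZPcard : ZP.card = p := by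
      rw [← hZcard, Nat.card_eq_fintype_card, Fintype.card_subtype]
      symm
      refine Finset.card_bij (fun a _ => ⟨a, hZ (Finset.mem_filter.mp ‹_›).2⟩) ?_ ?_ ?_
      · intro a ha
        simp only [ZP, Finset.mem_filter, Finset.mem_univ, true_and] at ha ⊢
        exact ha
      · intro a ha b hb hab
        simpa using congrArg (fun t : P => (t : G)) hab
      · intro b hb
        simp only [ZP, Finset.mem_filter, Finset.mem_univ, true_and] at hb
        exact ⟨(b : G), by simp [hb], by ext; rfl⟩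
    have hsub : ZP ⊆ S := by
      intro a ha
      simp only [ZP, S, Finset.mem_filter, Finset.mem_univ, true_and] at ha ⊢
      have h1 : (⟨(a : G), ha⟩ : Z) ^ Nat.card Z = 1 := pow_card_eq_one'
      rw [hZcard] at h1
      have h2 := congrArg (fun t : Z => (t : G)) h1
      simp only [Subgroup.coe_pow, Subgroup.coe_one] at h2
      ext
      simpa using h2
    have heq : ZP = S := Finset.eq_of_subset_of_card_le hsub (by rw [hZPcard]; exact hle)
    have : (⟨y, hy⟩ : P) ∈ S := by
      simp only [S, Finset.mem_filter, Finset.mem_univ, true_and]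
      ext
      simpa using hyp
    rw [← heq] at this
    simpa [ZP] using this
  -- a nontrivial subgroup of P contains an element of order p
  have hexists : ∀ W : Subgroup G, W ≤ P → W ≠ ⊥ → ∃ w ∈ W, w ≠ 1 ∧ w ^ p = 1 := by
    intro W hW hW1
    obtain ⟨w, hwW, hw1⟩ : ∃ w ∈ W, w ≠ 1 := by
      obtain ⟨w, h⟩ := (Subgroup.ne_bot_iff_exists_ne_one (H := W)).mp hW1
      exact ⟨(w : G), w.2, fun h' => h (Subtype.ext h')⟩
    obtain ⟨k, hk⟩ := (IsPGroup.iff_orderOf.mp hP) ⟨w, hW hwW⟩
    rw [Subgroup.orderOf_mk] at hk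
    have hk0 : k ≠ 0 := by
      rintro rfl
      simp at hk
      exact hw1 hk
    obtain ⟨j, rfl⟩ := Nat.exists_eq_succ_of_ne_zero hk0
    refine ⟨w ^ p ^ j, W.pow_mem hwW _, ?_, ?_⟩
    · intro h
      have := orderOf_dvd_of_pow_eq_one h
      rw [hk] at this
      have := Nat.le_of_dvd (pow_pos hpp.pos _) this
      have h2 : p ^ j < p ^ j.succ := Nat.pow_lt_pow_right hpp.one_lt (Nat.lt_succ_self j)
      omega
    · rw [← pow_mul, ← pow_succ, ← hk]
      exact pow_orderOf_eq_one w
  -- Z is generated by any of its nontrivial elements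
  have hZgen : ∀ w ∈ Z, w ≠ 1 → ∀ z ∈ Z, z ∈ Subgroup.zpowers w := by
    intro w hw hw1 z hz
    have : Fact (Nat.card Z).Prime := ⟨by rw [hZcard]; exact hpp⟩
    have htop := zpowers_eq_top_of_prime_card (G := Z) (g := ⟨w, hw⟩) (p := Nat.card Z) rfl (fun h => hw1 (by simpa using congrArg (fun t : Z => (t : G)) h))
    have : (⟨z, hz⟩ : Z) ∈ Subgroup.zpowers (⟨w, hw⟩ : Z) := by rw [htop]; trivial
    obtain ⟨n, hn⟩ := Subgroup.mem_zpowers_iff.mp this
    refine Subgroup.mem_zpowers_iff.mpr ⟨n, ?_⟩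
    simpa using congrArg (fun t : Z => (t : G)) hn
  -- conjugation criterion
  have hnorm : ∀ x : G, (∃ w ∈ Z, w ≠ 1 ∧ x * w * x⁻¹ ∈ Z) → x ∈ Subgroup.normalizer (Z : Set G) := by
    intro x ⟨w, hw, hw1, hxw⟩
    -- x Z x⁻¹ ≤ Z
    have hle : ∀ z ∈ Z, x * z * x⁻¹ ∈ Z := by
      intro z hz
      obtain ⟨n, rfl⟩ := Subgroup.mem_zpowers_iff.mp (hZgen w hw hw1 z hz)
      have : x * w ^ n * x⁻¹ = (x * w * x⁻¹) ^ n := by
        simp [conj_zpow]
      rw [this]
      exact Z.zpow_mem hxw n
    have hw1' : x * w * x⁻¹ ≠ 1 := by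
      intro h
      apply hw1
      have := congrArg (fun t => x⁻¹ * t * x) h
      simpa [mul_assoc] using this
    have hge : ∀ z ∈ Z, x⁻¹ * z * x ∈ Z := by
      intro z hz
      obtain ⟨n, rfl⟩ := Subgroup.mem_zpowers_iff.mp (hZgen _ hxw hw1' z hz)
      have : x⁻¹ * (x * w * x⁻¹) ^ n * x = w ^ n := by
        rw [conj_zpow]
        group
      rw [this]
      exact Z.zpow_mem hw n
    rw [Subgroup.mem_normalizer_iff]
    intro h
    constructor
    · exact hle h
    · intro hh
      have := hge _ hh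
      simpa [mul_assoc] using this
  constructor
  · intro x hx
    by_contra hne
    obtain ⟨w, hwW, hw1, hwp⟩ := hexists (P ⊓ MulAut.conj x • P) inf_le_left hne
    have hwP : w ∈ P := hwW.1
    have hwxP : w ∈ MulAut.conj x • P := hwW.2
    rw [Subgroup.mem_pointwise_smul_iff_inv_smul_mem] at hwxP
    simp only [MulAut.smul_def, MulAut.conj_inv_apply] at hwxP
    apply hx
    have hv : x⁻¹ * w * x ∈ Z := by
      apply hZchar _ hwxP
      have : (x⁻¹ * w * x) ^ p = x⁻¹ * w ^ p * x := by
        have := conj_pow (a := x⁻¹) (b := w) (i := p)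
        simpa using this
      rw [this, hwp]
      group
    have hv1 : x⁻¹ * w * x ≠ 1 := by
      intro h
      apply hw1
      have := congrArg (fun t => x * t * x⁻¹) h
      simpa [mul_assoc] using this
    apply hnorm x ⟨x⁻¹ * w * x, hv, hv1, ?_⟩
    have : x * (x⁻¹ * w * x) * x⁻¹ = w := by group
    rw [this]
    exact hZchar w hwP hwp
  · intro Q hQP hQ1 g hg
    obtain ⟨w, hwQ, hw1, hwp⟩ := hexists Q hQP hQ1
    have hwZ : w ∈ Z := hZchar w (hQP hwQ) hwp
    apply hnorm g ⟨w, hwZ, hw1, ?_⟩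
    have hgQ : g * w * g⁻¹ ∈ Q := (Subgroup.mem_normalizer_iff.mp hg w).mp hwQ
    apply hZchar _ (hQP hgQ)
    have : (g * w * g⁻¹) ^ p = g * w ^ p * g⁻¹ := conj_pow
    rw [this, hwp]
    group

end Cfsg.Agent.S4636
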