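import Cfsg.Statements.S4638
-- import your own Cfsg.Agent.* helpers here
import Cfsg.Agent.Helper77.PerfAssemble
import Cfsg.Agent.Helper77.PerfCorr
import Cfsg.Agent.Helper77.PerfMatch

set_option autoImplicit false
open Cfsg

namespace Cfsg.Agent.S4638

/-- Let B be a block of the finite group G relative to a maximal ideal M of the algebraic integers containing 2, with a Klein four defect group P, and let c be its Brauer correspondent: the block of N_G(P) with defect group P that induces B. Then there is a perfect isometry from c onto B. -/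
theorem result {G : Type*} [Group G] [Finite G] (M : Ideal Cfsg.AlgInt) (hM : Cfsg.IsPModular 2 M) (B : Set (Cfsg.IrrCharacter G)) (hB : Cfsg.IsPBlock M B) (P : Subgroup G) (hPD : Cfsg.IsDefectGroup 2 M B P) (hV : IsKleinFour P) (c : Set (Cfsg.IrrCharacter (Subgroup.normalizer (P : Set G)))) (hcD : Cfsg.IsDefectGroup 2 M c (P.subgroupOf (Subgroup.normalizer (P : Set G)))) (hc : Cfsg.IsInducedBlock M (Subgroup.normalizer (P : Set G)) c B) : ∃ (I : Cfsg.IrrCharacter (Subgroup.normalizer (P : Set G)) → Cfsg.IrrCharacter G) (ε : Cfsg.IrrCharacter (Subgroup.normalizer (P : Set G)) → ℤ), Cfsg.IsPerfectIsometry 2 M c B I ε := by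
  classical
  haveI : Fintype G := Fintype.ofFinite G
  haveI : Fintype (Subgroup.normalizer (P : Set G)) := Fintype.ofFinite _
  haveI : Fact (Nat.Prime 2) := ⟨Nat.prime_two⟩
  have hab : ∀ x ∈ P, ∀ y ∈ P, x * y = y * x := by
    intro x hx y hy
    have := mul_comm_of_exponent_two (G := P) hV.exponent_two ⟨x, hx⟩ ⟨y, hy⟩
    exact congrArg Subtype.val this
  obtain ⟨α, bP, hαc, hbP, hidx⟩ :=
    Cfsg.Agent.Helper77.exists_roots_same_index hM B P hab c hcD hc
  have hV' : IsKleinFour ↥(P.subgroupOf (Subgroup.normalizer (P : Set G))) := by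
    have e := Subgroup.subgroupOfEquivOfLe
      (Subgroup.le_normalizer : P ≤ Subgroup.normalizer (P : Set G))
    exact ⟨by rw [Nat.card_congr e.toEquiv]; exact hV.card_four,
      by rw [Monoid.exponent_eq_of_mulEquiv e]; exact hV.exponent_two⟩
  have hcB : Cfsg.IsPBlock M c := hc.1
  obtain ⟨-, -, hrB⟩ := Cfsg.Agent.Helper77.klein_four_main hM B hB P hPD hV bP hbP
    (Cfsg.Agent.Helper77.stabT P bP) (fun g => Cfsg.Agent.Helper77.mem_stabT P bP g) _ rfl
  obtain ⟨-, -, hrc⟩ := Cfsg.Agent.Helper77.klein_four_main hM c hcB _ hcD hV' α hαc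
    (Cfsg.Agent.Helper77.stabT _ α) (fun g => Cfsg.Agent.Helper77.mem_stabT _ α g) _ rfl
  have hrank : Cfsg.blockRank 2 c = Cfsg.blockRank 2 B := by rw [hrB, hrc, hidx]
  obtain ⟨r, d, hr4, hr13, hS⟩ := Cfsg.Agent.Helper77.exists_kleinSing hM B hB P hPD hV bP hbP
  obtain ⟨r', d', hr4', hr13', hS'⟩ :=
    Cfsg.Agent.Helper77.exists_kleinSing hM c hcB _ hcD hV' α hαc
  have hrr : r' = r := by omega
  subst hrr
  obtain ⟨I, ε, hI, hε, hstar⟩ := Cfsg.Agent.Helper77.exists_matching hS hS' hr13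
  exact ⟨I, ε, Cfsg.Agent.Helper77.isPerfectIsometry_of_kleinSing hM hS hS' I ε hI hε hstar⟩

end Cfsg.Agent.S4638
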