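import Cfsg.Statements.S4642
-- import your own Cfsg.Agent.* helpers here
import Cfsg.Agent.Helper82.PrincipalTypeGlaub
import Cfsg.Agent.Helper82.FongCharPFinal
import Cfsg.Agent.Helper82.CharPWitness
import Cfsg.Agent.Helper54.CharPCent
import Cfsg.Agent.Helper89.CharPSylow

set_option autoImplicit false
open Cfsg

namespace Cfsg.Agent.S4642

/-- Let G be a finite group, p a prime, M a maximal ideal of the algebraic integers containing p, K the largest normal subgroup of G of order prime to p, and L the preimage in G of the largest normal p-subgroup of G/K. Let Q be a Sylow p-subgroup of L and suppose C_G(Q) ≤ L. Let θ be an irreducible character of K invariant under conjugation by every element of G, and let B be the set of irreducible characters of G whose restriction to K contains θ. Then B is a block of G, every Sylow p-subgroup of G is a defect group of B, and B is of principal type: for every p-subgroup R of G exactly one block of C_G(R) induces B. -/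
theorem result {G : Type*} [Group G] [Fintype G] (p : ℕ) [Fact p.Prime] (M : Ideal Cfsg.AlgInt) (hM : Cfsg.IsPModular p M) (K : Subgroup G) (hK : K = Cfsg.pPrimeCore p G) [Fintype K] (L : Subgroup G) (hL : L = Cfsg.pPrimePCore p G) (Q : Subgroup G) (hQL : Q ≤ L) (hQp : IsPGroup p Q) (hQS : ¬ p ∣ Q.relIndex L) (hCQ : Subgroup.centralizer (Q : Set G) ≤ L) (θ : Cfsg.IrrCharacter K) (hθ : ∀ g : G, Cfsg.IsConjCharOf K g (θ : K → ℂ) (θ : K → ℂ)) (B : Set (Cfsg.IrrCharacter G)) (hBdef : ∀ χ : Cfsg.IrrCharacter G, χ ∈ B ↔ Cfsg.classInner (fun k : K => (χ : G → ℂ) k) (θ : K → ℂ) ≠ 0) : Cfsg.IsPBlock M B ∧ (∀ S : Sylow p G, Cfsg.IsDefectGroup p M B S) ∧ ∀ R : Subgroup G, IsPGroup p R → ∃! f : Set (Cfsg.IrrCharacter (Subgroup.centralizer (R : Set G))), Cfsg.IsInducedBlock M (Subgroup.centralizer (R : Set G)) f B := by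
  classical
  have hW : Cfsg.Agent.Helper82.CharPWitness p K L :=
    Cfsg.Agent.Helper89.charPWitness_of_sylow_centralizer p K L Q hK hL hQL hQp hQS hCQ
  haveI hKn : K.Normal := hW.normalN
  have hpp : p.Prime := Fact.out
  have hKp : ¬ p ∣ Nat.card K := by
    rw [hK]
    exact (Nat.Prime.coprime_iff_not_dvd hpp).mp
      (Cfsg.Agent.Lib.card_pPrimeCore_coprime (G := G) p).symm
  have hHH := hW.centralizer_pCore_le
  have hinv : ∀ (g : G) (n : K),
      (θ : K → ℂ) ⟨g * n * g⁻¹, hKn.conj_mem n n.2 g⟩ = (θ : K → ℂ) n := by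
    intro g n
    exact hθ g n ⟨g * n * g⁻¹, hKn.conj_mem n n.2 g⟩ rfl
  have hinv' : ∀ g : G, Cfsg.Agent.Helper15.conjFun K g (θ : K → ℂ) = (θ : K → ℂ) := by
    intro g
    funext n
    rw [Cfsg.Agent.Helper15.conjFun_apply]
    exact hinv g n
  obtain ⟨B', hB', hmem', hsyl', -⟩ :=
    Cfsg.Agent.Helper82.fong_block_charp p M hM K hKp hHH θ hinv
  have hBB' : B = B' := by
    ext χ
    rw [hBdef, hmem']
  subst hBB'
  refine ⟨hB', fun S => hsyl' S, fun R hR => ?_⟩
  letI : Fintype ↥(Subgroup.centralizer (R : Set G)) := Fintype.ofFinite _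
  letI : Fintype ↥(K.subgroupOf (Subgroup.centralizer (R : Set G))) := Fintype.ofFinite _
  obtain ⟨β, m, D⟩ := Cfsg.Agent.Helper82.PrincipalType.exists_datum K R hKp hR θ hinv'
  obtain ⟨V, hV⟩ := Cfsg.Agent.Helper54.exists_charPWitness_centralizer hW hKp R hR
  have hNp : ¬ p ∣ Nat.card ↥(K.subgroupOf (Subgroup.centralizer (R : Set G))) := by
    intro h
    apply hKp
    refine h.trans ?_
    let φ : ↥(K.subgroupOf (Subgroup.centralizer (R : Set G))) →* K :=
      { toFun := fun n => ⟨((n : ↥(Subgroup.centralizer (R : Set G))) : G),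
          Subgroup.mem_subgroupOf.mp n.2⟩
        map_one' := rfl
        map_mul' := fun _ _ => rfl }
    have hφ : Function.Injective φ := by
      intro x y hxy
      have : ((x : ↥(Subgroup.centralizer (R : Set G))) : G) =
          ((y : ↥(Subgroup.centralizer (R : Set G))) : G) :=
        congrArg (fun z : K => (z : G)) hxy
      exact Subtype.ext (Subtype.ext this)
    exact Subgroup.card_dvd_of_injective φ hφ
  refine Cfsg.Agent.Helper82.PrincipalType.existsUnique_isInducedBlock K R hM hKp θ hinv' B hB'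
    hmem' hR β m D ?_
  intro ξ₁ ξ₂ h₁ h₂
  exact Cfsg.Agent.Helper82.sameBlock_of_over_invariant_charp hM
    (K.subgroupOf (Subgroup.centralizer (R : Set G))) hNp hV.centralizer_pCore_le β D.beta_inv
    ξ₁ ξ₂ h₁ h₂

end Cfsg.Agent.S4642
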