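import Cfsg.Statements.S4691
import Cfsg.Agent.Helper78.PrincipalPair
import Cfsg.Agent.Helper78.PNilpotent

set_option autoImplicit false
open Cfsg

namespace Cfsg.Agent.S4691

/-- Fix a prime p and a maximal ideal M of the algebraic integers containing p. A finite group G has a normal p-complement if and only if its principal p-block is nilpotent. -/
theorem result {G : Type*} [Group G] [Fintype G] (p : ℕ) [Fact p.Prime] (M : Ideal Cfsg.AlgInt) (hM : Cfsg.IsPModular p M) : Cfsg.HasNormalPComplement p G ↔ Cfsg.IsNilpotentBlock p M (Cfsg.principalBlock M G) := by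
  have hp : p.Prime := Fact.out
  rw [Cfsg.Agent.Helper78.hasNormalPComplement_iff_frobHyp]
  constructor
  · intro h
    refine ⟨Cfsg.Agent.Helper78.isPBlock_principalBlock M G, fun Q e hpair x hx _ hreg => ?_⟩
    exact h Q hpair.1.1 x hx ((Nat.Prime.coprime_iff_not_dvd hp).mpr hreg).symm
  · intro h Q hQ g hg hcop
    refine h.2 Q _ (Cfsg.Agent.Helper78.isBrauerPairOf_principal hM Q hQ) g hg
      (Cfsg.Agent.Helper78.stabilizesBlock_principal _ g
        (Cfsg.Agent.Helper78.normalizer_le_normalizer_centralizer Q hg)) ?_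
    exact (Nat.Prime.coprime_iff_not_dvd hp).mp hcop.symm

end Cfsg.Agent.S4691
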