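import Cfsg.Statements.S4651
import Cfsg.Agent.Helper78.ChainAmbient

set_option autoImplicit false
open Cfsg

namespace Cfsg.Agent.S4651

open Cfsg.Agent.Helper78 in
/-- An alternating-sum identity over chains of p-subgroups (the character-count form behind the chain reformulation of Alperin's weight conjecture, which holds unconditionally for the difference k − l). Let b be a block of the finite group G relative to a maximal ideal M of the algebraic integers containing the prime p. Consider the nonempty chains s = {Q_0 < Q_1 < ⋯ < Q_m} of nontrivial p-subgroups of G in which every member is normal in the largest member; let N_G(s) be the intersection of the normalizers of the members (the stabilizer of the chain), and let b_s be the set of irreducible characters of N_G(s) lying in blocks of N_G(s) that induce b. Then #G · (k(b) − l(b)) equals the sum over all such chains s of (−1)^m · #N_G(s) · (k(b_s) − l(b_s)), where k counts irreducible characters and l is the p-regular rank; equivalently,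 k(b) − l(b) is the alternating sum of k(b_s) − l(b_s) over representatives of the conjugacy classes of such chains. -/
theorem result {G : Type*} [Group G] [Finite G] (p : ℕ) [Fact p.Prime] (M : Ideal Cfsg.AlgInt) (hM : Cfsg.IsPModular p M) (b : Set (Cfsg.IrrCharacter G)) (hb : Cfsg.IsPBlock M b) : (Nat.card G : ℤ) * ((Nat.card b : ℤ) - (Cfsg.blockRank p b : ℤ)) = ∑ᶠ s ∈ {s : Finset (Subgroup G) | s.Nonempty ∧ (∀ Q ∈ s, ∀ R ∈ s, Q ≤ R ∨ R ≤ Q) ∧ (∀ Q ∈ s, Q ≠ ⊥ ∧ IsPGroup p Q) ∧ ∃ T ∈ s, ∀ Q ∈ s, Q ≤ T ∧ T ≤ Subgroup.normalizer ((Q : Subgroup G) : Set G)}, (-1 : ℤ) ^ (s.card - 1) * (Nat.card (((⨅ Q ∈ s, Subgroup.normalizer ((Q : Subgroup G) : Set G) : Subgroup G))) : ℤ) * ((Nat.card {ψ : Cfsg.IrrCharacter (((⨅ Q ∈ s, Subgroup.normalizer ((Q : Subgroup G) : Set G) : Subgroup G))) | ∃ β : Set (Cfsg.IrrCharacter (((⨅ Q ∈ s, Subgroup.normalizer ((Q : Subgroup G) : Set G) : Subgroup G)))), ψ ∈ β ∧ Cfsg.IsInducedBlock M (((⨅ Q ∈ s, Subgroup.normalizer ((Q : Subgroup G) : Set G) : Subgroup G)))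 β b} : ℤ) - (Cfsg.blockRank p {ψ : Cfsg.IrrCharacter (((⨅ Q ∈ s, Subgroup.normalizer ((Q : Subgroup G) : Set G) : Subgroup G))) | ∃ β : Set (Cfsg.IrrCharacter (((⨅ Q ∈ s, Subgroup.normalizer ((Q : Subgroup G) : Set G) : Subgroup G)))), ψ ∈ β ∧ Cfsg.IsInducedBlock M (((⨅ Q ∈ s, Subgroup.normalizer ((Q : Subgroup G) : Set G) : Subgroup G))) β b} : ℤ)) := by
  classical
  haveI : Fintype G := Fintype.ofFinite G
  haveI : Fintype (Subgroup G) := Fintype.ofFinite _
  change _ = ∑ᶠ s ∈ {s : Finset (Subgroup G) | IsNChain p s},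
    (-1 : ℤ) ^ (s.card - 1) * (Nat.card (chainStab s) : ℤ) *
      ((Nat.card (indSet M b (chainStab s)) : ℤ) - (blockRank p (indSet M b (chainStab s)) : ℤ))
  rw [finsum_mem_eq_finite_toFinset_sum _ (Set.toFinite _)]
  have hterm : ∀ s ∈ (Set.toFinite {s : Finset (Subgroup G) | IsNChain p s}).toFinset,
      (-1 : ℤ) ^ (s.card - 1) * (Nat.card (chainStab s) : ℤ) *
      ((Nat.card (indSet M b (chainStab s)) : ℤ) -
        (blockRank p (indSet M b (chainStab s)) : ℤ)) =
      ∑ z : G, if (z ≠ 1 ∧ ∃ k : ℕ, orderOf z = p ^ k) then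
        (if z ∈ chainStab s then (-1 : ℤ) ^ (s.card - 1) *
          chainPhi M p b (Subgroup.centralizer ({z} : Set G) ⊓ chainStab s) else 0) else 0 := by
    intro s _
    rw [mul_assoc, card_sub_blockRank_indSet_eq_sum_chainPhi hM b (chainStab s), Finset.mul_sum]
    refine Finset.sum_congr rfl (fun z _ => ?_)
    by_cases h1 : (z ≠ 1 ∧ ∃ k : ℕ, orderOf z = p ^ k)
    · by_cases h2 : z ∈ chainStab s
      · rw [if_pos ⟨h2, h1⟩, if_pos h1, if_pos h2]
      · rw [if_neg (fun h' => h2 h'.1), if_pos h1, if_neg h2, mul_zero]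
    · rw [if_neg (fun h' => h1 h'.2), if_neg h1, mul_zero]
  rw [Finset.sum_congr rfl hterm, Finset.sum_comm, card_sub_blockRank_eq_sum_chainPhi hM hb]
  refine Finset.sum_congr rfl (fun z _ => ?_)
  by_cases h1 : (z ≠ 1 ∧ ∃ k : ℕ, orderOf z = p ^ k)
  · simp only [if_pos h1]
    have hzp : IsPGroup p (Subgroup.zpowers z) := by
      obtain ⟨k, hk⟩ := h1.2
      apply IsPGroup.of_card (n := k)
      rw [Nat.card_zpowers, hk]
    rw [← Finset.sum_filter]
    symm
    refine chain_alternating_sum z h1.1 hzp (chainPhi M p b) _ (fun s => ?_)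
    rw [Finset.mem_filter, Set.Finite.mem_toFinset]
    rfl
  · simp only [if_neg h1, Finset.sum_const_zero]

end Cfsg.Agent.S4651
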