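import Cfsg.Statements.S4665
-- import your own Cfsg.Agent.* helpers here
import Cfsg.Agent.Helper79.CharBasic

set_option autoImplicit false
open Cfsg

namespace Cfsg.Agent.S4665

/-- Sum of a character over a subgroup is `|P|` times a natural number. -/
theorem sum_subgroup_char {G : Type*} [Group G] [Fintype G] (P : Subgroup G) [Fintype P] (ψ : G → ℂ)
    (hψ : IsCharacter G ψ) : ∃ d : ℕ, ∑ x : P, ψ (x : G) = (Nat.card P : ℂ) * d := by
  classical
  obtain ⟨n, ρ, rfl⟩ := hψ
  let σ : Representation ℂ P (Fin n → ℂ) := ρ.comp P.subtype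
  have hcard : (Nat.card P : ℂ) ≠ 0 := by
    have : 0 < Nat.card P := Nat.card_pos
    exact_mod_cast this.ne'
  have : Invertible (Nat.card P : ℂ) := invertibleOfNonzero hcard
  have h := Representation.card_inv_mul_sum_char_eq_finrank σ
  refine ⟨Module.finrank ℂ (Representation.invariants σ), ?_⟩
  rw [← h]
  have : ∀ x : P, σ.character x = ρ.character (x : G) := fun x => rfl
  simp only [this]
  field_simp

theorem irr_isCharacter {G : Type*} [Group G] (ψ : IrrCharacter G) : IsCharacter G (ψ : G → ℂ) := by
  obtain ⟨ψ, n, ρ, _, rfl⟩ := ψ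
  exact ⟨n, ρ, rfl⟩


/-- Fix a prime p, a maximal ideal M of the algebraic integers containing p, and a p-block B of the finite group G, and let p^a be the p-part of the order of G. Let χ be an integer combination of the irreducible characters in B. If the function that agrees with χ on p-regular elements and vanishes on p-singular elements is again an integer combination of the irreducible characters in B, then p^a divides χ(1). -/
theorem result {G : Type*} [Group G] [Fintype G] (p : ℕ) [Fact p.Prime] (M : Ideal Cfsg.AlgInt) (hM : Cfsg.IsPModular p M) (B : Set (Cfsg.IrrCharacter G)) (hB : Cfsg.IsPBlock M B) (χ : G → ℂ) (hχ : (∃ n : Cfsg.IrrCharacter G → ℤ, ∀ g : G, χ g = ∑ᶠ ψ ∈ B, (n ψ : ℂ) * (ψ : G → ℂ) g)) (h0 : (∃ n : Cfsg.IrrCharacter G → ℤ, ∀ g : G, Cfsg.pRegularPart p χ g = ∑ᶠ ψ ∈ B, (n ψ : ℂ) * (ψ : G → ℂ) g)) : ∃ k : ℤ, χ 1 = (p ^ (Nat.card G).factorization p : ℂ) * k := by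
  classical
  obtain ⟨n', hn'⟩ := h0
  have hfin : Finite (IrrCharacter G) := Cfsg.Agent.Helper79.irr_finite
  have hpp : p.Prime := Fact.out
  obtain ⟨P⟩ : Nonempty (Sylow p G) := inferInstance
  have : Fintype (P : Subgroup G) := Fintype.ofFinite _
  -- sum over P of the p-regular part is χ 1
  have h1 : ∑ x : (P : Subgroup G), pRegularPart p χ (x : G) = χ 1 := by
    rw [Finset.sum_eq_single (1 : (P : Subgroup G))]
    · have : IsPRegular p (1 : G) := by
        unfold IsPRegular
        rw [orderOf_one]
        exact fun h => hpp.one_lt.ne' (Nat.dvd_one.mp h)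
      simp [pRegularPart, this]
    · intro x _ hx
      have hx' : ¬ IsPRegular p (x : G) := by
        unfold IsPRegular
        rw [not_not]
        obtain ⟨k, hk⟩ := (IsPGroup.iff_orderOf.mp P.isPGroup') x
        rw [Subgroup.orderOf_coe, hk]
        have hk0 : k ≠ 0 := by
          rintro rfl
          rw [pow_zero, orderOf_eq_one_iff] at hk
          exact hx hk
        exact dvd_pow_self p hk0
      simp [pRegularPart, hx']
    · intro h; exact absurd (Finset.mem_univ _) h
  -- each irreducible character sums over P to a multiple of |P|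
  choose d hd using fun ψ : IrrCharacter G => sum_subgroup_char (P : Subgroup G) (ψ : G → ℂ) (irr_isCharacter ψ)
  have hBfin : B.Finite := Set.toFinite B
  have h2 : ∑ x : (P : Subgroup G), pRegularPart p χ (x : G) =
      (Nat.card (P : Subgroup G) : ℂ) * ((∑ ψ ∈ hBfin.toFinset, n' ψ * (d ψ : ℤ) : ℤ) : ℂ) := by
    simp only [hn']
    simp only [finsum_mem_eq_finite_toFinset_sum _ hBfin]
    rw [Finset.sum_comm]
    push_cast
    rw [Finset.mul_sum]
    refine Finset.sum_congr rfl (fun ψ _ => ?_)
    rw [← Finset.mul_sum, hd ψ]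
    ring
  rw [h1] at h2
  refine ⟨∑ ψ ∈ hBfin.toFinset, n' ψ * (d ψ : ℤ), ?_⟩
  rw [h2, Sylow.card_eq_multiplicity]
  push_cast
  rfl

end Cfsg.Agent.S4665
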