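import Cfsg.Statements.S4668
-- import your own Cfsg.Agent.* helpers here
import Cfsg.Agent.Helper77.SupportOn
import Cfsg.Agent.Helper24.Coprime

set_option autoImplicit false
open Cfsg

namespace Cfsg.Agent.S4668

/-- Fix a prime p and a maximal ideal M of the algebraic integers containing p. Let Q₀ < Q₁ < ⋯ < Q_m be a strictly increasing chain of p-subgroups of the finite group G and N the intersection of their normalizers. Then every block idempotent of N is supported on C_G(Q_m): for every p-block E of N, the idempotent coefficient of E vanishes at every element of N outside C_G(Q_m). -/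
theorem result {G : Type*} [Group G] [Fintype G] (p : ℕ) [Fact p.Prime] (M : Ideal Cfsg.AlgInt) (hM : Cfsg.IsPModular p M) (m : ℕ) (Q : Fin (m + 1) → Subgroup G) (hQ : StrictMono Q) (hQp : ∀ i, IsPGroup p (Q i)) (N : Subgroup G) (hN : ∀ g : G, g ∈ N ↔ ∀ i, g ∈ Subgroup.normalizer (Q i : Set G)) (E : Set (Cfsg.IrrCharacter N)) (hE : Cfsg.IsPBlock M E) (n : N) (hn : (n : G) ∉ Subgroup.centralizer (Q (Fin.last m) : Set G)) : Cfsg.blockCoeff E n = 0 := by
  classical
  have : Fintype N := Fintype.ofFinite N
  have hp : p.Prime := hM.1
  -- p-singular elements: Osima vanishing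
  by_cases hpn : p ∣ orderOf n
  · exact Helper77.blockCoeff_eq_zero_of_dvd_orderOf hM hE n hpn
  -- the normal p-subgroup `Q_m ∩ N` of `N`
  set Qm : Subgroup G := Q (Fin.last m) with hQm
  have hnorm : ∀ (x : G), x ∈ N → ∀ i, x ∈ Subgroup.normalizer (Q i : Set G) :=
    fun x hx => (hN x).mp hx
  let P₀ : Subgroup N := Qm.subgroupOf N
  have hP₀n : P₀.Normal := by
    constructor
    intro x hx g
    rw [Subgroup.mem_subgroupOf] at hx ⊢
    have h1 := hnorm (g : G) g.2 (Fin.last m)
    have h2 := (Subgroup.mem_normalizer_iff.mp h1 (x : G)).mp hx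
    simpa using h2
  have hP₀p : IsPGroup p P₀ := (hQp (Fin.last m)).comap_subtype
  apply Helper77.blockCoeff_eq_zero_of_not_mem_centralizer hM P₀ hP₀p hE n
  intro hcen
  apply hn
  -- `a = n` is a `p'`-element of `N` centralizing `Q_m ∩ N`
  set a : G := (n : G) with ha
  have hcop : (orderOf a).Coprime p := by
    rw [ha, Subgroup.orderOf_coe]
    exact (Nat.Coprime.symm ((Nat.Prime.coprime_iff_not_dvd hp).mpr hpn))
  have hmono : Monotone Q := hQ.monotone
  have haR : ∀ u : G, u ∈ N → u ∈ Qm → a * u = u * a := by
    intro u huN huQ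
    have h1 : (⟨u, huN⟩ : N) ∈ P₀ := Subgroup.mem_subgroupOf.mpr huQ
    have h2 := (Subgroup.mem_centralizer_iff.mp hcen) ⟨u, huN⟩ h1
    have h3 := congrArg (fun x : N => (x : G)) h2
    simp only [Subgroup.coe_mul] at h3
    exact h3.symm
  -- induction along the chain
  have key : ∀ i : Fin (m + 1), ∀ u ∈ Q i, a * u = u * a := by
    intro i
    induction i using Fin.induction with
    | zero =>
      intro u hu
      apply haR u
      · rw [hN]
        intro j
        exact Subgroup.le_normalizer (hmono (Fin.zero_le j) hu)
      · exact hmono (Fin.le_last _) hu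
    | succ i ih =>
      refine Helper24.thompson_PxQ (p := p) (hQp i.succ) (hQp i.castSucc) ?_ (hnorm a n.2 i.succ)
        hcop ih ?_
      · exact le_trans (hmono (Fin.castSucc_lt_succ).le) Subgroup.le_normalizer
      · intro u hu hcomm
        apply haR u
        · rw [hN]
          intro j
          by_cases hj : j ≤ i.castSucc
          · apply Subgroup.centralizer_le_normalizer
            rw [Subgroup.mem_centralizer_iff]
            intro b hb
            exact hcomm b (hmono hj hb)
          · have hj' : i.succ ≤ j := Fin.castSucc_lt_iff_succ_le.mp (not_le.mp hj)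
            exact Subgroup.le_normalizer (hmono hj' hu)
        · exact hmono (Fin.le_last _) hu
  rw [Subgroup.mem_centralizer_iff]
  intro u hu
  exact (key (Fin.last m) u hu).symm

end Cfsg.Agent.S4668
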