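import Cfsg.Statements.S4669
import Cfsg.Agent.Helper16.CentralDefect

set_option autoImplicit false
open Cfsg

namespace Cfsg.Agent.S4669

open Cfsg.Agent.Helper16 in
/-- Fix a prime p and a maximal ideal M of the algebraic integers containing p. If the p-block B of the finite group G has a defect group P contained in the centre of G, then B has p-regular rank one (a single irreducible Brauer character). -/
theorem result {G : Type*} [Group G] [Fintype G] (p : ℕ) [Fact p.Prime] (M : Ideal Cfsg.AlgInt) (hM : Cfsg.IsPModular p M) (B : Set (Cfsg.IrrCharacter G)) (hB : Cfsg.IsPBlock M B) (P : Subgroup G) (hD : Cfsg.IsDefectGroup p M B P) (hPZ : P ≤ Subgroup.center G) : Cfsg.blockRank p B = 1 := by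
  classical
  haveI hMp : M.IsPrime := IsPModular.isPrime hM
  haveI hPn : P.Normal := normal_of_le_center hPZ
  have hcardP : Nat.card P = p ^ blockDefect p B := Helper77.card_defectGroup hM hB P hD
  have hPp : IsPGroup p P := IsPGroup.of_card hcardP
  obtain ⟨χ₀, hχ₀B, hχ₀k⟩ := Cfsg.Agent.S0941.exists_mem_block_ker p M hM P hPp B hB
  have h1reg : ¬ p ∣ orderOf (1 : G) := by
    rw [orderOf_one]
    exact (Fact.out : p.Prime).one_lt.ne' ∘ Nat.dvd_one.mp
  have hne : pRegularPart p (χ₀ : G → ℂ) ≠ 0 := by
    intro h0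
    have := congrFun h0 1
    rw [Helper77.pRegularPart_of_reg h1reg] at this
    exact irr_one_ne_zero χ₀ this
  have hspan : Submodule.span ℂ ((fun χ : IrrCharacter G => pRegularPart p (χ : G → ℂ)) '' B) =
      Submodule.span ℂ {pRegularPart p (χ₀ : G → ℂ)} := by
    apply le_antisymm
    · rw [Submodule.span_le]
      rintro _ ⟨ψ, hψ, rfl⟩
      have h1 := pRegularPart_mem_span_ker hM hB P hPp hPZ ψ hψ
      refine (Submodule.span_mono ?_) h1
      rintro _ ⟨χ, ⟨hχB, hχk⟩, rfl⟩
      have : χ = χ₀ := eq_of_mem_of_ker_central_defect hM hB P hD hPZ hχB hχ₀B hχk hχ₀k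
      rw [this]
      exact Set.mem_singleton _
    · rw [Submodule.span_le]
      intro f hf
      rw [Set.mem_singleton_iff] at hf
      rw [hf]
      exact Submodule.subset_span ⟨χ₀, hχ₀B, rfl⟩
  unfold blockRank
  rw [hspan]
  exact finrank_span_singleton hne

end Cfsg.Agent.S4669
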