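import Cfsg.Statements.S4670
import Cfsg.Agent.Helper78.BrauerCorr
import Cfsg.Agent.Helper78.BlockTransport

set_option autoImplicit false
open Cfsg

namespace Cfsg.Agent.S4670

open Cfsg.Agent.Helper78 in
/-- Fix a prime p and a maximal ideal M of the algebraic integers containing p. Let P be a p-subgroup of the finite group G and H a subgroup containing N_G(P). For every p-block B of G with defect group P there is exactly one p-block c of H with defect group P whose idempotent agrees with that of B, modulo the local ideal at M, at every element of C_G(P) (their Brauer-map images at P coincide); and every p-block c of H with defect group P arises in this way from exactly one such B. This is the Brauer correspondence over H. -/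
theorem result {G : Type*} [Group G] [Fintype G] (p : ℕ) [Fact p.Prime] (M : Ideal Cfsg.AlgInt) (hM : Cfsg.IsPModular p M) (P H : Subgroup G) (hP : IsPGroup p P) (hH : Subgroup.normalizer (P : Set G) ≤ H) : (∀ B : Set (Cfsg.IrrCharacter G), Cfsg.IsPBlock M B → Cfsg.IsDefectGroup p M B P → ∃! c : Set (Cfsg.IrrCharacter H), Cfsg.IsPBlock M c ∧ Cfsg.IsDefectGroup p M c (P.subgroupOf H) ∧ ∀ x : G, x ∈ Subgroup.centralizer (P : Set G) → Cfsg.MemLocalIdeal M (Cfsg.blockCoeff B x - Cfsg.subgroupBlockCoeff H c x)) ∧ (∀ c : Set (Cfsg.IrrCharacter H), Cfsg.IsPBlock M c → Cfsg.IsDefectGroup p M c (P.subgroupOf H) → ∃! B : Set (Cfsg.IrrCharacter G), Cfsg.IsPBlock M B ∧ Cfsg.IsDefectGroup p M B P ∧ ∀ x : G, x ∈ Subgroup.centralizer (P : Set G) → Cfsg.MemLocalIdeal M (Cfsg.blockCoeff B x - Cfsg.subgroupBlockCoeff H c x)) := by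
  classical
  have hMp : M.IsPrime := isPrime_of_isPModular hM
  have hPN : P ≤ Subgroup.normalizer (P : Set G) := Subgroup.le_normalizer
  have hPH : P ≤ H := hPN.trans hH
  have hCN : Subgroup.centralizer (P : Set G) ≤ Subgroup.normalizer (P : Set G) :=
    Subgroup.centralizer_le_normalizer _
  have hPHp : IsPGroup p (P.subgroupOf H) := hP.comap_subtype
  have hN' : (Subgroup.normalizer (P : Set G)).subgroupOf H =
      Subgroup.normalizer ((P.subgroupOf H : Subgroup H) : Set H) :=
    Subgroup.subgroupOf_normalizer_eq hPH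
  let φ : Subgroup.normalizer ((P.subgroupOf H : Subgroup H) : Set H) ≃*
      Subgroup.normalizer (P : Set G) :=
    (MulEquiv.subgroupCongr hN'.symm).trans (Subgroup.subgroupOfEquivOfLe hH)
  have hφ : ∀ n' : Subgroup.normalizer ((P.subgroupOf H : Subgroup H) : Set H),
      ((φ n' : Subgroup.normalizer (P : Set G)) : G) = ((n' : H) : G) := fun _ => rfl
  have hmap1 : ((P.subgroupOf H).subgroupOf
        (Subgroup.normalizer ((P.subgroupOf H : Subgroup H) : Set H))).map
        (φ : _ →* Subgroup.normalizer (P : Set G)) =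
      P.subgroupOf (Subgroup.normalizer (P : Set G)) := by
    ext n
    simp only [Subgroup.mem_map, Subgroup.mem_subgroupOf, MonoidHom.coe_coe]
    constructor
    · rintro ⟨n', hn', rfl⟩
      rw [hφ]; exact hn'
    · intro hn
      refine ⟨φ.symm n, ?_, MulEquiv.apply_symm_apply _ _⟩
      rw [← hφ, MulEquiv.apply_symm_apply]
      exact hn
  have hmap2 : (P.subgroupOf (Subgroup.normalizer (P : Set G))).map
        (φ.symm : _ →* Subgroup.normalizer ((P.subgroupOf H : Subgroup H) : Set H)) =
      (P.subgroupOf H).subgroupOf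
        (Subgroup.normalizer ((P.subgroupOf H : Subgroup H) : Set H)) := by
    rw [← hmap1, Subgroup.map_map]
    have : (φ.symm : _ →* Subgroup.normalizer ((P.subgroupOf H : Subgroup H) : Set H)).comp
        (φ : _ →* Subgroup.normalizer (P : Set G)) = MonoidHom.id _ := by
      ext x
      simp
    rw [this, Subgroup.map_id]
  -- the core congruence
  have core : ∀ (B : Set (IrrCharacter G)) (c : Set (IrrCharacter H))
      (b : Set (IrrCharacter (Subgroup.normalizer (P : Set G)))),
      IsPBlock M B → IsDefectGroup p M B P → IsPBlock M c →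
      IsDefectGroup p M c (P.subgroupOf H) → IsPBlock M b →
      IsDefectGroup p M b (P.subgroupOf (Subgroup.normalizer (P : Set G))) →
      IsInducedBlock M (Subgroup.normalizer (P : Set G)) b B →
      IsInducedBlock M (Subgroup.normalizer ((P.subgroupOf H : Subgroup H) : Set H))
        (irrMap φ.symm '' b) c →
      ∀ x : G, x ∈ Subgroup.centralizer (P : Set G) →
        MemLocalIdeal M (blockCoeff B x - subgroupBlockCoeff H c x) := by
    intro B c b hB hPB hc hPc hb hPb hind hind' x hx
    have hb' : IsPBlock M (irrMap φ.symm '' b) := Helper77.isPBlock_image_irrMap φ.symm hb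
    have hPb' : IsDefectGroup p M (irrMap φ.symm '' b) ((P.subgroupOf H).subgroupOf
        (Subgroup.normalizer ((P.subgroupOf H : Subgroup H) : Set H))) := by
      rw [← hmap2]
      exact isDefectGroup_image_irrMap p φ.symm hPb
    have k1 := brRes_blockCoeff_sub_mem hM P hP B hB hPB b hb hPb hind ⟨x, hCN hx⟩
    rw [brRes_of_mem P _ _ (show ((⟨x, hCN hx⟩ : Subgroup.normalizer (P : Set G)) : G) ∈
      Subgroup.centralizer (P : Set G) from hx)] at k1
    have k2 := brRes_blockCoeff_sub_mem hM (P.subgroupOf H) hPHp c hc hPc _ hb' hPb' hind'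
      (φ.symm ⟨x, hCN hx⟩)
    have hx' : (((φ.symm ⟨x, hCN hx⟩ :
        Subgroup.normalizer ((P.subgroupOf H : Subgroup H) : Set H)) : H) : G) = x := by
      rw [← hφ, MulEquiv.apply_symm_apply]
    have hxH : x ∈ H := hH (hCN hx)
    have hx'' : ((φ.symm ⟨x, hCN hx⟩ :
        Subgroup.normalizer ((P.subgroupOf H : Subgroup H) : Set H)) : H) = ⟨x, hxH⟩ :=
      Subtype.ext hx'
    have hcen : ((φ.symm ⟨x, hCN hx⟩ :
        Subgroup.normalizer ((P.subgroupOf H : Subgroup H) : Set H)) : H) ∈
        Subgroup.centralizer ((P.subgroupOf H : Subgroup H) : Set H) := by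
      rw [mem_centralizer_subgroupOf_iff hPH, hx']
      exact hx
    rw [brRes_of_mem _ _ _ hcen, blockCoeff_image_irrMap_equiv, MulEquiv.symm_symm,
      MulEquiv.apply_symm_apply, hx''] at k2
    rw [subgroupBlockCoeff_of_mem H c hxH]
    have := Helper16.memLocalIdeal_sub k1 k2
    have e : blockCoeff B ↑(⟨x, hCN hx⟩ : Subgroup.normalizer (P : Set G)) -
        blockCoeff b ⟨x, hCN hx⟩ - (blockCoeff c ⟨x, hxH⟩ - blockCoeff b ⟨x, hCN hx⟩) =
        blockCoeff B x - blockCoeff c ⟨x, hxH⟩ := by ring
    rw [e] at this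
    exact this
  refine ⟨fun B hB hPB => ?_, fun c hc hPc => ?_⟩
  · obtain ⟨b, hb, hPb, hind⟩ := Cfsg.Agent.S0920.part_two_exists p M hM P hP B hB hPB
    have hb' : IsPBlock M (irrMap φ.symm '' b) := Helper77.isPBlock_image_irrMap φ.symm hb
    have hPb' : IsDefectGroup p M (irrMap φ.symm '' b) ((P.subgroupOf H).subgroupOf
        (Subgroup.normalizer ((P.subgroupOf H : Subgroup H) : Set H))) := by
      rw [← hmap2]
      exact isDefectGroup_image_irrMap p φ.symm hPb
    obtain ⟨c, hc, hPc, hind'⟩ :=
      Cfsg.Agent.S0920.part_one p M hM (P.subgroupOf H) hPHp _ hb' hPb'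
    refine ⟨c, ⟨hc, hPc, core B c b hB hPB hc hPc hb hPb hind hind'⟩, ?_⟩
    rintro c' ⟨hc', hPc', hcong'⟩
    have hcong := core B c b hB hPB hc hPc hb hPb hind hind'
    symm
    apply block_eq_of_blockCoeff_congr_centralizer hM (P.subgroupOf H) hPHp c c' hc hc' hPc
    intro y hy
    have hyG : (y : G) ∈ Subgroup.centralizer (P : Set G) :=
      (mem_centralizer_subgroupOf_iff hPH y).mp hy
    have a1 := hcong _ hyG
    have a2 := hcong' _ hyG
    rw [subgroupBlockCoeff_of_mem H _ y.2] at a1 a2
    have := Helper16.memLocalIdeal_sub a2 a1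
    have e : blockCoeff B (y : G) - blockCoeff c' ⟨(y : G), y.2⟩ -
        (blockCoeff B (y : G) - blockCoeff c ⟨(y : G), y.2⟩) =
        blockCoeff c y - blockCoeff c' y := by ring
    rw [e] at this
    exact this
  · obtain ⟨b', hb', hPb', hind'⟩ :=
      Cfsg.Agent.S0920.part_two_exists p M hM (P.subgroupOf H) hPHp c hc hPc
    have hb : IsPBlock M (irrMap φ '' b') := Helper77.isPBlock_image_irrMap φ hb'
    have hPb : IsDefectGroup p M (irrMap φ '' b')
        (P.subgroupOf (Subgroup.normalizer (P : Set G))) := by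
      rw [← hmap1]
      exact isDefectGroup_image_irrMap p φ hPb'
    obtain ⟨B, hB, hPB, hind⟩ := Cfsg.Agent.S0920.part_one p M hM P hP _ hb hPb
    have hind'' : IsInducedBlock M (Subgroup.normalizer ((P.subgroupOf H : Subgroup H) : Set H))
        (irrMap φ.symm '' (irrMap φ '' b')) c := by
      rw [image_irrMap_symm_image_irrMap]
      exact hind'
    have hcong := core B c _ hB hPB hc hPc hb hPb hind hind''
    refine ⟨B, ⟨hB, hPB, hcong⟩, ?_⟩
    rintro B' ⟨hB', hPB', hcong'⟩
    symm
    apply block_eq_of_blockCoeff_congr_centralizer hM P hP B B' hB hB' hPB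
    intro x hx
    have a1 := hcong x hx
    have a2 := hcong' x hx
    have := Helper16.memLocalIdeal_sub a1 a2
    have e : blockCoeff B x - subgroupBlockCoeff H c x -
        (blockCoeff B' x - subgroupBlockCoeff H c x) = blockCoeff B x - blockCoeff B' x := by ring
    rw [e] at this
    exact this

end Cfsg.Agent.S4670
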