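import Cfsg.Statements.S4671
import Cfsg.Agent.Helper16.KnorrDefect
import Cfsg.Agent.Helper77.PIndexNilpotent

set_option autoImplicit false
open Cfsg

namespace Cfsg.Agent.S4671

open Cfsg.Agent.Helper16 in
/-- Fix a prime p and a maximal ideal M of the algebraic integers containing p. Let N be a normal subgroup of the finite group G, B a p-block of G and P a defect group of B. Then there is a p-block c of N, stable under conjugation by P and covered by B (some member of B has a constituent in c on restriction to N), such that P ∩ N is a defect group of c. -/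
theorem result {G : Type*} [Group G] [Fintype G] (p : ℕ) [Fact p.Prime] (M : Ideal Cfsg.AlgInt) (hM : Cfsg.IsPModular p M) (N : Subgroup G) [N.Normal] [Fintype N] (B : Set (Cfsg.IrrCharacter G)) (hB : Cfsg.IsPBlock M B) (P : Subgroup G) (hP : Cfsg.IsDefectGroup p M B P) : ∃ c : Set (Cfsg.IrrCharacter N), Cfsg.IsPBlock M c ∧ (∀ x ∈ P, Cfsg.StabilizesBlock N c x) ∧ (∃ χ ∈ B, ∃ θ ∈ c, Cfsg.classInner (fun n : N => (χ : G → ℂ) n) (θ : N → ℂ) ≠ 0) ∧ Cfsg.IsDefectGroup p M c ((P ⊓ N).subgroupOf N) := by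
  classical
  haveI hMp : M.IsPrime := Cfsg.Agent.Helper16.IsPModular.isPrime hM
  obtain ⟨χ, hχ⟩ := Cfsg.Agent.Helper78.isPBlock_nonempty hMp hB
  obtain ⟨θ, hθ⟩ := Cfsg.Agent.Helper77.exists_constituent_res N χ
  have hb : IsPBlock M (blockOf M (θ : N → ℂ)) := ⟨θ, rfl⟩
  have hcov : ∃ χ ∈ B, ∃ θ' ∈ blockOf M (θ : N → ℂ),
      classInner (fun n : N => (χ : G → ℂ) n) (θ' : N → ℂ) ≠ 0 :=
    ⟨χ, hχ, θ, Cfsg.Agent.Helper78.mem_blockOf_self hMp θ, hθ⟩
  obtain ⟨c, hc, ⟨g, hcg⟩, hcS, hdef⟩ :=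
    Cfsg.Agent.Helper16.exists_stable_covered_block_defect N hM hb hB hcov hP
  refine ⟨c, hc, ?_, ?_, hdef⟩
  · intro x hx
    refine ⟨by rw [Subgroup.normalizer_eq_top]; exact Subgroup.mem_top x, fun χ' hχ' => ?_⟩
    refine ⟨Cfsg.Agent.Helper16.irrConj N x⁻¹ χ', ?_, ?_⟩
    · have h1 : χ' ∈ Cfsg.Agent.Helper78.conjBlk N x c := by
        rw [hcS x hx]; exact hχ'
      exact h1
    · intro k k' hkk'
      show Cfsg.Agent.Helper15.conjFun N x⁻¹ (χ' : N → ℂ) k' = (χ' : N → ℂ) k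
      rw [Cfsg.Agent.Helper15.conjFun_apply]
      refine congrArg (χ' : N → ℂ) (Subtype.ext ?_)
      show x⁻¹ * (k' : G) * x⁻¹⁻¹ = (k : G)
      rw [hkk']
      group
  · rw [hcg]
    exact Cfsg.Agent.Helper16.covers_conjBlk N hcov g

end Cfsg.Agent.S4671
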