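import Cfsg.Statements.S4693
-- import your own Cfsg.Agent.* helpers here
import Cfsg.Agent.Helper77.CentricLocal

set_option autoImplicit false
open Cfsg

namespace Cfsg.Agent.S4693

/-- Fix a prime p and a maximal ideal M of the algebraic integers containing p, a p-block B of the finite group G with maximal Brauer pair (P, e) and fusion system F on P, and a Brauer pair (Q, f) ≤ (P, e) with Q centric in F. Suppose every element of G normalizes Q and stabilizes f. Then the idempotent of B agrees with that of f modulo M at every element of G, and f is the idempotent of a nilpotent block of Q·C_G(Q): some p-block of Q·C_G(Q) has the idempotent coefficients of f and is nilpotent. -/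
theorem result {G : Type*} [Group G] [Fintype G] (p : ℕ) [Fact p.Prime] (M : Ideal Cfsg.AlgInt) (hM : Cfsg.IsPModular p M) (B : Set (Cfsg.IrrCharacter G)) (P : Subgroup G) (e : Set (Cfsg.IrrCharacter (Subgroup.centralizer (P : Set G)))) (hmax : Cfsg.IsMaximalBrauerPair p M B P e) (F : Cfsg.FusionSystem P) (hF : Cfsg.IsBlockFusionSystemOn p M B P e F) (Q : Subgroup G) (f : Set (Cfsg.IrrCharacter (Subgroup.centralizer (Q : Set G)))) (hQP : Q ≤ P) (hf : Cfsg.IsPBlock M f) (hle : Cfsg.SubpairLE p M Q f P e) (hcen : F.IsCentric Q) (hG : ∀ x : G, x ∈ Subgroup.normalizer (Q : Set G) ∧ Cfsg.StabilizesBlock (Subgroup.centralizer (Q : Set G)) f x) : (∀ g : G, Cfsg.MemLocalIdeal M (Cfsg.blockCoeff B g - Cfsg.subgroupBlockCoeff (Subgroup.centralizer (Q : Set G)) f g)) ∧ ∃ F' : Set (Cfsg.IrrCharacter ↥(Q ⊔ Subgroup.centralizer (Q : Set G))), Cfsg.IsPBlock M F' ∧ (∀ t : ↥(Q ⊔ Subgroup.centralizer (Q : Set G)), Cfsg.blockCoeff F' t = Cfsg.subgroupBlockCoeff (Subgroup.centralizer (Q : Set G))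 f (t : G)) ∧ Cfsg.IsNilpotentBlock p M F' := by
  classical
  have hMp : M.IsPrime := Cfsg.Agent.Helper77.isPrime_of_isPModular hM
  have hPe : Cfsg.IsBrauerPair p M P e := hmax.1.1
  have hQp : IsPGroup p Q := hPe.1.to_le hQP
  have hQf : Cfsg.IsBrauerPair p M Q f := ⟨hQp, hf⟩
  have hQfB : Cfsg.IsBrauerPairOf p M B Q f :=
    (Cfsg.Agent.Helper77.isBrauerPairOf_iff_of_subpairLE hM P Q e f hPe hQf hle B).mp hmax.1
  refine ⟨fun g => ?_, ?_⟩
  · rw [Cfsg.Agent.Helper77.blockCoeff_eq_extFun_of_stable hM B Q f hQfB hG g,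
      Cfsg.Agent.Helper77.subgroupBlockCoeff_eq_extFun, sub_self]
    exact Cfsg.Agent.Helper77.memLocalIdeal_zero M
  · have hCL : Subgroup.centralizer (Q : Set G) ≤ Q ⊔ Subgroup.centralizer (Q : Set G) :=
      le_sup_right
    have hQL : Q ≤ Q ⊔ Subgroup.centralizer (Q : Set G) := le_sup_left
    have hLN : Q ⊔ Subgroup.centralizer (Q : Set G) ≤ Subgroup.normalizer (Q : Set G) :=
      sup_le Subgroup.le_normalizer (Subgroup.centralizer_le_normalizer _)
    have hfinL : Fintype ↥(Q ⊔ Subgroup.centralizer (Q : Set G)) := Fintype.ofFinite _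
    obtain ⟨F', hF', hF'f⟩ := Cfsg.Agent.Helper77.exists_block_of_stabilizer
      (Q ⊔ Subgroup.centralizer (Q : Set G)) _ hCL f hf (fun t _ => (hG t).2)
      (fun E hE t ht => Cfsg.Agent.Helper77.blockCoeff_eq_zero_of_not_mem_centralizer_sub hM Q _
        hQp hQL hLN hE t ht)
    exact ⟨F', hF', hF'f, Cfsg.Agent.Helper77.isNilpotentBlock_sup_centralizer_of_isCentric hM B P e
      F hF Q f hQP hf hle hcen F' hF' hF'f⟩

end Cfsg.Agent.S4693
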