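import Cfsg.Statements.S4702
import Cfsg.Agent.S0727
import Cfsg.Agent.S0680

set_option autoImplicit false
open Cfsg

namespace Cfsg.Agent.S4702

open MulAction

/-- In characteristic two the centre of `SL(2, F)` is trivial. -/
theorem center_sl2_bot (F : Type*) [Field F] (h2 : (2 : F) = 0) :
    Subgroup.center (Matrix.SpecialLinearGroup (Fin 2) F) = ⊥ := by
  rw [Subgroup.eq_bot_iff_forall]
  intro x hx
  rw [Matrix.SpecialLinearGroup.mem_center_iff] at hx
  obtain ⟨r, hr, hrx⟩ := hx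
  have hr1 : r = 1 := by
    rw [Fintype.card_fin] at hr
    have : (r - 1) ^ 2 = 0 := by linear_combination hr - r * h2 + h2
    have := pow_eq_zero_iff (two_ne_zero) |>.1 this
    exact sub_eq_zero.1 this
  apply Subtype.ext
  rw [← hrx, hr1]
  simp

/-- `PSL(2,F) ≃* SL(2,F)` in characteristic two. -/
theorem nonempty_psl_equiv_sl (F : Type*) [Field F] (h2 : (2 : F) = 0) :
    Nonempty (Matrix.ProjectiveSpecialLinearGroup (Fin 2) F ≃* Matrix.SpecialLinearGroup (Fin 2) F) :=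
  ⟨(QuotientGroup.quotientMulEquivOfEq (center_sl2_bot F h2)).trans QuotientGroup.quotientBot⟩

/-- the degree minus one is a power of two -/
theorem card_eq {α : Type*} [Fintype α] [DecidableEq α] (hm : 3 ≤ Fintype.card α)
    (hodd : Odd (Fintype.card α)) (G : Subgroup (Equiv.Perm α))
    (h3T : ∀ a1 a2 a3 b1 b2 b3 : α, a1 ≠ a2 → a1 ≠ a3 → a2 ≠ a3 → b1 ≠ b2 → b1 ≠ b3 → b2 ≠ b3 →
      ∃ g : G, g • a1 = b1 ∧ g • a2 = b2 ∧ g • a3 = b3)
    (h3S : ∀ (g : G) (a1 a2 a3 : α), a1 ≠ a2 → a1 ≠ a3 → a2 ≠ a3 → g • a1 = a1 → g • a2 = a2 →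
      g • a3 = a3 → g = 1) :
    ∃ a : ℕ, 1 ≤ a ∧ Fintype.card α = 2 ^ a + 1 := by
  classical
  have hne : Nonempty α := by rw [← Fintype.card_pos_iff]; omega
  obtain ⟨a0⟩ := hne
  let S := stabilizer G a0
  let Ω' := SubMulAction.ofStabilizer G a0
  have : Fintype S := Fintype.ofFinite _
  have : Fintype Ω' := Fintype.ofFinite _
  have hcard : Nat.card Ω' + 1 = Nat.card α := SubMulAction.nat_card_ofStabilizer_add_one_eq (G := G) a0
  have hT : ∀ a b c d : Ω', a ≠ b → c ≠ d → ∃ g : S, g • a = c ∧ g • b = d := by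
    intro a b c d hab hcd
    have ha : (a : α) ≠ a0 := a.2
    have hb : (b : α) ≠ a0 := b.2
    have hc : (c : α) ≠ a0 := c.2
    have hd : (d : α) ≠ a0 := d.2
    obtain ⟨g, g0, g1, g2⟩ := h3T a0 a b a0 c d (Ne.symm ha) (Ne.symm hb)
      (fun h => hab (Subtype.ext h)) (Ne.symm hc) (Ne.symm hd) (fun h => hcd (Subtype.ext h))
    refine ⟨⟨g, g0⟩, Subtype.ext g1, Subtype.ext g2⟩
  have hF : ∀ g : S, g ≠ 1 → ∀ a b : Ω', g • a = a → g • b = b → a = b := by
    intro g hg a b hga hgb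
    by_contra hab
    apply hg
    have ha : (a : α) ≠ a0 := a.2
    have hb : (b : α) ≠ a0 := b.2
    have := h3S g.1 a0 a b (Ne.symm ha) (Ne.symm hb) (fun h => hab (Subtype.ext h)) g.2
      (congrArg Subtype.val hga) (congrArg Subtype.val hgb)
    exact Subtype.ext this
  have h2 : 2 ≤ Fintype.card Ω' := by
    rw [← Nat.card_eq_fintype_card]
    rw [Nat.card_eq_fintype_card (α := α)] at hcard
    omega
  obtain ⟨p, j, hp, hj, hpj, -⟩ := Cfsg.Agent.S0680.kernelSub_structure hT hF h2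
  rw [← Nat.card_eq_fintype_card] at hpj
  rw [Nat.card_eq_fintype_card (α := α)] at hcard
  have hp2 : p = 2 := by
    have heven : Even (p ^ j) := by
      rw [← hpj]
      have : Odd (Nat.card Ω' + 1) := by rw [hcard]; exact hodd
      by_contra hne
      rw [Nat.not_even_iff_odd] at hne
      have := hne.add_one
      exact (Nat.not_even_iff_odd.2 ‹Odd (Nat.card Ω' + 1)›) this
    rw [Nat.even_pow] at heven
    exact (Nat.Prime.even_iff hp).1 heven.1
  subst hp2
  exact ⟨j, hj, by omega⟩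


/-- Let G be a triply transitive permutation group on a finite set of odd size m ≥ 3 in which only the identity fixes three or more points. Then m = 2^a + 1 for some a ≥ 1 and G is isomorphic to SL(2, 2^a). -/
theorem result {α : Type*} [Fintype α] [DecidableEq α] (hm : 3 ≤ Fintype.card α) (hodd : Odd (Fintype.card α)) (G : Subgroup (Equiv.Perm α)) (h3 : MulAction.IsMultiplyPretransitive G α 3) (hfix : ∀ g : G, 3 ≤ Nat.card (MulAction.fixedBy α g) → g = 1) : ∃ a : ℕ, 1 ≤ a ∧ Fintype.card α = 2 ^ a + 1 ∧ ∃ (F : Type) (_ : Field F) (_ : Fintype F), Fintype.card F = 2 ^ a ∧ Nonempty (G ≃* Matrix.SpecialLinearGroup (Fin 2) F) := by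
  classical
  have h3T : ∀ a1 a2 a3 b1 b2 b3 : α, a1 ≠ a2 → a1 ≠ a3 → a2 ≠ a3 → b1 ≠ b2 → b1 ≠ b3 → b2 ≠ b3 →
      ∃ g : G, g • a1 = b1 ∧ g • a2 = b2 ∧ g • a3 = b3 :=
    fun a1 a2 a3 b1 b2 b3 h12 h13 h23 k12 k13 k23 =>
      Cfsg.Agent.S0728.exists_map3 h3 h12 h13 h23 k12 k13 k23
  have h3S : ∀ (g : G) (a1 a2 a3 : α), a1 ≠ a2 → a1 ≠ a3 → a2 ≠ a3 → g • a1 = a1 → g • a2 = a2 →
      g • a3 = a3 → g = 1 := by
    intro g a1 a2 a3 h12 h13 h23 g1 g2 g3
    apply hfix
    rw [Nat.card_coe_set_eq]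
    have hsub : ({a1, a2, a3} : Set α) ⊆ fixedBy α g := by
      intro x hx
      rcases hx with rfl | rfl | rfl
      · exact g1
      · exact g2
      · exact g3
    have h3c : ({a1, a2, a3} : Set α).ncard = 3 := Set.ncard_eq_three.2 ⟨a1, a2, a3, h12, h13, h23, rfl⟩
    calc 3 = ({a1, a2, a3} : Set α).ncard := h3c.symm
      _ ≤ (fixedBy α g).ncard := Set.ncard_le_ncard hsub (Set.toFinite _)
  have hsharp : ∀ x : Fin 3 ↪ α, MulAction.stabilizer G x = ⊥ := by
    intro x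
    rw [Subgroup.eq_bot_iff_forall]
    intro g hg
    rw [mem_stabilizer_iff] at hg
    have hx : ∀ i, g • x i = x i := fun i => by
      have := congrArg (fun e : Fin 3 ↪ α => e i) hg
      exact this
    exact h3S g (x 0) (x 1) (x 2) (fun h => by simpa using x.injective h)
      (fun h => by simpa using x.injective h) (fun h => by simpa using x.injective h)
      (hx 0) (hx 1) (hx 2)
  obtain ⟨a, ha, hcard⟩ := card_eq hm hodd G h3T h3S
  refine ⟨a, ha, hcard, ?_⟩
  obtain ⟨F, instF, instFin, hFcard, ⟨e⟩⟩ := Cfsg.Agent.S0727.result ha hcard G h3 hsharp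
  have heven : Even (Fintype.card F) := by
    rw [hFcard]; exact (Nat.even_pow.2 ⟨even_two, by omega⟩)
  have h2 : (2 : F) = 0 := Cfsg.Agent.Helper5.two_eq_zero_of_even_card heven
  obtain ⟨e1⟩ := Cfsg.Agent.S0727.nonempty_psl_equiv_pgl heven
  obtain ⟨e2⟩ := nonempty_psl_equiv_sl F h2
  exact ⟨F, instF, instFin, hFcard, ⟨(e.trans e1.symm).trans e2⟩⟩

end Cfsg.Agent.S4702
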