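import Cfsg.Statements.S4710
import Cfsg.Agent.Helper79.BrauerFeit

set_option autoImplicit false
open Cfsg

namespace Cfsg.Agent.S4710

universe u

/-- heights are `0` for `d ≤ 1` and at most `d - 2` for `d ≥ 2`. -/
theorem height_bound {G : Type u} [Group G] [Fintype G] (p : ℕ) [Fact p.Prime]
    (M : Ideal AlgInt) (hM : IsPModular p M) (B : Set (IrrCharacter G)) (hB : IsPBlock M B)
    (χ : IrrCharacter G) (hχ : χ ∈ B) :
    (blockDefect p B ≤ 1 → blockHeight p B (χ : G → ℂ) = 0) ∧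
    (2 ≤ blockDefect p B → blockHeight p B (χ : G → ℂ) ≤ blockDefect p B - 2) := by
  have hp : p.Prime := hM.1
  set a := (Nat.card G).factorization p with ha
  set b := (charDegree (χ : G → ℂ)).factorization p with hb
  set h0 := Helper16.minExp p B with hh0
  have hba : b ≤ a := Helper16.factorization_charDegree_le p χ
  have hle : h0 ≤ b := Helper16.minExp_le_of_mem p hχ
  have hheight : blockHeight p B (χ : G → ℂ) = b - h0 := rfl
  have hdef : blockDefect p B = a - h0 := rfl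
  have hdχ : charDegree (χ : G → ℂ) ≠ 0 := (Helper78.charDegree_pos_of_isIrrCharacter χ.2).ne'
  have key : a - 1 ≤ b → blockHeight p B (χ : G → ℂ) = 0 := fun h =>
    Helper79.blockHeight_eq_zero_of_pow_pred_dvd hM hB χ hχ
      ((hp.pow_dvd_iff_le_factorization hdχ).2 h)
  constructor
  · intro hd
    exact key (by omega)
  · intro hd
    by_contra hcon
    push Not at hcon
    have h1 := key (by omega)
    omega

/-- Let p be a prime, M a maximal ideal of the algebraic integers containing p, and B a p-block of defect d of the finite group G containing k irreducible characters. If B contains a character of positive height then 2k ≤ p^(2d − 2); and every character in B has height 0 when d ≤ 1 and height at most d − 2 when d ≥ 2. -/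
theorem result {G : Type*} [Group G] [Finite G] (p : ℕ) [Fact p.Prime] (M : Ideal Cfsg.AlgInt) (hM : Cfsg.IsPModular p M) (B : Set (Cfsg.IrrCharacter G)) (hB : Cfsg.IsPBlock M B) (d : ℕ) (hd : Cfsg.blockDefect p B = d) : ((∃ χ ∈ B, 0 < Cfsg.blockHeight p B (χ : G → ℂ)) → 2 * Nat.card B ≤ p ^ (2 * d - 2)) ∧ ∀ χ ∈ B, (d ≤ 1 → Cfsg.blockHeight p B (χ : G → ℂ) = 0) ∧ (2 ≤ d → Cfsg.blockHeight p B (χ : G → ℂ) ≤ d - 2) := by
  classical
  have : Fintype G := Fintype.ofFinite G
  have hMp : M.IsPrime := Helper78.isPrime_of_isPModular hM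
  have hp : p.Prime := hM.1
  subst hd
  refine ⟨?_, fun χ hχ => height_bound p M hM B hB χ hχ⟩
  rintro ⟨ψ, hψ, hpos⟩
  have hfin : Finite (IrrCharacter G) := (Helper74.irrFintype G).finite
  set d := blockDefect p B with hd
  -- `d ≥ 2`
  have hd2 : 2 ≤ d := by
    by_contra hcon
    push Not at hcon
    have := (height_bound p M hM B hB ψ hψ).1 (by omega)
    omega
  have hhd : blockHeight p B (ψ : G → ℂ) ≤ d - 2 := (height_bound p M hM B hB ψ hψ).2 hd2
  set Bf := (Set.toFinite B).toFinset with hBf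
  have hcard : Nat.card B = Bf.card := Nat.card_eq_card_finite_toFinset (Set.toFinite B)
  rw [hcard]
  set B0 := Bf.filter (fun ξ : IrrCharacter G => blockHeight p B (ξ : G → ℂ) = 0) with hB0
  have hA := Helper79.four_mul_sum_pow_height_le hM hB
  have hBb := Helper79.four_mul_card_height_zero_le hM hB ψ hψ hpos
  -- (C)
  have hp2 : 4 ≤ p ^ 2 := by
    have := hp.two_le
    nlinarith
  have hC : B0.card + p ^ 2 * (Bf.card - B0.card)
      ≤ ∑ ξ ∈ Bf, p ^ (2 * blockHeight p B (ξ : G → ℂ)) := by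
    rw [← Finset.sum_filter_add_sum_filter_not Bf
      (fun ξ : IrrCharacter G => blockHeight p B (ξ : G → ℂ) = 0)]
    have h1 : ∑ ξ ∈ Bf.filter (fun ξ : IrrCharacter G => blockHeight p B (ξ : G → ℂ) = 0),
        p ^ (2 * blockHeight p B (ξ : G → ℂ)) = B0.card := by
      rw [Finset.card_eq_sum_ones]
      refine Finset.sum_congr rfl fun ξ hξ => ?_
      rw [(Finset.mem_filter.1 hξ).2]; simp
    have h2 : p ^ 2 * (Bf.card - B0.card) ≤
        ∑ ξ ∈ Bf.filter (fun ξ : IrrCharacter G => ¬ blockHeight p B (ξ : G → ℂ) = 0),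
        p ^ (2 * blockHeight p B (ξ : G → ℂ)) := by
      have hc : (Bf.filter (fun ξ : IrrCharacter G => ¬ blockHeight p B (ξ : G → ℂ) = 0)).card
          = Bf.card - B0.card := by
        have := Finset.card_filter_add_card_filter_not (s := Bf)
          (fun ξ : IrrCharacter G => blockHeight p B (ξ : G → ℂ) = 0)
        have hB0c : B0.card = (Bf.filter
          (fun ξ : IrrCharacter G => blockHeight p B (ξ : G → ℂ) = 0)).card := rfl
        omega
      rw [← hc, mul_comm, ← smul_eq_mul, ← Finset.sum_const]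
      refine Finset.sum_le_sum fun ξ hξ => ?_
      have hξ0 := (Finset.mem_filter.1 hξ).2
      exact Nat.pow_le_pow_right hp.pos (by omega)
    rw [h1]
    exact Nat.add_le_add_left h2 _
  have hk0 : B0.card ≤ Bf.card := Finset.card_filter_le _ _
  -- arithmetic
  have hQ : p ^ (2 * d) = p ^ 2 * p ^ (2 * d - 2) := by
    rw [← pow_add]; congr 1; omega
  have hBb' : 4 * B0.card ≤ p ^ (2 * d - 2) := by
    refine hBb.trans (Nat.pow_le_pow_right hp.pos ?_)
    omega
  have hQ4 : 4 ≤ p ^ (2 * d - 2) := by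
    calc 4 ≤ p ^ 2 := hp2
      _ ≤ p ^ (2 * d - 2) := Nat.pow_le_pow_right hp.pos (by omega)
  set Q := p ^ (2 * d - 2) with hQdef
  set P2 := p ^ 2 with hP2
  set k := Bf.card with hk
  set k0 := B0.card with hk0def
  rw [hQ] at hA
  have hA' : 4 * (k0 + P2 * (k - k0)) ≤ P2 * Q + 4 := (Nat.mul_le_mul_left 4 hC).trans hA
  -- move to integers
  have hA'' : (4 : ℤ) * ((k0 : ℤ) + (P2 : ℤ) * ((k : ℤ) - (k0 : ℤ))) ≤ (P2 : ℤ) * (Q : ℤ) + 4 := by
    have : ((4 * (k0 + P2 * (k - k0)) : ℕ) : ℤ) ≤ ((P2 * Q + 4 : ℕ) : ℤ) := by exact_mod_cast hA'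
    push_cast [Nat.cast_sub hk0] at this
    exact this
  have h1 : (4 : ℤ) * (k0 : ℤ) ≤ (Q : ℤ) := by exact_mod_cast hBb'
  have h2 : (4 : ℤ) ≤ (Q : ℤ) := by exact_mod_cast hQ4
  have h3 : (4 : ℤ) ≤ (P2 : ℤ) := by exact_mod_cast hp2
  have hfinal : (2 : ℤ) * (k : ℤ) ≤ (Q : ℤ) := by
    have h4 : (0 : ℤ) ≤ ((P2 : ℤ) - 1) * ((Q : ℤ) - 4 * (k0 : ℤ)) :=
      mul_nonneg (by linarith) (by linarith)
    have h5 : (4 : ℤ) * (P2 : ℤ) * (k : ℤ) ≤ 2 * (P2 : ℤ) * (Q : ℤ) := by nlinarith
    have h6 : (0 : ℤ) < 2 * (P2 : ℤ) := by linarith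
    have h7 : (2 * (P2 : ℤ)) * (2 * (k : ℤ)) ≤ (2 * (P2 : ℤ)) * (Q : ℤ) := by nlinarith
    exact le_of_mul_le_mul_left h7 h6
  exact_mod_cast hfinal

end Cfsg.Agent.S4710
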