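import Cfsg.Statements.S4711
import Cfsg.Agent.Helper23.DT_MN4
import Cfsg.Agent.Helper80.CharLevel
import Cfsg.Agent.S0938
import Cfsg.Agent.Helper3.PL1_FWD
import Cfsg.Agent.Helper61.PL1_POS
import Cfsg.Agent.Helper61.PL1_PIMV
import Cfsg.Agent.Helper51.PL1_DPOS
import Cfsg.Agent.Helper51.PL1_STEPD
import Cfsg.Agent.Helper93.PL1_SUMP
import Cfsg.Agent.Helper93.PL1_FIN
import Cfsg.Agent.Helper73.PL1_CNT

set_option autoImplicit false
open Cfsg

namespace Cfsg.Agent.S4711

open Cfsg.Agent Cfsg.Agent.Helper16 Cfsg.Agent.Helper16.DT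

/-- The converse direction, assembled from the leaves of the PL1 farm (`tools/helper3_pl1`): every projective
indecomposable character of the principal block has a constituent trivial on `P`, so the `p`-regular elements of
`T = ⋂ ker χ` (`χ` in the principal block, trivial on `P`) lie in the kernel of the block, a normal `p'`-subgroup. -/
theorem rev {G : Type*} [Group G] [Finite G] {p : ℕ} [Fact p.Prime] {M : Ideal Cfsg.AlgInt}
    (hM : IsPModular p M) (P : Sylow p G)
    (H : ∀ χ ∈ principalBlock M G,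
      IsIrrCharacter ↥(Subgroup.normalizer ((P : Subgroup G) : Set G))
        (fun n : ↥(Subgroup.normalizer ((P : Subgroup G) : Set G)) => (χ : G → ℂ) n)) :
    PLengthLE p 1 G := by
  classical
  haveI : Fintype G := Fintype.ofFinite G
  haveI hmax : M.IsMaximal := hM.2.1
  haveI hMp : M.IsPrime := IsPModular.isPrime hM
  have hpM : (p : AlgInt) ∈ M := hM.2.2
  set B : Set (IrrCharacter G) := principalBlock M G with hBdef
  have hB : IsPBlock M B := Helper78.isPBlock_principalBlock M G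
  obtain ⟨S, hSeq, hli, -, hdec, hint, -⟩ := Cfsg.Agent.Helper23.DT.dt_main_canon hM B hB
  choose! d hd using hdec
  -- positivity of the irreducible Brauer characters
  have hpos : ∀ φ ∈ S, ∀ x : G, (φ x).re ≤ (φ 1).re ∧ ((φ x).re = (φ 1).re → φ x = φ 1) := by
    intro φ hφ x
    have h1 : φ ∈ IBrIn p M B := by rw [← hSeq]; exact hφ
    obtain ⟨n, ρ, hirr, hφeq, -⟩ := h1
    exact Helper61.PL1.POS hpM ⟨n, ρ, hirr, hφeq⟩ x
  -- every member of the block is trivial on `P` or sums to zero over `P`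
  have hsum : ∀ χ ∈ B, (∀ u ∈ (P : Subgroup G), (χ : G → ℂ) u = (χ : G → ℂ) 1) ∨
      ∑ᶠ u ∈ ((P : Subgroup G) : Set G), (χ : G → ℂ) u = 0 :=
    fun χ hχ => Helper93.PL1.SUMP (P : Subgroup G) (χ : G → ℂ) (H χ hχ)
  set X : Set (IrrCharacter G) :=
    {χ | χ ∈ B ∧ ∀ u ∈ (P : Subgroup G), (χ : G → ℂ) u = (χ : G → ℂ) 1} with hXdef
  have hXB : X ⊆ B := fun χ hχ => hχ.1
  have hX : ∀ φ ∈ S, ∃ χ ∈ X, 0 < d χ φ := by
    intro φ hφ
    have hne : ∃ χ ∈ B, 0 < d χ φ := Helper51.PL1.DPOS (p := p) B S hli d hd φ hφ (hint φ hφ)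
    have hvan : ∀ u ∈ (P : Subgroup G), u ≠ 1 →
        ∑ᶠ χ ∈ B, ((d · φ) χ : ℂ) * (χ : G → ℂ) u = 0 := by
      intro u hu hu1
      apply Helper61.PL1.PIMV hM B hB S hli d hd u _ φ hφ
      obtain ⟨k, hk⟩ := (IsPGroup.iff_orderOf.mp P.isPGroup') ⟨u, hu⟩
      rw [Subgroup.orderOf_mk] at hk
      rw [hk]
      rcases Nat.eq_zero_or_pos k with h0 | h0
      · exfalso
        rw [h0, pow_zero, orderOf_eq_one_iff] at hk
        exact hu1 hk
      · exact dvd_pow_self p h0.ne'
    obtain ⟨χ, hχB, hχd, hχP⟩ := Helper73.PL1.CNT B (d · φ) (P : Subgroup G) hvan hsum hne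
    exact ⟨χ, ⟨hχB, hχP⟩, hχd⟩
  -- the normal subgroup `T`
  set T : Subgroup G := ⨅ χ : X, Helper80.kerChar ((χ : IrrCharacter G) : G → ℂ)
    (Helper74.irr_isCharacter (χ : IrrCharacter G)) with hTdef
  haveI hTn : T.Normal := Subgroup.normal_iInf_normal (fun χ => inferInstance)
  have hPT : (P : Subgroup G) ≤ T := by
    intro u hu
    rw [hTdef, Subgroup.mem_iInf]
    intro χ
    rw [Helper80.mem_kerChar]
    exact χ.2.2 u hu
  -- the kernel of the block
  obtain ⟨K, hKn, hKker, hKp, -, -⟩ := Cfsg.Agent.S0938.result p M hM B hB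
    (Helper79.principalIrr G) (Helper78.principalIrr_mem_principalBlock M hMp G)
  haveI := hKn
  refine Helper93.PL1.FIN P T K hPT hKp ?_
  intro x hxT hx
  have hxX : ∀ χ ∈ X, (χ : G → ℂ) x = (χ : G → ℂ) 1 := by
    intro χ hχ
    rw [hTdef, Subgroup.mem_iInf] at hxT
    have := hxT ⟨χ, hχ⟩
    rwa [Helper80.mem_kerChar] at this
  have hxB := Helper51.PL1.STEPD (p := p) B X hXB S hpos d hd hX x hx hxX
  have : x ∈ (K : Set G) := by rw [hKker]; exact hxB
  exact this

/-- Let p be a prime, M a maximal ideal of the algebraic integers containing p, G a finite group, P a Sylow p-subgroup and N = N_G(P). Then G has p-length 1 (G = O_{p',p,p'}(G)) if and only if every irreducible character in the principal p-block of G restricts to an irreducible character of N. -/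
theorem result {G : Type*} [Group G] [Finite G] (p : ℕ) [Fact p.Prime] (M : Ideal Cfsg.AlgInt) (hM : Cfsg.IsPModular p M) (P : Sylow p G) : Cfsg.PLengthLE p 1 G ↔ ∀ χ ∈ Cfsg.principalBlock M G, Cfsg.IsIrrCharacter ↥(Subgroup.normalizer ((P : Subgroup G) : Set G)) (fun n : ↥(Subgroup.normalizer ((P : Subgroup G) : Set G)) => (χ : G → ℂ) n) :=
  ⟨Cfsg.Agent.Helper3.PL1.FWD hM P, rev hM P⟩

end Cfsg.Agent.S4711
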