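import Cfsg.Statements.S4714
import Cfsg.Agent.Helper16.CanonicalChar2

set_option autoImplicit false
open Cfsg

namespace Cfsg.Agent.S4714

open Cfsg.Agent.Helper16 in
/-- Let p be a prime, M a maximal ideal of the algebraic integers containing p, D a p-subgroup of the finite group G with G = D·C_G(D), and B a p-block with defect group D. Let χ be a member of B having D in its kernel (there is exactly one, the canonical character of B). Then the irreducible characters in B are exactly the functions θ on G for which there is an irreducible character ζ of D such that θ(yx) = ζ(y)χ(x) whenever y ∈ D, x has order prime to p and x commutes with y, and θ(z) = 0 whenever the p-part of z does not lie in D. -/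
theorem result {G : Type*} [Group G] [Finite G] (p : ℕ) [Fact p.Prime] (M : Ideal Cfsg.AlgInt) (hM : Cfsg.IsPModular p M) (D : Subgroup G) (hD : IsPGroup p D) (hG : D ⊔ Subgroup.centralizer (D : Set G) = ⊤) (B : Set (Cfsg.IrrCharacter G)) (hB : Cfsg.IsPBlock M B) (hBD : Cfsg.IsDefectGroup p M B D) (χ : Cfsg.IrrCharacter G) (hχ : χ ∈ B) (hχD : ∀ y ∈ D, (χ : G → ℂ) y = (χ : G → ℂ) 1) : (∀ θ : Cfsg.IrrCharacter G, θ ∈ B ↔ ∃ ζ : Cfsg.IrrCharacter D, (∀ (y : D) (x : G), ¬ p ∣ orderOf x → Commute (y : G) x → (θ : G → ℂ) ((y : G) * x) = (ζ : D → ℂ) y * (χ : G → ℂ) x) ∧ (∀ z : G, (∀ y : G, Cfsg.IsPPart p z y → y ∉ D) → (θ : G → ℂ) z = 0)) ∧ ∀ ζ : Cfsg.IrrCharacter D, ∃ θ ∈ B, (∀ (y : D) (x : G), ¬ p ∣ orderOf x → Commute (y : G) x → (θ : G → ℂ) ((y : G) * x) = (ζ : D → ℂ) y * (χ : G → ℂ) x) ∧ (∀ z : G, (∀ y : G, Cfsg.IsPPart p z y → y ∉ D) → (θ : G → ℂ) z = 0) := by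
  classical
  haveI : Fintype G := Fintype.ofFinite G
  haveI hDn : D.Normal := normal_of_sup_centralizer D hG
  have hreg := pRegular_mem_centralizer D hD hG
  have hcomm := comm_of_mem_centralizer D
  -- the two forms of the vanishing clause
  have hvaniff : ∀ z : G, (∀ y : G, IsPPart p z y → y ∉ D) ↔ pPartOf p z ∉ D := by
    intro z
    constructor
    · intro h
      exact h _ (pPartOf_spec z)
    · intro h y hy
      rw [← (pPartOf_eq_iff z y).mpr hy]
      exact h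
  have hsurj : ∀ ζ : Cfsg.IrrCharacter D, ∃ θ ∈ B, (∀ (y : D) (x : G), ¬ p ∣ orderOf x →
      Commute (y : G) x → (θ : G → ℂ) ((y : G) * x) = (ζ : D → ℂ) y * (χ : G → ℂ) x) ∧
      (∀ z : G, (∀ y : G, Cfsg.IsPPart p z y → y ∉ D) → (θ : G → ℂ) z = 0) := by
    intro ζ
    obtain ⟨θ, hθ, hA⟩ := exists_irr_of_factor D hM hD hG hB hBD χ hχ hχD ζ
    refine ⟨θ, hθ, fun y x hx _ => hA y x hx, fun z hz => ?_⟩
    exact irr_eq_zero_of_pPartOf_not_mem D hM hB hBD θ hθ z ((hvaniff z).mp hz)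
  refine ⟨fun θ => ⟨fun hθ => ?_, ?_⟩, hsurj⟩
  · obtain ⟨ζ, hA⟩ := exists_irr_factor D hM hD hG hB hBD χ hχ hχD θ hθ
    refine ⟨ζ, fun y x hx _ => hA y x hx, fun z hz => ?_⟩
    exact irr_eq_zero_of_pPartOf_not_mem D hM hB hBD θ hθ z ((hvaniff z).mp hz)
  · rintro ⟨ζ, hA, hV⟩
    obtain ⟨θ', hθ', hA', hV'⟩ := hsurj ζ
    have hc : ∀ (y : D) (x : G), ¬ p ∣ orderOf x → Commute (y : G) x :=
      fun y x hx => hcomm (y : G) y.2 x (hreg x hx)
    have : θ = θ' := irr_eq_of_factor D hD hG χ ζ θ θ'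
      (fun y x hx => hA y x hx (hc y x hx)) (fun y x hx => hA' y x hx (hc y x hx))
      (fun z hz => hV z ((hvaniff z).mpr hz)) (fun z hz => hV' z ((hvaniff z).mpr hz))
    rw [this]
    exact hθ'

end Cfsg.Agent.S4714
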