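import Cfsg.Statements.S4720
import Cfsg.Agent.Helper78.ColumnFormula
import Cfsg.Agent.S0925
import Cfsg.Agent.S0947

set_option autoImplicit false
open Cfsg

namespace Cfsg.Agent.S4720

open Cfsg.Agent.Helper78 Cfsg.Agent in
/-- Let p be a prime, M a maximal ideal of the algebraic integers containing p, P a p-subgroup of the finite group G, N a subgroup with P ≤ N ≤ N_G(P), and U a nonempty subset of P normalized by N such that an element of U and an element of P that are conjugate in G are already conjugate in N, and such that λ(C_G(y)) = w·#C_N(y) for every y ∈ U with one rational number w, where λ(X) denotes the sum of the squares of the degrees of the irreducible characters in the principal p-block of X. For a complex function θ on P and χ in the principal block of G put a_χ(θ) = #P⁻¹ Σ_{y ∈ P} χ(y) θ(y⁻¹). Then for generalized characters θ, η of P with θ vanishing outside U, Σ_χ a_χ(θ)·conj(a_χ(η)) = (w/#P²)·Σ_{y ∈ P} θ(y)·conj(Σ_{x ∈ N} η(x y x⁻¹))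 (η extended by zero off P; the conjugates lie in P), the first sum over the principal p-block of G. -/
theorem result {G : Type*} [Group G] [Finite G] (p : ℕ) [Fact p.Prime] (M : Ideal Cfsg.AlgInt) (hM : Cfsg.IsPModular p M) (P : Subgroup G) (hP : IsPGroup p P) (N : Subgroup G) (hPN : P ≤ N) (hNN : N ≤ Subgroup.normalizer (P : Set G)) (U : Set G) (hUne : U.Nonempty) (hUP : U ⊆ (P : Set G)) (hUN : ∀ n ∈ N, ∀ u ∈ U, n * u * n⁻¹ ∈ U) (hfus : ∀ u ∈ U, ∀ g : G, g * u * g⁻¹ ∈ (P : Set G) → ∃ n ∈ N, n * u * n⁻¹ = g * u * g⁻¹) (w : ℚ) (hw : ∀ y ∈ U, ((∑ᶠ ψ ∈ Cfsg.principalBlock M ↥(Subgroup.centralizer ({y} : Set G)), Cfsg.charDegree (ψ : ↥(Subgroup.centralizer ({y} : Set G)) → ℂ) ^ 2) : ℚ) = w * Nat.card ↥(N ⊓ Subgroup.centralizer ({y} : Set G))) (θ η : ↥P → ℂ) (hθ : Cfsg.IsGeneralizedCharacter ↥P θ) (hη : Cfsg.IsGeneralizedCharacter ↥P η) (hθU : ∀ y : ↥P, (y : G) ∉ U → θ y = 0) : ∑ᶠ χ ∈ Cfsg.principalBlock M G, ((Nat.card ↥P : ℂ)⁻¹ * ∑ᶠ y : ↥P, (χ : G → ℂ) (y :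 G) * θ y⁻¹) * (starRingEnd ℂ) ((Nat.card ↥P : ℂ)⁻¹ * ∑ᶠ y : ↥P, (χ : G → ℂ) (y : G) * η y⁻¹) = ((w : ℂ) / ((Nat.card ↥P : ℂ) ^ 2)) * ∑ᶠ y : ↥P, θ y * (starRingEnd ℂ) (∑ᶠ x : ↥N, Cfsg.extendByZero P η ((x : G) * (y : G) * (x : G)⁻¹)) := by
  classical
  haveI : Fintype G := Fintype.ofFinite G
  haveI : Fintype P := Fintype.ofFinite P
  haveI : Fintype N := Fintype.ofFinite N
  have hMp : M.IsPrime := isPrime_of_isPModular hM
  have hp : p.Prime := Fact.out
  have hfinB : (principalBlock M G).Finite := Set.toFinite _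
  have hpel : ∀ u ∈ P, ∃ k : ℕ, orderOf u = p ^ k := by
    intro u hu
    obtain ⟨k, hk⟩ := (IsPGroup.iff_orderOf.mp hP) ⟨u, hu⟩
    exact ⟨k, by rw [← hk, Subgroup.orderOf_mk]⟩
  rw [finsum_mem_eq_finite_toFinset_sum _ hfinB]
  simp_rw [finsum_eq_sum_of_fintype]
  refine column_formula hfinB.toFinset P N U hUP hUN hfus (w : ℂ) ?_ ?_ θ η hθU
  · -- block orthogonality
    intro u hu v hv hc
    have h := (Cfsg.Agent.S0925.result p M hM).2 v u v u
      (isPPart_self_of_orderOf hp (hpel v hv)) (isPPart_self_of_orderOf hp (hpel u (hUP hu))) hc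
      (principalBlock M G) (isPBlock_principalBlock M G)
    rw [finsum_mem_eq_finite_toFinset_sum _ hfinB] at h
    exact h
  · -- the norm formula
    intro u hu
    have hwu := hw u hu
    have hcast := norm_formula_cast _ w _ hwu
    rw [← hcast]
    simp_rw [irr_mul_inv_eq_norm_sq]
    rw [← Complex.ofReal_sum]
    congr 1
    rw [← finsum_mem_eq_finite_toFinset_sum _ hfinB]
    by_cases hu1 : u = 1
    · subst hu1
      exact sum_norm_sq_principalBlock_centralizer_one M
    · have h := (Cfsg.Agent.S0947.result p M hM u (hpel u (hUP hu)) hu1 1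
        (by rw [orderOf_one]; exact hp.not_dvd_one)).1
      simpa using h

end Cfsg.Agent.S4720
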