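import Cfsg.Statements.S4721
import Cfsg.Agent.Helper66.BLInvol

set_option autoImplicit false
open Cfsg

namespace Cfsg.Agent.S4721

/-- Let p be a prime, M a maximal ideal of the algebraic integers containing p, and G a finite group with a nontrivial abelian Sylow p-subgroup P, N = N_G(P), C = C_G(P), such that N/C is cyclic of order 3, #P > 4, and C_G(y) ∩ N = C for every non-identity y ∈ P. Then the principal p-block is the disjoint union of a set X of exactly 3 characters containing the principal character and a set Y of (#P − 1)/3 characters, with signs a_χ = ±1 (χ ∈ X, a = 1 at the principal character) and δ = ±1 such that every χ ∈ X takes the value a_χ at every element whose p-part is a non-identity element of P, and there is a map ζ from the non-principal linear characters of P onto Y, constant on N-conjugacy classes, with ζ_ψ(z) = δ·Σ ψ'(y) over the N-orbit of ψ, for z with p-part y ≠ 1 in P. If moreover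 G has an involution lying in no proper normal subgroup of G, then exactly two of the three numbers −δ and a_χ (χ ∈ X non-principal) equal −1, and the product of the degrees of the two non-principal members of X and of any member of Y is a perfect square. -/
theorem result {G : Type*} [Group G] [Finite G] (p : ℕ) [Fact p.Prime] (M : Ideal Cfsg.AlgInt) (hM : Cfsg.IsPModular p M) (P : Sylow p G) (hab : IsMulCommutative P) (hP1 : Nat.card P ≠ 1) (hCN : (Subgroup.centralizer ((P : Subgroup G) : Set G)).relIndex (Subgroup.normalizer ((P : Subgroup G) : Set G)) = 3) (hcyc : ∃ g : G, g ∈ Subgroup.normalizer ((P : Subgroup G) : Set G) ∧ Subgroup.centralizer ((P : Subgroup G) : Set G) ⊔ Subgroup.zpowers g = Subgroup.normalizer ((P : Subgroup G) : Set G)) (hm2 : 3 + 1 < Nat.card P) (hfrob : ∀ y : G, y ∈ (P : Subgroup G) → y ≠ 1 → Subgroup.centralizer ({y} : Set G) ⊓ Subgroup.normalizer ((P : Subgroup G) : Set G) = Subgroup.centralizer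 ((P : Subgroup G) : Set G)) : ∃ (X Y : Set (Cfsg.IrrCharacter G)), Cfsg.principalBlock M G = X ∪ Y ∧ Disjoint X Y ∧ Nat.card X = 3 ∧ Nat.card Y = (Nat.card P - 1) / 3 ∧ (∃ χ₁ ∈ X, (χ₁ : G → ℂ) = fun _ => 1) ∧ ∃ (a : Cfsg.IrrCharacter G → ℤ) (δ : ℤ) (ζ : (↥(P : Subgroup G) →* ℂˣ) → Cfsg.IrrCharacter G), (δ = 1 ∨ δ = -1) ∧ (∀ χ ∈ X, (a χ = 1 ∨ a χ = -1) ∧ ∀ z y : G, Cfsg.IsPPart p z y → y ∈ (P : Subgroup G) → y ≠ 1 → (χ : G → ℂ) z = (a χ : ℂ)) ∧ (∀ ψ : ↥(P : Subgroup G) →* ℂˣ, ψ ≠ 1 → ζ ψ ∈ Y) ∧ (∀ η ∈ Y, ∃ ψ : ↥(P : Subgroup G) →* ℂˣ, ψ ≠ 1 ∧ ζ ψ = η) ∧ (∀ ψ ψ' : ↥(P : Subgroup G) →* ℂˣ, ψ ≠ 1 → (∃ n : G, n ∈ Subgroup.normalizer ((P : Subgroup G) : Set G) ∧ ∀ w w' : ↥(P : Subgroup G), (w' : G) = n * w * n⁻¹ → ψ' w' = ψ w) → ζ ψ' = ζ ψ) ∧ (∀ ψ : ↥(P : Subgroup G) →* ℂˣ, ψ ≠ 1 → ∀ (z : G) (y : ↥(P : Subgroup G)), Cfsg.IsPPart p z (y : G) → (y : G) ≠ 1 → (ζ ψ : G → ℂ) z = (δ : ℂ) * ∑ᶠ ψ' ∈ {ψ' : ↥(P : Subgroup G)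 →* ℂˣ | ∃ n : G, n ∈ Subgroup.normalizer ((P : Subgroup G) : Set G) ∧ ∀ w w' : ↥(P : Subgroup G), (w' : G) = n * w * n⁻¹ → ψ' w' = ψ w}, ((ψ' y : ℂˣ) : ℂ)) ∧ ((∃ t : G, orderOf t = 2 ∧ ∀ K : Subgroup G, K.Normal → t ∈ K → K = ⊤) → Nat.card {χ : Cfsg.IrrCharacter G // χ ∈ X ∧ (χ : G → ℂ) ≠ (fun _ => 1) ∧ a χ = -1} + (if δ = 1 then 1 else 0) = 2 ∧ ∀ η ∈ Y, IsSquare (Cfsg.charDegree (η : G → ℂ) * ∏ᶠ χ ∈ {χ : Cfsg.IrrCharacter G | χ ∈ X ∧ (χ : G → ℂ) ≠ fun _ => 1}, Cfsg.charDegree (χ : G → ℂ))) := by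
  classical
  obtain ⟨X, Y, a, δ, ζ, D, hX3, hpm⟩ :=
    Cfsg.Agent.Helper66.BL.exists_BLData_three hM P hab hP1 hm2 hCN hfrob
  have hY := D.cardY_eq (by norm_num : 0 < 3)
  refine ⟨X, Y, D.union, D.disj, hX3, hY,
    ⟨Cfsg.Agent.Helper79.principalIrr G, D.one_mem, rfl⟩, a, δ, ζ, D.sign,
    fun χ hχ => ⟨hpm χ hχ, D.valX χ hχ⟩, D.zeta_mem, D.zeta_surj, ?_, ?_, ?_⟩
  · intro ψ ψ' hψ horb
    exact (D.zeta_iff ψ ψ' hψ (Cfsg.Agent.Helper66.BL.orb_ne_one _ hψ horb)).mpr horb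
  · intro ψ hψ z y hz hy1
    have h := D.valY ψ hψ z y hz hy1
    rw [Int.cast_zero, zero_add] at h
    exact h
  · rintro ⟨t, ht, htK⟩
    obtain ⟨χ₁, χ₂, h12, h01, h02, hXeq⟩ := D.exists_X3 hX3
    have hχ₁X : χ₁ ∈ X := by rw [hXeq]; simp
    have hχ₂X : χ₂ ∈ X := by rw [hXeq]; simp
    by_cases hp2 : p = 2
    · exact absurd (Cfsg.Agent.Helper66.BL.involution_two hab hM hfrob hCN hm2 D hpm h12 h01 h02
        hXeq hp2 ht htK) id
    · have hYne : Nonempty Y := by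
        have : 0 < Nat.card Y := by have := D.two_le_cardY hm2; omega
        exact (Nat.card_pos_iff.mp this).1
      obtain ⟨⟨η₀, hη₀⟩⟩ := hYne
      constructor
      · have h := (Cfsg.Agent.Helper66.BL.involution_odd hab hM hfrob hCN hm2 D hpm h12 h01 h02
          hXeq hp2 ht htK hη₀).1
        rw [Cfsg.Agent.Helper66.BL.card_minus h12 h01 h02 hXeq (hpm χ₁ hχ₁X) (hpm χ₂ hχ₂X)]
        have hiff : (-δ = -1) ↔ δ = 1 := by constructor <;> intro h' <;> omega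
        by_cases hδ : δ = 1
        · rw [if_pos hδ]
          rw [if_pos (hiff.mpr hδ)] at h
          exact h
        · rw [if_neg hδ]
          rw [if_neg (fun h' => hδ (hiff.mp h'))] at h
          exact h
      · intro η hη
        obtain ⟨r, hr⟩ := (Cfsg.Agent.Helper66.BL.involution_odd hab hM hfrob hCN hm2 D hpm h12
          h01 h02 hXeq hp2 ht htK hη).2
        rw [Cfsg.Agent.Helper66.BL.set_nonprincipal h01 h02 hXeq, finprod_mem_pair h12]
        refine ⟨r.natAbs, ?_⟩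
        have : ((Cfsg.charDegree (η : G → ℂ) * (Cfsg.charDegree (χ₁ : G → ℂ) *
            Cfsg.charDegree (χ₂ : G → ℂ)) : ℕ) : ℤ) = ((r.natAbs * r.natAbs : ℕ) : ℤ) := by
          rw [Int.natAbs_mul_self]
          push_cast
          linear_combination hr
        exact_mod_cast this

end Cfsg.Agent.S4721
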