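import Cfsg.Statements.S4722
import Cfsg.Agent.Helper78.ColumnSigns

set_option autoImplicit false
open Cfsg

namespace Cfsg.Agent.S4722

open Cfsg.Agent.Helper78 Cfsg.Agent in
/-- Let M be a maximal ideal of the algebraic integers containing 2, P a 2-subgroup of the finite group G, U a subset of P, and t an involution of G such that no element of U is inverted by any conjugate of t. Let θ be a generalized character of P vanishing outside U, and for χ in the principal 2-block B₀ put a_χ = #P⁻¹ Σ_{y ∈ P} χ(y) θ(y⁻¹). Then Σ_{χ ∈ B₀} a_χ χ(t)^2/χ(1) = 0, Σ_{χ ∈ B₀} a_χ χ(1) = 0 and Σ_{χ ∈ B₀} a_χ χ(t) = 0. If moreover #P⁻¹ Σ_{y ∈ P} θ(y) ≠ 0, then either at least two of the a_χ have positive real part and at least two have negative real part, or G has a proper normal subgroup containing O_2'(G) and t. -/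
theorem result {G : Type*} [Group G] [Finite G] (M : Ideal Cfsg.AlgInt) (hM : Cfsg.IsPModular 2 M) (P : Subgroup G) (hP : IsPGroup 2 P) (U : Set G) (hUP : U ⊆ (P : Set G)) (t : G) (ht : orderOf t = 2) (hinv : ∀ u ∈ U, ∀ g : G, (g * t * g⁻¹) * u * (g * t * g⁻¹)⁻¹ ≠ u⁻¹) (θ : ↥P → ℂ) (hθ : Cfsg.IsGeneralizedCharacter ↥P θ) (hθU : ∀ y : ↥P, (y : G) ∉ U → θ y = 0) : (∑ᶠ χ ∈ Cfsg.principalBlock M G, ((Nat.card ↥P : ℂ)⁻¹ * ∑ᶠ y : ↥P, (χ : G → ℂ) (y : G) * θ y⁻¹) * (χ : G → ℂ) t ^ 2 / (χ : G → ℂ) 1 = 0) ∧ (∑ᶠ χ ∈ Cfsg.principalBlock M G, ((Nat.card ↥P : ℂ)⁻¹ * ∑ᶠ y : ↥P, (χ : G → ℂ) (y : G) * θ y⁻¹) * (χ : G → ℂ) 1 = 0) ∧ (∑ᶠ χ ∈ Cfsg.principalBlock M G, ((Nat.card ↥P : ℂ)⁻¹ * ∑ᶠ y : ↥P, (χ : G → ℂ) (y : G) * θ y⁻¹) * (χ : G → ℂ) t = 0) ∧ ((Nat.card ↥P : ℂ)⁻¹ * ∑ᶠ y : ↥P, θ y ≠ 0 → (2 ≤ Nat.card {χ : Cfsg.IrrCharacter G // χ ∈ Cfsg.principalBlock M G ∧ 0 < (((Nat.card ↥P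 : ℂ)⁻¹ * ∑ᶠ y : ↥P, (χ : G → ℂ) (y : G) * θ y⁻¹)).re} ∧ 2 ≤ Nat.card {χ : Cfsg.IrrCharacter G // χ ∈ Cfsg.principalBlock M G ∧ (((Nat.card ↥P : ℂ)⁻¹ * ∑ᶠ y : ↥P, (χ : G → ℂ) (y : G) * θ y⁻¹)).re < 0}) ∨ ∃ K : Subgroup G, K.Normal ∧ K ≠ ⊤ ∧ Cfsg.pPrimeCore 2 G ≤ K ∧ t ∈ K) := by
  classical
  haveI : Fintype G := Fintype.ofFinite G
  haveI : Fintype P := Fintype.ofFinite P
  haveI : Fact (Nat.Prime 2) := ⟨Nat.prime_two⟩
  have hMp : M.IsPrime := isPrime_of_isPModular hM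
  have hp : (2 : ℕ).Prime := Nat.prime_two
  have hfinB : (principalBlock M G).Finite := Set.toFinite _
  have hB : IsPBlock M (principalBlock M G) := isPBlock_principalBlock M G
  have ht2 : t * t = 1 := by
    have : t ^ 2 = 1 := by rw [← ht]; exact pow_orderOf_eq_one t
    rwa [pow_two] at this
  have htt : t⁻¹ = t := inv_eq_of_mul_eq_one_left ht2
  have htp : ∃ k : ℕ, orderOf t = 2 ^ k := ⟨1, by rw [ht, pow_one]⟩
  have hpel : ∀ u ∈ P, ∃ k : ℕ, orderOf u = 2 ^ k := by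
    intro u hu
    obtain ⟨k, hk⟩ := (IsPGroup.iff_orderOf.mp hP) ⟨u, hu⟩
    exact ⟨k, by rw [← hk, Subgroup.orderOf_mk]⟩
  have h1U : (1 : G) ∉ U := by
    intro h
    exact hinv 1 h 1 (by simp)
  -- the three vanishing sums
  have hS1 : ∑ χ ∈ hfinB.toFinset,
      ((Nat.card P : ℂ)⁻¹ * ∑ y : P, (χ : G → ℂ) (y : G) * θ y⁻¹) *
        ((χ : G → ℂ) t ^ 2 / (χ : G → ℂ) 1) = 0 := by
    refine sum_coeff_mul_eq_zero _ P θ U hθU _ (fun u hu => ?_)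
    refine sum_inv_mul_sq_div_eq_zero hM hB hfinB (u : G) t (hpel u u.2) htt (fun g z hz hc => ?_)
    obtain ⟨c, hc'⟩ := exists_conj_inverts_of_isPPart hp htt hz hc
    exact hinv (u : G) hu c hc'
  have hS2 : ∑ χ ∈ hfinB.toFinset,
      ((Nat.card P : ℂ)⁻¹ * ∑ y : P, (χ : G → ℂ) (y : G) * θ y⁻¹) * (χ : G → ℂ) 1 = 0 := by
    refine sum_coeff_mul_eq_zero _ P θ U hθU _ (fun u hu => ?_)
    refine sum_inv_mul_one_eq_zero hM hB hfinB (u : G) (hpel u u.2) ?_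
    intro h1
    rw [h1] at hu
    exact h1U hu
  have hS3 : ∑ χ ∈ hfinB.toFinset,
      ((Nat.card P : ℂ)⁻¹ * ∑ y : P, (χ : G → ℂ) (y : G) * θ y⁻¹) * (χ : G → ℂ) t = 0 := by
    refine sum_coeff_mul_eq_zero _ P θ U hθU _ (fun u hu => ?_)
    refine sum_inv_mul_invol_eq_zero hM hB hfinB (u : G) t (hpel u u.2) htp htt ?_
    intro hc
    obtain ⟨c, hc'⟩ := isConj_iff.mp hc
    -- u⁻¹ = c⁻¹ t c is an involution, so u = u⁻¹
    have hu1 : (u : G)⁻¹ = c⁻¹ * t * c := by rw [← hc']; group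
    have hu2 : (u : G) = c⁻¹ * t * c := by
      have : (u : G) = ((u : G)⁻¹)⁻¹ := by rw [inv_inv]
      rw [this, hu1, mul_inv_rev, mul_inv_rev, inv_inv, htt]
      group
    have huu : (u : G) * (u : G) = 1 := by
      calc (u : G) * (u : G) = (c⁻¹ * t * c) * (c⁻¹ * t * c) := by rw [← hu2]
        _ = c⁻¹ * (t * t) * c := by group
        _ = 1 := by rw [ht2]; group
    apply hinv (u : G) hu c⁻¹
    rw [inv_inv, ← hu2, huu, one_mul]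
  refine ⟨?_, ?_, ?_, ?_⟩
  · rw [finsum_mem_eq_finite_toFinset_sum _ hfinB]
    simp_rw [finsum_eq_sum_of_fintype, mul_div_assoc]
    exact hS1
  · rw [finsum_mem_eq_finite_toFinset_sum _ hfinB]
    simp_rw [finsum_eq_sum_of_fintype]
    exact hS2
  · rw [finsum_mem_eq_finite_toFinset_sum _ hfinB]
    simp_rw [finsum_eq_sum_of_fintype]
    exact hS3
  · intro hc0
    simp_rw [finsum_eq_sum_of_fintype] at hc0 ⊢
    refine sign_dichotomy hM t htt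
      (fun χ => (Nat.card P : ℂ)⁻¹ * ∑ y : P, (χ : G → ℂ) (y : G) * θ y⁻¹) hS2 hS3 hS1 ?_ ?_
    · have : (Nat.card P : ℂ)⁻¹ * ∑ y : P, (Helper79.principalIrr G : G → ℂ) (y : G) * θ y⁻¹ =
          (Nat.card P : ℂ)⁻¹ * ∑ y : P, θ y := by
        congr 1
        refine Fintype.sum_equiv (Equiv.inv P) _ _ (fun y => ?_)
        show (1 : ℂ) * θ y⁻¹ = θ y⁻¹
        rw [one_mul]
      rw [this]
      exact hc0
    · have : (Nat.card P : ℂ)⁻¹ * ∑ y : P, (Helper79.principalIrr G : G → ℂ) (y : G) * θ y⁻¹ =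
          (Nat.card P : ℂ)⁻¹ * ∑ y : P, θ y := by
        congr 1
        refine Fintype.sum_equiv (Equiv.inv P) _ _ (fun y => ?_)
        show (1 : ℂ) * θ y⁻¹ = θ y⁻¹
        rw [one_mul]
      rw [this]
      exact genChar_average_im P θ hθ

end Cfsg.Agent.S4722
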