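import Cfsg.Statements.S4723
import Cfsg.Agent.Helper78.FongHeight

set_option autoImplicit false
open Cfsg

namespace Cfsg.Agent.S4723

open Cfsg.Agent.Helper78 Cfsg.Agent in
/-- Let p be a prime, M a maximal ideal of the algebraic integers containing p, H a normal subgroup of the finite group G and b a p-block of H. Let T be the stabilizer of b in G. Then b contains a character θ of height zero whose own stabilizer in G (the elements g with θ(g h g⁻¹) = θ(h) for all h ∈ H) has index prime to p in T, i.e. contains a Sylow p-subgroup of T. -/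
theorem result {G : Type*} [Group G] [Finite G] (p : ℕ) [Fact p.Prime] (M : Ideal Cfsg.AlgInt) (hM : Cfsg.IsPModular p M) (H : Subgroup G) [H.Normal] (b : Set (Cfsg.IrrCharacter ↥H)) (hb : Cfsg.IsPBlock M b) (T : Subgroup G) (hT : (∀ g : G, g ∈ T ↔ ∀ θ ∈ b, ∀ θ' : Cfsg.IrrCharacter ↥H, (∀ h h' : ↥H, (h' : G) = g * h * g⁻¹ → (θ' : ↥H → ℂ) h' = (θ : ↥H → ℂ) h) → θ' ∈ b)) : ∃ θ ∈ b, Cfsg.blockHeight p b (θ : ↥H → ℂ) = 0 ∧ ∃ S : Subgroup G, S ≤ T ∧ (∀ g : G, g ∈ S ↔ (g ∈ T ∧ ∀ h h' : ↥H, (h' : G) = g * h * g⁻¹ → (θ : ↥H → ℂ) h' = (θ : ↥H → ℂ) h)) ∧ ¬ p ∣ S.relIndex T := by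
  classical
  haveI : Fintype G := Fintype.ofFinite G
  haveI : Fintype H := Fintype.ofFinite H
  haveI : Fintype T := Fintype.ofFinite T
  haveI : Fintype (H.subgroupOf T) := Fintype.ofFinite _
  have hMp : M.IsPrime := hM.2.1.isPrime
  have hHn : H.Normal := inferInstance
  have hHT : H ≤ T := by
    intro h hh
    refine (hT h).mpr (fun θ hθ θ' hcond => ?_)
    have : θ' = θ := by
      apply Subtype.ext
      funext k
      have hk : (k : G) = h * (((⟨h, hh⟩ : H)⁻¹ * k * (⟨h, hh⟩ : H) : H) : G) * h⁻¹ := by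
        simp only [Subgroup.coe_mul, Subgroup.coe_inv]
        group
      rw [hcond _ k hk]
      have := Helper16.irr_isClassFunction θ k ((⟨h, hh⟩ : H)⁻¹)
      rw [inv_inv] at this
      exact this
    rw [this]
    exact hθ
  haveI hnorm : (H.subgroupOf T).Normal := hHn.subgroupOf T
  let e : H.subgroupOf T ≃* H := Subgroup.subgroupOfEquivOfLe hHT
  let bT : Set (IrrCharacter (H.subgroupOf T)) := {θ' | irrMap e θ' ∈ b}
  have hbTeq : bT = irrMap e.symm '' b := by
    ext θ'
    constructor
    · intro h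
      exact ⟨irrMap e θ', h, irrMap_symm_irrMap e θ'⟩
    · rintro ⟨θ, hθ, rfl⟩
      show irrMap e (irrMap e.symm θ) ∈ b
      rw [irrMap_irrMap_symm]
      exact hθ
  have hbeq : b = irrMap e '' bT := by
    rw [hbTeq, Set.image_image]
    simp only [irrMap_irrMap_symm, Set.image_id']
  have hbT : IsPBlock M bT := by
    rw [hbTeq]
    exact Helper77.isPBlock_image_irrMap e.symm hb
  have hst : Helper16.GStable (H.subgroupOf T) bT := by
    intro θ' hθ' t
    have ht' : ((t⁻¹ : T) : G) ∈ T := (t⁻¹).2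
    refine (hT _).mp ht' (irrMap e θ') hθ' (irrMap e (Helper16.irrConj _ t θ')) ?_
    intro h h' hh
    rw [irrMap_apply, irrMap_apply, Helper16.irrConj_coe, Helper15.conjFun_apply]
    refine congrArg _ ?_
    apply Subtype.ext
    apply Subtype.ext
    show (t : G) * (h' : G) * ((t⁻¹ : T) : G) = (h : G)
    rw [hh]
    simp only [Subgroup.coe_inv, inv_inv]
    group
  obtain ⟨θ', hθ', hht, hidx⟩ := exists_height_zero_index_inertia (H.subgroupOf T) hM bT hbT hst
  refine ⟨irrMap e θ', hθ', ?_, ?_⟩
  · -- heights are preserved by transport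
    have hdeg : ∀ ξ : IrrCharacter (H.subgroupOf T),
        charDegree (irrMap e ξ : H → ℂ) = charDegree (ξ : H.subgroupOf T → ℂ) := by
      intro ξ
      unfold charDegree
      rw [irrMap_apply, map_one]
    have : blockHeight p b (irrMap e θ' : H → ℂ) =
        blockHeight p bT (θ' : H.subgroupOf T → ℂ) := by
      unfold blockHeight
      rw [hdeg θ', hbeq, Set.image_image]
      simp only [hdeg]
    rw [this]
    exact hht
  · let I : Subgroup T := Helper15.inertia (H.subgroupOf T) (θ' : H.subgroupOf T → ℂ)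
    refine ⟨I.map T.subtype, Subgroup.map_subtype_le _, ?_, ?_⟩
    · intro g
      constructor
      · rintro ⟨t, ht, rfl⟩
        refine ⟨t.2, fun h h' hh => ?_⟩
        have h1 := (Helper15.mem_inertia_iff _ _ t).mp ht (e.symm h)
        rw [irrMap_apply, irrMap_apply, ← h1]
        refine congrArg _ ?_
        apply Subtype.ext
        apply Subtype.ext
        exact hh
      · rintro ⟨hgT, hcond⟩
        refine ⟨⟨g, hgT⟩, ?_, rfl⟩
        show (⟨g, hgT⟩ : T) ∈ Helper15.inertia (H.subgroupOf T) (θ' : H.subgroupOf T → ℂ)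
        rw [Helper15.mem_inertia_iff]
        intro n
        have hmem : g * ((n : T) : G) * g⁻¹ ∈ H := hHn.conj_mem _ n.2 g
        have h1 := hcond (e n) ⟨_, hmem⟩ rfl
        rw [irrMap_apply, irrMap_apply, MulEquiv.symm_apply_apply] at h1
        rw [← h1]
        refine congrArg _ ?_
        apply Subtype.ext
        apply Subtype.ext
        rfl
    · have : (I.map T.subtype).subgroupOf T = I := by
        rw [Subgroup.subgroupOf, Subgroup.comap_map_eq_self_of_injective T.subtype_injective]
      show ¬ p ∣ ((I.map T.subtype).subgroupOf T).index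
      rw [this]
      exact hidx

end Cfsg.Agent.S4723
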