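import Cfsg.Statements.S4725
import Cfsg.Agent.Helper16.Height
import Cfsg.Agent.Helper15.ConjChar
import Cfsg.Agent.S4430

set_option autoImplicit false
open Cfsg

namespace Cfsg.Agent.S4725

open Cfsg.Agent.Helper16 in
/-- Let p be a prime, M a maximal ideal of the algebraic integers containing p, H a subgroup of the finite group G, and b a p-block of H inducing the p-block B of G, with b and B of the same defect. Then for every height-zero ζ ∈ b there is a height-zero χ ∈ B whose multiplicity in the character induced from ζ is not divisible by p. -/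
theorem result {G : Type*} [Group G] [Fintype G] (p : ℕ) [Fact p.Prime] (M : Ideal Cfsg.AlgInt) (hM : Cfsg.IsPModular p M) (H : Subgroup G) (b : Set (Cfsg.IrrCharacter ↥H)) (B : Set (Cfsg.IrrCharacter G)) (hind : Cfsg.IsInducedBlock M H b B) (hdef : Cfsg.blockDefect p b = Cfsg.blockDefect p B) (ζ : Cfsg.IrrCharacter ↥H) (hζ : ζ ∈ b) (hζ0 : Cfsg.blockHeight p b (ζ : ↥H → ℂ) = 0) : ∃ χ ∈ B, Cfsg.blockHeight p B (χ : G → ℂ) = 0 ∧ ∃ a : ℕ, Cfsg.classInner (Cfsg.indFun H (ζ : ↥H → ℂ)) (χ : G → ℂ) = (a : ℂ) ∧ ¬ p ∣ a := by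
  classical
  haveI : Fintype H := Fintype.ofFinite H
  haveI hMp : M.IsPrime := IsPModular.isPrime hM
  have hp : p.Prime := Fact.out
  set η : G → ℂ := Cfsg.indFun H (ζ : H → ℂ) with hη
  have hηchar : IsCharacter G η := Helper15.isCharacter_indFun H (Helper74.irr_isCharacter ζ)
  have hm : ∀ χ : IrrCharacter G, ∃ m : ℕ, classInner η (χ : G → ℂ) = (m : ℂ) := fun χ =>
    Helper15.isCharacter_inner_nat hηchar (Helper74.irr_isCharacter χ)
  choose m hm using hm
  obtain ⟨⟨n, hn, hn0, hnfac⟩, -⟩ := Cfsg.Agent.S4430.result p M hM H b B hind ζ hζ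
  have hnsum : n = ∑ χ : IrrCharacter G,
      (if χ ∈ B then m χ * charDegree (χ : G → ℂ) else 0) := by
    have h1 := blockPart_one_eq_natSum B m hm
    rw [hn] at h1
    exact_mod_cast h1
  have hidx0 : H.index ≠ 0 := Subgroup.index_ne_zero_of_finite
  have hdegη : charDegree η = H.index * charDegree (ζ : H → ℂ) := by
    have h1 : ((charDegree η : ℕ) : ℂ) = η 1 := Helper74.charDegree_cast hηchar
    have h2 : ((charDegree (ζ : H → ℂ) : ℕ) : ℂ) = (ζ : H → ℂ) 1 :=
      Helper74.charDegree_cast (Helper74.irr_isCharacter ζ)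
    have h3 : η 1 = (H.index : ℂ) * (ζ : H → ℂ) 1 := Helper15.indFun_apply_one H _
    have h4 : ((charDegree η : ℕ) : ℂ) = ((H.index * charDegree (ζ : H → ℂ) : ℕ) : ℂ) := by
      rw [h1, h3, ← h2]
      push_cast
      ring
    exact_mod_cast h4
  have hk : (charDegree η).factorization p = minExp p B := by
    rw [hdegη, Nat.factorization_mul hidx0 (irr_charDegree_ne_zero ζ)]
    simp only [Finsupp.coe_add, Pi.add_apply]
    have hζmin := (blockHeight_eq_zero_iff p hζ).mp hζ0
    have hcard : (Nat.card G).factorization p =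
        H.index.factorization p + (Nat.card H).factorization p := by
      rw [← Subgroup.index_mul_card H, Nat.factorization_mul hidx0 Nat.card_pos.ne']
      simp only [Finsupp.coe_add, Pi.add_apply]
    have hb_le := minExp_le_card p (B := b) ⟨ζ, hζ⟩
    have hB_le := minExp_le_card p (Helper78.isPBlock_nonempty hMp hind.2.1)
    rw [blockDefect_eq, blockDefect_eq] at hdef
    omega
  by_contra hcon
  push_neg at hcon
  have hdiv : ∀ χ : IrrCharacter G, p ^ (minExp p B + 1) ∣
      (if χ ∈ B then m χ * charDegree (χ : G → ℂ) else 0) := by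
    intro χ
    by_cases hχ : χ ∈ B
    · rw [if_pos hχ]
      by_cases hh : (charDegree (χ : G → ℂ)).factorization p = minExp p B
      · have hpm : p ∣ m χ :=
          hcon χ hχ ((blockHeight_eq_zero_iff p hχ).mpr hh) (m χ) (hm χ)
        rw [pow_succ, mul_comm (p ^ _) p]
        exact Nat.mul_dvd_mul hpm (pow_minExp_dvd hχ)
      · have hlt : minExp p B + 1 ≤ (charDegree (χ : G → ℂ)).factorization p := by
          have := minExp_le_of_mem p hχ
          omega
        exact Dvd.dvd.mul_left
          ((hp.pow_dvd_iff_le_factorization (irr_charDegree_ne_zero χ)).mpr hlt) _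
    · rw [if_neg hχ]
      exact dvd_zero _
  have hdivn : p ^ (minExp p B + 1) ∣ n := by
    rw [hnsum]
    exact Finset.dvd_sum (fun χ _ => hdiv χ)
  have hle := (hp.pow_dvd_iff_le_factorization hn0).mp hdivn
  have hnfac' : n.factorization p = (charDegree η).factorization p := hnfac
  omega

end Cfsg.Agent.S4725
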