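import Cfsg.Statements.S4726
-- import your own Cfsg.Agent.* helpers here
import Cfsg.Agent.Helper77.InducedNested

set_option autoImplicit false
open Cfsg

namespace Cfsg.Agent.S4726

/-- Let p be a prime, M a maximal ideal of the algebraic integers containing p, H a subgroup of the finite group G and b a p-block of H with defect group D₀ such that C_G(D₀) ≤ H. Then b induces a block of G, and for every block B of G induced by b there is a defect group D of B with Z(D) ≤ Z(D₀) ≤ D₀ ≤ D (as subgroups of G). In particular, if the defect groups of B are abelian then D₀ is a defect group of B. -/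
theorem result {G : Type*} [Group G] [Finite G] (p : ℕ) [Fact p.Prime] (M : Ideal Cfsg.AlgInt) (hM : Cfsg.IsPModular p M) (H : Subgroup G) (b : Set (Cfsg.IrrCharacter ↥H)) (hb : Cfsg.IsPBlock M b) (D₀ : Subgroup ↥H) (hD₀ : Cfsg.IsDefectGroup p M b D₀) (hC : Subgroup.centralizer ((D₀.map H.subtype : Subgroup G) : Set G) ≤ H) : Cfsg.InducedBlockDefined M H b ∧ ∀ B : Set (Cfsg.IrrCharacter G), Cfsg.IsInducedBlock M H b B → (∃ D : Subgroup G, Cfsg.IsDefectGroup p M B D ∧ (Subgroup.center ↥D).map D.subtype ≤ ((Subgroup.center ↥D₀).map D₀.subtype).map H.subtype ∧ ((Subgroup.center ↥D₀).map D₀.subtype).map H.subtype ≤ D₀.map H.subtype ∧ D₀.map H.subtype ≤ D) ∧ (∀ D : Subgroup G, Cfsg.IsDefectGroup p M B D → IsMulCommutative ↥D → Cfsg.IsDefectGroup p M B (D₀.map H.subtype)) := by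
  classical
  have hfinG : Fintype G := Fintype.ofFinite G
  obtain ⟨h1, h2⟩ := Cfsg.Agent.Helper77.induced_nested hM H b hb D₀ hD₀ hC
  refine ⟨h1, fun B hB => ?_⟩
  obtain ⟨Δ, hΔ, hDΔ, hcen⟩ := h2 B hB
  refine ⟨⟨Δ, hΔ, ?_, Subgroup.map_mono (Subgroup.map_subtype_le _), hDΔ⟩, ?_⟩
  · rintro _ ⟨z, hz, rfl⟩
    have hzc : (z : G) ∈ Subgroup.centralizer ((D₀.map H.subtype : Subgroup G) : Set G) := by
      rw [Subgroup.mem_centralizer_iff]
      intro d hd
      have := Subgroup.mem_center_iff.mp hz ⟨d, hDΔ hd⟩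
      exact congrArg Subtype.val this
    obtain ⟨h, hh, hhz⟩ := hcen ⟨z.2, hzc⟩
    refine ⟨D₀.subtype ⟨h, hh⟩, ⟨⟨h, hh⟩, ?_, rfl⟩, hhz⟩
    show (⟨h, hh⟩ : ↥D₀) ∈ Subgroup.center ↥D₀
    rw [Subgroup.mem_center_iff]
    intro y
    apply Subtype.ext
    apply Subtype.ext
    have h3 := Subgroup.mem_centralizer_iff.mp hzc (((y : ↥H)) : G) ⟨(y : ↥H), y.2, rfl⟩
    show (((y : ↥H)) : G) * ((h : ↥H) : G) = ((h : ↥H) : G) * (((y : ↥H)) : G)
    have hhz' : ((h : ↥H) : G) = (z : G) := hhz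
    rw [hhz']
    exact h3
  · intro Δ' hΔ' hcomm
    obtain ⟨g, hg⟩ := Cfsg.Agent.Helper16.exists_conj_eq_of_isDefectGroup hM hB.2.1 hΔ' hΔ
    have hΔab : ∀ x ∈ Δ, ∀ y ∈ Δ, x * y = y * x := by
      intro x hx y hy
      rw [hg] at hx hy
      obtain ⟨x', hx', rfl⟩ := hx
      obtain ⟨y', hy', rfl⟩ := hy
      have h3 : (⟨x', hx'⟩ : ↥Δ') * ⟨y', hy'⟩ = ⟨y', hy'⟩ * ⟨x', hx'⟩ :=
        hcomm.is_comm.comm _ _
      have h4 : x' * y' = y' * x' := congrArg Subtype.val h3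
      rw [← map_mul, ← map_mul, h4]
    have hle : Δ ≤ D₀.map H.subtype := fun x hx =>
      hcen ⟨hx, Subgroup.mem_centralizer_iff.mpr (fun d hd => hΔab d (hDΔ hd) x hx)⟩
    have heq : D₀.map H.subtype = Δ := le_antisymm hDΔ hle
    rw [heq]
    exact hΔ

end Cfsg.Agent.S4726
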