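import Cfsg.Statements.S4727
import Cfsg.Agent.Helper78.PiPrimeKernel
import Cfsg.Agent.Helper16.BlockOrthogonality

set_option autoImplicit false
open Cfsg

namespace Cfsg.Agent.S4727

open Cfsg.Agent.Helper78 Cfsg.Agent in
/-- Let p be a prime, π a set of primes containing p, M a maximal ideal of the algebraic integers containing p, and B a p-block of the finite group G with defect group D; let B₁ be the block of N_G(D) with defect group D that induces B (the Brauer correspondent of B). Suppose every element of O_π'(N_G(D)), the largest normal subgroup of N_G(D) whose order has no prime divisor in π, lies in the kernel of every member of B₁. If y is a p-element whose centralizer C has a normal Hall π'-subgroup (every element of C whose order has no prime divisor in π lies in O_π'(C)), then χ(y x) = χ(y) for every χ ∈ B and every x ∈ C whose order has no prime divisor in π. -/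
theorem result {G : Type*} [Group G] [Finite G] (p : ℕ) [Fact p.Prime] (M : Ideal Cfsg.AlgInt) (hM : Cfsg.IsPModular p M) (π : Set ℕ) (hpπ : p ∈ π) (B : Set (Cfsg.IrrCharacter G)) (hB : Cfsg.IsPBlock M B) (D : Subgroup G) (hBD : Cfsg.IsDefectGroup p M B D) (B₁ : Set (Cfsg.IrrCharacter ↥(Subgroup.normalizer (D : Set G)))) (hB₁ : Cfsg.IsInducedBlock M (Subgroup.normalizer (D : Set G)) B₁ B) (hB₁D : Cfsg.IsDefectGroup p M B₁ (D.subgroupOf (Subgroup.normalizer (D : Set G)))) (hker : ∀ n : ↥(Subgroup.normalizer (D : Set G)), n ∈ Cfsg.piCore {q | q ∉ π} ↥(Subgroup.normalizer (D : Set G)) → n ∈ Cfsg.blockKer B₁) (y : G) (hy : ∃ k : ℕ, orderOf y = p ^ k) (hC : ∀ x : ↥(Subgroup.centralizer ({y} : Set G)), (∀ q : ℕ, q.Prime → q ∣ orderOf x → q ∉ π) → x ∈ Cfsg.piCore {q | q ∉ π} ↥(Subgroup.centralizer ({y} : Set G))) : ∀ χ ∈ B, ∀ x : G, x ∈ Subgroup.centralizer ({y} : Set G) → (∀ q : ℕ, q.Prime → q ∣ orderOf x → q ∉ π) → (χ : G → ℂ) (y * x) = (χ : G → ℂ) y := by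
  classical
  haveI : Fintype G := Fintype.ofFinite G
  haveI hMp : M.IsPrime := isPrime_of_isPModular hM
  haveI : Fintype (Subgroup.centralizer ({y} : Set G)) := Fintype.ofFinite _
  have hyp : ∀ (D' : Subgroup G) (B₁' : Set (IrrCharacter ↥(Subgroup.normalizer (D' : Set G)))),
      IsDefectGroup p M B D' → IsInducedBlock M (Subgroup.normalizer (D' : Set G)) B₁' B →
      PiKer π (Subgroup.normalizer (D' : Set G)) B₁' := fun D' B₁' hD' hB₁' =>
    piKer_conj hM π hB hBD hD' hB₁ hB₁D hB₁' hker
  intro χ hχ x hxC hxπ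
  have hBχ : B = blockOf M (χ : G → ℂ) := isPBlock_eq_blockOf_of_mem hMp hB hχ
  have hp : p.Prime := Fact.out
  set x' : ↥(Subgroup.centralizer ({y} : Set G)) := ⟨x, hxC⟩ with hx'
  have hord : orderOf x' = orderOf x := Subgroup.orderOf_mk x hxC
  have hx'p : ¬ p ∣ orderOf x' := by
    rw [hord]
    intro h
    exact hxπ p hp h hpπ
  have hx'core : x' ∈ piCore {q | q ∉ π} ↥(Subgroup.centralizer ({y} : Set G)) :=
    hC x' (by rw [hord]; exact hxπ)
  have h1p : ¬ p ∣ orderOf (1 : ↥(Subgroup.centralizer ({y} : Set G))) := by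
    rw [orderOf_one]
    exact hp.one_lt.ne' ∘ Nat.dvd_one.mp
  have hyC : y ∈ Subgroup.centralizer ({y} : Set G) := by
    rw [Subgroup.mem_centralizer_singleton_iff]
  have key : ∀ b ∈ Helper77.blocksFinset M ↥(Subgroup.centralizer ({y} : Set G)),
      Helper16.shiftPart y b (χ : G → ℂ) x' = Helper16.shiftPart y b (χ : G → ℂ) 1 := by
    intro b hb
    have hbB : IsPBlock M b := Helper77.mem_blocksFinset.mp hb
    by_cases hind : IsInducedBlock M (Subgroup.centralizer ({y} : Set G)) b B
    · obtain ⟨D₀, hD₀⟩ := exists_isDefectGroup hM hbB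
      -- `⟨y⟩` is a normal `p`-subgroup of `C`, hence inside `D₀`
      set Q : Subgroup ↥(Subgroup.centralizer ({y} : Set G)) :=
        Subgroup.zpowers (⟨y, hyC⟩ : ↥(Subgroup.centralizer ({y} : Set G))) with hQ
      have hQc : ∀ c : ↥(Subgroup.centralizer ({y} : Set G)),
          c * ⟨y, hyC⟩ = ⟨y, hyC⟩ * c := by
        intro c
        apply Subtype.ext
        exact (Subgroup.mem_centralizer_singleton_iff.mp c.2)
      haveI hQn : Q.Normal := by
        constructor
        intro q hq c
        obtain ⟨n, rfl⟩ := Subgroup.mem_zpowers_iff.mp hq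
        have hcomm : Commute c ((⟨y, hyC⟩ : ↥(Subgroup.centralizer ({y} : Set G))) ^ n) :=
          Commute.zpow_right (hQc c) n
        rw [hcomm.eq, mul_inv_cancel_right]
        exact Subgroup.zpow_mem_zpowers _ n
      have hQp : IsPGroup p Q := by
        obtain ⟨k, hk⟩ := hy
        apply IsPGroup.of_card (n := k)
        rw [hQ, Nat.card_zpowers, Subgroup.orderOf_mk, hk]
      have hQD : Q ≤ D₀ := normal_pGroup_le_defectGroup hM Q hQp hbB hD₀
      have hCD : Subgroup.centralizer ((D₀.map (Subgroup.centralizer ({y} : Set G)).subtype :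
          Subgroup G) : Set G) ≤ Subgroup.centralizer ({y} : Set G) := by
        apply Subgroup.centralizer_le
        intro t ht
        rw [Set.mem_singleton_iff] at ht
        rw [ht]
        exact Subgroup.mem_map.mpr ⟨⟨y, hyC⟩, hQD (Subgroup.mem_zpowers _), rfl⟩
      have hk : x' ∈ blockKer b :=
        piKer_descent hM hpπ hB hyp _ b hind D₀ hD₀ hCD x' hx'core
      have e1 : ∀ z : ↥(Subgroup.centralizer ({y} : Set G)),
          Helper16.shiftPart y b (χ : G → ℂ) z =
            blockPart b (fun c : ↥(Subgroup.centralizer ({y} : Set G)) =>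
              (χ : G → ℂ) (y * (c : G))) z := by
        intro z
        rw [Helper16.shiftPart_def,
          Helper16.blockPart_eq_sum_blockCoeff_mul b (Helper16.isClassFunction_shift χ y) z]
      rw [e1, e1]
      unfold blockPart
      refine finsum_mem_congr rfl (fun ψ hψ => ?_)
      rw [hk ψ hψ]
    · rw [hBχ] at hind
      rw [Helper16.shiftPart_irr_eq_zero hM y hy χ b hbB hind x' hx'p,
        Helper16.shiftPart_irr_eq_zero hM y hy χ b hbB hind 1 h1p]
  have h1 := Helper16.sum_shiftPart (M := M) y (χ : G → ℂ) x'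
  have h2 := Helper16.sum_shiftPart (M := M) y (χ : G → ℂ)
    (1 : ↥(Subgroup.centralizer ({y} : Set G)))
  rw [Finset.sum_congr rfl key] at h1
  rw [h1] at h2
  rw [Subgroup.coe_one, mul_one] at h2
  exact h2

end Cfsg.Agent.S4727
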