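import Cfsg.Statements.S4728
import Cfsg.Agent.Helper78.PiPrimeAscent

set_option autoImplicit false
open Cfsg

namespace Cfsg.Agent.S4728

open Cfsg.Agent.Helper78 Cfsg.Agent in
/-- Let p be a prime, π a set of primes containing p, M a maximal ideal of the algebraic integers containing p, B a p-block of the finite group G with defect group D, and B₁ the block of N_G(D) with defect group D inducing B. Let D₀ be a p-subgroup, H₀ = D₀·C_G(D₀), and b a block of H₀ inducing B. Write O_π'(X) for the largest normal subgroup of X whose order has no prime divisor in π. Suppose that O_π'(C_G(D₀)) is a normal Hall π'-subgroup of C_G(D₀) (it contains every element of C_G(D₀) whose order has no prime divisor in π) and that every element of it lies in the kernel of every member of b. Then every element of O_π'(N_G(D)) lies in the kernel of every member of B₁. -/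
theorem result {G : Type*} [Group G] [Finite G] (p : ℕ) [Fact p.Prime] (M : Ideal Cfsg.AlgInt) (hM : Cfsg.IsPModular p M) (π : Set ℕ) (hpπ : p ∈ π) (B : Set (Cfsg.IrrCharacter G)) (hB : Cfsg.IsPBlock M B) (D : Subgroup G) (hBD : Cfsg.IsDefectGroup p M B D) (B₁ : Set (Cfsg.IrrCharacter ↥(Subgroup.normalizer (D : Set G)))) (hB₁ : Cfsg.IsInducedBlock M (Subgroup.normalizer (D : Set G)) B₁ B) (hB₁D : Cfsg.IsDefectGroup p M B₁ (D.subgroupOf (Subgroup.normalizer (D : Set G)))) (D₀ : Subgroup G) (hD₀ : IsPGroup p D₀) (H₀ : Subgroup G) (hH₀ : H₀ = D₀ ⊔ Subgroup.centralizer (D₀ : Set G)) (b : Set (Cfsg.IrrCharacter ↥H₀)) (hb : Cfsg.IsInducedBlock M H₀ b B) (hcompl : ∀ x : ↥(Subgroup.centralizer (D₀ : Set G)), (∀ q : ℕ, q.Prime → q ∣ orderOf x → q ∉ π) → x ∈ Cfsg.piCore {q | q ∉ π} ↥(Subgroup.centralizer (D₀ : Set G))) (hkerb : ∀ x : ↥(Subgroup.centralizer (D₀ : Set G)), x ∈ Cfsg.piCore {q | q ∉ π} ↥(Subgroup.centralizer (D₀ : Set G)) → ∀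 θ ∈ b, ∀ h : ↥H₀, (h : G) = (x : G) → (θ : ↥H₀ → ℂ) h = (θ : ↥H₀ → ℂ) 1) : ∀ n : ↥(Subgroup.normalizer (D : Set G)), n ∈ Cfsg.piCore {q | q ∉ π} ↥(Subgroup.normalizer (D : Set G)) → n ∈ Cfsg.blockKer B₁ := by
  have hcompl' : ∀ x ∈ Subgroup.centralizer (D₀ : Set G),
      (∀ q : ℕ, q.Prime → q ∣ orderOf x → q ∉ π) →
      x ∈ piCoreOf {q | q ∉ π} (Subgroup.centralizer (D₀ : Set G)) := by
    intro x hx hxπ
    have h1 := hcompl ⟨x, hx⟩ (by rw [Subgroup.orderOf_mk]; exact hxπ)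
    exact (mem_piCore_iff_coe_mem_piCoreOf _ _ _).mp h1
  have hkerb' : ∀ h : ↥H₀, (h : G) ∈ piCoreOf {q | q ∉ π} (Subgroup.centralizer (D₀ : Set G)) →
      h ∈ blockKer b := by
    intro h hh θ hθ
    obtain ⟨x, hx, hxh⟩ := Subgroup.mem_map.mp hh
    exact hkerb x hx θ hθ h hxh.symm
  obtain ⟨D', B₁', hD', hB₁', hB₁'D, hk⟩ :=
    piKer_ascent hM hpπ hB _ D₀ H₀ b hD₀ hH₀ hb hcompl' hkerb' rfl
  exact piKer_conj hM π hB hD' hBD hB₁' hB₁'D hB₁ hk

end Cfsg.Agent.S4728
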