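import Cfsg.Statements.S4729
-- import your own Cfsg.Agent.* helpers here
import Cfsg.Agent.Helper77.EigenCongr

set_option autoImplicit false
open Cfsg

namespace Cfsg.Agent.S4729

/-- Let p be a prime, M a maximal ideal of the algebraic integers containing p, G a finite perfect group and P a Sylow p-subgroup. If the principal p-block of G contains a faithful irreducible character of degree less than 2p, then the centralizer of P is a p-group. -/
theorem result {G : Type*} [Group G] [Finite G] (p : ℕ) [Fact p.Prime] (M : Ideal Cfsg.AlgInt) (hM : Cfsg.IsPModular p M) (hperf : commutator G = ⊤) (P : Sylow p G) (χ : Cfsg.IrrCharacter G) (hχ : χ ∈ Cfsg.principalBlock M G) (hfaith : ∀ g : G, (χ : G → ℂ) g = (χ : G → ℂ) 1 → g = 1) (hdeg : Cfsg.charDegree (χ : G → ℂ) < 2 * p) : IsPGroup p ↥(Subgroup.centralizer ((P : Subgroup G) : Set G)) := by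
  classical
  have hp : p.Prime := Fact.out
  have hMp : M.IsPrime := Helper78.isPrime_of_isPModular hM
  obtain ⟨n, ρ, hirr, hρχ⟩ := χ.2
  -- every `p`-regular element of `C_G(P)` is trivial
  have key : ∀ k : G, k ∈ Subgroup.centralizer ((P : Subgroup G) : Set G) →
      (orderOf k).Coprime p → k = 1 := by
    intro k hk hcop
    apply hfaith
    have hfin : IsOfFinOrder k := isOfFinOrder_of_finite k
    obtain ⟨b, μ, hμ, hb⟩ := Helper3.exists_eigenbasis_rep ρ k hfin
    have hchar : ∀ j : ℕ, (χ : G → ℂ) (k ^ j) = ∑ i, μ i ^ j := by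
      intro j
      rw [← hρχ]
      exact Helper3.trace_eq_sum_of_eigenbasis b _ _
        (fun i => Helper3.rep_pow_apply_eigen ρ k _ _ (hb i) j)
    have hone : (χ : G → ℂ) 1 = (Module.finrank ℂ (Fin n → ℂ) : ℂ) := by
      rw [← hρχ]; exact Representation.char_one ρ
    have hdet : ∏ i, μ i = 1 := by
      rw [← Helper77.det_eq_prod_of_eigenbasis b (ρ k) μ hb]
      exact Helper77.det_rep_eq_one_of_perfect hperf ρ k
    have hN : Module.finrank ℂ (Fin n → ℂ) < 2 * p := by
      have : Cfsg.charDegree (χ : G → ℂ) = Module.finrank ℂ (Fin n → ℂ) := by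
        unfold Cfsg.charDegree
        rw [hone]
        simp
      rw [← this]; exact hdeg
    have hJ : ∀ j : ℕ, Cfsg.MemLocalIdeal M
        (1 - (∑ i, μ i ^ j) / ((Module.finrank ℂ (Fin n → ℂ) : ℕ) : ℂ)) := by
      intro j
      rw [← hchar j, ← hone]
      -- the class of `k ^ j` has size prime to `p`
      have hPle : (P : Subgroup G) ≤ Subgroup.centralizer ({k ^ j} : Set G) := by
        intro x hx
        rw [Subgroup.mem_centralizer_iff]
        intro h hh
        rw [Set.mem_singleton_iff] at hh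
        subst hh
        have hxk : x * k = k * x := (Subgroup.mem_centralizer_iff.mp hk) x hx
        have hc : Commute x k := hxk
        exact ((hc.pow_right j).eq).symm
      have hdvd : (Subgroup.centralizer ({k ^ j} : Set G)).index ∣ (P : Subgroup G).index :=
        Subgroup.index_dvd_of_le hPle
      have hnd : ¬ p ∣ (Subgroup.centralizer ({k ^ j} : Set G)).index :=
        fun h => P.not_dvd_index (dvd_trans h hdvd)
      have hcopu : Nat.Coprime (Subgroup.centralizer ({k ^ j} : Set G)).index p :=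
        ((Nat.Prime.coprime_iff_not_dvd hp).2 hnd).symm
      have hu0 : ((Subgroup.centralizer ({k ^ j} : Set G)).index : ℂ) ≠ 0 := by
        have : (Subgroup.centralizer ({k ^ j} : Set G)).index ≠ 0 := Subgroup.index_ne_zero_of_finite
        exact_mod_cast this
      have hblock : Cfsg.MemLocalIdeal M
          (Cfsg.centralChar (fun _ : G => (1 : ℂ)) (k ^ j) - Cfsg.centralChar (χ : G → ℂ) (k ^ j)) :=
        hχ (k ^ j)
      have h2 := Helper78.memLocalIdeal_mul_left hMp (Helper78.memLocalRing_inv_natCast hM hcopu) hblock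
      have h3 : ((Subgroup.centralizer ({k ^ j} : Set G)).index : ℂ)⁻¹ *
          (Cfsg.centralChar (fun _ : G => (1 : ℂ)) (k ^ j) - Cfsg.centralChar (χ : G → ℂ) (k ^ j)) =
          1 - (χ : G → ℂ) (k ^ j) / (χ : G → ℂ) 1 := by
        unfold Cfsg.centralChar
        rw [mul_sub, mul_one, div_one, inv_mul_cancel₀ hu0, mul_div_assoc, ← mul_assoc,
          inv_mul_cancel₀ hu0, one_mul]
      rwa [h3] at h2
    have hall := Helper77.all_eq_one_of_congr hM hN hcop (orderOf_pos k) μ hμ hJ hdet
    have h1 := hchar 1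
    rw [pow_one] at h1
    rw [h1, hone]
    simp [hall]
  -- conclude
  intro g
  have hord : orderOf g ≠ 0 := (orderOf_pos g).ne'
  obtain ⟨a, c, hc, hac⟩ := Nat.exists_eq_pow_mul_and_not_dvd hord p hp.ne_one
  refine ⟨a, ?_⟩
  have hk : ((g : G) ^ p ^ a) ∈ Subgroup.centralizer ((P : Subgroup G) : Set G) :=
    Subgroup.pow_mem _ g.2 _
  have hkc : ((g : G) ^ p ^ a) ^ c = 1 := by
    rw [← pow_mul, ← hac, ← Subgroup.coe_pow, pow_orderOf_eq_one]; rfl
  have hdvd : orderOf ((g : G) ^ p ^ a) ∣ c := orderOf_dvd_of_pow_eq_one hkc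
  have hcop : (orderOf ((g : G) ^ p ^ a)).Coprime p :=
    ((Nat.Prime.coprime_iff_not_dvd hp).2 (fun h => hc (dvd_trans h hdvd))).symm
  have := key _ hk hcop
  apply Subtype.ext
  rw [Subgroup.coe_pow]
  exact this

end Cfsg.Agent.S4729
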