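import Cfsg.Statements.S4730
import Cfsg.Agent.Helper78.BlockBasic

set_option autoImplicit false
open Cfsg

namespace Cfsg.Agent.S4730

open Cfsg.Agent.Helper78

/-- Let p be a prime, M a maximal ideal of the algebraic integers containing p, and G a finite group with trivial centre, Sylow p-subgroup P of order p^a and centre Z(P) of order p^b. If χ is a faithful irreducible character of G whose degree is a power of p, then the p-block of χ has defect at most a − b; in particular, if P is abelian then χ lies in a block of defect zero. -/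
theorem result {G : Type*} [Group G] [Finite G] (p : ℕ) [Fact p.Prime] (M : Ideal Cfsg.AlgInt) (hM : Cfsg.IsPModular p M) (hZ : Subgroup.center G = ⊥) (P : Sylow p G) (a b : ℕ) (ha : Nat.card P = p ^ a) (hb : Nat.card (Subgroup.center ↥(P : Subgroup G)) = p ^ b) (χ : Cfsg.IrrCharacter G) (hfaith : ∀ g : G, (χ : G → ℂ) g = (χ : G → ℂ) 1 → g = 1) (n : ℕ) (hdeg : Cfsg.charDegree (χ : G → ℂ) = p ^ n) : Cfsg.blockDefect p (Cfsg.blockOf M (χ : G → ℂ)) ≤ a - b ∧ (IsMulCommutative ↥(P : Subgroup G) → Cfsg.blockDefect p (Cfsg.blockOf M (χ : G → ℂ)) = 0) := by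
  have hp : p.Prime := Fact.out
  have hM' := isPrime_of_isPModular hM
  -- the centre of `P`, as a subgroup of `G`
  set A : Subgroup G := (Subgroup.center ↥(P : Subgroup G)).map (P : Subgroup G).subtype with hAdef
  have hAcard : Nat.card A = p ^ b := by
    rw [hAdef, Subgroup.card_map_of_injective (Subgroup.subtype_injective _), hb]
  -- class sizes of elements of `A` are prime to `p`
  have hcls : ∀ z ∈ A, ¬ p ∣ (Subgroup.centralizer ({z} : Set G)).index := by
    intro z hz hdvd
    obtain ⟨y, hy, rfl⟩ := hz
    have hle : (P : Subgroup G) ≤ Subgroup.centralizer ({((P : Subgroup G).subtype y)} : Set G) := by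
      intro x hx
      rw [Subgroup.mem_centralizer_iff]
      intro w hw
      rw [Set.mem_singleton_iff] at hw
      subst hw
      have := Subgroup.mem_center_iff.1 hy ⟨x, hx⟩
      have h2 := congrArg Subtype.val this
      simpa using h2.symm
    exact P.not_dvd_index (dvd_trans hdvd (Subgroup.index_dvd_of_le hle))
  -- `χ` vanishes on the non-identity elements of `A`
  have hvan : ∀ z ∈ A, z ≠ 1 → (χ : G → ℂ) z = 0 := by
    intro z hz hz1
    have hcop : Nat.Coprime (Subgroup.centralizer ({z} : Set G)).index
        (charDegree (χ : G → ℂ)) := by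
      rw [hdeg]
      exact Nat.Coprime.pow_right n
        ((Nat.Prime.coprime_iff_not_dvd hp).2 (hcls z hz)).symm
    rcases irrChar_eq_zero_or_central_of_coprime χ.2 z hcop with h | h
    · exact h
    · exfalso
      apply hz1
      have hzc : z ∈ Subgroup.center G := by
        rw [Subgroup.mem_center_iff]
        intro g
        have := hfaith _ (h g)
        -- z * g * z⁻¹ * g⁻¹ = 1
        have h3 : z * g = g * z := by
          have h4 : z * g * z⁻¹ * g⁻¹ * (g * z) = g * z := by rw [this, one_mul]
          rw [← h4]; group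
        exact h3.symm
      rw [hZ] at hzc
      exact Subgroup.mem_bot.1 hzc
  -- every member of the block has degree divisible by `p ^ b`
  have hdvd : ∀ ψ ∈ blockOf M (χ : G → ℂ), p ^ b ∣ charDegree (ψ : G → ℂ) := by
    intro ψ hψ
    exact pow_dvd_charDegree_of_sameBlock hM χ.2 ψ.2 hψ A hAcard
      (fun z hz _ => hcls z hz) hvan
  have hfact : (Nat.card G).factorization p = a := by
    have h1 := P.card_eq_multiplicity
    rw [ha] at h1
    exact (Nat.pow_right_injective hp.two_le h1).symm
  have hmain : blockDefect p (blockOf M (χ : G → ℂ)) ≤ a - b := by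
    have := blockDefect_le_of_pow_dvd hp ⟨χ, mem_blockOf_self hM' χ⟩ hdvd
    rwa [hfact] at this
  refine ⟨hmain, fun hcomm => ?_⟩
  have hab : a = b := by
    have h1 : Subgroup.center ↥(P : Subgroup G) = ⊤ := Subgroup.center_eq_top
    rw [h1, Subgroup.card_top, ha] at hb
    exact Nat.pow_right_injective hp.two_le hb
  rw [hab, Nat.sub_self] at hmain
  exact Nat.le_zero.1 hmain

end Cfsg.Agent.S4730
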