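import Cfsg.Statements.S4733
import Cfsg.Agent.Helper79.DefectZeroBlock

set_option autoImplicit false
open Cfsg

namespace Cfsg.Agent.S4733

open Cfsg.Agent.Helper79 in
/-- For a nonempty set `B`, defect zero means every member has full `p`-part in its degree. -/
theorem blockDefect_eq_zero_iff {G : Type*} [Group G] [Finite G] (p : ℕ) [Fact p.Prime]
    (B : Set (Cfsg.IrrCharacter G)) (hne : B.Nonempty) :
    Cfsg.blockDefect p B = 0 ↔
      ∀ χ ∈ B, (Cfsg.charDegree (χ : G → ℂ)).factorization p = (Nat.card G).factorization p := by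
  have hp : p.Prime := Fact.out
  unfold Cfsg.blockDefect
  set S := (fun χ : IrrCharacter G => (charDegree (χ : G → ℂ)).factorization p) '' B with hS
  have hSne : S.Nonempty := hne.image _
  have hle : ∀ χ : IrrCharacter G,
      (charDegree (χ : G → ℂ)).factorization p ≤ (Nat.card G).factorization p := by
    intro χ
    have hdvd := Helper80.IsIrrCharacter.charDegree_dvd_card χ.2
    exact (Nat.factorization_le_iff_dvd (irr_charDegree_pos χ).ne' Nat.card_pos.ne').2 hdvd p
  rw [Nat.sub_eq_zero_iff_le]
  constructor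
  · intro h χ hχ
    have h1 : sInf S ≤ (charDegree (χ : G → ℂ)).factorization p := Nat.sInf_le ⟨χ, hχ, rfl⟩
    exact le_antisymm (hle χ) (h.trans h1)
  · intro h
    obtain ⟨χ, hχ, hχe⟩ := Nat.sInf_mem hSne
    rw [← hχe]
    exact (h χ hχ).ge

open Cfsg.Agent.Helper79 in
/-- Let p be a prime, M a maximal ideal of the algebraic integers containing p, and B a p-block of the finite group G with k irreducible characters and p-regular rank l (the number of irreducible Brauer characters). Then l ≤ k, and the following are equivalent: B has defect 0; k = l = 1; k = l. -/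
theorem result {G : Type*} [Group G] [Finite G] (p : ℕ) [Fact p.Prime] (M : Ideal Cfsg.AlgInt) (hM : Cfsg.IsPModular p M) (B : Set (Cfsg.IrrCharacter G)) (hB : Cfsg.IsPBlock M B) : Cfsg.blockRank p B ≤ Nat.card B ∧ (Cfsg.blockDefect p B = 0 ↔ (Nat.card B = 1 ∧ Cfsg.blockRank p B = 1)) ∧ (Cfsg.blockDefect p B = 0 ↔ Nat.card B = Cfsg.blockRank p B) := by
  classical
  have hp : p.Prime := Fact.out
  have := Fintype.ofFinite G
  have hMp : M.IsPrime := Helper16.IsPModular.isPrime hM
  obtain ⟨χ0, hχ0⟩ := hB
  have hχ0B : χ0 ∈ B := by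
    rw [hχ0]
    exact Helper16.sameBlock_refl _
  have hne : B.Nonempty := ⟨χ0, hχ0B⟩
  have hB' : Cfsg.IsPBlock M B := ⟨χ0, hχ0⟩
  -- defect zero implies `k = l = 1`
  have h1 : Cfsg.blockDefect p B = 0 → (Nat.card B = 1 ∧ Cfsg.blockRank p B = 1) := by
    intro hdef
    have hd0 := (blockDefect_eq_zero_iff p B hne).1 hdef χ0 hχ0B
    have hsing : B = {χ0} := by
      rw [hχ0]
      exact blockOf_eq_singleton_of_defect_zero hM χ0 hd0
    constructor
    · rw [hsing]
      simp
    · rw [hsing]
      unfold Cfsg.blockRank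
      rw [Set.image_singleton]
      apply finrank_span_singleton
      intro h0
      have := congrFun h0 1
      rw [Helper77.pRegularPart_of_reg (by rw [orderOf_one]; exact hp.not_dvd_one)] at this
      exact irr_one_ne_zero χ0 this
  -- `k = l` implies defect zero
  have h2 : Nat.card B = Cfsg.blockRank p B → Cfsg.blockDefect p B = 0 := by
    intro hkl
    rw [blockDefect_eq_zero_iff p B hne]
    intro χ hχ
    have hvan := vanishes_of_card_eq_blockRank hM hB' hkl χ hχ
    have hle := factorization_le_of_vanishes p (irr_isCharacter χ) (irr_charDegree_pos χ).ne' hvan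
    have hdvd := Helper80.IsIrrCharacter.charDegree_dvd_card χ.2
    have hge := (Nat.factorization_le_iff_dvd (irr_charDegree_pos χ).ne' Nat.card_pos.ne').2 hdvd p
    exact le_antisymm hge hle
  refine ⟨blockRank_le_card p B, ⟨h1, ?_⟩, ⟨?_, h2⟩⟩
  · rintro ⟨hk, hl⟩
    exact h2 (hk.trans hl.symm)
  · intro hdef
    obtain ⟨hk, hl⟩ := h1 hdef
    exact hk.trans hl.symm

end Cfsg.Agent.S4733
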