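import Cfsg.Statements.S4735
import Cfsg.Agent.Helper79.PrincipalQuot
import Cfsg.Agent.Lib.Cores

set_option autoImplicit false
open Cfsg

namespace Cfsg.Agent.S4735

open Cfsg.Agent.Helper79
open scoped ComplexConjugate

section
variable {G : Type*} [Group G] [Finite G]

/-- Column orthogonality in real form. -/
theorem sum_normSq_eq_card_centralizer [Fintype (IrrCharacter G)] (y : G) :
    ∑ ψ : IrrCharacter G, Complex.normSq ((ψ : G → ℂ) y) =
      (Nat.card (Subgroup.centralizer ({y} : Set G)) : ℝ) := by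
  classical
  have := Fintype.ofFinite G
  have h := column_orthogonality (G := G) y y
  rw [if_pos (IsConj.refl y)] at h
  have h1 : ((∑ ψ : IrrCharacter G, Complex.normSq ((ψ : G → ℂ) y) : ℝ) : ℂ) =
      ((Nat.card (Subgroup.centralizer ({y} : Set G)) : ℝ) : ℂ) := by
    push_cast
    rw [← h]
    refine Finset.sum_congr rfl fun ψ _ => ?_
    rw [Complex.mul_conj]
  exact_mod_cast h1

theorem finsum_mem_le_sum_normSq [Fintype (IrrCharacter G)] (B : Set (IrrCharacter G)) (y : G) :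
    ∑ᶠ ψ ∈ B, Complex.normSq ((ψ : G → ℂ) y) ≤
      ∑ ψ : IrrCharacter G, Complex.normSq ((ψ : G → ℂ) y) := by
  rw [finsum_mem_eq_finite_toFinset_sum _ (Set.toFinite B)]
  exact Finset.sum_le_sum_of_subset_of_nonneg (Finset.subset_univ _)
    (fun ψ _ _ => Complex.normSq_nonneg _)

/-- The sum of squares of degrees over a set of irreducible characters equals the group order iff
the set is everything. -/
theorem finsum_charDegree_sq_eq_card_iff (B : Set (IrrCharacter G)) :
    (∑ᶠ ψ ∈ B, charDegree (ψ : G → ℂ) ^ 2) = Nat.card G ↔ B = Set.univ := by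
  classical
  have := Fintype.ofFinite G
  have hfin : Finite (IrrCharacter G) := irr_finite'
  have := Fintype.ofFinite (IrrCharacter G)
  rw [finsum_mem_eq_finite_toFinset_sum _ (Set.toFinite B), ← sum_charDegree_sq (G := G)]
  constructor
  · intro h
    by_contra hne
    obtain ⟨ψ, hψ⟩ := (Set.ne_univ_iff_exists_notMem B).1 hne
    have hlt := Finset.sum_lt_sum_of_subset (f := fun ψ : IrrCharacter G =>
      charDegree (ψ : G → ℂ) ^ 2) (Finset.subset_univ (Set.toFinite B).toFinset)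
      (Finset.mem_univ ψ) (by rwa [Set.Finite.mem_toFinset])
      (pow_pos (irr_charDegree_pos ψ) 2) (fun j _ _ => Nat.zero_le _)
    omega
  · intro h
    refine Finset.sum_congr ?_ fun _ _ => rfl
    ext ψ
    simp [h]

end

/-- Let p be a prime, M a maximal ideal of the algebraic integers containing p, G a finite group, H = O_p'(G) and Ḡ = G/H. For x ∈ G write λ(G, x) for the sum of |χ(x)|^2 over the irreducible characters χ in the principal p-block of G. Then λ(G, x) is a positive integer, λ(G, x) = λ(Ḡ, x̄) where x̄ is the image of x, and λ(G, x) ≤ #C_Ḡ(x̄). Moreover λ(G, 1) = [G : H] if and only if the principal block is the only p-block of Ḡ. -/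
theorem result {G : Type*} [Group G] [Finite G] (p : ℕ) [Fact p.Prime] (M : Ideal Cfsg.AlgInt) (hM : Cfsg.IsPModular p M) (x : G) : (∃ n : ℕ, 0 < n ∧ ∑ᶠ χ ∈ Cfsg.principalBlock M G, Complex.normSq ((χ : G → ℂ) x) = n) ∧ ∑ᶠ χ ∈ Cfsg.principalBlock M G, Complex.normSq ((χ : G → ℂ) x) = ∑ᶠ ψ ∈ Cfsg.principalBlock M (G ⧸ Cfsg.pPrimeCore p G), Complex.normSq ((ψ : G ⧸ Cfsg.pPrimeCore p G → ℂ) (QuotientGroup.mk x)) ∧ ∑ᶠ χ ∈ Cfsg.principalBlock M G, Complex.normSq ((χ : G → ℂ) x) ≤ (Nat.card ↥(Subgroup.centralizer ({(QuotientGroup.mk x : G ⧸ Cfsg.pPrimeCore p G)} : Set (G ⧸ Cfsg.pPrimeCore p G))) : ℝ) ∧ ((∑ᶠ χ ∈ Cfsg.principalBlock M G, Cfsg.charDegree (χ : G → ℂ) ^ 2) = (Cfsg.pPrimeCore p G).index ↔ ∀ B : Set (Cfsg.IrrCharacter (G ⧸ Cfsg.pPrimeCore p G)), Cfsg.IsPBlock M B → B = Cfsg.principalBlock M (G ⧸ Cfsg.pPrimeCore p G)) := by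
  classical
  have hMp := Helper77.isPrime_of_isPModular hM
  set K := Cfsg.pPrimeCore p G with hKdef
  have hK : (Nat.card K).Coprime p := Cfsg.Agent.Lib.card_pPrimeCore_coprime p
  have hfin : Finite (IrrCharacter (G ⧸ K)) := irr_finite'
  have := Fintype.ofFinite (IrrCharacter (G ⧸ K))
  have := Fintype.ofFinite (G ⧸ K)
  have h2 : ∑ᶠ χ ∈ Cfsg.principalBlock M G, Complex.normSq ((χ : G → ℂ) x) =
      ∑ᶠ ψ ∈ Cfsg.principalBlock M (G ⧸ K),
        Complex.normSq ((ψ : G ⧸ K → ℂ) (QuotientGroup.mk x)) :=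
    finsum_principalBlock_quotient hM K hK (fun χ => Complex.normSq ((χ : G → ℂ) x))
  refine ⟨principalBlock_normSq_sum_nat hM x, h2, ?_, ?_⟩
  · rw [h2, ← sum_normSq_eq_card_centralizer]
    exact finsum_mem_le_sum_normSq _ _
  · have h4 : (∑ᶠ χ ∈ Cfsg.principalBlock M G, Cfsg.charDegree (χ : G → ℂ) ^ 2) =
        ∑ᶠ ψ ∈ Cfsg.principalBlock M (G ⧸ K), Cfsg.charDegree (ψ : G ⧸ K → ℂ) ^ 2 := by
      rw [finsum_principalBlock_quotient hM K hK (fun χ => Cfsg.charDegree (χ : G → ℂ) ^ 2)]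
      refine finsum_congr fun ψ => ?_
      refine finsum_congr fun _ => ?_
      congr 1
    have hidx : K.index = Nat.card (G ⧸ K) := rfl
    rw [h4, hidx, finsum_charDegree_sq_eq_card_iff]
    constructor
    · intro huniv B hB
      obtain ⟨ψ, rfl⟩ := hB
      have hψ : ψ ∈ Cfsg.principalBlock M (G ⧸ K) := by rw [huniv]; trivial
      ext ψ'
      constructor
      · intro h
        exact Helper16.sameBlock_trans hψ h
      · intro h
        exact Helper16.sameBlock_trans (Helper16.sameBlock_symm hψ) h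
    · intro hall
      rw [Set.eq_univ_iff_forall]
      intro ψ
      have h1 := hall (blockOf M (ψ : G ⧸ K → ℂ)) ⟨ψ, rfl⟩
      rw [← h1]
      exact Helper16.sameBlock_refl _

end Cfsg.Agent.S4735
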