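import Cfsg.Statements.S4738
import Cfsg.Agent.Helper79.DefectZero
import Cfsg.Agent.Helper79.Linear

set_option autoImplicit false
open Cfsg

namespace Cfsg.Agent.S4738

open Cfsg.Agent.Helper79 in
/-- If `G` has no element of order `2p` (`p` odd) then the centralizer of every nonidentity
`p`-element has odd order. -/
theorem odd_centralizer_of_no_two_p {G : Type*} [Group G] [Finite G] (p : ℕ) [hp : Fact p.Prime]
    (hp2 : p ≠ 2) (h2p : ∀ g : G, orderOf g ≠ 2 * p) (g : G) (hg : g ≠ 1)
    (hk : ∃ k : ℕ, orderOf g = p ^ k) :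
    Odd (Nat.card ↥(Subgroup.centralizer ({g} : Set G))) := by
  by_contra hodd
  rw [Nat.not_odd_iff_even] at hodd
  obtain ⟨k, hk⟩ := hk
  obtain ⟨u, hu⟩ := exists_prime_orderOf_dvd_card' 2 (even_iff_two_dvd.1 hodd)
  have hk0 : k ≠ 0 := by
    rintro rfl
    rw [pow_zero, orderOf_eq_one_iff] at hk
    exact hg hk
  obtain ⟨j, rfl⟩ := Nat.exists_eq_succ_of_ne_zero hk0
  have hcomm : Commute (u : G) g := by
    have := u.2
    rw [Subgroup.mem_centralizer_iff] at this
    exact (this g rfl).symm
  have hord : orderOf (g ^ (p ^ j)) = p := by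
    rw [orderOf_pow' g (pow_ne_zero j hp.out.ne_zero), hk, Nat.gcd_eq_right (pow_dvd_pow p (Nat.le_succ j)),
      pow_succ, Nat.mul_div_cancel_left _ (pow_pos hp.out.pos j)]
  have hu2 : orderOf (u : G) = 2 := by rw [← hu, Subgroup.orderOf_coe]
  have hcop : Nat.Coprime (orderOf (u : G)) (orderOf (g ^ (p ^ j))) := by
    rw [hu2, hord]
    exact (Nat.coprime_primes Nat.prime_two hp.out).2 (Ne.symm hp2)
  have := (hcomm.pow_right (p ^ j)).orderOf_mul_eq_mul_orderOf_of_coprime hcop
  rw [hu2, hord] at this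
  exact h2p _ this

open Cfsg.Agent.Helper79 in
/-- Let p be an odd prime and G a finite group of even order containing no element of order 2p. Then either G has an irreducible character of p-defect zero (its degree has the same p-part as the order of G), or every Sylow p-subgroup of G is abelian and all involutions of G are conjugate. -/
theorem result {G : Type*} [Group G] [Finite G] (p : ℕ) [Fact p.Prime] (hp2 : p ≠ 2) (hG : Even (Nat.card G)) (h2p : ∀ g : G, orderOf g ≠ 2 * p) : (∃ χ : Cfsg.IrrCharacter G, (Cfsg.charDegree (χ : G → ℂ)).factorization p = (Nat.card G).factorization p) ∨ ((∀ P : Sylow p G, IsMulCommutative ↥(P : Subgroup G)) ∧ ∀ s t : G, orderOf s = 2 → orderOf t = 2 → IsConj s t) := by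
  have hp : p.Prime := Fact.out
  by_cases hdef : ∃ χ : Cfsg.IrrCharacter G,
      (Cfsg.charDegree (χ : G → ℂ)).factorization p = (Nat.card G).factorization p
  · exact Or.inl hdef
  by_cases hpG : p ∣ Nat.card G
  swap
  · -- `p ∤ |G|`: every irreducible character has `p`-defect zero
    exfalso
    apply hdef
    refine ⟨principalIrr G, ?_⟩
    have h1 : Cfsg.charDegree ((principalIrr G : IrrCharacter G) : G → ℂ) = 1 := by
      simp [principalIrr, Cfsg.charDegree]
    rw [h1, Nat.factorization_one, Finsupp.zero_apply]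
    exact (Nat.factorization_eq_zero_of_not_dvd hpG).symm
  right
  have hC := odd_centralizer_of_no_two_p p hp2 h2p
  have key : ∀ t : G, orderOf t = 2 → ∀ P : Sylow p G,
      ∃ h : G, ∀ v ∈ P, (h * t * h⁻¹) * v * (h * t * h⁻¹)⁻¹ = v⁻¹ := by
    intro t ht P
    obtain ⟨Q, hQ⟩ := involution_inverts_sylow p hpG hC hdef t ht
    obtain ⟨h, hh⟩ := MulAction.exists_smul_eq G Q P
    refine ⟨h, ?_⟩
    rw [← hh]
    exact inverts_smul_sylow Q t h hQ
  constructor
  · intro P
    obtain ⟨t, ht⟩ := exists_prime_orderOf_dvd_card' 2 (even_iff_two_dvd.1 hG)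
    obtain ⟨h, hinvP⟩ := key t ht P
    refine ⟨⟨fun a b => Subtype.ext ?_⟩⟩
    exact commute_of_inverts (K := (P : Subgroup G)) hinvP a a.2 b b.2
  · intro s t hs ht
    obtain P : Sylow p G := default
    obtain ⟨a, ha⟩ := key s hs P
    obtain ⟨b, hb⟩ := key t ht P
    have hss : s * s = 1 := by
      have := pow_orderOf_eq_one s
      rwa [hs, sq] at this
    have htt : t * t = 1 := by
      have := pow_orderOf_eq_one t
      rwa [ht, sq] at this
    -- a nonidentity element of `P`
    have hPne : (P : Subgroup G) ≠ ⊥ := by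
      intro hbot
      have hcard := P.card_eq_multiplicity
      rw [hbot, Subgroup.card_bot] at hcard
      have hpos : 0 < (Nat.card G).factorization p :=
        hp.factorization_pos_of_dvd Nat.card_pos.ne' hpG
      have : 1 < p ^ (Nat.card G).factorization p := Nat.one_lt_pow hpos.ne' hp.one_lt
      omega
    obtain ⟨⟨w, hwP⟩, hw1⟩ := (Subgroup.ne_bot_iff_exists_ne_one.1 hPne)
    have hw1' : w ≠ 1 := fun h => hw1 (Subtype.ext h)
    have hwp : ∃ k : ℕ, orderOf w = p ^ k := by
      obtain ⟨k, hk⟩ := (IsPGroup.iff_orderOf.1 P.isPGroup') ⟨w, hwP⟩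
      exact ⟨k, by rw [← hk, Subgroup.orderOf_mk]⟩
    have hodd := hC w hw1' hwp
    set s' := a * s * a⁻¹ with hs'
    set t' := b * t * b⁻¹ with ht'
    have hs's' : s' * s' = 1 := conj_mul_self_eq_one hss a
    have ht't' : t' * t' = 1 := conj_mul_self_eq_one htt b
    have hmem : s' * t' ∈ Subgroup.centralizer ({w} : Set G) := by
      rw [Subgroup.mem_centralizer_iff]
      intro x hx
      rw [Set.mem_singleton_iff] at hx
      subst hx
      have h1 := hb x hwP
      have h2 := ha x⁻¹ (Subgroup.inv_mem _ hwP)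
      rw [inv_inv] at h2
      have h3 : s' * t' * x * (s' * t')⁻¹ = x := by
        calc s' * t' * x * (s' * t')⁻¹ = s' * (t' * x * t'⁻¹) * s'⁻¹ := by group
          _ = x := by rw [h1, h2]
      calc x * (s' * t') = (s' * t' * x * (s' * t')⁻¹) * (s' * t') := by rw [h3]
        _ = s' * t' * x := by group
    have hord : Odd (orderOf (s' * t')) := by
      have h3 := orderOf_dvd_natCard (⟨s' * t', hmem⟩ : Subgroup.centralizer ({w} : Set G))
      rw [Subgroup.orderOf_mk] at h3
      exact Odd.of_dvd_nat hodd h3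
    have hconj : IsConj s' t' := isConj_of_odd_orderOf_mul hs's' ht't' hord
    have h1 : IsConj s s' := isConj_iff.2 ⟨a, rfl⟩
    have h2 : IsConj t t' := isConj_iff.2 ⟨b, rfl⟩
    exact (h1.trans hconj).trans h2.symm

end Cfsg.Agent.S4738
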