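import Cfsg.Statements.S4740
import Cfsg.Agent.Helper79.Counting
import Cfsg.Agent.Helper79.Linear

set_option autoImplicit false
open Cfsg

namespace Cfsg.Agent.S4740

open Cfsg.Agent.Helper79 in
/-- Let p be an odd prime, G a finite group of even order, x an involution of G and P a subgroup of G of order p ^ c such that no conjugate of x inverts a non-identity element of P. If p ^ a is the p-part of the order of C_G(x), then some irreducible character of G has degree divisible by p ^ (c - a). -/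
theorem result {G : Type*} [Group G] [Finite G] (p : ℕ) [Fact p.Prime] (hp2 : p ≠ 2) (hG : Even (Nat.card G)) (x : G) (hx : orderOf x = 2) (P : Subgroup G) (c : ℕ) (hP : Nat.card ↥P = p ^ c) (hinv : ∀ g : G, IsConj x g → ∀ z ∈ P, z ≠ 1 → g * z * g⁻¹ ≠ z⁻¹) (a : ℕ) (ha : (Nat.card ↥(Subgroup.centralizer ({x} : Set G))).factorization p = a) : ∃ χ : Cfsg.IrrCharacter G, p ^ (c - a) ∣ Cfsg.charDegree (χ : G → ℂ) := by
  classical
  have := Fintype.ofFinite G
  have := Fintype.ofFinite (IrrCharacter G)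
  have hp : p.Prime := Fact.out
  by_cases hca : c ≤ a
  · refine ⟨principalIrr G, ?_⟩
    rw [Nat.sub_eq_zero_of_le hca, pow_zero]
    exact one_dvd _
  push Not at hca
  by_contra hcon
  push Not at hcon
  have hxx : x * x = 1 := by
    have := pow_orderOf_eq_one x
    rwa [hx, sq] at this
  have hxinv : x⁻¹ = x := inv_eq_of_mul_eq_one_left hxx
  have hinvol : ∀ s : G, s * x * s⁻¹ * (s * x * s⁻¹) = 1 := by
    intro s
    have : s * x * s⁻¹ * (s * x * s⁻¹) = s * (x * x) * s⁻¹ := by group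
    rw [this, hxx]; group
  have key : ∀ g g' : G, g * g = 1 → g' * g' = 1 → g * (g * g') * g⁻¹ = (g * g')⁻¹ := by
    intro g g' hg hg'
    have h1 : g⁻¹ = g := inv_eq_of_mul_eq_one_left hg
    have h2 : g'⁻¹ = g' := inv_eq_of_mul_eq_one_left hg'
    rw [mul_inv_rev, h1, h2, ← mul_assoc, hg, one_mul]
  have hno : ∀ z ∈ P, z ≠ 1 → ∀ s t : G, s * x * s⁻¹ * (t * x * t⁻¹) ≠ z := by
    intro z hz hz1 s t hst
    refine hinv (s * x * s⁻¹) (isConj_iff.2 ⟨s, rfl⟩) z hz hz1 ?_
    rw [← hst]
    exact key _ _ (hinvol s) (hinvol t)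
  have hsum : ∑ χ : IrrCharacter G, (χ : G → ℂ) x * (χ : G → ℂ) x =
      ((Nat.card ↥(Subgroup.centralizer ({x} : Set G)) : ℕ) : ℂ) := by
    have := sum_irr_mul_inv (G := G) x
    rwa [hxinv] at this
  have hdvd := pow_dvd_of_no_products p P c hP x x hno (c - a) (by omega) (by omega) hcon _ hsum
  have hN : Nat.card ↥(Subgroup.centralizer ({x} : Set G)) ≠ 0 := Nat.card_pos.ne'
  rw [hp.pow_dvd_iff_le_factorization hN, ha] at hdvd
  omega

end Cfsg.Agent.S4740
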