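import Cfsg.Statements.S4742
import Cfsg.Agent.Helper79.Counting

set_option autoImplicit false
open Cfsg

namespace Cfsg.Agent.S4742

open Cfsg.Agent.Helper79 in
/-- Let p ≠ q be primes dividing the order of the finite group G, and suppose the centralizer of every non-identity p-element of G has order prime to q. Then either G has an irreducible character of p-defect zero, or for every non-identity q-element z of G there are conjugates g, h of z such that g h⁻¹ is a non-identity p-element. -/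
theorem result {G : Type*} [Group G] [Finite G] (p q : ℕ) [Fact p.Prime] [Fact q.Prime] (hppq : p ≠ q) (hpG : p ∣ Nat.card G) (hqG : q ∣ Nat.card G) (hC : ∀ g : G, g ≠ 1 → (∃ k : ℕ, orderOf g = p ^ k) → ¬ q ∣ Nat.card ↥(Subgroup.centralizer ({g} : Set G))) : (∃ χ : Cfsg.IrrCharacter G, (Cfsg.charDegree (χ : G → ℂ)).factorization p = (Nat.card G).factorization p) ∨ ∀ z : G, z ≠ 1 → (∃ k : ℕ, orderOf z = q ^ k) → ∃ g h : G, IsConj z g ∧ IsConj z h ∧ g * h⁻¹ ≠ 1 ∧ ∃ k : ℕ, orderOf (g * h⁻¹) = p ^ k := by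
  classical
  have := Fintype.ofFinite G
  have := Fintype.ofFinite (IrrCharacter G)
  have hp : p.Prime := Fact.out
  have hq : q.Prime := Fact.out
  have hGne : Nat.card G ≠ 0 := Nat.card_pos.ne'
  by_contra hcon
  push Not at hcon
  obtain ⟨hdef, z, hz1, ⟨kz, hkz⟩, hz⟩ := hcon
  -- a Sylow `p`-subgroup
  obtain P : Sylow p G := default
  set n := (Nat.card G).factorization p with hn
  have hPcard : Nat.card (P : Subgroup G) = p ^ n := P.card_eq_multiplicity
  have hn1 : 1 ≤ n := (hp.dvd_iff_one_le_factorization hGne).1 hpG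
  -- no non-identity element of `P` is `g * h⁻¹` with `g, h` conjugates of `z`
  have hno : ∀ w ∈ (P : Subgroup G), w ≠ 1 → ∀ s t : G, s * z * s⁻¹ * (t * z⁻¹ * t⁻¹) ≠ w := by
    intro w hw hw1 s t hst
    have e : t * z⁻¹ * t⁻¹ = (t * z * t⁻¹)⁻¹ := by group
    rw [e] at hst
    have h1 := hz (s * z * s⁻¹) (t * z * t⁻¹) (isConj_iff.2 ⟨s, rfl⟩) (isConj_iff.2 ⟨t, rfl⟩)
      (by rw [hst]; exact hw1)
    rw [hst] at h1
    obtain ⟨k, hk⟩ := (IsPGroup.iff_orderOf.1 P.isPGroup') ⟨w, hw⟩
    exact h1 k (by rw [← hk]; exact (Subgroup.orderOf_mk w hw).symm)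
  -- degrees: no irreducible character has degree divisible by `p ^ n`
  have hdeg : ∀ χ : IrrCharacter G, ¬ p ^ n ∣ charDegree (χ : G → ℂ) := by
    intro χ hdvd
    have hd := Cfsg.Agent.Helper80.IsIrrCharacter.charDegree_dvd_card χ.2
    have hd0 : charDegree (χ : G → ℂ) ≠ 0 := (irr_charDegree_pos χ).ne'
    have h1 : n ≤ (charDegree (χ : G → ℂ)).factorization p :=
      (hp.pow_dvd_iff_le_factorization hd0).1 hdvd
    have h2 : (charDegree (χ : G → ℂ)).factorization p ≤ n :=
      (Nat.factorization_le_iff_dvd hd0 hGne).2 hd p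
    exact hdef χ (le_antisymm h2 h1)
  have hsum := sum_irr_mul_inv (G := G) z
  have hdvd := pow_dvd_of_no_products p (P : Subgroup G) n hPcard z z⁻¹ hno n hn1 le_rfl hdeg _ hsum
  have hpC : p ∣ Nat.card ↥(Subgroup.centralizer ({z} : Set G)) := by
    have : p ^ (n - n + 1) = p := by simp
    rwa [this] at hdvd
  -- Cauchy: an element of order `p` centralizing `z`
  obtain ⟨w, hw⟩ := exists_prime_orderOf_dvd_card' p hpC
  have hw1 : (w : G) ≠ 1 := by
    intro h
    have : orderOf (w : G) = 1 := by rw [h, orderOf_one]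
    rw [Subgroup.orderOf_coe, hw] at this
    exact hp.one_lt.ne' this
  have hwp : ∃ k : ℕ, orderOf (w : G) = p ^ k := ⟨1, by rw [Subgroup.orderOf_coe, hw, pow_one]⟩
  refine hC (w : G) hw1 hwp ?_
  -- `z` lies in the centralizer of `w`, so `q` divides its order
  have hzw : z ∈ Subgroup.centralizer ({(w : G)} : Set G) := by
    rw [Subgroup.mem_centralizer_singleton_iff]
    have := w.2
    rw [Subgroup.mem_centralizer_singleton_iff] at this
    exact this.symm
  have hkz0 : kz ≠ 0 := by
    intro h0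
    rw [h0, pow_zero, orderOf_eq_one_iff] at hkz
    exact hz1 hkz
  have h1 : orderOf (⟨z, hzw⟩ : Subgroup.centralizer ({(w : G)} : Set G)) = q ^ kz := by
    rw [← hkz]; exact Subgroup.orderOf_mk z hzw
  have h2 := orderOf_dvd_natCard (⟨z, hzw⟩ : Subgroup.centralizer ({(w : G)} : Set G))
  rw [h1] at h2
  exact dvd_trans (dvd_pow_self q hkz0) h2

end Cfsg.Agent.S4742
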