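import Cfsg.Statements.S4743
import Cfsg.Agent.S4742

set_option autoImplicit false
open Cfsg

namespace Cfsg.Agent.S4743

section
variable {G : Type*} [Group G] [Finite G]

/-- The hypothesis "centralizers of non-identity `p`-elements are `q'`-groups" is symmetric. -/
theorem centralizer_symm (p q : ℕ) [hp : Fact p.Prime] [hq : Fact q.Prime]
    (hC : ∀ g : G, g ≠ 1 → (∃ k : ℕ, orderOf g = p ^ k) →
      ¬ q ∣ Nat.card ↥(Subgroup.centralizer ({g} : Set G))) :
    ∀ g : G, g ≠ 1 → (∃ k : ℕ, orderOf g = q ^ k) →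
      ¬ p ∣ Nat.card ↥(Subgroup.centralizer ({g} : Set G)) := by
  intro g hg1 ⟨k, hk⟩ hdvd
  obtain ⟨y, hy⟩ := exists_prime_orderOf_dvd_card' p hdvd
  have hy1 : (y : G) ≠ 1 := by
    intro h
    have : y = 1 := Subtype.ext h
    rw [this, orderOf_one] at hy
    exact hp.out.one_lt.ne hy
  have hyo : orderOf (y : G) = p := by rw [Subgroup.orderOf_coe]; exact hy
  refine hC (y : G) hy1 ⟨1, by rw [hyo, pow_one]⟩ ?_
  -- g centralizes y
  have hcomm : (y : G) * g = g * (y : G) := by
    have := y.2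
    rw [Subgroup.mem_centralizer_iff] at this
    exact (this g rfl).symm
  have hgmem : g ∈ Subgroup.centralizer ({(y : G)} : Set G) := by
    rw [Subgroup.mem_centralizer_iff]
    intro z hz
    rw [Set.mem_singleton_iff] at hz
    subst hz
    exact hcomm
  have hord : orderOf g ∣ Nat.card ↥(Subgroup.centralizer ({(y : G)} : Set G)) := by
    have := orderOf_dvd_natCard (⟨g, hgmem⟩ : ↥(Subgroup.centralizer ({(y : G)} : Set G)))
    rwa [Subgroup.orderOf_mk] at this
  have hk1 : 1 ≤ k := by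
    rcases Nat.eq_zero_or_pos k with h | h
    · rw [h, pow_zero, orderOf_eq_one_iff] at hk
      exact absurd hk hg1
    · exact h
  rw [hk] at hord
  exact (dvd_pow_self q (by omega)).trans hord

/-- A normal subgroup of order divisible by `q` but not by `p` forces a character of
`p`-defect zero. -/
theorem exists_defect_zero_of_normal (p q : ℕ) [hp : Fact p.Prime] [hq : Fact q.Prime]
    (hppq : p ≠ q) (hpG : p ∣ Nat.card G) (hqG : q ∣ Nat.card G)
    (hC : ∀ g : G, g ≠ 1 → (∃ k : ℕ, orderOf g = p ^ k) →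
      ¬ q ∣ Nat.card ↥(Subgroup.centralizer ({g} : Set G)))
    (L : Subgroup G) [hL : L.Normal] (hqL : q ∣ Nat.card L) (hpL : ¬ p ∣ Nat.card L) :
    ∃ χ : Cfsg.IrrCharacter G,
      (Cfsg.charDegree (χ : G → ℂ)).factorization p = (Nat.card G).factorization p := by
  rcases Cfsg.Agent.S4742.result p q hppq hpG hqG hC with h | h
  · exact h
  · exfalso
    obtain ⟨z, hz⟩ := exists_prime_orderOf_dvd_card' q hqL
    have hzo : orderOf (z : G) = q := by rw [Subgroup.orderOf_coe]; exact hz
    have hz1 : (z : G) ≠ 1 := by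
      intro h1
      rw [h1, orderOf_one] at hzo
      exact hq.out.one_lt.ne hzo
    obtain ⟨g, h', hg, hh, hne, k, hk⟩ := h (z : G) hz1 ⟨1, by rw [hzo, pow_one]⟩
    have hgL : g ∈ L := by
      rw [isConj_iff] at hg
      obtain ⟨c, rfl⟩ := hg
      exact hL.conj_mem _ z.2 c
    have hhL : h' ∈ L := by
      rw [isConj_iff] at hh
      obtain ⟨c, rfl⟩ := hh
      exact hL.conj_mem _ z.2 c
    have hmem : g * h'⁻¹ ∈ L := L.mul_mem hgL (L.inv_mem hhL)
    have hord : orderOf (g * h'⁻¹) ∣ Nat.card L := by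
      have := orderOf_dvd_natCard (⟨g * h'⁻¹, hmem⟩ : L)
      rwa [Subgroup.orderOf_mk] at this
    have hk1 : 1 ≤ k := by
      rcases Nat.eq_zero_or_pos k with h0 | h0
      · rw [h0, pow_zero, orderOf_eq_one_iff] at hk
        exact absurd hk hne
      · exact h0
    rw [hk] at hord
    exact hpL ((dvd_pow_self p (by omega)).trans hord)

/-- In a `p`-solvable group of order divisible by `p`, some normal subgroup has order divisible
by exactly one of `p`, `q`. -/
theorem exists_normal_of_isPSolvable (p q : ℕ) (hp : p.Prime) (hq : q.Prime) (hppq : p ≠ q)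
    (hpG : p ∣ Nat.card G) (hsolv : Cfsg.IsPSolvable p G) :
    ∃ L : Subgroup G, L.Normal ∧
      ((p ∣ Nat.card L ∧ ¬ q ∣ Nat.card L) ∨ (q ∣ Nat.card L ∧ ¬ p ∣ Nat.card L)) := by
  by_contra hcon
  push Not at hcon
  obtain ⟨n, H, h0, hlast, hmono, hnorm, hstep⟩ := hsolv
  have key : ∀ j : ℕ, ∀ hj : j < n + 1,
      ¬ p ∣ Nat.card (H ⟨j, hj⟩) ∧ ¬ q ∣ Nat.card (H ⟨j, hj⟩) := by
    intro j
    induction j with
    | zero =>
      intro hj
      have : H ⟨0, hj⟩ = ⊥ := h0
      rw [this, Subgroup.card_bot]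
      exact ⟨hp.one_lt.not_ge ∘ Nat.le_of_dvd one_pos, hq.one_lt.not_ge ∘ Nat.le_of_dvd one_pos⟩
    | succ j ih =>
      intro hj
      have hj' : j < n := by omega
      obtain ⟨ihp, ihq⟩ := ih (by omega)
      have hle : H ⟨j, by omega⟩ ≤ H ⟨j + 1, hj⟩ := hmono (by simp [Fin.le_def])
      have hcard : Nat.card (H ⟨j + 1, hj⟩) =
          (H ⟨j, by omega⟩).relIndex (H ⟨j + 1, hj⟩) * Nat.card (H ⟨j, by omega⟩) := by
        have h1 := Subgroup.relIndex_mul_relIndex ⊥ (H ⟨j, by omega⟩) (H ⟨j + 1, hj⟩) bot_le hle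
        rw [Subgroup.relIndex_bot_left, Subgroup.relIndex_bot_left] at h1
        rw [← h1, mul_comm]
      have hcs : H (Fin.castSucc ⟨j, hj'⟩) = H ⟨j, by omega⟩ := rfl
      have hsu : H (Fin.succ ⟨j, hj'⟩) = H ⟨j + 1, hj⟩ := rfl
      have hL := hcon (H ⟨j + 1, hj⟩) (hnorm _)
      rcases hstep ⟨j, hj'⟩ with ⟨m, hm⟩ | hcop
      · rw [hcs, hsu] at hm
        have hq' : ¬ q ∣ Nat.card (H ⟨j + 1, hj⟩) := by
          rw [hcard, hm]
          intro hd
          rcases (Nat.Prime.dvd_mul hq).1 hd with h | h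
          · exact hppq ((Nat.prime_dvd_prime_iff_eq hq hp).1 (hq.dvd_of_dvd_pow h)).symm
          · exact ihq h
        refine ⟨fun hpd => ?_, hq'⟩
        exact hq' (hL.1 hpd)
      · rw [hcs, hsu] at hcop
        have hp' : ¬ p ∣ Nat.card (H ⟨j + 1, hj⟩) := by
          rw [hcard]
          intro hd
          rcases (Nat.Prime.dvd_mul hp).1 hd with h | h
          · have := Nat.Coprime.eq_one_of_dvd hcop.symm h
            exact hp.one_lt.ne' this
          · exact ihp h
        refine ⟨hp', fun hqd => ?_⟩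
        exact hp' (hL.2 hqd)
  have := (key n (by omega)).1
  have hl : H ⟨n, by omega⟩ = ⊤ := hlast
  rw [hl, Subgroup.card_top] at this
  exact this hpG

end

/-- Let p ≠ q be primes dividing the order of the finite group G, suppose the centralizer of every non-identity p-element has order prime to q, and suppose G is p-solvable or q-solvable. Then G has an irreducible character of p-defect zero or an irreducible character of q-defect zero. -/
theorem result {G : Type*} [Group G] [Finite G] (p q : ℕ) [Fact p.Prime] [Fact q.Prime] (hppq : p ≠ q) (hpG : p ∣ Nat.card G) (hqG : q ∣ Nat.card G) (hC : ∀ g : G, g ≠ 1 → (∃ k : ℕ, orderOf g = p ^ k) → ¬ q ∣ Nat.card ↥(Subgroup.centralizer ({g} : Set G))) (hsolv : Cfsg.IsPSolvable p G ∨ Cfsg.IsPSolvable q G) : (∃ χ : Cfsg.IrrCharacter G, (Cfsg.charDegree (χ : G → ℂ)).factorization p = (Nat.card G).factorization p) ∨ (∃ χ : Cfsg.IrrCharacter G, (Cfsg.charDegree (χ : G → ℂ)).factorization q = (Nat.card G).factorization q) := by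
  have hp : p.Prime := Fact.out
  have hq : q.Prime := Fact.out
  have hC' := centralizer_symm p q hC
  have hex : ∃ L : Subgroup G, L.Normal ∧
      ((p ∣ Nat.card L ∧ ¬ q ∣ Nat.card L) ∨ (q ∣ Nat.card L ∧ ¬ p ∣ Nat.card L)) := by
    rcases hsolv with h | h
    · exact exists_normal_of_isPSolvable p q hp hq hppq hpG h
    · obtain ⟨L, hL, h1⟩ := exists_normal_of_isPSolvable q p hq hp hppq.symm hqG h
      exact ⟨L, hL, h1.symm⟩
  obtain ⟨L, hL, h1 | h1⟩ := hex
  · right
    exact exists_defect_zero_of_normal q p hppq.symm hqG hpG hC' L h1.1 h1.2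
  · left
    exact exists_defect_zero_of_normal p q hppq hpG hqG hC L h1.1 h1.2

end Cfsg.Agent.S4743
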