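import Cfsg.Statements.S4744
import Cfsg.Agent.Helper79.DefectZero

set_option autoImplicit false
open Cfsg

namespace Cfsg.Agent.S4744

open Cfsg.Agent.Helper79 in
/-- Let p be an odd prime and G a finite group of even order divisible by p in which the centralizer of every non-identity p-element has odd order. Then either G has an irreducible character of p-defect zero, or the normalizer of every Sylow p-subgroup P of G has even order and P is abelian. -/
theorem result {G : Type*} [Group G] [Finite G] (p : ℕ) [Fact p.Prime] (hp2 : p ≠ 2) (hpG : p ∣ Nat.card G) (h2G : 2 ∣ Nat.card G) (hC : ∀ g : G, g ≠ 1 → (∃ k : ℕ, orderOf g = p ^ k) → Odd (Nat.card ↥(Subgroup.centralizer ({g} : Set G)))) : (∃ χ : Cfsg.IrrCharacter G, (Cfsg.charDegree (χ : G → ℂ)).factorization p = (Nat.card G).factorization p) ∨ ∀ P : Sylow p G, Even (Nat.card ↥(Subgroup.normalizer ((P : Subgroup G) : Set G))) ∧ IsMulCommutative ↥(P : Subgroup G) := by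
  by_cases hdef : ∃ χ : Cfsg.IrrCharacter G,
      (Cfsg.charDegree (χ : G → ℂ)).factorization p = (Nat.card G).factorization p
  · exact Or.inl hdef
  right
  intro P
  obtain ⟨t, ht⟩ := exists_prime_orderOf_dvd_card' 2 h2G
  obtain ⟨Q, hQ⟩ := involution_inverts_sylow p hpG hC hdef t ht
  obtain ⟨h, hh⟩ := MulAction.exists_smul_eq G Q P
  have hinvP : ∀ v ∈ P, (h * t * h⁻¹) * v * (h * t * h⁻¹)⁻¹ = v⁻¹ := by
    rw [← hh]
    exact inverts_smul_sylow Q t h hQ
  constructor
  · -- `h t h⁻¹` is an element of order 2 in the normalizer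
    have hmem : h * t * h⁻¹ ∈ Subgroup.normalizer ((P : Subgroup G) : Set G) := by
      rw [Subgroup.mem_normalizer_iff]
      intro v
      constructor
      · intro hv
        have := hinvP v hv
        rw [this]
        exact Subgroup.inv_mem _ hv
      · intro hv
        have h1 := hinvP _ hv
        have h2 : (h * t * h⁻¹) * ((h * t * h⁻¹) * v * (h * t * h⁻¹)⁻¹) * (h * t * h⁻¹)⁻¹
            = (h * (t * t) * h⁻¹) * v * (h * (t * t) * h⁻¹)⁻¹ := by group
        have htt : t * t = 1 := by
          have := pow_orderOf_eq_one t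
          rwa [ht, sq] at this
        rw [htt] at h2
        have h3 : h * 1 * h⁻¹ * v * (h * 1 * h⁻¹)⁻¹ = v := by group
        rw [h3] at h2
        rw [h2] at h1
        rw [h1]
        exact Subgroup.inv_mem _ hv
    have hord : orderOf (h * t * h⁻¹) = 2 := by
      have := MulEquiv.orderOf_eq (MulAut.conj h) t
      rw [MulAut.conj_apply] at this
      rw [this]; exact ht
    have h3 := orderOf_dvd_natCard
      (⟨h * t * h⁻¹, hmem⟩ : Subgroup.normalizer ((P : Subgroup G) : Set G))
    rw [Subgroup.orderOf_mk, hord] at h3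
    exact even_iff_two_dvd.2 h3
  · refine ⟨⟨fun a b => Subtype.ext ?_⟩⟩
    exact commute_of_inverts (K := (P : Subgroup G)) hinvP a a.2 b b.2

end Cfsg.Agent.S4744
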