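import Cfsg.Statements.S4746
import Cfsg.Agent.Helper79.DefectZero
import Cfsg.Agent.Helper79.OddDegree

set_option autoImplicit false
open Cfsg

namespace Cfsg.Agent.S4746

open Cfsg.Agent.Helper79 in
/-- Let p be an odd prime and G a finite group of even order divisible by p in which the centralizer of every non-identity p-element has odd order. Then G has an irreducible character of p-defect zero or an irreducible character of even degree. -/
theorem result {G : Type*} [Group G] [Finite G] (p : ℕ) [Fact p.Prime] (hp2 : p ≠ 2) (hpG : p ∣ Nat.card G) (h2G : 2 ∣ Nat.card G) (hC : ∀ g : G, g ≠ 1 → (∃ k : ℕ, orderOf g = p ^ k) → Odd (Nat.card ↥(Subgroup.centralizer ({g} : Set G)))) : (∃ χ : Cfsg.IrrCharacter G, (Cfsg.charDegree (χ : G → ℂ)).factorization p = (Nat.card G).factorization p) ∨ ∃ χ : Cfsg.IrrCharacter G, Even (Cfsg.charDegree (χ : G → ℂ)) := by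
  have hp : p.Prime := Fact.out
  by_cases hdef : ∃ χ : Cfsg.IrrCharacter G,
      (Cfsg.charDegree (χ : G → ℂ)).factorization p = (Nat.card G).factorization p
  · exact Or.inl hdef
  right
  obtain ⟨t, ht⟩ := exists_prime_orderOf_dvd_card' 2 h2G
  obtain ⟨Q, hQ⟩ := involution_inverts_sylow p hpG hC hdef t ht
  have hQne : (Q : Subgroup G) ≠ ⊥ := by
    intro hbot
    have hcard := Q.card_eq_multiplicity
    rw [hbot, Subgroup.card_bot] at hcard
    have hpos : 0 < (Nat.card G).factorization p :=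
      hp.factorization_pos_of_dvd Nat.card_pos.ne' hpG
    have : 1 < p ^ (Nat.card G).factorization p := Nat.one_lt_pow hpos.ne' hp.one_lt
    omega
  obtain ⟨⟨w, hwQ⟩, hw1⟩ := (Subgroup.ne_bot_iff_exists_ne_one.1 hQne)
  have hw1' : w ≠ 1 := fun h => hw1 (Subtype.ext h)
  have hwp : ∃ k : ℕ, orderOf w = p ^ k := by
    obtain ⟨k, hk⟩ := (IsPGroup.iff_orderOf.1 Q.isPGroup') ⟨w, hwQ⟩
    exact ⟨k, by rw [← hk, Subgroup.orderOf_mk]⟩
  exact exists_even_charDegree_of_real_odd_centralizer hw1' (isConj_iff.2 ⟨t, hQ w hwQ⟩)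
    (hC w hw1' hwp)

end Cfsg.Agent.S4746
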