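import Cfsg.Statements.S4750
import Mathlib
import Cfsg.Agent.Helper4.TILattice
import Cfsg.Agent.Helper74.CharBasic

set_option autoImplicit false
open scoped Pointwise
open Cfsg

namespace Cfsg.Agent.S4750

open scoped ComplexConjugate in
theorem norm_eq_finrank_commutant {K : Type*} [Group K] [Fintype K] {n : ℕ}
    (τ : Representation ℂ K (Fin n → ℂ)) :
    Cfsg.classInner τ.character τ.character
      = (Module.finrank ℂ (Representation.invariants (Representation.linHom τ τ)) : ℂ) := by
  have : Invertible (Nat.card K : ℂ) := invertibleOfNonzero (by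
    have : 0 < Nat.card K := Nat.card_pos
    exact_mod_cast this.ne')
  rw [← Representation.card_inv_mul_sum_char_eq_finrank]
  unfold Cfsg.classInner
  congr 1
  apply Finset.sum_congr rfl
  intro g _
  rw [Representation.char_linHom, ← Cfsg.Agent.Helper74.char_inv ⟨n, τ, rfl⟩ g, mul_comm]

/-- Let P be a Sylow p-subgroup of the finite group G that meets each conjugate g P g⁻¹ with g outside N_G(P) trivially, χ a character of G with χ(1)² ≤ |P|, and H a subgroup of G containing N_G(P). Then the inner product of χ with itself over G equals the inner product over H of the restriction of χ to H. -/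
theorem result {G : Type*} [Group G] [Fintype G] [DecidableEq G] (p : ℕ) [Fact p.Prime] (P : Sylow p G) (hTI : ∀ g : G, g ∉ Subgroup.normalizer ((P : Subgroup G) : Set G) → (P : Subgroup G) ⊓ (MulAut.conj g • (P : Subgroup G)) = ⊥) (χ : G → ℂ) (hχ : Cfsg.IsCharacter G χ) (hdeg : Cfsg.charDegree χ ^ 2 ≤ Nat.card ↥(P : Subgroup G)) (H : Subgroup G) [Fintype ↥H] (hH : Subgroup.normalizer ((P : Subgroup G) : Set G) ≤ H) : Cfsg.classInner χ χ = Cfsg.classInner (fun h : ↥H => χ h) (fun h : ↥H => χ h) := by
  obtain ⟨n, ρ, rfl⟩ := hχ
  have hdeg' : n ^ 2 ≤ Nat.card ↥(P : Subgroup G) := by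
    rwa [Cfsg.Agent.Helper74.charDegree_rep, Module.finrank_fin_fun] at hdeg
  let ρH : Representation ℂ ↥H (Fin n → ℂ) := ρ.comp H.subtype
  have hρH : (fun h : ↥H => ρ.character h) = ρH.character := rfl
  have heq : Representation.invariants (Representation.linHom ρ ρ)
      = Representation.invariants (Representation.linHom ρH ρH) := by
    ext T
    simp only [Representation.mem_invariants, Representation.linHom_apply]
    constructor
    · intro h x
      exact h x
    · intro h
      apply Cfsg.Agent.Helper4.commutant_of_ti_sylow p P hTI ρ hdeg' T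
      intro x hx
      exact h ⟨x, hH hx⟩
  rw [hρH, norm_eq_finrank_commutant ρ, norm_eq_finrank_commutant ρH, heq]

end Cfsg.Agent.S4750
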