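import Cfsg.Statements.S4751
-- import your own Cfsg.Agent.* helpers here
import Cfsg.Agent.Helper82.RootUnityH
import Cfsg.Agent.Lib.Cores

set_option autoImplicit false
open Cfsg

namespace Cfsg.Agent.S4751

/-- Let χ be a faithful, non-linear irreducible character of the finite group G (χ g = χ 1 only for g = 1, χ 1 ≠ 1) whose value at every element of order divisible by p is a root of unity, and suppose P = O_p(G) ≠ 1. Then either P is an elementary abelian Sylow p-subgroup of G, C_G(P) is the internal direct product of P and Z(G), G acts transitively by conjugation on the non-principal linear characters of P, and χ 1 = |P| − 1; or p = 2 and G is the internal direct product of a subgroup isomorphic to the symmetric group S₄ and the centre Z(G), which has odd order. -/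
theorem result {G : Type*} [Group G] [Finite G] (p : ℕ) [Fact p.Prime] (χ : Cfsg.IrrCharacter G) (hfaith : ∀ g : G, (χ : G → ℂ) g = (χ : G → ℂ) 1 → g = 1) (hnl : (χ : G → ℂ) 1 ≠ 1) (hroot : ∀ g : G, p ∣ orderOf g → ∃ n : ℕ, 0 < n ∧ ((χ : G → ℂ) g) ^ n = 1) (hP : Cfsg.pCore p G ≠ ⊥) : ((Nat.card ↥(Cfsg.pCore p G)).factorization p = (Nat.card G).factorization p ∧ Cfsg.IsElementaryAbelian p (Cfsg.pCore p G) ∧ Subgroup.centralizer ((Cfsg.pCore p G : Subgroup G) : Set G) = Cfsg.pCore p G ⊔ Subgroup.center G ∧ Cfsg.pCore p G ⊓ Subgroup.center G = ⊥ ∧ (∀ lam mu : ↥(Cfsg.pCore p G) → ℂ, Cfsg.IsCharacter ↥(Cfsg.pCore p G) lam → lam 1 = 1 → lam ≠ (fun _ => (1 : ℂ)) → Cfsg.IsCharacter ↥(Cfsg.pCore p G) mu → mu 1 = 1 → mu ≠ (fun _ => (1 : ℂ)) → ∃ g : G, ∀ (x : G) (hx : x ∈ Cfsg.pCore p G) (hgx : g * x * g⁻¹ ∈ Cfsg.pCore p G), mu ⟨x, hx⟩ = lam ⟨g * x * g⁻¹, hgx⟩) ∧ (χ : G → ℂ) 1 = (Nat.card ↥(Cfsg.pCore p G) : ℂ) - 1) ∨ (p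 = 2 ∧ Odd (Nat.card ↥(Subgroup.center G)) ∧ ∃ H : Subgroup G, Nonempty (↥H ≃* Equiv.Perm (Fin 4)) ∧ H ⊓ Subgroup.center G = ⊥ ∧ H ⊔ Subgroup.center G = ⊤) := by
  classical
  haveI hchar : (Cfsg.pCore p G).Characteristic := Cfsg.Agent.Lib.pCore_characteristic p
  haveI hNn : (Cfsg.pCore p G).Normal := Subgroup.normal_of_characteristic _
  have hNp : IsPGroup p (Cfsg.pCore p G) := Cfsg.Agent.Lib.isPGroup_pCore p
  have hmax : ∀ M : Subgroup G, M.Normal → IsPGroup p M → M ≤ Cfsg.pCore p G :=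
    fun M hM hMp => Cfsg.Agent.Lib.le_pCore hM hMp
  have hsing : ∀ g : G, p ∣ orderOf g → ‖(χ : G → ℂ) g‖ = 1 :=
    fun g hg => Cfsg.Agent.Helper82.RootUnity.norm_eq_one_of_root (hroot g hg)
  have hnorm : ∀ x ∈ Cfsg.pCore p G, x ≠ 1 → ‖(χ : G → ℂ) x‖ = 1 :=
    fun x hx hx1 => hsing x (Cfsg.Agent.Helper82.RootUnity.dvd_orderOf_of_mem_pgroup hNp hx hx1)
  haveI : Fintype (Cfsg.pCore p G) := Fintype.ofFinite _
  obtain ⟨hdeg, hcomm, -, -, htrans⟩ :=
    Cfsg.Agent.Helper82.RootUnity.partA p (Cfsg.pCore p G) hNp hP χ hnl hnorm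
  have hexp := Cfsg.Agent.Helper82.RootUnity.pow_eq_one_of_transitive p (Cfsg.pCore p G) hNp hP
    hcomm htrans
  have hNZ := Cfsg.Agent.Helper82.RootUnity.inf_center_eq_bot p (Cfsg.pCore p G) hNp χ hnl hsing
  have hcent := Cfsg.Agent.Helper82.RootUnity.centralizer_eq p (Cfsg.pCore p G) hNp hP χ hnl
    hfaith hsing hmax
  let S : Sylow p G := default
  have hNS : Cfsg.pCore p G ≤ (S : Subgroup G) := Cfsg.Agent.Lib.pCore_le_sylow S
  rcases Cfsg.Agent.Helper82.RootUnity.sylow_card p (Cfsg.pCore p G) hNp hP χ hnl hsing S hNS with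
    hcase | ⟨hp2, hcase⟩
  · left
    refine ⟨?_, ⟨⟨⟨hcomm⟩⟩, hexp⟩, hcent, hNZ, ?_, hdeg⟩
    · rw [← hcase, Sylow.card_eq_multiplicity, Nat.Prime.factorization_pow (Fact.out),
        Finsupp.single_eq_same]
    · intro lam mu hlam hlam1 hlamne hmu hmu1 hmune
      have hl : Cfsg.IsIrrCharacter ↥(Cfsg.pCore p G) lam :=
        Cfsg.Agent.Helper79.isIrrCharacter_of_monoidHom
          (Cfsg.Agent.Helper15.linCharHom hlam hlam1)
      have hm : Cfsg.IsIrrCharacter ↥(Cfsg.pCore p G) mu :=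
        Cfsg.Agent.Helper79.isIrrCharacter_of_monoidHom
          (Cfsg.Agent.Helper15.linCharHom hmu hmu1)
      obtain ⟨g, hg⟩ := htrans ⟨lam, hl⟩ ⟨mu, hm⟩ hlamne hmune
      refine ⟨g, ?_⟩
      intro x hx hgx
      have := congrFun hg ⟨x, hx⟩
      exact this
  · right
    subst hp2
    have h4 : Nat.card (Cfsg.pCore 2 G) = 4 :=
      Cfsg.Agent.Helper82.RootUnity.card_eq_four (Cfsg.pCore 2 G) hNp hP χ hnl hsing S hNS hcase
        hexp
    have h8 : Nat.card (S : Subgroup G) = 8 := by rw [hcase, h4]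
    have hdeg3 : (χ : G → ℂ) 1 = 3 := by
      rw [hdeg, h4]
      norm_num
    have hneg := Cfsg.Agent.Helper82.RootUnity.apply_eq_neg_one 2 (Cfsg.pCore 2 G) hNp hP χ hnl
      hnorm
    have hodd := Cfsg.Agent.Helper82.RootUnity.odd_card_center (Cfsg.pCore 2 G) hmax hNZ
    obtain ⟨ν, hνc, hν1, hνZ⟩ := Cfsg.Agent.Helper82.RootUnity.exists_linear_faithful_center
      (Cfsg.pCore 2 G) h4 χ hfaith hdeg3 hneg hcent hodd
    obtain ⟨H, hH⟩ := Cfsg.Agent.Helper82.RootUnity.exists_S4_complement (Cfsg.pCore 2 G) h4 S hNS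
      h8 hmax hcent hνc hν1 hνZ
    exact ⟨rfl, hodd, H, hH⟩

end Cfsg.Agent.S4751
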