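import Cfsg.Statements.S4754
import Cfsg.Agent.Helper79.ClassMult

set_option autoImplicit false
open Cfsg

namespace Cfsg.Agent.S4754

open Cfsg.Agent.Helper79 in
/-- For elements x, y of a finite group G, the conjugacy class of x y equals the set of all products of a conjugate of x with a conjugate of y if and only if χ(1) χ(a x a⁻¹ b y b⁻¹) = χ(x) χ(y) for all a, b ∈ G and every irreducible character χ. -/
theorem result {G : Type*} [Group G] [Finite G] (x y : G) : (∀ z : G, IsConj (x * y) z ↔ ∃ a b : G, z = a * x * a⁻¹ * (b * y * b⁻¹)) ↔ ∀ (a b : G) (χ : Cfsg.IrrCharacter G), (χ : G → ℂ) 1 * (χ : G → ℂ) (a * x * a⁻¹ * (b * y * b⁻¹)) = (χ : G → ℂ) x * (χ : G → ℂ) y := by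
  classical
  have := Fintype.ofFinite G
  constructor
  · intro H a b χ
    have hconj : ∀ a b : G, (χ : G → ℂ) (a * x * a⁻¹ * (b * y * b⁻¹)) = (χ : G → ℂ) (x * y) := by
      intro a b
      have h1 : IsConj (x * y) (a * x * a⁻¹ * (b * y * b⁻¹)) := (H _).2 ⟨a, b, rfl⟩
      exact ((isClassFunction_iff_isConj.1 (irr_isClassFunction χ)) _ _ h1).symm
    have hsum := irr_sum_sum_conj_mul χ x y 1
    simp only [mul_one] at hsum
    simp only [hconj, Finset.sum_const, Finset.card_univ, nsmul_eq_mul] at hsum
    rw [hconj]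
    have h1 := irr_one_ne_zero χ
    have hG : (Nat.card G : ℂ) ≠ 0 := card_ne_zero_complex
    rw [← Nat.card_eq_fintype_card] at hsum
    field_simp at hsum
    linear_combination hsum
  · intro H z
    constructor
    · intro hz
      obtain ⟨c, hc⟩ := isConj_iff.1 hz
      refine ⟨c, c, ?_⟩
      rw [← hc]; group
    · rintro ⟨a, b, rfl⟩
      rw [isConj_iff_forall_irr_eq]
      intro χ
      have h1 := H a b χ
      have h2 := H 1 1 χ
      simp only [one_mul, inv_one, mul_one] at h2
      have h3 := irr_one_ne_zero χ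
      exact mul_left_cancel₀ h3 (h2.trans h1.symm)

end Cfsg.Agent.S4754
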