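import Cfsg.Statements.S4755
import Cfsg.Agent.Helper79.Linear
import Cfsg.Agent.S4754

set_option autoImplicit false
open Cfsg
open scoped ComplexConjugate commutatorElement

namespace Cfsg.Agent.S4755

open Cfsg.Agent.Helper79 in
/-- Let x, y be non-identity elements of the finite group G such that χ(x' y') = χ(x') χ(y') for all conjugates x' of x, y' of y and every irreducible character χ. Then the conjugacy class of x y is the set of all products of a conjugate of x with a conjugate of y; every irreducible character of degree greater than 1 vanishes at x y; and the conjugacy class of x y is the coset of the commutator subgroup containing x y. -/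
theorem result {G : Type*} [Group G] [Finite G] (x y : G) (hx : x ≠ 1) (hy : y ≠ 1) (h : ∀ (a b : G) (χ : Cfsg.IrrCharacter G), (χ : G → ℂ) (a * x * a⁻¹ * (b * y * b⁻¹)) = (χ : G → ℂ) (a * x * a⁻¹) * (χ : G → ℂ) (b * y * b⁻¹)) : (∀ z : G, IsConj (x * y) z ↔ ∃ a b : G, z = a * x * a⁻¹ * (b * y * b⁻¹)) ∧ (∀ χ : Cfsg.IrrCharacter G, (χ : G → ℂ) 1 ≠ 1 → (χ : G → ℂ) (x * y) = 0) ∧ (∀ z : G, IsConj (x * y) z ↔ (x * y)⁻¹ * z ∈ commutator G) := by
  classical
  have := Fintype.ofFinite G
  have := Fintype.ofFinite (IrrCharacter G)
  have hG : (Nat.card G : ℂ) ≠ 0 := card_ne_zero_complex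
  -- the hypothesis in simplified form
  have h' : ∀ (a b : G) (χ : IrrCharacter G),
      (χ : G → ℂ) (a * x * a⁻¹ * (b * y * b⁻¹)) = (χ : G → ℂ) x * (χ : G → ℂ) y := by
    intro a b χ
    rw [h a b χ, irr_isClassFunction χ x a, irr_isClassFunction χ y b]
  -- key identity
  have key : ∀ χ : IrrCharacter G, (χ : G → ℂ) x * (χ : G → ℂ) y * ((χ : G → ℂ) 1 - 1) = 0 := by
    intro χ
    have hsum := irr_sum_sum_conj_mul χ x y 1
    simp only [mul_one] at hsum
    simp only [h', Finset.sum_const, Finset.card_univ, nsmul_eq_mul] at hsum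
    rw [← Nat.card_eq_fintype_card] at hsum
    have h1 := irr_one_ne_zero χ
    field_simp at hsum
    linear_combination hsum
  have hxy : ∀ χ : IrrCharacter G, (χ : G → ℂ) (x * y) = (χ : G → ℂ) x * (χ : G → ℂ) y := by
    intro χ
    have := h' 1 1 χ
    simpa using this
  have part2 : ∀ χ : IrrCharacter G, (χ : G → ℂ) 1 ≠ 1 → (χ : G → ℂ) (x * y) = 0 := by
    intro χ hχ
    rw [hxy]
    rcases mul_eq_zero.1 (key χ) with h3 | h3
    · exact h3
    · exact absurd (sub_eq_zero.1 h3) hχ
  refine ⟨?_, part2, ?_⟩
  · refine (Cfsg.Agent.S4754.result x y).2 fun a b χ => ?_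
    rw [h']
    linear_combination key χ
  · intro z
    constructor
    · intro hz
      obtain ⟨c, hc⟩ := isConj_iff.1 hz
      rw [← hc, commutator_def]
      have : (x * y)⁻¹ * (c * (x * y) * c⁻¹) = ⁅(x * y)⁻¹, c⁆ := by
        rw [commutatorElement_def]; group
      rw [this]
      exact Subgroup.commutator_mem_commutator (Subgroup.mem_top _) (Subgroup.mem_top _)
    · intro hu
      by_contra hn
      have hco := column_orthogonality (G := G) z (x * y)
      rw [if_neg hn] at hco
      -- every term is `0` or `1`, and the principal character contributes `1`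
      have hterm : ∀ χ : IrrCharacter G, (χ : G → ℂ) z * conj ((χ : G → ℂ) (x * y)) =
          if (χ : G → ℂ) 1 = 1 then 1 else 0 := by
        intro χ
        split_ifs with h1
        · have hz : (χ : G → ℂ) z = (χ : G → ℂ) (x * y) := by
            have e : z = (x * y) * ((x * y)⁻¹ * z) := by group
            rw [e, isCharacter_linear_mul (irr_isCharacter χ) h1,
              isCharacter_linear_commutator (irr_isCharacter χ) h1 hu, mul_one]
          rw [hz]
          exact isCharacter_linear_mul_conj (irr_isCharacter χ) h1 _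
        · rw [part2 χ h1, map_zero, mul_zero]
      simp only [hterm] at hco
      rw [Finset.sum_ite, Finset.sum_const_zero, add_zero, Finset.sum_const, nsmul_eq_mul,
        mul_one] at hco
      have hpos : 0 < (Finset.univ.filter (fun χ : IrrCharacter G => (χ : G → ℂ) 1 = 1)).card := by
        apply Finset.card_pos.2
        exact ⟨principalIrr G, by simp [principalIrr]⟩
      have : ((Finset.univ.filter (fun χ : IrrCharacter G => (χ : G → ℂ) 1 = 1)).card : ℂ) ≠ 0 := by
        exact_mod_cast hpos.ne'
      exact this hco

end Cfsg.Agent.S4755
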