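import Cfsg.Statements.S4757
import Cfsg.Agent.Helper79.Linear
import Cfsg.Agent.Lib.Cores

set_option autoImplicit false
set_option linter.unusedSectionVars false
open Cfsg

namespace Cfsg.Agent.S4757

open Cfsg.Agent.Helper79
open scoped ComplexConjugate

section
variable {G : Type*} [Group G] [Finite G]

/-- A multiplicative map to `ℂ` as an irreducible character. -/
noncomputable def homIrr (l : G →* ℂ) : IrrCharacter G := ⟨l, isIrrCharacter_of_monoidHom l⟩

theorem homIrr_apply (l : G →* ℂ) (g : G) : (homIrr l : G → ℂ) g = l g := rfl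

/-- The products `χ(1) χ(u)`, `χ` nonprincipal, cannot all have nonnegative real part. -/
theorem not_all_nonneg (u : G) (hu : u ≠ 1)
    (h : ∀ χ : IrrCharacter G, (χ : G → ℂ) ≠ (fun _ => (1 : ℂ)) →
      0 ≤ ((χ : G → ℂ) 1 * (χ : G → ℂ) u).re) : False := by
  classical
  have := Fintype.ofFinite G
  have : Finite (IrrCharacter G) := irr_finite'
  have := Fintype.ofFinite (IrrCharacter G)
  have hsum := sum_irr_one_mul (G := G) u
  rw [if_neg hu] at hsum
  have hre := congrArg Complex.re hsum
  rw [Complex.re_sum, Complex.zero_re] at hre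
  have hpos : 0 < ∑ χ : IrrCharacter G, ((χ : G → ℂ) 1 * (χ : G → ℂ) u).re := by
    apply Finset.sum_pos'
    · intro χ _
      by_cases hχ : (χ : G → ℂ) = fun _ => 1
      · rw [hχ]; simp
      · exact h χ hχ
    · exact ⟨principalIrr G, Finset.mem_univ _, by simp [principalIrr]⟩
  linarith

/-- A multiplicative map never vanishes. -/
theorem hom_ne_zero (l : G →* ℂ) (g : G) : l g ≠ 0 := by
  intro h
  have : l g * l g⁻¹ = 1 := by rw [← map_mul, mul_inv_cancel, map_one]
  rw [h, zero_mul] at this
  exact zero_ne_one this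

/-- A non-perfect finite group has a nonprincipal linear character. -/
theorem exists_hom_ne_one (h : commutator G ≠ ⊤) :
    ∃ l : G →* ℂ, (l : G → ℂ) ≠ fun _ => (1 : ℂ) := by
  obtain ⟨g, hg⟩ : ∃ g : G, g ∉ commutator G := by
    by_contra hall
    push Not at hall
    exact h (eq_top_iff.2 fun x _ => hall x)
  have ha : (Abelianization.of g : Abelianization G) ≠ 1 := by
    intro h1
    apply hg
    have : (QuotientGroup.mk g : G ⧸ commutator G) = 1 := h1
    rwa [QuotientGroup.eq_one_iff] at this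
  have : NeZero (Monoid.exponent (Abelianization G)) := ⟨Monoid.exponent_ne_zero_of_finite⟩
  obtain ⟨φ, hφ⟩ := CommGroup.exists_apply_ne_one_of_hasEnoughRootsOfUnity (Abelianization G) ℂ ha
  refine ⟨(Units.coeHom ℂ).comp (φ.comp Abelianization.of), ?_⟩
  intro hl
  have := congrFun hl g
  simp only [MonoidHom.coe_comp, Function.comp_apply, Units.coeHom_apply] at this
  exact hφ (Units.ext this)

/-- The value at `1` of an irreducible character, as a positive natural number. -/
theorem irr_one_nat (χ : IrrCharacter G) : ∃ d : ℕ, 1 ≤ d ∧ (χ : G → ℂ) 1 = d :=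
  ⟨charDegree (χ : G → ℂ), irr_charDegree_pos χ, irr_one χ⟩

/-- A character of degree one is (the function of) a multiplicative map. -/
theorem exists_hom_of_degree_one (χ : IrrCharacter G) (h1 : (χ : G → ℂ) 1 = 1) :
    ∃ l : G →* ℂ, (l : G → ℂ) = (χ : G → ℂ) :=
  ⟨linearHom (irr_isCharacter χ) h1, rfl⟩

variable (u : G) (hu : u ≠ 1) (c : ℂ)
  (hyp : ∀ χ : Cfsg.IrrCharacter G, (χ : G → ℂ) ≠ (fun _ => (1 : ℂ)) →
    ((χ : G → ℂ) 1 - (χ : G → ℂ) u = c ∨ (χ : G → ℂ) u = 0))

include hyp in
theorem hom_apply_u (l : G →* ℂ) (hl : (l : G → ℂ) ≠ fun _ => (1 : ℂ)) : l u = 1 - c := by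
  rcases hyp (homIrr l) hl with h | h
  · rw [homIrr_apply, homIrr_apply, map_one] at h
    rw [← h]; ring
  · rw [homIrr_apply] at h
    exact absurd h (hom_ne_zero l u)

include hu hyp in
theorem c_ne_zero : c ≠ 0 := by
  rintro rfl
  apply not_all_nonneg u hu
  intro χ hχ
  obtain ⟨d, _, hd⟩ := irr_one_nat χ
  rcases hyp χ hχ with h | h
  · have : (χ : G → ℂ) u = d := by rw [← hd]; linear_combination -h
    rw [this, hd, ← Nat.cast_mul, Complex.natCast_re]
    positivity
  · rw [h, mul_zero, Complex.zero_re]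

include hu hyp in
/-- If `G` is perfect then `c ≠ 2`. -/
theorem not_perfect_of_c_eq_two (hc : c = 2) : commutator G ≠ ⊤ := by
  intro htop
  apply not_all_nonneg u hu
  intro χ hχ
  obtain ⟨d, hd1, hd⟩ := irr_one_nat χ
  have hd2 : 2 ≤ d := by
    by_contra hlt
    have hd1' : d = 1 := by omega
    rw [hd1', Nat.cast_one] at hd
    apply hχ
    funext g
    exact isCharacter_linear_commutator (irr_isCharacter χ) hd (by rw [htop]; trivial)
  rcases hyp χ hχ with h | h
  · have : (χ : G → ℂ) u = ((d - 2 : ℕ) : ℂ) := by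
      rw [Nat.cast_sub hd2, ← hd]; push_cast; rw [hc] at h; linear_combination -h
    rw [this, hd, ← Nat.cast_mul, Complex.natCast_re]
    positivity
  · rw [h, mul_zero, Complex.zero_re]

include hu hyp in
/-- The key consequences of non-perfectness. -/
theorem key (hnp : commutator G ≠ ⊤) :
    c = 2 ∧ ∃ l : G →* ℂ, l u = -1 ∧ (∀ g, l g * l g = 1) ∧
      ∀ χ : IrrCharacter G, (χ : G → ℂ) ≠ (fun _ => (1 : ℂ)) → (χ : G → ℂ) ≠ (l : G → ℂ) →
        (χ : G → ℂ) u = 0 := by
  classical
  obtain ⟨l, hl⟩ := exists_hom_ne_one hnp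
  have hε := hom_apply_u u c hyp l hl
  have hc0 := c_ne_zero u hu c hyp
  have hll : (((l * l : G →* ℂ)) : G → ℂ) = fun _ => (1 : ℂ) := by
    by_contra h2
    have h3 := hom_apply_u u c hyp (l * l) h2
    rw [MonoidHom.mul_apply, hε] at h3
    have h4 : (1 - c) * c = 0 := by linear_combination -h3
    rcases mul_eq_zero.1 h4 with h5 | h5
    · rw [h5] at hε
      exact hom_ne_zero l u hε
    · exact hc0 h5
  have hsq : ∀ g, l g * l g = 1 := fun g => by
    have := congrFun hll g
    rwa [MonoidHom.mul_apply] at this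
  have hc2 : c = 2 := by
    have h3 := hsq u
    rw [hε] at h3
    have h4 : c * (c - 2) = 0 := by linear_combination h3
    rcases mul_eq_zero.1 h4 with h5 | h5
    · exact absurd h5 hc0
    · linear_combination h5
  have hlu : l u = -1 := by rw [hε, hc2]; norm_num
  -- uniqueness of the nonprincipal linear character
  have huniq : ∀ l' : G →* ℂ, (l' : G → ℂ) ≠ (fun _ => (1 : ℂ)) → (l' : G → ℂ) = (l : G → ℂ) := by
    intro l' hl'
    have hl'u : l' u = -1 := by rw [hom_apply_u u c hyp l' hl', hc2]; norm_num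
    have hprod : (((l * l' : G →* ℂ)) : G → ℂ) = fun _ => (1 : ℂ) := by
      by_contra h2
      have h3 := hom_apply_u u c hyp (l * l') h2
      rw [MonoidHom.mul_apply, hlu, hl'u, hc2] at h3
      norm_num at h3
    funext g
    have h1 := congrFun hprod g
    rw [MonoidHom.mul_apply] at h1
    have h2 := hsq g
    have h3 : l g * (l' g - l g) = 0 := by linear_combination h1 - h2
    rcases mul_eq_zero.1 h3 with h4 | h4
    · exact absurd h4 (hom_ne_zero l g)
    · linear_combination h4
  refine ⟨hc2, l, hlu, hsq, ?_⟩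
  -- vanishing of the remaining characters at `u`
  have := Fintype.ofFinite G
  have : Finite (IrrCharacter G) := irr_finite'
  have := Fintype.ofFinite (IrrCharacter G)
  have hsum := sum_irr_one_mul (G := G) u
  rw [if_neg hu] at hsum
  have hre := congrArg Complex.re hsum
  rw [Complex.re_sum, Complex.zero_re] at hre
  set f : IrrCharacter G → ℝ := fun χ => ((χ : G → ℂ) 1 * (χ : G → ℂ) u).re with hf
  have hpl : principalIrr G ≠ homIrr l := by
    intro h
    apply hl
    have := congrArg (fun χ : IrrCharacter G => (χ : G → ℂ)) h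
    exact this.symm
  have hmem : homIrr l ∈ (Finset.univ : Finset (IrrCharacter G)).erase (principalIrr G) :=
    Finset.mem_erase.2 ⟨hpl.symm, Finset.mem_univ _⟩
  have h1 := Finset.add_sum_erase Finset.univ f (Finset.mem_univ (principalIrr G))
  have h2 := Finset.add_sum_erase _ f hmem
  have hfp : f (principalIrr G) = 1 := by simp [hf, principalIrr]
  have hfl : f (homIrr l) = -1 := by
    simp only [hf, homIrr_apply, map_one, hlu]; simp
  have hrest : ∑ χ ∈ ((Finset.univ : Finset (IrrCharacter G)).erase (principalIrr G)).erase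
      (homIrr l), f χ = 0 := by
    rw [← h1, ← h2, hfp, hfl] at hre
    linarith
  have hnonneg : ∀ χ ∈ ((Finset.univ : Finset (IrrCharacter G)).erase (principalIrr G)).erase
      (homIrr l), 0 ≤ f χ ∧ (f χ = 0 → (χ : G → ℂ) u = 0) := by
    intro χ hχ
    rw [Finset.mem_erase, Finset.mem_erase] at hχ
    obtain ⟨hχl, hχp, -⟩ := hχ
    have hχp' : (χ : G → ℂ) ≠ fun _ => (1 : ℂ) := by
      intro h
      apply hχp
      exact Subtype.ext h
    have hχl' : (χ : G → ℂ) ≠ (l : G → ℂ) := by
      intro h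
      apply hχl
      exact Subtype.ext h
    obtain ⟨d, hd1, hd⟩ := irr_one_nat χ
    have hd2 : 2 ≤ d := by
      by_contra hlt
      have hd1' : d = 1 := by omega
      rw [hd1', Nat.cast_one] at hd
      obtain ⟨l', hl'⟩ := exists_hom_of_degree_one χ hd
      apply hχl'
      rw [← hl']
      exact huniq l' (by rw [hl']; exact hχp')
    rcases hyp χ hχp' with h | h
    · have hval : (χ : G → ℂ) u = ((d - 2 : ℕ) : ℂ) := by
        rw [Nat.cast_sub hd2, ← hd]; push_cast; rw [hc2] at h; linear_combination -h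
      have hfv : f χ = ((d * (d - 2) : ℕ) : ℝ) := by
        simp only [hf]
        rw [hval, hd, ← Nat.cast_mul, Complex.natCast_re]
      refine ⟨by rw [hfv]; positivity, ?_⟩
      intro h0
      rw [hfv] at h0
      have h0' : d * (d - 2) = 0 := by exact_mod_cast h0
      rcases Nat.mul_eq_zero.1 h0' with h5 | h5
      · omega
      · rw [hval, h5, Nat.cast_zero]
    · refine ⟨by simp only [hf]; rw [h, mul_zero, Complex.zero_re], fun _ => h⟩
  have hzero := (Finset.sum_eq_zero_iff_of_nonneg (fun χ hχ => (hnonneg χ hχ).1)).1 hrest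
  intro χ hχp hχl
  have hχmem : χ ∈ ((Finset.univ : Finset (IrrCharacter G)).erase (principalIrr G)).erase
      (homIrr l) := by
    rw [Finset.mem_erase, Finset.mem_erase]
    refine ⟨?_, ?_, Finset.mem_univ _⟩
    · intro h; apply hχl; rw [h]; rfl
    · intro h; apply hχp; rw [h]; rfl
  exact (hnonneg χ hχmem).2 (hzero χ hχmem)

include hu hyp in
/-- Under non-perfectness, the centralizer of `u` has order `2`. -/
theorem card_centralizer (hnp : commutator G ≠ ⊤) :
    Nat.card (Subgroup.centralizer ({u} : Set G)) = 2 := by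
  classical
  obtain ⟨hc2, l, hlu, hsq, hvan⟩ := key u hu c hyp hnp
  have := Fintype.ofFinite G
  have : Finite (IrrCharacter G) := irr_finite'
  have := Fintype.ofFinite (IrrCharacter G)
  have hcol := column_orthogonality (G := G) u u
  rw [if_pos (IsConj.refl u)] at hcol
  set f : IrrCharacter G → ℂ := fun χ => (χ : G → ℂ) u * conj ((χ : G → ℂ) u) with hf
  have hl1 : (l : G → ℂ) ≠ fun _ => (1 : ℂ) := by
    intro h
    have := congrFun h u
    rw [hlu] at this
    norm_num at this
  have hpl : principalIrr G ≠ homIrr l := by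
    intro h
    apply hl1
    have := congrArg (fun χ : IrrCharacter G => (χ : G → ℂ)) h
    exact this.symm
  have hmem : homIrr l ∈ (Finset.univ : Finset (IrrCharacter G)).erase (principalIrr G) :=
    Finset.mem_erase.2 ⟨hpl.symm, Finset.mem_univ _⟩
  have h1 := Finset.add_sum_erase Finset.univ f (Finset.mem_univ (principalIrr G))
  have h2 := Finset.add_sum_erase _ f hmem
  have hfp : f (principalIrr G) = 1 := by simp [hf, principalIrr]
  have hfl : f (homIrr l) = 1 := by
    simp only [hf, homIrr_apply, hlu]; simp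
  have hrest : ∑ χ ∈ ((Finset.univ : Finset (IrrCharacter G)).erase (principalIrr G)).erase
      (homIrr l), f χ = 0 := by
    refine Finset.sum_eq_zero fun χ hχ => ?_
    rw [Finset.mem_erase, Finset.mem_erase] at hχ
    obtain ⟨hχl, hχp, -⟩ := hχ
    have hχp' : (χ : G → ℂ) ≠ fun _ => (1 : ℂ) := fun h => hχp (Subtype.ext h)
    have hχl' : (χ : G → ℂ) ≠ (l : G → ℂ) := fun h => hχl (Subtype.ext h)
    simp only [hf]
    rw [hvan χ hχp' hχl', zero_mul]
  rw [← h1, ← h2, hfp, hfl, hrest] at hcol
  have : ((2 : ℕ) : ℂ) = (Nat.card (Subgroup.centralizer ({u} : Set G)) : ℂ) := by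
    rw [← hcol]; norm_num
  exact_mod_cast this.symm

include hu hyp in
/-- Under non-perfectness: `u` is an involution with `C_G(u) = ⟨u⟩`. -/
theorem centralizer_eq (hnp : commutator G ≠ ⊤) :
    orderOf u = 2 ∧ Subgroup.centralizer ({u} : Set G) = Subgroup.zpowers u := by
  have hcard := card_centralizer u hu c hyp hnp
  have huC : u ∈ Subgroup.centralizer ({u} : Set G) := by
    rw [Subgroup.mem_centralizer_iff]
    intro x hx
    rw [Set.mem_singleton_iff] at hx
    rw [hx]
  have hdvd := orderOf_dvd_natCard (⟨u, huC⟩ : Subgroup.centralizer ({u} : Set G))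
  rw [Subgroup.orderOf_mk, hcard] at hdvd
  have hord : orderOf u = 2 := by
    rcases (Nat.dvd_prime Nat.prime_two).1 hdvd with h | h
    · rw [orderOf_eq_one_iff] at h
      exact absurd h hu
    · exact h
  refine ⟨hord, ?_⟩
  symm
  apply Subgroup.eq_of_le_of_card_ge
  · rw [Subgroup.zpowers_le]; exact huC
  · rw [hcard, Nat.card_zpowers, hord]

include hu hyp in
/-- Under non-perfectness: `G = ⟨u⟩ O(G)`. -/
theorem sup_oddCore (hnp : commutator G ≠ ⊤) :
    Subgroup.zpowers u ⊔ Cfsg.oddCore G = ⊤ := by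
  classical
  obtain ⟨hc2, l, hlu, hsq, hvan⟩ := key u hu c hyp hnp
  obtain ⟨hord, hcent⟩ := centralizer_eq u hu c hyp hnp
  have hcard := card_centralizer u hu c hyp hnp
  have hu2 : u ^ 2 = 1 := by rw [← hord]; exact pow_orderOf_eq_one u
  set K : Subgroup G := MonoidHom.ker l with hK
  have hKn : K.Normal := MonoidHom.normal_ker l
  have hpm : ∀ g, l g = 1 ∨ l g = -1 := fun g => mul_self_eq_one_iff.1 (hsq g)
  have hcase : ∀ g, g ∈ K ∨ g * u ∈ K := by
    intro g
    rcases hpm g with h | h
    · left; rw [hK, MonoidHom.mem_ker]; exact h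
    · right; rw [hK, MonoidHom.mem_ker, map_mul, h, hlu]; norm_num
  have huK : u ∉ K := by
    rw [hK, MonoidHom.mem_ker, hlu]; norm_num
  -- `K` has index `2`
  have hidx : K.index = 2 := by
    rw [Subgroup.index_eq_two_iff]
    refine ⟨u, fun b => ?_⟩
    rcases hpm b with h | h
    · right
      refine ⟨by rw [hK, MonoidHom.mem_ker]; exact h, ?_⟩
      rw [hK, MonoidHom.mem_ker, map_mul, h, hlu]; norm_num
    · left
      refine ⟨by rw [hK, MonoidHom.mem_ker, map_mul, h, hlu]; norm_num, ?_⟩
      rw [hK, MonoidHom.mem_ker, h]; norm_num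
  -- a Sylow `2`-subgroup containing `u` has order `2`
  have hpz : IsPGroup 2 (Subgroup.zpowers u) := by
    apply IsPGroup.of_card (n := 1)
    rw [Nat.card_zpowers, hord, pow_one]
  obtain ⟨T, hT⟩ := hpz.exists_le_sylow
  have huT : u ∈ (T : Subgroup G) := hT (Subgroup.mem_zpowers u)
  have hTnt : Nontrivial (T : Subgroup G) :=
    ⟨⟨⟨u, huT⟩, 1, fun h => hu (congrArg Subtype.val h)⟩⟩
  have hcnt := IsPGroup.center_nontrivial (T.isPGroup')
  obtain ⟨z, hz⟩ := exists_ne (1 : Subgroup.center (T : Subgroup G))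
  have hzu : ((z : (T : Subgroup G)) : G) = u := by
    have hzc : ((z : (T : Subgroup G)) : G) ∈ Subgroup.centralizer ({u} : Set G) := by
      rw [Subgroup.mem_centralizer_iff]
      intro x hx
      rw [Set.mem_singleton_iff] at hx
      subst hx
      have := (Subgroup.mem_center_iff.1 z.2) ⟨x, huT⟩
      exact congrArg Subtype.val this
    rw [hcent, Subgroup.mem_zpowers_iff] at hzc
    obtain ⟨k, hk⟩ := hzc
    rcases Int.even_or_odd k with ⟨m, hm⟩ | ⟨m, hm⟩
    · exfalso
      apply hz
      apply Subtype.ext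
      apply Subtype.ext
      rw [← hk, hm, ← two_mul, zpow_mul, zpow_ofNat, hu2, one_zpow]
      rfl
    · rw [← hk, hm, zpow_add, zpow_mul, zpow_ofNat, hu2, one_zpow, one_mul, zpow_one]
  have hTle : (T : Subgroup G) ≤ Subgroup.centralizer ({u} : Set G) := by
    intro t ht
    rw [Subgroup.mem_centralizer_iff]
    intro x hx
    rw [Set.mem_singleton_iff] at hx
    subst hx
    have := (Subgroup.mem_center_iff.1 z.2) ⟨t, ht⟩
    have h2 := congrArg Subtype.val this
    simp only [Subgroup.coe_mul] at h2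
    rw [hzu] at h2
    exact h2.symm
  have hTcard : Nat.card (T : Subgroup G) ∣ 2 := by
    have := Subgroup.card_dvd_of_le hTle
    rwa [hcard] at this
  -- hence `K` has odd order
  have hKodd : Odd (Nat.card K) := by
    rw [← Nat.not_even_iff_odd]
    intro heven
    have h4 : 4 ∣ Nat.card G := by
      rw [← Subgroup.card_mul_index K, hidx]
      obtain ⟨m, hm⟩ := heven
      exact ⟨m, by rw [hm]; ring⟩
    have hfac : 2 ≤ (Nat.card G).factorization 2 := by
      have : 2 ^ 2 ∣ Nat.card G := by norm_num; exact h4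
      exact (Nat.prime_two.pow_dvd_iff_le_factorization Nat.card_pos.ne').1 this
    have hTc := T.card_eq_multiplicity
    have : 2 ^ 2 ∣ Nat.card (T : Subgroup G) := by
      rw [hTc]; exact pow_dvd_pow 2 hfac
    have := Nat.le_of_dvd (by norm_num) (this.trans hTcard)
    norm_num at this
  have hKle : K ≤ Cfsg.oddCore G := Cfsg.Agent.Lib.le_oddCore hKn hKodd
  rw [eq_top_iff]
  intro g _
  rcases hcase g with h | h
  · exact Subgroup.mem_sup_right (hKle h)
  · have : g = u⁻¹ * (u * g) := by group
    have h' : u * g ∈ K := by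
      have := hKn.conj_mem _ h u
      have e : u * (g * u) * u⁻¹ = u * g := by group
      rwa [e] at this
    rw [this]
    exact Subgroup.mul_mem _ (Subgroup.mem_sup_left (Subgroup.inv_mem _ (Subgroup.mem_zpowers u)))
      (Subgroup.mem_sup_right (hKle h'))

omit [Finite G] in
/-- If `G = ⟨u⟩ N` with `N` normal then `G' ≤ N`. -/
theorem commutator_le_of_zpowers_sup (N : Subgroup G) [hN : N.Normal]
    (h : Subgroup.zpowers u ⊔ N = ⊤) : commutator G ≤ N := by
  rw [commutator_def, Subgroup.commutator_le]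
  intro g _ k _
  have hpow : ∀ x : G, ∃ n : ℤ, (QuotientGroup.mk x : G ⧸ N) = (QuotientGroup.mk u) ^ n := by
    intro x
    have hx : x ∈ Subgroup.zpowers u ⊔ N := by rw [h]; trivial
    rw [← SetLike.mem_coe, Subgroup.mul_normal] at hx
    obtain ⟨a, ha, b, hb, rfl⟩ := Set.mem_mul.1 hx
    obtain ⟨n, rfl⟩ := Subgroup.mem_zpowers_iff.1 ha
    refine ⟨n, ?_⟩
    rw [QuotientGroup.mk_mul, (QuotientGroup.eq_one_iff b).2 hb, mul_one, QuotientGroup.mk_zpow]
  obtain ⟨a, ha⟩ := hpow g
  obtain ⟨b, hb⟩ := hpow k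
  rw [← QuotientGroup.eq_one_iff]
  rw [commutatorElement_def, QuotientGroup.mk_mul, QuotientGroup.mk_mul, QuotientGroup.mk_mul,
    QuotientGroup.mk_inv, QuotientGroup.mk_inv, ha, hb]
  rw [← zpow_add, ← zpow_neg, ← zpow_neg, ← zpow_add, ← zpow_add]
  have : a + b + -a + -b = 0 := by ring
  rw [this, zpow_zero]

/-- (a) implies that `G` is not perfect. -/
theorem not_perfect_of_structure (hord : orderOf u = 2)
    (hsup : Subgroup.zpowers u ⊔ Cfsg.oddCore G = ⊤) : commutator G ≠ ⊤ := by
  intro htop
  have hn : (Cfsg.oddCore G).Normal :=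
    @Subgroup.normal_of_characteristic _ _ _ (Cfsg.Agent.Lib.pPrimeCore_characteristic 2)
  have hle := commutator_le_of_zpowers_sup u (Cfsg.oddCore G) hsup
  rw [htop, top_le_iff] at hle
  have hodd := Cfsg.Agent.Lib.odd_card_oddCore (G := G)
  rw [hle, Subgroup.card_top] at hodd
  have h2 : 2 ∣ Nat.card G := by
    rw [← hord]; exact orderOf_dvd_natCard u
  exact (Nat.not_even_iff_odd.2 hodd) (even_iff_two_dvd.2 h2)

end

/-- Let u ≠ 1 be an element of the finite group G and c a complex number such that every non-principal irreducible character χ satisfies χ(1) − χ(u) = c or χ(u) = 0. Then the following are equivalent: (a) u has order 2, G is generated by u together with O(G), the largest normal subgroup of G of odd order, and the centralizer of u is {1, u}; (b) G is not perfect; (c) c = 2. -/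
theorem result {G : Type*} [Group G] [Finite G] (u : G) (hu : u ≠ 1) (c : ℂ) (hyp : ∀ χ : Cfsg.IrrCharacter G, (χ : G → ℂ) ≠ (fun _ => (1 : ℂ)) → ((χ : G → ℂ) 1 - (χ : G → ℂ) u = c ∨ (χ : G → ℂ) u = 0)) : ((orderOf u = 2 ∧ Subgroup.zpowers u ⊔ Cfsg.oddCore G = ⊤ ∧ Subgroup.centralizer ({u} : Set G) = Subgroup.zpowers u) ↔ commutator G ≠ ⊤) ∧ (commutator G ≠ ⊤ ↔ c = 2) := by
  refine ⟨⟨?_, ?_⟩, ⟨?_, ?_⟩⟩
  · rintro ⟨hord, hsup, -⟩
    exact not_perfect_of_structure u hord hsup
  · intro hnp
    obtain ⟨hord, hcent⟩ := centralizer_eq u hu c hyp hnp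
    exact ⟨hord, sup_oddCore u hu c hyp hnp, hcent⟩
  · intro hnp
    exact (key u hu c hyp hnp).1
  · intro hc
    exact not_perfect_of_c_eq_two u hu c hyp hc

end Cfsg.Agent.S4757
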