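import Cfsg.Statements.S4762
import Mathlib
import Cfsg.Agent.Helper80.Extraspecial

set_option autoImplicit false
open Cfsg

namespace Cfsg.Agent.S4762

open Cfsg.Agent.Helper80

/-- Let p be a prime and G a finite nilpotent group. Then G has exactly one irreducible complex character of degree divisible by p if and only if p = 2 and G is an extraspecial 2-group. -/
theorem result {G : Type*} [Group G] [Finite G] [Group.IsNilpotent G] (p : ℕ) [Fact p.Prime] : Nat.card {χ : Cfsg.IrrCharacter G // p ∣ Cfsg.charDegree (χ : G → ℂ)} = 1 ↔ (p = 2 ∧ Cfsg.IsExtraspecial 2 G) := by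
  constructor
  · intro h
    obtain ⟨hsub, ⟨⟨χ₀, h0⟩⟩⟩ := Nat.card_eq_one_iff_unique.mp h
    have hp : p.Prime := Fact.out
    have huniq : ∀ ψ : Cfsg.IrrCharacter G, p ∣ Cfsg.charDegree (ψ : G → ℂ) → ψ = χ₀ :=
      fun ψ hψ => congrArg Subtype.val
        (Subsingleton.elim (⟨ψ, hψ⟩ : {χ : Cfsg.IrrCharacter G // p ∣ Cfsg.charDegree (χ : G → ℂ)})
          ⟨χ₀, h0⟩)
    have hG := isPGroup_of_nilpotent_of_unique p χ₀ h0 huniq
    have h0' : Cfsg.charDegree (χ₀ : G → ℂ) ≠ 1 := by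
      intro h1
      rw [h1] at h0
      exact hp.one_lt.ne' (Nat.dvd_one.mp h0)
    have huniq' : ∀ ψ : Cfsg.IrrCharacter G, Cfsg.charDegree (ψ : G → ℂ) ≠ 1 → ψ = χ₀ := by
      intro ψ hψ
      apply huniq
      obtain ⟨n, hn⟩ := IsPGroup.iff_card.mp hG
      have h1 := IsIrrCharacter.charDegree_dvd_card ψ.2
      rw [hn] at h1
      obtain ⟨j, -, hj⟩ := (Nat.dvd_prime_pow hp).mp h1
      rw [hj]
      rcases Nat.eq_zero_or_pos j with h | h
      · rw [hj, h, pow_zero] at hψ; exact absurd rfl hψ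
      · exact dvd_pow_self p h.ne'
    exact extraspecial_of_isPGroup_of_unique p hG χ₀ h0' huniq'
  · rintro ⟨rfl, h⟩
    exact card_even_degree_of_extraspecial h

end Cfsg.Agent.S4762
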