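import Cfsg.Statements.S4765
import Cfsg.Agent.Helper39.PSL2Steinberg
import Cfsg.Agent.S2299
import Cfsg.Agent.S2300

set_option autoImplicit false
open Cfsg

namespace Cfsg.Agent.S4765

/-- Let F be a finite field of characteristic p with at least 4 elements. Then PSL(2,F) has exactly one irreducible complex character of degree divisible by p, and its degree is the order of F. -/
theorem result (p : ℕ) [Fact p.Prime] (F : Type*) [Field F] [Fintype F] [CharP F p] (hF : 4 ≤ Fintype.card F) : Nat.card {χ : Cfsg.IrrCharacter (Matrix.ProjectiveSpecialLinearGroup (Fin 2) F) // p ∣ Cfsg.charDegree (χ : Matrix.ProjectiveSpecialLinearGroup (Fin 2) F → ℂ)} = 1 ∧ ∀ χ : Cfsg.IrrCharacter (Matrix.ProjectiveSpecialLinearGroup (Fin 2) F), p ∣ Cfsg.charDegree (χ : Matrix.ProjectiveSpecialLinearGroup (Fin 2) F → ℂ) → Cfsg.charDegree (χ : Matrix.ProjectiveSpecialLinearGroup (Fin 2) F → ℂ) = Fintype.card F := by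
  classical
  have hφ : Function.Surjective
      (QuotientGroup.mk' (Subgroup.center (Matrix.SpecialLinearGroup (Fin 2) F))) :=
    QuotientGroup.mk'_surjective _
  have hpp : p.Prime := Fact.out
  obtain ⟨n, -, hn⟩ := FiniteField.card F p
  have hpq : p ∣ Fintype.card F := by
    rw [hn]
    exact dvd_pow_self p n.ne_zero
  have hp2 : 2 ≤ p := hpp.two_le
  have hnd1 : ¬ p ∣ Fintype.card F + 1 := by
    intro h
    have := (Nat.dvd_add_right hpq).mp h
    have := Nat.le_of_dvd (by norm_num) this
    omega
  have hnd2 : ¬ p ∣ Fintype.card F - 1 := by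
    intro h
    have h1 : p ∣ (Fintype.card F - 1) + 1 := by
      have : Fintype.card F - 1 + 1 = Fintype.card F := by omega
      rw [this]
      exact hpq
    have := (Nat.dvd_add_right h).mp h1
    have := Nat.le_of_dvd (by norm_num) this
    omega
  have hcastq : ∀ {G : Type _} [Group G] {ψ : G → ℂ}, IsCharacter G ψ → ∀ m : ℕ, ψ 1 = (m : ℂ) →
      charDegree ψ = m := by
    intro G _ ψ hψ m h
    have := Cfsg.Agent.Helper74.charDegree_cast hψ
    rw [h] at this
    exact_mod_cast this
  -- the degrees of `SL₂(F)` divisible by `p`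
  have hdeg : ∀ ψ : Matrix.SpecialLinearGroup (Fin 2) F → ℂ,
      IsIrrCharacter (Matrix.SpecialLinearGroup (Fin 2) F) ψ → p ∣ charDegree ψ →
      ψ 1 = (Fintype.card F : ℂ) := by
    intro ψ hψ hdvd
    have hψc := Cfsg.Agent.Helper74.isCharacter_of_isIrr hψ
    have hq1 : 1 ≤ Fintype.card F := by omega
    by_cases h2 : p = 2
    · subst h2
      rcases (Cfsg.Agent.S2300.result (F := F)).1 ψ hψ with h | h | h | h
      · exfalso
        have := hcastq hψc 1 (by rw [h]; simp)
        rw [this] at hdvd
        have := Nat.le_of_dvd (by norm_num) hdvd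
        omega
      · exfalso
        have := hcastq hψc (Fintype.card F - 1) (by rw [h, Nat.cast_sub hq1]; simp)
        rw [this] at hdvd
        exact hnd2 hdvd
      · exact h
      · exfalso
        have := hcastq hψc (Fintype.card F + 1) (by rw [h]; push_cast; ring)
        rw [this] at hdvd
        exact hnd1 hdvd
    · have hodd : Odd (Fintype.card F) := by
        rw [hn]
        exact (hpp.odd_of_ne_two h2).pow
      obtain ⟨j, hj⟩ := hodd
      rcases (Cfsg.Agent.S2299.result (F := F) ⟨j, hj⟩).1 ψ hψ with h | h | h | h | h | h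
      · exfalso
        have := hcastq hψc 1 (by rw [h]; simp)
        rw [this] at hdvd
        have := Nat.le_of_dvd (by norm_num) hdvd
        omega
      · exact h
      · exfalso
        have := hcastq hψc (Fintype.card F + 1) (by rw [h]; push_cast; ring)
        rw [this] at hdvd
        exact hnd1 hdvd
      · exfalso
        have := hcastq hψc (Fintype.card F - 1) (by rw [h, Nat.cast_sub hq1]; simp)
        rw [this] at hdvd
        exact hnd2 hdvd
      · exfalso
        have := hcastq hψc _ h
        rw [this] at hdvd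
        apply hnd1
        have h2' : Fintype.card F + 1 = 2 * ((Fintype.card F + 1) / 2) := by omega
        rw [h2']
        exact Dvd.dvd.mul_left hdvd 2
      · exfalso
        have := hcastq hψc _ h
        rw [this] at hdvd
        apply hnd2
        have h2' : Fintype.card F - 1 = 2 * ((Fintype.card F - 1) / 2) := by omega
        rw [h2']
        exact Dvd.dvd.mul_left hdvd 2
  -- uniqueness of the character of degree `q` of `SL₂(F)`
  have huniq : ∀ ψ ψ' : IrrCharacter (Matrix.SpecialLinearGroup (Fin 2) F),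
      (ψ : Matrix.SpecialLinearGroup (Fin 2) F → ℂ) 1 = (Fintype.card F : ℂ) →
      (ψ' : Matrix.SpecialLinearGroup (Fin 2) F → ℂ) 1 = (Fintype.card F : ℂ) → ψ = ψ' := by
    intro ψ ψ' h h'
    have hcard : Nat.card {χ : IrrCharacter (Matrix.SpecialLinearGroup (Fin 2) F) //
        (χ : Matrix.SpecialLinearGroup (Fin 2) F → ℂ) 1 = (Fintype.card F : ℂ)} = 1 := by
      by_cases h2 : p = 2
      · subst h2
        exact ((Cfsg.Agent.S2300.result (F := F)).2 hF).2.1
      · have hodd : Odd (Fintype.card F) := by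
          rw [hn]
          exact (hpp.odd_of_ne_two h2).pow
        have h5 : 5 ≤ Fintype.card F := by
          obtain ⟨j, hj⟩ := hodd
          omega
        exact ((Cfsg.Agent.S2299.result (F := F) hodd).2 h5).2.1
    obtain ⟨hss, -⟩ := Nat.card_eq_one_iff_unique.mp hcard
    have := hss.elim ⟨ψ, h⟩ ⟨ψ', h'⟩
    exact congrArg Subtype.val this
  -- inflation
  have hinf : ∀ χ : IrrCharacter (Matrix.ProjectiveSpecialLinearGroup (Fin 2) F),
      IsIrrCharacter (Matrix.SpecialLinearGroup (Fin 2) F)
        (fun g => (χ : Matrix.ProjectiveSpecialLinearGroup (Fin 2) F → ℂ)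
          (QuotientGroup.mk' (Subgroup.center (Matrix.SpecialLinearGroup (Fin 2) F)) g)) :=
    fun χ => Cfsg.Agent.Helper80.IsIrrCharacter.comp_surjective χ.2 _ hφ
  have hinfdeg : ∀ χ : IrrCharacter (Matrix.ProjectiveSpecialLinearGroup (Fin 2) F),
      charDegree (fun g => (χ : Matrix.ProjectiveSpecialLinearGroup (Fin 2) F → ℂ)
          (QuotientGroup.mk' (Subgroup.center (Matrix.SpecialLinearGroup (Fin 2) F)) g)) =
        charDegree (χ : Matrix.ProjectiveSpecialLinearGroup (Fin 2) F → ℂ) := by
    intro χ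
    apply hcastq (Cfsg.Agent.Helper74.isCharacter_of_isIrr (hinf χ))
    rw [Cfsg.Agent.Helper74.charDegree_cast (Cfsg.Agent.Helper74.isCharacter_of_isIrr χ.2)]
    simp
  have hval : ∀ χ : IrrCharacter (Matrix.ProjectiveSpecialLinearGroup (Fin 2) F),
      p ∣ charDegree (χ : Matrix.ProjectiveSpecialLinearGroup (Fin 2) F → ℂ) →
      (χ : Matrix.ProjectiveSpecialLinearGroup (Fin 2) F → ℂ) 1 = (Fintype.card F : ℂ) := by
    intro χ hdvd
    have := hdeg _ (hinf χ) (by rw [hinfdeg χ]; exact hdvd)
    simpa using this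
  refine ⟨?_, ?_⟩
  · rw [Nat.card_eq_one_iff_unique]
    constructor
    · constructor
      rintro ⟨χ, h⟩ ⟨χ', h'⟩
      apply Subtype.ext
      have e := huniq ⟨_, hinf χ⟩ ⟨_, hinf χ'⟩ (by simpa using hval χ h) (by simpa using hval χ' h')
      have e' := congrArg Subtype.val e
      simp only at e'
      apply Subtype.ext
      funext x
      obtain ⟨g, rfl⟩ := hφ x
      exact congrFun e' g
    · obtain ⟨χ₀, hχ₀, hχ₀1⟩ := Cfsg.Agent.Helper39.exists_steinberg_psl (F := F)
      refine ⟨⟨⟨χ₀, hχ₀⟩, ?_⟩⟩
      show p ∣ charDegree χ₀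
      rw [hcastq (Cfsg.Agent.Helper74.isCharacter_of_isIrr hχ₀) _ hχ₀1]
      exact hpq
  · intro χ hdvd
    exact hcastq (Cfsg.Agent.Helper74.isCharacter_of_isIrr χ.2) _ (hval χ hdvd)

end Cfsg.Agent.S4765
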