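import Cfsg.Statements.S4768
-- import your own Cfsg.Agent.* helpers here
import Cfsg.Agent.S4713
import Cfsg.Agent.Helper82.DerivedAux
import Cfsg.Agent.Helper82.PSingCount
import Cfsg.Agent.Helper82.PSingCaseC
import Cfsg.Agent.Helper91.PSolvNorm
import Cfsg.Agent.Helper11.PSolvable
import Cfsg.Agent.Lib.Cores

set_option autoImplicit false
open Cfsg

namespace Cfsg.Agent.S4768

open Cfsg.Agent.Helper82

universe u

/-- the restriction of the quotient map to a Sylow subgroup, landing in the image Sylow subgroup -/
noncomputable def sylowQuot {G : Type u} [Group G] [Finite G] (p : ℕ) [Fact p.Prime]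
    (N : Subgroup G) [N.Normal] (P : Sylow p G) :
    ↥(P : Subgroup G) →*
      ↥((P.mapSurjective (QuotientGroup.mk'_surjective N) : Sylow p (G ⧸ N)) : Subgroup (G ⧸ N)) :=
  ((QuotientGroup.mk' N).comp (P : Subgroup G).subtype).codRestrict _ (fun x => by
    rw [Sylow.coe_mapSurjective]
    exact Subgroup.mem_map_of_mem _ x.2)

theorem sylowQuot_eq_one_iff {G : Type u} [Group G] [Finite G] (p : ℕ) [Fact p.Prime]
    (N : Subgroup G) [N.Normal] (P : Sylow p G) (x : ↥(P : Subgroup G)) :
    sylowQuot p N P x = 1 ↔ (x : G) ∈ N := by
  rw [← QuotientGroup.eq_one_iff (N := N) (x : G)]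
  have hcoe : ((sylowQuot p N P x : _) : G ⧸ N) = ((x : G) : G ⧸ N) := rfl
  constructor
  · intro h
    rw [← hcoe, h]
    rfl
  · intro h
    apply Subtype.ext
    rw [hcoe, h]
    rfl

theorem card_quotient_lt {G : Type u} [Group G] [Finite G] (N : Subgroup G) [N.Normal]
    (hN1 : N ≠ ⊥) : Nat.card (G ⧸ N) < Nat.card G := by
  rw [← Subgroup.index_eq_card, ← Subgroup.index_mul_card N]
  have h1 : 1 < Nat.card N := by
    rw [Finite.one_lt_card_iff_nontrivial]
    exact (Subgroup.nontrivial_iff_ne_bot N).2 hN1
  have h2 : 0 < N.index := Nat.pos_of_ne_zero N.index_ne_zero_of_finite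
  calc N.index = N.index * 1 := (mul_one _).symm
    _ < N.index * Nat.card N := Nat.mul_lt_mul_of_pos_left h1 h2

theorem main_aux (p : ℕ) [Fact p.Prime] : ∀ (n : ℕ) (G : Type u) [Group G] [Finite G],
    Nat.card G = n → IsPSolvable p G → ∀ (P : Sylow p G) (m : ℕ),
    Nat.card {χ : IrrCharacter G // p ∣ charDegree (χ : G → ℂ)} ≤ m →
    derivedSeries ↥(P : Subgroup G) (m + 1) = ⊥ := by
  intro n
  induction n using Nat.strong_induction_on with
  | _ n ih =>
    intro G _ _ hn hps P m hm
    have hp : p.Prime := Fact.out
    by_cases h0 : ∀ χ : IrrCharacter G, ¬ p ∣ charDegree (χ : G → ℂ)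
    · -- Ito-Michler: `P` is abelian
      obtain ⟨-, hc⟩ := (Cfsg.Agent.S4713.result p hps P).2 h0
      have h1 : derivedSeries ↥(P : Subgroup G) (0 + 1) = ⊥ := by
        apply derivedSeries_succ_eq_bot_of_ker_comm (1 : ↥(P : Subgroup G) →* Unit)
        · intro a b _ _
          exact hc.is_comm.comm a b
        · intro x _
          rfl
      exact derivedSeries_eq_bot_of_le (by omega) h1
    · push Not at h0
      obtain ⟨χ₀, hχ₀⟩ := h0
      have hm1 : 1 ≤ m := by
        refine le_trans ?_ hm
        have := Helper74.irr_finite (G := G)
        rw [Nat.succ_le_iff, Nat.card_pos_iff]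
        exact ⟨⟨⟨χ₀, hχ₀⟩⟩, inferInstance⟩
      rcases subsingleton_or_nontrivial G with hG | hG
      · rw [eq_bot_iff]
        intro x _
        rw [Subgroup.mem_bot]
        apply Subtype.ext
        exact Subsingleton.elim _ _
      · by_cases hA : pPrimeCore p G ≠ ⊥
        · -- Case A : a nontrivial normal `p'`-subgroup
          have : (pPrimeCore p G).Normal := by
            have := Lib.pPrimeCore_characteristic (G := G) p
            infer_instance
          have hcop := Lib.card_pPrimeCore_coprime (G := G) p
          have hIH := ih (Nat.card (G ⧸ pPrimeCore p G)) (hn ▸ card_quotient_lt _ hA)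
            (G ⧸ pPrimeCore p G) rfl (Helper11.isPSolvable_quotient _ hps)
            (P.mapSurjective (QuotientGroup.mk'_surjective _)) m
            (le_trans (card_pSing_quotient_le p _) hm)
          refine derivedSeries_eq_bot_of_injective (sylowQuot p (pPrimeCore p G) P) ?_ _ hIH
          rw [injective_iff_map_eq_one]
          intro x hx
          rw [sylowQuot_eq_one_iff] at hx
          have h1 : (x : G) ∈ (P : Subgroup G) ⊓ pPrimeCore p G := ⟨x.2, hx⟩
          have h2 : (P : Subgroup G) ⊓ pPrimeCore p G = ⊥ := by
            rw [← disjoint_iff]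
            apply Subgroup.disjoint_of_coprime_natCard
            obtain ⟨k, hk⟩ := IsPGroup.iff_card.1 P.2
            rw [hk]
            exact (Nat.Coprime.pow_left k hcop.symm)
          rw [h2, Subgroup.mem_bot] at h1
          exact Subtype.ext h1
        · -- `O_p(G) ≠ 1`
          have hV : pCore p G ≠ ⊥ := by
            rcases Helper91.pCore_ne_bot_or_pPrimeCore_ne_bot hps with h | h
            · exact h
            · exact absurd h hA
          have hVn : (pCore p G).Normal := by
            have := Lib.pCore_characteristic (G := G) p
            infer_instance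
          have hVp : IsPGroup p (pCore p G) := Lib.isPGroup_pCore p
          obtain ⟨M, hM⟩ : ∃ M : Subgroup G,
              M = pCore p G ⊓ Subgroup.centralizer (pCore p G : Set G) := ⟨_, rfl⟩
          have hMn : M.Normal := by
            rw [hM]
            have : (Subgroup.centralizer (pCore p G : Set G)).Normal := Subgroup.normal_centralizer
            infer_instance
          have hMp : IsPGroup p M := by
            have hle : M ≤ pCore p G := hM ▸ inf_le_left
            exact hVp.to_le hle
          have hMc : ∀ a ∈ M, ∀ b ∈ M, a * b = b * a := by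
            intro a ha b hb
            rw [hM] at ha hb
            exact (Subgroup.mem_centralizer_iff.1 hb.2 a ha.1)
          have hM1 : M ≠ ⊥ := by
            have : Nontrivial (pCore p G) := (Subgroup.nontrivial_iff_ne_bot _).2 hV
            have hcn := IsPGroup.center_nontrivial hVp
            obtain ⟨z, hz⟩ := exists_ne (1 : Subgroup.center (pCore p G))
            intro hbot
            have hzM : ((z : pCore p G) : G) ∈ M := by
              rw [hM]
              refine ⟨(z : pCore p G).2, ?_⟩
              show ((z : pCore p G) : G) ∈ Subgroup.centralizer (pCore p G : Set G)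
              rw [Subgroup.mem_centralizer_iff]
              intro v hv
              have := Subgroup.mem_center_iff.1 z.2 ⟨v, hv⟩
              exact congrArg Subtype.val this
            rw [hbot, Subgroup.mem_bot] at hzM
            apply hz
            apply Subtype.ext
            apply Subtype.ext
            exact hzM
          have hMP : M ≤ (P : Subgroup G) := Lib.normal_pGroup_le_sylow hMn hMp P
          by_cases hB : ∃ χ : IrrCharacter G, p ∣ charDegree (χ : G → ℂ) ∧
              ∃ x ∈ M, (χ : G → ℂ) x ≠ (χ : G → ℂ) 1
          · -- Case B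
            obtain ⟨χ, hχp, x, hxM, hxne⟩ := hB
            have hlt := card_pSing_quotient_lt p M χ hχp hxM hxne
            have hIH := ih (Nat.card (G ⧸ M)) (hn ▸ card_quotient_lt _ hM1)
              (G ⧸ M) rfl (Helper11.isPSolvable_quotient _ hps)
              (P.mapSurjective (QuotientGroup.mk'_surjective _)) (m - 1) (by omega)
            have hm' : m - 1 + 1 = m := by omega
            rw [hm'] at hIH
            apply derivedSeries_succ_eq_bot_of_ker_comm (sylowQuot p M P) ?_ m
              (derivedSeries_map_eq_one _ m hIH)
            intro a b ha hb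
            rw [sylowQuot_eq_one_iff] at ha hb
            exact Subtype.ext (hMc _ ha _ hb)
          · -- Case C
            push Not at hB
            have h2 := derivedSeries_two_of_pSing_trivial p hps M hMp hMc hM1
              (fun χ hχ x hx => hB χ hχ x hx) P
            exact derivedSeries_eq_bot_of_le (by omega) h2

/-- Let p be a prime, G a finite p-solvable group and P a Sylow p-subgroup of G. If n is the number of irreducible complex characters of G whose degree is divisible by p, then the (n+1)-st term of the derived series of P is trivial. (The p-solvable case has a direct inductive proof.) -/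
theorem result {G : Type*} [Group G] [Finite G] (p : ℕ) [Fact p.Prime] (hG : Cfsg.IsPSolvable p G) (P : Sylow p G) : derivedSeries ↥(P : Subgroup G) (Nat.card {χ : Cfsg.IrrCharacter G // p ∣ Cfsg.charDegree (χ : G → ℂ)} + 1) = ⊥ := by
  exact main_aux p (Nat.card G) G rfl hG P _ le_rfl

end Cfsg.Agent.S4768
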