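import Cfsg.Statements.S4784
import Cfsg.Agent.Helper79.OddDegree
import Cfsg.Agent.Helper79.Counting
import Cfsg.Agent.Helper79.Linear
import Cfsg.Agent.Helper15.IndFun
import Cfsg.Agent.Helper80.Pullback

set_option autoImplicit false
set_option linter.unusedSectionVars false
open Cfsg

namespace Cfsg.Agent.S4784

open Cfsg.Agent.Helper79
open scoped ComplexConjugate

/-- In a group of odd order the only real-valued irreducible character is the principal one. -/
theorem eq_one_of_real_of_odd {Q : Type*} [Group Q] [Finite Q] (hodd : Odd (Nat.card Q))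
    (ψ : IrrCharacter Q) (hreal : ∀ q, conj ((ψ : Q → ℂ) q) = (ψ : Q → ℂ) q) :
    (ψ : Q → ℂ) = fun _ => (1 : ℂ) := by
  classical
  by_contra hne
  have := Fintype.ofFinite Q
  have hne' : ψ ≠ principalIrr Q := fun h => hne (by rw [h]; rfl)
  have hsum : ∑ q : Q, (ψ : Q → ℂ) q = 0 := by
    have h := classInner_irr_ne hne'
    unfold classInner at h
    have hc : (Nat.card Q : ℂ) ≠ 0 := card_ne_zero_complex
    rcases mul_eq_zero.1 h with h | h
    · exact absurd (inv_eq_zero.1 h) hc
    · simpa [principalIrr] using h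
  set f : Q → ℂ := fun q => if q = 1 then 0 else (ψ : Q → ℂ) q with hf
  have hfsum : ∑ q : Q, f q = - (ψ : Q → ℂ) 1 := by
    have : ∀ q, f q = (ψ : Q → ℂ) q - (if q = 1 then (ψ : Q → ℂ) 1 else 0) := by
      intro q
      simp only [hf]
      split_ifs with h
      · rw [h]; ring
      · ring
    simp only [this]
    rw [Finset.sum_sub_distrib, hsum, Finset.sum_ite_eq' Finset.univ (1 : Q)]
    simp
  have hfix : ∀ q : Q, q⁻¹ = q → q = 1 := by
    intro q hq
    have h2 : q ^ 2 = 1 := by rw [sq]; nth_rewrite 1 [← hq]; exact inv_mul_cancel q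
    have hd2 : orderOf q ∣ 2 := orderOf_dvd_of_pow_eq_one h2
    have hdq : orderOf q ∣ Nat.card Q := orderOf_dvd_natCard q
    rcases (Nat.dvd_prime Nat.prime_two).1 hd2 with h | h
    · exact orderOf_eq_one_iff.1 h
    · exfalso
      rw [h] at hdq
      exact (Nat.not_even_iff_odd.2 hodd) (even_iff_two_dvd.2 hdq)
  have hmem := sum_mem_twoInt_of_involution (fun q : Q => q⁻¹) inv_inv f
    (by
      intro q
      simp only [hf, inv_eq_one]
      split_ifs
      · rfl
      · rw [irr_inv, hreal])
    (by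
      intro q
      simp only [hf]
      split_ifs
      · exact isIntegral_zero
      · exact Helper80.IsCharacter.isIntegral (irr_isCharacter ψ) q)
    (by
      intro q hq
      simp only [hf]
      rw [if_pos (hfix q hq)]
      exact twoInt.zero_mem)
  rw [hfsum] at hmem
  have hmem' := twoInt.neg_mem hmem
  rw [neg_neg, mem_twoInt, irr_one] at hmem'
  have h2 : IsIntegral ℤ (((charDegree (ψ : Q → ℂ) : ℕ) : ℂ) / ((2 : ℕ) : ℂ)) := by
    simpa using hmem'
  have hdvd := Helper80.dvd_of_isIntegral_div (by norm_num) h2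
  have hdvd2 := hdvd.trans (Helper80.IsIrrCharacter.charDegree_dvd_card ψ.2)
  exact (Nat.not_even_iff_odd.2 hodd) (even_iff_two_dvd.2 hdvd2)

section
variable {G : Type*} [Group G] [Fintype G] (H : Subgroup G)

/-- The multiplicity of an irreducible character in the permutation character on the cosets
of `H` is a natural number. -/
theorem classInner_indFun_one (χ : IrrCharacter G) :
    ∃ m : ℕ, classInner (indFun H (fun _ : H => (1 : ℂ))) (χ : G → ℂ) = m ∧
      ∀ [Fintype H], ∑ z : H, (χ : G → ℂ) z = (Nat.card H : ℂ) * m := by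
  classical
  have := Fintype.ofFinite H
  obtain ⟨m, hm⟩ := sum_subgroup_char (irr_isCharacter χ) H
  refine ⟨m, ?_, ?_⟩
  · rw [Helper15.frobenius_reciprocity H _ _ (irr_isClassFunction χ)]
    unfold classInner
    simp only [one_mul]
    rw [← map_sum, hm, map_mul, Complex.conj_natCast, Complex.conj_natCast, ← mul_assoc,
      inv_mul_cancel₀ card_ne_zero_complex, one_mul]
  · intro inst
    rw [← hm]
    exact Finset.sum_congr (by ext; simp) (fun _ _ => rfl)

/-- The permutation character takes the same value at the elements of the core as at `1`. -/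
theorem indFun_one_core (k : G) (hk : k ∈ H.normalCore) :
    indFun H (fun _ : H => (1 : ℂ)) k = indFun H (fun _ : H => (1 : ℂ)) 1 := by
  rw [Helper15.indFun_apply, Helper15.indFun_apply]
  congr 1
  refine Finset.sum_congr rfl fun x _ => ?_
  have h1 : x⁻¹ * k * x ∈ H := by
    have := (Subgroup.normalCore_normal H).conj_mem k hk x⁻¹
    rw [inv_inv] at this
    exact Subgroup.normalCore_le H this
  have h2 : x⁻¹ * 1 * x ∈ H := by
    rw [mul_one, inv_mul_cancel]; exact H.one_mem
  rw [Helper15.extendByZero_of_mem H _ h1, Helper15.extendByZero_of_mem H _ h2]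

/-- A constituent of the permutation character on the cosets of `H` has the core of `H` in its
kernel. -/
theorem core_le_ker (χ : IrrCharacter G)
    (hχ : classInner (indFun H (fun _ : H => (1 : ℂ))) (χ : G → ℂ) ≠ 0) (k : G)
    (hk : k ∈ H.normalCore) : (χ : G → ℂ) k = (χ : G → ℂ) 1 := by
  classical
  have : Finite (IrrCharacter G) := irr_finite'
  have := Fintype.ofFinite (IrrCharacter G)
  set π := indFun H (fun _ : H => (1 : ℂ)) with hπ
  have hexp := classFunction_expansion (Helper15.isClassFunction_indFun H (fun _ : H => (1 : ℂ)))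
  rw [← hπ] at hexp
  choose m hm using fun ψ : IrrCharacter G => classInner_indFun_one H ψ
  have hval : ∀ g : G, π g = ∑ ψ : IrrCharacter G, (m ψ : ℂ) * (ψ : G → ℂ) g := by
    intro g
    have := congrFun hexp g
    rw [Finset.sum_apply] at this
    rw [this]
    refine Finset.sum_congr rfl fun ψ _ => ?_
    rw [Pi.smul_apply, smul_eq_mul, hπ, (hm ψ).1]
  have heq := indFun_one_core H k hk
  rw [← hπ, hval k, hval 1] at heq
  -- compare real parts
  have hterm : ∀ ψ : IrrCharacter G,
      0 ≤ ((m ψ : ℂ) * (ψ : G → ℂ) 1).re - ((m ψ : ℂ) * (ψ : G → ℂ) k).re := by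
    intro ψ
    rw [irr_one ψ]
    have hn := Helper80.IsCharacter.norm_le (irr_isCharacter ψ) k
    have hre : ((ψ : G → ℂ) k).re ≤ (charDegree (ψ : G → ℂ) : ℝ) :=
      (Complex.re_le_norm _).trans hn
    have e1 : ((m ψ : ℂ) * ((charDegree (ψ : G → ℂ) : ℕ) : ℂ)).re
        = (m ψ : ℝ) * (charDegree (ψ : G → ℂ) : ℝ) := by
      rw [← Nat.cast_mul, Complex.natCast_re, Nat.cast_mul]
    rw [e1]
    have e2' : ((m ψ : ℂ) * (ψ : G → ℂ) k).re = (m ψ : ℝ) * ((ψ : G → ℂ) k).re := by
      have : ((m ψ : ℂ)) = ((m ψ : ℝ) : ℂ) := by simp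
      rw [this, Complex.re_ofReal_mul]
    rw [e2']
    have : 0 ≤ (m ψ : ℝ) := Nat.cast_nonneg _
    nlinarith
  have hsum0 : ∑ ψ : IrrCharacter G,
      (((m ψ : ℂ) * (ψ : G → ℂ) 1).re - ((m ψ : ℂ) * (ψ : G → ℂ) k).re) = 0 := by
    rw [Finset.sum_sub_distrib, ← Complex.re_sum, ← Complex.re_sum, heq, sub_self]
  have hzero := (Finset.sum_eq_zero_iff_of_nonneg (fun ψ _ => hterm ψ)).1 hsum0 χ
    (Finset.mem_univ _)
  have hmχ : (m χ : ℝ) ≠ 0 := by
    intro h0
    apply hχ
    rw [(hm χ).1]
    have : m χ = 0 := by exact_mod_cast h0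
    rw [this, Nat.cast_zero]
  have hmc : ((m χ : ℂ)) = ((m χ : ℝ) : ℂ) := by simp
  rw [hmc, Complex.re_ofReal_mul, Complex.re_ofReal_mul, ← mul_sub] at hzero
  have hre : ((χ : G → ℂ) k).re = ((χ : G → ℂ) 1).re := by
    rcases mul_eq_zero.1 hzero with h | h
    · exact absurd h hmχ
    · linarith
  rw [irr_one χ, Complex.natCast_re] at hre
  have hn := Helper80.IsCharacter.norm_le (irr_isCharacter χ) k
  have him : ((χ : G → ℂ) k).im = 0 := by
    have hsq := Complex.sq_norm ((χ : G → ℂ) k)
    rw [Complex.normSq_apply, hre] at hsq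
    have h1 : ‖(χ : G → ℂ) k‖ ^ 2 ≤ (charDegree (χ : G → ℂ) : ℝ) ^ 2 :=
      pow_le_pow_left₀ (norm_nonneg _) hn 2
    have h2 : ((χ : G → ℂ) k).im * ((χ : G → ℂ) k).im ≤ 0 := by nlinarith
    have h3 := mul_self_nonneg ((χ : G → ℂ) k).im
    have h4 : ((χ : G → ℂ) k).im * ((χ : G → ℂ) k).im = 0 := le_antisymm h2 h3
    exact mul_self_eq_zero.1 h4
  rw [irr_one χ]
  apply Complex.ext
  · rw [hre, Complex.natCast_re]
  · rw [him, Complex.natCast_im]

/-- If the core of `H` has odd index, a real-valued constituent of the permutation character is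
principal. -/
theorem eq_one_of_odd_index (hodd : Odd H.normalCore.index) (χ : IrrCharacter G)
    (hχ : classInner (indFun H (fun _ : H => (1 : ℂ))) (χ : G → ℂ) ≠ 0)
    (hreal : ∀ g : G, (starRingEnd ℂ) ((χ : G → ℂ) g) = (χ : G → ℂ) g) :
    (χ : G → ℂ) = fun _ => (1 : ℂ) := by
  have hn : H.normalCore.Normal := Subgroup.normalCore_normal H
  have hker : ∀ n ∈ H.normalCore, (χ : G → ℂ) n = (χ : G → ℂ) 1 := core_le_ker H χ hχ
  set ψ : IrrCharacter (G ⧸ H.normalCore) :=
    (Helper80.irrQuotientEquiv H.normalCore).symm ⟨χ, hker⟩ with hψ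
  have hψg : ∀ g : G, (ψ : G ⧸ H.normalCore → ℂ) (g : G ⧸ H.normalCore) = (χ : G → ℂ) g :=
    fun g => Helper80.irrQuotientEquiv_symm_apply H.normalCore ⟨χ, hker⟩ g
  have hψreal : ∀ q, conj ((ψ : G ⧸ H.normalCore → ℂ) q) = (ψ : G ⧸ H.normalCore → ℂ) q := by
    intro q
    obtain ⟨g, rfl⟩ := QuotientGroup.mk_surjective q
    rw [hψg, hreal]
  have hcard : Odd (Nat.card (G ⧸ H.normalCore)) := by
    rw [← Subgroup.index_eq_card]; exact hodd
  have h1 := eq_one_of_real_of_odd hcard ψ hψreal
  funext g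
  rw [← hψg g, h1]

/-- The principal character satisfies the three conditions. -/
theorem principal_mem :
    classInner (indFun H (fun _ : H => (1 : ℂ))) ((principalIrr G : IrrCharacter G) : G → ℂ) ≠ 0 ∧
    (∀ g : G, (starRingEnd ℂ) (((principalIrr G : IrrCharacter G) : G → ℂ) g)
      = ((principalIrr G : IrrCharacter G) : G → ℂ) g) ∧
    (Nat.card G : ℂ)⁻¹ * ∑ g : G, ((principalIrr G : IrrCharacter G) : G → ℂ) (g * g) = 1 := by
  classical
  have := Fintype.ofFinite H
  refine ⟨?_, fun g => by simp [principalIrr], ?_⟩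
  · obtain ⟨m, hm1, hm2⟩ := classInner_indFun_one H (principalIrr G)
    rw [hm1]
    have h2 := hm2
    simp only [principalIrr, Finset.sum_const, Finset.card_univ, nsmul_eq_mul, mul_one] at h2
    rw [← Nat.card_eq_fintype_card] at h2
    have hc : (Nat.card H : ℂ) ≠ 0 := card_ne_zero_complex
    have : (m : ℂ) = 1 := by
      have h3 : (Nat.card H : ℂ) * 1 = (Nat.card H : ℂ) * m := by rw [mul_one]; exact h2
      exact (mul_left_cancel₀ hc h3).symm
    rw [this]; exact one_ne_zero
  · exact Helper81.fsInd_one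

/-- If the core of `H` has even index there is an element outside `H` whose square lies in `H`. -/
theorem exists_sq_mem_of_even (heven : Even H.normalCore.index) :
    ∃ t : G, t ∉ H ∧ t * t ∈ H := by
  have hn : H.normalCore.Normal := Subgroup.normalCore_normal H
  have h2 : 2 ∣ Nat.card (G ⧸ H.normalCore) := by
    rw [← Subgroup.index_eq_card]; exact even_iff_two_dvd.1 heven
  obtain ⟨q, hq⟩ := exists_prime_orderOf_dvd_card' 2 h2
  obtain ⟨t, rfl⟩ := QuotientGroup.mk_surjective q
  have ht1 : t ∉ H.normalCore := by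
    intro h
    have : ((t : G ⧸ H.normalCore)) = 1 := (QuotientGroup.eq_one_iff t).2 h
    rw [this, orderOf_one] at hq
    norm_num at hq
  have ht2 : t * t ∈ H.normalCore := by
    have := pow_orderOf_eq_one (t : G ⧸ H.normalCore)
    rw [hq, sq, ← QuotientGroup.mk_mul] at this
    exact (QuotientGroup.eq_one_iff _).1 this
  have : ∃ b : G, b * t * b⁻¹ ∉ H := by
    by_contra hall
    push Not at hall
    exact ht1 hall
  obtain ⟨b, hb⟩ := this
  refine ⟨b * t * b⁻¹, hb, ?_⟩
  have := hn.conj_mem _ ht2 b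
  have e : b * (t * t) * b⁻¹ = b * t * b⁻¹ * (b * t * b⁻¹) := by group
  rw [e] at this
  exact Subgroup.normalCore_le H this

/-- If some `t ∉ H` has `t² ∈ H`, a nonprincipal irreducible constituent of the permutation
character has Frobenius–Schur indicator `1`. -/
theorem exists_nonprincipal (t : G) (ht : t ∉ H) (htt : t * t ∈ H) :
    ∃ χ : IrrCharacter G, (χ : G → ℂ) ≠ (fun _ => (1 : ℂ)) ∧
      classInner (indFun H (fun _ : H => (1 : ℂ))) (χ : G → ℂ) ≠ 0 ∧
      (Nat.card G : ℂ)⁻¹ * ∑ g : G, (χ : G → ℂ) (g * g) = 1 := by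
  classical
  have := Fintype.ofFinite H
  have : Finite (IrrCharacter G) := irr_finite'
  have := Fintype.ofFinite (IrrCharacter G)
  choose m hm using fun ψ : IrrCharacter G => classInner_indFun_one H ψ
  -- integer valued indicator
  set a : IrrCharacter G → ℤ := fun χ =>
    if Helper81.fsInd (χ : G → ℂ) = 1 then 1 else if Helper81.fsInd (χ : G → ℂ) = -1 then -1 else 0
    with ha
  have hafs : ∀ χ : IrrCharacter G, Helper81.fsInd (χ : G → ℂ) = (a χ : ℂ) := by
    intro χ
    simp only [ha]
    rcases Helper81.fsInd_trichotomy χ.2 with h | h | h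
    · rw [h]; norm_num
    · rw [h]; norm_num
    · rw [h]; norm_num
  have ha1 : ∀ χ : IrrCharacter G, a χ ≤ 1 := by
    intro χ
    simp only [ha]
    split_ifs <;> norm_num
  -- counting square roots of elements of `H`
  have hcount : (∑ h : H, (Nat.card {u : G // u * u = (h : G)} : ℂ))
      = (Nat.card H : ℂ) * ∑ χ : IrrCharacter G, ((a χ * (m χ : ℤ) : ℤ) : ℂ) := by
    simp only [Helper81.card_sqrt]
    rw [Finset.sum_comm, Finset.mul_sum]
    refine Finset.sum_congr rfl fun χ _ => ?_
    rw [← Finset.mul_sum, (hm χ).2, hafs χ]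
    push_cast
    ring
  -- there are more than `|H|` such square roots
  have hinj : Nat.card (Option H) ≤ Nat.card (Σ h : H, {u : G // u * u = (h : G)}) := by
    let F : Option H → (Σ h : H, {u : G // u * u = (h : G)}) := fun o =>
      match o with
      | none => ⟨⟨t * t, htt⟩, ⟨t, rfl⟩⟩
      | some h => ⟨h * h, ⟨(h : G), rfl⟩⟩
    have hF : Function.Injective
        ((fun x : (Σ h : H, {u : G // u * u = (h : G)}) => (x.2 : G)) ∘ F) := by
      intro o1 o2 h12
      rcases o1 with _ | h1 <;> rcases o2 with _ | h2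
      · rfl
      · exfalso
        have h : t = (h2 : G) := h12
        exact ht (h ▸ h2.2)
      · exfalso
        have h : (h1 : G) = t := h12
        exact ht (h ▸ h1.2)
      · have h : (h1 : G) = (h2 : G) := h12
        rw [Subtype.ext h]
    exact Nat.card_le_card_of_injective F (Function.Injective.of_comp hF)
  rw [Nat.card_sigma, Finite.card_option] at hinj
  have hcount' : ((∑ h : H, Nat.card {u : G // u * u = (h : G)} : ℕ) : ℂ)
      = ((Nat.card H * ∑ χ : IrrCharacter G, (a χ * (m χ : ℤ)) : ℤ) : ℂ) := by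
    push_cast
    rw [hcount]
    push_cast
    rfl
  have hcountZ : ((∑ h : H, Nat.card {u : G // u * u = (h : G)} : ℕ) : ℤ)
      = (Nat.card H : ℤ) * ∑ χ : IrrCharacter G, (a χ * (m χ : ℤ)) := by
    have : (((∑ h : H, Nat.card {u : G // u * u = (h : G)} : ℕ) : ℤ) : ℂ)
        = (((Nat.card H : ℤ) * ∑ χ : IrrCharacter G, (a χ * (m χ : ℤ)) : ℤ) : ℂ) := by
      rw [← hcount']; push_cast; rfl
    exact_mod_cast this
  have hHpos : 0 < (Nat.card H : ℤ) := by exact_mod_cast Nat.card_pos
  have hS : 2 ≤ ∑ χ : IrrCharacter G, (a χ * (m χ : ℤ)) := by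
    by_contra hlt
    push Not at hlt
    have h1 : ∑ χ : IrrCharacter G, (a χ * (m χ : ℤ)) ≤ 1 := by omega
    have h2 : (Nat.card H : ℤ) * ∑ χ : IrrCharacter G, (a χ * (m χ : ℤ)) ≤ Nat.card H := by
      nlinarith
    rw [← hcountZ] at h2
    have h3 : (Nat.card H + 1 : ℤ) ≤ ((∑ h : H, Nat.card {u : G // u * u = (h : G)} : ℕ) : ℤ) := by
      exact_mod_cast hinj
    omega
  -- the principal character contributes `1`
  have hprinc : a (principalIrr G) * (m (principalIrr G) : ℤ) = 1 := by
    have h1 : a (principalIrr G) = 1 := by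
      have : Helper81.fsInd ((principalIrr G : IrrCharacter G) : G → ℂ) = 1 := Helper81.fsInd_one
      simp only [ha]
      rw [if_pos this]
    have h2 : m (principalIrr G) = 1 := by
      have h2 := (hm (principalIrr G)).2
      simp only [principalIrr, Finset.sum_const, Finset.card_univ, nsmul_eq_mul, mul_one] at h2
      rw [← Nat.card_eq_fintype_card] at h2
      have hc : (Nat.card H : ℂ) ≠ 0 := card_ne_zero_complex
      have h3 : (Nat.card H : ℂ) * 1 = (Nat.card H : ℂ) * (m (principalIrr G) : ℂ) := by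
        rw [mul_one]; exact h2
      exact_mod_cast (mul_left_cancel₀ hc h3).symm
    rw [h1, h2]; norm_num
  rw [← Finset.add_sum_erase Finset.univ _ (Finset.mem_univ (principalIrr G)), hprinc] at hS
  have hpos : 0 < ∑ χ ∈ (Finset.univ : Finset (IrrCharacter G)).erase (principalIrr G),
      a χ * (m χ : ℤ) := by omega
  obtain ⟨χ, hχmem, hχpos⟩ := Finset.exists_lt_of_sum_lt (s := (Finset.univ : Finset (IrrCharacter G)).erase (principalIrr G))
    (f := fun _ => (0 : ℤ)) (g := fun χ => a χ * (m χ : ℤ)) (by simpa using hpos)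
  have hχne : χ ≠ principalIrr G := (Finset.mem_erase.1 hχmem).1
  have hmnn : (0 : ℤ) ≤ (m χ : ℤ) := Int.natCast_nonneg _
  have haχ : a χ = 1 := by
    have := ha1 χ
    by_contra hne
    have : a χ ≤ 0 := by omega
    nlinarith
  have hmχ : m χ ≠ 0 := by
    intro h0
    rw [h0] at hχpos
    simp at hχpos
  refine ⟨χ, ?_, ?_, ?_⟩
  · intro h
    exact hχne (Subtype.ext h)
  · rw [(hm χ).1]
    exact_mod_cast hmχ
  · have := hafs χ
    rw [haχ] at this
    simpa [Helper81.fsInd] using this

end

/-- Let H be a subgroup of the finite group G and consider the permutation character of G on the cosets of H (the function induced from the principal character of H). Then exactly one irreducible constituent of it is real-valued with Frobenius–Schur indicator +1 (namely the principal character) if and only if the normal core of H has odd index in G. -/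
theorem result {G : Type*} [Group G] [Fintype G] (H : Subgroup G) : Nat.card {χ : Cfsg.IrrCharacter G // Cfsg.classInner (Cfsg.indFun H (fun _ : H => (1 : ℂ))) (χ : G → ℂ) ≠ 0 ∧ (∀ g : G, (starRingEnd ℂ) ((χ : G → ℂ) g) = (χ : G → ℂ) g) ∧ (Nat.card G : ℂ)⁻¹ * ∑ g : G, (χ : G → ℂ) (g * g) = 1} = 1 ↔ Odd H.normalCore.index := by
  constructor
  · intro hcard
    rw [← Nat.not_even_iff_odd]
    intro heven
    obtain ⟨t, ht, htt⟩ := exists_sq_mem_of_even H heven
    obtain ⟨χ, hχ1, hχ2, hχ3⟩ := exists_nonprincipal H t ht htt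
    rw [Nat.card_eq_one_iff_unique] at hcard
    obtain ⟨hsub, -⟩ := hcard
    have hχreal : ∀ g : G, (starRingEnd ℂ) ((χ : G → ℂ) g) = (χ : G → ℂ) g := by
      intro g
      have := Helper81.real_of_fsInd_eq_one χ.2 (by simpa [Helper81.fsInd] using hχ3) g
      exact Complex.conj_eq_iff_im.2 this
    have := hsub.elim ⟨χ, hχ2, hχreal, hχ3⟩ ⟨principalIrr G, principal_mem H⟩
    apply hχ1
    have h2 : χ = principalIrr G := congrArg Subtype.val this
    rw [h2]; rfl
  · intro hodd
    rw [Nat.card_eq_one_iff_unique]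
    refine ⟨⟨fun x y => ?_⟩, ⟨⟨principalIrr G, principal_mem H⟩⟩⟩
    have hx := eq_one_of_odd_index H hodd x.1 x.2.1 x.2.2.1
    have hy := eq_one_of_odd_index H hodd y.1 y.2.1 y.2.2.1
    exact Subtype.ext (Subtype.ext (hx.trans hy.symm))

end Cfsg.Agent.S4784
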