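import Cfsg.Statements.S4796
import Mathlib
import Cfsg.Agent.Helper80.Inertia

set_option autoImplicit false
open Cfsg

namespace Cfsg.Agent.S4796

open Cfsg.Agent.Helper80
open scoped Pointwise

theorem mem_conj_smul {G : Type*} [Group G] (H : Subgroup G) (g y : G) :
    y ∈ MulAut.conj g • H ↔ ∃ h ∈ H, g * h * g⁻¹ = y := by
  rw [Subgroup.mem_smul_pointwise_iff_exists]
  simp [MulAut.smul_def]

/-- Group-theoretic core: a normal self-centralizing subgroup of prime order with a nontrivial
complement gives a Frobenius group. -/
theorem frobenius_of_self_centralizing {G : Type*} [Group G] [Finite G] (p : ℕ) (hp : p.Prime)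
    (P : Subgroup G) [P.Normal] (hP : Nat.card P = p) (hidx : 1 < P.index)
    (hcop : Nat.Coprime p P.index)
    (hcent : Subgroup.centralizer (P : Set G) ≤ P) :
    ∃ H : Subgroup G, IsFrobeniusComplement H ∧ Nat.card ↥(frobeniusKernel H) = p := by
  have hpf : Fact p.Prime := ⟨hp⟩
  obtain ⟨H, hH⟩ := Subgroup.exists_right_complement'_of_coprime (N := P) (by rw [hP]; exact hcop)
  have hdisj : P ⊓ H = ⊥ := hH.disjoint.eq_bot
  have hcardH : Nat.card H = P.index := by
    have h1 := hH.card_mul_card
    have h2 := Subgroup.card_mul_index P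
    rw [← h2] at h1
    exact Nat.eq_of_mul_eq_mul_left (by rw [hP]; exact hp.pos) h1
  -- every element is x * h
  have hdecomp : ∀ g : G, ∃ x ∈ P, ∃ h ∈ H, g = x * h := by
    intro g
    obtain ⟨⟨x, h⟩, hxh⟩ := hH.2 g
    exact ⟨x, x.2, h, h.2, hxh.symm⟩
  -- K1 : centralizers of nonidentity elements of P lie in P
  have hK1 : ∀ x ∈ P, x ≠ 1 → ∀ h : G, h * x = x * h → h ∈ P := by
    intro x hx hx1 h hcomm
    apply hcent
    rw [Subgroup.mem_centralizer_iff]
    intro y hy
    have hzp : Subgroup.zpowers (⟨x, hx⟩ : P) = ⊤ := by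
      apply zpowers_eq_top_of_prime_card hP
      intro h1; apply hx1; exact congrArg Subtype.val h1
    have : (⟨y, hy⟩ : P) ∈ Subgroup.zpowers (⟨x, hx⟩ : P) := by rw [hzp]; trivial
    obtain ⟨k, hk⟩ := Subgroup.mem_zpowers_iff.mp this
    have hyk : y = x ^ k := by
      have := congrArg Subtype.val hk
      simpa using this.symm
    rw [hyk]
    have hc : Commute h x := hcomm
    exact ((hc.zpow_right k).eq).symm
  have hmemPH : ∀ z, z ∈ P → z ∈ H → z = 1 := by
    intro z hzP hzH
    have : z ∈ P ⊓ H := ⟨hzP, hzH⟩
    rw [hdisj] at this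
    exact Subgroup.mem_bot.mp this
  refine ⟨H, ⟨?_, ?_, ?_⟩, ?_⟩
  · -- H ≠ ⊥
    intro h
    rw [h, Subgroup.card_bot] at hcardH
    omega
  · -- H ≠ ⊤
    intro h
    rw [h, Subgroup.card_top] at hcardH
    have h2 := Subgroup.card_mul_index P
    rw [hP, ← hcardH] at h2
    have : p = 1 := by
      have hpos : 0 < Nat.card G := Nat.card_pos
      have : p * Nat.card G = 1 * Nat.card G := by rw [h2, one_mul]
      exact Nat.eq_of_mul_eq_mul_right hpos this
    exact hp.one_lt.ne' this
  · -- trivial intersections
    intro g hg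
    rw [eq_bot_iff]
    intro y hy
    obtain ⟨hyH, hyg⟩ := hy
    rw [Subgroup.mem_bot]
    obtain ⟨h', hh', rfl⟩ := (mem_conj_smul H g y).mp hyg
    obtain ⟨x, hx, h₀, hh₀, rfl⟩ := hdecomp g
    have hx1 : x ≠ 1 := by
      rintro rfl
      apply hg
      simpa using hh₀
    set h'' := h₀ * h' * h₀⁻¹ with hh''def
    have hh'' : h'' ∈ H := H.mul_mem (H.mul_mem hh₀ hh') (H.inv_mem hh₀)
    have hy_eq : x * h₀ * h' * (x * h₀)⁻¹ = x * h'' * x⁻¹ := by
      rw [hh''def]; group
    rw [hy_eq] at hyH ⊢
    -- x h'' x⁻¹ h''⁻¹ ∈ P ∩ H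
    have h1 : x * h'' * x⁻¹ * h''⁻¹ ∈ P := by
      have : h'' * x⁻¹ * h''⁻¹ ∈ P := Subgroup.Normal.conj_mem inferInstance _ (P.inv_mem hx) h''
      have := P.mul_mem hx this
      convert this using 1
      group
    have h2 : x * h'' * x⁻¹ * h''⁻¹ ∈ H := H.mul_mem hyH (H.inv_mem hh'')
    have h3 := hmemPH _ h1 h2
    have h4 : x * h'' * x⁻¹ = h'' := by
      have := mul_inv_eq_one.mp h3
      exact this
    have h5 : h'' * x = x * h'' := by
      calc h'' * x = x * h'' * x⁻¹ * x := by rw [h4]
        _ = x * h'' := by group
    have h6 : h'' ∈ P := hK1 x hx hx1 h'' h5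
    have h7 := hmemPH _ h6 hh''
    rw [h4, h7]
  · -- the Frobenius kernel is P
    have hker : frobeniusKernel H = (P : Set G) := by
      ext y
      simp only [frobeniusKernel, Set.mem_ofPred_eq, SetLike.mem_coe]
      constructor
      · rintro (rfl | hy)
        · exact P.one_mem
        · by_contra hyP
          obtain ⟨x, hx, h, hh, rfl⟩ := hdecomp y
          have hh1 : h ≠ 1 := by
            rintro rfl
            apply hyP; simpa using hx
          -- the map u ↦ u⁻¹ h u h⁻¹ on P is injective hence surjective
          let ψ : P → P := fun u => ⟨(u : G)⁻¹ * (h * u * h⁻¹),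
            P.mul_mem (P.inv_mem u.2) (Subgroup.Normal.conj_mem inferInstance _ u.2 h)⟩
          have hinj : Function.Injective ψ := by
            intro u v huv
            have h1 : (u : G)⁻¹ * (h * u * h⁻¹) = (v : G)⁻¹ * (h * v * h⁻¹) :=
              congrArg Subtype.val huv
            have h2 : h * ((v : G) * (u : G)⁻¹) = ((v : G) * (u : G)⁻¹) * h := by
              have : (u : G)⁻¹ * h * u = (v : G)⁻¹ * h * v := by
                have := congrArg (fun t => t * h) h1
                simpa [mul_assoc] using this
              calc h * ((v : G) * (u : G)⁻¹) = v * ((v : G)⁻¹ * h * v) * (u : G)⁻¹ := by group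
                _ = v * ((u : G)⁻¹ * h * u) * (u : G)⁻¹ := by rw [this]
                _ = ((v : G) * (u : G)⁻¹) * h := by group
            by_contra hne
            have hw1 : (v : G) * (u : G)⁻¹ ≠ 1 := by
              intro h3
              apply hne
              have : (v : G) = u := by
                have := mul_inv_eq_one.mp h3
                exact this
              exact (Subtype.ext this).symm
            have hwP : (v : G) * (u : G)⁻¹ ∈ P := P.mul_mem v.2 (P.inv_mem u.2)
            have := hK1 _ hwP hw1 h h2
            exact hh1 (hmemPH h this hh)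
          have hsurj : Function.Surjective ψ := Finite.surjective_of_injective hinj
          obtain ⟨u, hu⟩ := hsurj ⟨x, hx⟩
          have hu' : (u : G)⁻¹ * (h * u * h⁻¹) = x := congrArg Subtype.val hu
          apply hy (u : G)⁻¹
          rw [mem_conj_smul]
          refine ⟨h, hh, ?_⟩
          rw [← hu']; group
      · intro hyP
        by_cases hy1 : y = 1
        · left; exact hy1
        · right
          intro g hyg
          obtain ⟨h, hh, rfl⟩ := (mem_conj_smul H g y).mp hyg
          have h1 : h ∈ P := by
            have := Subgroup.Normal.conj_mem (inferInstance : P.Normal) _ hyP g⁻¹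
            convert this using 1
            group
          have := hmemPH h h1 hh
          apply hy1
          rw [this]; group
    rw [hker]
    exact hP

/-- Let G be a finite group with a faithful irreducible complex character χ whose codegree #G / χ(1) is a prime p (for a faithful character the kernel is trivial, so the codegree is #G / χ(1)). Then either G is cyclic of order p, or G is a Frobenius group whose Frobenius kernel has order p: some proper non-trivial subgroup H satisfies H ∩ gHg⁻¹ = 1 for every element g outside H, and the set of elements lying in no conjugate of H, together with the identity, has exactly p elements. -/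
theorem result {G : Type*} [Group G] [Finite G] (χ : Cfsg.IrrCharacter G) (hfaith : ∀ g : G, (χ : G → ℂ) g = (χ : G → ℂ) 1 → g = 1) (p : ℕ) (hp : p.Prime) (hcod : Nat.card G = p * Cfsg.charDegree (χ : G → ℂ)) : (IsCyclic G ∧ Nat.card G = p) ∨ ∃ H : Subgroup G, Cfsg.IsFrobeniusComplement H ∧ Nat.card ↥(Cfsg.frobeniusKernel H) = p := by
  classical
  have : Fact p.Prime := ⟨hp⟩
  have := Fintype.ofFinite G
  have hirr := χ.2
  have hχc := IsIrrCharacter.isCharacter hirr
  set m := Cfsg.charDegree (χ : G → ℂ) with hm
  have hmpos : 0 < m := IsIrrCharacter.charDegree_pos hirr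
  have hle : m ≤ p := by
    have h1 := IsIrrCharacter.charDegree_sq_le_card hirr
    rw [hcod, ← hm, pow_two] at h1
    exact Nat.le_of_mul_le_mul_right h1 hmpos
  have hne : m ≠ p := by
    intro heq
    have hcomm : IsMulCommutative G :=
      IsPGroup.isMulCommutative_of_card_eq_prime_sq (p := p) (by rw [hcod, heq, pow_two])
    have hcen : Subgroup.center G = ⊤ := by
      rw [eq_top_iff]
      intro g _
      rw [Subgroup.mem_center_iff]
      intro h
      exact (isMulCommutative_iff.mp hcomm) h g
    have h1 := IsIrrCharacter.charDegree_sq_le_index_center hirr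
    rw [hcen, Subgroup.index_top, ← hm] at h1
    have : m = 1 := by nlinarith
    rw [this] at heq
    exact hp.one_lt.ne heq
  have hlt : m < p := lt_of_le_of_ne hle hne
  rcases Nat.eq_or_lt_of_le (Nat.succ_le_of_lt hmpos) with hm1 | hm2
  · left
    have hm1' : m = 1 := by omega
    have hGp : Nat.card G = p := by rw [hcod, hm1', mul_one]
    exact ⟨isCyclic_of_prime_card hGp, hGp⟩
  right
  have hcop : ¬ p ∣ m := fun hd => absurd (Nat.le_of_dvd hmpos hd) (not_le.mpr hlt)
  obtain P : Sylow p G := default
  have hPcard : Nat.card P = p := by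
    rw [Sylow.card_eq_multiplicity, hcod, Nat.factorization_mul hp.ne_zero hmpos.ne']
    simp [hp.factorization_self, Nat.factorization_eq_zero_of_not_dvd hcop]
  have hindex : (P : Subgroup G).index = m := by
    have := Subgroup.card_mul_index (P : Subgroup G)
    rw [hPcard, hcod] at this
    exact Nat.eq_of_mul_eq_mul_left hp.pos this
  have hnp : Nat.card (Sylow p G) = 1 := by
    have h1 : Nat.card (Sylow p G) ∣ m := hindex ▸ Sylow.card_dvd_index P
    have h2 : Nat.card (Sylow p G) ≡ 1 [MOD p] := card_sylow_modEq_one p G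
    have h3 : Nat.card (Sylow p G) < p := lt_of_le_of_lt (Nat.le_of_dvd hmpos h1) hlt
    have h4 := Nat.mod_eq_of_lt h3
    rw [Nat.ModEq, h4, Nat.mod_eq_of_lt hp.one_lt] at h2
    exact h2
  have hsub : Subsingleton (Sylow p G) := (Nat.card_eq_one_iff_unique.mp hnp).1
  have hPn : (P : Subgroup G).Normal := Sylow.normal_of_subsingleton P
  have hPcyc : IsCyclic (P : Subgroup G) := isCyclic_of_prime_card hPcard
  let _ : Fintype (P : Subgroup G) := Fintype.ofFinite _
  let _ : Fintype (IrrCharacter (P : Subgroup G)) := Helper74.irrFintype _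
  -- a constituent of the restriction
  have hres : Cfsg.IsCharacter (P : Subgroup G) (fun h : (P : Subgroup G) => (χ : G → ℂ) h) :=
    IsCharacter.comp_hom hχc (P : Subgroup G).subtype
  have hresdeg : Cfsg.charDegree (fun h : (P : Subgroup G) => (χ : G → ℂ) h) = m := rfl
  obtain ⟨ψ, hψ⟩ : ∃ ψ : IrrCharacter (P : Subgroup G),
      mult (fun h : (P : Subgroup G) => (χ : G → ℂ) h) hres ψ ≠ 0 := by
    by_contra hcon
    push Not at hcon
    have := charDegree_eq_sum_mult _ hres
    rw [hresdeg] at this
    simp only [hcon, zero_mul, Finset.sum_const_zero] at this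
    omega
  have hψne : Cfsg.classInner (fun h : (P : Subgroup G) => (χ : G → ℂ) h) ψ.1 ≠ 0 := by
    rw [mult_spec _ hres ψ]; exact_mod_cast hψ
  have hψdeg : Cfsg.charDegree ψ.1 = 1 := by
    have hcenP : Subgroup.center (P : Subgroup G) = ⊤ := by
      rw [eq_top_iff]
      intro g _
      rw [Subgroup.mem_center_iff]
      intro h
      exact (isMulCommutative_iff.mp IsCyclic.isMulCommutative) h g
    have h1 := IsIrrCharacter.charDegree_sq_le_index_center ψ.2
    rw [hcenP, Subgroup.index_top] at h1
    have h2 := IsIrrCharacter.charDegree_pos ψ.2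
    nlinarith
  have hχind : (χ : G → ℂ) = Cfsg.indFun (P : Subgroup G) ψ.1 := by
    apply IsIrrCharacter.eq_indFun_of_degree_le hirr (P : Subgroup G)
      (IsIrrCharacter.isCharacter ψ.2) hψne
    rw [hψdeg, hindex, mul_one]
  -- the inertia group of ψ has order p
  have hinert : (inertiaFinset (P : Subgroup G) ψ.1).card = p := by
    have h1 := classInner_indFun_self (P : Subgroup G) ψ.2
    rw [← hχind, Helper74.irr_inner_self χ, hPcard] at h1
    have hpne : (p : ℂ) ≠ 0 := by exact_mod_cast hp.ne_zero
    have h2 : ((inertiaFinset (P : Subgroup G) ψ.1).card : ℂ) = (p : ℂ) := by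
      field_simp at h1
      exact h1.symm
    exact_mod_cast h2
  have hcent : Subgroup.centralizer ((P : Subgroup G) : Set G) ≤ (P : Subgroup G) := by
    have hPle : (P : Subgroup G) ≤ Subgroup.centralizer ((P : Subgroup G) : Set G) := by
      intro x hx
      rw [Subgroup.mem_centralizer_iff]
      intro y hy
      have := (isMulCommutative_iff.mp (IsCyclic.isMulCommutative (α := (P : Subgroup G))))
        ⟨y, hy⟩ ⟨x, hx⟩
      exact congrArg Subtype.val this
    have hcardle : Nat.card (Subgroup.centralizer ((P : Subgroup G) : Set G)) ≤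
        Nat.card (P : Subgroup G) := by
      have hstep : Nat.card (Subgroup.centralizer ((P : Subgroup G) : Set G)) ≤
          (inertiaFinset (P : Subgroup G) ψ.1).card := by
        rw [Nat.card_eq_fintype_card, Fintype.card_subtype]
        apply Finset.card_le_card
        intro g hg
        exact mem_inertiaFinset_of_mem_centralizer (P : Subgroup G) (Finset.mem_filter.mp hg).2
      calc Nat.card (Subgroup.centralizer ((P : Subgroup G) : Set G))
          ≤ (inertiaFinset (P : Subgroup G) ψ.1).card := hstep
        _ = p := hinert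
        _ = Nat.card (P : Subgroup G) := hPcard.symm
    exact (Subgroup.eq_of_le_of_card_ge hPle hcardle).symm.le
  exact frobenius_of_self_centralizing p hp (P : Subgroup G) hPcard (by rw [hindex]; omega)
    (by rw [hindex]; exact (Nat.Prime.coprime_iff_not_dvd hp).mpr hcop) hcent

end Cfsg.Agent.S4796
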