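import Cfsg.Statements.S4798
import Mathlib
import Cfsg.Agent.Helper80.Induced

set_option autoImplicit false
open Cfsg

namespace Cfsg.Agent.S4798

open Cfsg.Agent.Helper80

universe u

/-- In a group of prime power order, a character whose degree is not divisible by `p^(b+1)` has an
irreducible constituent of degree dividing `p^b`. -/
theorem exists_constituent_small {H : Type u} [Group H] [Fintype H] (p : ℕ) (hp : p.Prime)
    (a : ℕ) (hH : Nat.card H = p ^ a) {θ : H → ℂ} (hθ : IsCharacter H θ) (b : ℕ)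
    (hb : ¬ p ^ (b + 1) ∣ charDegree θ) :
    ∃ ψ : IrrCharacter H, classInner θ (ψ : H → ℂ) ≠ 0 ∧ charDegree (ψ : H → ℂ) ∣ p ^ b := by
  classical
  let _ : Fintype (IrrCharacter H) := Helper74.irrFintype H
  by_contra hcon
  push Not at hcon
  apply hb
  rw [charDegree_eq_sum_mult θ hθ]
  refine Finset.dvd_sum fun ψ _ => ?_
  by_cases hm : mult θ hθ ψ = 0
  · rw [hm, zero_mul]; exact dvd_zero _
  · have hne : classInner θ (ψ : H → ℂ) ≠ 0 := by
      rw [mult_spec θ hθ ψ]; exact_mod_cast hm
    have h1 := hcon ψ hne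
    have h2 : charDegree (ψ : H → ℂ) ∣ p ^ a := hH ▸ IsIrrCharacter.charDegree_dvd_card ψ.2
    obtain ⟨c, hc, hc2⟩ := (Nat.dvd_prime_pow hp).mp h2
    rw [hc2] at h1 ⊢
    have hbc : b < c := by
      by_contra hle
      exact h1 (pow_dvd_pow p (not_lt.mp hle))
    exact Dvd.dvd.mul_left (pow_dvd_pow p hbc) _

/-- Let p be a prime and χ a faithful irreducible complex character of the finite group G (χ(g) = χ(1) only for g = 1), so that its codegree is #G / χ(1). Then #G / χ(1) is a power of p if and only if χ is induced from a character of a Sylow p-subgroup of G. -/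
theorem result {G : Type*} [Group G] [Fintype G] (p : ℕ) [Fact p.Prime] (χ : Cfsg.IrrCharacter G) (hfaith : ∀ g : G, (χ : G → ℂ) g = (χ : G → ℂ) 1 → g = 1) : (∃ k : ℕ, Nat.card G = p ^ k * Cfsg.charDegree (χ : G → ℂ)) ↔ ∃ (P : Sylow p G) (θ : ↥(P : Subgroup G) → ℂ), Cfsg.IsCharacter ↥(P : Subgroup G) θ ∧ (χ : G → ℂ) = Cfsg.indFun (P : Subgroup G) θ := by
  classical
  have hp : p.Prime := Fact.out
  have hχ := χ.2
  have hχc := IsIrrCharacter.isCharacter hχ
  set d := Cfsg.charDegree (χ : G → ℂ) with hd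
  have hdpos : 0 < d := IsIrrCharacter.charDegree_pos hχ
  constructor
  · rintro ⟨k, hk⟩
    obtain P : Sylow p G := default
    let _ : Fintype (P : Subgroup G) := Fintype.ofFinite _
    set b := d.factorization p with hb
    have hres : Cfsg.IsCharacter (P : Subgroup G) (fun h : (P : Subgroup G) => (χ : G → ℂ) h) :=
      IsCharacter.comp_hom hχc (P : Subgroup G).subtype
    have hresdeg : Cfsg.charDegree (fun h : (P : Subgroup G) => (χ : G → ℂ) h) = d := rfl
    have hnd : ¬ p ^ (b + 1) ∣ Cfsg.charDegree (fun h : (P : Subgroup G) => (χ : G → ℂ) h) := by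
      rw [hresdeg]
      exact Nat.pow_succ_factorization_not_dvd hdpos.ne' hp
    obtain ⟨ψ, hψne, hψdeg⟩ := exists_constituent_small p hp _ (Sylow.card_eq_multiplicity P)
      hres b hnd
    refine ⟨P, ψ.1, IsIrrCharacter.isCharacter ψ.2, ?_⟩
    apply IsIrrCharacter.eq_indFun_of_degree_le hχ (P : Subgroup G)
      (IsIrrCharacter.isCharacter ψ.2) hψne
    have hidx : (P : Subgroup G).index = ordCompl[p] d := by
      have h1 := Subgroup.card_mul_index (P : Subgroup G)
      rw [Sylow.card_eq_multiplicity P] at h1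
      have h2 : (P : Subgroup G).index = ordCompl[p] (Nat.card G) := by
        have hpos : 0 < p ^ (Nat.card G).factorization p := pow_pos hp.pos _
        exact (Nat.div_eq_of_eq_mul_right hpos h1.symm).symm
      rw [h2, hk, Nat.ordCompl_self_pow_mul _ _ hp]
    rw [hidx]
    calc ordCompl[p] d * Cfsg.charDegree ψ.1
        ≤ ordCompl[p] d * p ^ b :=
          Nat.mul_le_mul_left _ (Nat.le_of_dvd (pow_pos hp.pos _) hψdeg)
      _ = d := by rw [mul_comm]; exact Nat.ordProj_mul_ordCompl_eq_self d p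
  · rintro ⟨P, θ, hθ, hχθ⟩
    have hdeg : d = (P : Subgroup G).index * Cfsg.charDegree θ := by
      rw [hd, hχθ]; exact charDegree_indFun (P : Subgroup G) hθ
    have hdvd : d ∣ Nat.card G := IsIrrCharacter.charDegree_dvd_card hχ
    have hcard := Subgroup.card_mul_index (P : Subgroup G)
    have hidxpos : 0 < (P : Subgroup G).index := Nat.pos_of_ne_zero Subgroup.index_ne_zero_of_finite
    have hθdvd : Cfsg.charDegree θ ∣ Nat.card (P : Subgroup G) := by
      rw [hdeg, ← hcard, mul_comm (Nat.card (P : Subgroup G))] at hdvd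
      exact Nat.dvd_of_mul_dvd_mul_left hidxpos hdvd
    rw [Sylow.card_eq_multiplicity P] at hθdvd hcard
    generalize (Nat.card G).factorization p = a at hθdvd hcard
    obtain ⟨c, hc, hc2⟩ := (Nat.dvd_prime_pow hp).mp hθdvd
    refine ⟨a - c, ?_⟩
    rw [hdeg, hc2, ← hcard]
    have : p ^ a = p ^ (a - c) * p ^ c := by
      rw [← pow_add, Nat.sub_add_cancel hc]
    rw [this]; ring

end Cfsg.Agent.S4798
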