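import Cfsg.Statements.S4802
import Mathlib
import Cfsg.Agent.Helper80.NormalSum
import Cfsg.Agent.Helper79.CharComplete

set_option autoImplicit false
open Cfsg

namespace Cfsg.Agent.S4802

open Cfsg.Agent.Helper80 Cfsg.Agent.Helper79


/-- Let N < M be normal subgroups of the finite group G and g ∈ M ∖ N. Then the conjugacy class of g is exactly M ∖ N if and only if every irreducible complex character of G whose kernel contains N takes the same value at all elements of M ∖ N, and every irreducible complex character of G whose kernel does not contain N vanishes at g. -/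
theorem result {G : Type*} [Group G] [Finite G] (N M : Subgroup G) [N.Normal] [M.Normal] (hNM : N < M) (g : G) (hgM : g ∈ M) (hgN : g ∉ N) : {h : G | IsConj g h} = (M : Set G) \ (N : Set G) ↔ ((∀ χ : Cfsg.IrrCharacter G, (∀ x ∈ N, (χ : G → ℂ) x = (χ : G → ℂ) 1) → ∀ x ∈ M, x ∉ N → ∀ y ∈ M, y ∉ N → (χ : G → ℂ) x = (χ : G → ℂ) y) ∧ (∀ χ : Cfsg.IrrCharacter G, (∃ x ∈ N, (χ : G → ℂ) x ≠ (χ : G → ℂ) 1) → (χ : G → ℂ) g = 0)) := by
  classical
  cases nonempty_fintype G
  have : Finite (Cfsg.IrrCharacter G) := irr_finite'
  cases nonempty_fintype (Cfsg.IrrCharacter G)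
  constructor
  · intro hcl
    have hconj : ∀ x ∈ M, x ∉ N → IsConj g x := by
      intro x hx hxN
      have : x ∈ (M : Set G) \ (N : Set G) := ⟨hx, hxN⟩
      rw [← hcl] at this
      exact this
    refine ⟨fun χ _ x hx hxN y hy hyN => ?_, fun χ hχ => ?_⟩
    · have hc := IsIrrCharacter.isCharacter χ.2
      rw [← IsCharacter.eq_of_isConj hc (hconj x hx hxN),
        ← IsCharacter.eq_of_isConj hc (hconj y hy hyN)]
    · have hc := IsIrrCharacter.isCharacter χ.2
      have h0 := IsIrrCharacter.sum_mul_normal_eq_zero χ.2 N hχ g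
      have h1 : ∀ n : N, (χ : G → ℂ) (g * n) = (χ : G → ℂ) g := by
        intro n
        have hgn : g * n ∈ M := M.mul_mem hgM (hNM.le n.2)
        have hgnN : g * (n : G) ∉ N := by
          intro h
          apply hgN
          have := N.mul_mem h (N.inv_mem n.2)
          simpa using this
        exact (IsCharacter.eq_of_isConj hc (hconj _ hgn hgnN)).symm
      simp_rw [h1] at h0
      rw [Finset.sum_const, nsmul_eq_mul] at h0
      rcases mul_eq_zero.mp h0 with h2 | h2
      · exfalso
        have : (Finset.univ : Finset N).card ≠ 0 := by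
          rw [Finset.card_univ]; exact Fintype.card_ne_zero
        exact this (by exact_mod_cast h2)
      · exact h2
  · rintro ⟨h1, h2⟩
    ext h
    simp only [Set.mem_ofPred_eq, Set.mem_sdiff, SetLike.mem_coe]
    constructor
    · intro hc
      obtain ⟨c, rfl⟩ := isConj_iff.mp hc
      refine ⟨Subgroup.Normal.conj_mem inferInstance g hgM c, fun hn => hgN ?_⟩
      have := Subgroup.Normal.conj_mem (inferInstance : N.Normal) _ hn c⁻¹
      simpa [mul_assoc] using this
    · rintro ⟨hM, hN⟩
      by_contra hnc
      have hnc' : ¬ IsConj h g := fun k => hnc k.symm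
      have hco := column_orthogonality (G := G) g h
      rw [if_neg hnc'] at hco
      -- each term has nonnegative real part, and the trivial character contributes 1
      have hterm : ∀ χ : Cfsg.IrrCharacter G,
          0 ≤ ((χ : G → ℂ) g * (starRingEnd ℂ) ((χ : G → ℂ) h)).re := by
        intro χ
        by_cases hker : ∀ x ∈ N, (χ : G → ℂ) x = (χ : G → ℂ) 1
        · rw [← h1 χ hker g hgM hgN h hM hN, Complex.mul_conj]
          simp only [Complex.ofReal_re]
          exact Complex.normSq_nonneg _
        · push Not at hker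
          rw [h2 χ hker, zero_mul]
          simp
      let T : Cfsg.IrrCharacter G := ⟨fun _ => 1, by
        simpa using isIrrCharacter_of_monoidHom (1 : G →* ℂˣ)⟩
      have hT : ((T : G → ℂ) g * (starRingEnd ℂ) ((T : G → ℂ) h)).re = 1 := by
        simp [T]
      have hre := congrArg Complex.re hco
      rw [Complex.re_sum, Complex.zero_re] at hre
      have hpos : 0 < ∑ χ : Cfsg.IrrCharacter G,
          ((χ : G → ℂ) g * (starRingEnd ℂ) ((χ : G → ℂ) h)).re := by
        apply Finset.sum_pos' (fun χ _ => hterm χ)
        exact ⟨T, Finset.mem_univ T, by rw [hT]; exact one_pos⟩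
      exact hpos.ne' hre


end Cfsg.Agent.S4802
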