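import Cfsg.Statements.S4813
-- import your own Cfsg.Agent.* helpers here
import Cfsg.Agent.Helper77.PrimeDegThree

set_option autoImplicit false
open Cfsg

namespace Cfsg.Agent.S4813

/-- If every irreducible complex character of the finite group G of degree greater than one has prime degree, then G has at most three distinct irreducible character degrees. -/
theorem result {G : Type*} [Group G] [Finite G] (hprime : ∀ d ∈ Cfsg.charDegrees G, d = 1 ∨ d.Prime) : Nat.card ↥(Cfsg.charDegrees G) ≤ 3 := by
  apply Cfsg.Agent.Helper77.PrimeDeg.card_charDegrees_le_three
  intro χ hχ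
  rcases hprime _ ⟨χ, rfl⟩ with h1 | h1
  · exact absurd h1 hχ
  · exact h1

end Cfsg.Agent.S4813
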