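import Cfsg.Statements.S4814
import Mathlib
import Cfsg.Agent.S4856
import Cfsg.Agent.Helper80.Linear

set_option autoImplicit false
open Cfsg

namespace Cfsg.Agent.S4814

open Cfsg.Agent.Helper80

open scoped ComplexConjugate

/-- The quadruple sum of an irreducible character over products of two commutators. -/
theorem irr_sum_two_commutators {G : Type*} [Group G] [Fintype G] {χ : G → ℂ}
    (hχ : IsIrrCharacter G χ) (z : G) :
    ∑ c : G, ∑ d : G, ∑ a : G, ∑ b : G,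
      χ (a * b * a⁻¹ * b⁻¹ * (c * d * c⁻¹ * d⁻¹) * z) = ((Nat.card G : ℂ) / χ 1) ^ 4 * χ z := by
  have h1 : ∀ c d : G, ∑ a : G, ∑ b : G, χ (a * b * a⁻¹ * b⁻¹ * (c * d * c⁻¹ * d⁻¹) * z) =
      ((Nat.card G : ℂ) / χ 1) ^ 2 * χ (c * d * c⁻¹ * d⁻¹ * z) := by
    intro c d
    have := S4856.irr_sum_commutator hχ (c * d * c⁻¹ * d⁻¹ * z)
    rw [← this]
    refine Finset.sum_congr rfl fun a _ => Finset.sum_congr rfl fun b _ => ?_
    rw [mul_assoc (a * b * a⁻¹ * b⁻¹)]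
  calc ∑ c : G, ∑ d : G, ∑ a : G, ∑ b : G, χ (a * b * a⁻¹ * b⁻¹ * (c * d * c⁻¹ * d⁻¹) * z)
      = ∑ c : G, ∑ d : G, ((Nat.card G : ℂ) / χ 1) ^ 2 * χ (c * d * c⁻¹ * d⁻¹ * z) := by
        refine Finset.sum_congr rfl fun c _ => Finset.sum_congr rfl fun d _ => h1 c d
    _ = ((Nat.card G : ℂ) / χ 1) ^ 2 * ∑ c : G, ∑ d : G, χ (c * d * c⁻¹ * d⁻¹ * z) := by
        simp only [Finset.mul_sum]
    _ = ((Nat.card G : ℂ) / χ 1) ^ 4 * χ z := by
        rw [S4856.irr_sum_commutator hχ z]; ring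

theorem aux {G : Type*} [Group G] [Finite G]
    (h : ∑ᶠ χ : Cfsg.IrrCharacter G, 1 / ‖(χ : G → ℂ) 1‖ ^ 2 < (2 : ℝ)) (g : G) :
    ∃ a b c d : G, (a * b * a⁻¹ * b⁻¹) * (c * d * c⁻¹ * d⁻¹) = g := by
  classical
  have := Fintype.ofFinite G
  have : Finite (IrrCharacter G) := Helper79.irr_finite'
  have := Fintype.ofFinite (IrrCharacter G)
  rw [finsum_eq_sum_of_fintype] at h
  have hG : (Nat.card G : ℂ) ≠ 0 := Helper79.card_ne_zero_complex
  by_contra hcon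
  push Not at hcon
  set z := g⁻¹ with hz
  -- all indicators vanish
  have hzero : ∑ c : G, ∑ d : G, ∑ a : G, ∑ b : G,
      (if a * b * a⁻¹ * b⁻¹ * (c * d * c⁻¹ * d⁻¹) * z = 1 then (1 : ℂ) else 0) = 0 := by
    refine Finset.sum_eq_zero fun c _ => Finset.sum_eq_zero fun d _ =>
      Finset.sum_eq_zero fun a _ => Finset.sum_eq_zero fun b _ => ?_
    rw [if_neg]
    intro h1
    apply hcon a b c d
    rw [hz, mul_inv_eq_one] at h1
    exact h1
  have hind : ∀ w : G, (if w = 1 then (1 : ℂ) else 0) =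
      (Nat.card G : ℂ)⁻¹ * ∑ χ : IrrCharacter G, (χ : G → ℂ) 1 * (χ : G → ℂ) w := by
    intro w
    rw [S4856.sum_irr_one_mul]
    split_ifs
    · rw [inv_mul_cancel₀ hG]
    · rw [mul_zero]
  simp only [hind] at hzero
  simp only [← Finset.mul_sum] at hzero
  have h3 : ∑ c : G, ∑ d : G, ∑ a : G, ∑ b : G, ∑ χ : IrrCharacter G,
        (χ : G → ℂ) 1 * (χ : G → ℂ) (a * b * a⁻¹ * b⁻¹ * (c * d * c⁻¹ * d⁻¹) * z)
      = ∑ χ : IrrCharacter G, (χ : G → ℂ) 1 * ∑ c : G, ∑ d : G, ∑ a : G, ∑ b : G,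
          (χ : G → ℂ) (a * b * a⁻¹ * b⁻¹ * (c * d * c⁻¹ * d⁻¹) * z) := by
    simp only [Finset.mul_sum]
    rw [Finset.sum_comm (γ := IrrCharacter G)]
    refine Finset.sum_congr rfl fun c _ => ?_
    rw [Finset.sum_comm (γ := IrrCharacter G)]
    refine Finset.sum_congr rfl fun d _ => ?_
    rw [Finset.sum_comm (γ := IrrCharacter G)]
    refine Finset.sum_congr rfl fun a _ => ?_
    rw [Finset.sum_comm (γ := IrrCharacter G)]
  rw [h3] at hzero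
  have h4 : ∑ χ : IrrCharacter G, (χ : G → ℂ) 1 * ∑ c : G, ∑ d : G, ∑ a : G, ∑ b : G,
          (χ : G → ℂ) (a * b * a⁻¹ * b⁻¹ * (c * d * c⁻¹ * d⁻¹) * z) =
      (Nat.card G : ℂ) ^ 4 * ∑ χ : IrrCharacter G, (χ : G → ℂ) z / (χ : G → ℂ) 1 ^ 3 := by
    rw [Finset.mul_sum]
    refine Finset.sum_congr rfl fun χ _ => ?_
    rw [irr_sum_two_commutators χ.2 z]
    have h1 : (χ : G → ℂ) 1 ≠ 0 := Helper79.irr_one_ne_zero χ
    field_simp
  rw [h4] at hzero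
  have hsum0 : ∑ χ : IrrCharacter G, (χ : G → ℂ) z / (χ : G → ℂ) 1 ^ 3 = 0 := by
    rcases mul_eq_zero.mp hzero with h5 | h5
    · exact absurd h5 (inv_ne_zero hG)
    · rcases mul_eq_zero.mp h5 with h6 | h6
      · exact absurd h6 (pow_ne_zero 4 hG)
      · exact h6
  -- but the real part of this sum is positive
  let T : IrrCharacter G := ⟨fun _ => 1, by
    simpa using isIrrCharacter_of_monoidHom (1 : G →* ℂˣ)⟩
  have hT1 : ((T : G → ℂ) z / (T : G → ℂ) 1 ^ 3) = 1 := by simp [T]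
  have hT2 : (1 / ‖(T : G → ℂ) 1‖ ^ 2 : ℝ) = 1 := by simp [T]
  rw [← Finset.add_sum_erase _ _ (Finset.mem_univ T), hT1] at hsum0
  rw [← Finset.add_sum_erase _ _ (Finset.mem_univ T), hT2] at h
  have hbound : ‖∑ χ ∈ Finset.univ.erase T, (χ : G → ℂ) z / (χ : G → ℂ) 1 ^ 3‖ ≤
      ∑ χ ∈ Finset.univ.erase T, 1 / ‖(χ : G → ℂ) 1‖ ^ 2 := by
    refine (norm_sum_le _ _).trans (Finset.sum_le_sum fun χ _ => ?_)
    have hc := IsIrrCharacter.isCharacter χ.2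
    have h1 : (χ : G → ℂ) 1 ≠ 0 := Helper79.irr_one_ne_zero χ
    have hn1 : ‖(χ : G → ℂ) 1‖ = (charDegree (χ : G → ℂ) : ℝ) := by
      rw [← IsCharacter.charDegree_cast hc]; simp
    have hpos : 0 < ‖(χ : G → ℂ) 1‖ := norm_pos_iff.mpr h1
    rw [norm_div, norm_pow]
    have hle : ‖(χ : G → ℂ) z‖ ≤ ‖(χ : G → ℂ) 1‖ := by
      rw [hn1]; exact IsCharacter.norm_le hc z
    rw [div_le_div_iff₀ (by positivity) (by positivity)]
    calc ‖(χ : G → ℂ) z‖ * ‖(χ : G → ℂ) 1‖ ^ 2 ≤ ‖(χ : G → ℂ) 1‖ * ‖(χ : G → ℂ) 1‖ ^ 2 :=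
          mul_le_mul_of_nonneg_right hle (by positivity)
      _ = 1 * ‖(χ : G → ℂ) 1‖ ^ 3 := by ring
  have h5 : ∑ χ ∈ Finset.univ.erase T, (χ : G → ℂ) z / (χ : G → ℂ) 1 ^ 3 = -1 := by
    linear_combination hsum0
  rw [h5, norm_neg, norm_one] at hbound
  linarith

/-- Let G be a finite group such that the sum, over the irreducible complex characters χ of G, of 1/χ(1)² is less than 2. Then every element of G is a product of two commutators. -/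
theorem result {G : Type*} [Group G] [Finite G]
    (h : ∑ᶠ χ : Cfsg.IrrCharacter G, 1 / ‖(χ : G → ℂ) 1‖ ^ 2 < (2 : ℝ)) (g : G) :
    ∃ a b c d : G, (a * b * a⁻¹ * b⁻¹) * (c * d * c⁻¹ * d⁻¹) = g := by
  exact aux h g

end Cfsg.Agent.S4814
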