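import Cfsg.Statements.S4839
import Cfsg.Agent.Helper95.GagolaSetup
import Cfsg.Agent.Helper95.GagolaFrob
import Cfsg.Agent.Helper53.GagolaA
import Cfsg.Agent.Helper97.GagolaB
import Cfsg.Agent.Helper33.GagolaC

set_option autoImplicit false
open Cfsg

namespace Cfsg.Agent.S4839

/-- Let G be a finite group of order greater than 2 with an irreducible character χ nonzero on exactly two conjugacy classes, and let N be the normal p-subgroup of elements where χ is nonzero. Then N is the whole p-core O_p(G) if and only if G is a doubly transitive Frobenius group with kernel N: G has a Frobenius complement H whose Frobenius kernel is N and whose order is one less than that of N. -/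
theorem result {G : Type*} [Group G] [Finite G] (hG : 2 < Nat.card G) (χ : Cfsg.IrrCharacter G) (hχ : Nat.card {C : ConjClasses G // ∃ g ∈ C.carrier, (χ : G → ℂ) g ≠ 0} = 2) (p : ℕ) [Fact p.Prime] (N : Subgroup G) [N.Normal] (hN : ∀ g : G, g ∈ N ↔ (χ : G → ℂ) g ≠ 0) (hNp : IsPGroup p N) (hN1 : N ≠ ⊥) :
    N = Cfsg.pCore p G ↔ ∃ H : Subgroup G, Cfsg.IsFrobeniusComplement H ∧ Cfsg.frobeniusKernel H = (N : Set G) ∧ Nat.card H + 1 = Nat.card N := by
  classical
  have hGD := Cfsg.Agent.Helper95.Gagola.gagolaData_of_support hG χ hχ p N hN hNp hN1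
  constructor
  · intro hNcore
    have hCN : Subgroup.centralizer (N : Set G) ≤ N := by
      rw [← hGD.pCore_eq_centralizer, ← hNcore]
    have hcore : ∀ K : Subgroup G, K.Normal → IsPGroup p K → K ≤ N := by
      intro K hK hKp
      rw [hNcore]
      exact Cfsg.Agent.Lib.le_pCore hK hKp
    obtain ⟨P⟩ : Nonempty (Sylow p G) := inferInstance
    have hcam := Cfsg.Agent.Helper53.Gagola.camina_of_card_centralizer N
      (Cfsg.Agent.S4838.result hG χ hχ p N hN hNp hN1 P).1
    have hpel : ∀ (y : G) (k : ℕ), y ^ p ^ k = 1 → y ∈ N := by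
      by_cases hp2 : p = 2
      · subst hp2
        have hexp : ∀ a ∈ N, a * a = 1 := by
          intro a ha
          rw [← pow_two]
          exact hGD.exp a ha
        exact Cfsg.Agent.Helper33.Gagola.pElement_mem_of_two N hexp hGD.comm hGD.cent hcam hCN
          hcore
      · exact Cfsg.Agent.Helper97.GagolaB.pElement_mem_of_odd hp2 N hNp hGD.comm hGD.cent hcam
          hCN (Cfsg.Agent.Helper95.Gagola.even_card_of_odd hG χ hχ p N hN hNp hN1 hp2) hN1
    have hidx := Cfsg.Agent.Helper95.Gagola.index_add_one_eq hG χ hχ p N hN hNp hN1 hpel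
    exact Cfsg.Agent.Helper95.Gagola.exists_frobenius_complement N hNp hN1 hGD.cent hidx hG
  · rintro ⟨H, hH, hker, hcard⟩
    exact Cfsg.Agent.Helper95.Gagola.eq_pCore_of_frobenius N hNp hN1 H hH hker hcard

end Cfsg.Agent.S4839
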