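import Cfsg.Statements.S4843
import Cfsg.Agent.Helper79.IrrProd.Core
import Cfsg.Agent.Helper50.FitCenter
import Cfsg.Agent.Helper87.GoodConj
import Cfsg.Agent.Helper91.AbNormCenter
import Cfsg.Agent.Lib.Cores

set_option autoImplicit false
open Cfsg

namespace Cfsg.Agent.S4843

/-- Let G be a finite group with a faithful irreducible character χ (taking the value χ(1) only at the identity) and let k be prime to the order of G, so that g ↦ χ(g^k) is a Galois conjugate of χ. If the pointwise product g ↦ χ(g)·χ(g^k) is again an irreducible character, then the Fitting subgroup of G equals its centre. -/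
theorem result {G : Type*} [Group G] [Finite G] (χ : Cfsg.IrrCharacter G) (hfaith : ∀ g : G, (χ : G → ℂ) g = (χ : G → ℂ) 1 → g = 1) (k : ℕ) (hk : Nat.Coprime k (Nat.card G)) (hirr : Cfsg.IsIrrCharacter G (fun g => (χ : G → ℂ) g * (χ : G → ℂ) (g ^ k))) : Cfsg.fittingSubgroup G = Subgroup.center G := by
  apply le_antisymm
  · refine Cfsg.Agent.Helper50.FitCenter.fitting_le_center ?_ ?_
    · intro A hA hab
      haveI := hA
      exact Cfsg.Agent.Helper91.AbNormCenter.abelian_normal_le_center χ.1 χ.2 hfaith k hk hirr
        A hab
    · intro N hN hcomm hcent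
      haveI := hN
      obtain ⟨μ, hμ⟩ := Cfsg.Agent.Helper79.IrrProd.exists_central_hom χ.1 χ.2 hfaith
      exact Cfsg.Agent.Helper79.IrrProd.class_two_normal_abelian χ.1 χ.2 hfaith k hk hirr N
        hcomm (fun x n n' hn hn' hg hg' =>
          Cfsg.Agent.Helper87.GoodConj.good_conj_central N hcomm hcent μ hμ x n n' hn hn' hg hg')
  · apply Cfsg.Agent.Lib.le_fittingSubgroup (inferInstance : (Subgroup.center G).Normal)
    let i : CommGroup ↥(Subgroup.center G) :=
      { (inferInstance : Group ↥(Subgroup.center G)) with
        mul_comm := fun a b => by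
          apply Subtype.ext
          simp only [Subgroup.coe_mul]
          exact Subgroup.mem_center_iff.mp b.2 a }
    exact @CommGroup.isNilpotent _ i

end Cfsg.Agent.S4843
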