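import Cfsg.Statements.S4859
import Cfsg.Agent.Helper81.RootCount
import Cfsg.Agent.Helper81.NotSquare

set_option autoImplicit false
open Cfsg

namespace Cfsg.Agent.S4859

/-- Let p be an odd prime, G a finite group and x an element of G whose order is a power of p (possibly 1) and whose centralizer has even order. Let y be a 2-element of the centralizer of x whose order is largest among the 2-elements of that centralizer. Then x * y is not a square in G, and some non-principal real-valued irreducible character of G does not vanish at x * y. -/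
theorem result {G : Type*} [Group G] [Finite G] (p : ℕ) [Fact p.Prime] (hp : p ≠ 2) (x : G) (hx : ∃ k : ℕ, orderOf x = p ^ k) (heven : Even (Nat.card (Subgroup.centralizer ({x} : Set G)))) (y : G) (hy : y ∈ Subgroup.centralizer ({x} : Set G)) (hy2 : ∃ k : ℕ, orderOf y = 2 ^ k) (hmax : ∀ z ∈ Subgroup.centralizer ({x} : Set G), (∃ k : ℕ, orderOf z = 2 ^ k) → orderOf z ≤ orderOf y) : (¬ ∃ u : G, u * u = x * y) ∧ ∃ χ : Cfsg.IrrCharacter G, ¬ ((χ : G → ℂ) = fun _ => (1 : ℂ)) ∧ (∀ g : G, ((χ : G → ℂ) g).im = 0) ∧ (χ : G → ℂ) (x * y) ≠ 0 := by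
  classical
  have hns := Helper81.not_square_of_max_two_element p hp x hx heven y hy hy2 hmax
  refine ⟨hns, ?_⟩
  have := Fintype.ofFinite G
  have : Finite (IrrCharacter G) := Helper79.irr_finite'
  have := Fintype.ofFinite (IrrCharacter G)
  have hcard : Nat.card {u : G // u * u = x * y} = 0 := by
    rw [Nat.card_eq_zero]
    left
    exact ⟨fun u => hns ⟨u.1, u.2⟩⟩
  have hsum := Helper81.card_sqrt (G := G) (x * y)
  rw [hcard, Nat.cast_zero] at hsum
  by_contra hcon
  push Not at hcon
  -- every nonprincipal χ contributes zero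
  have hterm : ∀ χ : IrrCharacter G, χ ≠ Helper81.trivialIrr G →
      Helper81.fsInd (χ : G → ℂ) * (χ : G → ℂ) (x * y) = 0 := by
    intro χ hne
    by_cases hfs : Helper81.fsInd (χ : G → ℂ) = 0
    · rw [hfs, zero_mul]
    · have hreal := (Helper81.fsInd_ne_zero_iff χ.2).mp hfs
      have hne' : ¬ ((χ : G → ℂ) = fun _ => (1 : ℂ)) := by
        intro h
        apply hne
        exact Subtype.ext h
      rw [hcon χ hne' hreal, mul_zero]
  rw [Finset.sum_eq_single (Helper81.trivialIrr G) (fun χ _ hne => hterm χ hne)
    (fun h => absurd (Finset.mem_univ _) h)] at hsum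
  have h1 : Helper81.fsInd ((Helper81.trivialIrr G : IrrCharacter G) : G → ℂ) = 1 := Helper81.fsInd_one
  rw [h1, Helper81.trivialIrr_apply, mul_one] at hsum
  exact zero_ne_one hsum

end Cfsg.Agent.S4859
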