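import Cfsg.Statements.S4862
import Cfsg.Agent.Helper81.RealLift
import Cfsg.Agent.Helper81.PDegRestrict
-- import your own Cfsg.Agent.* helpers here

set_option autoImplicit false
open Cfsg

namespace Cfsg.Agent.S4862

/-- A `2`-element not centralizing `M` has a power `s` not centralizing `M` with `s²` centralizing
`M`; it then inverts a non-trivial element of `M`. -/
theorem exists_inverted_of_two_element {G : Type*} [Group G] (M : Subgroup G) [hM : M.Normal]
    (t : G) (k : ℕ) (hk : orderOf t = 2 ^ k) (ht : t ∉ Subgroup.centralizer (M : Set G)) :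
    ∃ m ∈ M, m ≠ 1 ∧ IsConj m m⁻¹ := by
  classical
  have hex : ∃ j : ℕ, t ^ (2 ^ j) ∈ Subgroup.centralizer (M : Set G) :=
    ⟨k, by rw [← hk, pow_orderOf_eq_one]; exact Subgroup.one_mem _⟩
  set j := Nat.find hex with hj
  have hj1 : t ^ (2 ^ j) ∈ Subgroup.centralizer (M : Set G) := Nat.find_spec hex
  have hj0 : j ≠ 0 := by
    intro h0
    rw [h0, pow_zero, pow_one] at hj1
    exact ht hj1
  obtain ⟨i, hi⟩ := Nat.exists_eq_succ_of_ne_zero hj0
  set s := t ^ (2 ^ i) with hs
  have hs1 : s ∉ Subgroup.centralizer (M : Set G) := by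
    have := Nat.find_min hex (m := i) (by omega)
    exact this
  have hs2 : s * s ∈ Subgroup.centralizer (M : Set G) := by
    have : s * s = t ^ (2 ^ j) := by
      rw [hs, ← pow_add, hi, pow_succ]; ring_nf
    rw [this]; exact hj1
  rw [Subgroup.mem_centralizer_iff] at hs1
  push Not at hs1
  obtain ⟨n, hn, hne⟩ := hs1
  have hsn : s * n * s⁻¹ ∈ M := hM.conj_mem n hn s
  refine ⟨n⁻¹ * (s * n * s⁻¹), M.mul_mem (M.inv_mem hn) hsn, ?_, ?_⟩
  · intro h1
    apply hne
    have h2 : s * n * s⁻¹ = n := by
      have := congrArg (fun x => n * x) h1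
      simpa using this
    calc n * s = s * n * s⁻¹ * s := by rw [h2]
      _ = s * n := by group
  · rw [isConj_iff]
    refine ⟨s, ?_⟩
    have h3 : (s * s) * n = n * (s * s) := by
      have := (Subgroup.mem_centralizer_iff.mp hs2) n hn
      exact this.symm
    have h4 : s * (n⁻¹ * (s * n * s⁻¹)) * s⁻¹ = (s * n * s⁻¹)⁻¹ * ((s * s) * n * (s * s)⁻¹) := by
      group
    rw [h4, h3]
    group

/-- Let p be an odd prime and G a finite group such that the subgroup generated by the p-elements of G is solvable and every real-valued irreducible complex character of G has degree prime to p. Let K be the subgroup generated by the 2-elements of G and P a Sylow p-subgroup of G. Then every normal subgroup M of G contained in K and in the derived subgroup of P is centralized by K. -/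
theorem result {G : Type*} [Group G] [Finite G] (p : ℕ) [Fact p.Prime] (hp : p ≠ 2) (hsolv : Group.IsSolvable ↥(Subgroup.closure {g : G | ∃ k : ℕ, orderOf g = p ^ k})) (hreal : ∀ χ : Cfsg.IrrCharacter G, (∀ g : G, ((χ : G → ℂ) g).im = 0) → ¬ p ∣ Cfsg.charDegree (χ : G → ℂ)) (P : Sylow p G) (M : Subgroup G) (hM : M.Normal) (hMK : M ≤ (Subgroup.closure {g : G | ∃ k : ℕ, orderOf g = 2 ^ k})) (hMP : M ≤ ⁅(P : Subgroup G), (P : Subgroup G)⁆) : (Subgroup.closure {g : G | ∃ k : ℕ, orderOf g = 2 ^ k}) ≤ Subgroup.centralizer (M : Set G) := by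
  classical
  let _ := Fintype.ofFinite G
  let _ : Fintype M := Fintype.ofFinite M
  let _ : Fintype (P : Subgroup G) := Fintype.ofFinite _
  have := hM
  rw [Subgroup.closure_le]
  rintro t ⟨k, hk⟩
  by_contra hnot
  obtain ⟨m, hmM, hm1, hmreal⟩ := exists_inverted_of_two_element M t k hk hnot
  -- `M` has odd order
  have hPP : ⁅(P : Subgroup G), (P : Subgroup G)⁆ ≤ (P : Subgroup G) := by
    rw [Subgroup.commutator_le]
    intro a ha b hb
    exact (P : Subgroup G).mul_mem ((P : Subgroup G).mul_mem ((P : Subgroup G).mul_mem ha hb)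
      ((P : Subgroup G).inv_mem ha)) ((P : Subgroup G).inv_mem hb)
  have hMle : M ≤ (P : Subgroup G) := hMP.trans hPP
  have hMp : IsPGroup p M := P.isPGroup'.to_le hMle
  have hodd : Odd (Nat.card M) := by
    obtain ⟨a, ha⟩ := IsPGroup.iff_card.mp hMp
    rw [ha]
    exact Odd.pow ((Nat.Prime.eq_two_or_odd' Fact.out).resolve_left hp)
  obtain ⟨χ, hχreal, hχ0⟩ := Helper81.exists_real_irr_not_over_one M hodd m hmM hm1 hmreal
  have hre : ∀ g : G, ((χ : G → ℂ) g).im = 0 := (Helper81.irrConj_eq_self_iff χ).mp hχreal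
  have hdeg := hreal χ hre
  exact Helper81.inner_one_ne_zero_of_le_commutator p (P : Subgroup G) P.isPGroup' M hMP
    (Helper74.irr_isCharacter χ) hdeg hχ0

end Cfsg.Agent.S4862
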