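import Cfsg.Statements.S4865
import Cfsg.Agent.Helper81.RealN5
import Cfsg.Agent.Helper81.RealP4
-- import your own Cfsg.Agent.* helpers here

set_option autoImplicit false
open Cfsg

namespace Cfsg.Agent.S4865

/-- Let p be a prime and G a finite group such that the subgroup generated by the p-elements of G is solvable and every real-valued irreducible complex character of G has degree prime to p. Let N be the normalizer of a Sylow p-subgroup of G. Then there is a bijection from the real-valued irreducible characters of G onto the real-valued irreducible characters of N of degree prime to p under which corresponding degrees are congruent modulo p up to sign. -/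
theorem result {G : Type*} [Group G] [Finite G] (p : ℕ) [Fact p.Prime] (hsolv : Group.IsSolvable ↥(Subgroup.closure {g : G | ∃ k : ℕ, orderOf g = p ^ k})) (hreal : ∀ χ : Cfsg.IrrCharacter G, (∀ g : G, ((χ : G → ℂ) g).im = 0) → ¬ p ∣ Cfsg.charDegree (χ : G → ℂ)) (P : Sylow p G) : ∃ f : {χ : Cfsg.IrrCharacter G // ∀ g : G, ((χ : G → ℂ) g).im = 0} → {ξ : Cfsg.IrrCharacter ↥(Subgroup.normalizer ((P : Subgroup G) : Set G)) // (∀ n, ((ξ : ↥(Subgroup.normalizer ((P : Subgroup G) : Set G)) → ℂ) n).im = 0) ∧ ¬ p ∣ Cfsg.charDegree (ξ : ↥(Subgroup.normalizer ((P : Subgroup G) : Set G)) → ℂ)}, Function.Bijective f ∧ ∀ χ, ((Cfsg.charDegree ((f χ).1 : ↥(Subgroup.normalizer ((P : Subgroup G) : Set G)) → ℂ) : ZMod p) = (Cfsg.charDegree (χ.1 : G → ℂ) : ZMod p) ∨ (Cfsg.charDegree ((f χ).1 : ↥(Subgroup.normalizer ((P : Subgroup G) : Set G)) → ℂ) : ZMod p) = -(Cfsg.charDegree (χ.1 : G → ℂ) : ZMod p)) := by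
  have hKn : (Subgroup.closure (Helper81.pElts 2 G)).Normal := Helper81.closure_pElts_normal 2
  let Q₀' : Sylow p ↥(Subgroup.closure (Helper81.pElts 2 G)) := default
  have hQ₀n : (Q₀' : Subgroup ↥(Subgroup.closure (Helper81.pElts 2 G))).Normal :=
    Helper81.sylow_normal_closure_two p hsolv hreal Q₀'
  have hchar : (Q₀' : Subgroup ↥(Subgroup.closure (Helper81.pElts 2 G))).Characteristic :=
    Sylow.characteristic_of_normal Q₀' hQ₀n
  obtain ⟨Q₀, hQ₀⟩ : ∃ Q₀ : Subgroup G, Q₀ =
      (Q₀' : Subgroup ↥(Subgroup.closure (Helper81.pElts 2 G))).map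
        (Subgroup.closure (Helper81.pElts 2 G)).subtype := ⟨_, rfl⟩
  have hQ₀norm : Q₀.Normal := by
    rw [hQ₀]; exact ConjAct.normal_of_characteristic_of_normal
  have hQ₀p : IsPGroup p Q₀ := by
    rw [hQ₀]; exact Q₀'.isPGroup'.map _
  have hQ₀K : Q₀ ≤ Subgroup.closure (Helper81.pElts 2 G) := by
    rw [hQ₀]; exact Subgroup.map_subtype_le _
  have hQ₀i : ¬ p ∣ Q₀.relIndex (Subgroup.closure (Helper81.pElts 2 G)) := by
    have e : Q₀.subgroupOf (Subgroup.closure (Helper81.pElts 2 G)) = Q₀' := by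
      rw [hQ₀]
      exact Subgroup.comap_map_eq_self_of_injective (Subgroup.subtype_injective _) _
    show ¬ p ∣ (Q₀.subgroupOf (Subgroup.closure (Helper81.pElts 2 G))).index
    rw [e]
    exact Q₀'.not_dvd_index
  exact Helper81.real_bijection_of_normal (Subgroup.closure (Helper81.pElts 2 G)) P Q₀ hQ₀K hQ₀p
    hQ₀i Helper81.odd_index_closure_two hreal

end Cfsg.Agent.S4865
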