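import Cfsg.Statements.S4870
import Cfsg.Agent.Helper81.TwistInd
import Cfsg.Agent.Helper81.IrrCount
import Cfsg.Agent.Helper15.LinChar

set_option autoImplicit false
open Cfsg

namespace Cfsg.Agent.S4870

open Cfsg.Agent.Helper15 Cfsg.Agent.Helper81

theorem charDegree_of_apply_one {G : Type*} [Group G] (χ : G → ℂ) (d : ℕ) (h : χ 1 = d) :
    charDegree χ = d := by
  unfold charDegree
  rw [h]
  simp

/-- Let G be a finite group with a non-abelian minimal normal subgroup N, and let φ be an irreducible complex character of N with stabilizer I in G (the elements g with φ(g n g⁻¹) = φ(n) for all n ∈ N) such that φ extends to an irreducible character of I. Put d = φ(1)·[G : I]. Then the number of linear characters of G is at most [G : I] times the number of irreducible characters of G of degree d. -/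
theorem result {G : Type*} [Group G] [Finite G] (N : Subgroup G) (hN : N.Normal) (hN1 : N ≠ ⊥) (hmin : ∀ M : Subgroup G, M.Normal → M ≤ N → M = ⊥ ∨ M = N) (hna : ¬ IsMulCommutative ↥N) (φ : Cfsg.IrrCharacter ↥N) (I : Subgroup G) (hI : ∀ g : G, g ∈ I ↔ ∀ n n' : ↥N, (n' : G) = g * (n : G) * g⁻¹ → (φ : ↥N → ℂ) n' = (φ : ↥N → ℂ) n) (hNI : N ≤ I) (hext : ∃ ψ : Cfsg.IrrCharacter ↥I, ∀ n : ↥N, (ψ : ↥I → ℂ) (Subgroup.inclusion hNI n) = (φ : ↥N → ℂ) n) : Nat.card {χ : Cfsg.IrrCharacter G // Cfsg.charDegree (χ : G → ℂ) = 1} ≤ I.index * Nat.card {χ : Cfsg.IrrCharacter G // Cfsg.charDegree (χ : G → ℂ) = Cfsg.charDegree (φ : ↥N → ℂ) * I.index} := by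
  classical
  have := hN
  have : Fintype G := Fintype.ofFinite G
  have : Fintype N := Fintype.ofFinite N
  have : Fintype I := Fintype.ofFinite I
  obtain ⟨ψ, hψ⟩ := hext
  have hφ : IsIrrCharacter N (φ : N → ℂ) := φ.2
  have hIeq : I = inertia N (φ : N → ℂ) := by
    ext g
    rw [hI, mem_inertia_iff]
    constructor
    · intro h n
      exact h n ⟨g * n * g⁻¹, hN.conj_mem (n : G) n.2 g⟩ rfl
    · intro h n n' hn'
      have : n' = ⟨g * n * g⁻¹, hN.conj_mem (n : G) n.2 g⟩ := Subtype.ext hn'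
      rw [this]
      exact h n
  have hres : resTo N I hNI (ψ : I → ℂ) = (φ : N → ℂ) := by
    funext n
    exact hψ n
  have hφφ : classInner (φ : N → ℂ) (φ : N → ℂ) ≠ 0 := by
    rw [Helper74.irr_inner_self φ]
    exact one_ne_zero
  obtain ⟨hχ₀, -⟩ :=
    isIrrCharacter_indFun_inertia N hφ I hIeq hNI ψ.2 (by rw [hres]; exact hφφ)
  set χ₀ : G → ℂ := indFun I (ψ : I → ℂ) with hχ₀def
  obtain ⟨dφ, hdφpos, hdφ⟩ := irr_degree_pos hφ
  have hψ1 : (ψ : I → ℂ) 1 = dφ := by
    have := hψ 1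
    rw [hdφ] at this
    simpa using this
  have hχ₀1 : χ₀ 1 = ((dφ * I.index : ℕ) : ℂ) := by
    rw [hχ₀def, indFun_apply_one, hψ1]
    push_cast
    ring
  have hdegφ : charDegree (φ : N → ℂ) = dφ := charDegree_of_apply_one _ _ hdφ
  have hlin1 : ∀ χ : IrrCharacter G, charDegree (χ : G → ℂ) = 1 → (χ : G → ℂ) 1 = 1 := by
    intro χ h
    obtain ⟨d, hd, hd1⟩ := irr_degree_pos χ.2
    rw [charDegree_of_apply_one _ _ hd1] at h
    rw [hd1, h]
    simp
  let ν : {χ : IrrCharacter G // charDegree (χ : G → ℂ) = 1} → (G →* ℂˣ) :=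
    fun χ => linCharUnits (Helper74.irr_isCharacter χ.1) (hlin1 χ.1 χ.2)
  have hν : ∀ (χ : {χ : IrrCharacter G // charDegree (χ : G → ℂ) = 1}) (g : G),
      ((ν χ g : ℂˣ) : ℂ) = (χ.1 : G → ℂ) g := fun χ g => rfl
  let F : {χ : IrrCharacter G // charDegree (χ : G → ℂ) = 1} →
      {χ : IrrCharacter G // charDegree (χ : G → ℂ) = charDegree (φ : N → ℂ) * I.index} :=
    fun χ => ⟨⟨fun g => ((ν χ g : ℂˣ) : ℂ) * χ₀ g, isIrrCharacter_twist (ν χ) hχ₀⟩, by
      apply charDegree_of_apply_one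
      show ((ν χ 1 : ℂˣ) : ℂ) * χ₀ 1 = _
      rw [map_one, Units.val_one, one_mul, hχ₀1, hdegφ]⟩
  have hFval : ∀ (χ : {χ : IrrCharacter G // charDegree (χ : G → ℂ) = 1}) (g : G),
      ((F χ).1 : G → ℂ) g = ((ν χ g : ℂˣ) : ℂ) * χ₀ g := fun χ g => rfl
  have hfinIrr : Finite (IrrCharacter G) := Helper79.irr_finite'
  have : Fintype {χ : IrrCharacter G // charDegree (χ : G → ℂ) = 1} := Fintype.ofFinite _
  have : Fintype {χ : IrrCharacter G // charDegree (χ : G → ℂ) =
      charDegree (φ : N → ℂ) * I.index} := Fintype.ofFinite _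
  have hνN : ∀ (ν' : G →* ℂˣ), ∀ n ∈ N, ν' n = 1 :=
    fun ν' => hom_trivial_on_minimal_normal N hN hmin hna ν'
  have key := Finset.card_le_mul_card_image (f := F) Finset.univ I.index ?_
  · calc Nat.card {χ : IrrCharacter G // charDegree (χ : G → ℂ) = 1}
        = (Finset.univ : Finset {χ : IrrCharacter G // charDegree (χ : G → ℂ) = 1}).card := by
          rw [Nat.card_eq_fintype_card]; rfl
      _ ≤ I.index * (Finset.univ.image F).card := key
      _ ≤ I.index * Nat.card {χ : IrrCharacter G // charDegree (χ : G → ℂ) =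
            charDegree (φ : N → ℂ) * I.index} := by
          apply Nat.mul_le_mul_left
          rw [Nat.card_eq_fintype_card]
          exact Finset.card_le_univ _
  · intro a ha
    obtain ⟨χ', -, rfl⟩ := Finset.mem_image.mp ha
    set T : Finset (IrrCharacter G) :=
      (Finset.univ.filter fun x => F x = F χ').image (fun l => l.1) with hT
    have hcard : (Finset.univ.filter fun x => F x = F χ').card = T.card := by
      rw [hT, Finset.card_image_of_injective _ Subtype.val_injective]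
    rw [hcard]
    have hTS : Nat.card ↥(↑T : Set (IrrCharacter G)) = T.card := by
      rw [Nat.card_coe_set_eq, Set.ncard_coe_finset]
    rw [← hTS]
    apply card_irr_le_index_of_restrict I (fun i : I => (χ'.1 : G → ℂ) (i : G))
    intro χ hχ g i
    rw [Finset.mem_coe, hT, Finset.mem_image] at hχ
    obtain ⟨l, hl, rfl⟩ := hχ
    rw [Finset.mem_filter] at hl
    have hFl : ∀ g : G, ((ν l g : ℂˣ) : ℂ) * χ₀ g = ((ν χ' g : ℂˣ) : ℂ) * χ₀ g := by
      intro g
      rw [← hFval, ← hFval, hl.2]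
    have hq : ∀ g : G, (((ν l * (ν χ')⁻¹) g : ℂˣ) : ℂ) * χ₀ g = χ₀ g := by
      intro g
      rw [MonoidHom.mul_apply, MonoidHom.inv_apply, Units.val_mul, mul_comm ((ν l g : ℂˣ) : ℂ),
        mul_assoc, hFl g, ← mul_assoc, ← Units.val_mul, inv_mul_cancel, Units.val_one, one_mul]
    have h1 := twist_eq_one_on_inertia N hφ I hIeq hNI ψ.2 hres (ν l * (ν χ')⁻¹)
      (hνN _) hq (i : G) i.2
    have h2 : ν l (i : G) = ν χ' (i : G) := by
      rw [MonoidHom.mul_apply, MonoidHom.inv_apply, mul_inv_eq_one] at h1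
      exact h1
    show (l.1 : G → ℂ) (g * i) = (l.1 : G → ℂ) g * (χ'.1 : G → ℂ) (i : G)
    rw [linChar_mul (Helper74.irr_isCharacter l.1) (hlin1 l.1 l.2), ← hν l (i : G), h2, hν]

end Cfsg.Agent.S4870
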