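import Cfsg.Statements.S4871
import Cfsg.Agent.Helper81.SReal2
import Cfsg.Agent.Helper81.TwistInd
import Cfsg.Agent.Helper81.IrrCount
import Cfsg.Agent.Helper15.LinChar
import Cfsg.Agent.Helper80.Linear

set_option autoImplicit false
open Cfsg

namespace Cfsg.Agent.S4871

open Cfsg.Agent.Helper15 Cfsg.Agent.Helper81

theorem charDegree_of_apply_one' {G : Type*} [Group G] (χ : G → ℂ) (d : ℕ) (h : χ 1 = d) :
    charDegree χ = d := by
  unfold charDegree
  rw [h]
  simp

/-- A real-valued linear character of a finite group squares to one. -/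
theorem linChar_sq_of_real {G : Type*} [Group G] [Finite G] {lam : G → ℂ} (h : IsCharacter G lam)
    (h1 : lam 1 = 1) (hreal : ∀ g, (lam g).im = 0) (g : G) : lam (g * g) = 1 := by
  have h2 : lam g⁻¹ = lam g := by
    rw [linChar_inv_eq_conj h h1]
    exact Complex.conj_eq_iff_im.mpr (hreal g)
  calc lam (g * g) = lam g * lam g := linChar_mul h h1 g g
    _ = lam g * lam g⁻¹ := by rw [h2]
    _ = lam (g * g⁻¹) := (linChar_mul h h1 g g⁻¹).symm
    _ = 1 := by rw [mul_inv_cancel, h1]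

/-- A unit with `u² = 1` and `u^q = 1`, `q` odd, is one. -/
theorem unit_eq_one_of_sq_of_odd_pow {M : Type*} [Monoid M] (u : M) (q : ℕ) (hq : Odd q)
    (h2 : u * u = 1) (hq' : u ^ q = 1) : u = 1 := by
  obtain ⟨m, rfl⟩ := hq
  rw [pow_succ, pow_mul, sq, h2, one_pow, one_mul] at hq'
  exact hq'

/-- Let G be a finite group that is the semidirect product of a normal elementary abelian subgroup N of odd order by a non-trivial 2-subgroup P, with N the unique minimal normal subgroup of G. Consider the strongly real irreducible complex characters of G (Frobenius–Schur indicator +1) whose degree is 1 or even. Then their average degree is at least 4/3: four times their number is at most three times the sum of their degrees. -/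
theorem result {G : Type*} [Group G] [Finite G] (N P : Subgroup G) (hN : N.Normal) (q : ℕ) [Fact q.Prime] (hq : q ≠ 2) (hNel : Cfsg.IsElementaryAbelian q N) (hP : IsPGroup 2 ↥P) (hP1 : P ≠ ⊥) (hdisj : N ⊓ P = ⊥) (hprod : N ⊔ P = ⊤) (hmin : N ≠ ⊥ ∧ ∀ M : Subgroup G, M.Normal → M ≠ ⊥ → N ≤ M) : 4 * Nat.card {χ : Cfsg.IrrCharacter G // (Cfsg.charDegree (χ : G → ℂ) = 1 ∨ 2 ∣ Cfsg.charDegree (χ : G → ℂ)) ∧ (Nat.card G : ℂ)⁻¹ * ∑ᶠ g : G, (χ : G → ℂ) (g * g) = 1} ≤ 3 * (∑ᶠ χ : {χ : Cfsg.IrrCharacter G // (Cfsg.charDegree (χ : G → ℂ) = 1 ∨ 2 ∣ Cfsg.charDegree (χ : G → ℂ)) ∧ (Nat.card G : ℂ)⁻¹ * ∑ᶠ g : G, (χ : G → ℂ) (g * g) = 1}, Cfsg.charDegree (χ.1 : G → ℂ)) := by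
  classical
  have := hN
  have : Fintype G := Fintype.ofFinite G
  have : Fintype N := Fintype.ofFinite N
  let _ := Helper74.irrFintype G
  obtain ⟨hNcomm, hNexp⟩ := hNel
  have hcomm : ∀ a ∈ N, ∀ b ∈ N, a * b = b * a := by
    intro a ha b hb
    have := hNcomm.is_comm.comm (⟨a, ha⟩ : N) ⟨b, hb⟩
    exact congrArg Subtype.val this
  have hqodd : Odd q := (Fact.out : q.Prime).odd_of_ne_two hq
  obtain ⟨z, hzP, hz1, hzz, hzc⟩ := exists_central_involution P hP hP1
  have hzinv : z⁻¹ = z := inv_eq_of_mul_eq_one_right hzz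
  have hzN := involution_inverts N P hN hcomm hdisj hprod hmin z hzP hz1 hzz hzc
  obtain ⟨ρ, hρP, hρN, hρid, hρ1⟩ := exists_retraction N P hN hdisj hprod
  obtain ⟨θ₀, n₀, hθ₀⟩ := exists_hom_apply_ne_one N hcomm hmin.1
  set θ : N → ℂ := fun n => ((θ₀ n : ℂˣ) : ℂ) with hθ
  have hθirr : IsIrrCharacter N θ := Helper80.isIrrCharacter_of_monoidHom θ₀
  have hθcf : IsClassFunction N θ :=
    Helper74.isClassFunction_of_isCharacter (Helper74.isCharacter_of_isIrr hθirr)
  set T : Subgroup G := inertia N θ with hTdef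
  have : Fintype T := Fintype.ofFinite T
  have hNT : N ≤ T := le_inertia N hθcf
  obtain ⟨ξ₀, hξ₀⟩ := exists_extension_via_retraction N θ₀ T rfl hNT ρ hρN
  have hξθ : ∀ n : N, ξ₀ ⟨n, hNT n.2⟩ = θ₀ n := by
    intro n
    rw [hξ₀]
    congr 1
    apply Subtype.ext
    simp [hρ1 n n.2]
  -- `z` normalises `T` and inverts `ξ₀`
  have hzT : ∀ t : T, ∃ h : z * t * z⁻¹ ∈ T, ξ₀ ⟨z * t * z⁻¹, h⟩ = (ξ₀ t)⁻¹ := by
    intro t
    have hmem : z * t * z⁻¹ ∈ T := by
      apply (mem_inertia_iff N θ _).mpr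
      intro n
      have ht := (mem_inertia_iff N θ t).mp t.2 n
      rw [← ht]
      congr 1
      apply Subtype.ext
      show z * t * z⁻¹ * n * (z * t * z⁻¹)⁻¹ = t * n * (t : G)⁻¹
      have h1 : z⁻¹ * (n : G) * z = (n : G)⁻¹ := by
        have := hzN n n.2
        rw [hzinv] at this ⊢
        exact this
      have h2 : (t : G) * (n : G)⁻¹ * (t : G)⁻¹ ∈ N := hN.conj_mem _ (N.inv_mem n.2) t
      have h3 := hzN _ h2
      calc z * t * z⁻¹ * n * (z * t * z⁻¹)⁻¹
          = z * (t * (z⁻¹ * n * z) * (t : G)⁻¹) * z⁻¹ := by group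
        _ = z * (t * (n : G)⁻¹ * (t : G)⁻¹) * z⁻¹ := by rw [h1]
        _ = (t * (n : G)⁻¹ * (t : G)⁻¹)⁻¹ := h3
        _ = t * n * (t : G)⁻¹ := by group
    refine ⟨hmem, ?_⟩
    rw [hξ₀, hξ₀, ← map_inv θ₀]
    congr 1
    apply Subtype.ext
    show z * t * z⁻¹ * (ρ (z * t * z⁻¹))⁻¹ = ((t : G) * (ρ t)⁻¹)⁻¹
    have h1 : ρ (z * t * z⁻¹) = ρ t := by
      rw [map_mul, map_mul, map_inv, hρid z hzP]
      have := hzc (ρ t) (hρP t)
      rw [← this, mul_assoc, mul_inv_cancel, mul_one]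
    have h2 : z⁻¹ * (ρ t)⁻¹ = (ρ t)⁻¹ * z⁻¹ := by
      rw [← mul_inv_rev, ← mul_inv_rev, hzc (ρ t) (hρP t)]
    have h3 := hzN _ (hρN t)
    rw [h1]
    calc z * t * z⁻¹ * (ρ t)⁻¹ = z * t * (z⁻¹ * (ρ t)⁻¹) := by group
      _ = z * (t * (ρ t)⁻¹) * z⁻¹ := by rw [h2]; group
      _ = ((t : G) * (ρ t)⁻¹)⁻¹ := h3
  set ξ : T → ℂ := fun t => ((ξ₀ t : ℂˣ) : ℂ) with hξ
  have hfs : fsInd (indFun T ξ) = 1 :=
    fsInd_indFun_of_inverting N θ₀ T rfl hNT ξ₀ hξθ z hzz hzN hzT
  have hξirr : IsIrrCharacter T ξ := Helper80.isIrrCharacter_of_monoidHom ξ₀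
  have hres : resTo N T hNT ξ = θ := by
    funext n
    show ((ξ₀ ⟨n, hNT n.2⟩ : ℂˣ) : ℂ) = _
    rw [hξθ]
  have hθθ : classInner θ θ ≠ 0 := by
    rw [Helper74.irr_inner_self ⟨θ, hθirr⟩]
    exact one_ne_zero
  obtain ⟨hχ₀, -⟩ :=
    isIrrCharacter_indFun_inertia N hθirr T rfl hNT hξirr (by rw [hres]; exact hθθ)
  set χ₀ : G → ℂ := indFun T ξ with hχ₀def
  set d : ℕ := T.index with hd
  have hχ₀1 : χ₀ 1 = (d : ℂ) := by
    rw [hχ₀def, indFun_apply_one]
    show (T.index : ℂ) * ((ξ₀ 1 : ℂˣ) : ℂ) = (d : ℂ)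
    rw [map_one, Units.val_one, mul_one]
  -- `d` is even
  have hzT' : z ∉ T := by
    intro hz
    apply hθ₀
    have h1 := (mem_inertia_iff N θ z).mp hz n₀
    have h2 : (⟨z * n₀ * z⁻¹, hN.conj_mem (n₀ : G) n₀.2 z⟩ : N) = n₀⁻¹ :=
      Subtype.ext (hzN n₀ n₀.2)
    rw [h2] at h1
    have h3 : θ₀ n₀⁻¹ = θ₀ n₀ := Units.ext h1
    rw [map_inv] at h3
    have h4 : θ₀ n₀ * θ₀ n₀ = 1 := by
      conv_lhs => lhs; rw [← h3]
      exact inv_mul_cancel _
    have h5 : θ₀ n₀ ^ q = 1 := by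
      rw [← map_pow]
      have : n₀ ^ q = 1 := Subtype.ext (hNexp n₀ n₀.2)
      rw [this, map_one]
    exact unit_eq_one_of_sq_of_odd_pow _ q hqodd h4 h5
  have hd2 : 2 ∣ d := by
    have h1 : d ∣ N.index := Subgroup.index_dvd_of_le hNT
    rw [index_eq_card_of_semidirect N P hN hdisj hprod] at h1
    obtain ⟨k, hk⟩ := IsPGroup.iff_card.mp hP
    rw [hk] at h1
    obtain ⟨j, -, hj⟩ := (Nat.dvd_prime_pow Nat.prime_two).mp h1
    have hj0 : j ≠ 0 := by
      intro h0
      rw [h0, pow_zero] at hj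
      rw [hd, Subgroup.index_eq_one] at hj
      apply hzT'
      rw [hj]
      exact Subgroup.mem_top z
    rw [hj]
    exact dvd_pow_self 2 hj0
  have hdpos : 0 < d := Nat.pos_of_ne_zero Subgroup.index_ne_zero_of_finite
  -- reformulate the statement
  set deg : IrrCharacter G → ℕ := fun χ => charDegree (χ : G → ℂ) with hdeg
  set p : IrrCharacter G → Prop := fun χ =>
    (charDegree (χ : G → ℂ) = 1 ∨ 2 ∣ charDegree (χ : G → ℂ)) ∧
      (Nat.card G : ℂ)⁻¹ * ∑ᶠ g : G, (χ : G → ℂ) (g * g) = 1 with hp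
  have hpiff : ∀ χ, p χ ↔ (deg χ = 1 ∨ 2 ∣ deg χ) ∧ fsInd (χ : G → ℂ) = 1 := by
    intro χ
    rw [fsInd_eq_finsum]
  set S : Finset (IrrCharacter G) := Finset.univ.filter p with hS
  have hcardS : Nat.card {χ : IrrCharacter G // p χ} = S.card := by
    rw [Nat.card_eq_fintype_card, Fintype.card_subtype]
  have hsumS : ∑ᶠ χ : {χ : IrrCharacter G // p χ}, deg χ.1 = ∑ χ ∈ S, deg χ := by
    rw [finsum_eq_sum_of_fintype]
    exact (Finset.sum_subtype S (by intro x; simp [hS]) deg).symm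
  show 4 * Nat.card {χ : IrrCharacter G // p χ} ≤
    3 * ∑ᶠ χ : {χ : IrrCharacter G // p χ}, deg χ.1
  rw [hcardS, hsumS]
  set SL : Finset (IrrCharacter G) := S.filter (fun χ => deg χ = 1) with hSL
  set SE : Finset (IrrCharacter G) := S.filter (fun χ => deg χ = d) with hSE
  -- degrees are positive
  have hdegpos : ∀ χ : IrrCharacter G, 0 < deg χ ∧ (χ : G → ℂ) 1 = (deg χ : ℂ) := by
    intro χ
    obtain ⟨e, he, he1⟩ := irr_degree_pos χ.2
    have : deg χ = e := charDegree_of_apply_one' _ _ he1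
    rw [this]
    exact ⟨he, he1⟩
  -- the pointwise inequality
  have hpt : ∀ χ ∈ S, 4 + (if deg χ = d then d else 0) ≤
      3 * deg χ + (if deg χ = 1 then 1 else 0) := by
    intro χ hχ
    rw [hS, Finset.mem_filter] at hχ
    have h1 := ((hpiff χ).mp hχ.2).1
    have h2 := (hdegpos χ).1
    split_ifs with ha hb hb <;> omega
  have hsum := Finset.sum_le_sum hpt
  rw [Finset.sum_add_distrib, Finset.sum_add_distrib, Finset.sum_const, smul_eq_mul,
    ← Finset.mul_sum, Finset.sum_ite, Finset.sum_ite, Finset.sum_const_zero, add_zero,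
    Finset.sum_const_zero, add_zero, Finset.sum_const, Finset.sum_const, smul_eq_mul,
    smul_eq_mul, mul_one] at hsum
  -- the key count
  have hkey : SL.card ≤ d * SE.card := by
    -- the linear characters of `SL` as homomorphisms
    have hSLmem : ∀ χ : ↥SL, deg χ.1 = 1 ∧ fsInd (χ.1 : G → ℂ) = 1 := by
      intro χ
      have h1 := Finset.mem_filter.mp χ.2
      have h2 := Finset.mem_filter.mp h1.1
      exact ⟨h1.2, ((hpiff χ.1).mp h2.2).2⟩
    have hlin1 : ∀ χ : ↥SL, (χ.1 : G → ℂ) 1 = 1 := by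
      intro χ
      rw [(hdegpos χ.1).2, (hSLmem χ).1]
      simp
    let ν : ↥SL → (G →* ℂˣ) :=
      fun χ => linCharUnits (Helper74.irr_isCharacter χ.1) (hlin1 χ)
    have hν : ∀ (χ : ↥SL) (g : G), ((ν χ g : ℂˣ) : ℂ) = (χ.1 : G → ℂ) g := fun χ g => rfl
    have hνsq : ∀ (χ : ↥SL) (g : G), ν χ g * ν χ g = 1 := by
      intro χ g
      apply Units.ext
      rw [Units.val_mul, hν, Units.val_one,
        ← linChar_mul (Helper74.irr_isCharacter χ.1) (hlin1 χ)]
      exact linChar_sq_of_real (Helper74.irr_isCharacter χ.1) (hlin1 χ)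
        (real_of_fsInd_eq_one χ.1.2 (hSLmem χ).2) g
    have hνN : ∀ (χ : ↥SL), ∀ n ∈ N, ν χ n = 1 := by
      intro χ n hn
      apply unit_eq_one_of_sq_of_odd_pow _ q hqodd (hνsq χ n)
      rw [← map_pow, hNexp n hn, map_one]
    have hFmem : ∀ χ : ↥SL,
        (⟨fun g => ((ν χ g : ℂˣ) : ℂ) * χ₀ g, isIrrCharacter_twist (ν χ) hχ₀⟩ :
          IrrCharacter G) ∈ SE := by
      intro χ
      have hdegF : deg (⟨fun g => ((ν χ g : ℂˣ) : ℂ) * χ₀ g,
          isIrrCharacter_twist (ν χ) hχ₀⟩ : IrrCharacter G) = d := by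
        apply charDegree_of_apply_one'
        show ((ν χ 1 : ℂˣ) : ℂ) * χ₀ 1 = _
        rw [map_one, Units.val_one, one_mul, hχ₀1]
      rw [hSE, Finset.mem_filter, hS, Finset.mem_filter]
      refine ⟨⟨Finset.mem_univ _, ?_⟩, hdegF⟩
      rw [hpiff]
      refine ⟨Or.inr (by rw [hdegF]; exact hd2), ?_⟩
      show fsInd (fun g => ((ν χ g : ℂˣ) : ℂ) * χ₀ g) = 1
      rw [← hfs]
      unfold fsInd
      congr 1
      refine Finset.sum_congr rfl fun g _ => ?_
      show ((ν χ (g * g) : ℂˣ) : ℂ) * χ₀ (g * g) = χ₀ (g * g)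
      rw [map_mul, hνsq χ g, Units.val_one, one_mul]
    let F : ↥SL → ↥SE := fun χ => ⟨_, hFmem χ⟩
    have hFval : ∀ (χ : ↥SL) (g : G),
        (((F χ : ↥SE) : IrrCharacter G) : G → ℂ) g = ((ν χ g : ℂˣ) : ℂ) * χ₀ g := fun χ g => rfl
    have key := Finset.card_le_mul_card_image (f := F) Finset.univ d ?_
    · calc SL.card = (Finset.univ : Finset ↥SL).card := by
            rw [Finset.card_univ, Fintype.card_coe]
        _ ≤ d * (Finset.univ.image F).card := key
        _ ≤ d * SE.card := by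
            apply Nat.mul_le_mul_left
            calc (Finset.univ.image F).card ≤ (Finset.univ : Finset ↥SE).card :=
                  Finset.card_le_univ _
              _ = SE.card := by rw [Finset.card_univ, Fintype.card_coe]
    · intro a ha
      obtain ⟨χ', -, rfl⟩ := Finset.mem_image.mp ha
      set R : Finset (IrrCharacter G) :=
        (Finset.univ.filter fun x => F x = F χ').image (fun l => l.1) with hR
      have hcard : (Finset.univ.filter fun x => F x = F χ').card = R.card := by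
        rw [hR, Finset.card_image_of_injective _ Subtype.val_injective]
      rw [hcard]
      have hRS : Nat.card ↥(↑R : Set (IrrCharacter G)) = R.card := by
        rw [Nat.card_coe_set_eq, Set.ncard_coe_finset]
      rw [← hRS]
      apply card_irr_le_index_of_restrict T (fun i : T => (χ'.1 : G → ℂ) (i : G))
      intro χ hχ g i
      rw [Finset.mem_coe, hR, Finset.mem_image] at hχ
      obtain ⟨l, hl, rfl⟩ := hχ
      rw [Finset.mem_filter] at hl
      have hFl : ∀ g : G, ((ν l g : ℂˣ) : ℂ) * χ₀ g = ((ν χ' g : ℂˣ) : ℂ) * χ₀ g := by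
        intro g
        rw [← hFval, ← hFval, hl.2]
      have hq' : ∀ g : G, (((ν l * (ν χ')⁻¹) g : ℂˣ) : ℂ) * χ₀ g = χ₀ g := by
        intro g
        rw [MonoidHom.mul_apply, MonoidHom.inv_apply, Units.val_mul, mul_comm ((ν l g : ℂˣ) : ℂ),
          mul_assoc, hFl g, ← mul_assoc, ← Units.val_mul, inv_mul_cancel, Units.val_one, one_mul]
      have hκN : ∀ n ∈ N, (ν l * (ν χ')⁻¹) n = 1 := by
        intro n hn
        rw [MonoidHom.mul_apply, MonoidHom.inv_apply, hνN l n hn, hνN χ' n hn, inv_one, mul_one]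
      have h1 := twist_eq_one_on_inertia N hθirr T rfl hNT hξirr hres (ν l * (ν χ')⁻¹)
        hκN hq' (i : G) i.2
      have h2 : ν l (i : G) = ν χ' (i : G) := by
        rw [MonoidHom.mul_apply, MonoidHom.inv_apply, mul_inv_eq_one] at h1
        exact h1
      show (l.1 : G → ℂ) (g * i) = (l.1 : G → ℂ) g * (χ'.1 : G → ℂ) (i : G)
      rw [linChar_mul (Helper74.irr_isCharacter l.1) (hlin1 l), ← hν l (i : G), h2, hν]
  -- conclude
  have hSLeq : (S.filter fun χ => deg χ = 1).card = SL.card := rfl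
  have hSEeq : (S.filter fun χ => deg χ = d).card = SE.card := rfl
  rw [hSLeq, hSEeq] at hsum
  have h5 : SE.card * d = d * SE.card := Nat.mul_comm _ _
  omega

end Cfsg.Agent.S4871
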