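import Cfsg.Statements.S4873
import Cfsg.Agent.Helper82.OddIndexReal

set_option autoImplicit false
open Cfsg

namespace Cfsg.Agent.S4873

/-- Let N be a normal subgroup of odd index in the finite group G. Then every irreducible complex character of N with Frobenius–Schur indicator +1 lies under exactly one irreducible character of G with Frobenius–Schur indicator +1. -/
theorem result {G : Type*} [Group G] [Finite G] (N : Subgroup G) [N.Normal] (hodd : Odd N.index) (φ : Cfsg.IrrCharacter ↥N) (hφ : (Nat.card ↥N : ℂ)⁻¹ * ∑ᶠ g : ↥N, (φ : ↥N → ℂ) (g * g) = 1) : ∃! χ : Cfsg.IrrCharacter G, (Nat.card G : ℂ)⁻¹ * ∑ᶠ g : G, (χ : G → ℂ) (g * g) = 1 ∧ (∑ᶠ n : ↥N, (χ : G → ℂ) n * (starRingEnd ℂ) ((φ : ↥N → ℂ) n)) ≠ 0 := by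
  classical
  have := Fintype.ofFinite G
  have hφ' : Cfsg.Agent.Helper81.fsInd (φ : N → ℂ) = 1 := by
    rw [Cfsg.Agent.Helper81.fsInd_eq_finsum]; exact hφ
  have hN0 : (Nat.card N : ℂ) ≠ 0 := by
    have : 0 < Nat.card N := Nat.card_pos
    exact_mod_cast this.ne'
  have hiff : ∀ χ : Cfsg.IrrCharacter G,
      (Cfsg.classInner (fun n : N => (χ : G → ℂ) n) (φ : N → ℂ) ≠ 0 ↔
        (∑ᶠ n : ↥N, (χ : G → ℂ) n * (starRingEnd ℂ) ((φ : ↥N → ℂ) n)) ≠ 0) := by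
    intro χ
    rw [finsum_eq_sum_of_fintype]
    unfold Cfsg.classInner
    rw [Ne, mul_eq_zero, not_or]
    constructor
    · intro h; exact h.2
    · intro h; exact ⟨inv_ne_zero hN0, h⟩
  obtain ⟨χ, ⟨h1, h2⟩, huniq⟩ :=
    Cfsg.Agent.Helper82.existsUnique_fsInd_one_over N hodd φ hφ'
  refine ⟨χ, ⟨?_, (hiff χ).mp h2⟩, ?_⟩
  · rw [← Cfsg.Agent.Helper81.fsInd_eq_finsum]; exact h1
  · rintro χ' ⟨h1', h2'⟩
    apply huniq
    refine ⟨?_, (hiff χ').mpr h2'⟩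
    rw [Cfsg.Agent.Helper81.fsInd_eq_finsum]; exact h1'

end Cfsg.Agent.S4873
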