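import Cfsg.Statements.S4885
import Cfsg.Agent.Helper74.PQMain

set_option autoImplicit false
open Cfsg

namespace Cfsg.Agent.S4885

/-- Let p and q be primes dividing the order of the finite group G, and suppose G is p-solvable and q-solvable. Fix maximal ideals of the algebraic integers containing p and q, defining the principal p-block and the principal q-block. If the irreducible characters of degree prime to p in the principal p-block are exactly the irreducible characters of degree prime to q in the principal q-block, then p = q. -/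
theorem result {G : Type*} [Group G] [Finite G] (p q : ℕ) [Fact p.Prime] [Fact q.Prime] (hp : p ∣ Nat.card G) (hq : q ∣ Nat.card G) (hps : Cfsg.IsPSolvable p G) (hqs : Cfsg.IsPSolvable q G) (Mp Mq : Ideal Cfsg.AlgInt) (hMp : Cfsg.IsPModular p Mp) (hMq : Cfsg.IsPModular q Mq) (h : ∀ χ : Cfsg.IrrCharacter G, (χ ∈ Cfsg.principalBlock Mp G ∧ ¬ p ∣ Cfsg.charDegree (χ : G → ℂ)) ↔ (χ ∈ Cfsg.principalBlock Mq G ∧ ¬ q ∣ Cfsg.charDegree (χ : G → ℂ))) : p = q := by
  classical
  by_contra hne
  have hBq : (Nat.card (Cfsg.pPrimeCore q G)).Coprime q :=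
    Cfsg.Agent.Lib.card_pPrimeCore_coprime q
  have hAp : (Nat.card (Cfsg.pPrimeCore p G)).Coprime p :=
    Cfsg.Agent.Lib.card_pPrimeCore_coprime p
  refine Cfsg.Agent.Helper74.PQ.false_of_kernels p q hne hp hps ?_ ?_
  · intro S x hx
    refine Cfsg.Agent.Helper74.PQ.commutator_of_degree_transfer p hMp hps (Cfsg.pPrimeCore q G)
      ?_ S x hx
    intro χ hχ hdeg b hb
    have h1 := (h χ).mp ⟨hχ, hdeg⟩
    exact Cfsg.Agent.Helper79.principalBlock_ker hMq (Cfsg.pPrimeCore q G) hBq χ h1.1 b hb
  · intro S x hx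
    refine Cfsg.Agent.Helper74.PQ.commutator_of_degree_transfer q hMq hqs (Cfsg.pPrimeCore p G)
      ?_ S x hx
    intro χ hχ hdeg b hb
    have h1 := (h χ).mpr ⟨hχ, hdeg⟩
    exact Cfsg.Agent.Helper79.principalBlock_ker hMp (Cfsg.pPrimeCore p G) hAp χ h1.1 b hb

end Cfsg.Agent.S4885
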