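import Cfsg.Statements.S4888
import Cfsg.Agent.Helper76.PrincipalNilpotent

set_option autoImplicit false
open Cfsg

namespace Cfsg.Agent.S4888

/-- Let G be a finite group, p a prime and M a maximal ideal of the algebraic integers containing p. Then all height-zero irreducible characters of the principal p-block of G (equivalently, all its characters of degree prime to p) have the same degree if and only if G has a normal p-complement. -/
theorem result {G : Type*} [Group G] [Finite G] (p : ℕ) [Fact p.Prime] (M : Ideal Cfsg.AlgInt) (hM : Cfsg.IsPModular p M) : (∃ d : ℕ, ∀ χ : Cfsg.IrrCharacter G, χ ∈ (Cfsg.principalBlock M G) → Cfsg.blockHeight p (Cfsg.principalBlock M G) (χ : G → ℂ) = 0 → Cfsg.charDegree (χ : G → ℂ) = d) ↔ Cfsg.HasNormalPComplement p G := by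
  classical
  let _ : Fintype G := Fintype.ofFinite G
  have hMp : M.IsPrime := Helper78.isPrime_of_isPModular hM
  have hmin : Helper16.minExp p (Cfsg.principalBlock M G) = 0 :=
    Helper76.minExp_principalBlock p hMp
  have hht : ∀ χ : Cfsg.IrrCharacter G, χ ∈ Cfsg.principalBlock M G →
      (Cfsg.blockHeight p (Cfsg.principalBlock M G) (χ : G → ℂ) = 0 ↔
        ¬ p ∣ Cfsg.charDegree (χ : G → ℂ)) := by
    intro χ hχ
    rw [Helper16.blockHeight_eq_zero_iff p hχ, hmin]
    have hpos : Cfsg.charDegree (χ : G → ℂ) ≠ 0 :=
      (Helper78.charDegree_pos_of_isIrrCharacter χ.2).ne'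
    rw [Nat.factorization_eq_zero_iff]
    have hp : p.Prime := Fact.out
    tauto
  constructor
  · rintro ⟨d, hd⟩
    have h1B := Helper78.principalIrr_mem_principalBlock M hMp G
    have h1deg : Cfsg.charDegree ((Helper79.principalIrr G : Cfsg.IrrCharacter G) : G → ℂ) = 1 := by
      have : ((Helper79.principalIrr G : Cfsg.IrrCharacter G) : G → ℂ) 1 = 1 := rfl
      unfold Cfsg.charDegree
      rw [this]
      simp
    have hd1 : d = 1 := by
      rw [← hd _ h1B ((hht _ h1B).2 (by
        rw [h1deg]
        intro h
        exact (Fact.out : p.Prime).one_lt.ne' (Nat.dvd_one.mp h)))]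
      exact h1deg
    apply Helper76.hasNormalPComplement_of_principalBlock p hM
    intro χ hχ hne
    by_contra hnd
    exact hne (by rw [hd χ hχ ((hht χ hχ).2 hnd), hd1])
  · intro hG
    refine ⟨1, fun χ hχ hh => ?_⟩
    exact Helper76.charDegree_eq_one_of_hasNormalPComplement p hM hG χ hχ ((hht χ hχ).1 hh)

end Cfsg.Agent.S4888
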