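import Cfsg.Statements.S4911
import Cfsg.Agent.Helper81.GlaubReal
import Cfsg.Agent.Helper81.GlaubP5

set_option autoImplicit false
open Cfsg

namespace Cfsg.Agent.S4911

open Cfsg.Agent.Helper81 in
theorem real_cls_iff {H : Type*} [Group H] (c : ConjClasses H) :
    (∀ k : H, ConjClasses.mk k = c → IsConj k k⁻¹) ↔ clsInv H c = c := by
  constructor
  · intro h
    obtain ⟨k₀, rfl⟩ := ConjClasses.exists_rep c
    exact (clsInv_eq_self_iff k₀).mpr (h k₀ rfl)
  · rintro h k rfl
    exact (clsInv_eq_self_iff k).mp h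

/-- Let P and K be subgroups of a finite group with P a p-group normalizing K and K of order prime to p. Then the number of P-invariant real-valued irreducible complex characters of K equals the number of conjugacy classes of K that are real (closed under inversion) and P-invariant. Moreover, if every real-valued irreducible character of K is P-invariant, then every real element of K (one conjugate in K to its inverse) is conjugate in K to an element centralized by P. -/
theorem result {G : Type*} [Group G] [Finite G] (p : ℕ) [Fact p.Prime] (P K : Subgroup G) (hP : IsPGroup p ↥P) (hK : ¬ p ∣ Nat.card ↥K) (hPK : P ≤ Subgroup.normalizer (K : Set G)) : Nat.card {θ : Cfsg.IrrCharacter ↥K // (∀ k : ↥K, ((θ : ↥K → ℂ) k).im = 0) ∧ (∀ x ∈ P, ∀ k k' : ↥K, (k' : G) = x * (k : G) * x⁻¹ → (θ : ↥K → ℂ) k' = (θ : ↥K → ℂ) k)} = Nat.card {c : ConjClasses ↥K // (∀ k : ↥K, ConjClasses.mk k = c → IsConj k k⁻¹) ∧ ∀ k : ↥K, ConjClasses.mk k = c → ∀ x ∈ P, ∀ k' : ↥K,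 (k' : G) = x * (k : G) * x⁻¹ → ConjClasses.mk k' = c} ∧ ((∀ θ : Cfsg.IrrCharacter ↥K, (∀ k : ↥K, ((θ : ↥K → ℂ) k).im = 0) → (∀ x ∈ P, ∀ k k' : ↥K, (k' : G) = x * (k : G) * x⁻¹ → (θ : ↥K → ℂ) k' = (θ : ↥K → ℂ) k)) → ∀ k : ↥K, IsConj k k⁻¹ → ∃ k' : ↥K, IsConj k k' ∧ ∀ x ∈ P, x * (k' : G) * x⁻¹ = (k' : G)) := by
  classical
  have : Fintype K := Fintype.ofFinite K
  have hnorm : ∀ s ∈ P, ∀ g ∈ K, s * g * s⁻¹ ∈ K := fun s hs g hg =>
    (Subgroup.mem_normalizer_iff.mp (hPK hs) g).mp hg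
  let _ := Helper81.conjMulDistribMulAction K P hnorm
  obtain ⟨C, hC⟩ : ∃ C : Subgroup G, C = K ⊓ Subgroup.centralizer (P : Set G) := ⟨_, rfl⟩
  have hCK : C ≤ K := hC ▸ inf_le_left
  have : Fintype C := Fintype.ofFinite C
  have hinj := Subgroup.inclusion_injective hCK
  have hfix := Helper81.range_inclusion_iff K P hnorm C hC hCK
  have hinvcls : ∀ c : ConjClasses K,
      (∀ k : K, ConjClasses.mk k = c → ∀ x ∈ P, ∀ k' : K, (k' : G) = x * (k : G) * x⁻¹ →
        ConjClasses.mk k' = c) ↔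
      ∀ (s : P) (g : K), ConjClasses.mk g = c → ConjClasses.mk (s • g) = c := by
    intro c
    constructor
    · intro h s g hg
      exact h g hg s s.2 (s • g) rfl
    · intro h k hk x hx k' hk'
      have := h ⟨x, hx⟩ k hk
      have e : (⟨x, hx⟩ : P) • k = k' := Subtype.ext hk'.symm
      rwa [e] at this
  constructor
  · have h := Helper81.card_invIrr_real_eq_card_invCls_real (Subgroup.inclusion hCK) hP hinj hfix hK
    have e1 : {θ : Cfsg.IrrCharacter ↥K // (∀ k : ↥K, ((θ : ↥K → ℂ) k).im = 0) ∧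
        (∀ x ∈ P, ∀ k k' : ↥K, (k' : G) = x * (k : G) * x⁻¹ →
          (θ : ↥K → ℂ) k' = (θ : ↥K → ℂ) k)} ≃
        {χ : Helper81.InvIrr P K // Helper81.irrConj K χ.1 = χ.1} :=
      { toFun := fun θ => ⟨⟨θ.1, (Helper81.invariant_iff K P hnorm _).mp θ.2.2⟩,
          (Helper81.irrConj_eq_self_iff θ.1).mpr θ.2.1⟩
        invFun := fun χ => ⟨χ.1.1, (Helper81.irrConj_eq_self_iff χ.1.1).mp χ.2,
          (Helper81.invariant_iff K P hnorm _).mpr χ.1.2⟩
        left_inv := fun θ => rfl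
        right_inv := fun χ => rfl }
    have e2 : {c : ConjClasses ↥K // (∀ k : ↥K, ConjClasses.mk k = c → IsConj k k⁻¹) ∧
        ∀ k : ↥K, ConjClasses.mk k = c → ∀ x ∈ P, ∀ k' : ↥K, (k' : G) = x * (k : G) * x⁻¹ →
          ConjClasses.mk k' = c} ≃
        {Kc : Helper81.InvCls P K // Helper81.clsInv K Kc.1 = Kc.1} :=
      { toFun := fun c => ⟨⟨c.1, (hinvcls c.1).mp c.2.2⟩, (real_cls_iff c.1).mp c.2.1⟩
        invFun := fun Kc => ⟨Kc.1.1, (real_cls_iff Kc.1.1).mpr Kc.2, (hinvcls Kc.1.1).mpr Kc.1.2⟩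
        left_inv := fun c => rfl
        right_inv := fun Kc => rfl }
    rw [Nat.card_congr e1, Nat.card_congr e2, h]
  · intro hall k hk
    obtain ⟨c, hc⟩ := Helper81.exists_fixed_of_real (Subgroup.inclusion hCK) hP hfix hK
      (fun χ hχ => (Helper81.invariant_iff K P hnorm _).mp
        (hall χ ((Helper81.irrConj_eq_self_iff χ).mp hχ))) hinj k hk
    refine ⟨Subgroup.inclusion hCK c, hc, ?_⟩
    intro x hx
    have hc' : (c : G) ∈ Subgroup.centralizer (P : Set G) := by
      have h1 : (c : G) ∈ C := c.2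
      have h2 : (c : G) ∈ K ⊓ Subgroup.centralizer (P : Set G) := hC ▸ h1
      exact h2.2
    have := Subgroup.mem_centralizer_iff.mp hc' x hx
    change x * (c : G) * x⁻¹ = (c : G)
    rw [this, mul_inv_cancel_right]

end Cfsg.Agent.S4911
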