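import Cfsg.Statements.S4916
import Cfsg.Agent.Helper16.Idempotent
import Cfsg.Agent.Helper79.Linear
-- import your own Cfsg.Agent.* helpers here

set_option autoImplicit false
open Cfsg

namespace Cfsg.Agent.S4916

open Cfsg.Agent.Helper16 in
/-- forward direction: if every p'-degree member of the principal block is trivial then
`p ∤ |G|`. -/
theorem forward {G : Type*} [Group G] [Fintype G] (p : ℕ) [Fact p.Prime] (M : Ideal Cfsg.AlgInt)
    (hM : Cfsg.IsPModular p M)
    (H : ∀ χ : Cfsg.IrrCharacter G, χ ∈ Cfsg.principalBlock M G →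
      ¬ p ∣ Cfsg.charDegree (χ : G → ℂ) → (χ : G → ℂ) = fun _ => (1 : ℂ)) :
    ¬ p ∣ Nat.card G := by
  classical
  have hMp : M.IsPrime := IsPModular.isPrime hM
  intro hp
  let χ₁ : IrrCharacter G := Cfsg.Agent.Helper79.principalIrr G
  have hB : IsPBlock M (principalBlock M G) := ⟨χ₁, rfl⟩
  have h1 : MemLocalRing M (blockCoeff (principalBlock M G) 1) := osima hB 1
  rw [blockCoeff_eq_sum] at h1
  -- the natural number N
  let N : ℕ := ∑ χ : IrrCharacter G,
    (if χ ∈ principalBlock M G then 1 else 0) * (charDegree (χ : G → ℂ)) ^ 2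
  have hN : (∑ χ : IrrCharacter G, (if χ ∈ principalBlock M G then (1 : ℂ) else 0) *
      (χ : G → ℂ) 1 * (starRingEnd ℂ) ((χ : G → ℂ) 1)) = (N : ℂ) := by
    show _ = ((∑ χ : IrrCharacter G,
      (if χ ∈ principalBlock M G then 1 else 0) * (charDegree (χ : G → ℂ)) ^ 2 : ℕ) : ℂ)
    rw [Nat.cast_sum]
    refine Finset.sum_congr rfl (fun χ _ => ?_)
    have hd : ((charDegree (χ : G → ℂ) : ℕ) : ℂ) = (χ : G → ℂ) 1 :=
      Cfsg.Agent.Helper80.IsCharacter.charDegree_cast (Cfsg.Agent.Helper79.irr_isCharacter χ)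
    rw [← hd, Complex.conj_natCast]
    push_cast
    ring
  rw [hN] at h1
  -- N ≡ 1 mod p
  have hNp : ¬ p ∣ N := by
    have hsplit : N = 1 + ∑ χ ∈ Finset.univ.erase χ₁,
        (if χ ∈ principalBlock M G then 1 else 0) * (charDegree (χ : G → ℂ)) ^ 2 := by
      show (∑ χ : IrrCharacter G,
        (if χ ∈ principalBlock M G then 1 else 0) * (charDegree (χ : G → ℂ)) ^ 2) = _
      rw [← Finset.add_sum_erase Finset.univ _ (Finset.mem_univ χ₁)]
      congr 1
      have hmem : χ₁ ∈ principalBlock M G := sameBlock_refl (M := M) (χ₁ : G → ℂ)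
      rw [if_pos hmem, one_mul]
      have : charDegree (χ₁ : G → ℂ) = 1 := by
        show ⌊((1 : ℂ)).re⌋₊ = 1
        simp
      rw [this, one_pow]
    have hdiv : p ∣ ∑ χ ∈ Finset.univ.erase χ₁,
        (if χ ∈ principalBlock M G then 1 else 0) * (charDegree (χ : G → ℂ)) ^ 2 := by
      apply Finset.dvd_sum
      intro χ hχ
      by_cases hmem : χ ∈ principalBlock M G
      · rw [if_pos hmem, one_mul]
        have hne : χ ≠ χ₁ := (Finset.mem_erase.1 hχ).1
        have : p ∣ charDegree (χ : G → ℂ) := by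
          by_contra hnd
          exact hne (Subtype.ext (H χ hmem hnd))
        exact dvd_pow this two_ne_zero
      · rw [if_neg hmem, zero_mul]
        exact dvd_zero _
    intro hdN
    rw [hsplit] at hdN
    have := (Nat.dvd_add_left hdiv).1 hdN
    exact (Fact.out : p.Prime).one_lt.ne' (Nat.dvd_one.1 this)
  have hNinv : MemLocalRing M ((N : ℂ)⁻¹) := memLocalRing_inv_natCast hM hNp
  have hN0 : (N : ℂ) ≠ 0 := by
    intro h
    have : N = 0 := by exact_mod_cast h
    exact hNp (this ▸ dvd_zero p)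
  have hGinv : MemLocalRing M ((Nat.card G : ℂ)⁻¹) := by
    have := memLocalRing_mul h1 hNinv
    rwa [mul_assoc, mul_inv_cancel₀ hN0, mul_one] at this
  obtain ⟨m, hm⟩ := hp
  have hG0 : (Nat.card G : ℂ) ≠ 0 := card_ne_zero'
  have hpI : MemLocalIdeal M ((p : ℕ) : ℂ) := by
    have : MemLocalIdeal M (((p : AlgInt) : AlgInt) : ℂ) := (memLocalIdeal_algInt_iff _).2 hM.2.2
    simpa using this
  have h2 : MemLocalIdeal M ((p : ℂ) * ((m : ℂ) * (Nat.card G : ℂ)⁻¹)) :=
    memLocalIdeal_mul_right hpI (memLocalRing_mul (memLocalRing_natCast m) hGinv)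
  have h3 : (p : ℂ) * ((m : ℂ) * (Nat.card G : ℂ)⁻¹) = 1 := by
    rw [← mul_assoc, ← Nat.cast_mul, ← hm, mul_inv_cancel₀ hG0]
  rw [h3] at h2
  exact not_memLocalIdeal_one h2

open Cfsg.Agent.Helper16 in
/-- backward direction: if `p ∤ |G|` the principal block consists of the trivial character. -/
theorem backward {G : Type*} [Group G] [Fintype G] (p : ℕ) [Fact p.Prime] (M : Ideal Cfsg.AlgInt)
    (hM : Cfsg.IsPModular p M) (hp : ¬ p ∣ Nat.card G)
    (χ : Cfsg.IrrCharacter G) (hχ : χ ∈ Cfsg.principalBlock M G) :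
    (χ : G → ℂ) = fun _ => (1 : ℂ) := by
  classical
  have hMp : M.IsPrime := IsPModular.isPrime hM
  let χ₁ : IrrCharacter G := Cfsg.Agent.Helper79.principalIrr G
  have hsame : SameBlock M (χ₁ : G → ℂ) (χ : G → ℂ) := hχ
  have hcard : Nat.card (⊤ : Subgroup G) = Nat.card G := Subgroup.card_top
  have hS : ∀ g, MemLocalRing M (subgroupIdem (⊤ : Subgroup G) g) :=
    subgroupIdem_memLocalRing hM ⊤ (by rw [hcard]; exact hp)
  have heq := omega_idempotent_eq_of_sameBlock hsame (isClassFunction_subgroupIdem ⊤) hS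
    (conv_subgroupIdem ⊤)
  have h1 : omega (χ₁ : G → ℂ) (subgroupIdem (⊤ : Subgroup G)) = 1 := by
    rw [omega_subgroupIdem_eq_one_iff]
    intro n
    rfl
  rw [h1] at heq
  have h2 := (omega_subgroupIdem_eq_one_iff χ ⊤).1 heq.symm
  have hconst : ∀ g : G, (χ : G → ℂ) g = (χ : G → ℂ) 1 := fun g => h2 ⟨g, Subgroup.mem_top g⟩
  -- norm: ⟨χ,χ⟩ = 1
  have hnorm := Cfsg.Agent.Helper79.classInner_irr_self χ
  have hd : ((charDegree (χ : G → ℂ) : ℕ) : ℂ) = (χ : G → ℂ) 1 :=
    Cfsg.Agent.Helper80.IsCharacter.charDegree_cast (Cfsg.Agent.Helper79.irr_isCharacter χ)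
  unfold classInner at hnorm
  simp only [hconst] at hnorm
  rw [Finset.sum_const, Finset.card_univ, nsmul_eq_mul, ← Nat.card_eq_fintype_card, ← mul_assoc,
    inv_mul_cancel₀ card_ne_zero', one_mul, ← hd, Complex.conj_natCast] at hnorm
  have hd1 : charDegree (χ : G → ℂ) = 1 := by
    have h : (charDegree (χ : G → ℂ)) * (charDegree (χ : G → ℂ)) = 1 := by exact_mod_cast hnorm
    exact Nat.eq_one_of_mul_eq_one_right h
  funext g
  rw [hconst g, ← hd, hd1, Nat.cast_one]

/-- In the principal p-block, every irreducible character of degree prime to p is trivial exactly when p does not divide the order of G. -/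
theorem result {G : Type*} [Group G] [Finite G] (p : ℕ) [Fact p.Prime] (M : Ideal Cfsg.AlgInt) (hM : Cfsg.IsPModular p M) : (∀ χ : Cfsg.IrrCharacter G, χ ∈ Cfsg.principalBlock M G → ¬ p ∣ Cfsg.charDegree (χ : G → ℂ) → (χ : G → ℂ) = fun _ => (1 : ℂ)) ↔ ¬ p ∣ Nat.card G := by
  have : Fintype G := Fintype.ofFinite G
  constructor
  · intro H
    exact forward p M hM H
  · intro hp χ hχ _
    exact backward p M hM hp χ hχ

end Cfsg.Agent.S4916
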