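import Cfsg.Statements.S4923
import Cfsg.Agent.Helper82.FV.FieldTwo
import Cfsg.Agent.Helper82.FV.Group
import Cfsg.Agent.Helper10.FVBWD

set_option autoImplicit false
open Cfsg

namespace Cfsg.Agent.S4923

/-- Let G be a finite group with Sylow 2-subgroup P of order 2^n ≥ 8, and let ζ be a primitive 2^(n−1)-th root of unity in ℂ. Then the commutator subgroup of P has index 4 in P if and only if there is an element g of P whose conjugacy class in G has even size and such that the field generated over ℚ by the values at g of all irreducible complex characters of G equals ℚ(ζ + ζ⁻¹) or ℚ(ζ − ζ⁻¹). -/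
theorem result {G : Type*} [Group G] [Finite G] (P : Sylow 2 G) (n : ℕ) (hn : 3 ≤ n) (hP : Nat.card P = 2 ^ n) (ζ : ℂ) (hζ : IsPrimitiveRoot ζ (2 ^ (n - 1))) :
    (commutator ↥P).index = 4 ↔
      ∃ g : G, g ∈ (P : Subgroup G) ∧ 2 ∣ (Subgroup.centralizer ({g} : Set G)).index ∧
        (IntermediateField.adjoin ℚ {z : ℂ | ∃ χ : Cfsg.IrrCharacter G, (χ : G → ℂ) g = z} = IntermediateField.adjoin ℚ ({ζ + ζ⁻¹} : Set ℂ) ∨
          IntermediateField.adjoin ℚ {z : ℂ | ∃ χ : Cfsg.IrrCharacter G, (χ : G → ℂ) g = z} = IntermediateField.adjoin ℚ ({ζ - ζ⁻¹} : Set ℂ)) := by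
  have hpow : ∀ g : G, g ∈ (P : Subgroup G) → g ^ (2 ^ n) = 1 := by
    intro g hg
    have h1 : (⟨g, hg⟩ : ↥(P : Subgroup G)) ^ Nat.card ↥(P : Subgroup G) = 1 := pow_card_eq_one'
    rw [hP] at h1
    have := congrArg Subtype.val h1
    simpa using this
  constructor
  · intro h4
    obtain ⟨g, hg, hcl, hk⟩ := Cfsg.Agent.Helper82.FV.exists_of_index_four P n hn hP h4
    refine ⟨g, hg, hcl, ?_⟩
    rcases hk with hk | hk
    · exact Or.inl ((Cfsg.Agent.Helper82.FV.field_plus n (by omega) g (hpow g hg) ζ hζ).2 hk)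
    · exact Or.inr ((Cfsg.Agent.Helper82.FV.field_minus n (by omega) g (hpow g hg) ζ hζ).2 hk)
  · rintro ⟨g, hg, hcl, hF⟩
    apply Cfsg.Agent.Helper10.FV.index_four_of_exists P n hn hP g hg hcl
    rcases hF with hF | hF
    · exact Or.inl ((Cfsg.Agent.Helper82.FV.field_plus n (by omega) g (hpow g hg) ζ hζ).1 hF)
    · exact Or.inr ((Cfsg.Agent.Helper82.FV.field_minus n (by omega) g (hpow g hg) ζ hζ).1 hF)

end Cfsg.Agent.S4923
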