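-- Statement S4956: k(VG) = Σ k(C_G(s)) over orbit representatives (coprime, V abelian).
import Cfsg.Statements.S4956
import Cfsg.Agent.Helper82.CoprimeCount

set_option autoImplicit false
open Cfsg

namespace Cfsg.Agent.S4956

open Cfsg.Agent.Helper82

/-- conjugation by `g ∈ G` carries `G ⊓ C(c)` onto `G ⊓ C(g c g⁻¹)`. -/
noncomputable def conjEquiv {X : Type*} [Group X] (G : Subgroup X) (g : X) (hg : g ∈ G) (c : X) :
    ↥(G ⊓ Subgroup.centralizer ({c} : Set X)) ≃*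
      ↥(G ⊓ Subgroup.centralizer ({g * c * g⁻¹} : Set X)) where
  toFun x := ⟨g * x * g⁻¹, G.mul_mem (G.mul_mem hg x.2.1) (G.inv_mem hg), by
    have hx : (x : X) ∈ Subgroup.centralizer ({c} : Set X) := x.2.2
    show g * ↑x * g⁻¹ ∈ Subgroup.centralizer ({g * c * g⁻¹} : Set X)
    rw [Subgroup.mem_centralizer_singleton_iff] at hx ⊢
    calc g * ↑x * g⁻¹ * (g * c * g⁻¹) = g * (↑x * c) * g⁻¹ := by group
      _ = g * (c * ↑x) * g⁻¹ := by rw [hx]
      _ = _ := by group⟩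
  invFun y := ⟨g⁻¹ * y * g, G.mul_mem (G.mul_mem (G.inv_mem hg) y.2.1) hg, by
    have hy : (y : X) ∈ Subgroup.centralizer ({g * c * g⁻¹} : Set X) := y.2.2
    show g⁻¹ * ↑y * g ∈ Subgroup.centralizer ({c} : Set X)
    rw [Subgroup.mem_centralizer_singleton_iff] at hy ⊢
    calc g⁻¹ * ↑y * g * c = g⁻¹ * (↑y * (g * c * g⁻¹)) * g := by group
      _ = g⁻¹ * ((g * c * g⁻¹) * ↑y) * g := by rw [hy]
      _ = _ := by group⟩
  left_inv x := by
    apply Subtype.ext
    show g⁻¹ * (g * ↑x * g⁻¹) * g = x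
    group
  right_inv y := by
    apply Subtype.ext
    show g * (g⁻¹ * ↑y * g) * g⁻¹ = y
    group
  map_mul' x y := by
    apply Subtype.ext
    show g * (↑x * ↑y) * g⁻¹ = (g * ↑x * g⁻¹) * (g * ↑y * g⁻¹)
    group

theorem result {X : Type*} [Group X] [Finite X] (V : Subgroup X) [V.Normal] (hab : ∀ a ∈ V, ∀ b ∈ V, a * b = b * a) (G : Subgroup X) (hGV : Subgroup.IsComplement' V G) (hcop : (Nat.card V).Coprime (Nat.card G)) (S : Finset X) (hSV : ∀ s ∈ S, s ∈ V) (hrep : ∀ v ∈ V, ∃! s, s ∈ S ∧ ∃ g ∈ G, g * v * g⁻¹ = s) : Nat.card (ConjClasses X) = ∑ s ∈ S, Nat.card (ConjClasses ↥(G ⊓ Subgroup.centralizer ({s} : Set X))) := by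
  have h1 := comm_count V G hab hGV hcop
  rw [card_comm_eq_card_conjClasses_mul_card] at h1
  have h2 : ∀ c : ↥V, Nat.card {ab : ↥(G ⊓ Subgroup.centralizer ({(c : X)} : Set X)) ×
        ↥(G ⊓ Subgroup.centralizer ({(c : X)} : Set X)) // Commute ab.1 ab.2} =
      Nat.card (ConjClasses ↥(G ⊓ Subgroup.centralizer ({(c : X)} : Set X))) *
        Nat.card ↥(G ⊓ Subgroup.centralizer ({(c : X)} : Set X)) := fun c =>
    card_comm_eq_card_conjClasses_mul_card _
  have h3 := orbit_sum V G S hSV hrep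
    (fun x => Nat.card (ConjClasses ↥(G ⊓ Subgroup.centralizer ({x} : Set X))))
    (fun g hg c _ => (card_conjClasses_congr (conjEquiv G g hg c)).symm)
  rw [finsum_congr h2, h3, ← mul_assoc, hGV.card_mul_card, mul_comm] at h1
  exact Nat.eq_of_mul_eq_mul_left Nat.card_pos h1

end Cfsg.Agent.S4956
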