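import Cfsg.Statements.S4964
import Cfsg.Agent.Helper16.CoprimeDerived
import Cfsg.Agent.Helper16.Quotient
import Cfsg.Agent.S0941

set_option autoImplicit false
open Cfsg

namespace Cfsg.Agent.S4964

open Cfsg.Agent.Helper16 in
/-- Let D be a normal p-subgroup of the finite group G, let D′ be its commutator subgroup (normal in G), and fix a maximal ideal M of the algebraic integers containing p. Then (i) two irreducible characters of G ⧸ D′ lie in the same p-block if and only if their inflations to G do, and (ii) every p-block of G contains the inflation of some irreducible character of G ⧸ D′; so inflation induces a bijection between the p-blocks of G ⧸ D′ and the p-blocks of G. -/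
theorem result {G : Type*} [Group G] [Finite G] (p : ℕ) [Fact p.Prime] (M : Ideal Cfsg.AlgInt) (hM : Cfsg.IsPModular p M) (D : Subgroup G) [D.Normal] (hD : IsPGroup p D) : (∀ χ ψ : Cfsg.IrrCharacter (G ⧸ ⁅D, D⁆), Cfsg.SameBlock M (χ : G ⧸ ⁅D, D⁆ → ℂ) (ψ : G ⧸ ⁅D, D⁆ → ℂ) ↔ Cfsg.SameBlock M ((χ : G ⧸ ⁅D, D⁆ → ℂ) ∘ QuotientGroup.mk) ((ψ : G ⧸ ⁅D, D⁆ → ℂ) ∘ QuotientGroup.mk)) ∧ ∀ B : Set (Cfsg.IrrCharacter G), Cfsg.IsPBlock M B → ∃ χ : Cfsg.IrrCharacter (G ⧸ ⁅D, D⁆), ∃ θ ∈ B, (θ : G → ℂ) = (χ : G ⧸ ⁅D, D⁆ → ℂ) ∘ QuotientGroup.mk := by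
  classical
  haveI : Fintype G := Fintype.ofFinite G
  haveI hMp : M.IsPrime := IsPModular.isPrime hM
  haveI hNn : (⁅D, D⁆ : Subgroup G).Normal := Subgroup.commutator_normal D D
  haveI : Fintype (G ⧸ (⁅D, D⁆ : Subgroup G)) := Fintype.ofFinite _
  have hND : (⁅D, D⁆ : Subgroup G) ≤ D := Subgroup.commutator_le_right D D
  have hNp : IsPGroup p (⁅D, D⁆ : Subgroup G) := hD.to_le hND
  refine ⟨fun χ ψ => ⟨fun h => sameBlock_comp_mk _ h, fun h => ?_⟩, fun B hB => ?_⟩
  · apply sameBlock_of_forall_pRegular hM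
    intro q hq
    obtain ⟨x, rfl, hx⟩ := Cfsg.Agent.S0941.exists_pRegular_lift p (⁅D, D⁆ : Subgroup G) q hq
    set Dbar : Subgroup (G ⧸ (⁅D, D⁆ : Subgroup G)) :=
      D.map (QuotientGroup.mk' (⁅D, D⁆ : Subgroup G)) with hDbar
    haveI : Dbar.Normal :=
      Subgroup.Normal.map inferInstance _ (QuotientGroup.mk'_surjective _)
    have hDbarp : IsPGroup p Dbar := hD.map _
    by_cases hcen : (QuotientGroup.mk x : G ⧸ (⁅D, D⁆ : Subgroup G)) ∈
        Subgroup.centralizer (Dbar : Set (G ⧸ (⁅D, D⁆ : Subgroup G)))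
    · have hxstab : x ∈ derivedStab D := by
        intro d hd
        rw [← QuotientGroup.eq_one_iff]
        have hdbar : (QuotientGroup.mk d : G ⧸ (⁅D, D⁆ : Subgroup G)) ∈ Dbar :=
          ⟨d, hd, rfl⟩
        have hc := (Subgroup.mem_centralizer_iff.mp hcen) _ hdbar
        rw [QuotientGroup.mk_mul, QuotientGroup.mk_mul, QuotientGroup.mk_mul,
          QuotientGroup.mk_inv, QuotientGroup.mk_inv, ← hc]
        group
      have hxC : x ∈ Subgroup.centralizer (D : Set G) :=
        mem_centralizer_of_mem_derivedStab hD _ x rfl hxstab hx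
      have hxN : x ∈ Subgroup.centralizer ((⁅D, D⁆ : Subgroup G) : Set G) :=
        Subgroup.centralizer_le (by exact_mod_cast hND) hxC
      have hidx := Cfsg.Agent.S0941.index_centralizer_mk p (⁅D, D⁆ : Subgroup G) hNp x hxN hx
      have hcc : ∀ η : IrrCharacter (G ⧸ (⁅D, D⁆ : Subgroup G)),
          centralChar (η : G ⧸ (⁅D, D⁆ : Subgroup G) → ℂ) (QuotientGroup.mk x) =
            centralChar ((η : G ⧸ (⁅D, D⁆ : Subgroup G) → ℂ) ∘ QuotientGroup.mk) x := by
        intro η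
        unfold centralChar
        rw [hidx]
        rfl
      rw [hcc χ, hcc ψ]
      exact h x
    · have h1 := Helper77.centralChar_memLocalIdeal_of_not_mem_centralizer hM Dbar hDbarp _ hcen χ
      have h2 := Helper77.centralChar_memLocalIdeal_of_not_mem_centralizer hM Dbar hDbarp _ hcen ψ
      exact memLocalIdeal_sub h1 h2
  · obtain ⟨θ, hθB, hθk⟩ :=
      Cfsg.Agent.S0941.exists_mem_block_ker p M hM (⁅D, D⁆ : Subgroup G) hNp B hB
    obtain ⟨ψ, hψirr, hψ⟩ := Helper80.IsIrrCharacter.exists_descend θ.2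
      (QuotientGroup.mk' (⁅D, D⁆ : Subgroup G)) (QuotientGroup.mk'_surjective _) (by
        intro g hg
        have hgN : g ∈ (⁅D, D⁆ : Subgroup G) := by
          rw [← QuotientGroup.eq_one_iff]; exact hg
        exact hθk g hgN)
    exact ⟨⟨ψ, hψirr⟩, θ, hθB, funext hψ⟩

end Cfsg.Agent.S4964
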