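-- Statement S4965: k(X) ≤ k(V ⋊ X/V).  Elementary counting of commuting pairs.
import Cfsg.Statements.S4965
import Mathlib.GroupTheory.GroupAction.CardCommute
import Mathlib.GroupTheory.SemidirectProduct
import Mathlib.Tactic

set_option autoImplicit false
open Cfsg

namespace Cfsg.Agent.S4965

open Classical in
/-- A chosen commuting pair in the fibre over a pair of cosets, if there is one. -/
noncomputable def base {X : Type*} [Group X] (V : Subgroup X) [V.Normal] (a b : X ⧸ V) : X × X :=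
  if h : ∃ p : X × X, (p.1 : X ⧸ V) = a ∧ (p.2 : X ⧸ V) = b ∧ Commute p.1 p.2 then
    Classical.choose h else (1, 1)

theorem base_spec {X : Type*} [Group X] (V : Subgroup X) [V.Normal] (x y : X) (hxy : Commute x y) :
    ((base V (x : X ⧸ V) (y : X ⧸ V)).1 : X ⧸ V) = x ∧
      ((base V (x : X ⧸ V) (y : X ⧸ V)).2 : X ⧸ V) = y ∧
      Commute (base V (x : X ⧸ V) (y : X ⧸ V)).1 (base V (x : X ⧸ V) (y : X ⧸ V)).2 := by
  have h : ∃ p : X × X, (p.1 : X ⧸ V) = x ∧ (p.2 : X ⧸ V) = y ∧ Commute p.1 p.2 :=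
    ⟨(x, y), rfl, rfl, hxy⟩
  unfold base
  rw [dif_pos h]
  exact Classical.choose_spec h

open Classical in
/-- Total version of the inclusion of `V`. -/
noncomputable def toV {X : Type*} [Group X] (V : Subgroup X) (z : X) : V :=
  if h : z ∈ V then ⟨z, h⟩ else 1

theorem toV_coe {X : Type*} [Group X] (V : Subgroup X) (z : X) (h : z ∈ V) :
    ((toV V z : V) : X) = z := by
  unfold toV
  rw [dif_pos h]

theorem mem_of_mk_eq {X : Type*} [Group X] (V : Subgroup X) [V.Normal] (x x0 : X)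
    (h : (x0 : X ⧸ V) = x) : x * x0⁻¹ ∈ V := by
  have h' := (QuotientGroup.eq (s := V)).1 h
  -- h' : x0⁻¹ * x ∈ V
  have := ‹V.Normal›.conj_mem _ h' x0
  simpa [mul_assoc] using this

theorem comm_image {X : Type*} [Group X] (V : Subgroup X) [V.Normal] (φ : X ⧸ V →* MulAut ↥V)
    (hφ : ∀ (x : X) (v : ↥V), ((φ (QuotientGroup.mk x) v : ↥V) : X) = x * v * x⁻¹)
    (x y x0 y0 : X) (hxy : Commute x y) (h1 : (x0 : X ⧸ V) = x) (h2 : (y0 : X ⧸ V) = y)
    (h3 : Commute x0 y0) :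
    Commute (⟨toV V (x * x0⁻¹), (x : X ⧸ V)⟩ : SemidirectProduct ↥V (X ⧸ V) φ)
      ⟨toV V (y * y0⁻¹), (y : X ⧸ V)⟩ := by
  have hu : x * x0⁻¹ ∈ V := mem_of_mk_eq V x x0 h1
  have hw : y * y0⁻¹ ∈ V := mem_of_mk_eq V y y0 h2
  show (_ : SemidirectProduct ↥V (X ⧸ V) φ) * _ = _ * _
  apply SemidirectProduct.ext
  · -- left components
    simp only [SemidirectProduct.mul_left]
    apply Subtype.ext
    rw [Subgroup.coe_mul, Subgroup.coe_mul]
    have e1 : ((φ (x : X ⧸ V)) (toV V (y * y0⁻¹)) : X) = x0 * (y * y0⁻¹) * x0⁻¹ := by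
      rw [← h1, hφ, toV_coe V _ hw]
    have e2 : ((φ (y : X ⧸ V)) (toV V (x * x0⁻¹)) : X) = y0 * (x * x0⁻¹) * y0⁻¹ := by
      rw [← h2, hφ, toV_coe V _ hu]
    rw [e1, e2, toV_coe V _ hu, toV_coe V _ hw]
    have c1 : x * y = y * x := hxy
    have c2 : x0 * y0 = y0 * x0 := h3
    have c3 : y0⁻¹ * x0⁻¹ = x0⁻¹ * y0⁻¹ := by
      rw [← mul_inv_rev, ← mul_inv_rev, c2]
    calc x * x0⁻¹ * (x0 * (y * y0⁻¹) * x0⁻¹) = x * y * (y0⁻¹ * x0⁻¹) := by group
      _ = y * x * (x0⁻¹ * y0⁻¹) := by rw [c1, c3]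
      _ = y * y0⁻¹ * (y0 * (x * x0⁻¹) * y0⁻¹) := by group
  · simp only [SemidirectProduct.mul_right]
    rw [← QuotientGroup.mk_mul, ← QuotientGroup.mk_mul, hxy.eq]

/-- Main theorem. -/
theorem result {X : Type*} [Group X] [Finite X] (V : Subgroup X) [V.Normal] (hab : ∀ a ∈ V, ∀ b ∈ V, a * b = b * a) (φ : X ⧸ V →* MulAut ↥V) (hφ : ∀ (x : X) (v : ↥V), ((φ (QuotientGroup.mk x) v : ↥V) : X) = x * v * x⁻¹) : Nat.card (ConjClasses X) ≤ Nat.card (ConjClasses (SemidirectProduct ↥V (X ⧸ V) φ)) := by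
  classical
  have hfinS : Finite (SemidirectProduct ↥V (X ⧸ V) φ) :=
    Finite.of_equiv _ (SemidirectProduct.equivProd (φ := φ)).symm
  -- the injection on commuting pairs
  let f : {p : X × X // Commute p.1 p.2} →
      {q : (SemidirectProduct ↥V (X ⧸ V) φ) × (SemidirectProduct ↥V (X ⧸ V) φ) // Commute q.1 q.2} :=
    fun p =>
    ⟨(⟨toV V (p.1.1 * (base V (p.1.1 : X ⧸ V) (p.1.2 : X ⧸ V)).1⁻¹), (p.1.1 : X ⧸ V)⟩,
      ⟨toV V (p.1.2 * (base V (p.1.1 : X ⧸ V) (p.1.2 : X ⧸ V)).2⁻¹), (p.1.2 : X ⧸ V)⟩),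
      comm_image V φ hφ _ _ _ _ p.2 (base_spec V _ _ p.2).1 (base_spec V _ _ p.2).2.1
        (base_spec V _ _ p.2).2.2⟩
  have hf : Function.Injective f := by
    rintro ⟨⟨x, y⟩, hxy⟩ ⟨⟨x', y'⟩, hxy'⟩ h
    have h' := congrArg Subtype.val h
    simp only [f, Prod.mk.injEq] at h'
    obtain ⟨hA, hB⟩ := h'
    have hA1 := congrArg SemidirectProduct.left hA
    have hA2 := congrArg SemidirectProduct.right hA
    have hB1 := congrArg SemidirectProduct.left hB
    have hB2 := congrArg SemidirectProduct.right hB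
    simp only at hA1 hA2 hB1 hB2
    obtain ⟨h1, h2, h3⟩ := base_spec V x y hxy
    obtain ⟨h1', h2', h3'⟩ := base_spec V x' y' hxy'
    have hb : base V (x' : X ⧸ V) (y' : X ⧸ V) = base V (x : X ⧸ V) (y : X ⧸ V) := by
      rw [hA2, hB2]
    rw [hb] at hA1 hB1 h1' h2'
    have hu : x * (base V (x : X ⧸ V) (y : X ⧸ V)).1⁻¹ ∈ V := mem_of_mk_eq V x _ h1
    have hw : y * (base V (x : X ⧸ V) (y : X ⧸ V)).2⁻¹ ∈ V := mem_of_mk_eq V y _ h2
    have hu' : x' * (base V (x : X ⧸ V) (y : X ⧸ V)).1⁻¹ ∈ V := mem_of_mk_eq V x' _ h1'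
    have hw' : y' * (base V (x : X ⧸ V) (y : X ⧸ V)).2⁻¹ ∈ V := mem_of_mk_eq V y' _ h2'
    have e1 := congrArg (Subtype.val) hA1
    have e2 := congrArg (Subtype.val) hB1
    rw [toV_coe V _ hu, toV_coe V _ hu'] at e1
    rw [toV_coe V _ hw, toV_coe V _ hw'] at e2
    have ex : x = x' := mul_right_cancel e1
    have ey : y = y' := mul_right_cancel e2
    subst ex; subst ey
    rfl
  have hle := Nat.card_le_card_of_injective f hf
  rw [card_comm_eq_card_conjClasses_mul_card, card_comm_eq_card_conjClasses_mul_card] at hle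
  have hcard : Nat.card (SemidirectProduct ↥V (X ⧸ V) φ) = Nat.card X := by
    rw [SemidirectProduct.card, mul_comm]
    exact (Subgroup.card_eq_card_quotient_mul_card_subgroup V).symm
  rw [hcard] at hle
  exact Nat.le_of_mul_le_mul_right hle Nat.card_pos

end Cfsg.Agent.S4965
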