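-- Statement S4967: self-dual faithful irreducible modules of abelian groups over finite fields.
import Cfsg.Statements.S4967
import Cfsg.Agent.Helper82.AbelianIrr

set_option autoImplicit false
open Cfsg

namespace Cfsg.Agent.S4967

open Cfsg.Agent.Helper82

theorem part_one {F : Type*} [Field F] {H : Type*} [CommGroup H] [Finite H]
    {V : Type*} [AddCommGroup V] [Module F V] [FiniteDimensional F V]
    (ρ : Representation F H V) (hfaith : Function.Injective ρ)
    (h1 : Module.finrank F V = 1)
    (B : LinearMap.BilinForm F V) (hB : B.Nondegenerate)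
    (hinv : ∀ h : H, ∀ x y : V, B (ρ h x) (ρ h y) = B x y) : Nat.card H ≤ 2 := by
  classical
  obtain ⟨v0, hv0ne, hv0⟩ := finrank_eq_one_iff'.1 h1
  choose c hc using fun h : H => hv0 (ρ h v0)
  have hB0 : B v0 v0 ≠ 0 := by
    intro h0
    apply hv0ne
    apply hB.1 v0
    intro w
    obtain ⟨a, rfl⟩ := hv0 w
    rw [map_smul, smul_eq_mul, h0, mul_zero]
  have hsq : ∀ h, c h = 1 ∨ c h = -1 := by
    intro h
    have := hinv h v0 v0
    rw [← hc h] at this
    simp only [map_smul, LinearMap.smul_apply, smul_eq_mul] at this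
    rw [← mul_assoc] at this
    have h2 : c h * c h = 1 := by
      have h3 : (c h * c h - 1) * B v0 v0 = 0 := by rw [sub_mul, this, one_mul, sub_self]
      rcases mul_eq_zero.1 h3 with h4 | h4
      · exact sub_eq_zero.1 h4
      · exact absurd h4 hB0
    exact mul_self_eq_one_iff.1 h2
  have hinj : Function.Injective c := by
    intro h h' hcc
    apply hfaith
    apply LinearMap.ext
    intro w
    obtain ⟨a, rfl⟩ := hv0 w
    rw [map_smul, map_smul, ← hc h, ← hc h', hcc]
  let f : H → ({1, -1} : Finset F) := fun h => ⟨c h, by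
    rcases hsq h with h2 | h2 <;> simp [h2]⟩
  have hf : Function.Injective f := by
    intro h h' hh
    exact hinj (congrArg Subtype.val hh)
  calc Nat.card H ≤ Nat.card ({1, -1} : Finset F) := Nat.card_le_card_of_injective f hf
    _ = ({1, -1} : Finset F).card := by rw [Nat.card_eq_fintype_card, Fintype.card_coe]
    _ ≤ 2 := Finset.card_le_two

theorem result {F : Type*} [Field F] [Fintype F] (p : ℕ) [Fact p.Prime] [CharP F p] {H : Type*} [CommGroup H] [Finite H] (hcop : ¬ p ∣ Nat.card H) {V : Type*} [AddCommGroup V] [Module F V] [FiniteDimensional F V] (ρ : Representation F H V) (hfaith : Function.Injective ρ) (hirr : ∀ U : Submodule F V, (∀ h : H, ∀ u ∈ U, ρ h u ∈ U) → U = ⊥ ∨ U = ⊤) : (Module.finrank F V = 1 → (∃ B : LinearMap.BilinForm F V, B.Nondegenerate ∧ ∀ h : H, ∀ x y : V, B (ρ h x) (ρ h y) = B x y) → Nat.card H ≤ 2) ∧ (2 ≤ Module.finrank F V → ((∃ B : LinearMap.BilinForm F V, B.Nondegenerate ∧ ∀ h : H, ∀ x y : V, B (ρ h x) (ρ h y) = B x y) ↔ (Even (Module.finrank F V) ∧ Nat.card H ∣ Fintype.card F ^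 (Module.finrank F V / 2) + 1))) := by
  classical
  constructor
  · rintro h1 ⟨B, hB, hinv⟩
    exact part_one ρ hfaith h1 B hB hinv
  · intro h2
    have hnt : Nontrivial V := Module.nontrivial_of_finrank_pos (R := F) (by omega)
    obtain ⟨K, _, _, Φ, ν, hΦ, hadj⟩ := exists_field_model ρ hirr
    have hνinj : Function.Injective ν := by
      intro h h' hh
      apply hfaith
      apply LinearMap.ext
      intro v
      apply Φ.injective
      rw [hΦ, hΦ, hh]
    have hVfin : Finite V := Module.finite_of_finite F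
    have hKfin : Finite K := Finite.of_equiv V Φ.toEquiv
    have : Fintype K := Fintype.ofFinite K
    have hfr : Module.finrank F V = Module.finrank F K := Φ.finrank_eq
    have hν0 : ∀ s ∈ Set.range ν, s ≠ 0 := by
      rintro _ ⟨h, rfl⟩ hh
      have : ν h * ν h⁻¹ = 1 := by rw [← map_mul, mul_inv_cancel, map_one]
      rw [hh, zero_mul] at this
      exact zero_ne_one this
    have hcyc : IsCyclic H := isCyclic_of_injective_ringHom ν hνinj
    rw [hfr] at h2 ⊢
    have key := finite_field_inverse_automorphism (Set.range ν) hadj hν0 h2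
    have hpowiff : ∀ k : ℕ, (∀ s ∈ Set.range ν, s ^ k = 1) ↔ Nat.card H ∣ k := by
      intro k
      rw [← IsCyclic.exponent_eq_card, Monoid.exponent_dvd_iff_forall_pow_eq_one]
      constructor
      · intro hs h
        apply hνinj
        rw [map_pow, map_one]
        exact hs _ ⟨h, rfl⟩
      · rintro hs _ ⟨h, rfl⟩
        rw [← map_pow, hs h, map_one]
    rw [← hpowiff, ← key]
    constructor
    · rintro ⟨B, hB, hinv⟩
      exact form_to_aut ρ Φ ν hΦ hadj hνinj B hB hinv
    · rintro ⟨τ, hτ⟩
      exact aut_to_form ρ Φ ν hΦ τ hτ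

end Cfsg.Agent.S4967
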