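-- Statement S4969: sum of |χ(g)|/χ(1) over χ(1) ≥ N is at most sqrt(k(G)|C_G(g)|)/N.
import Cfsg.Statements.S4969
import Cfsg.Agent.Helper79.CharComplete

set_option autoImplicit false
open Cfsg

namespace Cfsg.Agent.S4969

open scoped ComplexConjugate
open Cfsg.Agent.Helper79

theorem result {G : Type*} [Group G] [Finite G] (g : G) (N : ℝ) (hN : 0 < N) :
    ∑ᶠ χ : Cfsg.IrrCharacter G, (if N ≤ ‖(χ : G → ℂ) 1‖ then ‖(χ : G → ℂ) g‖ / ‖(χ : G → ℂ) 1‖ else 0) ≤
      Real.sqrt ((Nat.card (ConjClasses G) : ℝ) * (Nat.card ↥(Subgroup.centralizer ({g} : Set G)) : ℝ)) / N := by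
  classical
  have : Fintype G := Fintype.ofFinite G
  have : Fintype (IrrCharacter G) := Fintype.ofFinite _
  rw [finsum_eq_sum_of_fintype]
  -- termwise bound
  have h1 : ∀ χ : IrrCharacter G,
      (if N ≤ ‖(χ : G → ℂ) 1‖ then ‖(χ : G → ℂ) g‖ / ‖(χ : G → ℂ) 1‖ else 0) ≤
        ‖(χ : G → ℂ) g‖ / N := by
    intro χ
    split_ifs with h
    · exact div_le_div_of_nonneg_left (norm_nonneg _) hN h
    · exact div_nonneg (norm_nonneg _) hN.le
  refine (Finset.sum_le_sum fun χ _ => h1 χ).trans ?_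
  rw [← Finset.sum_div]
  refine div_le_div_of_nonneg_right ?_ hN.le
  -- Cauchy–Schwarz
  have h2 := sq_sum_le_card_mul_sum_sq (s := (Finset.univ : Finset (IrrCharacter G)))
    (f := fun χ => ‖(χ : G → ℂ) g‖)
  -- column orthogonality
  have h3 := column_orthogonality (G := G) g g
  rw [if_pos (IsConj.refl g)] at h3
  have h4 : ∑ χ : IrrCharacter G, ‖(χ : G → ℂ) g‖ ^ 2 =
      (Nat.card ↥(Subgroup.centralizer ({g} : Set G)) : ℝ) := by
    have : ((∑ χ : IrrCharacter G, ‖(χ : G → ℂ) g‖ ^ 2 : ℝ) : ℂ) =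
        ((Nat.card ↥(Subgroup.centralizer ({g} : Set G)) : ℝ) : ℂ) := by
      rw [← Complex.ofReal_natCast] at h3
      rw [← h3]
      push_cast
      refine Finset.sum_congr rfl fun χ _ => ?_
      rw [Complex.mul_conj']
    exact_mod_cast this
  rw [h4, Finset.card_univ, ← Nat.card_eq_fintype_card, card_irr_eq_card_conjClasses] at h2
  exact Real.le_sqrt_of_sq_le h2

end Cfsg.Agent.S4969
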