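import Cfsg.Statements.S4989
import Cfsg.Agent.Helper82.BurnsideSum
import Cfsg.Agent.Helper79.CharComplete
-- import your own Cfsg.Agent.* helpers here

set_option autoImplicit false
open Cfsg

namespace Cfsg.Agent.S4989

/-- For a subgroup H of G and an irreducible character χ, the norm of the restriction of χ to H is at most one plus the number of zeros of χ outside H divided by the order of H. -/
theorem result {G : Type*} [Group G] [Finite G] (H : Subgroup G) (χ : Cfsg.IrrCharacter G) : (Nat.card ↥H : ℝ)⁻¹ * ∑ᶠ h : ↥H, ‖(χ : G → ℂ) h‖ ^ 2 ≤ 1 + (Set.ncard ({x : G | (χ : G → ℂ) x = 0} \ (H : Set G)) : ℝ) / (Nat.card ↥H : ℝ) := by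
  classical
  have : Fintype G := Fintype.ofFinite G
  have hχ : IsCharacter G (χ : G → ℂ) := Cfsg.Agent.Helper79.irr_isCharacter χ
  have hHpos : (0 : ℝ) < (Nat.card ↥H : ℝ) := by exact_mod_cast Nat.card_pos
  -- the sum over H as a Finset sum
  have hsumH : ∑ᶠ h : ↥H, ‖(χ : G → ℂ) h‖ ^ 2 =
      ∑ g ∈ Finset.univ.filter (fun g : G => g ∈ H), ‖(χ : G → ℂ) g‖ ^ 2 := by
    rw [finsum_eq_sum_of_fintype]
    exact (Finset.sum_subtype (Finset.univ.filter (fun g : G => g ∈ H)) (by simp)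
      (fun g => ‖(χ : G → ℂ) g‖ ^ 2)).symm
  -- total sum
  have htot := Cfsg.Agent.Helper82.sum_normSq_irr χ
  have hsplit : ∑ g : G, ‖(χ : G → ℂ) g‖ ^ 2 =
      ∑ g ∈ Finset.univ.filter (fun g : G => g ∈ H), ‖(χ : G → ℂ) g‖ ^ 2 +
      ∑ g ∈ Finset.univ.filter (fun g : G => ¬ g ∈ H), ‖(χ : G → ℂ) g‖ ^ 2 :=
    (Finset.sum_filter_add_sum_filter_not Finset.univ (fun g : G => g ∈ H) _).symm
  -- Burnside-type inequality off H
  have hT := Cfsg.Agent.Helper82.card_nonvanishing_le_sum hχ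
    (Finset.univ.filter (fun g : G => ¬ g ∈ H))
    (fun g hg k hk => by
      rw [Finset.mem_filter] at hg ⊢
      exact ⟨Finset.mem_univ _, fun h => hg.2 (Cfsg.Agent.Helper82.mem_of_pow_mem_of_coprime H hk h)⟩)
  -- counting
  have hcardH : (Finset.univ.filter (fun g : G => g ∈ H)).card = Nat.card ↥H := by
    rw [Nat.card_eq_fintype_card, Fintype.card_subtype]
  have hcount : Fintype.card G = (Finset.univ.filter (fun g : G => g ∈ H)).card +
      (Finset.univ.filter (fun g : G => ¬ g ∈ H)).card := by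
    rw [Finset.card_filter_add_card_filter_not, Finset.card_univ]
  have hcount2 : (Finset.univ.filter (fun g : G => ¬ g ∈ H)).card =
      ((Finset.univ.filter (fun g : G => ¬ g ∈ H)).filter (fun g => (χ : G → ℂ) g ≠ 0)).card +
      ((Finset.univ.filter (fun g : G => ¬ g ∈ H)).filter (fun g => ¬ (χ : G → ℂ) g ≠ 0)).card :=
    (Finset.card_filter_add_card_filter_not _).symm
  have hzeros : Set.ncard ({x : G | (χ : G → ℂ) x = 0} \ (H : Set G)) =
      ((Finset.univ.filter (fun g : G => ¬ g ∈ H)).filter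
        (fun g => ¬ (χ : G → ℂ) g ≠ 0)).card := by
    rw [Set.ncard_eq_toFinset_card']
    congr 1
    ext g
    simp only [Set.mem_toFinset, Set.mem_diff, Set.mem_setOf_eq, SetLike.mem_coe,
      Finset.mem_filter, Finset.mem_univ, true_and, not_not]
    tauto
  rw [hsumH, hzeros]
  rw [Nat.card_eq_fintype_card] at htot
  have hc1 : (Fintype.card G : ℝ) = (Nat.card ↥H : ℝ) +
      (((Finset.univ.filter (fun g : G => ¬ g ∈ H)).filter
        (fun g => (χ : G → ℂ) g ≠ 0)).card : ℝ) +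
      (((Finset.univ.filter (fun g : G => ¬ g ∈ H)).filter
        (fun g => ¬ (χ : G → ℂ) g ≠ 0)).card : ℝ) := by
    rw [hcount, hcount2, hcardH]; push_cast; ring
  rw [inv_mul_le_iff₀ hHpos, mul_add, mul_one, mul_div_cancel₀ _ hHpos.ne']
  linarith

end Cfsg.Agent.S4989
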