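import Cfsg.Statements.S5005
import Cfsg.Agent.Helper27.M22B.Main
import Cfsg.Agent.Helper27.M22Base

set_option autoImplicit false
open Cfsg

namespace Cfsg.Agent.S5005

open Cfsg.Agent.Helper7 Cfsg.Agent.Helper27 Cfsg.Agent.Helper27.M22B

/-- the sporadic group `M22` is the stabiliser of the points `0` and `23` in `M24` -/
theorem sporM22_eq_M22p : Spor.M22 = M22p := by
  ext g
  rw [mem_M22p, Spor.M22, Spor.M23, Subgroup.mem_inf, Subgroup.mem_inf]
  constructor
  · rintro ⟨⟨h1, h2⟩, h3⟩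
    exact ⟨h1, MulAction.mem_stabilizer_iff.mp h3, MulAction.mem_stabilizer_iff.mp h2⟩
  · rintro ⟨h1, h2, h3⟩
    exact ⟨⟨h1, MulAction.mem_stabilizer_iff.mpr h3⟩, MulAction.mem_stabilizer_iff.mpr h2⟩

/-- `M22` is isomorphic to the stabiliser of the points `0` and `1` in `M24` -/
theorem nonempty_equiv : Nonempty (↥Spor.M22 ≃* ↥G1) := by
  obtain ⟨g, hg, h⟩ := m24_exists_map 2 (by norm_num) ⟨![pt 23, pt 0], by
    intro i j hij
    fin_cases i <;> fin_cases j <;> first | rfl | (exfalso; revert hij; decide)⟩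
  have h0 : g (pt 0) = pt 23 := h 0
  have h1 : g (pt 1) = pt 0 := h 1
  have e : ↥G1 ≃* ↥M22p := fixGConj hg [1, 0] [0, 23] (by
    simp only [List.map_cons, List.map_nil, h0, h1]
    rfl)
  exact ⟨(MulEquiv.subgroupCongr sporM22_eq_M22p).trans e.symm⟩

/-- All irreducible complex characters of the Mathieu group `M₂₂` lie in a single 2-block: any two of them lie in the same block relative to every maximal ideal of the algebraic integers containing 2. -/
theorem result (M : Ideal Cfsg.AlgInt) (hM : Cfsg.IsPModular 2 M)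
    (χ ψ : Cfsg.IrrCharacter ↥Cfsg.Spor.M22) : Cfsg.SameBlock M (χ : ↥Cfsg.Spor.M22 → ℂ) (ψ : ↥Cfsg.Spor.M22 → ℂ) := by
  obtain ⟨e⟩ := nonempty_equiv
  exact BlockTransport.sameBlock_of_mulEquiv e M (sameBlock_G1 M hM) χ ψ

end Cfsg.Agent.S5005
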