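-- Statement S5011 (row 5011).
import Cfsg.Statements.S5011

set_option autoImplicit false
open Cfsg

namespace Cfsg.Agent.S5011

/-- The subgroup of elements acting as scalars. -/
def scalarSubgroup {G : Type*} [Group G] {V : Type*} [AddCommGroup V] [Module ℂ V]
    (ρ : Representation ℂ G V) : Subgroup G where
  carrier := {x | ∃ μ : ℂ, ρ x = μ • (1 : V →ₗ[ℂ] V)}
  one_mem' := ⟨1, by simp⟩
  mul_mem' := by
    rintro x y ⟨μ, hμ⟩ ⟨ν, hν⟩
    refine ⟨μ * ν, ?_⟩
    rw [map_mul, hμ, hν]
    simp [mul_smul, smul_comm μ ν]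
  inv_mem' := by
    rintro x ⟨μ, hμ⟩
    by_cases h0 : μ = 0
    · refine ⟨0, ?_⟩
      have h1 : ρ x⁻¹ * ρ x = 1 := by rw [← map_mul]; simp
      rw [hμ, h0] at h1
      simp only [zero_smul, mul_zero] at h1
      rw [zero_smul]
      calc ρ x⁻¹ = ρ x⁻¹ * 1 := (mul_one _).symm
        _ = ρ x⁻¹ * 0 := by rw [← h1]
        _ = 0 := mul_zero _
    · refine ⟨μ⁻¹, ?_⟩
      have h1 : ρ x⁻¹ * ρ x = 1 := by rw [← map_mul]; simp
      rw [hμ] at h1
      simp only [mul_smul_comm, mul_one] at h1
      rw [← h1, smul_smul, inv_mul_cancel₀ h0, one_smul]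

theorem scalarSubgroup_normal {G : Type*} [Group G] {V : Type*} [AddCommGroup V] [Module ℂ V]
    (ρ : Representation ℂ G V) : (scalarSubgroup ρ).Normal := by
  constructor
  rintro x ⟨μ, hμ⟩ y
  refine ⟨μ, ?_⟩
  rw [map_mul, map_mul, hμ]
  simp only [mul_smul_comm, mul_one, smul_mul_assoc]
  rw [← map_mul]; simp

/-- Let G be a finite non-abelian simple group and ρ an irreducible complex representation of G on a space of dimension greater than one (irreducible in the sense that the only subspaces invariant under every ρ(x) are 0 and the whole space). Then for every non-identity element g of G, the centralizer of g does not act irreducibly: there is a non-zero proper subspace invariant under ρ(c) for every c commuting with g. -/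
theorem result {G : Type*} [Group G] [Finite G] [IsSimpleGroup G]
    (hG : ¬ IsMulCommutative G) {V : Type*} [AddCommGroup V] [Module ℂ V] [FiniteDimensional ℂ V]
    (ρ : Representation ℂ G V)
    (hirr : ∀ W : Submodule ℂ V, (∀ x : G, ∀ v ∈ W, ρ x v ∈ W) → W = ⊥ ∨ W = ⊤)
    (hdim : 1 < Module.finrank ℂ V) (g : G) (hg : g ≠ 1) :
    ∃ W : Submodule ℂ V, W ≠ ⊥ ∧ W ≠ ⊤ ∧ ∀ c ∈ Subgroup.centralizer ({g} : Set G), ∀ v ∈ W, ρ c v ∈ W := by
  have hnt : Nontrivial V := Module.nontrivial_of_finrank_pos (R := ℂ) (by omega)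
  obtain ⟨μ, hμ⟩ := Module.End.exists_eigenvalue (ρ g)
  refine ⟨Module.End.eigenspace (ρ g) μ, hμ, ?_, ?_⟩
  · intro htop
    -- then ρ g is scalar
    have hgs : g ∈ scalarSubgroup ρ := by
      refine ⟨μ, ?_⟩
      ext v
      have hv : v ∈ Module.End.eigenspace (ρ g) μ := by rw [htop]; trivial
      rw [Module.End.mem_eigenspace_iff] at hv
      simpa using hv
    have hN := scalarSubgroup_normal ρ
    rcases hN.eq_bot_or_eq_top with hb | ht
    · rw [hb, Subgroup.mem_bot] at hgs
      exact hg hgs
    · -- every subspace is invariant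
      have hall : ∀ W : Submodule ℂ V, W = ⊥ ∨ W = ⊤ := by
        intro W
        apply hirr
        intro x v hv
        have hx : x ∈ scalarSubgroup ρ := by rw [ht]; trivial
        obtain ⟨ν, hν⟩ := hx
        rw [hν]
        simpa using W.smul_mem ν hv
      obtain ⟨v, hv⟩ := exists_ne (0 : V)
      rcases hall (Submodule.span ℂ {v}) with h1 | h1
      · rw [Submodule.span_singleton_eq_bot] at h1
        exact hv h1
      · have h2 := finrank_span_singleton (K := ℂ) hv
        rw [h1, finrank_top] at h2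
        omega
  · intro c hc v hv
    rw [Module.End.mem_eigenspace_iff] at hv ⊢
    rw [Subgroup.mem_centralizer_iff] at hc
    have hcomm : g * c = c * g := hc g rfl
    calc ρ g (ρ c v) = (ρ g * ρ c) v := rfl
      _ = (ρ c * ρ g) v := by rw [← map_mul, hcomm, map_mul]
      _ = ρ c (ρ g v) := rfl
      _ = μ • ρ c v := by rw [hv, map_smul]

end Cfsg.Agent.S5011
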