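-- Statement S5014 (row 5014).
import Cfsg.Statements.S5014
import Cfsg.Agent.Helper83.RankOne

set_option autoImplicit false
open Cfsg

namespace Cfsg.Agent.S5014

open Cfsg.Agent.Helper83

theorem move_pair {G : Type*} [Group G] {A B : Subgroup G} (h : Cfsg.IsRankOnePair A B)
    {C₁ C₂ : Subgroup G} (h1 : C₁ ∈ Cfsg.unipotentSubgroups A B) (h2 : C₂ ∈ Cfsg.unipotentSubgroups A B)
    (hne : C₁ ≠ C₂) : ∃ x ∈ A ⊔ B, Cfsg.conjBy C₁ x = A ∧ Cfsg.conjBy C₂ x = B := by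
  obtain ⟨x₁, hx₁, rfl⟩ := h1
  have h2' : Cfsg.conjBy C₂ x₁⁻¹ ∈ Cfsg.unipotentSubgroups A B :=
    unipotent_conj_mem h2 (Subgroup.inv_mem _ hx₁)
  have hne' : Cfsg.conjBy C₂ x₁⁻¹ ≠ A := by
    intro hc
    rw [conjBy_eq_iff, inv_inv] at hc
    exact hne hc.symm
  obtain ⟨a, ha, hc⟩ := rankOne_unipotent_ne h h2' hne'
  refine ⟨a⁻¹ * x₁⁻¹, Subgroup.mul_mem _ (Subgroup.mem_sup_left (A.inv_mem ha)) (Subgroup.inv_mem _ hx₁), ?_, ?_⟩
  · rw [conjBy_conjBy]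
    have : a⁻¹ * x₁⁻¹ * x₁ = a⁻¹ := by group
    rw [this]
    exact conjBy_of_mem (A.inv_mem ha)
  · rw [← conjBy_conjBy, hc, conjBy_conjBy]
    simp [conjBy_one]

/-- Let X = ⟨A, B⟩ be a rank one group with unipotent subgroups A and B and let Ω be the set of conjugates of A under X. Then Ω has at least three members, X acts doubly transitively on Ω by conjugation (any two ordered pairs of distinct members are carried to one another by a single element of X), and A acts regularly on Ω with A removed: for C, D in Ω different from A there is exactly one element of A conjugating C to D. -/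
theorem result {G : Type*} [Group G] {A B : Subgroup G} (h : Cfsg.IsRankOnePair A B) :
    (∃ C₁ ∈ Cfsg.unipotentSubgroups A B, ∃ C₂ ∈ Cfsg.unipotentSubgroups A B, ∃ C₃ ∈ Cfsg.unipotentSubgroups A B,
      C₁ ≠ C₂ ∧ C₁ ≠ C₃ ∧ C₂ ≠ C₃) ∧
    (∀ C₁ ∈ Cfsg.unipotentSubgroups A B, ∀ C₂ ∈ Cfsg.unipotentSubgroups A B, ∀ D₁ ∈ Cfsg.unipotentSubgroups A B,
      ∀ D₂ ∈ Cfsg.unipotentSubgroups A B, C₁ ≠ C₂ → D₁ ≠ D₂ →
        ∃ x ∈ A ⊔ B, Cfsg.conjBy C₁ x = D₁ ∧ Cfsg.conjBy C₂ x = D₂) ∧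
    (∀ C ∈ Cfsg.unipotentSubgroups A B, ∀ D ∈ Cfsg.unipotentSubgroups A B, C ≠ A → D ≠ A →
      ∃! a : G, a ∈ A ∧ Cfsg.conjBy C a = D) := by
  refine ⟨?_, ?_, ?_⟩
  · obtain ⟨a, ha1⟩ := (Subgroup.ne_bot_iff_exists_ne_one).mp (rankOne_left_ne_bot h)
    have ha1' : (a : G) ≠ 1 := by simpa using ha1
    refine ⟨A, A_mem_unipotent A B, B, rankOne_B_mem_unipotent h, Cfsg.conjBy B a, ?_, h.ne, ?_, ?_⟩
    · exact unipotent_conj_mem (rankOne_B_mem_unipotent h) (Subgroup.mem_sup_left a.2)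
    · exact rankOne_A_ne_conjB h a.2
    · intro hc
      exact ha1' (rankOne_eq_one_of_conj h a.2 hc.symm)
  · intro C₁ hC₁ C₂ hC₂ D₁ hD₁ D₂ hD₂ hC hD
    obtain ⟨x, hx, hx1, hx2⟩ := move_pair h hC₁ hC₂ hC
    obtain ⟨y, hy, hy1, hy2⟩ := move_pair h hD₁ hD₂ hD
    refine ⟨y⁻¹ * x, Subgroup.mul_mem _ (Subgroup.inv_mem _ hy) hx, ?_, ?_⟩
    · rw [← conjBy_conjBy, hx1, ← hy1, conjBy_conjBy]; simp [conjBy_one]
    · rw [← conjBy_conjBy, hx2, ← hy2, conjBy_conjBy]; simp [conjBy_one]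
  · intro C hC D hD hCA hDA
    obtain ⟨a₁, ha₁, rfl⟩ := rankOne_unipotent_ne h hC hCA
    obtain ⟨a₂, ha₂, rfl⟩ := rankOne_unipotent_ne h hD hDA
    refine ⟨a₂ * a₁⁻¹, ⟨A.mul_mem ha₂ (A.inv_mem ha₁), ?_⟩, ?_⟩
    · rw [conjBy_conjBy]; simp
    · rintro a' ⟨ha', hc⟩
      rw [conjBy_conjBy] at hc
      have := rankOne_conj_inj h (A.mul_mem ha' ha₁) ha₂ hc
      rw [← this]; group

end Cfsg.Agent.S5014
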