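-- Statement S5015 (row 5015).
import Cfsg.Statements.S5015
import Cfsg.Agent.Helper83.RankOne2

set_option autoImplicit false
open Cfsg

namespace Cfsg.Agent.S5015

open Cfsg.Agent.Helper83

/-- `A` is a "root group" at the point `α`. -/
structure IsRootAt {Y Ω : Type*} [Group Y] [MulAction Y Ω] (α : Ω) (A : Subgroup Y) : Prop where
  le : A ≤ MulAction.stabilizer Y α
  norm : ∀ y ∈ MulAction.stabilizer Y α, Cfsg.conjBy A y = A
  reg : ∀ β γ : Ω, β ≠ α → γ ≠ α → ∃! a : Y, a ∈ A ∧ a • β = γ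

section
variable {Y Ω : Type*} [Group Y] [MulAction Y Ω]

theorem IsRootAt.conj {α : Ω} {A : Subgroup Y} (h : IsRootAt α A) (g : Y) :
    IsRootAt (g • α) (Cfsg.conjBy A g) where
  le := by
    intro x hx
    rw [mem_conjBy] at hx
    have := h.le hx
    rw [MulAction.mem_stabilizer_iff] at this ⊢
    rw [mul_smul, mul_smul] at this
    have h2 := congrArg (fun z => g • z) this
    simpa using h2
  norm := by
    intro y hy
    rw [MulAction.mem_stabilizer_iff] at hy
    rw [conjBy_conjBy]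
    have h1 : g⁻¹ * y * g ∈ MulAction.stabilizer Y α := by
      rw [MulAction.mem_stabilizer_iff, mul_smul, mul_smul, hy]; simp
    have h2 := h.norm _ h1
    have : y * g = g * (g⁻¹ * y * g) := by group
    rw [this, ← conjBy_conjBy, h2]
  reg := by
    intro β γ hβ hγ
    have hβ' : g⁻¹ • β ≠ α := by
      intro hc; apply hβ; rw [← hc]; simp
    have hγ' : g⁻¹ • γ ≠ α := by
      intro hc; apply hγ; rw [← hc]; simp
    obtain ⟨a, ⟨ha, hab⟩, huniq⟩ := h.reg _ _ hβ' hγ'
    refine ⟨g * a * g⁻¹, ⟨conj_mem_conjBy ha, ?_⟩, ?_⟩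
    · rw [mul_smul, mul_smul, hab]; simp
    · rintro b ⟨hb, hbβ⟩
      rw [mem_conjBy] at hb
      have := huniq (g⁻¹ * b * g) ⟨hb, by rw [mul_smul, mul_smul]; simp [hbβ]⟩
      rw [← this]; group

theorem IsRootAt.conj_eq_of_smul_eq {α : Ω} {A : Subgroup Y} (h : IsRootAt α A) {g g' : Y}
    (hg : g • α = g' • α) : Cfsg.conjBy A g = Cfsg.conjBy A g' := by
  have h1 : g⁻¹ * g' ∈ MulAction.stabilizer Y α := by
    rw [MulAction.mem_stabilizer_iff, mul_smul, ← hg]; simp
  have h2 := h.norm _ h1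
  have : g' = g * (g⁻¹ * g') := by group
  rw [this, ← conjBy_conjBy, h2]

theorem IsRootAt.eq_one_of_fix {α : Ω} {A : Subgroup Y} (h : IsRootAt α A) {a : Y} (ha : a ∈ A)
    {β : Ω} (hβ : β ≠ α) (hfix : a • β = β) : a = 1 := by
  obtain ⟨c, _, huniq⟩ := h.reg β β hβ hβ
  rw [huniq a ⟨ha, hfix⟩, huniq 1 ⟨A.one_mem, one_smul _ _⟩]

theorem IsRootAt.condition {α : Ω} {A : Subgroup Y} (h : IsRootAt α A) {y : Y} (hy : y • α ≠ α) :
    Cfsg.RankOneCondition A (Cfsg.conjBy A y) := by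
  intro a ha ha1
  have hB := h.conj y
  have hfixa : a • α = α := h.le ha
  have hfixa' : a⁻¹ • α = α := by
    have := congrArg (fun z => a⁻¹ • z) hfixa
    simpa using this.symm
  have h1 : a⁻¹ • (y • α) ≠ y • α := by
    intro hc
    have := h.eq_one_of_fix (A.inv_mem ha) hy hc
    exact ha1 (inv_eq_one.mp this)
  obtain ⟨b', ⟨hb', hb'α⟩, _⟩ := hB.reg α (a⁻¹ • (y • α)) (Ne.symm hy) h1
  refine ⟨b'⁻¹, Subgroup.inv_mem _ hb', ?_, ?_⟩
  · intro hc
    rw [inv_eq_one] at hc
    rw [hc, one_smul] at hb'α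
    apply hy
    have := congrArg (fun z => a • z) hb'α
    simp only [smul_inv_smul] at this
    rw [← this, hfixa]
  · rw [inv_inv, conjBy_conjBy]
    apply h.conj_eq_of_smul_eq
    rw [hb'α, mul_smul]

end

theorem exists_two_ne {Ω : Type*} (hΩ : 3 ≤ ENat.card Ω) (α : Ω) : ∃ β γ : Ω, β ≠ α ∧ γ ≠ α ∧ β ≠ γ := by
  have h1 : (Set.univ : Set Ω).encard - 1 ≤ ((Set.univ : Set Ω) \ {α}).encard :=
    Set.encard_tsub_one_le_encard_sdiff_singleton _ α
  rw [Set.encard_univ] at h1
  have h2 : (1 : ℕ∞) < ((Set.univ : Set Ω) \ {α}).encard := by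
    refine lt_of_lt_of_le ?_ h1
    have h3 : (3 : ℕ∞) - 1 ≤ ENat.card Ω - 1 := tsub_le_tsub_right hΩ 1
    refine lt_of_lt_of_le ?_ h3
    have : (3 : ℕ∞) - 1 = 2 := rfl
    rw [this]; norm_num
  rw [Set.one_lt_encard_iff] at h2
  obtain ⟨β, γ, hβ, hγ, hne⟩ := h2
  exact ⟨β, γ, by simpa using hβ, by simpa using hγ, hne⟩

/-- Let a group Y act doubly transitively on a set Ω with at least three points, and suppose that the stabilizer of a point α contains a nilpotent subgroup A, normalized by that stabilizer, which acts regularly on the points other than α. Then for any y in Y moving α, the subgroups A and y A y⁻¹ are the unipotent subgroups of a rank one group, and the normal closure of A in Y (the subgroup generated by all conjugates of A) is generated by A and y A y⁻¹ alone. -/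
theorem result {Y Ω : Type*} [Group Y] [MulAction Y Ω]
    (h2 : MulAction.IsMultiplyPretransitive Y Ω 2) (hΩ : 3 ≤ ENat.card Ω) (α : Ω) (A : Subgroup Y)
    (hA : A ≤ MulAction.stabilizer Y α) (hAn : ∀ y ∈ MulAction.stabilizer Y α, Cfsg.conjBy A y = A)
    (hnil : Group.IsNilpotent A) (hreg : ∀ β γ : Ω, β ≠ α → γ ≠ α → ∃! a : Y, a ∈ A ∧ a • β = γ)
    (y : Y) (hy : y ∉ MulAction.stabilizer Y α) :
    Cfsg.IsRankOnePair A (Cfsg.conjBy A y) ∧ Subgroup.normalClosure (A : Set Y) = A ⊔ Cfsg.conjBy A y := by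
  have hroot : IsRootAt α A := ⟨hA, hAn, hreg⟩
  have hyα : y • α ≠ α := hy
  have hrootB := hroot.conj y
  -- A is nontrivial
  obtain ⟨β, γ, hβ, hγ, hne⟩ := exists_two_ne hΩ α
  obtain ⟨a₀, ⟨ha₀, ha₀β⟩, _⟩ := hreg β γ hβ hγ
  have ha₀1 : a₀ ≠ 1 := by
    intro hc; rw [hc, one_smul] at ha₀β; exact hne ha₀β
  have hne : A ≠ Cfsg.conjBy A y := by
    intro hc
    have : a₀ ∈ Cfsg.conjBy A y := hc ▸ ha₀
    have hfix : a₀ • (y • α) = y • α := hrootB.le this
    exact ha₀1 (hroot.eq_one_of_fix ha₀ hyα hfix)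
  refine ⟨⟨hne, hnil, conjBy_nilpotent hnil y, hroot.condition hyα, ?_⟩, ?_⟩
  · have hy' : y⁻¹ • (y • α) ≠ y • α := by
      rw [inv_smul_smul]; exact Ne.symm hyα
    have := hrootB.condition hy'
    rw [conjBy_conjBy] at this
    simpa [conjBy_one] using this
  · apply le_antisymm
    · unfold Subgroup.normalClosure
      rw [Subgroup.closure_le]
      intro x hx
      rw [Group.mem_conjugatesOfSet_iff] at hx
      obtain ⟨a, ha, hconj⟩ := hx
      rw [isConj_iff] at hconj
      obtain ⟨g, rfl⟩ := hconj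
      have hmem : g * a * g⁻¹ ∈ Cfsg.conjBy A g := conj_mem_conjBy ha
      -- conjBy A g ≤ A ⊔ B
      suffices hle : Cfsg.conjBy A g ≤ A ⊔ Cfsg.conjBy A y from hle hmem
      by_cases hg : g • α = y • α
      · rw [hroot.conj_eq_of_smul_eq hg]; exact le_sup_right
      · obtain ⟨b, ⟨hb, hbα⟩, _⟩ := hrootB.reg α (g • α) (Ne.symm hyα) hg
        rw [← hroot.conj_eq_of_smul_eq hbα]
        exact conjBy_le_of_mem le_sup_left (Subgroup.mem_sup_right hb)
    · apply sup_le Subgroup.le_normalClosure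
      intro x hx
      rw [mem_conjBy] at hx
      have : x = y * (y⁻¹ * x * y) * y⁻¹ := by group
      rw [this]
      exact Subgroup.normalClosure_normal.conj_mem _ (Subgroup.le_normalClosure hx) y

end Cfsg.Agent.S5015
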