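-- Statement S5018 (row 5018).
import Cfsg.Statements.S5018
import Cfsg.Agent.Helper83.RankOne2

set_option autoImplicit false
open Cfsg

namespace Cfsg.Agent.S5018

open Cfsg.Agent.Helper83
open scoped commutatorElement

theorem comm_of_mem_two {X : Type*} [Group X] {A B : Subgroup X} (htop : A ⊔ B = ⊤)
    (hp : Cfsg.IsRankOnePair A B) {z : X} (hz : ∀ y : X, ⁅z, y⁆ ∈ Subgroup.center X) :
    ∀ a ∈ A, z * a = a * z := by
  have hmem : Cfsg.conjBy A z ∈ Cfsg.unipotentSubgroups A B := ⟨z, by rw [htop]; trivial, rfl⟩
  have hle : Cfsg.conjBy A z ≤ Subgroup.normalizer (A : Set X) := by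
    intro x hx
    rw [mem_conjBy] at hx
    have h1 : x = ⁅z, z⁻¹ * x * z⁆ * (z⁻¹ * x * z) := by
      rw [commutatorElement_def]; group
    rw [h1]
    exact Subgroup.mul_mem _ (Subgroup.center_le_normalizer _ (hz _)) (Subgroup.le_normalizer hx)
  by_cases hA : Cfsg.conjBy A z = A
  · intro a ha
    have h1 : ⁅z, a⁆ ∈ A := by
      rw [commutatorElement_def]
      refine A.mul_mem ?_ (A.inv_mem ha)
      rw [← hA]
      exact conj_mem_conjBy ha
    have h2 : ⁅z, a⁆ ∈ A ⊓ Subgroup.normalizer (B : Set X) :=
      ⟨h1, Subgroup.center_le_normalizer _ (hz a)⟩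
    rw [rankOne_inf_normalizer hp, Subgroup.mem_bot, commutatorElement_def] at h2
    have : z * a = (z * a * z⁻¹ * a⁻¹) * (a * z) := by group
    rw [this, h2, one_mul]
  · exfalso
    have hpair := (rankOne_pair_of_mem hp (A_mem_unipotent A B) hmem (Ne.symm hA)).1
    have := rankOne_inf_normalizer' hpair
    rw [inf_eq_left.mpr hle] at this
    exact rankOne_right_ne_bot hpair this

theorem two_eq_center {X : Type*} [Group X] {A B : Subgroup X} (h : Cfsg.IsRankOneGroup X A B) :
    Subgroup.upperCentralSeries X 2 = Subgroup.center X := by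
  obtain ⟨htop, hp⟩ := h
  apply le_antisymm
  · intro z hz
    rw [Subgroup.mem_upperCentralSeries_succ_iff, Subgroup.upperCentralSeries_one] at hz
    have hA := comm_of_mem_two htop hp hz
    have hB := comm_of_mem_two (by rw [sup_comm]; exact htop) (Cfsg.RankOnePair_symm hp) hz
    have hAc : A ≤ Subgroup.centralizer ({z} : Set X) := by
      intro a ha
      rw [Subgroup.mem_centralizer_iff]
      intro m hm
      rw [Set.mem_singleton_iff] at hm
      subst hm
      exact hA a ha
    have hBc : B ≤ Subgroup.centralizer ({z} : Set X) := by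
      intro a ha
      rw [Subgroup.mem_centralizer_iff]
      intro m hm
      rw [Set.mem_singleton_iff] at hm
      subst hm
      exact hB a ha
    rw [Subgroup.mem_center_iff]
    intro g
    have hg : g ∈ A ⊔ B := by rw [htop]; trivial
    have := (sup_le hAc hBc) hg
    rw [Subgroup.mem_centralizer_iff] at this
    exact (this z rfl).symm
  · rw [← Subgroup.upperCentralSeries_one]
    exact Subgroup.upperCentralSeries_mono X (by norm_num)

/-- A rank one group is not nilpotent, and its second centre equals its centre. -/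
theorem result {X : Type*} [Group X] {A B : Subgroup X} (h : Cfsg.IsRankOneGroup X A B) :
    Subgroup.upperCentralSeries X 2 = Subgroup.center X ∧ ¬ Group.IsNilpotent X := by
  have h2 := two_eq_center h
  refine ⟨h2, ?_⟩
  intro hnil
  obtain ⟨n, hn⟩ := hnil.nilpotent'
  have key : ∀ n, Subgroup.upperCentralSeries X n ≤ Subgroup.center X := by
    intro n
    induction n with
    | zero => rw [Subgroup.upperCentralSeries_zero]; exact bot_le
    | succ k ih =>
      rw [← h2]
      intro z hz
      rw [Subgroup.mem_upperCentralSeries_succ_iff] at hz ⊢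
      intro y
      rw [Subgroup.upperCentralSeries_one]
      exact ih (hz y)
  have hc : Subgroup.center X = ⊤ := top_le_iff.mp (hn ▸ key n)
  -- then A normalizes B
  obtain ⟨_, hp⟩ := h
  have hA : A ≤ Subgroup.normalizer (B : Set X) := by
    intro a _
    have : a ∈ Subgroup.center X := by rw [hc]; trivial
    exact (Subgroup.center_le_normalizer _) this
  have := rankOne_inf_normalizer hp
  rw [inf_eq_left.mpr hA] at this
  exact rankOne_left_ne_bot hp this

end Cfsg.Agent.S5018
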