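import Cfsg.Statements.S5021
import Cfsg.Agent.Helper83.Special

set_option autoImplicit false
open Cfsg

namespace Cfsg.Agent.S5021

open Cfsg.Agent.Helper83

/-- In a special rank one group with abelian unipotent subgroups A and B, either A is an elementary abelian p-group for some prime p, or A is torsion-free and divisible (every element of A has an n-th root in A for every positive n). -/
theorem result {X : Type*} [Group X] {A B : Subgroup X} (h : Cfsg.IsRankOneGroup X A B)
    (hs : Cfsg.IsSpecialRankOnePair A B) (hab : Cfsg.HasAbelianUnipotents A B) :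
    (∃ p : ℕ, p.Prime ∧ Cfsg.IsElementaryAbelian p A) ∨
    ((∀ a ∈ A, a ≠ 1 → ¬ IsOfFinOrder a) ∧ ∀ a ∈ A, ∀ n : ℕ, 0 < n → ∃ c ∈ A, c ^ n = a) := by
  have hr : Cfsg.IsRankOnePair A B := h.2
  have hsc : SpecialCond A B := specialCond_of_pair hs
  have hcomm : ∀ x ∈ A, ∀ y ∈ A, x * y = y * x := by
    intro x hx y hy
    have h1 := hab.1.is_comm.comm (⟨x, hx⟩ : A) ⟨y, hy⟩
    exact congrArg Subtype.val h1
  by_cases hfin : ∃ x ∈ A, x ≠ 1 ∧ IsOfFinOrder x
  · left
    obtain ⟨x, hx, hx1, hxfin⟩ := hfin
    have hpp : (orderOf x).Prime := special_prime_order hr hsc hx hx1 hxfin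
    set p := orderOf x with hp
    refine ⟨p, hpp, hab.1, ?_⟩
    intro y hy
    by_cases hy1 : y = 1
    · rw [hy1, one_pow]
    by_cases hyfin : IsOfFinOrder y
    · -- finite order: prime order q, must be p
      have hqp : (orderOf y).Prime := special_prime_order hr hsc hy hy1 hyfin
      by_cases hpq : orderOf y = p
      · rw [← hpq]; exact pow_orderOf_eq_one y
      · exfalso
        have hcop : Nat.Coprime (orderOf x) (orderOf y) :=
          (Nat.coprime_primes hpp hqp).mpr (fun h1 => hpq h1.symm)
        have hc : Commute x y := hcomm x hx y hy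
        have hord : orderOf (x * y) = orderOf x * orderOf y :=
          hc.orderOf_mul_eq_mul_orderOf_of_coprime hcop
        have hxy1 : x * y ≠ 1 := by
          intro h1
          rw [← orderOf_eq_one_iff, hord] at h1
          have := hpp.two_le
          have := hqp.two_le
          nlinarith
        have hxyfin : IsOfFinOrder (x * y) := hc.isOfFinOrder_mul hxfin hyfin
        have := special_prime_order hr hsc (A.mul_mem hx hy) hxy1 hxyfin
        rw [hord] at this
        exact Nat.not_prime_mul hpp.one_lt.ne' hqp.one_lt.ne' this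
    · -- infinite order: contradiction
      exfalso
      have hc : Commute y x := hcomm y hy x hx
      have hu : ¬ IsOfFinOrder (y * x) := by
        intro hfu
        apply hyfin
        have : y = (y * x) * x⁻¹ := by group
        rw [this]
        have hc2 : Commute (y * x) x⁻¹ := (hc.mul_left (Commute.refl x)).inv_right
        exact hc2.isOfFinOrder_mul hfu hxfin.inv
      have hpow : (y * x) ^ p = y ^ p := by
        rw [hc.mul_pow, hp, pow_orderOf_eq_one, mul_one]
      have := special_root_unique hr hsc hpp.pos (A.mul_mem hy hx) hy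
        (QS.of_not_isOfFinOrder hu p) (QS.of_not_isOfFinOrder hyfin p) hpow
      apply hx1
      have h2 : x = y⁻¹ * (y * x) := by group
      rw [h2, this]; group
  · right
    push Not at hfin
    refine ⟨hfin, ?_⟩
    intro a ha n hn
    by_cases ha1 : a = 1
    · exact ⟨1, A.one_mem, by rw [ha1, one_pow]⟩
    have hainf := hfin a ha ha1
    obtain ⟨b, hb⟩ := exists_partner_left hr ha ha1
    have hbn : b ^ n ≠ 1 := by
      intro h1
      exact hainf (isOfFinOrder_iff_pow_eq_one.mpr ⟨n, hn, (hsc.pow_eq_one_iff hb n).mpr h1⟩)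
    obtain ⟨z, hz⟩ := exists_partner_right hr (B.pow_mem hb.2.2.1 n) hbn
    exact ⟨z, hz.1, special_root n A B hr hsc a b z n hb (QS.of_not_isOfFinOrder hainf n) hn le_rfl hz⟩

end Cfsg.Agent.S5021
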