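import Cfsg.Statements.S5023
import Cfsg.Agent.Helper83.Quadratic
import Cfsg.Agent.S5021

set_option autoImplicit false
open Cfsg

namespace Cfsg.Agent.S5023

open Cfsg.Agent.Helper83

theorem comm_of_quad {X : Type*} [Group X] {V : Type*} [AddCommGroup V] [DistribMulAction X V]
    (hf : ∀ x : X, (∀ v : V, x • v = v) → x = 1) {x y : X}
    (h1 : ∀ v : V, y • (x • v - v) = x • v - v) (h2 : ∀ v : V, x • (y • v - v) = y • v - v) :
    x * y = y * x := by
  have key : ∀ v : V, (x * y) • v = (y * x) • v := by
    intro v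
    have e1 : x • y • v = (y • v - v) + x • v := by
      rw [← h2 v, smul_sub]; abel
    have e2 : y • x • v = (x • v - v) + y • v := by
      rw [← h1 v, smul_sub]; abel
    rw [mul_smul, mul_smul, e1, e2]; abel
  have h3 : (y * x)⁻¹ * (x * y) = 1 := by
    apply hf
    intro v
    rw [mul_smul, key v, ← mul_smul, inv_mul_cancel, one_smul]
  calc x * y = (y * x) * ((y * x)⁻¹ * (x * y)) := by group
    _ = y * x := by rw [h3, mul_one]

theorem isMulCommutative_of_quad {X : Type*} [Group X] {V : Type*} [AddCommGroup V]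
    [DistribMulAction X V] (hf : ∀ x : X, (∀ v : V, x • v = v) → x = 1) {A : Subgroup X}
    (hq : QuadOn A V) : IsMulCommutative A := by
  refine ⟨⟨?_⟩⟩
  rintro ⟨a, ha⟩ ⟨a', ha'⟩
  apply Subtype.ext
  exact comm_of_quad hf (hq a ha a' ha') (hq a' ha' a ha)

/-- Let X be a rank one group with unipotent subgroups A and B that acts faithfully on an abelian group V (written additively) with A acting quadratically: a' • (a • v − v) = a • v − v for all a, a' in A and v in V. Then A is either torsion-free or an elementary abelian p-group for some prime p. -/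
theorem result {X : Type*} [Group X] {A B : Subgroup X} (h : Cfsg.IsRankOneGroup X A B)
    {V : Type*} [AddCommGroup V] [DistribMulAction X V] (hf : ∀ x : X, (∀ v : V, x • v = v) → x = 1)
    (hq : ∀ a ∈ A, ∀ a' ∈ A, ∀ v : V, a' • (a • v - v) = a • v - v) :
    (∀ a ∈ A, a ≠ 1 → ¬ IsOfFinOrder a) ∨ ∃ p : ℕ, p.Prime ∧ Cfsg.IsElementaryAbelian p A := by
  have hr := h.2
  have hA : QuadOn A V := hq
  have hB : QuadOn B V := by
    obtain ⟨x, _, hx⟩ := rankOne_B_mem_unipotent hr
    rw [hx]; exact hA.conj x
  have hab : Cfsg.HasAbelianUnipotents A B :=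
    ⟨isMulCommutative_of_quad hf hA, isMulCommutative_of_quad hf hB⟩
  by_cases hX : ∃ x y : X, ∃ n : V, y • (x • n - n) ≠ x • n - n
  · have hs := special_of_quadratic h hA hX
    rcases Cfsg.Agent.S5021.result h hs hab with h1 | h1
    · right; exact h1
    · left; exact h1.1
  · exfalso
    push Not at hX
    -- X is abelian, contradiction
    have hcomm : ∀ x y : X, x * y = y * x := fun x y => comm_of_quad hf (hX x y) (hX y x)
    obtain ⟨a, ha1⟩ := (Subgroup.ne_bot_iff_exists_ne_one).mp (rankOne_left_ne_bot hr)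
    obtain ⟨b, hb, _, hc⟩ := hr.cond_left a.1 a.2 (by simpa using ha1)
    have e1 : ∀ (C : Subgroup X) (g : X), Cfsg.conjBy C g = C := by
      intro C g
      ext x
      rw [mem_conjBy]
      have : g⁻¹ * x * g = x := by rw [hcomm g⁻¹ x, mul_assoc, inv_mul_cancel, mul_one]
      rw [this]
    rw [e1, e1] at hc
    exact hr.ne hc

end Cfsg.Agent.S5023
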