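-- Statement S5024 (row 5024).
import Cfsg.Statements.S5024
import Cfsg.Agent.Helper83.RootSub2

set_option autoImplicit false
open Cfsg

namespace Cfsg.Agent.S5024

open Cfsg.Agent.Helper83

theorem not_central {G : Type*} [Group G] {A B K : Subgroup G} (h : Cfsg.IsRankOnePair A B)
    (hle : A ⊔ B ≤ K) : ¬ A ≤ Subgroup.centralizer (K : Set G) := by
  intro hc
  have hA : A ≤ Subgroup.normalizer (B : Set G) := by
    refine hc.trans ((Subgroup.centralizer_le ?_).trans (centralizer_le_normalizer' B))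
    exact_mod_cast (le_sup_right.trans hle : B ≤ K)
  have := rankOne_inf_normalizer h
  rw [inf_eq_left.mpr hA] at this
  exact rankOne_left_ne_bot h this

/-- Let S be a set of abstract root subgroups of G, A and C members of S, B a rank one partner of A in S and D a rank one partner of C in S. If the rank one group ⟨A, B⟩ is contained in ⟨C, D⟩ then the two coincide, and C and D are conjugates of A inside ⟨A, B⟩. -/
theorem result {G : Type*} [Group G] {S : Set (Subgroup G)} (hS : Cfsg.IsRootSubgroupSet S)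
    {A B C D : Subgroup G} (hA : A ∈ S) (hC : C ∈ S) (hB : B ∈ Cfsg.rankOnePartners S A) (hD : D ∈ Cfsg.rankOnePartners S C)
    (hle : A ⊔ B ≤ C ⊔ D) : A ⊔ B = C ⊔ D ∧ C ∈ Cfsg.unipotentSubgroups A B ∧ D ∈ Cfsg.unipotentSubgroups A B := by
  obtain ⟨hBS, hAB⟩ := hB
  obtain ⟨hDS, hCD⟩ := hD
  have hAmem : A ∈ Cfsg.unipotentSubgroups C D :=
    root_mem_unipotent_of_le hS hCD hC hA (le_sup_left.trans hle) (not_central hAB hle)
  have hBmem : B ∈ Cfsg.unipotentSubgroups C D :=
    root_mem_unipotent_of_le hS hCD hC hBS (le_sup_right.trans hle)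
      (not_central (Cfsg.RankOnePair_symm hAB) (by rw [sup_comm]; exact hle))
  have hsup := (rankOne_pair_of_mem hCD hAmem hBmem hAB.ne).2
  have hΩ := unipotentSubgroups_eq_of_mem hCD hAmem hBmem hAB.ne
  refine ⟨hsup, ?_, ?_⟩
  · rw [hΩ]; exact A_mem_unipotent C D
  · rw [hΩ]; exact rankOne_B_mem_unipotent hCD

end Cfsg.Agent.S5024
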