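-- Statement S5026 (row 5026).
import Cfsg.Statements.S5026
import Cfsg.Agent.Helper83.RootSub2

set_option autoImplicit false
open Cfsg

namespace Cfsg.Agent.S5026

open Cfsg.Agent.Helper83

theorem le_centralizer_zpowers_iff {G : Type*} [Group G] {C : Subgroup G} {g : G} :
    C ≤ Subgroup.centralizer ((Subgroup.zpowers g : Subgroup G) : Set G) ↔
      g ∈ Subgroup.centralizer (C : Set G) := by
  rw [Subgroup.le_centralizer_iff, Subgroup.zpowers_le]

theorem mem_centralizer_sup {G : Type*} [Group G] {C D : Subgroup G} {t : G}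
    (hC : t ∈ Subgroup.centralizer (C : Set G)) (hD : t ∈ Subgroup.centralizer (D : Set G)) :
    t ∈ Subgroup.centralizer ((C ⊔ D : Subgroup G) : Set G) := by
  have h1 : Subgroup.zpowers t ≤ Subgroup.centralizer (C : Set G) := by
    rw [Subgroup.zpowers_le]; exact hC
  have h2 : Subgroup.zpowers t ≤ Subgroup.centralizer (D : Set G) := by
    rw [Subgroup.zpowers_le]; exact hD
  exact le_centralizer_sup h1 h2 (Subgroup.mem_zpowers t)

theorem key {G : Type*} [Group G] {S : Set (Subgroup G)} (hS : Cfsg.IsRootSubgroupSet S)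
    (hdeg : Cfsg.IsDegenerateRootSet S) {a b : G} {A B C : Subgroup G} (hA : A ∈ S) (hB : B ∈ S)
    (hC : C ∈ S) (ha : a ∈ A) (ha1 : a ≠ 1) (hb : b ∈ B) (hb1 : b ≠ 1) (hab : a * b = b * a)
    (hab1 : a * b ≠ 1) (hcen : a * b ∈ Subgroup.centralizer (C : Set G)) :
    a ∈ Subgroup.centralizer (C : Set G) := by
  by_contra hna
  rcases hS.pair A hA C hC with h0 | h | h2
  · exact hna (Subgroup.commutator_eq_bot_iff_le_centralizer.mp h0 ha)
  · have ha1' : a⁻¹ ≠ 1 := by simpa using ha1
    have hbB : a * b * a⁻¹ ∈ B := by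
      have : a * b * a⁻¹ = b := by rw [hab]; group
      rw [this]; exact hb
    have hBmem : B ∈ Cfsg.unipotentSubgroups A C :=
      root_mem_unipotent hS h hC hB (A.inv_mem ha) ha1' hcen hbB
    -- a * b centralizes A ⊔ C
    have hCmem : C ∈ Cfsg.unipotentSubgroups A C := rankOne_B_mem_unipotent h
    have hC'mem : Cfsg.conjBy C a ∈ Cfsg.unipotentSubgroups A C :=
      unipotent_conj_mem hCmem (Subgroup.mem_sup_left ha)
    have hC'ne : C ≠ Cfsg.conjBy C a := by
      intro hc
      exact ha1 (rankOne_eq_one_of_conj h ha hc.symm)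
    have hsup := (rankOne_pair_of_mem h hCmem hC'mem hC'ne).2
    have hcen' : a * b ∈ Subgroup.centralizer ((Cfsg.conjBy C a : Subgroup G) : Set G) := by
      rw [mem_centralizer_coe]
      intro x hx
      rw [mem_conjBy] at hx
      have h1 := (mem_centralizer_coe.mp hcen) _ hx
      have hta : Commute (a * b) a := by
        change a * b * a = a * (a * b)
        rw [mul_assoc a b a, hab]
      have hty : Commute (a * b) (a⁻¹ * x * a) := h1.symm
      have h3 : Commute (a * b) (a * (a⁻¹ * x * a) * a⁻¹) := (hta.mul_right hty).mul_right hta.inv_right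
      have e : a * (a⁻¹ * x * a) * a⁻¹ = x := by group
      rw [e] at h3
      exact h3.symm
    have hcenAC : a * b ∈ Subgroup.centralizer ((A ⊔ C : Subgroup G) : Set G) := by
      rw [← hsup]; exact mem_centralizer_sup hcen hcen'
    have hcenA : a * b ∈ Subgroup.centralizer (A : Set G) :=
      Subgroup.centralizer_le (by exact_mod_cast (le_sup_left : A ≤ A ⊔ C)) hcenAC
    by_cases hBA : B = A
    · have habA : a * b ∈ A := A.mul_mem ha (hBA ▸ hb)
      have : a * b ∈ A ⊓ Subgroup.normalizer (C : Set G) := ⟨habA, centralizer_le_normalizer' C hcen⟩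
      rw [rankOne_inf_normalizer h, Subgroup.mem_bot] at this
      exact hab1 this
    · have hpair := (rankOne_pair_of_mem h (A_mem_unipotent A C) hBmem (Ne.symm hBA)).1
      have hbN : b ∈ Subgroup.normalizer (A : Set G) := by
        have : b = a⁻¹ * (a * b) := by group
        rw [this]
        exact Subgroup.mul_mem _ (Subgroup.le_normalizer (A.inv_mem ha)) (centralizer_le_normalizer' A hcenA)
      have : b ∈ B ⊓ Subgroup.normalizer (A : Set G) := ⟨hb, hbN⟩
      rw [rankOne_inf_normalizer' hpair, Subgroup.mem_bot] at this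
      exact hb1 this
  · exact hdeg A hA C hC h2

/-- Let S be a degenerate set of abstract root subgroups of G (a set of abstract transvection groups) and let a, b be commuting non-identity elements of members of S with a b ≠ 1. Then the members of S centralizing a b are exactly those centralizing both a and b. -/
theorem result {G : Type*} [Group G] {S : Set (Subgroup G)} (hS : Cfsg.IsRootSubgroupSet S) (hdeg : Cfsg.IsDegenerateRootSet S)
    {a b : G} (ha : a ∈ Cfsg.rootElements S) (hb : b ∈ Cfsg.rootElements S) (hab : a * b = b * a) (hab1 : a * b ≠ 1) :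
    Cfsg.centralizingMembers S (Subgroup.zpowers (a * b)) =
      Cfsg.centralizingMembers S (Subgroup.zpowers a) ∩ Cfsg.centralizingMembers S (Subgroup.zpowers b) := by
  obtain ⟨ha1, A, hA, haA⟩ := ha
  obtain ⟨hb1, B, hB, hbB⟩ := hb
  ext C
  simp only [Cfsg.centralizingMembers, Set.mem_ofPred_eq, Set.mem_inter_iff, le_centralizer_zpowers_iff]
  constructor
  · rintro ⟨hC, hcen⟩
    have h1 := key hS hdeg hA hB hC haA ha1 hbB hb1 hab hab1 hcen
    refine ⟨⟨hC, h1⟩, hC, ?_⟩
    have : b = a⁻¹ * (a * b) := by group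
    rw [this]
    exact Subgroup.mul_mem _ (Subgroup.inv_mem _ h1) hcen
  · rintro ⟨⟨hC, h1⟩, _, h2⟩
    exact ⟨hC, Subgroup.mul_mem _ h1 h2⟩

end Cfsg.Agent.S5026
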