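-- Statement S5027 (row 5027).
import Cfsg.Statements.S5027
import Cfsg.Agent.Helper83.RootSub

set_option autoImplicit false
open Cfsg

namespace Cfsg.Agent.S5027

open Cfsg.Agent.Helper83
open scoped commutatorElement

/-- Let S be a set of abstract root subgroups of G such that every member of S has a rank one partner in S (the graph of rank one pairs on S has no isolated vertex). Then the second centre of G equals its centre. -/
theorem result {G : Type*} [Group G] {S : Set (Subgroup G)} (hS : Cfsg.IsRootSubgroupSet S)
    (hF : ∀ A ∈ S, ¬ Cfsg.IsIsolatedIn (Cfsg.FAdj S) S A) : Subgroup.upperCentralSeries G 2 = Subgroup.center G := by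
  apply le_antisymm
  · intro z hz
    rw [Subgroup.mem_upperCentralSeries_succ_iff, Subgroup.upperCentralSeries_one] at hz
    -- z commutes with every element of every member of S
    have key : ∀ A ∈ S, A ≤ Subgroup.centralizer ({z} : Set G) := by
      intro A hAS a ha
      rw [Subgroup.mem_centralizer_iff]
      intro m hm
      rw [Set.mem_singleton_iff] at hm
      subst hm
      by_cases ha1 : a = 1
      · rw [ha1]; simp
      obtain ⟨B, hBS, h⟩ := exists_partner hAS (hF A hAS)
      by_contra hne
      have hc1 : ⁅m, a⁆ ≠ 1 := by
        intro hc
        rw [commutatorElement_eq_one_iff_mul_comm] at hc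
        exact hne hc
      have hcent : ⁅m, a⁆ ∈ Subgroup.centralizer ((A ⊔ B : Subgroup G) : Set G) := by
        rw [Subgroup.mem_centralizer_iff]
        intro y _
        exact ((Subgroup.mem_center_iff.mp (hz a)) y)
      have hmem : ⁅m, a⁆ * a ∈ Cfsg.conjBy A m := by
        have : ⁅m, a⁆ * a = m * a * m⁻¹ := by rw [commutatorElement_def]; group
        rw [this]
        exact conj_mem_conjBy ha
      exact root_central_translate hS h hBS hcent hc1 ha ha1 (hS.conj_mem A hAS m) hmem
    have htop : (⊤ : Subgroup G) ≤ Subgroup.centralizer ({z} : Set G) := by
      rw [← hS.generates]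
      exact iSup₂_le key
    rw [Subgroup.mem_center_iff]
    intro g
    have := htop (Subgroup.mem_top g)
    rw [Subgroup.mem_centralizer_iff] at this
    exact (this z rfl).symm
  · rw [← Subgroup.upperCentralSeries_one]
    exact Subgroup.upperCentralSeries_mono G (by norm_num)

end Cfsg.Agent.S5027
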