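-- Statement S5029 (row 5029).
import Cfsg.Statements.S5029
import Cfsg.Agent.Helper83.RootSub4

set_option autoImplicit false
open Cfsg

namespace Cfsg.Agent.S5029

open Cfsg.Agent.Helper83
open scoped commutatorElement

/-- Let S be a set of abstract root subgroups of G, A ∈ S having a rank one partner in S, and B ∈ S with C = ⁅A, B⁆ ∈ S. Then the members of S contained in AC are the conjugates of A by elements of B together with C, they partition AC, the members of S inside AC partition AC so that A is a line partner of C, and for every non-identity a ∈ A the map b ↦ a⁻¹ b⁻¹ a b is an isomorphism from B onto C. -/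
theorem result {G : Type*} [Group G] {S : Set (Subgroup G)} (hS : Cfsg.IsRootSubgroupSet S)
    {A B : Subgroup G} (hA : ¬ Cfsg.IsIsolatedIn (Cfsg.FAdj S) S A) (hAS : A ∈ S) (hB : B ∈ S) (hC : ⁅A, B⁆ ∈ S) :
    Cfsg.membersIn S (A ⊔ ⁅A, B⁆) = (fun b : G => Cfsg.conjBy A b) '' (B : Set G) ∪ {⁅A, B⁆} ∧
    Cfsg.IsSubgroupPartition (A ⊔ ⁅A, B⁆) (Cfsg.membersIn S (A ⊔ ⁅A, B⁆)) ∧
    A ∈ Cfsg.linePartners S ⁅A, B⁆ ∧
    ∀ a ∈ A, a ≠ 1 → ∃ φ : ↥B ≃* ↥⁅A, B⁆, ∀ b : ↥B, (φ b : G) = a⁻¹ * (b : G)⁻¹ * a * b := by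
  obtain ⟨D, hD, hp⟩ := exists_partner hAS hA
  have h := commutatorCase_of_mem hS hAS hB hC
  have hpart := commutatorCase_partition hS h hAS hp hD
  refine ⟨commutatorCase_members hS h hAS hp hD, hpart, ⟨⟨hAS, commutatorCase_ne hS h, ?_⟩, ?_⟩, ?_⟩
  · rw [Subgroup.commutator_comm, Subgroup.commutator_eq_bot_iff_le_centralizer]
    exact commutatorCase_A_le_centralizer h
  · rw [sup_comm]; exact hpart
  · intro a ha ha1
    have ha' : a⁻¹ ∈ A := A.inv_mem ha
    have ha1' : a⁻¹ ≠ 1 := by simpa using ha1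
    -- the hom b ↦ ⁅a⁻¹, b⁆ composed with inversion on B
    let f : ↥B →* ↥(⁅A, B⁆ : Subgroup G) := commHom h ha'
    have hbij : Function.Bijective f :=
      ⟨commHom_injective hS h hAS hp hD ha' ha1', commHom_surjective h ha' ha1'⟩
    let e : ↥B ≃* ↥(⁅A, B⁆ : Subgroup G) := MulEquiv.ofBijective f hbij
    have hBcomm := hS.commutative B hB
    let inv : ↥B ≃* ↥B :=
      { toFun := fun b => b⁻¹
        invFun := fun b => b⁻¹
        left_inv := fun b => inv_inv b
        right_inv := fun b => inv_inv b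
        map_mul' := fun b b' => by
          rw [mul_inv_rev]
          exact hBcomm.is_comm.comm _ _ }
    refine ⟨inv.trans e, ?_⟩
    intro b
    change ((commHom h ha' (b⁻¹) : (⁅A, B⁆ : Subgroup G)) : G) = _
    rw [commHom_apply, commutatorElement_def]
    simp

end Cfsg.Agent.S5029
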