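-- Statement S5033 (row 5033).
import Cfsg.Statements.S5033
import Cfsg.Agent.Helper83.RootQS3
import Cfsg.Agent.Helper29.Basic

set_option autoImplicit false
open Cfsg

namespace Cfsg.Agent.S5033

open Cfsg.Agent.Helper83
open scoped commutatorElement

section
variable {G : Type*} [Group G] {S : Set (Subgroup G)}

theorem exists_partner_of_connected (h2 : ∃ A ∈ S, ∃ B ∈ S, A ≠ B)
    (h1 : Cfsg.IsConnectedFamily (Cfsg.FAdj S) S) {A : Subgroup G} (hA : A ∈ S) :
    ∃ D ∈ S, Cfsg.IsRankOnePair A D := by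
  obtain ⟨A₀, hA₀, B₀, hB₀, hne⟩ := h2
  have hex : ∃ B ∈ S, B ≠ A := by
    by_cases h : A₀ = A
    · exact ⟨B₀, hB₀, fun hB => hne (h.trans hB.symm)⟩
    · exact ⟨A₀, hA₀, h⟩
  obtain ⟨B, hB, hBA⟩ := hex
  rcases Relation.ReflTransGen.cases_head (h1 A hA B hB) with h | ⟨D, hD, _⟩
  · exact absurd h.symm hBA
  · exact ⟨D, hD.2.1, hD.2.2⟩

/-- Every member of `S` lies in the commutator subgroup. -/
theorem member_le_commutator (hS : Cfsg.IsRootSubgroupSet S) (h2 : ∃ A ∈ S, ∃ B ∈ S, A ≠ B)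
    (h1 : Cfsg.IsConnectedFamily (Cfsg.FAdj S) S)
    (h3 : Cfsg.IsDegenerateRootSet S → ∀ A ∈ S, 3 < ENat.card A)
    (h4 : ∀ A ∈ S, ∀ B ∈ Cfsg.rankOnePartners S A, Cfsg.IsSpecialRankOnePair A B)
    {A : Subgroup G} (hA : A ∈ S) : A ≤ commutator G := by
  by_cases hdeg : Cfsg.IsDegenerateRootSet S
  · obtain ⟨D, hD, hp⟩ := exists_partner_of_connected h2 h1 hA
    have hs := specialCond_of_pair (h4 A hA D ⟨hD, hp⟩)
    refine (Cfsg.Agent.S5020.le_commutator_diagonal hp hs (abelian_of_mem hS hA) (h3 hdeg A hA)).trans ?_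
    rw [commutator_def]
    exact Subgroup.commutator_mono le_top le_top
  · unfold Cfsg.IsDegenerateRootSet at hdeg
    push Not at hdeg
    obtain ⟨A', hA', B', _, hcc'⟩ := hdeg
    obtain ⟨g, hg⟩ := ((Cfsg.Agent.S5032.result hS h2).mp h1).1.2 ⁅A', B'⁆ hcc'.1 A hA
    rw [hg]
    have hle : ⁅A', B'⁆ ≤ commutator G := by
      rw [commutator_def]
      exact Subgroup.commutator_mono le_top le_top
    intro x hx
    rw [mem_conjBy] at hx
    have hn : (commutator G).Normal := inferInstance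
    have := hn.conj_mem _ (hle hx) g
    have e : g * (g⁻¹ * x * g) * g⁻¹ = x := by group
    rwa [e] at this

theorem commutator_eq_top (hS : Cfsg.IsRootSubgroupSet S) (h2 : ∃ A ∈ S, ∃ B ∈ S, A ≠ B)
    (h1 : Cfsg.IsConnectedFamily (Cfsg.FAdj S) S)
    (h3 : Cfsg.IsDegenerateRootSet S → ∀ A ∈ S, 3 < ENat.card A)
    (h4 : ∀ A ∈ S, ∀ B ∈ Cfsg.rankOnePartners S A, Cfsg.IsSpecialRankOnePair A B) :
    commutator G = ⊤ := by
  rw [eq_top_iff, ← hS.generates]
  exact iSup₂_le (fun A hA => member_le_commutator hS h2 h1 h3 h4 hA)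

theorem center_ne_top (h2 : ∃ A ∈ S, ∃ B ∈ S, A ≠ B)
    (h1 : Cfsg.IsConnectedFamily (Cfsg.FAdj S) S) : Subgroup.center G ≠ ⊤ := by
  intro hc
  obtain ⟨A, hA, _⟩ := h2
  obtain ⟨D, _, hp⟩ := exists_partner_of_connected ⟨A, hA, ‹_›⟩ h1 hA
  have hAD : A ≤ Subgroup.normalizer (D : Set G) := by
    intro a _
    have : a ∈ Subgroup.center G := by rw [hc]; trivial
    exact (Subgroup.center_le_normalizer _) this
  have := rankOne_inf_normalizer hp
  rw [inf_eq_left.mpr hAD] at this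
  exact rankOne_left_ne_bot hp this

theorem quasisimple (hS : Cfsg.IsRootSubgroupSet S) (h2 : ∃ A ∈ S, ∃ B ∈ S, A ≠ B)
    (h1 : Cfsg.IsConnectedFamily (Cfsg.FAdj S) S)
    (h2' : ∀ A ∈ S, ∀ C ∈ S, A ≠ C → Cfsg.centralizingMembers S A ≠ Cfsg.centralizingMembers S C)
    (h3 : Cfsg.IsDegenerateRootSet S → ∀ A ∈ S, 3 < ENat.card A)
    (h4 : ∀ A ∈ S, ∀ B ∈ Cfsg.rankOnePartners S A, Cfsg.IsSpecialRankOnePair A B) :
    Cfsg.IsQuasisimple G := by
  have hperf := commutator_eq_top hS h2 h1 h3 h4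
  refine ⟨⟨hperf⟩, ?_⟩
  have hnt : Nontrivial (G ⧸ Subgroup.center G) := by
    rw [← not_subsingleton_iff_nontrivial]
    intro hs
    exact center_ne_top h2 h1 (QuotientGroup.subsingleton_iff.mp hs)
  refine { exists_pair_ne := hnt.exists_pair_ne, eq_bot_or_eq_top_of_normal := ?_ }
  intro H hH
  let N : Subgroup G := H.comap (QuotientGroup.mk' (Subgroup.center G))
  have hNn : N.Normal := hH.comap _
  have hHN : H = N.map (QuotientGroup.mk' (Subgroup.center G)) :=
    (Subgroup.map_comap_eq_self_of_surjective (QuotientGroup.mk'_surjective _) H).symm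
  by_cases hNc : N ≤ Subgroup.center G
  · left
    rw [hHN, eq_bot_iff]
    rintro _ ⟨x, hx, rfl⟩
    rw [Subgroup.mem_bot, QuotientGroup.mk'_apply, QuotientGroup.eq_one_iff]
    exact hNc hx
  · right
    obtain ⟨A, hA, hAN⟩ := exists_inf_ne_bot hS h2 h1 h2' h3 h4 hNn hNc
    have hNtop := eq_top_of_inf_ne_bot hS h1 h4 hperf hNn hA hAN
    rw [hHN, hNtop]
    exact Subgroup.map_top_of_surjective _ (QuotientGroup.mk'_surjective _)

end

/-- Quasisimplicity criterion for groups generated by abstract root subgroups. Let S be a set of abstract root subgroups of G with more than one member such that: the graph of rank one pairs on S is connected; no two different members of S have the same set of commuting members of S; if S is degenerate then every member of S has more than three elements; and every rank one pair in S is special. Then for every A ∈ S one has G = G' A with A ∩ G' ≠ 1, and the commutator subgroup G' is quasisimple. Moreover G is perfect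 if S is non-degenerate, or if some rank one pair A, B in S generates a perfect group. -/
theorem result {G : Type*} [Group G] {S : Set (Subgroup G)} (hS : Cfsg.IsRootSubgroupSet S) (h2 : ∃ A ∈ S, ∃ B ∈ S, A ≠ B)
    (h1 : Cfsg.IsConnectedFamily (Cfsg.FAdj S) S)
    (h2' : ∀ A ∈ S, ∀ C ∈ S, A ≠ C → Cfsg.centralizingMembers S A ≠ Cfsg.centralizingMembers S C)
    (h3 : Cfsg.IsDegenerateRootSet S → ∀ A ∈ S, 3 < ENat.card A)
    (h4 : ∀ A ∈ S, ∀ B ∈ Cfsg.rankOnePartners S A, Cfsg.IsSpecialRankOnePair A B) :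
    (∀ A ∈ S, commutator G ⊔ A = ⊤ ∧ A ⊓ commutator G ≠ ⊥) ∧ Cfsg.IsQuasisimple ↥(commutator G) ∧
    (Cfsg.IsNondegenerateRootSet S → commutator G = ⊤) ∧
    ((∃ A ∈ S, ∃ B ∈ Cfsg.rankOnePartners S A, Group.IsPerfect ↥(A ⊔ B)) → commutator G = ⊤) := by
  have hperf := commutator_eq_top hS h2 h1 h3 h4
  refine ⟨fun A hA => ⟨?_, ?_⟩, ?_, fun _ => hperf, fun _ => hperf⟩
  · rw [hperf]; exact top_sup_eq _
  · rw [hperf, inf_top_eq]; exact hS.ne_bot A hA
  · have e : G ≃* (commutator G) :=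
      (Subgroup.topEquiv.symm).trans (MulEquiv.subgroupCongr hperf.symm)
    exact Cfsg.Agent.Helper29.isQuasisimple_of_mulEquiv e (quasisimple hS h2 h1 h2' h3 h4)

end Cfsg.Agent.S5033
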