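import Cfsg.Statements.S5034
import Cfsg.Agent.Helper83.Line
import Cfsg.Agent.Helper83.Transport

set_option autoImplicit false
open Cfsg

namespace Cfsg.Agent.S5034

open Cfsg.Agent.Helper83
open Cfsg.Agent.S5036 (commutatorCase_cent_left)
open scoped commutatorElement

/-- In a set of abstract root subgroups: if `C` is a line partner of `A`, `⁅B, C⁆ ∈ S` for the rank
one partner `B` of `A`, and `C` has a rank one partner, then `(A, B)` is special. -/
theorem special_of_linePartner {G : Type*} [Group G] {S : Set (Subgroup G)}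
    (hS : Cfsg.IsRootSubgroupSet S) {A B C T₀ : Subgroup G}
    (hA : A ∈ S) (hB : B ∈ S) (hAB : Cfsg.IsRankOnePair A B) (hC : C ∈ Cfsg.linePartners S A)
    (hE : ⁅B, C⁆ ∈ S) (hT₀ : T₀ ∈ S) (hCT₀ : Cfsg.IsRankOnePair C T₀) :
    Cfsg.IsSpecialRankOnePair A B := by
  have hCS : C ∈ S := hC.1.1
  have cBC := commutatorCase_of_mem hS hB hCS hE
  have cAE := commutatorCase_of_linePartner hS hA hB hAB hC hE
  have hQ := commutator_commutator_eq_of_linePartner hS hA hB hAB hC hE hT₀ hCT₀
  have hAC : A ≤ Subgroup.centralizer (C : Set G) :=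
    Subgroup.commutator_eq_bot_iff_le_centralizer.mp hC.1.2.2
  have hEC : ⁅B, C⁆ ≤ Subgroup.centralizer (C : Set G) :=
    (commutatorCase_le_centralizer cBC).trans (Subgroup.centralizer_le (by
      exact_mod_cast (le_sup_right : C ≤ B ⊔ C)))
  have hCE := le_centralizer_symm hEC
  have hCC := le_centralizer_self_of_comm (hS.commutative C hCS)
  apply special_of_quadratic_sub hAB (N := C ⊔ ⁅B, C⁆)
  · exact isMulCommutative_sup (hS.commutative C hCS) (hS.commutative _ hE) hCE
  · refine sup_le ?_ ?_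
    · have h1 := commutatorCase_le_normalizer (commutatorCase_symm cAE)
      rw [Subgroup.commutator_comm ⁅B, C⁆ A, hQ, sup_comm] at h1
      exact h1
    · have h1 := commutatorCase_le_normalizer (commutatorCase_symm cBC)
      rw [Subgroup.commutator_comm C B] at h1
      exact h1
  · intro a ha a' ha' n hn
    have hle : ⁅A, C ⊔ ⁅B, C⁆⁆ ≤ C := by
      apply commutator_sup_le_right (centralizer_le_normalizer_coe hCC)
        (centralizer_le_normalizer_coe hEC)
      · exact comm_le_of_cent hAC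
      · rw [hQ]
    have hmem : ⁅a, n⁆ ∈ C := hle (Subgroup.commutator_mem_commutator ha hn)
    exact (mem_centralizer_coe.mp (hAC ha') _ hmem).symm
  · obtain ⟨a', ha1⟩ := (Subgroup.ne_bot_iff_exists_ne_one).mp (rankOne_left_ne_bot hAB)
    obtain ⟨a, ha⟩ := a'
    have ha1' : a ≠ 1 := by simpa using ha1
    obtain ⟨b', hb1⟩ := (Subgroup.ne_bot_iff_exists_ne_one).mp (rankOne_right_ne_bot hAB)
    obtain ⟨b, hb⟩ := b'
    have hb1' : b ≠ 1 := by simpa using hb1
    have hex : ∃ e ∈ ⁅B, C⁆, e * a ≠ a * e := by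
      by_contra hcon
      push Not at hcon
      exact ha1' (commutatorCase_cent_left hS cAE ha hcon)
    obtain ⟨e, he, hea⟩ := hex
    obtain ⟨c, hc, hbc⟩ := commutatorCase_exists_comm cBC hb hb1' he
    refine ⟨b, Subgroup.mem_sup_right hb, a, Subgroup.mem_sup_left ha, c, Subgroup.mem_sup_left hc, ?_⟩
    rw [hbc]
    exact fun h => hea h.symm

/-- Let S be a non-degenerate class of abstract root subgroups of G, A ∈ S and B a rank one partner of A. Then some line partner C of A has ⁅B, C⁆ ∈ S, and the rank one pair A, B is special. -/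
theorem result {G : Type*} [Group G] {S : Set (Subgroup G)} (hS : Cfsg.IsRootSubgroupClass S) (hnd : Cfsg.IsNondegenerateRootSet S)
    {A B : Subgroup G} (hA : A ∈ S) (hB : B ∈ Cfsg.rankOnePartners S A) :
    (∃ C ∈ Cfsg.linePartners S A, C ∈ Cfsg.commutatorPartners S B) ∧ Cfsg.IsSpecialRankOnePair A B := by
  obtain ⟨A₁, hA₁, B₁, hB₁, hcase⟩ := hnd.2.2
  obtain ⟨g, hg⟩ := hS.2.2 A₁ hA₁ A hA
  have hF : Cfsg.conjBy B₁ g ∈ S := hS.1.conj_mem B₁ hB₁ g
  have hAF : ⁅A, Cfsg.conjBy B₁ g⁆ ∈ S := by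
    rw [hg, ← conjBy_commutator]
    exact hS.1.conj_mem _ hcase.1 g
  obtain ⟨C, hCL, hBC⟩ := exists_linePartner_commutatorPartner hS.1 hA hB.1 hB.2 hF hAF
  refine ⟨⟨C, hCL, hCL.1.1, hBC⟩, ?_⟩
  obtain ⟨g', hg'⟩ := hS.2.2 A hA C hCL.1.1
  have hpair := rankOne_conj hB.2 g'
  rw [← hg'] at hpair
  exact special_of_linePartner hS.1 hA hB.1 hB.2 hCL hBC (hS.1.conj_mem B hB.1 g') hpair

end Cfsg.Agent.S5034
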