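import Cfsg.Statements.S5038
import Cfsg.Agent.Helper83.Line2

set_option autoImplicit false
open Cfsg

namespace Cfsg.Agent.S5038

open Cfsg.Agent.Helper83

variable {G : Type*} [Group G] {S : Set (Subgroup G)}

/-- Conjugating a member of the line by an element normalizing the line stays on the line. -/
theorem conj_mem_members (hS : Cfsg.IsRootSubgroupSet S) {N T : Subgroup G} {k : G}
    (hk : k ∈ Subgroup.normalizer (N : Set G)) (hT : T ∈ Cfsg.membersIn S N) :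
    Cfsg.conjBy T k ∈ Cfsg.membersIn S N := by
  refine ⟨hS.conj_mem T hT.1 k, ?_⟩
  have := conjBy_mono hT.2 k
  rwa [conjBy_eq_self_iff.mpr hk] at this

theorem iSup_normalizing_le (N : Subgroup G) :
    (⨆ E ∈ Cfsg.normalizingMembers S N, E) ≤ Subgroup.normalizer (N : Set G) :=
  iSup₂_le fun _ hE => hE.2

theorem le_iSup_normalizing {N E : Subgroup G} (hE : E ∈ Cfsg.normalizingMembers S N) :
    E ≤ ⨆ E ∈ Cfsg.normalizingMembers S N, E :=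
  le_iSup₂ (f := fun (E : Subgroup G) (_ : E ∈ Cfsg.normalizingMembers S N) => E) E hE

/-- Let S be a set of abstract root subgroups of G in which every member has a rank one partner, A ∈ S and B a line partner of A. Then the subgroup generated by the members of S normalizing AB permutes the members of S inside AB doubly transitively by conjugation. -/
theorem result {G : Type*} [Group G] {S : Set (Subgroup G)} (hS : Cfsg.IsRootSubgroupSet S)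
    (hF : ∀ A ∈ S, ¬ Cfsg.IsIsolatedIn (Cfsg.FAdj S) S A) {A B : Subgroup G} (hA : A ∈ S) (hB : B ∈ Cfsg.linePartners S A) :
    ∀ C₁ ∈ Cfsg.membersIn S (A ⊔ B), ∀ C₂ ∈ Cfsg.membersIn S (A ⊔ B), ∀ D₁ ∈ Cfsg.membersIn S (A ⊔ B),
      ∀ D₂ ∈ Cfsg.membersIn S (A ⊔ B), C₁ ≠ C₂ → D₁ ≠ D₂ →
        ∃ x ∈ ⨆ E ∈ Cfsg.normalizingMembers S (A ⊔ B), E, Cfsg.conjBy C₁ x = D₁ ∧ Cfsg.conjBy C₂ x = D₂ := by
  have hF' : ∀ T ∈ S, ∃ D ∈ S, Cfsg.IsRankOnePair T D := fun T hT => exists_partner hT (hF T hT)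
  set K := ⨆ E ∈ Cfsg.normalizingMembers S (A ⊔ B), E with hK
  have hKN : K ≤ Subgroup.normalizer ((A ⊔ B : Subgroup G) : Set G) := iSup_normalizing_le _
  -- first line data, relative to a partner of `A`
  obtain ⟨C, hC, hAC⟩ := hF' A hA
  obtain ⟨P₀, d₀⟩ := line_structure hS hF' hA hB hC hAC
  have hP₀S : P₀ ∈ S := d₀.P_mem
  have hE₀K : ⁅C, P₀⁆ ≤ K := le_iSup_normalizing (d₀.E_mem_normalizing hS hA)
  -- second line data, relative to a partner of `P₀`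
  obtain ⟨C', hC', hPC'⟩ := hF' P₀ hP₀S
  have hAL : A ∈ Cfsg.linePartners S P₀ := linePartners_symm hA d₀.P_line
  obtain ⟨P₁, d₁⟩ := line_structure hS hF' hP₀S hAL hC' hPC'
  have hN : P₀ ⊔ A = A ⊔ B := by rw [sup_comm, d₀.sup_eq]
  have hP₁ne : P₁ ≠ P₀ := d₁.P_line.1.2.1
  have hE₁n : ⁅C', P₁⁆ ∈ Cfsg.normalizingMembers S (A ⊔ B) := by
    have := d₁.E_mem_normalizing hS hP₀S
    rwa [hN] at this
  have hE₁K : ⁅C', P₁⁆ ≤ K := le_iSup_normalizing hE₁n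
  have hP₁m : P₁ ∈ Cfsg.membersIn S (A ⊔ B) := by
    have := d₁.P_mem_members
    rwa [hN] at this
  have hP₀m : P₀ ∈ Cfsg.membersIn S (A ⊔ B) := d₀.P_mem_members
  -- every point other than `P₁` can be moved to `P₀` by `E₁`
  have move₁ : ∀ T ∈ Cfsg.membersIn S (A ⊔ B), T ≠ P₁ → ∃ k ∈ K, Cfsg.conjBy T k = P₀ := by
    intro T hT hTP₁
    have hT' : T ∈ Cfsg.membersIn S (P₀ ⊔ A) := by rwa [hN]
    obtain ⟨e, he, rfl⟩ := d₁.exists_conj hS hP₀S hC' hPC' hT' hTP₁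
    refine ⟨e⁻¹, K.inv_mem (hE₁K he), ?_⟩
    rw [conjBy_conjBy, inv_mul_cancel, conjBy_one]
  -- every point can be moved to `P₀`
  have move : ∀ T ∈ Cfsg.membersIn S (A ⊔ B), ∃ k ∈ K, Cfsg.conjBy T k = P₀ := by
    intro T hT
    by_cases hTP₁ : T = P₁
    · -- move `P₁` first by an element of `E₀`
      obtain ⟨e₀', he₀1⟩ := (Subgroup.ne_bot_iff_exists_ne_one).mp (hS.ne_bot _ d₀.E_mem)
      obtain ⟨e₀, he₀⟩ := e₀'
      have he₀1' : e₀ ≠ 1 := by simpa using he₀1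
      obtain ⟨e, he, hP₁eq⟩ := d₀.exists_conj hS hA hC hAC hP₁m hP₁ne
      have hmove : Cfsg.conjBy P₁ e₀ ≠ P₁ := by
        intro hc
        rw [hP₁eq, conjBy_conjBy] at hc
        have hcomm : e₀ * e = e * e₀ := by
          have := hS.commutative _ d₀.E_mem
          have h1 := this.is_comm.comm ⟨e₀, he₀⟩ ⟨e, he⟩
          exact congrArg Subtype.val h1
        rw [hcomm, ← conjBy_conjBy] at hc
        exact commutatorCase_conj_ne hS (d₀.caseAE hS hA) he₀ he₀1' (conjBy_inj hc)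
      have hT₂ : Cfsg.conjBy P₁ e₀ ∈ Cfsg.membersIn S (A ⊔ B) :=
        conj_mem_members hS (hKN (hE₀K he₀)) hP₁m
      obtain ⟨k, hk, hk2⟩ := move₁ _ hT₂ hmove
      refine ⟨k * e₀, K.mul_mem hk (hE₀K he₀), ?_⟩
      rw [hTP₁, ← conjBy_conjBy, hk2]
    · exact move₁ T hT hTP₁
  intro C₁ hC₁ C₂ hC₂ D₁ hD₁ D₂ hD₂ hCne hDne
  obtain ⟨k₁, hk₁, hk₁e⟩ := move C₁ hC₁
  obtain ⟨k₂, hk₂, hk₂e⟩ := move D₁ hD₁
  have hC₂' : Cfsg.conjBy C₂ k₁ ∈ Cfsg.membersIn S (A ⊔ B) := conj_mem_members hS (hKN hk₁) hC₂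
  have hD₂' : Cfsg.conjBy D₂ k₂ ∈ Cfsg.membersIn S (A ⊔ B) := conj_mem_members hS (hKN hk₂) hD₂
  have hC₂ne : Cfsg.conjBy C₂ k₁ ≠ P₀ := by
    intro hc; rw [← hk₁e] at hc; exact hCne (conjBy_inj hc).symm
  have hD₂ne : Cfsg.conjBy D₂ k₂ ≠ P₀ := by
    intro hc; rw [← hk₂e] at hc; exact hDne (conjBy_inj hc).symm
  obtain ⟨e, he, hee⟩ := d₀.exists_conj_eq hS hA hC hAC hC₂' hC₂ne hD₂' hD₂ne
  refine ⟨k₂⁻¹ * e * k₁, K.mul_mem (K.mul_mem (K.inv_mem hk₂) (hE₀K he)) hk₁, ?_, ?_⟩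
  · rw [← conjBy_conjBy, hk₁e, ← conjBy_conjBy, d₀.conj_P hS hC he, ← hk₂e, conjBy_conjBy,
      inv_mul_cancel, conjBy_one]
  · rw [← conjBy_conjBy, ← conjBy_conjBy, hee, conjBy_conjBy, inv_mul_cancel, conjBy_one]

end Cfsg.Agent.S5038
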