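import Cfsg.Statements.S5041
import Cfsg.Agent.S5032
import Cfsg.Agent.S5034

set_option autoImplicit false
open Cfsg

namespace Cfsg.Agent.S5041

open Cfsg.Agent.Helper83
open scoped commutatorElement

section
variable {G : Type*} [Group G] {S : Set (Subgroup G)}

theorem linePartners_symm {A C : Subgroup G} (hA : A ∈ S) (hC : C ∈ Cfsg.linePartners S A) :
    A ∈ Cfsg.linePartners S C := by
  obtain ⟨⟨_, hne, hcomm⟩, hpart⟩ := hC
  refine ⟨⟨hA, hne.symm, ?_⟩, ?_⟩
  · rw [Subgroup.commutator_comm]; exact hcomm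
  · rw [sup_comm]; exact hpart

/-- A rank one edge can be replaced by a path of three line edges. -/
theorem line_path_of_rankOne (hS : Cfsg.IsRootSubgroupClass S) (hnd : Cfsg.IsNondegenerateRootSet S)
    {A B : Subgroup G} (hA : A ∈ S) (hB : B ∈ S) (hAB : Cfsg.IsRankOnePair A B) :
    Relation.ReflTransGen (Cfsg.EAdj S S) A B := by
  obtain ⟨⟨C, hCL, hCS, hBC⟩, _⟩ := Cfsg.Agent.S5034.result hS hnd hA ⟨hB, hAB⟩
  -- C has a rank one partner
  obtain ⟨g', hg'⟩ := hS.2.2 A hA C hCS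
  have hpair := rankOne_conj hAB g'
  rw [← hg'] at hpair
  have hT₀ : Cfsg.conjBy B g' ∈ S := hS.1.conj_mem B hB g'
  have cBC := commutatorCase_of_mem hS.1 hB hCS hBC
  have cCB := commutatorCase_symm cBC
  -- E = ⁅B, C⁆ is a line partner of C and of B
  have hEC : ⁅B, C⁆ ∈ Cfsg.linePartners S C := by
    have := commutator_mem_linePartners hS.1 hCS hpair hT₀ cCB
    rw [Subgroup.commutator_comm] at this
    exact this
  have hEB : ⁅B, C⁆ ∈ Cfsg.linePartners S B :=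
    commutator_mem_linePartners hS.1 hB (Cfsg.RankOnePair_symm hAB) hA cBC
  have hBE : B ∈ Cfsg.linePartners S ⁅B, C⁆ := linePartners_symm hB hEB
  have e1 : Cfsg.EAdj S S A C := ⟨hA, hCS, hCL⟩
  have e2 : Cfsg.EAdj S S C ⁅B, C⁆ := ⟨hCS, hBC, hEC⟩
  have e3 : Cfsg.EAdj S S ⁅B, C⁆ B := ⟨hBC, hB, hBE⟩
  exact ((Relation.ReflTransGen.single e1).tail e2).tail e3

end

/-- Let S be a non-degenerate class of abstract root subgroups of G. Then the graph on S joining A to its line partners, and the commuting graph on S, are both connected. -/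
theorem result {G : Type*} [Group G] {S : Set (Subgroup G)} (hS : Cfsg.IsRootSubgroupClass S) (hnd : Cfsg.IsNondegenerateRootSet S) :
    Cfsg.IsConnectedFamily (Cfsg.EAdj S S) S ∧ Cfsg.IsConnectedFamily (Cfsg.DAdj S) S := by
  obtain ⟨A₀, hA₀, B₀, hB₀, hAB₀⟩ := hnd.2.1
  have h2 : ∃ A ∈ S, ∃ B ∈ S, A ≠ B := ⟨A₀, hA₀, B₀, hB₀, hAB₀.ne⟩
  have hF : Cfsg.IsConnectedFamily (Cfsg.FAdj S) S :=
    (Cfsg.Agent.S5032.result hS.1 h2).mpr ⟨hS.2, A₀, hA₀, not_isolated_of_partner hA₀ hB₀ hAB₀⟩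
  have hE : Cfsg.IsConnectedFamily (Cfsg.EAdj S S) S := by
    intro A hA B hB
    have hpath := hF A hA B hB
    clear hB
    induction hpath with
    | refl => exact Relation.ReflTransGen.refl
    | tail _ hbc ih => exact ih.trans (line_path_of_rankOne hS hnd hbc.1 hbc.2.1 hbc.2.2)
  refine ⟨hE, ?_⟩
  intro A hA B hB
  have hmono : ∀ X Y : Subgroup G, Cfsg.EAdj S S X Y → Cfsg.DAdj S X Y := by
    intro X Y hXY
    exact ⟨hXY.1, hXY.2.1, hXY.2.2.1.2.1.symm, hXY.2.2.1.2.2⟩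
  exact Relation.ReflTransGen.mono hmono A B (hE A hA B hB)

end Cfsg.Agent.S5041
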