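import Cfsg.Statements.S5042
import Cfsg.Agent.Helper83.Line3
import Cfsg.Agent.S5041

set_option autoImplicit false
open Cfsg

namespace Cfsg.Agent.S5042

open Cfsg.Agent.Helper83

/-- In a class of abstract root subgroups with a rank one pair every member has a rank one partner. -/
theorem exists_partner_of_class {G : Type*} [Group G] {S : Set (Subgroup G)}
    (hS : Cfsg.IsRootSubgroupClass S) {A B : Subgroup G} (hA : A ∈ S) (hB : B ∈ S)
    (hAB : Cfsg.IsRankOnePair A B) : ∀ T ∈ S, ∃ D ∈ S, Cfsg.IsRankOnePair T D := by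
  intro T hT
  obtain ⟨g, hg⟩ := hS.2.2 A hA T hT
  refine ⟨Cfsg.conjBy B g, hS.1.conj_mem B hB g, ?_⟩
  rw [hg]
  exact rankOne_conj hAB g

/-- The general form of S5042: any subgroup `R` containing the line partners of `A` and the rank
one partner `B` of `A` is everything. -/
theorem eq_top_of_le {G : Type*} [Group G] {S : Set (Subgroup G)} (hS : Cfsg.IsRootSubgroupClass S)
    (hnd : Cfsg.IsNondegenerateRootSet S) {A B R : Subgroup G} (hA : A ∈ S)
    (hB : B ∈ Cfsg.rankOnePartners S A) (hMA : ∀ C ∈ Cfsg.linePartners S A, C ≤ R) (hBR : B ≤ R) :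
    R = ⊤ := by
  have hF := exists_partner_of_class hS hA hB.1 hB.2
  -- `A` has a commutator partner
  obtain ⟨A₁, hA₁, B₁, hB₁, hcase⟩ := hnd.2.2
  obtain ⟨g, hg⟩ := hS.2.2 A₁ hA₁ A hA
  have hFS : Cfsg.conjBy B₁ g ∈ S := hS.1.conj_mem B₁ hB₁ g
  have hAF : ⁅A, Cfsg.conjBy B₁ g⁆ ∈ S := by
    rw [hg, ← conjBy_commutator]
    exact hS.1.conj_mem _ hcase.1 g
  have hAR : A ≤ R := self_le_linePartners hS.1 hA hB.2 hB.1 hFS hAF hMA
  have hXR : A ⊔ B ≤ R := sup_le hAR hBR
  -- `M_B ≤ R`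
  obtain ⟨x, hx, hBx⟩ := rankOne_B_mem_unipotent hB.2
  have hMB : ∀ C ∈ Cfsg.linePartners S B, C ≤ R := by
    intro C hC
    rw [hBx] at hC
    exact linePartner_le_of_conj hS.1 hMA (hXR hx) hC
  -- every member of `S` is an `R`-conjugate of `A`
  have key : ∀ T ∈ S, ∃ r ∈ R, T = Cfsg.conjBy A r := by
    intro T hT
    have hpath := (Cfsg.Agent.S5041.result hS hnd).1 A hA T hT
    induction hpath with
    | refl => exact ⟨1, R.one_mem, (conjBy_one A).symm⟩
    | @tail X Y _ hbc ih =>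
      obtain ⟨r, hr, hXeq⟩ := ih hbc.1
      -- move the edge `X — Y` back to `A`
      have hYL : Y ∈ Cfsg.linePartners S X := hbc.2.2
      rw [hXeq] at hYL
      have hY₀ := linePartners_conj hS.1 r⁻¹ hYL
      rw [conjBy_inv_conjBy] at hY₀
      obtain ⟨r₀, hr₀, hY₀eq⟩ := linePartner_conj_of_le hS.1 hF hA hB.1 hB.2 hMA hMB hY₀
      refine ⟨r * r₀, R.mul_mem hr hr₀, ?_⟩
      rw [← conjBy_conjBy, ← hY₀eq, conjBy_conjBy_inv]
  rw [eq_top_iff, ← hS.1.generates]
  refine iSup₂_le fun T hT => ?_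
  obtain ⟨r, hr, rfl⟩ := key T hT
  exact conjBy_le_of_mem hAR hr

/-- Let S be a non-degenerate class of abstract root subgroups of G, A ∈ S and B a rank one partner of A. Then G is generated by the line partners of A together with B. -/
theorem result {G : Type*} [Group G] {S : Set (Subgroup G)} (hS : Cfsg.IsRootSubgroupClass S) (hnd : Cfsg.IsNondegenerateRootSet S)
    {A B : Subgroup G} (hA : A ∈ S) (hB : B ∈ Cfsg.rankOnePartners S A) :
    (⨆ C ∈ Cfsg.linePartners S A, C) ⊔ B = ⊤ := by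
  apply eq_top_of_le hS hnd hA hB
  · intro C hC
    exact le_trans (le_iSup₂ (f := fun (C : Subgroup G) (_ : C ∈ Cfsg.linePartners S A) => C) C hC)
      le_sup_left
  · exact le_sup_right

end Cfsg.Agent.S5042
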