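import Cfsg.Statements.S5040
import Cfsg.Agent.S5042

set_option autoImplicit false
open Cfsg

namespace Cfsg.Agent.S5040

open Cfsg.Agent.Helper83
open scoped commutatorElement

variable {G : Type*} [Group G] {S : Set (Subgroup G)}

/-- A member of `S` normalizing a member of the weak TI-subset `Δ` stabilizes `Δ`. -/
theorem le_stab_of_normalizes {Δ : Set (Subgroup G)} (hΔ : Cfsg.IsWeakTISubset S Δ)
    {A T : Subgroup G} (hA : A ∈ Δ) (hT : T ∈ S) (hTA : T ≤ Subgroup.normalizer (A : Set G)) :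
    T ≤ familyStabilizer Δ := by
  intro t ht
  by_cases ht1 : t = 1
  · rw [ht1]; exact Subgroup.one_mem _
  have hroot : t ∈ Cfsg.rootElements S := ⟨ht1, T, hT, ht⟩
  have hfix : Cfsg.conjBy A t = A := conjBy_eq_self_iff.mpr (hTA ht)
  have himg : (fun C => Cfsg.conjBy C t) '' Δ = Δ := by
    rcases hΔ.2.2.2 t hroot with h | h
    · exact h
    · exfalso
      rw [Set.disjoint_left] at h
      exact h ⟨A, hA, hfix⟩ hA
  rw [mem_familyStabilizer]
  intro C hC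
  refine ⟨?_, ?_⟩
  · rw [← himg]; exact ⟨C, hC, rfl⟩
  · have : C ∈ (fun C => Cfsg.conjBy C t) '' Δ := by rw [himg]; exact hC
    obtain ⟨C₀, hC₀, rfl⟩ := this
    rw [conjBy_inv_conjBy]; exact hC₀

/-- A member of `Δ` stabilizes `Δ`. -/
theorem self_le_stab (hS : Cfsg.IsRootSubgroupSet S) {Δ : Set (Subgroup G)}
    (hΔ : Cfsg.IsWeakTISubset S Δ) {A : Subgroup G} (hA : A ∈ Δ) : A ≤ familyStabilizer Δ :=
  le_stab_of_normalizes hΔ hA (hΔ.1 hA) Subgroup.le_normalizer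

/-- The stabilizer of a weak TI-subset of a class is proper. -/
theorem stab_ne_top (hS : Cfsg.IsRootSubgroupClass S) {Δ : Set (Subgroup G)}
    (hΔ : Cfsg.IsWeakTISubset S Δ) : familyStabilizer Δ ≠ ⊤ := by
  intro htop
  apply hΔ.2.2.1
  apply Set.Subset.antisymm hΔ.1
  intro T hT
  obtain ⟨A, hA, _⟩ := hΔ.2.1
  obtain ⟨g, hg⟩ := hS.2.2 A (hΔ.1 hA) T hT
  rw [hg]
  have : g ∈ familyStabilizer Δ := by rw [htop]; exact Subgroup.mem_top g
  exact ((mem_familyStabilizer.mp this) A hA).1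

/-- No two members of a weak TI-subset form a rank one pair. -/
theorem not_rankOne (hS : Cfsg.IsRootSubgroupClass S) (hnd : Cfsg.IsNondegenerateRootSet S)
    {Δ : Set (Subgroup G)} (hΔ : Cfsg.IsWeakTISubset S Δ) {A C : Subgroup G} (hA : A ∈ Δ) (hC : C ∈ Δ) :
    ¬ Cfsg.IsRankOnePair A C := by
  intro hAC
  apply stab_ne_top hS hΔ
  apply Cfsg.Agent.S5042.eq_top_of_le hS hnd (hΔ.1 hA) ⟨hΔ.1 hC, hAC⟩
  · intro F hF
    apply le_stab_of_normalizes hΔ hA hF.1.1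
    apply centralizer_le_normalizer_coe
    exact le_centralizer_symm (Subgroup.commutator_eq_bot_iff_le_centralizer.mp hF.1.2.2)
  · exact self_le_stab hS.1 hΔ hC

/-- No two members of a weak TI-subset are in the commutator case. -/
theorem not_commutatorCase (hS : Cfsg.IsRootSubgroupClass S) (hnd : Cfsg.IsNondegenerateRootSet S)
    {Δ : Set (Subgroup G)} (hΔ : Cfsg.IsWeakTISubset S Δ) {A C : Subgroup G} (hA : A ∈ Δ) (hC : C ∈ Δ) :
    ¬ Cfsg.RootCommutatorCase S A C := by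
  intro cAC
  have hAS := hΔ.1 hA
  have hCS := hΔ.1 hC
  obtain ⟨A₀, hA₀, B₀, hB₀, hAB₀⟩ := hnd.2.1
  have hF := Cfsg.Agent.S5042.exists_partner_of_class hS hA₀ hB₀ hAB₀
  have cCA := commutatorCase_symm cAC
  -- the line through `F = ⁅C, A⁆` and `C`
  obtain ⟨T₁, hT₁, hCT₁⟩ := hF C hCS
  have hFL : ⁅C, A⁆ ∈ Cfsg.linePartners S C := commutator_mem_linePartners hS.1 hCS hCT₁ hT₁ cCA
  have hFS : ⁅C, A⁆ ∈ S := cCA.1
  have hCL : C ∈ Cfsg.linePartners S ⁅C, A⁆ := linePartners_symm hCS hFL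
  obtain ⟨D₀, hD₀, hFD₀⟩ := hF _ hFS
  obtain ⟨P', d⟩ := line_structure hS.1 hF hFS hCL hD₀ hFD₀
  -- `P'` is a conjugate of `C` under `A`
  have hP'm : P' ∈ Cfsg.membersIn S (C ⊔ ⁅C, A⁆) := by
    have := d.P_mem_members
    rwa [sup_comm] at this
  rw [commutatorCase_members hS.1 cCA hCS hCT₁ hT₁] at hP'm
  have hP'ne : P' ≠ ⁅C, A⁆ := d.P_line.1.2.1
  rcases hP'm with ⟨a, ha, hP'eq⟩ | hP'm
  swap
  · exact absurd hP'm hP'ne
  have hP'eq' : P' = Cfsg.conjBy C a := hP'eq.symm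
  -- `A` centralizes `F`
  have hAF : A ≤ Subgroup.centralizer ((⁅C, A⁆ : Subgroup G) : Set G) :=
    le_centralizer_symm ((commutatorCase_le_centralizer cCA).trans (Subgroup.centralizer_le (by
      exact_mod_cast (le_sup_right : A ≤ C ⊔ A))))
  have hFa : Cfsg.conjBy ⁅C, A⁆ a⁻¹ = ⁅C, A⁆ :=
    conjBy_eq_self_iff.mpr (centralizer_le_normalizer_coe hAF (A.inv_mem ha))
  -- the partner `D` of `F` with `⁅D, C⁆ ∈ S`
  have hDS : Cfsg.conjBy D₀ a⁻¹ ∈ S := hS.1.conj_mem D₀ hD₀ a⁻¹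
  have hFD : Cfsg.IsRankOnePair ⁅C, A⁆ (Cfsg.conjBy D₀ a⁻¹) := by
    have := rankOne_conj hFD₀ a⁻¹
    rwa [hFa] at this
  have hBS : ⁅Cfsg.conjBy D₀ a⁻¹, C⁆ ∈ S := by
    have h1 := hS.1.conj_mem _ d.E_mem a⁻¹
    rw [conjBy_commutator, hP'eq', conjBy_inv_conjBy] at h1
    exact h1
  have hCo : OnLine S ⁅C, A⁆ C := onLine_of_linePartner hFS hCL
  have heq : ⁅⁅C, A⁆, ⁅Cfsg.conjBy D₀ a⁻¹, C⁆⁆ = C :=
    commutator_commutator_eq_of_onLine hS.1 hFS hDS hFD hCo hBS hT₁ hCT₁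
  -- `B = ⁅D, C⁆` is a rank one partner of `A` commuting with `C`
  have hAB : Cfsg.IsRankOnePair A ⁅Cfsg.conjBy D₀ a⁻¹, C⁆ := by
    refine (Cfsg.Agent.S5036.result hS.1 hCS hAS hFS hBS ?_).1
    rw [Subgroup.commutator_comm]; exact heq
  have cDC := commutatorCase_of_mem hS.1 hDS hCS hBS
  have hBC : ⁅Cfsg.conjBy D₀ a⁻¹, C⁆ ≤ Subgroup.centralizer (C : Set G) :=
    (commutatorCase_le_centralizer cDC).trans (Subgroup.centralizer_le (by
      exact_mod_cast (le_sup_right : C ≤ Cfsg.conjBy D₀ a⁻¹ ⊔ C)))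
  have hBstab : ⁅Cfsg.conjBy D₀ a⁻¹, C⁆ ≤ familyStabilizer Δ :=
    le_stab_of_normalizes hΔ hC hBS (centralizer_le_normalizer_coe hBC)
  have hAstab : A ≤ familyStabilizer Δ := self_le_stab hS.1 hΔ hA
  obtain ⟨x, hx, hBx⟩ := rankOne_B_mem_unipotent hAB
  have hxstab : x ∈ familyStabilizer Δ := (sup_le hAstab hBstab) hx
  have hBΔ : ⁅Cfsg.conjBy D₀ a⁻¹, C⁆ ∈ Δ := by
    rw [hBx]; exact ((mem_familyStabilizer.mp hxstab) A hA).1
  exact not_rankOne hS hnd hΔ hA hBΔ hAB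

/-- Let S be a non-degenerate class of abstract root subgroups of G and Δ a weak TI-subset of S. Then the members of Δ commute with one another elementwise. -/
theorem result {G : Type*} [Group G] {S : Set (Subgroup G)} (hS : Cfsg.IsRootSubgroupClass S) (hnd : Cfsg.IsNondegenerateRootSet S)
    {Δ : Set (Subgroup G)} (hΔ : Cfsg.IsWeakTISubset S Δ) : Cfsg.IsAbelianFamily Δ := by
  intro A hA B hB a ha b hb
  rcases hS.1.pair A (hΔ.1 hA) B (hΔ.1 hB) with h | h | h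
  · have hAB : A ≤ Subgroup.centralizer (B : Set G) :=
      Subgroup.commutator_eq_bot_iff_le_centralizer.mp h
    exact (mem_centralizer_coe.mp (hAB ha) b hb).symm
  · exact absurd h (not_rankOne hS hnd hΔ hA hB)
  · exact absurd h (not_commutatorCase hS hnd hΔ hA hB)

end Cfsg.Agent.S5040
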