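-- Statement S5045: Cfsg.root_involutions_isolated_vertices_normal_two_subgroup
import Mathlib
import Cfsg.Prelude.Def_RootSubgroups
import Cfsg.Agent.Helper83.RInv.Main
import Cfsg.Agent.Helper67.RInvIN
import Cfsg.Agent.Helper88.RInvPG

set_option autoImplicit false
open Cfsg

namespace Cfsg.Agent.S5045

open Cfsg.Agent.Helper83.RInv

/-- Let G be a finite group generated by a set D of root involutions, and W the set of members of D whose product with every other member of D has even order or is trivial (the isolated vertices of the odd-order-product graph on D). Then W is conjugation-invariant and generates a normal 2-subgroup of G meeting D in exactly W; the commutator of two members of D lying in different connected components of that graph, each with more than one member, lies in the subgroup generated by W; and for a in such a component, every member of D commuting with a, different from a and with product with a in D, lies in that component or in W. -/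
theorem result {G : Type*} [Group G] [Finite G] {D : Set G} (hD : Cfsg.IsRootInvolutionSet D) :
    (∀ w ∈ {w | Cfsg.IsIsolatedElem (Cfsg.OddAdj D) D w}, ∀ g : G, g * w * g⁻¹ ∈ {w | Cfsg.IsIsolatedElem (Cfsg.OddAdj D) D w}) ∧
    (Subgroup.closure {w | Cfsg.IsIsolatedElem (Cfsg.OddAdj D) D w}).Normal ∧
    IsPGroup 2 ↥(Subgroup.closure {w | Cfsg.IsIsolatedElem (Cfsg.OddAdj D) D w}) ∧
    (Subgroup.closure {w | Cfsg.IsIsolatedElem (Cfsg.OddAdj D) D w} : Set G) ∩ D = {w | Cfsg.IsIsolatedElem (Cfsg.OddAdj D) D w} ∧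
    (∀ a ∈ D, ∀ b ∈ D, (∃ a' ∈ Cfsg.elemComponentOf (Cfsg.OddAdj D) D a, a' ≠ a) →
      (∃ b' ∈ Cfsg.elemComponentOf (Cfsg.OddAdj D) D b, b' ≠ b) →
      Cfsg.elemComponentOf (Cfsg.OddAdj D) D a ≠ Cfsg.elemComponentOf (Cfsg.OddAdj D) D b →
        a * b * a⁻¹ * b⁻¹ ∈ Subgroup.closure {w | Cfsg.IsIsolatedElem (Cfsg.OddAdj D) D w}) ∧
    (∀ a ∈ D, (∃ a' ∈ Cfsg.elemComponentOf (Cfsg.OddAdj D) D a, a' ≠ a) →
      Cfsg.productPartners D a ⊆ Cfsg.elemComponentOf (Cfsg.OddAdj D) D a ∪ {w | Cfsg.IsIsolatedElem (Cfsg.OddAdj D) D w}) := by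
  have hconj : ∀ w ∈ Wset D, ∀ g : G, g * w * g⁻¹ ∈ Wset D := by
    rintro w ⟨hwD, hw⟩ g
    refine ⟨hD.conj_mem w hwD g, ?_⟩
    have key : ∀ b, ¬ Cfsg.OddAdj D (g * w * g⁻¹) b := by
      rintro b ⟨-, hbD, hne, hodd⟩
      apply (hw (g⁻¹ * b * g)).1
      refine ⟨hwD, ?_, ?_, ?_⟩
      · have := hD.conj_mem b hbD g⁻¹
        rwa [inv_inv] at this
      · intro h
        apply hne
        rw [h]; group
      · have h1 := (MulAut.conj g : G ≃* G).orderOf_eq (w * (g⁻¹ * b * g))
        rw [← h1]
        have : (MulAut.conj g) (w * (g⁻¹ * b * g)) = g * w * g⁻¹ * b := by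
          simp only [MulAut.conj_apply]; group
        rw [this]; exact hodd
    exact fun b => ⟨key b, fun hb => key b (oddAdj_symm hb)⟩
  have hN : (Subgroup.closure (Wset D)).Normal := by
    constructor
    intro n hn g
    have hle : Subgroup.closure (Wset D) ≤
        (Subgroup.closure (Wset D)).comap (MulAut.conj g).toMonoidHom := by
      rw [Subgroup.closure_le]
      intro w hw
      exact Subgroup.subset_closure (hconj w hw g)
    exact hle hn
  have hP : IsPGroup 2 ↥(Subgroup.closure (Wset D)) := Cfsg.Agent.Helper88.RInv.closure_Wset_isPGroup hD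
  refine ⟨hconj, hN, hP, Cfsg.Agent.Helper67.RInv.closure_Wset_inter hD hN hP, ?_, ?_⟩
  · intro a ha b hb hca hcb hne
    exact commutator_mem hD ha hb hca hcb hne
  · intro a ha hca
    exact productPartners_subset hD ha hca

end Cfsg.Agent.S5045
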