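-- Statement S5048: Cfsg.root_involutions_solvable_radical_and_simplicity
import Mathlib
import Cfsg.Prelude.Def_RootSubgroups
import Cfsg.Prelude.Def_QuasithinSetup
import Cfsg.Agent.Helper83.RInv.Defs
import Cfsg.Agent.Helper30.RInv48ONE
import Cfsg.Agent.Helper22.RInv48K1
import Cfsg.Agent.Helper22.RInv48K2
import Cfsg.Agent.Helper47.Basic

set_option autoImplicit false
open Cfsg

namespace Cfsg.Agent.S5048

open Cfsg.Agent.Helper83.RInv

section aux

variable {G : Type*} [Group G]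

/-- a normal subgroup meeting `D` contains `D`, hence is everything -/
theorem eq_top_of_mem {D : Set G} (hD : Cfsg.IsRootInvolutionSet D)
    (hcl : ∀ a ∈ D, ∀ b ∈ D, ∃ g : G, b = g * a * g⁻¹)
    {N : Subgroup G} (hN : N.Normal) {d : G} (hd : d ∈ D) (hdN : d ∈ N) : N = ⊤ := by
  rw [eq_top_iff, ← hD.generates, Subgroup.closure_le]
  intro b hb
  obtain ⟨g, rfl⟩ := hcl d hd b hb
  exact hN.conj_mem d hdN g

/-- `D` does not meet `twoZCore G` -/
theorem not_mem_twoZCore [Finite G] {D : Set G} (hD : Cfsg.IsRootInvolutionSet D)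
    (hc : Cfsg.IsConnectedSet (Cfsg.OddAdj D) D)
    (hcl : ∀ a ∈ D, ∀ b ∈ D, ∃ g : G, b = g * a * g⁻¹)
    (hDD : (D ∩ Cfsg.commutingProducts D).Nonempty) : ∀ d ∈ D, d ∉ Cfsg.twoZCore G := by
  intro d hd hdZ
  have htop : Cfsg.twoZCore G = ⊤ := eq_top_of_mem hD hcl (Cfsg.twoZCore_normal G) hd hdZ
  -- two different members of D
  obtain ⟨x, hxD, a, haD, b, hbD, hab, hne1, rfl⟩ := hDD
  have hanb : a ≠ b := by
    rintro rfl
    exact hne1 (sq_eq_one_of_mem hD haD)
  -- a has a neighbour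
  obtain ⟨c, hac⟩ : ∃ c, Cfsg.OddAdj D a c := by
    rcases Relation.ReflTransGen.cases_head (hc a haD b hbD) with h | ⟨c, h1, -⟩
    · exact absurd h hanb
    · exact ⟨c, h1⟩
  obtain ⟨-, hcD, hne, hodd⟩ := hac
  -- (a c)^2 ∈ pCore 2 G
  have hcomm : ∀ x y : G, x * y * x⁻¹ * y⁻¹ ∈ Cfsg.pCore 2 G := by
    intro x y
    have hx : x ∈ Cfsg.twoZCore G := by rw [htop]; trivial
    have hx' : (QuotientGroup.mk' (Cfsg.pCore 2 G)) x ∈ Subgroup.center (G ⧸ Cfsg.pCore 2 G) := hx
    have h1 := Subgroup.mem_center_iff.mp hx' ((QuotientGroup.mk' (Cfsg.pCore 2 G)) y)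
    rw [← QuotientGroup.eq_one_iff]
    have h2 : ((x * y * x⁻¹ * y⁻¹ : G) : G ⧸ Cfsg.pCore 2 G)
        = (QuotientGroup.mk' (Cfsg.pCore 2 G)) x * (QuotientGroup.mk' (Cfsg.pCore 2 G)) y
          * ((QuotientGroup.mk' (Cfsg.pCore 2 G)) x)⁻¹ * ((QuotientGroup.mk' (Cfsg.pCore 2 G)) y)⁻¹ := by
      simp
    rw [h2, ← h1]; group
  have hsq : (a * c) ^ 2 ∈ Cfsg.pCore 2 G := by
    have := hcomm a c
    rw [inv_eq_of_mem hD haD, inv_eq_of_mem hD hcD] at this
    rw [pow_two]
    have e : a * c * (a * c) = a * c * a * c := by group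
    rw [e]; exact this
  -- so (a c)^2 has 2-power order and odd order
  obtain ⟨k, hk⟩ := (Cfsg.Agent.Helper47.isPGroup_pCore 2 G) ⟨(a * c) ^ 2, hsq⟩
  have hk' : ((a * c) ^ 2) ^ 2 ^ k = 1 := by
    have := congrArg Subtype.val hk
    simpa using this
  have hd1 : orderOf (a * c) ∣ 2 * 2 ^ k := by
    apply orderOf_dvd_of_pow_eq_one
    rw [pow_mul]; exact hk'
  have hcop : (orderOf (a * c)).Coprime (2 * 2 ^ k) := by
    rw [← pow_succ']
    exact Nat.Coprime.pow_right _ (Nat.coprime_two_right.mpr hodd)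
  have h1 : orderOf (a * c) = 1 := Nat.Coprime.eq_one_of_dvd hcop hd1
  rw [orderOf_eq_one_iff] at h1
  apply hne
  calc a = a * (c * c) := by rw [sq_eq_one_of_mem hD hcD, mul_one]
    _ = (a * c) * c := by group
    _ = c := by rw [h1, one_mul]

/-- `twoZCore G` is solvable (finite `G`). -/
theorem twoZCore_isSolvable [Finite G] : Group.IsSolvable ↥(Cfsg.twoZCore G) := by
  have hle : Cfsg.pCore 2 G ≤ Cfsg.twoZCore G := by
    intro x hx
    show (QuotientGroup.mk' (Cfsg.pCore 2 G)) x ∈ Subgroup.center (G ⧸ Cfsg.pCore 2 G)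
    have : (QuotientGroup.mk' (Cfsg.pCore 2 G)) x = 1 := (QuotientGroup.eq_one_iff x).mpr hx
    rw [this]; exact Subgroup.one_mem _
  have : Fact (Nat.Prime 2) := ⟨Nat.prime_two⟩
  have h1 : Group.IsSolvable ↥(Cfsg.pCore 2 G) := by
    have : Group.IsNilpotent ↥(Cfsg.pCore 2 G) := (Cfsg.Agent.Helper47.isPGroup_pCore 2 G).isNilpotent
    infer_instance
  have h2 : Group.IsSolvable ↥(Subgroup.center (G ⧸ Cfsg.pCore 2 G)) :=
    Group.isSolvable_of_comm (fun a b => Subtype.ext ((Subgroup.mem_center_iff.mp a.2 b.1).symm))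
  let f : ↥(Cfsg.pCore 2 G) →* ↥(Cfsg.twoZCore G) := Subgroup.inclusion hle
  let g : ↥(Cfsg.twoZCore G) →* ↥(Subgroup.center (G ⧸ Cfsg.pCore 2 G)) :=
    ((QuotientGroup.mk' (Cfsg.pCore 2 G)).comp (Cfsg.twoZCore G).subtype).codRestrict _
      (fun x => x.2)
  apply Group.isSolvable_of_ker_le_range f g
  intro x hx
  have hx1 : g x = 1 := hx
  have hx2 : (QuotientGroup.mk' (Cfsg.pCore 2 G)) (x : G) = 1 := congrArg Subtype.val hx1
  have hx3 : (x : G) ∈ Cfsg.pCore 2 G := (QuotientGroup.eq_one_iff (x : G)).mp hx2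
  exact ⟨⟨x, hx3⟩, Subtype.ext rfl⟩

end aux

/-- Let G be a finite group generated by a set D of root involutions whose odd-order-product graph is connected, with some product of two different commuting members of D again in D. Then the largest solvable normal subgroup of G is the preimage of the centre of G/O₂(G), and the quotient of G by it is a simple group. -/
theorem result {G : Type*} [Group G] [Finite G] {D : Set G} (hD : Cfsg.IsRootInvolutionSet D)
    (hc : Cfsg.IsConnectedSet (Cfsg.OddAdj D) D) (hDD : (D ∩ Cfsg.commutingProducts D).Nonempty) :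
    Cfsg.solvableRadical G = Cfsg.twoZCore G ∧ IsSimpleGroup (G ⧸ Cfsg.twoZCore G) := by
  have hcl : ∀ a ∈ D, ∀ b ∈ D, ∃ g : G, b = g * a * g⁻¹ :=
    fun a ha b hb => Cfsg.Agent.Helper30.RInv48.exists_conj_of_connected hD hc ha hb
  have hZD := not_mem_twoZCore hD hc hcl hDD
  -- dichotomy
  have hdich : ∀ N : Subgroup G, N.Normal → N = ⊤ ∨ N ≤ Cfsg.twoZCore G := by
    intro N hN
    by_cases h : ∃ d ∈ D, d ∈ N
    · obtain ⟨d, hd, hdN⟩ := h
      exact Or.inl (eq_top_of_mem hD hcl hN hd hdN)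
    · right
      push Not at h
      exact Cfsg.Agent.Helper22.RInv48.le_twoZCore_of_commute hD hN
        (fun a ha n hn => Cfsg.Agent.Helper22.RInv48.commute_conj_of_disjoint hD hcl hDD hN h ha hn)
  -- the quotient is simple
  have hsimple : IsSimpleGroup (G ⧸ Cfsg.twoZCore G) := by
    obtain ⟨x, hxD, -⟩ := hDD
    have hnt : Nontrivial (G ⧸ Cfsg.twoZCore G) := by
      refine ⟨⟨(x : G ⧸ Cfsg.twoZCore G), 1, ?_⟩⟩
      intro h
      exact hZD x hxD ((QuotientGroup.eq_one_iff x).mp h)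
    refine { toNontrivial := hnt, eq_bot_or_eq_top_of_normal := ?_ }
    intro M hM
    have hcN : (M.comap (QuotientGroup.mk' (Cfsg.twoZCore G))).Normal := hM.comap _
    rcases hdich _ hcN with h | h
    · right
      rw [eq_top_iff]
      intro y _
      obtain ⟨g, rfl⟩ := QuotientGroup.mk'_surjective (Cfsg.twoZCore G) y
      have : g ∈ M.comap (QuotientGroup.mk' (Cfsg.twoZCore G)) := by rw [h]; trivial
      exact this
    · left
      rw [eq_bot_iff]
      intro y hy
      obtain ⟨g, rfl⟩ := QuotientGroup.mk'_surjective (Cfsg.twoZCore G) y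
      have hg : g ∈ Cfsg.twoZCore G := h hy
      rw [Subgroup.mem_bot]
      exact (QuotientGroup.eq_one_iff g).mpr hg
  refine ⟨?_, hsimple⟩
  -- G is not solvable
  have hns : ¬ Group.IsSolvable G := by
    intro hs
    have hsq : Group.IsSolvable (G ⧸ Cfsg.twoZCore G) :=
      Group.isSolvable_of_surjective (QuotientGroup.mk'_surjective (Cfsg.twoZCore G))
    have hcomm : ∀ a b : G ⧸ Cfsg.twoZCore G, a * b = b * a :=
      (IsSimpleGroup.comm_iff_isSolvable).mpr hsq
    obtain ⟨x, hxD, a, haD, b, hbD, hab, hne1, rfl⟩ := hDD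
    -- images of a, b, a*b agree
    have himg : ∀ u ∈ D, ∀ v ∈ D, (u : G ⧸ Cfsg.twoZCore G) = v := by
      intro u hu v hv
      obtain ⟨g, rfl⟩ := hcl u hu v hv
      have : ((g * u * g⁻¹ : G) : G ⧸ Cfsg.twoZCore G) = (g : G ⧸ Cfsg.twoZCore G) * u * (g : G ⧸ Cfsg.twoZCore G)⁻¹ := by
        simp
      rw [this, hcomm (g : G ⧸ Cfsg.twoZCore G) u]; group
    have h1 := himg (a * b) hxD a haD
    have h2 := himg b hbD a haD
    have : (a : G ⧸ Cfsg.twoZCore G) = 1 := by
      have h3 : ((a * b : G) : G ⧸ Cfsg.twoZCore G) = (a : G ⧸ Cfsg.twoZCore G) * (b : G ⧸ Cfsg.twoZCore G) := by simp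
      rw [h3, h2] at h1
      exact mul_eq_left.mp h1
    exact hZD a haD ((QuotientGroup.eq_one_iff a).mp this)
  apply le_antisymm
  · unfold Cfsg.solvableRadical
    apply sSup_le
    rintro N ⟨hN, hsol⟩
    rcases hdich N hN with h | h
    · exfalso
      apply hns
      subst h
      exact Group.isSolvable_of_surjective (f := (Subgroup.topEquiv : (⊤ : Subgroup G) ≃* G).toMonoidHom)
        Subgroup.topEquiv.surjective
    · exact h
  · unfold Cfsg.solvableRadical
    apply le_sSup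
    refine ⟨Cfsg.twoZCore_normal G, ?_⟩
    exact twoZCore_isSolvable

end Cfsg.Agent.S5048
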