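import Cfsg.Statements.S5049
import Cfsg.Agent.Lib.Cores
import Cfsg.Agent.Helper48.PCore

set_option autoImplicit false
open Cfsg

namespace Cfsg.Agent.S5049

open scoped commutatorElement

variable {G : Type*} [Group G]

/-- an element that is both a `2`-element and an `m`-element for odd `m` is trivial -/
theorem eq_one_of_two_pow_of_odd {x : G} {k m : ℕ} (hk : x ^ (2 ^ k) = 1) (hm : x ^ m = 1) (hodd : Odd m) :
    x = 1 := by
  have h1 : orderOf x ∣ 2 ^ k := orderOf_dvd_of_pow_eq_one hk
  have h2 : orderOf x ∣ m := orderOf_dvd_of_pow_eq_one hm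
  have hcop : Nat.Coprime (2 ^ k) m := Nat.Coprime.pow_left k (Nat.coprime_two_left.mpr hodd)
  have := Nat.eq_one_of_dvd_coprimes hcop h1 h2
  exact orderOf_eq_one_iff.mp this

/-- members of a set of root involutions are involutions -/
theorem mul_self_of_mem {D : Set G} (hD : IsRootInvolutionSet D) {d : G} (hd : d ∈ D) : d * d = 1 := by
  have h := hD.orderOf_eq d hd
  have := pow_orderOf_eq_one d
  rw [h, pow_two] at this
  exact this

theorem inv_eq_self_of_mem {D : Set G} (hD : IsRootInvolutionSet D) {d : G} (hd : d ∈ D) : d⁻¹ = d :=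
  inv_eq_of_mul_eq_one_left (mul_self_of_mem hD hd)

/-- In a set of odd transpositions, two members whose product is a `2`-element commute. -/
theorem commute_of_two_pow {D : Set G} (hD : IsOddTranspositionSet D) {x y : G} (hx : x ∈ D) (hy : y ∈ D)
    {k : ℕ} (hk : (x * y) ^ (2 ^ k) = 1) : x * y = y * x := by
  rcases hD.1.pair x hx y hy with h | h | h
  · exact h
  · have h1 : x * y = 1 := eq_one_of_two_pow_of_odd hk (pow_orderOf_eq_one _) h
    have h2 : y = x⁻¹ := (inv_eq_of_mul_eq_one_right h1).symm
    rw [h2]
    simp
  · exact absurd h.1 (hD.2 x hx y hy)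

theorem two_pow_of_mem_pCore (q : G) (hq : q ∈ pCore 2 G) : ∃ k : ℕ, q ^ (2 ^ k) = 1 := by
  have hp : IsPGroup 2 (pCore 2 G) := Cfsg.Agent.Lib.isPGroup_pCore 2
  obtain ⟨k, hk⟩ := hp ⟨q, hq⟩
  refine ⟨k, ?_⟩
  have := congrArg Subtype.val hk
  simpa using this

theorem conj_mem_pCore {q : G} (hq : q ∈ pCore 2 G) (g : G) : g * q * g⁻¹ ∈ pCore 2 G :=
  (Cfsg.Agent.Helper48.pCore_normal 2 G).conj_mem q hq g


/-- Let G be a finite group generated by a set D of odd transpositions (root involutions with no product of order 4), Q = O₂(G), and for a ∈ D let Q_a be the commutator subgroup of Q with a. Then every member of D commuting with a centralizes Q_a; and for b ∈ D with ab of odd order greater than 1, the centralizer of ab in Q is the intersection of the centralizers of a and b in Q. -/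
theorem result {G : Type*} [Group G] [Finite G] {D : Set G} (hD : Cfsg.IsOddTranspositionSet D) {a : G} (ha : a ∈ D) :
    (∀ e ∈ Cfsg.commutingMembers D a, ∀ q ∈ ⁅Cfsg.pCore 2 G, Subgroup.zpowers a⁆, e * q = q * e) ∧
    (∀ b ∈ Cfsg.oddPartners D a,
      Cfsg.pCore 2 G ⊓ Subgroup.centralizer {a * b} = Cfsg.pCore 2 G ⊓ Subgroup.centralizer {a} ⊓ Subgroup.centralizer {b}) := by
  have hR := hD.1
  have haa : a * a = 1 := mul_self_of_mem hR ha
  have hainv : a⁻¹ = a := inv_eq_self_of_mem hR ha
  constructor
  · -- Part 1
    rintro e ⟨he, hea⟩ q hq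
    have hee : e * e = 1 := mul_self_of_mem hR he
    have heinv : e⁻¹ = e := inv_eq_self_of_mem hR he
    have hle : ⁅pCore 2 G, Subgroup.zpowers a⁆ ≤ Subgroup.centralizer {e} := by
      rw [Subgroup.commutator_le]
      intro x hx y hy
      rw [Subgroup.mem_centralizer_singleton_iff]
      obtain ⟨n, rfl⟩ := Subgroup.mem_zpowers_iff.mp hy
      -- a ^ n is 1 or a
      have hcases : a ^ n = 1 ∨ a ^ n = a := by
        rcases Int.even_or_odd n with ⟨m, hm⟩ | ⟨m, hm⟩
        · left
          rw [hm, ← two_mul, zpow_mul, zpow_two, haa, one_zpow]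
        · right
          rw [hm, zpow_add, zpow_mul, zpow_two, haa, one_zpow, one_mul, zpow_one]
      rcases hcases with h1 | h1
      · rw [h1]; simp
      · rw [h1, commutatorElement_def, hainv]
        -- a' = x a x⁻¹ ∈ D
        set a' := x * a * x⁻¹ with ha'
        have ha'D : a' ∈ D := hR.conj_mem a ha x
        have hz : a * a' ∈ pCore 2 G := by
          have h2 : a * a' = (a * x * a⁻¹) * x⁻¹ := by rw [ha', hainv]; group
          rw [h2]
          exact Subgroup.mul_mem _ (conj_mem_pCore hx a) (Subgroup.inv_mem _ hx)
        -- (e a')² ∈ Q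
        have hsq : (e * a') * (e * a') ∈ pCore 2 G := by
          have h2 : (e * a') * (e * a') = ((e * a) * (a * a') * (e * a)⁻¹) * (a * a') := by
            have h3 : (e * a)⁻¹ = e * a := by
              rw [mul_inv_rev, hainv, heinv, hea]
            rw [h3]
            calc (e * a') * (e * a') = e * (a * a) * a' * (e * (a * a) * a') := by rw [haa]; simp
              _ = (e * a) * (a * a') * (e * a) * (a * a') := by group
          rw [h2]
          exact Subgroup.mul_mem _ (conj_mem_pCore hz _) hz
        obtain ⟨k, hk⟩ := two_pow_of_mem_pCore _ hsq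
        have hk' : (e * a') ^ (2 ^ (k + 1)) = 1 := by
          rw [pow_succ, mul_comm, pow_mul, pow_two]
          exact hk
        have hcomm : e * a' = a' * e := commute_of_two_pow hD he ha'D hk'
        calc a' * a * e = a' * (a * e) := mul_assoc _ _ _
          _ = a' * (e * a) := by rw [hea]
          _ = (a' * e) * a := (mul_assoc _ _ _).symm
          _ = (e * a') * a := by rw [hcomm]
          _ = e * (a' * a) := mul_assoc _ _ _
    have := hle hq
    rw [Subgroup.mem_centralizer_singleton_iff] at this
    exact this.symm
  · -- Part 2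
    rintro b ⟨hb, hba, hodd⟩
    have hbb : b * b = 1 := mul_self_of_mem hR hb
    have hbinv : b⁻¹ = b := inv_eq_self_of_mem hR hb
    have hu1 : a * b ≠ 1 := by
      intro h
      apply hba
      have : b = a⁻¹ := (inv_eq_of_mul_eq_one_right h).symm
      rw [this, hainv]
    apply le_antisymm
    · intro r hr
      obtain ⟨hrQ, hru⟩ := Subgroup.mem_inf.mp hr
      rw [Subgroup.mem_centralizer_singleton_iff] at hru
      -- hru : r * (a * b) = a * b * r
      set u := a * b with hu
      have haua : a * u * a = u⁻¹ := by
        rw [hu, mul_inv_rev, hainv, hbinv]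
        calc a * (a * b) * a = (a * a) * b * a := by group
          _ = b * a := by rw [haa, one_mul]
      set z := r⁻¹ * (a * r * a) with hz
      have hzQ : z ∈ pCore 2 G := by
        rw [hz]
        refine Subgroup.mul_mem _ (Subgroup.inv_mem _ hrQ) ?_
        have := conj_mem_pCore hrQ a
        rwa [hainv] at this
      have hruinv : r * u⁻¹ = u⁻¹ * r := by
        have : u⁻¹ * (r * u) * u⁻¹ = u⁻¹ * (u * r) * u⁻¹ := by rw [hru]
        calc r * u⁻¹ = u⁻¹ * (u * r) * u⁻¹ := by group
          _ = u⁻¹ * (r * u) * u⁻¹ := by rw [hru]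
          _ = u⁻¹ * r := by group
      have hrinvu : r⁻¹ * u = u * r⁻¹ := by
        calc r⁻¹ * u = r⁻¹ * (u * r) * r⁻¹ := by group
          _ = r⁻¹ * (r * u) * r⁻¹ := by rw [hru]
          _ = u * r⁻¹ := by group
      have hara_u : (a * r * a) * u = u * (a * r * a) := by
        -- a r a u = a r (a u a) a = a r u⁻¹ a = a u⁻¹ r a = (a u⁻¹ a) a r a = u a r a
        have hauinva : a * u⁻¹ * a = u := by
          rw [← haua]
          calc a * (a * u * a) * a = (a * a) * u * (a * a) := by group
            _ = u := by rw [haa]; simp
        calc (a * r * a) * u = a * r * (a * u * a) * a := by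
              have : a * r * (a * u * a) * a = a * r * a * u * (a * a) := by group
              rw [this, haa, mul_one]
          _ = a * (r * u⁻¹) * a := by rw [haua]; group
          _ = a * (u⁻¹ * r) * a := by rw [hruinv]
          _ = (a * u⁻¹ * a) * (a * r * a) := by
              have : (a * u⁻¹ * a) * (a * r * a) = a * u⁻¹ * (a * a) * r * a := by group
              rw [this, haa]; group
          _ = u * (a * r * a) := by rw [hauinva]
      have hzu : z * u = u * z := by
        rw [hz]
        calc r⁻¹ * (a * r * a) * u = r⁻¹ * ((a * r * a) * u) := by group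
          _ = r⁻¹ * (u * (a * r * a)) := by rw [hara_u]
          _ = (r⁻¹ * u) * (a * r * a) := by group
          _ = (u * r⁻¹) * (a * r * a) := by rw [hrinvu]
          _ = u * (r⁻¹ * (a * r * a)) := by group
      -- a^r * b = z * u
      set ar := r⁻¹ * a * r⁻¹⁻¹ with har
      have harD : ar ∈ D := hR.conj_mem a ha r⁻¹
      have hprod : ar * b = z * u := by
        rw [har, hz, hu, inv_inv]
        calc r⁻¹ * a * r * b = r⁻¹ * a * r * (a * a) * b := by rw [haa, mul_one]
          _ = r⁻¹ * (a * r * a) * (a * b) := by group
      obtain ⟨k, hk⟩ := two_pow_of_mem_pCore z hzQ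
      have hcommzu : Commute z u := hzu
      have hz1 : z = 1 := by
        rcases hR.pair ar harD b hb with h | h | h
        · -- commute: (z u)^2 = 1, so u^2 = z^-2, so u is a 2-element: contradiction
          exfalso
          have h2 : (z * u) ^ 2 = 1 := by
            rw [← hprod, pow_two]
            have har2 : ar * ar = 1 := mul_self_of_mem hR harD
            calc ar * b * (ar * b) = ar * (b * ar) * b := by group
              _ = ar * (ar * b) * b := by rw [h]
              _ = (ar * ar) * (b * b) := by group
              _ = 1 := by rw [har2, hbb, one_mul]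
          rw [hcommzu.mul_pow] at h2
          -- u ^ (2 * 2^k) = 1
          have h3 : u ^ (2 * 2 ^ k) = 1 := by
            have h4 : (z ^ 2 * u ^ 2) ^ (2 ^ k) = 1 := by rw [h2, one_pow]
            rw [(hcommzu.pow_pow 2 2).mul_pow, ← pow_mul, ← pow_mul, mul_comm 2 (2 ^ k), pow_mul z, hk,
              one_pow, one_mul] at h4
            rw [mul_comm]; exact h4
          have h5 : u ^ (2 ^ (k + 1)) = 1 := by
            rw [pow_succ, mul_comm]; exact h3
          exact hu1 (eq_one_of_two_pow_of_odd h5 (pow_orderOf_eq_one _) hodd)
        · -- odd order m: z^m = u^-m, so z^(m n) = 1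
          rw [hprod] at h
          set m := orderOf (z * u) with hm
          have h2 : (z * u) ^ m = 1 := pow_orderOf_eq_one _
          rw [hcommzu.mul_pow] at h2
          set n := orderOf u with hn
          have h3 : z ^ (m * n) = 1 := by
            have h4 : (z ^ m * u ^ m) ^ n = 1 := by rw [h2, one_pow]
            rw [(hcommzu.pow_pow m m).mul_pow, ← pow_mul, ← pow_mul, mul_comm m n, pow_mul u, hn,
              pow_orderOf_eq_one, one_pow, mul_one] at h4
            rw [mul_comm]; exact h4
          exact eq_one_of_two_pow_of_odd hk h3 (h.mul hodd)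
        · exact absurd h.1 (hD.2 ar harD b hb)
      -- so a r a = r, i.e. r commutes with a
      have hra : r * a = a * r := by
        have h1 : a * r * a = r := by
          have : r * z = r := by rw [hz1, mul_one]
          rw [hz] at this
          calc a * r * a = r * (r⁻¹ * (a * r * a)) := by group
            _ = r := this
        calc r * a = (a * r * a) * a := by rw [h1]
          _ = a * r * (a * a) := by group
          _ = a * r := by rw [haa, mul_one]
      refine Subgroup.mem_inf.mpr ⟨Subgroup.mem_inf.mpr ⟨hrQ, ?_⟩, ?_⟩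
      · rw [Subgroup.mem_centralizer_singleton_iff]
        exact hra
      · rw [Subgroup.mem_centralizer_singleton_iff]
        have hb' : b = a * u := by rw [hu, ← mul_assoc, haa, one_mul]
        rw [hb']
        calc r * (a * u) = (r * a) * u := by group
          _ = (a * r) * u := by rw [hra]
          _ = a * (r * u) := by group
          _ = a * (u * r) := by rw [hru]
          _ = a * u * r := by group
    · intro r hr
      obtain ⟨hr1, hrb⟩ := Subgroup.mem_inf.mp hr
      obtain ⟨hrQ, hra⟩ := Subgroup.mem_inf.mp hr1
      rw [Subgroup.mem_centralizer_singleton_iff] at hra hrb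
      refine Subgroup.mem_inf.mpr ⟨hrQ, ?_⟩
      rw [Subgroup.mem_centralizer_singleton_iff]
      calc r * (a * b) = (r * a) * b := by group
        _ = (a * r) * b := by rw [hra]
        _ = a * (r * b) := by group
        _ = a * (b * r) := by rw [hrb]
        _ = a * b * r := by group

end Cfsg.Agent.S5049
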