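import Cfsg.Statements.S5057
-- import your own Cfsg.Agent.* helpers here

set_option autoImplicit false
open Cfsg

namespace Cfsg.Agent.S5057

open Equiv

set_option maxRecDepth 100000 in
/-- every even permutation of 6 points has order 1, 2, 3, 4 or 5 (kernel computation over the 720 permutations) -/
theorem a6_orders : ∀ g : Perm (Fin 6), Perm.sign g = 1 → g ^ 4 = 1 ∨ g ^ 3 = 1 ∨ g ^ 5 = 1 := by
  decide +kernel

set_option maxRecDepth 100000 in
/-- every even involution of 6 points is conjugate in `A₆` to `(0 1)(2 3)` -/
theorem a6_conj : ∀ b : Perm (Fin 6), Perm.sign b = 1 → b ^ 2 = 1 → b ≠ 1 →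
    ∃ g : Perm (Fin 6), Perm.sign g = 1 ∧ b = g * (swap 0 1 * swap 2 3) * g⁻¹ := by
  decide +kernel

theorem orderOf_le_five (g : alternatingGroup (Fin 6)) : orderOf g ≤ 5 := by
  have hs : Perm.sign (g : Perm (Fin 6)) = 1 := Perm.mem_alternatingGroup.mp g.2
  rw [← Subgroup.orderOf_coe]
  rcases a6_orders g hs with h | h | h
  · exact (Nat.le_of_dvd (by norm_num) (orderOf_dvd_of_pow_eq_one h)).trans (by norm_num)
  · exact (Nat.le_of_dvd (by norm_num) (orderOf_dvd_of_pow_eq_one h)).trans (by norm_num)
  · exact Nat.le_of_dvd (by norm_num) (orderOf_dvd_of_pow_eq_one h)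

/-- the base involution `(0 1)(2 3)` of `A₆` -/
def a₀ : alternatingGroup (Fin 6) :=
  ⟨swap 0 1 * swap 2 3, by rw [Perm.mem_alternatingGroup]; decide⟩

theorem orderOf_a₀ : orderOf a₀ = 2 := by
  apply orderOf_eq_prime
  · apply Subtype.ext
    show (swap (0 : Fin 6) 1 * swap 2 3) ^ 2 = 1
    decide
  · intro h
    have := congrArg Subtype.val h
    revert this
    show ¬ (swap (0 : Fin 6) 1 * swap 2 3 = 1)
    decide

theorem conj_a₀ (b : alternatingGroup (Fin 6)) (hb : orderOf b = 2) : ∃ g : alternatingGroup (Fin 6), b = g * a₀ * g⁻¹ := by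
  have hs : Perm.sign (b : Perm (Fin 6)) = 1 := Perm.mem_alternatingGroup.mp b.2
  have h2 : (b : Perm (Fin 6)) ^ 2 = 1 := by
    have := pow_orderOf_eq_one b
    rw [hb] at this
    exact congrArg Subtype.val this
  have h1 : (b : Perm (Fin 6)) ≠ 1 := by
    intro h
    have hb1 : b = 1 := Subtype.ext h
    rw [hb1, orderOf_one] at hb
    norm_num at hb
  obtain ⟨g, hg, hbg⟩ := a6_conj b hs h2 h1
  refine ⟨⟨g, Perm.mem_alternatingGroup.mpr hg⟩, ?_⟩
  apply Subtype.ext
  exact hbg


/-- The involutions of the alternating group of degree 6 form a class of root involutions (a single conjugacy class of involutions generating the group, any two of which commute, have product of odd order, or have product of order 4 whose square is again an involution of the class), and the product of any two of them has order at most 5. -/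
theorem result :
    Cfsg.IsRootInvolutionClass {g : ↥(alternatingGroup (Fin 6)) | orderOf g = 2} ∧
    ∀ d ∈ {g : ↥(alternatingGroup (Fin 6)) | orderOf g = 2}, ∀ e ∈ {g : ↥(alternatingGroup (Fin 6)) | orderOf g = 2},
      orderOf (d * e) ≤ 5 := by
  have hinv : ∀ d : alternatingGroup (Fin 6), orderOf d = 2 → d * d = 1 := by
    intro d hd
    have := pow_orderOf_eq_one d
    rwa [hd, pow_two] at this
  refine ⟨⟨⟨?_, ?_, ?_, ?_⟩, ⟨a₀, orderOf_a₀⟩, ?_⟩, ?_⟩
  · intro d hd
    exact hd
  · -- generation, by simplicity of A₆
    set N : Subgroup (alternatingGroup (Fin 6)) :=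
      Subgroup.closure {g : alternatingGroup (Fin 6) | orderOf g = 2} with hN
    have hnormal : N.Normal := by
      constructor
      intro n hn g
      have h1 : N.map (MulAut.conj g).toMonoidHom ≤ N := by
        rw [hN, MonoidHom.map_closure, Subgroup.closure_le]
        rintro _ ⟨d, hd, rfl⟩
        apply Subgroup.subset_closure
        show orderOf (MulAut.conj g d) = 2
        rw [MulEquiv.orderOf_eq]
        exact hd
      exact h1 ⟨n, hn, rfl⟩
    have : IsSimpleGroup (alternatingGroup (Fin 6)) := alternatingGroup.isSimpleGroup (by simp)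
    rcases hnormal.eq_bot_or_eq_top with h | h
    · exfalso
      have h1 : a₀ ∈ N := Subgroup.subset_closure orderOf_a₀
      rw [h, Subgroup.mem_bot] at h1
      have := orderOf_a₀
      rw [h1, orderOf_one] at this
      norm_num at this
    · exact h
  · intro d hd g
    show orderOf (g * d * g⁻¹) = 2
    have : g * d * g⁻¹ = MulAut.conj g d := rfl
    rw [this, MulEquiv.orderOf_eq]
    exact hd
  · intro a ha b hb
    have ha2 : a * a = 1 := hinv a ha
    have hb2 : b * b = 1 := hinv b hb
    have hle := orderOf_le_five (a * b)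
    have hpos : 0 < orderOf (a * b) := orderOf_pos _
    have hcomm_of_sq : (a * b) * (a * b) = 1 → a * b = b * a := by
      intro h
      calc a * b = a * b * ((a * b) * (b * a)) := by
            have : (a * b) * (b * a) = 1 := by
              calc (a * b) * (b * a) = a * (b * b) * a := by group
                _ = 1 := by rw [hb2, mul_one, ha2]
            rw [this, mul_one]
        _ = ((a * b) * (a * b)) * (b * a) := by group
        _ = b * a := by rw [h, one_mul]
    -- case analysis on the order
    have hcases : orderOf (a * b) = 1 ∨ orderOf (a * b) = 2 ∨ orderOf (a * b) = 3 ∨ orderOf (a * b) = 4 ∨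
        orderOf (a * b) = 5 := by omega
    rcases hcases with h | h | h | h | h
    · left
      apply hcomm_of_sq
      rw [orderOf_eq_one_iff.mp h, one_mul]
    · left
      apply hcomm_of_sq
      have := pow_orderOf_eq_one (a * b)
      rwa [h, pow_two] at this
    · right; left
      rw [h]; decide
    · right; right
      refine ⟨h, ?_⟩
      show orderOf ((a * b) ^ 2) = 2
      rw [orderOf_pow, h]
      norm_num
    · right; left
      rw [h]; decide
  · intro a ha b hb
    obtain ⟨g, hg⟩ := conj_a₀ a ha
    obtain ⟨k, hk⟩ := conj_a₀ b hb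
    refine ⟨k * g⁻¹, ?_⟩
    rw [hk, hg]
    group
  · intro d _ e _
    exact orderOf_le_five (d * e)

end Cfsg.Agent.S5057
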