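import Cfsg.Statements.S5058
import Cfsg.Agent.Helper83.Transv5

set_option autoImplicit false
open Matrix
open Cfsg

namespace Cfsg.Agent.S5058

open Cfsg.Agent.Helper83.Transv

theorem fin_ne (n : ℕ) : (0 : Fin (n + 3)) ≠ 1 ∧ (0 : Fin (n + 3)) ≠ 2 ∧ (1 : Fin (n + 3)) ≠ 2 := by
  refine ⟨?_, ?_, ?_⟩
  · intro h; have := congrArg Fin.val h; rw [Fin.val_zero, Fin.val_one] at this; omega
  · intro h; have := congrArg Fin.val h; rw [Fin.val_zero, Fin.val_two] at this; omega
  · intro h; have := congrArg Fin.val h; rw [Fin.val_one, Fin.val_two] at this; omega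

theorem rootSet (F : Type*) [Field F] [Fintype F] [CharP F 2] (n : ℕ) :
    Cfsg.IsRootInvolutionSet (Dset (F := F) (0 : Fin (n + 3)) 1) := by
  obtain ⟨h01, h02, h12⟩ := fin_ne n
  exact
    { orderOf_eq := fun d hd => orderOf_of_mem_Dset h01 h02 h12 hd
      generates := closure_Dset h01 h02 h12
      conj_mem := fun d hd g => conj_mem_Dset hd g
      pair := fun a ha b hb => pair_Dset h01 h02 h12 ha hb }

/-- Let F be a finite field of characteristic 2 and n a natural number. Then the transvections of SL_{n+3}(F) (so in every dimension at least 3) (the conjugates of the elementary matrices 1 + c E₁₂, c ≠ 0) form a class of root involutions of SL_{n+3}(F); when F has two elements they form a class of {3,4}⁺-transpositions (every product of odd order has order 1 or 3). -/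
theorem result (F : Type*) [Field F] [Fintype F] [CharP F 2] (n : ℕ) :
    Cfsg.IsRootInvolutionClass {t : Matrix.SpecialLinearGroup (Fin (n + 3)) F | ∃ c : F, c ≠ 0 ∧
        ∃ g : Matrix.SpecialLinearGroup (Fin (n + 3)) F, ((g⁻¹ * t * g : Matrix.SpecialLinearGroup (Fin (n + 3)) F) :
          Matrix (Fin (n + 3)) (Fin (n + 3)) F) = Matrix.transvection 0 1 c} ∧
    (Fintype.card F = 2 → Cfsg.IsThreeFourPlusTranspositionSet {t : Matrix.SpecialLinearGroup (Fin (n + 3)) F | ∃ c : F, c ≠ 0 ∧
        ∃ g : Matrix.SpecialLinearGroup (Fin (n + 3)) F, ((g⁻¹ * t * g : Matrix.SpecialLinearGroup (Fin (n + 3)) F) :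
          Matrix (Fin (n + 3)) (Fin (n + 3)) F) = Matrix.transvection 0 1 c}) := by
  obtain ⟨h01, h02, h12⟩ := fin_ne n
  have hset := rootSet F n
  refine ⟨⟨hset, ⟨_, stdT_mem_Dset h01⟩, fun a ha b hb => isConj_of_mem_Dset h01 h02 h12 ha hb⟩, ?_⟩
  intro hF
  exact ⟨hset, fun a ha b hb hodd => three_four hF h01 h02 h12 ha hb hodd⟩

end Cfsg.Agent.S5058
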