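import Cfsg.Statements.S5059
-- import your own Cfsg.Agent.* helpers here

set_option autoImplicit false
universe u
open Cfsg

namespace Cfsg.Agent.S5059

section
variable {k : Type*} [Field k] {M : Type*} [AddCommGroup M] [Module k M]

/-- The structure of a member of `E_σ`, in terms of its nilpotent part `N = τ - 1`. -/
structure Good (G : Subgroup (LinearMap.GeneralLinearGroup k M)) (C W : Submodule k M) (d : ℕ)
    (τ : LinearMap.GeneralLinearGroup k M) : Prop where
  mem : τ ∈ G
  fam : scalarFamily τ ⊆ (G : Set (LinearMap.GeneralLinearGroup k M))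
  ne : (τ : M →ₗ[k] M) - 1 ≠ 0
  ker_eq : LinearMap.ker ((τ : M →ₗ[k] M) - 1) = C
  range_eq : LinearMap.range ((τ : M →ₗ[k] M) - 1) = W

theorem val_eq_one_add (τ : LinearMap.GeneralLinearGroup k M) :
    (τ : M →ₗ[k] M) = 1 + ((τ : M →ₗ[k] M) - 1) := by abel

/-- If `W ≤ C` then the nilpotent parts of two good elements multiply to zero. -/
theorem Good.mul_eq_zero {G : Subgroup (LinearMap.GeneralLinearGroup k M)} {C W : Submodule k M} {d : ℕ}
    (hWC : W ≤ C) {τ₁ τ₂ : LinearMap.GeneralLinearGroup k M} (h₁ : Good G C W d τ₁) (h₂ : Good G C W d τ₂) :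
    ((τ₁ : M →ₗ[k] M) - 1) * ((τ₂ : M →ₗ[k] M) - 1) = 0 := by
  ext m
  rw [Module.End.mul_apply, LinearMap.zero_apply]
  have h1 : ((τ₂ : M →ₗ[k] M) - 1) m ∈ W := by
    rw [← h₂.range_eq]
    exact LinearMap.mem_range_self _ m
  have h2 : ((τ₂ : M →ₗ[k] M) - 1) m ∈ LinearMap.ker ((τ₁ : M →ₗ[k] M) - 1) := by
    rw [h₁.ker_eq]
    exact hWC h1
  exact LinearMap.mem_ker.mp h2

theorem val_mul_eq {τ₁ τ₂ : LinearMap.GeneralLinearGroup k M}
    (h12 : ((τ₁ : M →ₗ[k] M) - 1) * ((τ₂ : M →ₗ[k] M) - 1) = 0) :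
    ((τ₁ * τ₂ : LinearMap.GeneralLinearGroup k M) : M →ₗ[k] M) =
      1 + (((τ₁ : M →ₗ[k] M) - 1) + ((τ₂ : M →ₗ[k] M) - 1)) := by
  rw [Units.val_mul]
  have e : (τ₁ : M →ₗ[k] M) * (τ₂ : M →ₗ[k] M) =
      1 + (((τ₁ : M →ₗ[k] M) - 1) + ((τ₂ : M →ₗ[k] M) - 1)) +
        ((τ₁ : M →ₗ[k] M) - 1) * ((τ₂ : M →ₗ[k] M) - 1) := by noncomm_ring
  rw [e, h12, add_zero]

theorem Good.comm {G : Subgroup (LinearMap.GeneralLinearGroup k M)} {C W : Submodule k M} {d : ℕ}
    (hWC : W ≤ C) {τ₁ τ₂ : LinearMap.GeneralLinearGroup k M} (h₁ : Good G C W d τ₁) (h₂ : Good G C W d τ₂) :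
    τ₁ * τ₂ = τ₂ * τ₁ := by
  apply Units.ext
  rw [val_mul_eq (h₁.mul_eq_zero hWC h₂), val_mul_eq (h₂.mul_eq_zero hWC h₁), add_comm ((τ₁ : M →ₗ[k] M) - 1)]

/-- a unit whose value is `1 + c • N` with `N * N = 0` -/
def unitOfSqZero (N : M →ₗ[k] M) (h : N * N = 0) : LinearMap.GeneralLinearGroup k M :=
  ⟨1 + N, 1 - N, by
    have : (1 + N) * (1 - N) = 1 - N * N := by noncomm_ring
    rw [this, h, sub_zero], by
    have : (1 - N) * (1 + N) = 1 - N * N := by noncomm_ring
    rw [this, h, sub_zero]⟩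

theorem unitOfSqZero_val (N : M →ₗ[k] M) (h : N * N = 0) : ((unitOfSqZero N h : LinearMap.GeneralLinearGroup k M) : M →ₗ[k] M) = 1 + N := rfl

theorem pow_val_eq {τ : LinearMap.GeneralLinearGroup k M}
    (h : ((τ : M →ₗ[k] M) - 1) * ((τ : M →ₗ[k] M) - 1) = 0) (n : ℕ) :
    ((τ ^ n : LinearMap.GeneralLinearGroup k M) : M →ₗ[k] M) = 1 + n • ((τ : M →ₗ[k] M) - 1) := by
  induction n with
  | zero => simp
  | succ n ih =>
    rw [pow_succ, Units.val_mul, ih]
    have e : (1 + n • ((τ : M →ₗ[k] M) - 1)) * (τ : M →ₗ[k] M) =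
        1 + (n + 1) • ((τ : M →ₗ[k] M) - 1) + n • (((τ : M →ₗ[k] M) - 1) * ((τ : M →ₗ[k] M) - 1)) := by
      conv_lhs => rw [val_eq_one_add τ]
      simp only [smul_mul_assoc, add_smul, one_smul, mul_add, add_mul, mul_one, one_mul]
      abel
    rw [e, h, smul_zero, add_zero]

end


/-- Let k be a field of characteristic not 2 with k not of order 3, M a finite-dimensional k-vector space and G ≤ GL(M) such that (G, M) is a quadratic pair (M irreducible for G, and G generated by its quadratically acting elements σ whose scalar family 1 + c(σ − 1), c ∈ k, lies in G). Write 𝒬_d for the quadratic elements of G of minimal commutator rank, E(σ) for the subgroup generated by the members of 𝒬_d with the same fixed space and commutator space as σ, and Σ for the set of these subgroups. Then for σ ∈ 𝒬_d the subgroup E(σ) consists exactly of those members together with the identity, it is abelian, and if k has prime characteristic p every element of E(σ) has order dividing p.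 -/
theorem result {k : Type u} [Field k] (hk2 : ringChar k ≠ 2) (hk3 : Nat.card k ≠ 3)
    {M : Type u} [AddCommGroup M] [Module k M] [FiniteDimensional k M]
    {G : Subgroup (LinearMap.GeneralLinearGroup k M)} (hG : Cfsg.IsQuadraticPair G)
    {σ : LinearMap.GeneralLinearGroup k M} (hσ : σ ∈ Cfsg.minimalQuadraticElements G) :
    (Cfsg.sameActionSubgroup G σ : Set (LinearMap.GeneralLinearGroup k M)) = Cfsg.sameActionClass G σ ∪ {1} ∧
    IsMulCommutative ↥(Cfsg.sameActionSubgroup G σ) ∧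
    (∀ p : ℕ, p.Prime → ringChar k = p → ∀ x ∈ Cfsg.sameActionSubgroup G σ, x ^ p = 1) := by
  obtain ⟨⟨hσG, ⟨hσsq, hσne⟩, hσfam⟩, hσmin⟩ := hσ
  have hWC : LinearMap.range ((σ : M →ₗ[k] M) - 1) ≤ LinearMap.ker ((σ : M →ₗ[k] M) - 1) := by
    rintro _ ⟨m, rfl⟩
    rw [LinearMap.mem_ker, ← Module.End.mul_apply, hσsq, LinearMap.zero_apply]
  -- abbreviations (no `set`, to keep terms syntactically stable)
  obtain ⟨C, hC⟩ : ∃ C, C = LinearMap.ker ((σ : M →ₗ[k] M) - 1) := ⟨_, rfl⟩
  obtain ⟨W, hW⟩ : ∃ W, W = LinearMap.range ((σ : M →ₗ[k] M) - 1) := ⟨_, rfl⟩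
  rw [← hC, ← hW] at hWC
  have hdW : commutatorRank σ = Module.finrank k W := by rw [hW]; rfl
  have hrn : Module.finrank k W + Module.finrank k C = Module.finrank k M := by
    rw [hW, hC]; exact LinearMap.finrank_range_add_finrank_ker _
  -- E_σ = Good elements
  have hE : ∀ τ, τ ∈ sameActionClass G σ ↔ Good G C W (commutatorRank σ) τ := by
    intro τ
    constructor
    · rintro ⟨⟨⟨hτG, ⟨_, hτne⟩, hτfam⟩, _⟩, hker, hrange⟩
      exact ⟨hτG, hτfam, hτne, by rw [hC]; exact hker, by rw [hW]; exact hrange⟩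
    · intro h
      refine ⟨⟨⟨h.mem, ⟨h.mul_eq_zero hWC h, h.ne⟩, h.fam⟩, ?_⟩, by rw [← hC]; exact h.ker_eq,
        by rw [← hW]; exact h.range_eq⟩
      intro τ' hτ'
      have : commutatorRank τ = commutatorRank σ := by
        rw [hdW]; unfold commutatorRank; rw [h.range_eq]
      rw [this]
      exact hσmin τ' hτ'
  -- inverses
  have hinv : ∀ τ, Good G C W (commutatorRank σ) τ → Good G C W (commutatorRank σ) τ⁻¹ := by
    intro τ h
    have hsq := h.mul_eq_zero hWC h
    have hsq' : (-((τ : M →ₗ[k] M) - 1)) * (-((τ : M →ₗ[k] M) - 1)) = 0 := by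
      rw [neg_mul_neg, hsq]
    have hτinv : τ⁻¹ = unitOfSqZero (-((τ : M →ₗ[k] M) - 1)) hsq' := by
      apply inv_eq_of_mul_eq_one_right
      apply Units.ext
      rw [Units.val_mul, unitOfSqZero_val, Units.val_one]
      have e : (τ : M →ₗ[k] M) * (1 + -((τ : M →ₗ[k] M) - 1)) =
          1 - ((τ : M →ₗ[k] M) - 1) * ((τ : M →ₗ[k] M) - 1) := by noncomm_ring
      rw [e, hsq, sub_zero]
    have hval : ((τ⁻¹ : LinearMap.GeneralLinearGroup k M) : M →ₗ[k] M) - 1 = -((τ : M →ₗ[k] M) - 1) := by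
      rw [hτinv, unitOfSqZero_val]; abel
    refine ⟨G.inv_mem h.mem, ?_, ?_, ?_, ?_⟩
    · rintro ρ ⟨c, hc⟩
      apply h.fam
      refine ⟨-c, ?_⟩
      rw [hc, hval, smul_neg, neg_smul]
    · rw [hval]; exact neg_ne_zero.mpr h.ne
    · rw [hval, ← h.ker_eq]
      ext m
      rw [LinearMap.mem_ker, LinearMap.mem_ker, LinearMap.neg_apply, neg_eq_zero]
    · rw [hval, ← h.range_eq]
      exact LinearMap.range_neg _
  -- products
  have hmul : ∀ τ₁ τ₂, Good G C W (commutatorRank σ) τ₁ → Good G C W (commutatorRank σ) τ₂ →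
      Good G C W (commutatorRank σ) (τ₁ * τ₂) ∨ τ₁ * τ₂ = 1 := by
    intro τ₁ τ₂ h₁ h₂
    have h11 := h₁.mul_eq_zero hWC h₁
    have h12 := h₁.mul_eq_zero hWC h₂
    have h21 := h₂.mul_eq_zero hWC h₁
    have h22 := h₂.mul_eq_zero hWC h₂
    have hval : ((τ₁ * τ₂ : LinearMap.GeneralLinearGroup k M) : M →ₗ[k] M) - 1 =
        ((τ₁ : M →ₗ[k] M) - 1) + ((τ₂ : M →ₗ[k] M) - 1) := by
      rw [val_mul_eq h12]; abel
    by_cases hN : ((τ₁ : M →ₗ[k] M) - 1) + ((τ₂ : M →ₗ[k] M) - 1) = 0
    · right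
      apply Units.ext
      rw [val_mul_eq h12, hN, add_zero, Units.val_one]
    · left
      have hNN : (((τ₁ : M →ₗ[k] M) - 1) + ((τ₂ : M →ₗ[k] M) - 1)) *
          (((τ₁ : M →ₗ[k] M) - 1) + ((τ₂ : M →ₗ[k] M) - 1)) = 0 := by
        rw [add_mul, mul_add, mul_add, h11, h12, h21, h22]; simp
      have hfam : scalarFamily (τ₁ * τ₂) ⊆ (G : Set (LinearMap.GeneralLinearGroup k M)) := by
        rintro ρ ⟨c, hc⟩
        have hs1 : (c • ((τ₁ : M →ₗ[k] M) - 1)) * (c • ((τ₁ : M →ₗ[k] M) - 1)) = 0 := by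
          rw [smul_mul_smul_comm, h11, smul_zero]
        have hs2 : (c • ((τ₂ : M →ₗ[k] M) - 1)) * (c • ((τ₂ : M →ₗ[k] M) - 1)) = 0 := by
          rw [smul_mul_smul_comm, h22, smul_zero]
        have hρ1 : unitOfSqZero _ hs1 ∈ G := h₁.fam ⟨c, rfl⟩
        have hρ2 : unitOfSqZero _ hs2 ∈ G := h₂.fam ⟨c, rfl⟩
        have hρ : ρ = unitOfSqZero _ hs1 * unitOfSqZero _ hs2 := by
          apply Units.ext
          rw [hc, hval, Units.val_mul, unitOfSqZero_val, unitOfSqZero_val]
          have e : ∀ A B : M →ₗ[k] M, (1 + A) * (1 + B) = 1 + (A + B) + A * B := by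
            intro A B; noncomm_ring
          rw [e, smul_mul_smul_comm, h12, smul_zero, add_zero, smul_add]
        rw [hρ]
        exact G.mul_mem hρ1 hρ2
      have hmemG : τ₁ * τ₂ ∈ G := G.mul_mem h₁.mem h₂.mem
      have hquad : τ₁ * τ₂ ∈ quadraticElements G :=
        ⟨hmemG, ⟨by rw [hval]; exact hNN, by rw [hval]; exact hN⟩, hfam⟩
      have hmin := hσmin _ hquad
      have hrange_le : LinearMap.range (((τ₁ * τ₂ : LinearMap.GeneralLinearGroup k M) : M →ₗ[k] M) - 1) ≤ W := by
        rw [hval]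
        rintro _ ⟨m, rfl⟩
        rw [LinearMap.add_apply]
        refine W.add_mem ?_ ?_
        · rw [← h₁.range_eq]; exact LinearMap.mem_range_self _ m
        · rw [← h₂.range_eq]; exact LinearMap.mem_range_self _ m
      have hrange : LinearMap.range (((τ₁ * τ₂ : LinearMap.GeneralLinearGroup k M) : M →ₗ[k] M) - 1) = W := by
        apply Submodule.eq_of_le_of_finrank_le hrange_le
        rw [← hdW]
        exact hmin
      have hker_le : C ≤ LinearMap.ker (((τ₁ * τ₂ : LinearMap.GeneralLinearGroup k M) : M →ₗ[k] M) - 1) := by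
        intro m hm
        rw [hval, LinearMap.mem_ker, LinearMap.add_apply]
        have hm1 : m ∈ LinearMap.ker ((τ₁ : M →ₗ[k] M) - 1) := by rw [h₁.ker_eq]; exact hm
        have hm2 : m ∈ LinearMap.ker ((τ₂ : M →ₗ[k] M) - 1) := by rw [h₂.ker_eq]; exact hm
        rw [LinearMap.mem_ker.mp hm1, LinearMap.mem_ker.mp hm2, add_zero]
      have hker : LinearMap.ker (((τ₁ * τ₂ : LinearMap.GeneralLinearGroup k M) : M →ₗ[k] M) - 1) = C := by
        symm
        apply Submodule.eq_of_le_of_finrank_eq hker_le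
        have := LinearMap.finrank_range_add_finrank_ker
          (((τ₁ * τ₂ : LinearMap.GeneralLinearGroup k M) : M →ₗ[k] M) - 1)
        rw [hrange] at this
        omega
      exact ⟨hmemG, hfam, by rw [hval]; exact hN, hker, hrange⟩
  -- the subgroup E_σ ∪ {1}
  let T : Subgroup (LinearMap.GeneralLinearGroup k M) :=
    { carrier := sameActionClass G σ ∪ {1}
      mul_mem' := by
        rintro a b (ha | ha) (hb | hb)
        · rcases hmul a b ((hE a).mp ha) ((hE b).mp hb) with h | h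
          · exact Or.inl ((hE _).mpr h)
          · exact Or.inr h
        · rw [Set.mem_singleton_iff] at hb
          rw [hb, mul_one]; exact Or.inl ha
        · rw [Set.mem_singleton_iff] at ha
          rw [ha, one_mul]; exact Or.inl hb
        · rw [Set.mem_singleton_iff] at ha hb
          rw [ha, hb, mul_one]; exact Or.inr rfl
      one_mem' := Or.inr rfl
      inv_mem' := by
        rintro a (ha | ha)
        · exact Or.inl ((hE _).mpr (hinv a ((hE a).mp ha)))
        · rw [Set.mem_singleton_iff] at ha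
          rw [ha, inv_one]; exact Or.inr rfl }
  have hset : (sameActionSubgroup G σ : Set (LinearMap.GeneralLinearGroup k M)) = sameActionClass G σ ∪ {1} := by
    apply Set.Subset.antisymm
    · have : sameActionSubgroup G σ ≤ T := by
        unfold sameActionSubgroup
        rw [Subgroup.closure_le]
        exact Set.subset_union_left
      exact this
    · rintro x (hx | hx)
      · exact Subgroup.subset_closure hx
      · rw [Set.mem_singleton_iff] at hx
        rw [hx]; exact Subgroup.one_mem _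
  have hmem : ∀ x ∈ sameActionSubgroup G σ, Good G C W (commutatorRank σ) x ∨ x = 1 := by
    intro x hx
    have : x ∈ (sameActionSubgroup G σ : Set (LinearMap.GeneralLinearGroup k M)) := hx
    rw [hset] at this
    rcases this with h | h
    · exact Or.inl ((hE x).mp h)
    · exact Or.inr h
  refine ⟨hset, ⟨⟨fun a b => ?_⟩⟩, ?_⟩
  · apply Subtype.ext
    show (a : LinearMap.GeneralLinearGroup k M) * b = b * a
    rcases hmem a a.2 with ha | ha <;> rcases hmem b b.2 with hb | hb
    · exact ha.comm hWC hb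
    · rw [hb, mul_one, one_mul]
    · rw [ha, mul_one, one_mul]
    · rw [ha, hb]
  · intro p hp hchar x hx
    rcases hmem x hx with h | h
    · apply Units.ext
      rw [pow_val_eq (h.mul_eq_zero hWC h), Units.val_one]
      have hp0 : (p : k) = 0 := by rw [← hchar]; exact ringChar.Nat.cast_ringChar
      rw [← Nat.cast_smul_eq_nsmul k, hp0, zero_smul, add_zero]
    · rw [h, one_pow]

end Cfsg.Agent.S5059
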