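import Cfsg.Statements.S5060
import Cfsg.Agent.Helper59.SLGenInfK
import Cfsg.Agent.Helper59.SLGenFin

set_option autoImplicit false
open Cfsg

namespace Cfsg.Agent.S5060

/-- Let k ⊆ K be fields with the characteristic of k not 2 and k not of order 3, and let α ∈ K be a non-zero element algebraic over k. Then the subgroup of SL₂(K) generated by the upper unitriangular matrices with entry c and the lower unitriangular matrices with entry cα, c ranging over k, is exactly the group of matrices of SL₂(K) with all entries in k(α). -/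
theorem result {k K : Type*} [Field k] [Field K] [Algebra k K] (hk2 : ringChar k ≠ 2) (hk3 : Nat.card k ≠ 3)
    (α : K) (hα : IsAlgebraic k α) (hα0 : α ≠ 0) :
    (Subgroup.closure ({g : Matrix.SpecialLinearGroup (Fin 2) K | ∃ c : k, (g : Matrix (Fin 2) (Fin 2) K) = !![1, algebraMap k K c; 0, 1]} ∪
        {g : Matrix.SpecialLinearGroup (Fin 2) K | ∃ c : k, (g : Matrix (Fin 2) (Fin 2) K) = !![1, 0; algebraMap k K c * α, 1]}) :
      Set (Matrix.SpecialLinearGroup (Fin 2) K)) =
    {g : Matrix.SpecialLinearGroup (Fin 2) K | ∀ i j : Fin 2, (g : Matrix (Fin 2) (Fin 2) K) i j ∈ IntermediateField.adjoin k ({α} : Set K)} := by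
  have h2 : (2 : k) ≠ 0 := Ring.two_ne_zero hk2
  have htop : Cfsg.Agent.Helper59.SLGen.XX k
      (⟨α, IntermediateField.mem_adjoin_simple_self k α⟩ : IntermediateField.adjoin k ({α} : Set K)) = ⊤ := by
    cases finite_or_infinite k with
    | inl h => exact Cfsg.Agent.Helper59.SLGen.XX_adjoin_eq_top_finite h2 hk3 α hα hα0
    | inr h => exact Cfsg.Agent.Helper59.SLGen.XX_adjoin_eq_top_infinite h2 α hα hα0
  exact Cfsg.Agent.Helper59.SLGen.transfer α (IntermediateField.adjoin k ({α} : Set K))
    (IntermediateField.mem_adjoin_simple_self k α) htop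

end Cfsg.Agent.S5060
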