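import Cfsg.Statements.S5067
-- import your own Cfsg.Agent.* helpers here

set_option autoImplicit false
open Cfsg

namespace Cfsg.Agent.S5067

open scoped commutatorElement

/-- Key lemma: if `E` is abelian then the normal closure `N` of `E` in `P` satisfies
`γ_i(N) ≤ γ_{i+1}(P)` for `i ≥ 1` (0-indexed lower central series of Mathlib). -/
theorem lcs_normalClosure_le {P : Type*} [Group P] {E : Subgroup P} (hE : IsMulCommutative ↥E) (i : ℕ) :
    (Subgroup.normalClosure (E : Set P)).lowerCentralSeries (i + 1) ≤
      (⊤ : Subgroup P).lowerCentralSeries (i + 2) := by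
  set N := Subgroup.normalClosure (E : Set P) with hN
  induction i with
  | zero =>
    -- K = γ_3(P) = [P', P]
    set K : Subgroup P := (⊤ : Subgroup P).lowerCentralSeries 2 with hK
    have hKn : K.Normal := by rw [hK]; infer_instance
    set M : Subgroup P := E ⊔ commutator P with hM
    have hMn : M.Normal := by
      -- any subgroup containing the commutator subgroup is normal
      constructor
      intro m hm g
      have h1 : g * m * g⁻¹ = (g * m * g⁻¹ * m⁻¹) * m := by group
      rw [h1]
      refine M.mul_mem ?_ hm
      apply (le_sup_right : commutator P ≤ M)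
      rw [commutator_def]
      exact Subgroup.commutator_mem_commutator (Subgroup.mem_top g) (Subgroup.mem_top m)
    have hNM : N ≤ M := Subgroup.normalClosure_le_normal (le_sup_left : E ≤ M)
    -- quotient map
    let mk := QuotientGroup.mk' K
    have hA : ∀ d ∈ commutator P, ∀ g : P, mk d * mk g = mk g * mk d := by
      intro d hd g
      have h1 : ⁅d, g⁆ ∈ K := by
        rw [hK]
        show ⁅d, g⁆ ∈ ⁅(⊤ : Subgroup P).lowerCentralSeries 1, ⊤⁆
        rw [Subgroup.top_lowerCentralSeries_one]
        exact Subgroup.commutator_mem_commutator hd (Subgroup.mem_top g)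
      have h2 : mk ⁅d, g⁆ = 1 := (QuotientGroup.eq_one_iff _).mpr h1
      rw [commutatorElement_def, map_mul, map_mul, map_mul, map_inv, map_inv] at h2
      have h3 : mk d * mk g = (mk d * mk g * (mk d)⁻¹ * (mk g)⁻¹) * (mk g * mk d) := by group
      rw [h3, h2, one_mul]
    have hB : ∀ e ∈ E, ∀ y ∈ M, mk e * mk y = mk y * mk e := by
      intro e he y hy
      have hle : M ≤ (Subgroup.centralizer {mk e}).comap mk := by
        rw [hM]
        apply sup_le
        · intro e' he'
          rw [Subgroup.mem_comap, Subgroup.mem_centralizer_singleton_iff]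
          have hcomm : e' * e = e * e' := by
            have := hE.is_comm.comm (⟨e', he'⟩ : E) ⟨e, he⟩
            exact congrArg Subtype.val this
          rw [← map_mul, ← map_mul, hcomm]
        · intro d hd
          rw [Subgroup.mem_comap, Subgroup.mem_centralizer_singleton_iff]
          exact hA d hd e
      have := hle hy
      rw [Subgroup.mem_comap, Subgroup.mem_centralizer_singleton_iff] at this
      exact this.symm
    have hC : ∀ x ∈ M, ∀ y ∈ M, mk x * mk y = mk y * mk x := by
      intro x hx y hy
      have hle : M ≤ (Subgroup.centralizer {mk y}).comap mk := by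
        rw [hM]
        apply sup_le
        · intro e he
          rw [Subgroup.mem_comap, Subgroup.mem_centralizer_singleton_iff]
          exact hB e he y hy
        · intro d hd
          rw [Subgroup.mem_comap, Subgroup.mem_centralizer_singleton_iff]
          exact hA d hd y
      have := hle hx
      rw [Subgroup.mem_comap, Subgroup.mem_centralizer_singleton_iff] at this
      exact this
    have hMM : ⁅M, M⁆ ≤ K := by
      rw [Subgroup.commutator_le]
      intro x hx y hy
      rw [← QuotientGroup.eq_one_iff]
      show mk ⁅x, y⁆ = 1
      rw [commutatorElement_def, map_mul, map_mul, map_mul, map_inv, map_inv, hC x hx y hy]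
      group
    show ⁅N.lowerCentralSeries 0, N⁆ ≤ K
    rw [Subgroup.lowerCentralSeries_zero]
    exact (Subgroup.commutator_mono hNM hNM).trans hMM
  | succ i ih =>
    show ⁅N.lowerCentralSeries (i + 1), N⁆ ≤ ⁅(⊤ : Subgroup P).lowerCentralSeries (i + 2), ⊤⁆
    exact Subgroup.commutator_mono ih le_top

theorem class_lt {P : Type*} [Group P] [Group.IsNilpotent P]
    (hna : ¬ IsMulCommutative P) {E : Subgroup P} (hE : IsMulCommutative ↥E) :
    Group.nilpotencyClass ↥(Subgroup.normalClosure (E : Set P)) < Group.nilpotencyClass P := by
  set c := Group.nilpotencyClass P with hc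
  have hc2 : 2 ≤ c := by
    by_contra hlt
    have h1 : c ≤ 1 := by omega
    exact hna (Group.IsNilpotent.nilpotencyClass_le_one_iff.mp h1)
  obtain ⟨i, hi⟩ : ∃ i, c = i + 2 := ⟨c - 2, by omega⟩
  have h1 := lcs_normalClosure_le hE i
  have h2 : (⊤ : Subgroup P).lowerCentralSeries (i + 2) = ⊥ := by
    rw [← hi, hc]
    exact Subgroup.lowerCentralSeries_nilpotencyClass
  rw [h2, le_bot_iff] at h1
  have h3 : (⊤ : Subgroup ↥(Subgroup.normalClosure (E : Set P))).lowerCentralSeries (i + 1) = ⊥ := by
    rw [← Subgroup.map_subtype_inj, Subgroup.map_bot, Subgroup.top_subtype_lowerCentralSeries]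
    exact h1
  have h4 := Subgroup.lowerCentralSeries_eq_bot_iff_nilpotencyClass_le.mp h3
  omega


/-- Let P be a non-abelian nilpotent p-group (every element of p-power order; P possibly infinite) generated by two abelian subgroups E and F. Then the normal closure of E in P, and likewise that of F, has nilpotency class strictly smaller than that of P. -/
theorem result {P : Type*} [Group P] {p : ℕ} [Fact p.Prime] (hP : IsPGroup p P) [Group.IsNilpotent P]
    (hna : ¬ IsMulCommutative P) {E F : Subgroup P} (hE : IsMulCommutative ↥E) (hF : IsMulCommutative ↥F) (hgen : E ⊔ F = ⊤) :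
    Group.nilpotencyClass ↥(Subgroup.normalClosure (E : Set P)) < Group.nilpotencyClass P ∧
    Group.nilpotencyClass ↥(Subgroup.normalClosure (F : Set P)) < Group.nilpotencyClass P := by
  exact ⟨class_lt hna hE, class_lt hna hF⟩

end Cfsg.Agent.S5067
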