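import Cfsg.Statements.S5075
import Cfsg.Agent.Helper83.McL18

set_option autoImplicit false
open Cfsg

namespace Cfsg.Agent.S5075

/-- Let p be an odd prime, V a finite-dimensional vector space over the field with p elements, and H a group of linear automorphisms of V generated by transvections (elements of order p fixing a hyperplane pointwise) and having no nontrivial normal p-subgroup. Then for some n ≥ 1 there are a decomposition V = V₀ ⊕ V₁ ⊕ ⋯ ⊕ Vₙ into H-invariant subspaces and a decomposition of H as the internal direct product of normal subgroups H₁, …, Hₙ such that Hⱼ acts trivially on every Vᵢ with i ≠ j, and Hⱼ induces on Vⱼ exactly the special linear group of Vⱼ or exactly the isometry group of a non-degenerate alternating form on Vⱼ. -/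
theorem result {p : ℕ} [Fact p.Prime] (hp : Odd p) {V : Type*} [AddCommGroup V] [Module (ZMod p) V] [Finite V]
    (H : Subgroup (V ≃ₗ[ZMod p] V)) (T : Set (V ≃ₗ[ZMod p] V)) (hHT : H = Subgroup.closure T)
    (hT : ∀ t ∈ T, orderOf t = p ∧
      Module.finrank (ZMod p) ↥(LinearMap.ker ((t : V →ₗ[ZMod p] V) - LinearMap.id)) + 1 =
        Module.finrank (ZMod p) V)
    (hOp : Cfsg.pCore p ↥H = ⊥) :
    ∃ (n : ℕ) (W : Fin (n + 1) → Submodule (ZMod p) V) (K : Fin n → Subgroup (V ≃ₗ[ZMod p] V)),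
      1 ≤ n ∧ DirectSum.IsInternal W ∧
      (∀ h ∈ H, ∀ i, (W i).map (h : V →ₗ[ZMod p] V) = W i) ∧
      (∀ j, K j ≤ H ∧ ((K j).subgroupOf H).Normal) ∧ ⨆ j, K j = H ∧
      (∀ j, K j ⊓ (⨆ j' ∈ {j' : Fin n | j' ≠ j}, K j') = ⊥) ∧
      (∀ j j', j ≠ j' → ∀ a ∈ K j, ∀ b ∈ K j', a * b = b * a) ∧
      (∀ j, ∀ h ∈ K j, ∀ i : Fin (n + 1), i ≠ j.succ → ∀ v ∈ W i, h v = v) ∧
      (∀ j, ∃ ρ : ↥(K j) →* (↥(W j.succ) ≃ₗ[ZMod p] ↥(W j.succ)),
        (∀ (h : ↥(K j)) (v : ↥(W j.succ)), ((ρ h v : ↥(W j.succ)) : V) = (h : V ≃ₗ[ZMod p] V) (v : V)) ∧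
        ((ρ.range : Set (↥(W j.succ) ≃ₗ[ZMod p] ↥(W j.succ))) =
            {f : ↥(W j.succ) ≃ₗ[ZMod p] ↥(W j.succ) | LinearMap.det (f : ↥(W j.succ) →ₗ[ZMod p] ↥(W j.succ)) = 1} ∨
          ∃ B : LinearMap.BilinForm (ZMod p) ↥(W j.succ), B.IsAlt ∧ B.Nondegenerate ∧
            (ρ.range : Set (↥(W j.succ) ≃ₗ[ZMod p] ↥(W j.succ))) = {f : ↥(W j.succ) ≃ₗ[ZMod p] ↥(W j.succ) | ∀ x y, B (f x) (f y) = B x y})) := by
  classical
  have h2 : (2 : ZMod p) ≠ 0 := by
    intro h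
    have h' : ((2 : ℕ) : ZMod p) = 0 := by exact_mod_cast h
    rw [ZMod.natCast_eq_zero_iff] at h'
    have hp2 : p = 2 := (Nat.prime_dvd_prime_iff_eq (Fact.out : p.Prime) Nat.prime_two).mp h'
    rw [hp2] at hp
    exact absurd hp (by decide)
  have hnn : ∀ N : Subgroup ↥H, N.Normal → IsPGroup p N → N = ⊥ := by
    intro N hN hpN
    rw [eq_bot_iff, ← hOp]
    unfold Cfsg.pCore
    exact le_sSup ⟨hN, hpN⟩
  have hS : Helper83.McL.Std H := Helper83.McL.std_of_hyp T hHT hT hnn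
  by_cases hex : ∃ c, Helper83.McL.IsCen H c
  · obtain ⟨n, rep, hn, hrep, hdis, hcov⟩ := Helper83.McL.exists_reps hex
    obtain ⟨W, hW⟩ : ∃ W : Fin (n + 1) → Submodule (ZMod p) V,
        W = Fin.cons (Helper83.McL.Cfix H) (fun j => Helper83.McL.VC H (rep j)) := ⟨_, rfl⟩
    have hW0 : W 0 = Helper83.McL.Cfix H := by rw [hW]; rfl
    have hWs : ∀ j : Fin n, W j.succ = Helper83.McL.VC H (rep j) := by
      intro j
      rw [hW, Fin.cons_succ]
    refine ⟨n, W, fun j => Helper83.McL.HC H (rep j), hn,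
      Helper83.McL.pack_internal hS h2 rep hrep hdis hcov W hW0 hWs,
      Helper83.McL.pack_invariant hS rep W hW0 hWs,
      fun j => ⟨Helper83.McL.HC_le _, Helper83.McL.HC_normal hS _⟩,
      Helper83.McL.pack_iSup hS rep hcov,
      Helper83.McL.pack_disjoint hS h2 rep hrep hdis hcov W hW0 hWs,
      fun j j' hjj' => Helper83.McL.pack_commute hS h2 rep hrep hdis hcov W hW0 hWs j j' hjj',
      Helper83.McL.pack_fix rep hdis W hW0 hWs, fun j => ?_⟩
    have hinv : ∀ g ∈ Helper83.McL.HC H (rep j), ∀ x ∈ W j.succ, g x ∈ W j.succ := by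
      intro g hg x hx
      rw [hWs] at hx ⊢
      exact Helper83.McL.VC_invariant hS _ g (Helper83.McL.HC_le _ hg) x hx
    exact ⟨Helper83.McL.restrHom _ _ hinv, Helper83.McL.restrHom_apply _ _ hinv,
      Helper83.McL.pack_range hS h2 (hrep j) _ (hWs j) _ (Helper83.McL.restrHom_apply _ _ hinv)⟩
  · have hH : H = ⊥ := Helper83.McL.eq_bot_of_no_cen hS hex
    obtain ⟨W, hW⟩ : ∃ W : Fin (1 + 1) → Submodule (ZMod p) V,
        W = Fin.cons ⊤ (fun _ => ⊥) := ⟨_, rfl⟩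
    have hW0 : W 0 = ⊤ := by rw [hW]; rfl
    have hW1 : W 1 = ⊥ := by rw [hW]; rfl
    have hWs : ∀ j : Fin 1, W j.succ = ⊥ := by
      intro j
      rw [hW, Fin.cons_succ]
    obtain ⟨hint, hinvt⟩ := Helper83.McL.pack_trivial hH W hW0 hW1
    refine ⟨1, W, fun _ => ⊥, le_rfl, hint, hinvt, fun j => ⟨bot_le, ?_⟩, ?_, ?_, ?_, ?_, fun j => ?_⟩
    · rw [Subgroup.bot_subgroupOf]
      infer_instance
    · rw [hH]
      simp
    · intro j
      exact bot_inf_eq _
    · intro j j' hjj'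
      exact absurd (Subsingleton.elim j j') hjj'
    · intro j h hh i _ v _
      rw [Subgroup.mem_bot] at hh
      rw [hh]
      rfl
    · obtain ⟨ρ, hρ1, hρ2⟩ := Helper83.McL.pack_range_bot (W j.succ) (hWs j) (⊥ : Subgroup (V ≃ₗ[ZMod p] V))
      exact ⟨ρ, hρ1, Or.inl hρ2⟩

end Cfsg.Agent.S5075
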