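import Cfsg.Statements.S5078
-- import your own Cfsg.Agent.* helpers here

set_option autoImplicit false
open Cfsg

namespace Cfsg.Agent.S5078

/-- In any fusion system over a finite subgroup S, a receptive subgroup is fully centralized. -/
theorem result {Ω : Type*} [Group Ω] {S : Subgroup Ω} [Finite S] (F : Cfsg.FusionSystem S) (P : Subgroup Ω) (hP : F.IsReceptive P) : F.IsFullyCentralized P := by
  obtain ⟨hPS, hrec⟩ := hP
  refine ⟨hPS, ?_⟩
  rintro Q ⟨φ, hφ, rfl⟩
  obtain ⟨ψ, hψ, hψx⟩ := F.inv_mem hφ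
  have hQS : φ.range ≤ S := (F.le_of_mem hψ).1
  have hψS : ∀ y : φ.range, ψ y ∈ S := (F.le_of_mem hψ).2
  have hψrange : ψ.range = P := by
    apply le_antisymm
    · rintro _ ⟨⟨_, x, rfl⟩, rfl⟩
      rw [hψx]
      exact x.2
    · intro x hx
      exact ⟨⟨φ ⟨x, hx⟩, ⟨x, hx⟩, rfl⟩, hψx ⟨x, hx⟩⟩
  obtain ⟨χ, hχ, hχx⟩ := hrec φ.range ψ hψ hψrange
  have hχS : ∀ y, χ y ∈ S := (F.le_of_mem hχ).2
  have hχinj : Function.Injective χ := F.injective_of_mem hχ
  -- Q ≤ N_ψ
  have hQN : φ.range ≤ FusionSystem.extender S φ.range ψ := by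
    intro g hg
    apply Subgroup.subset_closure
    refine ⟨hQS hg, Subgroup.le_normalizer hg, ψ ⟨g, hg⟩, hψS _, ?_⟩
    intro x hx
    have : (⟨g * x * g⁻¹, hx⟩ : φ.range) = ⟨g, hg⟩ * x * ⟨g, hg⟩⁻¹ := by
      apply Subtype.ext
      simp
    rw [this, map_mul, map_mul, map_inv]
  -- C_S(Q) ≤ N_ψ
  have hCN : FusionSystem.centralizerIn S φ.range ≤ FusionSystem.extender S φ.range ψ := by
    intro g hg
    have hgS : g ∈ S := hg.1
    have hgC : g ∈ Subgroup.centralizer (φ.range : Set Ω) := hg.2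
    apply Subgroup.subset_closure
    refine ⟨hgS, Subgroup.centralizer_le_normalizer _ hgC, 1, S.one_mem, ?_⟩
    intro x hx
    have hcomm : g * (x : Ω) * g⁻¹ = x := by
      have := hgC (x : Ω) x.2
      rw [← this]
      simp
    have : (⟨g * x * g⁻¹, hx⟩ : φ.range) = x := by
      apply Subtype.ext
      exact hcomm
    rw [this]
    simp
  -- the injection C_S(Q) → C_S(P)
  have hmem : ∀ c : FusionSystem.centralizerIn S φ.range,
      χ ⟨c, hCN c.2⟩ ∈ FusionSystem.centralizerIn S P := by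
    intro c
    refine ⟨hχS _, ?_⟩
    show χ ⟨c, hCN c.2⟩ ∈ Subgroup.centralizer (P : Set Ω)
    rw [Subgroup.mem_centralizer_iff]
    intro p hp
    -- p = ψ (φ p) = χ (φ p)
    have hy : φ ⟨p, hp⟩ ∈ φ.range := ⟨⟨p, hp⟩, rfl⟩
    have h1 : χ ⟨φ ⟨p, hp⟩, hQN hy⟩ = p := by
      rw [hχx _ hy (hQN hy)]
      exact hψx ⟨p, hp⟩
    rw [← h1, ← map_mul, ← map_mul]
    congr 1
    apply Subtype.ext
    have hcC : (c : Ω) ∈ Subgroup.centralizer (φ.range : Set Ω) := c.2.2
    exact hcC _ hy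
  have : Finite (FusionSystem.centralizerIn S P) :=
    Finite.of_injective (Subgroup.inclusion (inf_le_left : FusionSystem.centralizerIn S P ≤ S))
      (Subgroup.inclusion_injective _)
  apply Nat.card_le_card_of_injective
    (fun c : FusionSystem.centralizerIn S φ.range =>
      (⟨χ ⟨c, hCN c.2⟩, hmem c⟩ : FusionSystem.centralizerIn S P))
  intro a b hab
  have h1 : χ ⟨a, hCN a.2⟩ = χ ⟨b, hCN b.2⟩ := congrArg Subtype.val hab
  have h2 := hχinj h1
  apply Subtype.ext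
  exact congrArg (fun z : FusionSystem.extender S φ.range ψ => (z : Ω)) h2

end Cfsg.Agent.S5078
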