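import Cfsg.Statements.S5093
import Cfsg.Agent.S5076
import Cfsg.Agent.S5092
import Cfsg.Agent.Helper87.SylowNormal
import Cfsg.Agent.Helper2.Basic

set_option autoImplicit false
open Cfsg

namespace Cfsg.Agent.S5093

open Cfsg.FusionSystem Cfsg.Agent.Helper87
open scoped Pointwise commutatorElement

/-- an element killed by a power of `p` and by a number prime to `p` is trivial -/
theorem eq_one_of_pow_of_coprime {A : Type*} [Group A] {x : A} {p j m : ℕ} (hj : x ^ (p ^ j) = 1)
    (hm : x ^ m = 1) (hcop : m.Coprime p) : x = 1 := by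
  have h1 : orderOf x ∣ p ^ j := orderOf_dvd_of_pow_eq_one hj
  have h2 : orderOf x ∣ m := orderOf_dvd_of_pow_eq_one hm
  have hc : Nat.Coprime (p ^ j) m := (Nat.Coprime.pow_left j hcop.symm)
  exact orderOf_eq_one_iff.mp (Nat.eq_one_of_dvd_coprimes hc h1 h2)

/-- Induction principle for `O^p` of a group of automorphisms: a property of the form
`x⁻¹ α(x) ∈ L` holds for all `α ∈ O^p(A)` as soon as it holds for the `p'`-elements of `A`. -/
theorem inv_mul_mem_of_pResidual {Γ : Type*} [Group Γ] {P : Subgroup Γ} (A : Subgroup (MulAut P)) (p : ℕ)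
    (L : Subgroup Γ)
    (h : ∀ α : MulAut P, α ∈ A → (orderOf α).Coprime p → ∀ x : P, (x : Γ)⁻¹ * (α x : P) ∈ L)
    (α : A) (hα : α ∈ pResidual p A) : ∀ x : P, (x : Γ)⁻¹ * ((α : MulAut P) x : P) ∈ L := by
  unfold pResidual at hα
  induction hα using Subgroup.closure_induction with
  | mem β hβ =>
    have hβ' : (orderOf β).Coprime p := hβ
    rw [← Subgroup.orderOf_coe] at hβ'
    exact h β β.2 hβ'
  | one =>
    intro x
    simp
  | mul β γ _ _ ihβ ihγ =>
    intro x
    have e : (x : Γ)⁻¹ * ((((β * γ : A) : MulAut P) x : P) : Γ) =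
        ((x : Γ)⁻¹ * (((γ : MulAut P) x : P) : Γ)) *
          ((((γ : MulAut P) x : P) : Γ)⁻¹ * (((β : MulAut P) ((γ : MulAut P) x) : P) : Γ)) := by
      rw [Subgroup.coe_mul, MulAut.mul_apply]
      group
    rw [e]
    exact L.mul_mem (ihγ x) (ihβ _)
  | inv β _ ih =>
    intro x
    have e : (x : Γ)⁻¹ * ((((β⁻¹ : A) : MulAut P) x : P) : Γ) =
        (((((β : MulAut P)⁻¹ x : P)) : Γ)⁻¹ * (((β : MulAut P) ((β : MulAut P)⁻¹ x) : P) : Γ))⁻¹ := by
      rw [Subgroup.coe_inv, MulAut.apply_inv_self]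
      group
    rw [e]
    exact L.inv_mem (ih _)

/-- powers of a conjugation automorphism -/
theorem aut_pow_apply {Γ : Type*} [Group Γ] {P : Subgroup Γ} (α : MulAut P) (g : Γ)
    (h : ∀ x : P, ((α x : P) : Γ) = g * x * g⁻¹) (j : ℕ) (x : P) :
    (((α ^ j) x : P) : Γ) = g ^ j * x * (g ^ j)⁻¹ := by
  induction j generalizing x with
  | zero => simp
  | succ j ih =>
    rw [pow_succ, MulAut.mul_apply, ih, h, pow_succ]
    group

variable {G : Type*} [Group G]

/-- Lemma H: conjugation by an element `u ∈ N_G(P)` some `p'`-power of which centralizes `P` produces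
elements of the hyperfocal subgroup of `F_S(G)`. -/
theorem inv_mul_conj_mem_hyperfocal [Finite G] {p : ℕ} [Fact p.Prime] {S P : Subgroup G} (hP : P ≤ S)
    {u : G} (hu : u ∈ Subgroup.normalizer (P : Set G)) {m : ℕ} (hm : m.Coprime p)
    (hum : ∀ x ∈ P, u ^ m * x * (u ^ m)⁻¹ = x) (x : G) (hx : x ∈ P) :
    x⁻¹ * (u * x * u⁻¹) ∈ (groupFusionSystem S).hyperfocalSubgroup p := by
  set α := Cfsg.Agent.S5076.normToAut (S := S) hP ⟨u, hu⟩ with hα
  have hαm : α ^ m = 1 := by
    rw [hα, ← map_pow]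
    apply Subtype.ext
    ext y
    rw [Cfsg.Agent.S5076.normToAut_apply]
    exact hum y y.2
  have hord : (orderOf α).Coprime p :=
    Nat.Coprime.coprime_dvd_left (orderOf_dvd_of_pow_eq_one hαm) hm
  have hres : α ∈ pResidual p ((groupFusionSystem S).autGroup P) :=
    Cfsg.Agent.Lib.mem_pResidual_of_coprime hord
  exact Cfsg.Agent.S5092.mem_hyperfocal (groupFusionSystem S) p hP α hres ⟨x, hx⟩

/-- The easy inclusion of the hyperfocal subgroup theorem. -/
theorem hyperfocal_le [Finite G] (p : ℕ) [Fact p.Prime] (S : Sylow p G) :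
    (groupFusionSystem (S : Subgroup G)).hyperfocalSubgroup p ≤ (S : Subgroup G) ⊓ pResidual p G := by
  unfold FusionSystem.hyperfocalSubgroup
  rw [Subgroup.closure_le]
  rintro y ⟨P, α, x, hPS, hα, rfl⟩
  refine ⟨?_, ?_⟩
  · exact Subgroup.mul_mem _ (Subgroup.inv_mem _ (hPS x.2)) (hPS ((α : MulAut P) x).2)
  · refine inv_mul_mem_of_pResidual _ p (pResidual p G) ?_ α hα x
    intro β hβ hcop z
    obtain ⟨g, hg⟩ := Cfsg.Agent.S5076.exists_conj_of_mem_autGroup hPS β hβ
    -- g ^ (p ^ k) ∈ O^p(G)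
    obtain ⟨k, hk⟩ := (Cfsg.Agent.Lib.isPGroup_quotient_pResidual (G := G) p) (g : G ⧸ pResidual p G)
    have hgk : g ^ (p ^ k) ∈ pResidual p G := by
      rw [← QuotientGroup.eq_one_iff, QuotientGroup.mk_pow]
      exact hk
    obtain ⟨t, ht⟩ := exists_pow_eq_self_of_coprime (x := β) (Nat.Coprime.pow_left k hcop.symm)
    have hβz : ((β z : P) : G) = (g ^ (p ^ k)) ^ t * z * ((g ^ (p ^ k)) ^ t)⁻¹ := by
      conv_lhs => rw [← ht, ← pow_mul]
      rw [aut_pow_apply β g hg, pow_mul]
    rw [hβz]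
    have hh : (g ^ (p ^ k)) ^ t ∈ pResidual p G := Subgroup.pow_mem _ hgk t
    have e : (z : G)⁻¹ * ((g ^ (p ^ k)) ^ t * z * ((g ^ (p ^ k)) ^ t)⁻¹) =
        ((z : G)⁻¹ * (g ^ (p ^ k)) ^ t * (z : G)⁻¹⁻¹) * ((g ^ (p ^ k)) ^ t)⁻¹ := by group
    rw [e]
    exact Subgroup.mul_mem _ ((Cfsg.Agent.Lib.pResidual_normal p).conj_mem _ hh _) (Subgroup.inv_mem _ hh)

/-- In a finite group generated by `p'`-elements, every `p`-element lies in the commutator subgroup. -/
theorem mem_commutator_of_pElement {K : Type*} [Group K] [Finite K] {p : ℕ} [Fact p.Prime]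
    (hgen : Subgroup.closure {x : K | (orderOf x).Coprime p} = ⊤) {x : K} {j : ℕ} (hx : x ^ (p ^ j) = 1) :
    x ∈ commutator K := by
  have hp : p.Prime := Fact.out
  have hn0 : Nat.card (Abelianization K) ≠ 0 := Nat.card_pos.ne'
  obtain ⟨a, m, hm, hn⟩ := Nat.exists_eq_pow_mul_and_not_dvd hn0 p hp.ne_one
  have hmcop : m.Coprime p := ((Nat.Prime.coprime_iff_not_dvd hp).mpr hm).symm
  have hall : ∀ y : K, (Abelianization.of y) ^ m = 1 := by
    have htop : ((powMonoidHom m : Abelianization K →* Abelianization K).ker).comap Abelianization.of = ⊤ := by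
      rw [eq_top_iff, ← hgen, Subgroup.closure_le]
      intro y hy
      have hy' : (orderOf y).Coprime p := hy
      rw [SetLike.mem_coe, Subgroup.mem_comap, MonoidHom.mem_ker, powMonoidHom_apply]
      have h1 : orderOf (Abelianization.of y) ∣ orderOf y := orderOf_map_dvd _ y
      have h2 : orderOf (Abelianization.of y) ∣ p ^ a * m := by
        rw [← hn]; exact orderOf_dvd_natCard _
      have h3 : (orderOf (Abelianization.of y)).Coprime (p ^ a) :=
        Nat.Coprime.pow_right a (Nat.Coprime.coprime_dvd_left h1 hy')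
      have h4 : orderOf (Abelianization.of y) ∣ m := h3.dvd_of_dvd_mul_left h2
      exact orderOf_dvd_iff_pow_eq_one.mp h4
    intro y
    have : y ∈ ((powMonoidHom m : Abelianization K →* Abelianization K).ker).comap Abelianization.of := by
      rw [htop]; exact Subgroup.mem_top y
    rwa [Subgroup.mem_comap, MonoidHom.mem_ker, powMonoidHom_apply] at this
  have h1 : (Abelianization.of x) ^ (p ^ j) = 1 := by rw [← map_pow, hx, map_one]
  have h2 : Abelianization.of x = 1 := eq_one_of_pow_of_coprime h1 (hall x) hmcop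
  rw [← Abelianization.ker_of, MonoidHom.mem_ker]
  exact h2

/-- `O^p(G)`, as a group, is generated by its `p'`-elements. -/
theorem closure_coprime_pResidual (p : ℕ) :
    Subgroup.closure {x : ↥(pResidual p G) | (orderOf x).Coprime p} = ⊤ := by
  have h := Subgroup.closure_closure_coe_preimage (k := {g : G | Nat.Coprime (orderOf g) p})
  have hset : {x : ↥(pResidual p G) | (orderOf x).Coprime p} =
      ((↑) : ↥(Subgroup.closure {g : G | Nat.Coprime (orderOf g) p}) → G) ⁻¹' {g : G | Nat.Coprime (orderOf g) p} := by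
    ext x
    show (orderOf x).Coprime p ↔ (orderOf (x : G)).Coprime p
    rw [Subgroup.orderOf_coe]
  rw [hset]
  exact h

/-- Lemma N: in a finite nilpotent group `Q`, a subgroup `H` with `Q = H [Q,Q]` is all of `Q`. -/
theorem le_of_le_sup_commutator {Γ : Type*} [Group Γ] {Q H : Subgroup Γ} [Finite Q] [Group.IsNilpotent Q]
    (hHQ : H ≤ Q) (h : Q ≤ H ⊔ ⁅Q, Q⁆) : Q ≤ H := by
  have h1 : (H.subgroupOf Q ⊔ commutator Q).map Q.subtype = H ⊔ ⁅Q, Q⁆ := by
    rw [Subgroup.map_sup, Subgroup.subgroupOf_map_subtype, Subgroup.map_subtype_commutator,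
      inf_eq_left.mpr hHQ]
  have h2 : (⊤ : Subgroup Q) ≤ H.subgroupOf Q ⊔ commutator Q := by
    rw [← Subgroup.map_le_map_iff_of_injective (Subgroup.subtype_injective Q), h1, ← MonoidHom.range_eq_map,
      Subgroup.range_subtype]
    exact h
  have h3 : H.subgroupOf Q ⊔ frattini Q = ⊤ := by
    rw [eq_top_iff]
    exact h2.trans (sup_le_sup_left Cfsg.Agent.Helper2.commutator_le_frattini _)
  have h4 : H.subgroupOf Q = ⊤ := frattini_nongenerating h3
  exact Subgroup.subgroupOf_eq_top.mp h4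

/-- Mathlib's focal subgroup of a Sylow subgroup lies in the focal subgroup of the fusion system `F_Q(Γ)`. -/
theorem focalSubgroup_le_focal {Γ : Type*} [Group Γ] (Q : Subgroup Γ) :
    Subgroup.focalSubgroup Q ≤ (groupFusionSystem Q).focalSubgroup := by
  rw [Subgroup.focalSubgroup_def, Subgroup.closure_le]
  rintro g ⟨hgQ, x, hxQ, u, rfl⟩
  -- u x⁻¹ u⁻¹ ∈ Q
  have h1 : u * x⁻¹ * u⁻¹ ∈ Q := by
    have : u * x⁻¹ * u⁻¹ = x⁻¹ * ⁅x, u⁆ := by rw [commutatorElement_def]; group
    rw [this]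
    exact Q.mul_mem (Q.inv_mem hxQ) hgQ
  have h2 : u * x * u⁻¹ ∈ Q := by
    have : u * x * u⁻¹ = (u * x⁻¹ * u⁻¹)⁻¹ := by group
    rw [this]
    exact Q.inv_mem h1
  have hle : Subgroup.zpowers x ≤ Q := by
    rw [Subgroup.zpowers_le]; exact hxQ
  have hconj : Subgroup.zpowers x ≤ Q.comap (MulAut.conj u).toMonoidHom := by
    rw [Subgroup.zpowers_le, Subgroup.mem_comap]
    exact h2
  apply Subgroup.subset_closure
  refine ⟨Subgroup.zpowers x, conjHom (Subgroup.zpowers x) u,
    ⟨x⁻¹, Subgroup.inv_mem _ (Subgroup.mem_zpowers x)⟩, ⟨hle, fun z => ?_, u, fun z => rfl⟩, ?_⟩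
  · exact hconj z.2
  · rw [conjHom_apply, commutatorElement_def]
    simp only [inv_inv]
    group

/-- For a finite group `Γ` generated by its `p'`-elements, a Sylow `p`-subgroup `Q` equals the hyperfocal
subgroup of `F_Q(Γ)`. -/
theorem sylow_le_hyperfocal_of_gen {Γ : Type*} [Group Γ] [Finite Γ] (p : ℕ) [Fact p.Prime] (Q : Sylow p Γ)
    (hgen : Subgroup.closure {x : Γ | (orderOf x).Coprime p} = ⊤) :
    (Q : Subgroup Γ) ≤ (groupFusionSystem (Q : Subgroup Γ)).hyperfocalSubgroup p := by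
  have hQc : (Q : Subgroup Γ) ≤ commutator Γ := by
    intro x hx
    obtain ⟨j, hj⟩ := Q.2 ⟨x, hx⟩
    have hj' : x ^ (p ^ j) = 1 := by
      have := congrArg Subtype.val hj
      simpa using this
    exact mem_commutator_of_pElement hgen hj'
  have hfoc : (Q : Subgroup Γ) = Subgroup.focalSubgroup (Q : Subgroup Γ) := by
    rw [← Subgroup.commutator_inf_eq_focalSubgroup Q]
    exact (inf_eq_right.mpr hQc).symm
  have h5092 := Cfsg.Agent.S5092.result p Q.2 (groupFusionSystem (Q : Subgroup Γ)) (Cfsg.Agent.S5076.result p Q)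
  have hle : (Q : Subgroup Γ) ≤ (groupFusionSystem (Q : Subgroup Γ)).hyperfocalSubgroup p ⊔ ⁅(Q : Subgroup Γ), (Q : Subgroup Γ)⁆ := by
    rw [← h5092]
    calc (Q : Subgroup Γ) = Subgroup.focalSubgroup (Q : Subgroup Γ) := hfoc
      _ ≤ _ := focalSubgroup_le_focal _
  have hhypQ : (groupFusionSystem (Q : Subgroup Γ)).hyperfocalSubgroup p ≤ (Q : Subgroup Γ) :=
    (hyperfocal_le p Q).trans inf_le_left
  have : Group.IsNilpotent (Q : Subgroup Γ) := Q.2.isNilpotent
  exact le_of_le_sup_commutator hhypQ hle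

/-- Transport: for a subgroup `K` of `G` with Sylow `p`-subgroup `S ∩ K`, the hyperfocal subgroup of
`F_{S∩K}(K)` (computed inside the group `K`) maps into the hyperfocal subgroup of `F_S(G)`. -/
theorem hyperfocal_le_comap [Finite G] (p : ℕ) [Fact p.Prime] (S : Sylow p G) (K : Subgroup G)
    (PK : Sylow p K) (hPK : (PK : Subgroup K) = (S : Subgroup G).subgroupOf K) :
    (groupFusionSystem (PK : Subgroup K)).hyperfocalSubgroup p ≤
      ((groupFusionSystem (S : Subgroup G)).hyperfocalSubgroup p).comap K.subtype := by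
  refine (Subgroup.closure_le _).mpr ?_
  rintro y ⟨P', α', x', hP', hα', rfl⟩
  refine inv_mul_mem_of_pResidual _ p
    (((groupFusionSystem (S : Subgroup G)).hyperfocalSubgroup p).comap K.subtype) ?_ α' hα' x'
  intro β hβ hcop z
  obtain ⟨u, hu⟩ := Cfsg.Agent.S5076.exists_conj_of_mem_autGroup hP' β hβ
  have hβm : β ^ orderOf β = 1 := pow_orderOf_eq_one β
  have hum' : ∀ w : P', u ^ orderOf β * (w : K) * (u ^ orderOf β)⁻¹ = w := by
    intro w
    have := aut_pow_apply β u hu (orderOf β) w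
    rw [hβm] at this
    exact this.symm
  have hPS : P'.map K.subtype ≤ (S : Subgroup G) := by
    rintro _ ⟨w, hw, rfl⟩
    have h1 : w ∈ (PK : Subgroup K) := hP' hw
    rw [hPK, Subgroup.mem_subgroupOf] at h1
    exact h1
  have huN : (u : G) ∈ Subgroup.normalizer ((P'.map K.subtype : Subgroup G) : Set G) := by
    apply Cfsg.Agent.Helper48.mem_normalizer_of_conjSub_le
    rintro _ ⟨_, ⟨w, hw, rfl⟩, rfl⟩
    refine ⟨(β ⟨w, hw⟩ : P'), (β ⟨w, hw⟩).2, ?_⟩
    have := hu ⟨w, hw⟩
    show (((β ⟨w, hw⟩ : P') : K) : G) = (u : G) * (w : G) * (u : G)⁻¹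
    rw [this]
    rfl
  have hum : ∀ y ∈ P'.map K.subtype, (u : G) ^ orderOf β * y * ((u : G) ^ orderOf β)⁻¹ = y := by
    rintro _ ⟨w, hw, rfl⟩
    have := congrArg Subtype.val (hum' ⟨w, hw⟩)
    simpa using this
  have key := inv_mul_conj_mem_hyperfocal (p := p) hPS huN hcop hum (z : K) ⟨z, z.2, rfl⟩
  rw [Subgroup.mem_comap]
  have e : K.subtype ((z : K)⁻¹ * ((β z : P') : K)) = ((z : K) : G)⁻¹ * ((u : G) * ((z : K) : G) * (u : G)⁻¹) := by
    rw [hu z]
    rfl
  rw [e]
  exact key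

/-- Hyperfocal subgroup Theorem: for a finite group G with Sylow p-subgroup S, the hyperfocal subgroup of the fusion system of G on S equals S ∩ O^p(G), where O^p(G) is the subgroup generated by the elements of order prime to p. -/
theorem result {G : Type*} [Group G] [Finite G] (p : ℕ) [Fact p.Prime] (S : Sylow p G) : (Cfsg.groupFusionSystem (S : Subgroup G)).hyperfocalSubgroup p = (S : Subgroup G) ⊓ Cfsg.pResidual p G := by
  apply le_antisymm (hyperfocal_le p S)
  intro y hy
  obtain ⟨hyS, hyK⟩ := hy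
  obtain ⟨PK, hPK⟩ := exists_sylow_subgroupOf_normal S (pResidual p G)
  have h1 := sylow_le_hyperfocal_of_gen p PK (closure_coprime_pResidual p)
  have h2 := hyperfocal_le_comap p S (pResidual p G) PK hPK
  have hy' : (⟨y, hyK⟩ : pResidual p G) ∈ (PK : Subgroup (pResidual p G)) := by
    rw [hPK, Subgroup.mem_subgroupOf]
    exact hyS
  exact h2 (h1 hy')

end Cfsg.Agent.S5093
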