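-- Statement S5102: a normal p-subgroup of G is normal in the fusion system F_S(G).
import Cfsg.Statements.S5102
import Cfsg.Agent.Helper85.Basic

set_option autoImplicit false
open Cfsg

namespace Cfsg.Agent.S5102

open Cfsg.Agent.Helper85 Cfsg.FusionSystem

/-- Let G be a finite group, p a prime, S a Sylow p-subgroup of G, and R a normal p-subgroup of G. Then R is normal in the fusion system F_S(G). -/
theorem result {G : Type*} [Group G] [Finite G] (p : ℕ) [Fact p.Prime] (S : Sylow p G) (R : Subgroup G) [R.Normal] (hR : IsPGroup p R) : (Cfsg.groupFusionSystem (S : Subgroup G)).IsNormal R := by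
  have hRS : R ≤ (S : Subgroup G) := hR.le_sylow_of_normal S
  have hn : ∀ (g y : G), y ∈ R → g * y * g⁻¹ ∈ R := fun g y hy => Subgroup.Normal.conj_mem inferInstance y hy g
  refine ⟨hRS, fun P φ hφ => ?_⟩
  obtain ⟨hP, hφS, g, hg⟩ := hφ
  have hmem : ∀ x : ↥(P ⊔ R), conjHom (P ⊔ R) g x ∈ (S : Subgroup G) := by
    refine forall_mem_of_sup ((S : Subgroup G).comap (conjHom (P ⊔ R) g)) (fun x => ?_) (fun x => ?_)
    · show g * (x : G) * g⁻¹ ∈ (S : Subgroup G)
      rw [← hg]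
      exact hφS x
    · show g * (x : G) * g⁻¹ ∈ (S : Subgroup G)
      exact hRS (hn g x x.2)
  refine ⟨conjHom (P ⊔ R) g, ⟨sup_le hP hRS, hmem, g, fun x => rfl⟩, fun x => (hg x).symm, ?_⟩
  rw [map_subgroupOf_eq_iff]
  refine ⟨fun x hx => hn g x hx, fun y hy => ?_⟩
  have hy' : g⁻¹ * y * g ∈ R := by
    have := hn g⁻¹ y hy
    rwa [inv_inv] at this
  refine ⟨⟨g⁻¹ * y * g, (le_sup_right : R ≤ P ⊔ R) hy'⟩, hy', ?_⟩
  show g * (g⁻¹ * y * g) * g⁻¹ = y
  group

end Cfsg.Agent.S5102
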