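import Cfsg.Statements.S5103
import Cfsg.Agent.Helper85.Realize
import Cfsg.Agent.Lib.Cores

set_option autoImplicit false
open Cfsg

namespace Cfsg.Agent.S5103

open Cfsg.FusionSystem Cfsg.Agent.Helper85 Cfsg.Agent.Helper87

/-- The preimage of `O_p(G)` under the realizing map of a model is normal and centric in the system. -/
theorem exists_normal_centric {Ω : Type*} [Group Ω] {S : Subgroup Ω} [Finite S] (p : ℕ) [Fact p.Prime]
    (F : Cfsg.FusionSystem S) {G : Type*} [Group G] (ι : S →* G) (hG : F.IsModel p G ι) :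
    ∃ Q : Subgroup Ω, F.IsNormal Q ∧ F.IsCentric Q := by
  obtain ⟨hfin, ⟨hinj, hreal⟩, ⟨T, hT⟩, hcent⟩ := hG
  have hOn : (Cfsg.pCore p G).Normal := by
    have : (Cfsg.pCore p G).Characteristic := Cfsg.Agent.Lib.pCore_characteristic p
    infer_instance
  have hOT : Cfsg.pCore p G ≤ ι.range := by
    rw [← hT]
    exact Cfsg.Agent.Lib.pCore_le_sylow T
  have hQS : preimageAlong ι (Cfsg.pCore p G) ≤ S := preimageAlong_le ι _
  have hmemQ : ∀ (y : Ω) (hy : y ∈ S), y ∈ preimageAlong ι (Cfsg.pCore p G) ↔ ι ⟨y, hy⟩ ∈ Cfsg.pCore p G := by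
    intro y hy
    rw [mem_preimageAlong]
    exact ⟨fun ⟨_, h⟩ => h, fun h => ⟨hy, h⟩⟩
  have hconjO : ∀ (g x : G), x ∈ Cfsg.pCore p G → g * x * g⁻¹ ∈ Cfsg.pCore p G := fun g x hx => hOn.conj_mem x hx g
  have hFinQ : Finite (preimageAlong ι (Cfsg.pCore p G) : Subgroup Ω) := Cfsg.Agent.Helper87.finite_of_le hQS
  -- a map given by conjugation by `g` sends `Q` onto `Q`
  have honto : ∀ (g : G) (y : Ω) (hy : y ∈ preimageAlong ι (Cfsg.pCore p G)),
      ∃ (x : Ω) (hxS : x ∈ S), x ∈ preimageAlong ι (Cfsg.pCore p G) ∧ g * ι ⟨x, hxS⟩ * g⁻¹ = ι ⟨y, hQS hy⟩ := by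
    intro g y hy
    have h1 : g⁻¹ * ι ⟨y, hQS hy⟩ * g ∈ Cfsg.pCore p G := by
      have := hconjO g⁻¹ _ ((hmemQ y (hQS hy)).1 hy)
      simpa using this
    obtain ⟨s, hs⟩ := hOT h1
    refine ⟨s, s.2, (hmemQ s s.2).2 (by rw [hs]; exact h1), ?_⟩
    show g * ι s * g⁻¹ = _
    rw [hs]
    group
  refine ⟨preimageAlong ι (Cfsg.pCore p G), ⟨hQS, ?_⟩, ⟨hQS, ?_⟩⟩
  · -- normal
    intro P φ hφ
    have hPS : P ≤ S := (F.le_of_mem hφ).1
    have hφS : ∀ x : P, φ x ∈ S := (F.le_of_mem hφ).2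
    obtain ⟨g, hg⟩ := (hreal P hPS φ hφS).1 hφ
    have hPQS : P ⊔ preimageAlong ι (Cfsg.pCore p G) ≤ S := sup_le hPS hQS
    -- the subgroup of elements of `S` whose image is conjugated into `ι(S)` by `g`
    have hle : P ⊔ preimageAlong ι (Cfsg.pCore p G) ≤
        preimageAlong ((MulAut.conj g).toMonoidHom.comp ι) ι.range := by
      apply sup_le
      · intro y hy
        rw [mem_preimageAlong]
        refine ⟨hPS hy, ?_⟩
        show g * ι ⟨y, hPS hy⟩ * g⁻¹ ∈ ι.range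
        rw [← hg ⟨y, hy⟩]
        exact ⟨_, rfl⟩
      · intro y hy
        rw [mem_preimageAlong]
        refine ⟨hQS hy, ?_⟩
        show g * ι ⟨y, hQS hy⟩ * g⁻¹ ∈ ι.range
        exact hOT (hconjO g _ ((hmemQ y (hQS hy)).1 hy))
    have hmem : ∀ y : ↥(P ⊔ preimageAlong ι (Cfsg.pCore p G)), g * ι ⟨y, hPQS y.2⟩ * g⁻¹ ∈ ι.range := by
      intro y
      exact ((mem_preimageAlong _ _ _).1 (hle y.2)).2
    let c : ↥(P ⊔ preimageAlong ι (Cfsg.pCore p G)) →* ι.range :=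
      ((MulAut.conj g).toMonoidHom.comp (ι.comp (Subgroup.inclusion hPQS))).codRestrict ι.range hmem
    let ψ : ↥(P ⊔ preimageAlong ι (Cfsg.pCore p G)) →* Ω := S.subtype.comp ((invOn ι hinj rfl).comp c)
    have hψS : ∀ y, ψ y ∈ S := fun y => ((invOn ι hinj rfl) (c y)).2
    have hιψ : ∀ y, ι ⟨ψ y, hψS y⟩ = g * ι ⟨y, hPQS y.2⟩ * g⁻¹ := fun y => map_invOn ι hinj rfl (c y)
    have hψF : ψ ∈ F.Hom (P ⊔ preimageAlong ι (Cfsg.pCore p G)) := by
      rw [hreal _ hPQS ψ hψS]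
      exact ⟨g, hιψ⟩
    refine ⟨ψ, hψF, fun x => ?_, ?_⟩
    · have h1 : ι ⟨ψ (Subgroup.inclusion le_sup_left x), hψS _⟩ = ι ⟨φ x, hφS x⟩ := by
        rw [hιψ, hg]
        rfl
      exact congrArg Subtype.val (hinj h1)
    · rw [map_subgroupOf_eq_iff]
      refine ⟨fun x hx => ?_, fun y hy => ?_⟩
      · rw [hmemQ _ (hψS x), hιψ]
        exact hconjO g _ ((hmemQ _ (hPQS x.2)).1 hx)
      · obtain ⟨x, hxS, hxQ, hx⟩ := honto g y hy
        refine ⟨⟨x, le_sup_right (a := P) hxQ⟩, hxQ, ?_⟩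
        have h1 : ι ⟨ψ ⟨x, le_sup_right (a := P) hxQ⟩, hψS _⟩ = ι ⟨y, hQS hy⟩ := by
          rw [hιψ]
          exact hx
        exact congrArg Subtype.val (hinj h1)
  · -- centric
    rintro R ⟨φ, hφ, rfl⟩
    have hφS : ∀ x, φ x ∈ S := (F.le_of_mem hφ).2
    obtain ⟨g, hg⟩ := (hreal _ hQS φ hφS).1 hφ
    have hrange : φ.range = preimageAlong ι (Cfsg.pCore p G) := by
      ext y
      constructor
      · rintro ⟨x, rfl⟩
        rw [hmemQ _ (hφS x), hg]
        exact hconjO g _ ((hmemQ _ (hQS x.2)).1 x.2)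
      · intro hy
        obtain ⟨x, hxS, hxQ, hx⟩ := honto g y hy
        refine ⟨⟨x, hxQ⟩, ?_⟩
        have h1 : ι ⟨φ ⟨x, hxQ⟩, hφS _⟩ = ι ⟨y, hQS hy⟩ := by
          rw [hg]
          exact hx
        exact congrArg Subtype.val (hinj h1)
    rw [hrange]
    intro c hc
    have hcS : c ∈ S := hc.1
    rw [hmemQ c hcS]
    apply hcent
    rw [Subgroup.mem_centralizer_iff]
    intro z hz
    obtain ⟨s, rfl⟩ := hOT hz
    have hsQ : (s : Ω) ∈ preimageAlong ι (Cfsg.pCore p G) := (hmemQ s s.2).2 hz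
    have h1 : (s : Ω) * c = c * s := (Subgroup.mem_centralizer_iff.1 hc.2) s hsQ
    have h2 : s * ⟨c, hcS⟩ = ⟨c, hcS⟩ * s := Subtype.ext h1
    rw [← map_mul, ← map_mul, h2]


/-- A fusion system over a finite p-group that has a model (a finite group realizing it on a Sylow p-subgroup with self-centralizing largest normal p-subgroup) is constrained. -/
theorem result {Ω : Type*} [Group Ω] {S : Subgroup Ω} [Finite S] (p : ℕ) [Fact p.Prime] (hS : IsPGroup p S) (F : Cfsg.FusionSystem S) {G : Type*} [Group G] (ι : S →* G) (hG : F.IsModel p G ι) : F.IsConstrained p := by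
  have hfin : Finite G := hG.1
  obtain ⟨T, hT⟩ := hG.2.2.1
  exact ⟨Cfsg.Agent.Helper85.isSaturated_of_isRealizedBy F ι hG.2.1 T hT, exists_normal_centric p F ι hG⟩

end Cfsg.Agent.S5103
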