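import Cfsg.Statements.S5105
import Cfsg.Agent.Helper33.Cocycle
import Cfsg.Agent.Lib.Cores

set_option autoImplicit false
open Cfsg

namespace Cfsg.Agent.S5105

open Cfsg.FusionSystem

/-- Pure group theory: in a finite group `G` with `C_G(O_p(G)) ≤ O_p(G)`, an automorphism fixing a Sylow `p`-subgroup `T` elementwise
is conjugation by an element of `Z(T)` (vanishing of `H¹(G/T-coprime, Z(O_p(G)))` by averaging). -/
theorem aut_fix_sylow {G : Type*} [Group G] [Finite G] (p : ℕ) [Fact p.Prime] (T : Sylow p G)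
    (hcent : Subgroup.centralizer ((Cfsg.pCore p G : Subgroup G) : Set G) ≤ Cfsg.pCore p G) (ψ : G ≃* G)
    (hψ : ∀ t ∈ (T : Subgroup G), ψ t = t) :
    ∃ z ∈ (T : Subgroup G), (∀ t ∈ (T : Subgroup G), t * z = z * t) ∧ ∀ g : G, ψ g = z * g * z⁻¹ := by
  have hp : p.Prime := Fact.out
  have hQchar : (Cfsg.pCore p G).Characteristic := Cfsg.Agent.Lib.pCore_characteristic p
  have hQn : (Cfsg.pCore p G).Normal := inferInstance
  have hQT : Cfsg.pCore p G ≤ (T : Subgroup G) := Cfsg.Agent.Lib.pCore_le_sylow T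
  have hAn : (Subgroup.centralizer ((Cfsg.pCore p G : Subgroup G) : Set G)).Normal := inferInstance
  have hAcomm : ∀ a ∈ Subgroup.centralizer ((Cfsg.pCore p G : Subgroup G) : Set G),
      ∀ b ∈ Subgroup.centralizer ((Cfsg.pCore p G : Subgroup G) : Set G), a * b = b * a := by
    intro a ha b hb
    exact (Subgroup.mem_centralizer_iff.1 hb a (hcent ha))
  have hAp : IsPGroup p (Subgroup.centralizer ((Cfsg.pCore p G : Subgroup G) : Set G)) :=
    (Cfsg.Agent.Lib.isPGroup_pCore p).to_le hcent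
  have hcop : (Nat.card (Subgroup.centralizer ((Cfsg.pCore p G : Subgroup G) : Set G))).Coprime
      (T : Subgroup G).index := by
    obtain ⟨k, hk⟩ := IsPGroup.iff_card.mp hAp
    rw [hk]
    exact Nat.Coprime.pow_left k ((Nat.Prime.coprime_iff_not_dvd hp).2 T.not_dvd_index)
  have hfA : ∀ g, ψ g * g⁻¹ ∈ Subgroup.centralizer ((Cfsg.pCore p G : Subgroup G) : Set G) := by
    intro g
    rw [Subgroup.mem_centralizer_iff]
    intro y hy
    have hy' : g⁻¹ * y * g ∈ Cfsg.pCore p G := by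
      have := hQn.conj_mem y hy g⁻¹
      simpa using this
    have h1 : ψ (g⁻¹ * y * g) = g⁻¹ * y * g := hψ _ (hQT hy')
    have h2 : ψ y = y := hψ _ (hQT hy)
    have h3 : ψ y = ψ g * ψ (g⁻¹ * y * g) * (ψ g)⁻¹ := by
      rw [← map_inv, ← map_mul, ← map_mul]
      congr 1
      group
    rw [h2, h1] at h3
    calc y * (ψ g * g⁻¹) = (ψ g * (g⁻¹ * y * g) * (ψ g)⁻¹) * (ψ g * g⁻¹) := by rw [← h3]
      _ = ψ g * g⁻¹ * y := by group
  have hf : ∀ g h, ψ (g * h) * (g * h)⁻¹ = ψ g * g⁻¹ * (g * (ψ h * h⁻¹) * g⁻¹) := by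
    intro g h
    rw [map_mul]
    group
  have hfT : ∀ t ∈ (T : Subgroup G), ψ t * t⁻¹ = 1 := by
    intro t ht
    rw [hψ t ht, mul_inv_cancel]
  obtain ⟨z, hzA, hz⟩ := Cfsg.Agent.Helper33.exists_conj_of_cocycle
    (Subgroup.centralizer ((Cfsg.pCore p G : Subgroup G) : Set G)) (T : Subgroup G) hAcomm hcop
    (fun g => ψ g * g⁻¹) hfA hf hfT
  have hconj : ∀ g : G, ψ g = z * g * z⁻¹ := by
    intro g
    have := hz g
    calc ψ g = (ψ g * g⁻¹) * g := by group
      _ = z * (g * z⁻¹ * g⁻¹) * g := by rw [this]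
      _ = z * g * z⁻¹ := by group
  refine ⟨z, hQT (hcent hzA), ?_, hconj⟩
  intro t ht
  have h1 := hconj t
  rw [hψ t ht] at h1
  calc t * z = (z * t * z⁻¹) * z := by rw [← h1]
    _ = z * t := by group


/-- Model Theorem, rigidity: if G is a model of a constrained fusion system over a finite p-group S (through ι : S → G), then every automorphism of G fixing ι(S) elementwise is conjugation by ι(z) for some z in the centre of S. -/
theorem result {Ω : Type*} [Group Ω] {S : Subgroup Ω} [Finite S] (p : ℕ) [Fact p.Prime] (hS : IsPGroup p S) (F : Cfsg.FusionSystem S) (hF : F.IsConstrained p) {G : Type*} [Group G] (ι : S →* G) (hG : F.IsModel p G ι) (ψ : G ≃* G) (hψ : ∀ x : S, ψ (ι x) = ι x) : ∃ z : S, z ∈ Subgroup.center S ∧ ∀ g : G, ψ g = ι z * g * (ι z)⁻¹ := by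
  obtain ⟨hfin, ⟨hinj, -⟩, ⟨T, hT⟩, hcent⟩ := hG
  obtain ⟨z, hzT, hzc, hconj⟩ := aut_fix_sylow p T hcent ψ (by
    intro t ht
    rw [hT] at ht
    obtain ⟨x, rfl⟩ := ht
    exact hψ x)
  rw [hT] at hzT
  obtain ⟨z₀, rfl⟩ := hzT
  refine ⟨z₀, ?_, hconj⟩
  rw [Subgroup.mem_center_iff]
  intro s
  apply hinj
  rw [map_mul, map_mul]
  apply hzc
  rw [hT]
  exact ⟨s, rfl⟩

end Cfsg.Agent.S5105
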