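-- Statement S5106 (helper88, claimed from helper85): Q ⊴ F iff maps between subgroups of Q extend to Aut_F(Q).
import Cfsg.Statements.S5106
import Cfsg.Agent.Helper88.FusionNormalCrit
import Cfsg.Agent.Helper85.Basic

set_option autoImplicit false
open Cfsg

namespace Cfsg.Agent.S5106

open Cfsg.FusionSystem Cfsg.Agent.Helper87

/-- In a saturated fusion system over a finite p-group S, a subgroup R ≤ S is normal in the system if and only if every map of the system whose source is a subgroup of R is the restriction of an element of Aut_F(R). -/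
theorem result {Ω : Type*} [Group Ω] {S : Subgroup Ω} [Finite S] (p : ℕ) [Fact p.Prime] (hS : IsPGroup p S) (F : Cfsg.FusionSystem S) (hF : F.IsSaturated p) (R : Subgroup Ω) (hRS : R ≤ S) : F.IsNormal R ↔ ∀ (P : Subgroup Ω) (hPR : P ≤ R) (φ : P →* Ω), φ ∈ F.Hom P → ∃ α ∈ F.autGroup R, ∀ x : P, ((α (Subgroup.inclusion hPR x) : R) : Ω) = φ x := by
  constructor
  · intro hR P hPR φ hφ
    obtain ⟨ψ, hψ, hψx, hψR⟩ := hR.2 P φ hφ
    rw [Helper85.map_subgroupOf_eq_iff] at hψR
    have hψ' := restrict_mem F hψ (le_sup_right : R ≤ P ⊔ R)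
    have hrange : (ψ.comp (Subgroup.inclusion (le_sup_right : R ≤ P ⊔ R))).range = R := by
      ext y
      constructor
      · rintro ⟨x, rfl⟩
        exact hψR.1 _ x.2
      · intro hy
        obtain ⟨x, hxR, hxy⟩ := hψR.2 y hy
        exact ⟨⟨x, hxR⟩, hxy⟩
    refine ⟨isoOfRange F hψ' hrange, (mem_autGroup_iff F hRS _).mpr (isIso_isoOfRange F hψ' hrange), fun x => ?_⟩
    rw [← hψx x]
    rfl
  · intro h
    exact Cfsg.Agent.Helper88.FS.isNormal_of_maps_extend hS F hF hRS h

end Cfsg.Agent.S5106
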