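-- Statement S5107: class two Sylow subgroup with strongly closed centre: the normalizer controls fusion.
import Cfsg.Statements.S5107
import Cfsg.Agent.S5076
import Cfsg.Agent.S5080
import Cfsg.Agent.Helper87.FusionAlperin
import Cfsg.Agent.Helper87.FusionRS

set_option autoImplicit false
open Cfsg

namespace Cfsg.Agent.S5107

open Cfsg.FusionSystem Cfsg.Agent.Helper87
open scoped commutatorElement

section chain

variable {Ω : Type*} [Group Ω]

/-- The stabilizer in `A ≤ Aut(P)` of the chain `1 ≤ Z ∩ P ≤ P`: the automorphisms fixing the elements of `P` in `Z` and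
acting trivially on `P` modulo `Z`. -/
def chainStab (P : Subgroup Ω) (A : Subgroup (MulAut P)) (Z : Subgroup Ω) : Subgroup A where
  carrier := {α | (∀ x : P, (x : Ω) ∈ Z → (α : MulAut P) x = x) ∧
    ∀ x : P, (x : Ω)⁻¹ * (((α : MulAut P) x : P) : Ω) ∈ Z}
  one_mem' := ⟨fun x _ => rfl, fun x => by simp⟩
  mul_mem' := by
    rintro α β ⟨hα1, hα2⟩ ⟨hβ1, hβ2⟩
    refine ⟨fun x hx => ?_, fun x => ?_⟩
    · show (α : MulAut P) ((β : MulAut P) x) = x
      rw [hβ1 x hx, hα1 x hx]
    · show (x : Ω)⁻¹ * (((α : MulAut P) ((β : MulAut P) x) : P) : Ω) ∈ Z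
      have h1 := hβ2 x
      have h2 := hα2 ((β : MulAut P) x)
      have e : (x : Ω)⁻¹ * (((α : MulAut P) ((β : MulAut P) x) : P) : Ω) =
          ((x : Ω)⁻¹ * (((β : MulAut P) x : P) : Ω)) *
            ((((β : MulAut P) x : P) : Ω)⁻¹ * (((α : MulAut P) ((β : MulAut P) x) : P) : Ω)) := by group
      rw [e]
      exact Z.mul_mem h1 h2
  inv_mem' := by
    rintro α ⟨hα1, hα2⟩
    refine ⟨fun x hx => ?_, fun x => ?_⟩
    · show (α : MulAut P)⁻¹ x = x
      rw [MulAut.inv_apply, MulEquiv.symm_apply_eq]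
      exact (hα1 x hx).symm
    · show (x : Ω)⁻¹ * ((((α : MulAut P)⁻¹ x : P)) : Ω) ∈ Z
      have h2 := hα2 ((α : MulAut P)⁻¹ x)
      rw [MulAut.apply_inv_self] at h2
      have e : (x : Ω)⁻¹ * ((((α : MulAut P)⁻¹ x : P)) : Ω) =
          (((((α : MulAut P)⁻¹ x : P)) : Ω)⁻¹ * (x : Ω))⁻¹ := by group
      rw [e]
      exact Z.inv_mem h2

theorem mem_chainStab_iff (P : Subgroup Ω) (A : Subgroup (MulAut P)) (Z : Subgroup Ω) (α : A) :
    α ∈ chainStab P A Z ↔ (∀ x : P, (x : Ω) ∈ Z → (α : MulAut P) x = x) ∧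
      ∀ x : P, (x : Ω)⁻¹ * (((α : MulAut P) x : P) : Ω) ∈ Z := Iff.rfl

/-- The chain stabilizer is a `p`-group when `Z ≤ P` is a finite `p`-group. -/
theorem isPGroup_chainStab {p : ℕ} [Fact p.Prime] (P : Subgroup Ω) (A : Subgroup (MulAut P)) (Z : Subgroup Ω) (hZP : Z ≤ P)
    (hZ : IsPGroup p Z) [Finite Z] : IsPGroup p (chainStab P A Z) := by
  obtain ⟨m, hm⟩ := IsPGroup.iff_card.mp hZ
  rintro ⟨α, hα1, hα2⟩
  refine ⟨m, ?_⟩
  apply Subtype.ext
  apply Subtype.ext
  show ((α : MulAut P) ^ p ^ m) = 1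
  have key : ∀ (k : ℕ) (x : P), ((((α : MulAut P) ^ k) x : P) : Ω) =
      (x : Ω) * ((x : Ω)⁻¹ * (((α : MulAut P) x : P) : Ω)) ^ k := by
    intro k
    induction k with
    | zero => intro x; simp
    | succ k ih =>
      intro x
      set w : Ω := (x : Ω)⁻¹ * (((α : MulAut P) x : P) : Ω) with hw
      have hwZ : w ∈ Z := hα2 x
      have hwk : w ^ k ∈ Z := Z.pow_mem hwZ k
      have hfix : (α : MulAut P) ⟨w ^ k, hZP hwk⟩ = ⟨w ^ k, hZP hwk⟩ := hα1 _ hwk
      have h1 : ((α : MulAut P) ^ k) x = x * ⟨w ^ k, hZP hwk⟩ := Subtype.ext (ih x)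
      rw [pow_succ', MulAut.mul_apply, h1, map_mul, hfix]
      show (((α : MulAut P) x : P) : Ω) * w ^ k = (x : Ω) * w ^ (k + 1)
      rw [pow_succ', ← mul_assoc]
      congr 1
      rw [hw]
      group
  ext x
  rw [key (p ^ m) x]
  have hwZ := hα2 x
  have : ((x : Ω)⁻¹ * (((α : MulAut P) x : P) : Ω)) ^ p ^ m = 1 := by
    have h1 : (⟨_, hwZ⟩ : Z) ^ Nat.card Z = 1 := pow_card_eq_one'
    rw [hm] at h1
    exact congrArg Subtype.val h1
  rw [this, mul_one]
  rfl

/-- The chain stabilizer is normal when `A` preserves `Z`. -/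
theorem chainStab_normal (P : Subgroup Ω) (A : Subgroup (MulAut P)) (Z : Subgroup Ω)
    (hA : ∀ β ∈ A, ∀ x : P, (x : Ω) ∈ Z → ((β x : P) : Ω) ∈ Z) : (chainStab P A Z).Normal := by
  constructor
  rintro α ⟨hα1, hα2⟩ β
  have hβ := hA _ β.2
  have hβi := hA _ (β⁻¹).2
  refine ⟨fun x hx => ?_, fun x => ?_⟩
  · show (β : MulAut P) ((α : MulAut P) ((β : MulAut P)⁻¹ x)) = x
    have h1 : (((β⁻¹ : A) : MulAut P) x : Ω) ∈ Z := hβi x hx
    have h2 := hα1 _ h1
    show (β : MulAut P) ((α : MulAut P) (((β⁻¹ : A) : MulAut P) x)) = x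
    rw [h2]
    show (β : MulAut P) ((β : MulAut P)⁻¹ x) = x
    exact MulAut.apply_inv_self _ _ _
  · show (x : Ω)⁻¹ * (((β : MulAut P) ((α : MulAut P) ((β : MulAut P)⁻¹ x)) : P) : Ω) ∈ Z
    set y : P := (β : MulAut P)⁻¹ x with hy
    have hx : x = (β : MulAut P) y := by rw [hy, MulAut.apply_inv_self]
    have h1 := hα2 y
    -- w = y⁻¹ α(y) ∈ Z, as an element of P
    have hwP : (y : Ω)⁻¹ * (((α : MulAut P) y : P) : Ω) = ((y⁻¹ * (α : MulAut P) y : P) : Ω) := rfl
    rw [hwP] at h1
    have h2 := hβ _ h1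
    rw [map_mul, map_inv] at h2
    rw [hx]
    exact h2

/-- The chain stabilizer lies in the `p`-core. -/
theorem chainStab_le_pCore {p : ℕ} [Fact p.Prime] (P : Subgroup Ω) (A : Subgroup (MulAut P)) (Z : Subgroup Ω) (hZP : Z ≤ P)
    (hZ : IsPGroup p Z) [Finite Z]
    (hA : ∀ β ∈ A, ∀ x : P, (x : Ω) ∈ Z → ((β x : P) : Ω) ∈ Z) : chainStab P A Z ≤ pCore p A :=
  le_sSup ⟨chainStab_normal P A Z hA, isPGroup_chainStab P A Z hZP hZ⟩

end chain

/-- If a Sylow p-subgroup S of a finite group G has nilpotency class at most two and its centre is strongly closed in S with respect to G, then every map of the fusion system of G on S is conjugation by an element of N_G(S), and S is the largest subgroup normal in that fusion system. -/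
theorem result {G : Type*} [Group G] [Finite G] (p : ℕ) [Fact p.Prime] (S : Sylow p G) (hcl : ⁅(S : Subgroup G), (S : Subgroup G)⁆ ≤ (S : Subgroup G) ⊓ Subgroup.centralizer ((S : Subgroup G) : Set G)) (hZ : Cfsg.IsStronglyClosed ((S : Subgroup G) ⊓ Subgroup.centralizer ((S : Subgroup G) : Set G)) (S : Subgroup G)) : (∀ (P : Subgroup G) (φ : P →* G), φ ∈ (Cfsg.groupFusionSystem (S : Subgroup G)).Hom P → ∃ g ∈ Subgroup.normalizer ((S : Subgroup G) : Set G), ∀ x : P, φ x = g * (x : G) * g⁻¹) ∧ (Cfsg.groupFusionSystem (S : Subgroup G)).core = S := by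
  have hSp : IsPGroup p (S : Subgroup G) := S.2
  have hFsat : (groupFusionSystem (S : Subgroup G)).IsSaturated p := S5076.result p S
  set F := groupFusionSystem (S : Subgroup G) with hF
  set Z := (S : Subgroup G) ⊓ Subgroup.centralizer ((S : Subgroup G) : Set G) with hZdef
  set E := fusionSystemOfSubgroup (Subgroup.normalizer ((S : Subgroup G) : Set G)) (S : Subgroup G)
    Subgroup.le_normalizer with hE
  have hStop : F.autGroup (S : Subgroup G) ≤ E.autGroup (S : Subgroup G) := by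
    intro α hα
    obtain ⟨g, hg⟩ := S5076.exists_conj_of_mem_autGroup le_rfl α hα
    rw [mem_autGroup_iff E le_rfl]
    exact ⟨le_rfl, fun x => (α x).2, g, mem_normalizer_of_conj_eq α g hg, fun x => hg x⟩
  have hZfin : Finite Z := finite_of_le inf_le_left
  have hZp : IsPGroup p Z := hSp.to_le inf_le_left
  have hsub : ∀ P : Subgroup G, F.Hom P ⊆ E.Hom P := by
    apply alperin hSp F E hFsat
    rintro P (rfl | hP)
    · exact hStop
    · have hPS : P ≤ (S : Subgroup G) := hP.1.1
      have hcen : centralizerIn (S : Subgroup G) P ≤ P := hP.1.2 P (isConj_refl F hPS)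
      have hZP : Z ≤ P := fun z hz => hcen ⟨hz.1, Subgroup.centralizer_le (by exact_mod_cast hPS) hz.2⟩
      have hrad := S5080.result p hSp F hFsat P hP
      have hcomm : ∀ x ∈ (S : Subgroup G), ∀ s ∈ (S : Subgroup G), x⁻¹ * (s * x * s⁻¹) ∈ Z := by
        intro x hx s hs
        have : x⁻¹ * (s * x * s⁻¹) = ⁅x⁻¹, s⁆ := by rw [commutatorElement_def]; group
        rw [this]
        exact hcl (Subgroup.commutator_mem_commutator ((S : Subgroup G).inv_mem hx) hs)
      have hPnorm : ∀ s ∈ (S : Subgroup G), s ∈ Subgroup.normalizer (P : Set G) := by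
        intro s hs
        apply Helper48.mem_normalizer_of_conjSub_le
        rintro _ ⟨x, hx, rfl⟩
        have h1 := hZP (hcomm x (hPS hx) s hs)
        have : s * x * s⁻¹ = x * (x⁻¹ * (s * x * s⁻¹)) := by group
        show s * x * s⁻¹ ∈ P
        rw [this]
        exact P.mul_mem hx h1
      have hA : ∀ β ∈ F.autGroup P, ∀ x : P, (x : G) ∈ Z → ((β x : P) : G) ∈ Z := by
        intro β hβ x hx
        obtain ⟨g, hg⟩ := S5076.exists_conj_of_mem_autGroup hPS β hβ
        rw [hg]
        apply hZ.2 _ hx g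
        rw [← hg]
        exact hPS (β x).2
      have hSP : (S : Subgroup G) ≤ P := by
        intro s hs
        have hαF : conjAut P s (hPnorm s hs) ∈ F.autGroup P :=
          (mem_autGroup_iff F hPS _).mpr (isIso_conjAut F hPS hs _)
        have hmem : (⟨conjAut P s (hPnorm s hs), hαF⟩ : F.autGroup P) ∈ chainStab P (F.autGroup P) Z := by
          refine ⟨fun x hx => ?_, fun x => ?_⟩
          · apply Subtype.ext
            show s * (x : G) * s⁻¹ = x
            have := Subgroup.mem_centralizer_iff.mp hx.2 s hs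
            rw [this]; group
          · exact hcomm x (hPS x.2) s hs
        have h1 := chainStab_le_pCore P (F.autGroup P) Z hZP hZp hA hmem
        have h2 : conjAut P s (hPnorm s hs) ∈ (pCore p (F.autGroup P)).map (F.autGroup P).subtype :=
          ⟨_, h1, rfl⟩
        rw [hrad.2] at h2
        obtain ⟨y, hy⟩ := h2
        have h3 : ∀ x : P, (y : G) * x * (y : G)⁻¹ = s * x * s⁻¹ := by
          intro x
          have := congrArg (fun β : MulAut P => ((β x : P) : G)) hy
          exact this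
        have h4 : (y : G)⁻¹ * s ∈ centralizerIn (S : Subgroup G) P := by
          refine ⟨(S : Subgroup G).mul_mem ((S : Subgroup G).inv_mem (hPS y.2)) hs, ?_⟩
          show _ ∈ Subgroup.centralizer (P : Set G)
          rw [Subgroup.mem_centralizer_iff]
          intro x hx
          have h5 := h3 ⟨x, hx⟩
          simp only at h5
          calc x * ((y : G)⁻¹ * s) = (y : G)⁻¹ * ((y : G) * x * (y : G)⁻¹) * s := by group
            _ = (y : G)⁻¹ * (s * x * s⁻¹) * s := by rw [h5]
            _ = (y : G)⁻¹ * s * x := by group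
        have h6 := P.mul_mem y.2 (hcen h4)
        rwa [mul_inv_cancel_left] at h6
      have hPeq : P = (S : Subgroup G) := le_antisymm hPS hSP
      rw [hPeq]
      exact hStop
  constructor
  · intro P φ hφ
    obtain ⟨-, -, g, hgN, hg⟩ := hsub P hφ
    exact ⟨g, hgN, hg⟩
  · apply le_antisymm
    · apply sSup_le
      intro Q hQ
      exact hQ.1
    · apply le_sSup
      refine ⟨le_rfl, fun P φ hφ => ?_⟩
      obtain ⟨hPS, -, g, hgN, hg⟩ := hsub P hφ
      have hle : P ⊔ (S : Subgroup G) ≤ (S : Subgroup G) := sup_le hPS le_rfl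
      have hgS : ∀ x ∈ (S : Subgroup G), g * x * g⁻¹ ∈ (S : Subgroup G) :=
        fun x hx => (Subgroup.mem_normalizer_iff.mp hgN x).mp hx
      refine ⟨conjHom (P ⊔ (S : Subgroup G)) g, ⟨hle, fun x => hgS _ (hle x.2), g, fun _ => rfl⟩,
        fun x => (hg x).symm, ?_⟩
      ext y
      constructor
      · rintro ⟨x, hx, rfl⟩
        exact hgS _ (Subgroup.mem_subgroupOf.mp hx)
      · intro hy
        have hx : g⁻¹ * y * g ∈ (S : Subgroup G) := by
          have := (Subgroup.mem_normalizer_iff.mp (Subgroup.inv_mem _ hgN) y).mp hy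
          simpa using this
        refine ⟨⟨g⁻¹ * y * g, le_sup_right (a := P) hx⟩, Subgroup.mem_subgroupOf.mpr hx, ?_⟩
        show g * (g⁻¹ * y * g) * g⁻¹ = y
        group

end Cfsg.Agent.S5107
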