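import Cfsg.Statements.S5112
import Cfsg.Agent.Helper56.AutChain
import Cfsg.Agent.S5111
import Cfsg.Agent.Helper87.FusionAlperin

set_option autoImplicit false
open Cfsg

namespace Cfsg.Agent.S5112

open Cfsg.FusionSystem Cfsg.Agent.Helper87 Cfsg.Agent.Helper56

/-- The automorphism group of a dihedral `2`-group of order at least `8` is a `2`-group. -/
theorem isPGroup_mulAut_dihedral (k : ℕ) (hk : 3 ≤ 2 ^ k) : IsPGroup 2 (MulAut (DihedralGroup (2 ^ k))) := by
  have hcard : Nat.card (DihedralGroup (2 ^ k)) = 2 ^ (k + 1) := by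
    rw [DihedralGroup.nat_card, pow_succ, mul_comm]
  have hexp : ∀ x : DihedralGroup (2 ^ k), x ^ (2 ^ (k + 1)) = 1 := by
    intro x
    rw [← hcard]
    exact pow_card_eq_one'
  have hT2 : IsPGroup 2 (DihedralGroup (2 ^ k)) := IsPGroup.of_card hcard
  have hrmem : ∀ i : ZMod (2 ^ k), DihedralGroup.r i ∈ Subgroup.zpowers (DihedralGroup.r 1 : DihedralGroup (2 ^ k)) := by
    intro i
    refine ⟨(i.val : ℤ), ?_⟩
    show (DihedralGroup.r 1 : DihedralGroup (2 ^ k)) ^ ((i.val : ℕ) : ℤ) = DihedralGroup.r i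
    rw [zpow_natCast, DihedralGroup.r_one_pow, ZMod.natCast_zmod_val]
  have hCinv : AutInv (Subgroup.zpowers (DihedralGroup.r 1 : DihedralGroup (2 ^ k))) := by
    intro α x hx
    obtain ⟨z, rfl⟩ := hx
    show α ((DihedralGroup.r 1 : DihedralGroup (2 ^ k)) ^ z) ∈ _
    rw [map_zpow]
    apply Subgroup.zpow_mem
    have hord : orderOf (α (DihedralGroup.r 1 : DihedralGroup (2 ^ k))) = 2 ^ k := by
      rw [MulEquiv.orderOf_eq, DihedralGroup.orderOf_r_one]
    rcases h : α (DihedralGroup.r 1 : DihedralGroup (2 ^ k)) with j | j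
    · exact hrmem j
    · rw [h, DihedralGroup.orderOf_sr] at hord
      omega
  have hidx : ∀ x ∈ (⊤ : Subgroup (DihedralGroup (2 ^ k))), ∀ y ∈ (⊤ : Subgroup (DihedralGroup (2 ^ k))),
      x ∉ Subgroup.zpowers (DihedralGroup.r 1 : DihedralGroup (2 ^ k)) →
      y ∉ Subgroup.zpowers (DihedralGroup.r 1 : DihedralGroup (2 ^ k)) →
      x⁻¹ * y ∈ Subgroup.zpowers (DihedralGroup.r 1 : DihedralGroup (2 ^ k)) := by
    intro x _ y _ hx hy
    rcases x with i | i
    · exact absurd (hrmem i) hx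
    rcases y with j | j
    · exact absurd (hrmem j) hy
    rw [DihedralGroup.inv_sr, DihedralGroup.sr_mul_sr]
    exact hrmem _
  have htop : AutInv (⊤ : Subgroup (DihedralGroup (2 ^ k))) := fun _ _ _ => Subgroup.mem_top _
  have hgood := autGood_of_cyclic hCinv inferInstance (hT2.to_subgroup _)
  exact isPGroup_mulAut_of_autGood_top (autGood_step hexp hCinv htop hidx hgood)

/-- The automorphism group of a generalized quaternion `2`-group of order at least `16` is a `2`-group. -/
theorem isPGroup_mulAut_quaternion (k : ℕ) (hk : 3 ≤ 2 ^ k) : IsPGroup 2 (MulAut (QuaternionGroup (2 ^ k))) := by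
  have hcard : Nat.card (QuaternionGroup (2 ^ k)) = 2 ^ (k + 2) := by
    rw [Nat.card_eq_fintype_card, QuaternionGroup.card]
    ring
  have hexp : ∀ x : QuaternionGroup (2 ^ k), x ^ (2 ^ (k + 2)) = 1 := by
    intro x
    rw [← hcard]
    exact pow_card_eq_one'
  have hT2 : IsPGroup 2 (QuaternionGroup (2 ^ k)) := IsPGroup.of_card hcard
  have hamem : ∀ i : ZMod (2 * 2 ^ k),
      QuaternionGroup.a i ∈ Subgroup.zpowers (QuaternionGroup.a 1 : QuaternionGroup (2 ^ k)) := by
    intro i
    refine ⟨(i.val : ℤ), ?_⟩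
    show (QuaternionGroup.a 1 : QuaternionGroup (2 ^ k)) ^ ((i.val : ℕ) : ℤ) = QuaternionGroup.a i
    rw [zpow_natCast, QuaternionGroup.a_one_pow, ZMod.natCast_zmod_val]
  have hCinv : AutInv (Subgroup.zpowers (QuaternionGroup.a 1 : QuaternionGroup (2 ^ k))) := by
    intro α x hx
    obtain ⟨z, rfl⟩ := hx
    show α ((QuaternionGroup.a 1 : QuaternionGroup (2 ^ k)) ^ z) ∈ _
    rw [map_zpow]
    apply Subgroup.zpow_mem
    have hord : orderOf (α (QuaternionGroup.a 1 : QuaternionGroup (2 ^ k))) = 2 * 2 ^ k := by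
      rw [MulEquiv.orderOf_eq, QuaternionGroup.orderOf_a_one]
    rcases h : α (QuaternionGroup.a 1 : QuaternionGroup (2 ^ k)) with j | j
    · exact hamem j
    · rw [h, QuaternionGroup.orderOf_xa] at hord
      omega
  have hidx : ∀ x ∈ (⊤ : Subgroup (QuaternionGroup (2 ^ k))), ∀ y ∈ (⊤ : Subgroup (QuaternionGroup (2 ^ k))),
      x ∉ Subgroup.zpowers (QuaternionGroup.a 1 : QuaternionGroup (2 ^ k)) →
      y ∉ Subgroup.zpowers (QuaternionGroup.a 1 : QuaternionGroup (2 ^ k)) →
      x⁻¹ * y ∈ Subgroup.zpowers (QuaternionGroup.a 1 : QuaternionGroup (2 ^ k)) := by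
    intro x _ y _ hx hy
    rcases y with j | j
    · exact absurd (hamem j) hy
    rcases h : x⁻¹ with l | l
    · exfalso
      apply hx
      have : x = (QuaternionGroup.a l)⁻¹ := by rw [← h, inv_inv]
      rw [this]
      exact Subgroup.inv_mem _ (hamem l)
    · rw [QuaternionGroup.xa_mul_xa]
      exact hamem _
  have htop : AutInv (⊤ : Subgroup (QuaternionGroup (2 ^ k))) := fun _ _ _ => Subgroup.mem_top _
  have hgood := autGood_of_cyclic hCinv inferInstance (hT2.to_subgroup _)
  exact isPGroup_mulAut_of_autGood_top (autGood_step hexp hCinv htop hidx hgood)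

theorem three_le_two_pow {k : ℕ} (hk : 2 ≤ k) : 3 ≤ 2 ^ k := by
  calc 3 ≤ 2 ^ 2 := by norm_num
    _ ≤ 2 ^ k := Nat.pow_le_pow_right (by norm_num) hk


/-- If S is a dihedral or generalized quaternion 2-group of order at least 16, then in every saturated fusion system over S (at the prime 2) the automorphism group Aut_F(S) consists of the inner automorphisms of S. -/
theorem result {Ω : Type*} [Group Ω] {S : Subgroup Ω} [Finite S] (n : ℕ) (hn : 4 ≤ n) (hshape : Nonempty (S ≃* DihedralGroup (2 ^ (n - 1))) ∨ Nonempty (S ≃* QuaternionGroup (2 ^ (n - 2)))) (F : Cfsg.FusionSystem S) (hF : F.IsSaturated 2) : F.autGroup S = Cfsg.Inn S := by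
  -- `Aut(S)` is a `2`-group, and `S` is a `2`-group
  have hAut : IsPGroup 2 (MulAut S) ∧ IsPGroup 2 S := by
    rcases hshape with he | he
    · obtain ⟨e⟩ := he
      refine ⟨(isPGroup_mulAut_dihedral (n - 1) (three_le_two_pow (by omega))).of_equiv (MulAut.congr e).symm, ?_⟩
      apply IsPGroup.of_card (n := n)
      rw [Nat.card_congr e.toEquiv, DihedralGroup.nat_card]
      have : n = (n - 1) + 1 := by omega
      conv_rhs => rw [this, pow_succ]
      ring
    · obtain ⟨e⟩ := he
      refine ⟨(isPGroup_mulAut_quaternion (n - 2) (three_le_two_pow (by omega))).of_equiv (MulAut.congr e).symm, ?_⟩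
      apply IsPGroup.of_card (n := n)
      rw [Nat.card_congr e.toEquiv, Nat.card_eq_fintype_card, QuaternionGroup.card]
      have : n = (n - 2) + 2 := by omega
      conv_rhs => rw [this, pow_add]
      ring
  obtain ⟨hAut2, hS2⟩ := hAut
  have : Fact (Nat.Prime 2) := ⟨Nat.prime_two⟩
  obtain ⟨-, R, hR⟩ := ((Cfsg.Agent.S5111.result 2 hS2 F).1 hF).1
  have hA2 : IsPGroup 2 (F.autGroup S) := hAut2.to_subgroup _
  have htop : (⊤ : Subgroup (F.autGroup S)) = (R : Subgroup (F.autGroup S)) :=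
    R.is_maximal' (hA2.to_subgroup ⊤) le_top
  apply le_antisymm
  · intro α hα
    have h1 : (⟨α, hα⟩ : F.autGroup S) ∈ (R : Subgroup (F.autGroup S)) := by
      rw [← htop]
      exact Subgroup.mem_top _
    rw [hR, Subgroup.mem_subgroupOf, mem_autInducedBy_iff] at h1
    obtain ⟨g, hg, hgx⟩ := h1
    refine ⟨⟨g, hg⟩, ?_⟩
    ext x
    rw [hgx x]
    rfl
  · exact inn_le_autGroup F le_rfl

end Cfsg.Agent.S5112
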