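-- Statement S5118: the fusion system of a normal subgroup H on S ∩ H is a normal subsystem of F_S(G).
import Cfsg.Statements.S5118
import Cfsg.Agent.Helper86.SubgroupFusion

set_option autoImplicit false
open Cfsg

namespace Cfsg.Agent.S5118

open Cfsg.FusionSystem Cfsg.Agent.Helper48 Cfsg.Agent.Helper87 Cfsg.Agent.Helper86

variable {G : Type*} [Group G]

/-- The intersection of a Sylow `p`-subgroup with a normal subgroup `H` is a Sylow `p`-subgroup of `H`. -/
theorem isSylowIn_inf_normal [Finite G] {p : ℕ} [Fact p.Prime] (S : Sylow p G) (H : Subgroup G) [hH : H.Normal] :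
    IsSylowIn p ((S : Subgroup G) ⊓ H) H := by
  apply (isSylowIn_top S).inf_normal le_top
  rw [Subgroup.normalizer_eq_top_iff.mpr hH]

/-- Elements of `N(T)` normalize `C(T)`. -/
theorem conj_mem_centralizer {T : Subgroup G} {n x : G} (hn : n ∈ Subgroup.normalizer (T : Set G))
    (hx : x ∈ Subgroup.centralizer (T : Set G)) : n * x * n⁻¹ ∈ Subgroup.centralizer (T : Set G) := by
  rw [Subgroup.mem_centralizer_iff] at hx ⊢
  intro t ht
  have ht' : n⁻¹ * t * n ∈ T := by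
    have := (Subgroup.mem_normalizer_iff.mp (Subgroup.inv_mem _ hn) t).mp ht
    simpa using this
  have h1 := hx _ ht'
  calc t * (n * x * n⁻¹) = n * ((n⁻¹ * t * n) * x) * n⁻¹ := by group
    _ = n * (x * (n⁻¹ * t * n)) * n⁻¹ := by rw [h1]
    _ = n * x * n⁻¹ * t := by group

theorem normalizer_le_normalizer_centralizer (T : Subgroup G) :
    Subgroup.normalizer (T : Set G) ≤
      Subgroup.normalizer ((Subgroup.centralizer (T : Set G) : Subgroup G) : Set G) := by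
  intro n hn
  rw [Subgroup.mem_normalizer_iff]
  intro x
  constructor
  · exact conj_mem_centralizer hn
  · intro hx
    have := conj_mem_centralizer (Subgroup.inv_mem _ hn) hx
    have e : n⁻¹ * (n * x * n⁻¹) * n⁻¹⁻¹ = x := by group
    rwa [e] at this

/-- The extension condition, in terms of elements. -/
theorem exists_good_extension [Finite G] {p : ℕ} [Fact p.Prime] (S : Sylow p G) (H : Subgroup G) [hH : H.Normal]
    {h : G} (hhH : h ∈ H) (hhT : h ∈ Subgroup.normalizer (((S : Subgroup G) ⊓ H : Subgroup G) : Set G)) :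
    ∃ g ∈ H, (∀ x ∈ (S : Subgroup G) ⊓ H, g * x * g⁻¹ = h * x * h⁻¹) ∧
      g ∈ Subgroup.normalizer (((S : Subgroup G) ⊓ H : Subgroup G) : Set G) ∧
      g ∈ Subgroup.normalizer (((S : Subgroup G) ⊓
        Subgroup.centralizer (((S : Subgroup G) ⊓ H : Subgroup G) : Set G) : Subgroup G) : Set G) := by
  set T := (S : Subgroup G) ⊓ H with hT
  set C := Subgroup.centralizer (T : Set G) with hC
  set NT := Subgroup.normalizer (T : Set G) with hNT
  set D := (S : Subgroup G) ⊓ C with hD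
  have hSNT : (S : Subgroup G) ≤ NT := by
    intro s hs
    apply mem_normalizer_of_conjSub_le
    rintro _ ⟨x, hx, rfl⟩
    exact ⟨(S : Subgroup G).mul_mem ((S : Subgroup G).mul_mem hs hx.1) ((S : Subgroup G).inv_mem hs),
      hH.conj_mem x hx.2 s⟩
  have hCNT : C ≤ NT := Subgroup.centralizer_le_normalizer _
  have hS_NT : IsSylowIn p (S : Subgroup G) NT := (isSylowIn_top S).of_le hSNT le_top
  have hDC : IsSylowIn p D C := hS_NT.inf_normal hCNT (normalizer_le_normalizer_centralizer T)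
  -- the subgroup `M = D · C_H(T)`
  have hnorm : ∀ d ∈ D, ∀ k ∈ H ⊓ C, d * k * d⁻¹ ∈ H ⊓ C := by
    intro d hd k hk
    exact ⟨hH.conj_mem k hk.1 d, conj_mem_centralizer (hSNT hd.1) hk.2⟩
  let M : Subgroup G :=
    { carrier := {x | ∃ d ∈ D, ∃ k ∈ H ⊓ C, x = d * k}
      one_mem' := ⟨1, D.one_mem, 1, (H ⊓ C).one_mem, by simp⟩
      mul_mem' := by
        rintro _ _ ⟨d, hd, k, hk, rfl⟩ ⟨d', hd', k', hk', rfl⟩
        refine ⟨d * d', D.mul_mem hd hd', (d'⁻¹ * k * d'⁻¹⁻¹) * k',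
          (H ⊓ C).mul_mem (hnorm _ (D.inv_mem hd') _ hk) hk', ?_⟩
        group
      inv_mem' := by
        rintro _ ⟨d, hd, k, hk, rfl⟩
        refine ⟨d⁻¹, D.inv_mem hd, d * k⁻¹ * d⁻¹, hnorm _ hd _ ((H ⊓ C).inv_mem hk), ?_⟩
        group }
  have hMmem : ∀ x, x ∈ M ↔ ∃ d ∈ D, ∃ k ∈ H ⊓ C, x = d * k := fun x => Iff.rfl
  have hDM : D ≤ M := fun d hd => ⟨d, hd, 1, (H ⊓ C).one_mem, by simp⟩
  have hMC : M ≤ C := by
    rintro _ ⟨d, hd, k, hk, rfl⟩
    exact C.mul_mem hd.2 hk.2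
  have hsylM : IsSylowIn p D M := hDC.of_le hDM hMC
  have hhD : conjSub h D ≤ M := by
    rintro _ ⟨x, hx, rfl⟩
    refine ⟨x, hx, x⁻¹ * (h * x * h⁻¹), ⟨?_, ?_⟩, ?_⟩
    · have : x⁻¹ * (h * x * h⁻¹) = (x⁻¹ * h * x⁻¹⁻¹) * h⁻¹ := by group
      rw [this]
      exact H.mul_mem (hH.conj_mem h hhH x⁻¹) (H.inv_mem hhH)
    · exact C.mul_mem (C.inv_mem hx.2) (conj_mem_centralizer hhT hx.2)
    · show h * x * h⁻¹ = x * (x⁻¹ * (h * x * h⁻¹))
      group
  have hDp : IsPGroup p (conjSub h D) := isPGroup_conjSub (S.2.to_le inf_le_left)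
  obtain ⟨m, hmM, hm⟩ := hsylM.exists_conj_le hhD hDp
  obtain ⟨d, hd, k, hk, rfl⟩ := hmM
  have hkh : conjSub (k * h) D ≤ D := by
    have h1 : conjSub (d * k) (conjSub h D) = conjSub d (conjSub (k * h) D) := by
      rw [conjSub_conjSub, conjSub_conjSub, mul_assoc]
    rw [h1] at hm
    intro y hy
    have h2 := hm (conj_mem_conjSub (g := d) hy)
    have h3 := D.mul_mem (D.mul_mem (D.inv_mem hd) h2) hd
    have e : d⁻¹ * (d * y * d⁻¹) * d = y := by group
    rwa [e] at h3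
  refine ⟨k * h, H.mul_mem hk.1 hhH, ?_, ?_, mem_normalizer_of_conjSub_le hkh⟩
  · intro x hx
    have hx' : h * x * h⁻¹ ∈ T := (Subgroup.mem_normalizer_iff.mp hhT x).mp hx
    have h1 := Subgroup.mem_centralizer_iff.mp hk.2 _ hx'
    calc k * h * x * (k * h)⁻¹ = k * (h * x * h⁻¹) * k⁻¹ := by group
      _ = (h * x * h⁻¹) * k * k⁻¹ := by rw [← h1]
      _ = h * x * h⁻¹ := by group
  · exact NT.mul_mem (hCNT hk.2) hhT

/-- For a finite group G with Sylow p-subgroup S and a normal subgroup H, the fusion system of H on S ∩ H is a normal subsystem of the fusion system of G on S. -/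
theorem result {G : Type*} [Group G] [Finite G] (p : ℕ) [Fact p.Prime] (S : Sylow p G) (H : Subgroup G) [H.Normal] : (Cfsg.fusionSystemOfSubgroup H ((S : Subgroup G) ⊓ H) inf_le_right).IsNormalIn (Cfsg.groupFusionSystem (S : Subgroup G)) p := by
  have hH : H.Normal := inferInstance
  have hT : IsSylowIn p ((S : Subgroup G) ⊓ H) H := isSylowIn_inf_normal S H
  set T := (S : Subgroup G) ⊓ H with hTdef
  have hTS : T ≤ (S : Subgroup G) := inf_le_left
  have hTH : T ≤ H := inf_le_right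
  have hEsat : (fusionSystemOfSubgroup H T inf_le_right).IsSaturated p := fusionSystemOfSubgroup_isSaturated hT
  have hFsat : (groupFusionSystem (S : Subgroup G)).IsSaturated p := S5076.result p S
  refine ⟨⟨hEsat, hFsat, ?_, ?_, ?_, ?_⟩, ?_⟩
  · -- subsystem
    rintro P φ ⟨hPT, hφT, g, -, hg⟩
    exact ⟨hPT.trans hTS, fun x => (hφT x).1, g, hg⟩
  · -- strongly closed
    refine ⟨hTS, ?_⟩
    rintro R hR φ ⟨-, hφS, g, hg⟩ x
    refine ⟨hφS x, ?_⟩
    rw [hg]
    exact hH.conj_mem _ (hR x.2).2 g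
  · -- invariance
    rintro P hPT φ ⟨-, hφT, h, hhH, hh⟩ α hα
    obtain ⟨n, hn⟩ := S5076.exists_conj_of_mem_autGroup hTS α hα
    refine ⟨conjHom _ (n * h * n⁻¹), ⟨?_, ?_, n * h * n⁻¹, hH.conj_mem h hhH n, fun _ => rfl⟩, ?_⟩
    · rintro _ ⟨x, -, rfl⟩
      exact (α x).2
    · rintro ⟨_, x, hx, rfl⟩
      have hxP : (x : G) ∈ P := Subgroup.mem_subgroupOf.mp hx
      have h0 : ((α ⟨φ ⟨x, hxP⟩, hφT ⟨x, hxP⟩⟩ : T) : G) ∈ T := (α _).2
      rw [hn] at h0
      have h1 : n * φ ⟨x, hxP⟩ * n⁻¹ ∈ T := h0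
      rw [hh] at h1
      show n * h * n⁻¹ * ((α x : T) : G) * (n * h * n⁻¹)⁻¹ ∈ T
      rw [hn]
      have e : n * h * n⁻¹ * (n * (x : G) * n⁻¹) * (n * h * n⁻¹)⁻¹ = n * (h * (x : G) * h⁻¹) * n⁻¹ := by group
      rw [e]
      exact h1
    · intro x hφx hαx
      show n * h * n⁻¹ * ((α ⟨x, hPT x.2⟩ : T) : G) * (n * h * n⁻¹)⁻¹ = ((α ⟨φ x, hφx⟩ : T) : G)
      rw [hn, hn]
      show n * h * n⁻¹ * (n * (x : G) * n⁻¹) * (n * h * n⁻¹)⁻¹ = n * φ x * n⁻¹
      rw [hh]
      group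
  · -- Frattini
    rintro P hPT φ ⟨hPS, hφS, g, hg⟩
    have hgT : conjSub g T ≤ H := by
      rintro _ ⟨x, hx, rfl⟩
      exact hH.conj_mem x hx.2 g
    obtain ⟨h, hhH, hh⟩ := hT.exists_conj_le hgT (isPGroup_conjSub hT.isPGroup)
    rw [conjSub_conjSub] at hh
    have hnT : h * g ∈ Subgroup.normalizer (T : Set G) := mem_normalizer_of_conjSub_le hh
    have hninvT : (h * g)⁻¹ ∈ Subgroup.normalizer (T : Set G) := Subgroup.inv_mem _ hnT
    refine ⟨T.normalizerMonoidHom ⟨h * g, hnT⟩, S5076.normalizerMonoidHom_mem_autGroup hTS _,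
      conjHom P ((h * g)⁻¹ * g), ⟨hPT, fun x => ?_, (h * g)⁻¹ * g, ?_, fun _ => rfl⟩, ?_⟩
    · have hx1 : g * (x : G) * g⁻¹ ∈ T := by
        refine ⟨?_, hH.conj_mem _ (hPT x.2).2 g⟩
        have := hφS x
        rwa [hg] at this
      have h2 := (Subgroup.mem_normalizer_iff.mp hninvT _).mp hx1
      show (h * g)⁻¹ * g * (x : G) * ((h * g)⁻¹ * g)⁻¹ ∈ T
      have e : (h * g)⁻¹ * g * (x : G) * ((h * g)⁻¹ * g)⁻¹ = (h * g)⁻¹ * (g * (x : G) * g⁻¹) * (h * g)⁻¹⁻¹ := by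
        group
      rw [e]
      exact h2
    · have e : (h * g)⁻¹ * g = g⁻¹ * h⁻¹ * g⁻¹⁻¹ := by group
      rw [e]
      exact hH.conj_mem _ (H.inv_mem hhH) g⁻¹
    · intro x hx
      rw [hg]
      show g * (x : G) * g⁻¹ = (h * g) * ((h * g)⁻¹ * g * (x : G) * ((h * g)⁻¹ * g)⁻¹) * (h * g)⁻¹
      group
  · -- extension condition
    intro α hα
    obtain ⟨h, hhH, hh⟩ := exists_conj_of_mem_autGroup_sub hTH le_rfl α hα
    have hhT : h ∈ Subgroup.normalizer (T : Set G) := mem_normalizer_of_conj_eq α h hh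
    obtain ⟨g, hgH, hgx, hgT, hgD⟩ := exists_good_extension S H hhH hhT
    have hgTD : g ∈ Subgroup.normalizer ((T ⊔ centralizerIn (S : Subgroup G) T : Subgroup G) : Set G) := by
      apply mem_normalizer_of_conjSub_le
      show (T ⊔ centralizerIn (S : Subgroup G) T).map (MulAut.conj g).toMonoidHom ≤ _
      rw [Subgroup.map_sup]
      apply sup_le_sup
      · exact (conjSub_eq_of_mem_normalizer hgT).le
      · exact (conjSub_eq_of_mem_normalizer hgD).le
    have hTDS : T ⊔ centralizerIn (S : Subgroup G) T ≤ (S : Subgroup G) := sup_le hTS inf_le_left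
    refine ⟨(T ⊔ centralizerIn (S : Subgroup G) T).normalizerMonoidHom ⟨g, hgTD⟩,
      S5076.normalizerMonoidHom_mem_autGroup hTDS _, ?_, ?_⟩
    · intro x
      show g * (x : G) * g⁻¹ = ((α x : T) : G)
      rw [hgx _ x.2, hh]
    · intro c hc
      show (c : G)⁻¹ * (g * (c : G) * g⁻¹) ∈ T ⊓ Subgroup.centralizer (T : Set G)
      have hgc : g * (c : G) * g⁻¹ ∈ centralizerIn (S : Subgroup G) T :=
        (Subgroup.mem_normalizer_iff.mp hgD _).mp hc
      refine ⟨⟨?_, ?_⟩, ?_⟩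
      · exact (S : Subgroup G).mul_mem ((S : Subgroup G).inv_mem hc.1) hgc.1
      · have e : (c : G)⁻¹ * (g * (c : G) * g⁻¹) = ((c : G)⁻¹ * g * (c : G)⁻¹⁻¹) * g⁻¹ := by group
        rw [e]
        exact H.mul_mem (hH.conj_mem g hgH _) (H.inv_mem hgH)
      · exact Subgroup.mul_mem _ (Subgroup.inv_mem _ hc.2) hgc.2

end Cfsg.Agent.S5118
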