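import Cfsg.Statements.S5121
import Cfsg.Agent.Helper85.NSTop
import Cfsg.Agent.Helper85.NSRev
import Cfsg.Agent.Helper80.NSStruct
import Cfsg.Agent.Helper69.NSUnique
import Cfsg.Agent.Helper86.NSAlperin

set_option autoImplicit false
open Cfsg

namespace Cfsg.Agent.S5121

open Cfsg.FusionSystem Cfsg.Agent.Helper85 Cfsg.Agent.Helper85.NS Cfsg.Agent.Helper87

/-- Let G be a finite group with Sylow p-subgroup S and C_G(O_p(G)) ≤ O_p(G). For every subgroup T ≤ S and every normal subsystem E over T of the fusion system of G on S there is exactly one normal subgroup H of G containing T as a Sylow p-subgroup whose fusion system on T is E. -/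
theorem result {G : Type*} [Group G] [Finite G] (p : ℕ) [Fact p.Prime] (S : Sylow p G) (hG : Subgroup.centralizer ((Cfsg.pCore p G : Subgroup G) : Set G) ≤ Cfsg.pCore p G) (T : Subgroup G) (hTS : T ≤ S) (E : Cfsg.FusionSystem T) (hE : E.IsNormalIn (Cfsg.groupFusionSystem (S : Subgroup G)) p) : ∃ H : Subgroup G, (∃ hTH : T ≤ H, H.Normal ∧ (∃ R : Sylow p H, (R : Subgroup H) = T.subgroupOf H) ∧ ∀ P : Subgroup G, E.Hom P = (Cfsg.fusionSystemOfSubgroup H T hTH).Hom P) ∧ ∀ H' : Subgroup G, (∃ hTH' : T ≤ H', H'.Normal ∧ (∃ R : Sylow p H', (R : Subgroup H') = T.subgroupOf H') ∧ ∀ P : Subgroup G, E.Hom P = (Cfsg.fusionSystemOfSubgroup H' T hTH').Hom P) → H' = H := by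
  classical
  have hEsat : E.IsSaturated p := hE.1.1
  have hinv : E.IsInvariantIn (groupFusionSystem (S : Subgroup G)) := hE.1.2.2
  have hsub : E.IsSubsystemOf (groupFusionSystem (S : Subgroup G)) := hinv.1
  have hsc := hinv.2.1
  have hsc' : ∀ t ∈ T, ∀ g : G, g * t * g⁻¹ ∈ (S : Subgroup G) → g * t * g⁻¹ ∈ T := fun t ht g hg => sc_elt hsc ht hg
  have hTp : IsPGroup p T := S.2.to_le hTS
  set Q := Cfsg.pCore p G with hQdef
  have hQn : Q.Normal := Subgroup.normal_of_characteristic (H := Q) (h := Cfsg.Agent.Lib.pCore_characteristic p)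
  have hQS : Q ≤ S := Cfsg.Agent.Lib.pCore_le_sylow S
  have hTn : ∀ s ∈ (S : Subgroup G), ∀ t ∈ T, s * t * s⁻¹ ∈ T := fun s hs t ht =>
    hsc' t ht s (Subgroup.mul_mem _ (Subgroup.mul_mem _ hs (hTS ht)) (Subgroup.inv_mem _ hs))
  -- `R₀ = T ⊓ Q` is normal in `G`
  have hR₀n : (T ⊓ Q).Normal := by
    refine ⟨fun r hr g => ?_⟩
    have h1 : g * r * g⁻¹ ∈ Q := hQn.conj_mem r hr.2 g
    exact ⟨hsc' r hr.1 g (hQS h1), h1⟩
  have hR₀T : T ⊓ Q ≤ T := inf_le_left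
  -- the subgroups `AR`, `K`, `H₂`
  set AR : Subgroup G := ecSubgroup E (T ⊓ Q) hR₀T (fun g _ => cj_eq_of_normal hR₀n g) with hAR
  have hARn : AR.Normal := ecSubgroup_normal hinv (T ⊓ Q) hR₀T hR₀n
  set K : Subgroup G := chainStab (T ⊓ Q) Q hR₀n hQn with hK
  have hKn : K.Normal := chainStab_normal (T ⊓ Q) Q hR₀n hQn
  set H₂ : Subgroup G := K ⊓ AR with hH₂
  have hH₂n : H₂.Normal := Subgroup.normal_inf_normal K AR
  have hTK : T ≤ K := by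
    intro t ht x hx
    have hxS : x ∈ (S : Subgroup G) := hQS hx
    refine ⟨?_, ?_⟩
    · have h1 : x * t⁻¹ * x⁻¹ ∈ T := hTn x hxS _ (T.inv_mem ht)
      have e : t * x * t⁻¹ * x⁻¹ = t * (x * t⁻¹ * x⁻¹) := by group
      rw [e]
      exact T.mul_mem ht h1
    · have h1 : t * x * t⁻¹ ∈ Q := hQn.conj_mem x hx t
      exact Q.mul_mem h1 (Q.inv_mem hx)
  have hTH₂ : T ≤ H₂ := le_inf hTK (le_ecSubgroup E _ _ _)
  have hH₂K : ∀ g ∈ H₂, ∀ x ∈ Q, g * x * g⁻¹ * x⁻¹ ∈ T ⊓ Q := fun g hg x hx => hg.1 x hx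
  have hH₂syl : ∀ P₁ : Subgroup G, P₁ ≤ H₂ → IsPGroup p P₁ → T ≤ P₁ → ∀ x ∈ P₁, ∃ t ∈ T,
      ∀ r ∈ T ⊓ Q, x * r * x⁻¹ = t * r * t⁻¹ := fun P₁ hP₁ hP₁p hTP₁ =>
    syl_of_normal hEsat hsub (T ⊓ Q) hR₀T hR₀n P₁ (fun x hx => (hP₁ hx).2) hP₁p hTP₁
  obtain ⟨hHn, ⟨R, hR⟩, hHH₂, hp', hcent⟩ :=
    Cfsg.Agent.Helper80.NSStruct.structure_of_H p S hG T hTS hsc' H₂ hH₂n hTH₂ hH₂K hH₂syl
  have hTH : T ≤ Cfsg.pResidualOf p H₂ ⊔ T := le_sup_right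
  have htop := exists_act_of_ec_top S hE (Cfsg.pResidualOf p H₂ ⊔ T) hTH
    (fun g hgK hgE hcop => hp' g ⟨hgK, hgE⟩ hcop)
  have hle := Cfsg.Agent.Helper86.NSAlperin.hom_subset_of_normal p hTp E hEsat hsub
    (Cfsg.pResidualOf p H₂ ⊔ T) hHn hTH htop
  have hge := subgroup_hom_subset hEsat hsub (T ⊓ Q) hR₀T hR₀n (Cfsg.pResidualOf p H₂ ⊔ T) hTH
    (fun h hh => (hHH₂ hh).2) hcent hle
  refine ⟨Cfsg.pResidualOf p H₂ ⊔ T, ⟨hTH, hHn, ⟨R, hR⟩, fun P => Set.Subset.antisymm (hle P) (hge P)⟩, ?_⟩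
  -- uniqueness
  rintro H' ⟨hTH', hH'n, ⟨R', hR'⟩, hEq⟩
  have hH'Q : H' ⊓ Q ≤ T := by
    -- a normal `p`-subgroup of `H'` lies in its Sylow subgroup `T`
    have hNn : ((H' ⊓ Q).subgroupOf H').Normal := by
      have : (H' ⊓ Q).Normal := Subgroup.normal_inf_normal H' Q
      exact Subgroup.Normal.subgroupOf this H'
    have hNp : IsPGroup p ((H' ⊓ Q).subgroupOf H') := by
      have h1 : IsPGroup p (H' ⊓ Q : Subgroup G) := (Cfsg.Agent.Lib.isPGroup_pCore p).to_le inf_le_right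
      exact h1.comap_subtype
    have h2 := hNp.le_sylow_of_normal R'
    intro y hy
    have h3 : (⟨y, hy.1⟩ : ↥H') ∈ (R' : Subgroup ↥H') := h2 (Subgroup.mem_subgroupOf.mpr hy)
    rw [hR'] at h3
    exact Subgroup.mem_subgroupOf.mp h3
  have h1 : H' ≤ H₂ := by
    intro h hh
    refine ⟨fun x hx => ?_, ?_⟩
    · have hc : h * x * h⁻¹ * x⁻¹ ∈ H' ⊓ Q := by
        refine ⟨?_, Q.mul_mem (hQn.conj_mem x hx h) (Q.inv_mem hx)⟩
        have := hH'n.conj_mem h⁻¹ (H'.inv_mem hh) x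
        have e : h * x * h⁻¹ * x⁻¹ = h * (x * h⁻¹ * x⁻¹) := by group
        rw [e]
        exact H'.mul_mem hh this
      exact ⟨hH'Q hc, hc.2⟩
    · show EC E h (T ⊓ Q)
      unfold EC
      rw [hEq]
      refine ⟨hR₀T, fun r => ?_, h, hh, fun r => rfl⟩
      exact hR₀T (hR₀n.conj_mem r r.2 h)
  have h2 : ∀ g ∈ H₂, ∃ h ∈ H', ∀ r ∈ T ⊓ Q, g * r * g⁻¹ = h * r * h⁻¹ := by
    intro g hg
    have hgE : conjHom (T ⊓ Q) g ∈ E.Hom (T ⊓ Q) := hg.2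
    rw [hEq] at hgE
    obtain ⟨-, -, h, hh, hx⟩ := hgE
    exact ⟨h, hh, fun r hr => hx ⟨r, hr⟩⟩
  exact Cfsg.Agent.Helper69.NSUnique.unique_H p S hG T hTS hsc' H₂ hH₂K H' hH'n hTH' ⟨R', hR'⟩ h1 h2

end Cfsg.Agent.S5121
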