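import Cfsg.Statements.S5125
import Cfsg.Agent.Helper87.FusionRadical

set_option autoImplicit false
open Cfsg Cfsg.FusionSystem Cfsg.Agent.Helper87
open scoped commutatorElement

namespace Cfsg.Agent.S5125

/-- Let F be a saturated fusion system over a finite p-group S and Q a subgroup strongly closed in F. If Q has a subgroup Q₁ that is normal in F, with Q/Q₁ abelian and Aut_F(Q₁) a p-group, then Q is normal in F. -/
theorem result {Ω : Type*} [Group Ω] {S : Subgroup Ω} [Finite S] (p : ℕ) [Fact p.Prime] (hS : IsPGroup p S) (F : Cfsg.FusionSystem S) (hF : F.IsSaturated p) (Q Q₁ : Subgroup Ω) (hQ : F.StronglyClosed Q) (hQ₁Q : Q₁ ≤ Q) (hQ₁ : F.IsNormal Q₁) (hab : ⁅Q, Q⁆ ≤ Q₁) (hAut : IsPGroup p ↥(F.autGroup Q₁)) : F.IsNormal Q := by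
  rw [isNormal_iff_stronglyClosed_centric_radical hS F hF]
  refine ⟨hQ, fun P hPc hPr => ?_⟩
  have hPS : P ≤ S := hPc.1
  have hSQ : S ≤ Subgroup.normalizer (Q : Set Ω) := le_normalizer_of_stronglyClosed F hQ
  have hQ₁sc : F.StronglyClosed Q₁ := stronglyClosed_of_isNormal F hQ₁
  have hSQ₁ : S ≤ Subgroup.normalizer (Q₁ : Set Ω) := le_normalizer_of_stronglyClosed F hQ₁sc
  have hQ₁P : Q₁ ≤ P := le_of_isNormal_of_centric_radical hS F hQ₁ hPc hPr
  have hfinP : Finite P := finite_of_le hPS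
  have hPp : IsPGroup p P := hS.to_le hPS
  -- the chain `P ≥ P ∩ Q ≥ Q₁ ≥ Q₁ ≥ …`
  let D : ℕ → Subgroup P := fun k =>
    match k with
    | 0 => ⊤
    | 1 => Q.subgroupOf P
    | (_ + 2) => Q₁.subgroupOf P
  have hDanti : Antitone D := by
    apply antitone_nat_of_succ_le
    intro k
    match k with
    | 0 => exact le_top
    | 1 =>
      show Q₁.subgroupOf P ≤ Q.subgroupOf P
      intro x hx
      exact hQ₁Q hx
    | (k + 2) => exact le_rfl
  -- the chain `P ≥ P ∩ Q ≥ Q₁ ≥ 1`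
  let D₂ : ℕ → Subgroup P := fun k =>
    match k with
    | 0 => ⊤
    | 1 => Q.subgroupOf P
    | 2 => Q₁.subgroupOf P
    | (_ + 3) => ⊥
  have hD₂anti : Antitone D₂ := by
    apply antitone_nat_of_succ_le
    intro k
    match k with
    | 0 => exact le_top
    | 1 =>
      show Q₁.subgroupOf P ≤ Q.subgroupOf P
      intro x hx
      exact hQ₁Q hx
    | 2 => exact bot_le
    | (k + 3) => exact le_rfl
  have hStabP : IsPGroup p (chainStab D₂ hD₂anti) := isPGroup_chainStab hPp D₂ hD₂anti rfl 3 rfl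
  -- invariance of the chain under the automorphisms of the system
  have hinv : ∀ α : MulAut P, IsIso F (α : P ≃* P) → ∀ k, ∀ x ∈ D k, α x ∈ D k := by
    intro α hα k x hx
    have hαA : α ∈ F.autGroup P := (mem_autGroup_iff F hPS α).mpr hα
    match k with
    | 0 => exact Subgroup.mem_top _
    | 1 => exact aut_mem_of_stronglyClosed F hQ hPS hαA x hx
    | (k + 2) => exact aut_mem_of_stronglyClosed F hQ₁sc hPS hαA x hx
  set A := F.autGroup P with hA
  have hKn : ((chainStab D hDanti ⊓ A).subgroupOf A).Normal := by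
    constructor
    intro κ hκ α
    rw [Subgroup.mem_subgroupOf] at hκ ⊢
    refine ⟨?_, (α * κ * α⁻¹).2⟩
    have hαiso := (mem_autGroup_iff F hPS _).mp α.2
    have hαiso' : IsIso F (((α : MulAut P)⁻¹ : MulAut P) : P ≃* P) := hαiso.symm
    exact conj_mem_chainStab D hDanti α κ (hinv _ hαiso) (hinv _ hαiso') hκ.1
  have hKp : IsPGroup p ((chainStab D hDanti ⊓ A).subgroupOf A) := by
    rintro ⟨κ, hκ⟩
    rw [Subgroup.mem_subgroupOf] at hκ
    -- the restriction of `κ` to `Q₁` has `p`-power order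
    obtain ⟨a, ha⟩ := hAut (resAut F hQ₁sc hQ₁P hPS κ)
    rw [← map_pow] at ha
    -- `κ ^ p ^ a` fixes `Q₁` pointwise and stabilizes the chain
    have hκ' : ((κ ^ p ^ a : A) : MulAut P) ∈ chainStab D hDanti := by
      rw [Subgroup.coe_pow]
      exact Subgroup.pow_mem _ hκ.1 _
    have hfix : ∀ x : P, (x : Ω) ∈ Q₁ → ((κ ^ p ^ a : A) : MulAut P) x = x := by
      intro x hx
      have h1 := resAut_apply F hQ₁sc hQ₁P hPS (κ ^ p ^ a) ⟨x, hx⟩
      rw [ha] at h1
      apply Subtype.ext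
      exact h1.symm
    have hκ₂ : ((κ ^ p ^ a : A) : MulAut P) ∈ chainStab D₂ hD₂anti := by
      intro k x hx
      match k with
      | 0 => exact hκ' 0 x hx
      | 1 => exact hκ' 1 x hx
      | 2 =>
        have hx' : (x : Ω) ∈ Q₁ := hx
        rw [hfix x hx']
        show x⁻¹ * x ∈ (⊥ : Subgroup P)
        simp
      | (k + 3) =>
        have hx' : x = 1 := by
          have : x ∈ (⊥ : Subgroup P) := hx
          rwa [Subgroup.mem_bot] at this
        show x⁻¹ * _ ∈ (⊥ : Subgroup P)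
        rw [hx']
        simp
    obtain ⟨b, hb⟩ := hStabP ⟨_, hκ₂⟩
    refine ⟨a + b, ?_⟩
    have hb' : ((κ ^ p ^ a : A) : MulAut P) ^ p ^ b = 1 := by
      have := congrArg Subtype.val hb
      simpa using this
    apply Subtype.ext
    apply Subtype.ext
    show ((κ ^ p ^ (a + b) : A) : MulAut P) = 1
    rw [pow_add, pow_mul, Subgroup.coe_pow]
    rw [Subgroup.coe_pow] at hb'
    exact hb'
  apply le_of_centric_radical_of_normal_pGroup hS F hPc hPr hQ.1 hSQ _ hKn hKp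
  intro c hcQ hcN hβA
  rw [Subgroup.mem_subgroupOf]
  refine ⟨?_, hβA⟩
  have hcS : c ∈ S := hQ.1 hcQ
  intro k x hx
  match k with
  | 0 =>
    show ((x⁻¹ * conjAut P c hcN x : P) : Ω) ∈ Q
    have h1 : (x : Ω)⁻¹ * c * (x : Ω)⁻¹⁻¹ ∈ Q :=
      (Subgroup.mem_normalizer_iff.mp (hSQ (S.inv_mem (hPS x.2))) c).mp hcQ
    rw [inv_inv] at h1
    have : ((x⁻¹ * conjAut P c hcN x : P) : Ω) = ((x : Ω)⁻¹ * c * x) * c⁻¹ := by
      show (x : Ω)⁻¹ * (c * x * c⁻¹) = _
      group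
    rw [this]
    exact Q.mul_mem h1 (Q.inv_mem hcQ)
  | 1 =>
    have hxQ : (x : Ω) ∈ Q := hx
    show ((x⁻¹ * conjAut P c hcN x : P) : Ω) ∈ Q₁
    have h1 : ⁅(x : Ω)⁻¹, c⁆ ∈ ⁅Q, Q⁆ := Subgroup.commutator_mem_commutator (Q.inv_mem hxQ) hcQ
    have h2 := hab h1
    have : ((x⁻¹ * conjAut P c hcN x : P) : Ω) = ⁅(x : Ω)⁻¹, c⁆ := by
      show (x : Ω)⁻¹ * (c * x * c⁻¹) = _
      rw [commutatorElement_def]; group
    rw [this]
    exact h2
  | (k + 2) =>
    have hxQ : (x : Ω) ∈ Q₁ := hx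
    show ((x⁻¹ * conjAut P c hcN x : P) : Ω) ∈ Q₁
    have h1 : c * (x : Ω) * c⁻¹ ∈ Q₁ := (Subgroup.mem_normalizer_iff.mp (hSQ₁ hcS) _).mp hxQ
    exact Q₁.mul_mem (Q₁.inv_mem hxQ) h1

end Cfsg.Agent.S5125
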