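import Cfsg.Statements.S5126
import Cfsg.Agent.Helper87.NormModel
import Cfsg.Agent.S5098
import Cfsg.Agent.S5086

set_option autoImplicit false
open Cfsg Cfsg.FusionSystem Cfsg.Agent.Helper87

namespace Cfsg.Agent.S5126

/-- In a saturated fusion system over a finite p-group S, the normalizer system of a fully normalized, centric, radical subgroup R is constrained, and in every model of that normalizer system the largest normal p-subgroup is the image of R. -/
theorem result {Ω : Type*} [Group Ω] {S : Subgroup Ω} [Finite S] (p : ℕ) [Fact p.Prime] (hS : IsPGroup p S) (F : Cfsg.FusionSystem S) (hF : F.IsSaturated p) (R : Subgroup Ω) (hRn : F.IsFullyNormalized R) (hRc : F.IsCentric R) (hRr : F.IsRadical p R) (E : Cfsg.FusionSystem (Cfsg.FusionSystem.normalizerIn S R)) (hE : F.IsNormalizerSystem R E) {G : Type*} [Group G] (ι : ↥(Cfsg.FusionSystem.normalizerIn S R) →* G) : E.IsConstrained p ∧ (E.IsModel p G ι → (Cfsg.pCore p G : Subgroup G) = (R.subgroupOf (Cfsg.FusionSystem.normalizerIn S R)).map ι) :=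 by
  have hRS : R ≤ S := hRn.1
  have hfinN : Finite (normalizerIn S R) := finite_of_le inf_le_left
  have hNp : IsPGroup p (normalizerIn S R) := hS.to_le inf_le_left
  have hEsat := Cfsg.Agent.S5098.result p hS F hF R hRn E hE
  have hRnE := isNormal_normalizerSystem F hRS E hE
  have hRcE := isCentric_normalizerSystem F hRc E hE
  have hRrE := isRadical_normalizerSystem F hRr E hE
  refine ⟨⟨hEsat, R, hRnE, hRcE⟩, fun hmodel => ?_⟩
  have hUn := isNormal_preimageAlong_pCore p E ι hmodel
  have hUR : preimageAlong ι (Cfsg.pCore p G) ≤ R :=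
    ((Cfsg.Agent.S5086.result p hNp E hEsat _).mp hUn).2 R hRcE hRrE
  have hRnormal := normal_map_of_isNormal p E ι hmodel hRnE
  obtain ⟨hfin, ⟨hinj, hreal⟩, ⟨T, hT⟩, hcent⟩ := hmodel
  apply le_antisymm
  · intro o ho
    have hOT : Cfsg.pCore p G ≤ ι.range := by
      rw [← hT]
      exact Cfsg.Agent.Lib.pCore_le_sylow T
    obtain ⟨n, rfl⟩ := hOT ho
    have hn : (n : Ω) ∈ preimageAlong ι (Cfsg.pCore p G) :=
      (Cfsg.Agent.Helper85.mem_preimageAlong ι _ _).mpr ⟨n.2, ho⟩
    exact ⟨n, Subgroup.mem_subgroupOf.mpr (hUR hn), rfl⟩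
  · apply Cfsg.Agent.Lib.le_pCore hRnormal
    exact (hNp.to_subgroup _).map ι

end Cfsg.Agent.S5126
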