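import Cfsg.Statements.S5130
import Cfsg.Agent.Helper85.DirectFactor2

set_option autoImplicit false
open Cfsg

namespace Cfsg.Agent.S5130



/-- Let F be a saturated fusion system over a finite p-group S that is the direct product of two subgroups S₁ and S₂, each strongly closed in F. Let R be the full subsystem of F over S₁ (all maps of F between subgroups of S₁) and R′ the subsystem over S₁ of those maps that extend to the subgroup generated with S₂ fixing S₂ elementwise. Then R and R′ are saturated, R′ is normal in F and in R, and R is weakly normal in F. -/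
theorem result {Ω : Type*} [Group Ω] {S : Subgroup Ω} [Finite S] (p : ℕ) [Fact p.Prime] (hS : IsPGroup p S) (F : Cfsg.FusionSystem S) (hF : F.IsSaturated p) (S₁ S₂ : Subgroup Ω) (hprod : Cfsg.IsInternalDirectProduct S₁ S₂ S) (h₁ : F.StronglyClosed S₁) (h₂ : F.StronglyClosed S₂) (R R' : Cfsg.FusionSystem S₁) (hR : ∀ P : Subgroup Ω, P ≤ S₁ → R.Hom P = F.Hom P) (hR' : ∀ P : Subgroup Ω, P ≤ S₁ → R'.Hom P = F.centralizerHom S₂ P) : R.IsSaturated p ∧ R'.IsSaturated p ∧ R'.IsNormalIn F p ∧ R'.IsNormalIn R p ∧ R.IsWeaklyNormalIn F p := by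
  obtain ⟨h1S, h2S, hcomm, -, hsup⟩ := hprod
  have hdec : ∀ g ∈ S, ∃ g₁ ∈ S₁, ∃ g₂ ∈ S₂, g = g₁ * g₂ := by
    intro g hg
    rw [← hsup] at hg
    obtain ⟨a, ha, b, hb, hab⟩ := (Cfsg.Agent.Helper85.mem_sup_of_comm hcomm g).mp hg
    exact ⟨a, ha, b, hb, hab.symm⟩
  have hS₂cen : ∀ b ∈ S₂, b ∈ Subgroup.centralizer (S₁ : Set Ω) := fun b hb =>
    Subgroup.mem_centralizer_iff.mpr (fun a ha => hcomm a ha b hb)
  have hdec' : ∀ g ∈ S, ∃ g₁ ∈ S₁, ∃ g₂ ∈ Subgroup.centralizer (S₁ : Set Ω), g = g₁ * g₂ := by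
    intro g hg
    obtain ⟨g₁, hg₁, g₂, hg₂, h⟩ := hdec g hg
    exact ⟨g₁, hg₁, g₂, hS₂cen g₂ hg₂, h⟩
  -- `R` is saturated
  have hRsat : R.IsSaturated p := Cfsg.Agent.Helper85.isSaturated_restrict_factor F hF h₁ hdec' R hR
  -- the centralizer system of `S₂`
  have hfc : F.IsFullyCentralized S₂ := by
    refine ⟨h2S, fun Q hQ => ?_⟩
    obtain ⟨φ, hφ, rfl⟩ := hQ
    have : Finite S₂ := Cfsg.Agent.Helper87.finite_of_le h2S
    have hle : φ.range ≤ S₂ := by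
      rintro _ ⟨x, rfl⟩
      exact h₂.2 S₂ le_rfl φ hφ x
    have hcard : Nat.card φ.range = Nat.card S₂ := Cfsg.Agent.Helper88.FS.card_range_eq_of_mem F hφ
    have hEq : φ.range = S₂ := Subgroup.eq_of_le_of_card_ge hle (le_of_eq hcard.symm)
    rw [hEq]
  have hCsat : (Cfsg.Agent.S5097.centralizerSystem F S₂ h2S).IsSaturated p :=
    Cfsg.Agent.S5099.result p hS F hF S₂ hfc _ (fun P => rfl)
  have hS₁C : S₁ ≤ Cfsg.FusionSystem.centralizerIn S S₂ :=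
    Cfsg.Agent.Helper85.le_centralizerIn_of_comm h1S (fun b hb a ha => (hcomm a ha b hb).symm)
  have h₁C : (Cfsg.Agent.S5097.centralizerSystem F S₂ h2S).StronglyClosed S₁ := by
    refine ⟨hS₁C, fun Q hQ φ hφ x => ?_⟩
    exact h₁.2 Q hQ φ hφ.1 x
  have : Finite ↥(Cfsg.FusionSystem.centralizerIn S S₂) := Cfsg.Agent.Helper87.finite_of_le inf_le_left
  have hR'sat : R'.IsSaturated p :=
    Cfsg.Agent.Helper85.isSaturated_restrict_factor (Cfsg.Agent.S5097.centralizerSystem F S₂ h2S) hCsat h₁C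
      (fun g hg => hdec' g hg.1) R' (fun P hP => hR' P hP)
  -- subsystem relations
  have hR'F : R'.IsSubsystemOf F := by
    intro P φ hφ
    have hP : P ≤ S₁ := (R'.le_of_mem hφ).1
    rw [hR' P hP] at hφ
    exact hφ.1
  have hRF : R.IsSubsystemOf F := by
    intro P φ hφ
    have hP : P ≤ S₁ := (R.le_of_mem hφ).1
    rw [hR P hP] at hφ
    exact hφ
  have hR'R : R'.IsSubsystemOf R := by
    intro P φ hφ
    have hP : P ≤ S₁ := (R'.le_of_mem hφ).1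
    rw [hR P hP]
    exact hR'F P hφ
  have hRsc : R.StronglyClosed S₁ := ⟨le_rfl, fun Q _ φ hφ x => (R.le_of_mem hφ).2 x⟩
  have hA : R.autGroup S₁ = F.autGroup S₁ := by
    ext γ
    rw [Cfsg.Agent.Helper87.mem_autGroup_iff R le_rfl, Cfsg.Agent.Helper87.mem_autGroup_iff F h1S]
    unfold Cfsg.Agent.Helper87.IsIso
    rw [hR S₁ le_rfl]
  have hAI : Cfsg.Agent.Helper85.AutInv R' (F.autGroup S₁) :=
    Cfsg.Agent.Helper85.autInv_centralizer_factor hS F hF h₁ h₂ hcomm R' hR'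
  have hFr := Cfsg.Agent.Helper85.frattini_centralizer_factor hS F hF h₁ h₂ hcomm R' hR'
  have hAIR : Cfsg.Agent.Helper85.AutInv R (R.autGroup S₁) := Cfsg.Agent.Helper85.autInv_self R
  have : Finite S₁ := Cfsg.Agent.Helper87.finite_of_le h1S
  refine ⟨hRsat, hR'sat, ⟨⟨hR'sat, hF, hR'F, h₁, ?_, ?_⟩, ?_⟩, ⟨⟨hR'sat, hRsat, hR'R, hRsc, ?_, ?_⟩, ?_⟩,
    ⟨hRsat, hF, hRF, h₁, ?_, ?_⟩⟩
  · intro P hPT φ hφ α hα
    obtain ⟨χ, hχ, hχx⟩ := hAI hPT hφ hα _ (Cfsg.Agent.Helper85.imgT_spec α hPT)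
    exact ⟨χ, hχ, fun x hφx hαx => hχx x hαx hφx⟩
  · intro P hPT φ hφ
    exact hFr P hPT φ hφ
  · exact Cfsg.Agent.Helper85.extension_centralizer_factor F h1S h2S hcomm hdec R' hR'
  · intro P hPT φ hφ α hα
    rw [hA] at hα
    obtain ⟨χ, hχ, hχx⟩ := hAI hPT hφ hα _ (Cfsg.Agent.Helper85.imgT_spec α hPT)
    exact ⟨χ, hχ, fun x hφx hαx => hχx x hαx hφx⟩
  · intro P hPT φ hφ
    rw [hR P hPT] at hφ
    obtain ⟨α, hα, φ₀, hφ₀, hx⟩ := hFr P hPT φ hφ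
    exact ⟨α, by rw [hA]; exact hα, φ₀, hφ₀, hx⟩
  · exact Cfsg.Agent.Helper85.extension_same_group R R' hR'R
  · intro P hPT φ hφ α hα
    rw [← hA] at hα
    obtain ⟨χ, hχ, hχx⟩ := hAIR hPT hφ hα _ (Cfsg.Agent.Helper85.imgT_spec α hPT)
    exact ⟨χ, hχ, fun x hφx hαx => hχx x hαx hφx⟩
  · intro P hPT φ hφ
    refine ⟨1, (F.autGroup S₁).one_mem, φ, by rw [hR P hPT]; exact hφ, fun x hx => rfl⟩

end Cfsg.Agent.S5130
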