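import Cfsg.Statements.S5139
import Cfsg.Agent.Helper85.PPowerIndex
import Cfsg.Agent.Helper86.SubgroupFusion
import Cfsg.Agent.S5093

set_option autoImplicit false
open Cfsg

namespace Cfsg.Agent.S5139

open Cfsg.FusionSystem Cfsg.Agent.Helper85 Cfsg.Agent.Helper86 Cfsg.Agent.Helper87

variable {G : Type*} [Group G]

/-- An automorphism of order prime to `p` induced by conjugation is induced by an element of `O^p(G)`. -/
theorem exists_conj_pResidual [Finite G] {p : ℕ} [Fact p.Prime] {P : Subgroup G} [Finite (MulAut P)] (α : MulAut P)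
    (hα : (orderOf α).Coprime p) (g : G) (hg : ∀ x : P, ((α x : P) : G) = g * x * g⁻¹) :
    ∃ h ∈ Cfsg.pResidual p G, ∀ x : P, ((α x : P) : G) = h * x * h⁻¹ := by
  have hp : p.Prime := Fact.out
  have hpos : 0 < orderOf g := orderOf_pos g
  obtain ⟨a, m, hm, hgm⟩ := Nat.exists_eq_pow_mul_and_not_dvd hpos.ne' p hp.ne_one
  have hmcop : m.Coprime p := ((Nat.Prime.coprime_iff_not_dvd hp).mpr hm).symm
  have ho : orderOf α ≠ 0 := (orderOf_pos α).ne'
  have hcop : Nat.Coprime (p ^ a) (orderOf α) := Nat.Coprime.pow_left a hα.symm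
  obtain ⟨k, -, hk⟩ := Nat.exists_mul_mod_eq_of_coprime 1 hcop ho
  have hαpow : α ^ (p ^ a * k) = α := by
    rw [← pow_mod_orderOf, hk, pow_mod_orderOf, pow_one]
  refine ⟨g ^ (p ^ a * k), ?_, fun x => ?_⟩
  · apply Cfsg.Agent.Lib.mem_pResidual_of_coprime
    have h1 : (g ^ (p ^ a * k)) ^ m = 1 := by
      rw [← pow_mul, mul_right_comm, ← hgm, pow_mul, pow_orderOf_eq_one, one_pow]
    exact Nat.Coprime.coprime_dvd_left (orderOf_dvd_of_pow_eq_one h1) hmcop
  · have := Cfsg.Agent.S5093.aut_pow_apply α g hg (p ^ a * k) x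
    rw [hαpow] at this
    exact this

/-- The fusion system of `O^p(G)` on `S ∩ O^p(G)` is a subsystem of `p`-power index of the fusion system of `G` on `S`. -/
theorem hasPPowerIndexIn_pResidual [Finite G] (p : ℕ) [Fact p.Prime] (S : Sylow p G) :
    (Cfsg.fusionSystemOfSubgroup (Cfsg.pResidual p G) ((S : Subgroup G) ⊓ Cfsg.pResidual p G) inf_le_right).HasPPowerIndexIn
      (Cfsg.groupFusionSystem (S : Subgroup G)) p := by
  refine ⟨?_, ?_, ?_⟩
  · rintro P φ ⟨hP, hφ, g, -, hg⟩
    exact ⟨hP.trans inf_le_left, fun x => (hφ x).1, g, hg⟩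
  · rw [Cfsg.Agent.S5093.result p S]
  · intro P hPT
    have hPS : P ≤ (S : Subgroup G) := hPT.trans inf_le_left
    have : Finite (MulAut P) := finite_mulAut_of_le hPS
    rw [Subgroup.map_le_iff_le_comap]
    unfold Cfsg.pResidual
    rw [Subgroup.closure_le]
    intro α hα
    have hα' : (orderOf (α : MulAut P)).Coprime p := by
      rw [Subgroup.orderOf_coe]
      exact hα
    have hiso := (mem_autGroup_iff (Cfsg.groupFusionSystem (S : Subgroup G)) hPS (α : MulAut P)).1 α.2
    obtain ⟨-, -, g, hg⟩ := hiso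
    obtain ⟨h, hh, hhx⟩ := exists_conj_pResidual (α : MulAut P) hα' g (fun x => hg x)
    show (α : MulAut P) ∈ (Cfsg.fusionSystemOfSubgroup (Cfsg.pResidual p G) ((S : Subgroup G) ⊓ Cfsg.pResidual p G)
      inf_le_right).autGroup P
    rw [mem_autGroup_iff _ hPT]
    exact ⟨hPT, fun x => hPT ((α : MulAut P) x).2, h, hh, fun x => hhx x⟩

theorem isSylowIn_inf_pResidual [Finite G] (p : ℕ) [Fact p.Prime] (S : Sylow p G) :
    IsSylowIn p ((S : Subgroup G) ⊓ Cfsg.pResidual p G) (Cfsg.pResidual p G) := by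
  apply (isSylowIn_top S).inf_normal le_top
  intro x _
  have : (Cfsg.pResidual p G).Normal := Cfsg.Agent.Lib.pResidual_normal p
  rw [Subgroup.normalizer_eq_top]
  exact Subgroup.mem_top x


/-- Let G be a finite group with Sylow p-subgroup S and O^p(G) the subgroup generated by the elements of order prime to p. Then the p-residual subsystem of the fusion system of G on S — the saturated subsystem of p-power index over the hyperfocal subgroup — is the fusion system of O^p(G) on S ∩ O^p(G): its maps are exactly the conjugation maps by elements of O^p(G) between subgroups of S ∩ O^p(G). -/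
theorem result {G : Type*} [Group G] [Finite G] (p : ℕ) [Fact p.Prime] (S : Sylow p G) (E : Cfsg.FusionSystem ((Cfsg.groupFusionSystem (S : Subgroup G)).hyperfocalSubgroup p)) (hE : (Cfsg.groupFusionSystem (S : Subgroup G)).IsPResidual p E) : ∃ h : (S : Subgroup G) ⊓ Cfsg.pResidual p G ≤ Cfsg.pResidual p G, ∀ P : Subgroup G, E.Hom P = (Cfsg.fusionSystemOfSubgroup (Cfsg.pResidual p G) ((S : Subgroup G) ⊓ Cfsg.pResidual p G) h).Hom P := by
  refine ⟨inf_le_right, fun P => ?_⟩
  have hsat := fusionSystemOfSubgroup_isSaturated (isSylowIn_inf_pResidual p S)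
  exact Cfsg.Agent.Helper85.hom_eq_of_pPowerIndex' S.isPGroup' (Cfsg.groupFusionSystem (S : Subgroup G))
    (Cfsg.Agent.S5093.result p S) E _ hE.1 hsat hE.2 (hasPPowerIndexIn_pResidual p S) P

end Cfsg.Agent.S5139
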