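import Cfsg.Statements.S5141
import Cfsg.Agent.Helper85.PPrimeResidual
import Cfsg.Agent.Helper85.KLMain
import Cfsg.Agent.Helper85.XMain

set_option autoImplicit false
open Cfsg

namespace Cfsg.Agent.S5141

open Cfsg.FusionSystem Cfsg.Agent.Helper87 Cfsg.Agent.Helper88.FS Cfsg.Agent.Helper85 Cfsg.Agent.Helper85.KL
  Cfsg.Agent.Helper85.XT

/-- Let F be a saturated fusion system over a finite p-group S and E a weakly normal subsystem of F over T. Then the p'-residual subsystem of E (the least saturated subsystem of E over T of index prime to p) is normal in F. -/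
theorem result {Ω : Type*} [Group Ω] {S : Subgroup Ω} [Finite S] (p : ℕ) [Fact p.Prime] (hS : IsPGroup p S) (F : Cfsg.FusionSystem S) (hF : F.IsSaturated p) {T : Subgroup Ω} (E : Cfsg.FusionSystem T) (hE : E.IsWeaklyNormalIn F p) (D : Cfsg.FusionSystem T) (hD : E.IsPPrimeResidual p D) : D.IsNormalIn F p := by
  have hEsat : E.IsSaturated p := hE.1
  have hEF : E.IsSubsystemOf F := hE.2.2.1
  have hTsc : F.StronglyClosed T := hE.2.2.2.1
  have hEfrat := hE.2.2.2.2.2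
  have hTS : T ≤ S := hTsc.1
  have hfinT : Finite T := finite_of_le hTS
  have hT : IsPGroup p T := hS.to_le hTS
  have hDE : D.IsSubsystemOf E := hD.2.1.1
  have hDF : D.IsSubsystemOf F := fun P φ h => hEF P (hDE P h)
  -- Frattini for `D` in `E`
  have h14D : ∀ P : Subgroup Ω, E.IsCentric P →
      (Subgroup.closure {α : ↥(E.autGroup P) | ∃ k : ℕ, orderOf α = p ^ k}).map (E.autGroup P).subtype ≤
        D.autGroup P := fun P hP => hD.2.1.2 P hP.1
  obtain ⟨-, hfrDE, -⟩ := Cfsg.Agent.S5114.result p hT E hEsat D hDE h14D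
  have hfrat : ∀ (P : Subgroup Ω), P ≤ T → ∀ (φ : P →* Ω), φ ∈ F.Hom P →
      ∃ α ∈ F.autGroup T, ∃ φ₀ ∈ D.Hom P, ∀ (x : P) (hx : φ₀ x ∈ T), φ x = ((α ⟨φ₀ x, hx⟩ : T) : Ω) := by
    intro P hPT φ hφ
    obtain ⟨α, hα, φ₁, hφ₁, hαφ⟩ := hEfrat P hPT φ hφ
    obtain ⟨β, hβ, φ₀, hφ₀, hβφ⟩ := hfrDE P φ₁ hφ₁
    have hβF : β ∈ F.autGroup T := autGroup_le_of_isSubsystemOf hEF le_rfl hTS hβ
    refine ⟨α * β, Subgroup.mul_mem _ hα hβF, φ₀, hφ₀, fun x hx => ?_⟩
    have h1 := hβφ x hx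
    have hφ₁T : φ₁ x ∈ T := (E.le_of_mem hφ₁).2 x
    rw [hαφ x hφ₁T, MulAut.mul_apply]
    congr 2
    exact Subtype.ext h1
  refine ⟨⟨hD.1, hF, hDF, hTsc, residual_invariant p hS F hF E hE D hD, hfrat⟩, ?_⟩
  -- the extension condition
  obtain ⟨G, hG⟩ := exists_goodSystem p hS F hF E hE
  have hGE : G ≤ E := fun P φ h => ((hG P φ).mp h).1
  set J : FusionSystem T := interSystem E {E' | ∀ P : Subgroup Ω, E.IsCentric P → G.Hom P ⊆ E'.Hom P} with hJ
  have hJE : J ≤ E := interSystem_le E _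
  have hJG : J ≤ G := interSystem_le_of_mem E (fun P _ => subset_rfl)
  have hGJ : ∀ P : Subgroup Ω, E.IsCentric P → G.Hom P ⊆ J.Hom P :=
    fun P hP φ hφ => ⟨hGE P hφ, fun E' hE' => hE' P hP hφ⟩
  have h14 : ∀ P : Subgroup Ω, E.IsCentric P →
      (Subgroup.closure {α : ↥(E.autGroup P) | ∃ k : ℕ, orderOf α = p ^ k}).map (E.autGroup P).subtype ≤
        J.autGroup P := by
    intro P hP
    have hPT := hP.1
    rw [Subgroup.map_le_iff_le_comap, Subgroup.closure_le]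
    rintro n ⟨k, hk⟩
    show (n : MulAut P) ∈ J.autGroup P
    rw [mem_autGroup_iff _ hPT]
    apply hGJ P hP
    rw [hG]
    refine ⟨(mem_autGroup_iff E hPT _).mp n.2, fun _ => ?_⟩
    exact goodExt_of_orderOf p hS F hF E hE hP (n : MulAut P) n.2 k (by rw [Subgroup.orderOf_coe, hk])
  obtain ⟨hidx, hfr, hcen⟩ := Cfsg.Agent.S5114.result p hT E hEsat J hJE h14
  have hgen : ∀ E' : FusionSystem T, (∀ P ∈ {P : Subgroup Ω | E.IsCentric P},
      J.Hom P ⊆ E'.Hom P) → J ≤ E' := fun E' hE' =>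
    interSystem_le_of_mem E (fun P hP => (hGJ P hP).trans (hE' P hP))
  have hsatJ : J.IsSaturated p := by
    refine Cfsg.Agent.Helper84.saturated_of_criterion p hT J {P : Subgroup Ω | E.IsCentric P}
      ?_ ?_ hgen ?_
    · intro P hP Q hPQ
      obtain ⟨φ, hφ, hr⟩ := hPQ
      exact isCentric_of_isConj E hP ⟨φ, hJE P hφ, hr⟩
    · intro P hP
      have hPT : P ≤ T := hP.1
      obtain ⟨Q₀, hPQ₀, hQ₀n⟩ := exists_isConj_fullyNormalized E hPT
      obtain ⟨φ, hφ, hφr⟩ := hPQ₀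
      obtain ⟨α, hα, φ₀, hφ₀, hαφ⟩ := hfr P φ hφ
      have hφ₀T : ∀ x, φ₀ x ∈ T := (J.le_of_mem hφ₀).2
      have hQT : φ₀.range ≤ T := by
        rintro _ ⟨x, rfl⟩
        exact hφ₀T x
      have hJconj : J.IsConj P φ₀.range := ⟨φ₀, hφ₀, rfl⟩
      have hEconjPQ : E.IsConj P φ₀.range := ⟨φ₀, hJE P hφ₀, rfl⟩
      have hEconjQQ₀ : E.IsConj φ₀.range Q₀ := isConj_trans E (isConj_symm E hEconjPQ) ⟨φ, hφ, hφr⟩
      have hαQ : ∀ x : T, (x : Ω) ∈ φ₀.range ↔ ((α x : T) : Ω) ∈ Q₀ := by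
        intro x
        constructor
        · rintro ⟨y, hy⟩
          have hx : x = ⟨φ₀ y, hφ₀T y⟩ := Subtype.ext hy.symm
          rw [hx, ← hαφ y (hφ₀T y), ← hφr]
          exact ⟨y, rfl⟩
        · intro hx
          rw [← hφr] at hx
          obtain ⟨y, hy⟩ := hx
          have h1 := hαφ y (hφ₀T y)
          have h2 : (α ⟨φ₀ y, hφ₀T y⟩ : T) = α x := Subtype.ext (h1.symm.trans hy)
          have h3 := α.injective h2
          exact ⟨y, congrArg Subtype.val h3⟩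
      have hcard := card_normalizerIn_le_of_aut α hQT hαQ
      have hQn : E.IsFullyNormalized φ₀.range :=
        ⟨hQT, fun R hR => (hQ₀n.2 R (isConj_trans E (isConj_symm E hEconjQQ₀) hR)).trans hcard⟩
      obtain ⟨hQc, hQa⟩ := fullyAutomized_fullyCentralized_of_fullyNormalized hT E hEsat hQn
      have hQr : E.IsReceptive φ₀.range := receptive_of_fullyCentralized hT E hEsat hQc
      refine ⟨φ₀.range, hJconj, isFullyAutomized_of_le hJE hQa, hQT, fun R ψ hψ hψr => ?_⟩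
      have hψE : ψ ∈ E.Hom R := hJE R hψ
      obtain ⟨ψ', hψ', hψ'x⟩ := hQr.2 R ψ hψE hψr
      have hRN : R ≤ extender T R ψ := le_extender_of_mem E hψE
      have hNT : extender T R ψ ≤ T := (E.le_of_mem hψ').1
      have hRc : E.IsCentric R :=
        isCentric_of_isConj E hP (isConj_trans E hEconjPQ (isConj_symm E ⟨ψ, hψE, hψr⟩))
      have hNc : E.IsCentric (extender T R ψ) := isCentric_of_le E hRc hRN hNT
      refine ⟨ψ', hGJ _ hNc ?_, hψ'x⟩
      -- Frattini factorization of the extension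
      obtain ⟨β, hβ, ψ₀, hψ₀, hβψ⟩ := hfr (extender T R ψ) ψ' hψ'
      have hψ₀T : ∀ x, ψ₀ x ∈ T := (J.le_of_mem hψ₀).2
      have hψ₀G : ψ₀ ∈ G.Hom (extender T R ψ) := hJG _ hψ₀
      have hρJ : ψ₀.comp (Subgroup.inclusion hRN) ∈ J.Hom R := Cfsg.Agent.Helper87.restrict_mem J hψ₀ hRN
      set ρ : R →* Ω := ψ₀.comp (Subgroup.inclusion hRN) with hρ
      have hP'T : ρ.range ≤ T := by
        rintro _ ⟨x, rfl⟩
        exact hψ₀T _
      have hP'c : E.IsCentric ρ.range := isCentric_of_isConj E hRc ⟨ρ, hJE R hρJ, rfl⟩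
      obtain ⟨ρi, hρi, hρix⟩ := J.inv_mem hρJ
      have hρiR : ∀ y : ρ.range, ρi y ∈ R := by
        rintro ⟨_, x, rfl⟩
        rw [hρix x]
        exact x.2
      have hcomp := J.comp_mem hρi hψ hρiR
      have hβres : resAut hP'T β ∈ J.Hom ρ.range := by
        refine mem_of_eq J hcomp ?_
        rintro ⟨_, x, rfl⟩
        rw [resAut_apply]
        have e1 : (ψ.comp (ρi.codRestrict R hρiR)) ⟨ρ x, ⟨x, rfl⟩⟩ = ψ x := by
          show ψ ⟨ρi ⟨ρ x, ⟨x, rfl⟩⟩, _⟩ = ψ x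
          congr 1
          exact Subtype.ext (hρix x)
        rw [e1]
        have e2 := hβψ (Subgroup.inclusion hRN x) (hψ₀T _)
        have e3 := hψ'x (x : Ω) x.2 (hRN x.2)
        rw [← e3]
        exact e2.symm
      have hβgood : GoodExt F T (resAut hP'T β) := ((hG _ _).mp (hJG _ hβres)).2 hP'c
      have hβext : ExtCond F T β := extCond_of_goodExt_resAut p hS F hF E hE hP'T hP'c β hβ hβgood
      have hβE : T.subtype.comp (β : T ≃* T).toMonoidHom ∈ E.Hom T := (mem_autGroup_iff E le_rfl β).mp hβ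
      have hβG : T.subtype.comp (β : T ≃* T).toMonoidHom ∈ G.Hom T :=
        (hG _ _).mpr ⟨hβE, fun _ => goodExt_of_extCond F hTsc β hβext⟩
      have hcomp2 := G.comp_mem hψ₀G hβG hψ₀T
      refine mem_of_eq G hcomp2 (fun x => ?_)
      exact hβψ x (hψ₀T x)
    · intro P hPc hPn
      exact absurd ((hcen P).mp hPc) hPn
  have hDJ : D.IsSubsystemOf J := hD.2.2 J hsatJ hidx
  intro α hα
  have hαD : T.subtype.comp (α : T ≃* T).toMonoidHom ∈ D.Hom T := (mem_autGroup_iff D le_rfl α).mp hα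
  have hαG : T.subtype.comp (α : T ≃* T).toMonoidHom ∈ G.Hom T := hJG T (hDJ T hαD)
  have hTc : E.IsCentric T := by
    refine ⟨le_rfl, fun Q hQ => ?_⟩
    have hQT : Q = T := Cfsg.Agent.Helper37.KL.eq_of_isConj_top E hQ
    rw [hQT]
    exact inf_le_left
  have hgood : GoodExt F T (T.subtype.comp (α : T ≃* T).toMonoidHom) := ((hG _ _).mp hαG).2 hTc
  exact extCond_of_goodExt F hTsc α hgood

end Cfsg.Agent.S5141
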