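import Cfsg.Statements.S5142
import Cfsg.Agent.Helper85.PPrimeResidual
import Cfsg.Agent.Helper85.KLMain

set_option autoImplicit false
open Cfsg

namespace Cfsg.Agent.S5142

open Cfsg.FusionSystem Cfsg.Agent.Helper87 Cfsg.Agent.Helper88.FS Cfsg.Agent.Helper85 Cfsg.Agent.Helper85.KL

/-- Let F be a saturated fusion system over a finite p-group S and E a normal subsystem of F over T. Then the p'-residual subsystem of E (the least saturated subsystem of E over T of index prime to p) is contained in every normal subsystem of F over T; together with its normality in F (the case of a weakly normal E) this makes it the least normal subsystem of F over T. -/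
theorem result {Ω : Type*} [Group Ω] {S : Subgroup Ω} [Finite S] (p : ℕ) [Fact p.Prime] (hS : IsPGroup p S) (F : Cfsg.FusionSystem S) (hF : F.IsSaturated p) {T : Subgroup Ω} (E : Cfsg.FusionSystem T) (hE : E.IsNormalIn F p) (D : Cfsg.FusionSystem T) (hD : E.IsPPrimeResidual p D) : ∀ D' : Cfsg.FusionSystem T, D'.IsNormalIn F p → D.IsSubsystemOf D' := by
  intro D' hD'
  have hEw : E.IsWeaklyNormalIn F p := hE.1
  have hDw : D'.IsWeaklyNormalIn F p := hD'.1
  have hEsat : E.IsSaturated p := hEw.1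
  have hTS : T ≤ S := hEw.2.2.2.1.1
  have hfinT : Finite T := finite_of_le hTS
  have hT : IsPGroup p T := hS.to_le hTS
  -- the intersection of `E` and `D'` and its centric-generated part
  set K : FusionSystem T := interSystem E {D'} with hK
  set J : FusionSystem T := interSystem E {E' | ∀ P : Subgroup Ω, E.IsCentric P → K.Hom P ⊆ E'.Hom P} with hJ
  have hKD' : K ≤ D' := interSystem_le_of_mem E rfl
  have hJE : J ≤ E := interSystem_le E _
  have hJD' : J ≤ D' := interSystem_le_of_mem E (fun P _ => hKD' P)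
  have hKJ : ∀ P : Subgroup Ω, E.IsCentric P → K.Hom P ⊆ J.Hom P :=
    fun P hP φ hφ => ⟨hφ.1, fun E' hE' => hE' P hP hφ⟩
  have hKmem : ∀ (P : Subgroup Ω) (φ : P →* Ω), φ ∈ E.Hom P → φ ∈ D'.Hom P → φ ∈ K.Hom P := by
    intro P φ h1 h2
    refine ⟨h1, fun E' hE' => ?_⟩
    rw [Set.mem_singleton_iff.mp hE']
    exact h2
  have h14 : ∀ P : Subgroup Ω, E.IsCentric P →
      (Subgroup.closure {α : ↥(E.autGroup P) | ∃ k : ℕ, orderOf α = p ^ k}).map (E.autGroup P).subtype ≤
        J.autGroup P := by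
    intro P hP α hα
    have hPT := hP.1
    have hαD' : α ∈ D'.autGroup P := Cfsg.Agent.Helper87.KLB.pElements_le_autGroup p hS F hF E D' hEw hDw P hPT hα
    rw [mem_autGroup_iff _ hPT]
    apply hKJ P hP
    apply hKmem
    · obtain ⟨a, -, rfl⟩ := hα
      exact (mem_autGroup_iff E hPT _).mp a.2
    · exact (mem_autGroup_iff D' hPT _).mp hαD'
  obtain ⟨hidx, hfr, hcen⟩ := Cfsg.Agent.S5114.result p hT E hEsat J hJE h14
  have hgen : ∀ E' : FusionSystem T, (∀ P ∈ {P : Subgroup Ω | E.IsCentric P},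
      J.Hom P ⊆ E'.Hom P) → J ≤ E' := fun E' hE' =>
    interSystem_le_of_mem E (fun P hP => (hKJ P hP).trans (hE' P hP))
  have hsatJ : J.IsSaturated p := by
    refine Cfsg.Agent.Helper84.saturated_of_criterion p hT J {P : Subgroup Ω | E.IsCentric P}
      ?_ ?_ hgen ?_
    · intro P hP Q hPQ
      obtain ⟨φ, hφ, hr⟩ := hPQ
      exact isCentric_of_isConj E hP ⟨φ, hJE P hφ, hr⟩
    · intro P hP
      have hPT : P ≤ T := hP.1
      obtain ⟨Q₀, hPQ₀, hQ₀n⟩ := exists_isConj_fullyNormalized E hPT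
      obtain ⟨φ, hφ, hφr⟩ := hPQ₀
      obtain ⟨α, hα, φ₀, hφ₀, hαφ⟩ := hfr P φ hφ
      have hφ₀T : ∀ x, φ₀ x ∈ T := (J.le_of_mem hφ₀).2
      have hQT : φ₀.range ≤ T := by
        rintro _ ⟨x, rfl⟩
        exact hφ₀T x
      have hJconj : J.IsConj P φ₀.range := ⟨φ₀, hφ₀, rfl⟩
      have hEconjPQ : E.IsConj P φ₀.range := ⟨φ₀, hJE P hφ₀, rfl⟩
      have hEconjQQ₀ : E.IsConj φ₀.range Q₀ := isConj_trans E (isConj_symm E hEconjPQ) ⟨φ, hφ, hφr⟩
      have hαQ : ∀ x : T, (x : Ω) ∈ φ₀.range ↔ ((α x : T) : Ω) ∈ Q₀ := by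
        intro x
        constructor
        · rintro ⟨y, hy⟩
          have hx : x = ⟨φ₀ y, hφ₀T y⟩ := Subtype.ext hy.symm
          rw [hx, ← hαφ y (hφ₀T y), ← hφr]
          exact ⟨y, rfl⟩
        · intro hx
          rw [← hφr] at hx
          obtain ⟨y, hy⟩ := hx
          have h1 := hαφ y (hφ₀T y)
          have h2 : (α ⟨φ₀ y, hφ₀T y⟩ : T) = α x := Subtype.ext (h1.symm.trans hy)
          have h3 := α.injective h2
          exact ⟨y, congrArg Subtype.val h3⟩
      have hcard := card_normalizerIn_le_of_aut α hQT hαQ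
      have hQn : E.IsFullyNormalized φ₀.range :=
        ⟨hQT, fun R hR => (hQ₀n.2 R (isConj_trans E (isConj_symm E hEconjQQ₀) hR)).trans hcard⟩
      obtain ⟨hQc, hQa⟩ := fullyAutomized_fullyCentralized_of_fullyNormalized hT E hEsat hQn
      have hQr : E.IsReceptive φ₀.range := receptive_of_fullyCentralized hT E hEsat hQc
      refine ⟨φ₀.range, hJconj, isFullyAutomized_of_le hJE hQa, hQT, fun R ψ hψ hψr => ?_⟩
      have hψE : ψ ∈ E.Hom R := hJE R hψ
      obtain ⟨ψ', hψ', hψ'x⟩ := hQr.2 R ψ hψE hψr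
      have hRN : R ≤ extender T R ψ := le_extender_of_mem E hψE
      have hNT : extender T R ψ ≤ T := (E.le_of_mem hψ').1
      have hRc : E.IsCentric R :=
        isCentric_of_isConj E hP (isConj_trans E hEconjPQ (isConj_symm E ⟨ψ, hψE, hψr⟩))
      have hNc : E.IsCentric (extender T R ψ) := isCentric_of_le E hRc hRN hNT
      refine ⟨ψ', hKJ _ hNc (hKmem _ ψ' hψ' ?_), hψ'x⟩
      -- Frattini factorization of the extension
      obtain ⟨β, hβ, ψ₀, hψ₀, hβψ⟩ := hfr (extender T R ψ) ψ' hψ'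
      have hψ₀T : ∀ x, ψ₀ x ∈ T := (J.le_of_mem hψ₀).2
      have hψ₀D' : ψ₀ ∈ D'.Hom (extender T R ψ) := hJD' _ hψ₀
      -- the restriction of `ψ₀` to `R`
      have hρJ : ψ₀.comp (Subgroup.inclusion hRN) ∈ J.Hom R := Cfsg.Agent.Helper87.restrict_mem J hψ₀ hRN
      set ρ : R →* Ω := ψ₀.comp (Subgroup.inclusion hRN) with hρ
      have hρD' : ρ ∈ D'.Hom R := hJD' R hρJ
      have hP'T : ρ.range ≤ T := by
        rintro _ ⟨x, rfl⟩
        exact hψ₀T _
      have hP'c : E.IsCentric ρ.range := isCentric_of_isConj E hRc ⟨ρ, hJE R hρJ, rfl⟩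
      obtain ⟨ρi, hρi, hρix⟩ := D'.inv_mem hρD'
      have hρiR : ∀ y : ρ.range, ρi y ∈ R := by
        rintro ⟨_, x, rfl⟩
        rw [hρix x]
        exact x.2
      have hcomp := D'.comp_mem hρi (hJD' R hψ) hρiR
      have hβres : resAut hP'T β ∈ D'.Hom ρ.range := by
        refine mem_of_eq D' hcomp ?_
        rintro ⟨_, x, rfl⟩
        rw [resAut_apply]
        have e1 : (ψ.comp (ρi.codRestrict R hρiR)) ⟨ρ x, ⟨x, rfl⟩⟩ = ψ x := by
          show ψ ⟨ρi ⟨ρ x, ⟨x, rfl⟩⟩, _⟩ = ψ x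
          congr 1
          exact Subtype.ext (hρix x)
        rw [e1]
        have e2 := hβψ (Subgroup.inclusion hRN x) (hψ₀T _)
        have e3 := hψ'x (x : Ω) x.2 (hRN x.2)
        rw [← e3]
        exact e2.symm
      have hβD' : β ∈ D'.autGroup T :=
        mem_autGroup_of_resAut_mem p hS F hF E D' hEw hDw hP'T hP'c β hβ hβres
      have hβD'' : T.subtype.comp (β : T ≃* T).toMonoidHom ∈ D'.Hom T := (mem_autGroup_iff D' le_rfl β).mp hβD'
      have hcomp2 := D'.comp_mem hψ₀D' hβD'' hψ₀T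
      refine mem_of_eq D' hcomp2 (fun x => ?_)
      exact hβψ x (hψ₀T x)
    · intro P hPc hPn
      exact absurd ((hcen P).mp hPc) hPn
  have hDJ : D.IsSubsystemOf J := hD.2.2 J hsatJ hidx
  exact fun P φ hφ => hJD' P (hDJ P hφ)

end Cfsg.Agent.S5142
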