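import Cfsg.Statements.S5147
import Cfsg.Agent.Helper85.CentralQuot
import Cfsg.Agent.S5115

set_option autoImplicit false
open Cfsg

namespace Cfsg.Agent.S5147



/-- Let G be a finite group with Sylow 2-subgroup S whose 2-fusion system on S is constrained, and L a component of G (a subnormal quasisimple subgroup). Then the 2-fusion system of L/Z(L) on the image of S ∩ L is constrained. -/
theorem result {G : Type*} [Group G] [Finite G] (S : Sylow 2 G) (hF : (Cfsg.groupFusionSystem (S : Subgroup G)).IsConstrained 2) (L : Subgroup G) (hL : Cfsg.IsComponent L) : (Cfsg.groupFusionSystem (((S : Subgroup G).subgroupOf L).map (QuotientGroup.mk' (Subgroup.center L)))).IsConstrained 2 := by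
  have hsub : L.IsSubnormal := hL.1
  have h1 := Cfsg.Agent.S5115.result S hF L hsub
  have hidx := Cfsg.Agent.Helper88.FS.not_dvd_relIndex_of_isSubnormal S hsub
  have hp : IsPGroup 2 ((S : Subgroup G).subgroupOf L) :=
    S.2.comap_of_injective L.subtype L.subtype_injective
  have hidx' : ¬ 2 ∣ ((S : Subgroup G).subgroupOf L).index := hidx
  have h2 := Cfsg.Agent.Helper85.isConstrained_quotient_of_le_center (hp.toSylow hidx')
    (by rw [IsPGroup.toSylow_coe]; exact h1) (Subgroup.center L) le_rfl
  rwa [IsPGroup.toSylow_coe] at h2

end Cfsg.Agent.S5147
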