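import Cfsg.Statements.S5292
import Cfsg.Agent.Helper85.RealizeAut
import Cfsg.Agent.Helper85.RealizeQuot
import Cfsg.Agent.Helper11.PSolvable
import Cfsg.Agent.Helper31.PSolvExt
import Cfsg.Agent.S4176
import Cfsg.Agent.Helper55.CyclicInf
import Cfsg.Agent.S5090
import Cfsg.Agent.S5103
import Cfsg.Agent.S5145
import Cfsg.Agent.Helper87.NormModel

set_option autoImplicit false
universe u
open Cfsg

namespace Cfsg.Agent.S5292

open Cfsg.FusionSystem Cfsg.Agent.Helper85

/-- A group realizing a system on a Sylow subgroup induces a `p`-solvable automizer on every subgroup, if it is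
`p`-solvable. -/
theorem isPSolvable_autGroup_of_isRealizedBy {Ω : Type*} [Group Ω] {S : Subgroup Ω} {p : ℕ} [Fact p.Prime]
    (F : Cfsg.FusionSystem S) {G : Type*} [Group G] (ι : S →* G) (hι : F.IsRealizedBy ι)
    (hsol : Cfsg.IsPSolvable p G) {Q : Subgroup Ω} (hQ : Q ≤ S) : Cfsg.IsPSolvable p ↥(F.autGroup Q) := by
  have h1 : Cfsg.IsPSolvable p ↥(Subgroup.normalizer ((imgR ι Q : Subgroup G) : Set G)) :=
    Cfsg.Agent.S4176.isPSolvable_subgroup _ hsol
  have h2 : Cfsg.IsPSolvable p ↥(autHomR ι hι.1 hQ).range :=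
    Cfsg.Agent.Helper11.isPSolvable_of_surjective (autHomR ι hι.1 hQ).rangeRestrict
      (MonoidHom.rangeRestrict_surjective _) h1
  rw [autHomR_range F ι hι hQ] at h2
  exact h2

/-- A model is `p`-solvable as soon as the automizer of the largest normal subgroup of the system is. -/
theorem isPSolvable_of_isModel {Ω : Type*} [Group Ω] {S : Subgroup Ω} [Finite S] {p : ℕ} [Fact p.Prime]
    (F : Cfsg.FusionSystem S) {L : Type*} [Group L] (ι : S →* L) (hmodel : F.IsModel p L ι)
    (hsolA : Cfsg.IsPSolvable p ↥(F.autGroup F.core)) : Cfsg.IsPSolvable p L := by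
  have hmodel' := hmodel
  obtain ⟨hfin, hι, ⟨T, hT⟩, hcent⟩ := hmodel
  have hQn : F.IsNormal F.core := Cfsg.Agent.S5145.result F
  have hQ : F.core ≤ S := hQn.1
  have hnorm : (imgR ι F.core).Normal := Cfsg.Agent.Helper87.normal_map_of_isNormal p F ι hmodel' hQn
  have htop : Subgroup.normalizer ((imgR ι F.core : Subgroup L) : Set L) = ⊤ := Subgroup.normalizer_eq_top _
  have hle : Cfsg.pCore p L ≤ imgR ι F.core := by
    have h1 := Cfsg.Agent.Helper87.isNormal_preimageAlong_pCore p F ι hmodel'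
    have h2 : preimageAlong ι (Cfsg.pCore p L) ≤ F.core := le_sSup h1
    intro y hy
    have hyT : y ∈ ι.range := by
      rw [← hT]
      exact Cfsg.Agent.Lib.pCore_le_sylow T hy
    obtain ⟨s, rfl⟩ := hyT
    exact (mem_imgR ι hQ _).mpr ⟨s.1, h2 ((mem_preimageAlong ι _ _).mpr ⟨s.2, hy⟩), rfl⟩
  have hcentQ : Subgroup.centralizer ((imgR ι F.core : Subgroup L) : Set L) ≤ Cfsg.pCore p L :=
    (Subgroup.centralizer_le hle).trans hcent
  have hker : IsPGroup p ↥(autHomR ι hι.1 hQ).ker := by
    rw [autHomR_ker]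
    exact ((Cfsg.Agent.Lib.isPGroup_pCore p).to_le hcentQ).comap_subtype
  have hrange : Cfsg.IsPSolvable p ↥(autHomR ι hι.1 hQ).range := by
    rw [autHomR_range F ι hι hQ]
    exact hsolA
  have hquot : Cfsg.IsPSolvable p
      (↥(Subgroup.normalizer ((imgR ι F.core : Subgroup L) : Set L)) ⧸ (autHomR ι hι.1 hQ).ker) :=
    Cfsg.Agent.Helper11.isPSolvable_of_mulEquiv
      (QuotientGroup.quotientKerEquivRange (autHomR ι hι.1 hQ)).symm hrange
  have hN : Cfsg.IsPSolvable p ↥(Subgroup.normalizer ((imgR ι F.core : Subgroup L) : Set L)) :=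
    Cfsg.Agent.Helper31.isPSolvable_of_quotient_of_card (autHomR ι hι.1 hQ).ker
      (Or.inl (IsPGroup.iff_card.mp hker)) hquot
  have e : L ≃* ↥(Subgroup.normalizer ((imgR ι F.core : Subgroup L) : Set L)) :=
    Subgroup.topEquiv.symm.trans (MulEquiv.subgroupCongr htop.symm)
  exact Cfsg.Agent.Helper11.isPSolvable_of_mulEquiv e.symm hN


/-- Let F be a saturated fusion system over a finite p-group S. Then F is the fusion system of some finite p-solvable group on a Sylow p-subgroup if and only if F is constrained (some subgroup normal in F is centric in F) and the group of automorphisms that F induces on its largest normal subgroup O_p(F) is p-solvable. -/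
theorem result {Ω : Type u} [Group Ω] {S : Subgroup Ω} [Finite S] (p : ℕ) [Fact p.Prime] (hS : IsPGroup p S)
    (F : Cfsg.FusionSystem S) (hF : F.IsSaturated p) :
    (∃ (G : Type u) (_ : Group G) (_ : Finite G) (ι : S →* G), Cfsg.IsPSolvable p G ∧ F.IsRealizedBy ι ∧
        ∃ T : Sylow p G, (T : Subgroup G) = ι.range) ↔
      (F.IsConstrained p ∧ Cfsg.IsPSolvable p ↥(F.autGroup F.core)) := by
  constructor
  · rintro ⟨G, _, _, ι, hsol, hι, T, hT⟩
    have hKc := Cfsg.Agent.Lib.card_pPrimeCore_coprime (G := G) p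
    have hι' := isRealizedBy_quot_of_coprime hι T hT (Cfsg.pPrimeCore p G) hKc
    have hmodel : F.IsModel p (G ⧸ Cfsg.pPrimeCore p G) ((QuotientGroup.mk' (Cfsg.pPrimeCore p G)).comp ι) := by
      refine ⟨inferInstance, hι', ⟨T.mapSurjective (QuotientGroup.mk'_surjective _), ?_⟩, ?_⟩
      · rw [Sylow.coe_mapSurjective, hT, MonoidHom.range_comp]
      · exact Cfsg.Agent.Helper11.centralizer_pCore_le_of_isPSolvable
          (Cfsg.Agent.Helper11.isPSolvable_quotient _ hsol)
          (Cfsg.Agent.Helper55.pPrimeCore_quotient_pPrimeCore p)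
    refine ⟨Cfsg.Agent.S5103.result p hS F _ hmodel, ?_⟩
    exact isPSolvable_autGroup_of_isRealizedBy F ι hι hsol (Cfsg.Agent.S5145.result F).1
  · rintro ⟨hcon, hsolA⟩
    obtain ⟨L, _, ι, hmodel⟩ := Cfsg.Agent.S5090.result p hS F hcon
    have hfin : Finite L := hmodel.1
    exact ⟨L, inferInstance, hfin, ι, isPSolvable_of_isModel F ι hmodel hsolA, hmodel.2.1, hmodel.2.2.1⟩

end Cfsg.Agent.S5292
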