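import Cfsg.Statements.S5156
import Cfsg.Agent.Helper2.ResPrime
import Cfsg.Agent.Helper2.ResDown
import Cfsg.Agent.Helper85.PPrimeResidual
import Cfsg.Agent.S5113
import Cfsg.Agent.S5090
import Cfsg.Agent.S5292
import Cfsg.Agent.S5158

set_option autoImplicit false
universe u
open Cfsg

namespace Cfsg.Agent.S5156

open Cfsg.FusionSystem Cfsg.Agent.Helper87 Cfsg.Agent.Helper85 Cfsg.Agent.Helper2

/-- Forward direction, by induction along the series: the system is solvable (step property) and all its automizers
are `p`-solvable. -/
theorem forward_aux {Ω : Type u} [Group Ω] {S : Subgroup Ω} {F : Cfsg.FusionSystem S} {p : ℕ}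
    (h : F.HasTerminatingResidualSeries p) : Fact p.Prime → Finite S → IsPGroup p S → F.IsSaturated p →
      (StepProp F ∧ ∀ P : Subgroup Ω, P ≤ S → Cfsg.IsPSolvable p (F.autGroup P)) := by
  induction h with
  | trivial F p hS0 =>
    intro hp hfin hS hF
    refine ⟨fun A hA hAS => absurd (le_antisymm hA.1 (by rw [hS0]; exact bot_le)) hAS, fun P hPS => ?_⟩
    haveI : Finite (MulAut P) := finite_mulAut_of_le hPS
    haveI : Subsingleton P := by
      constructor
      intro a b
      have ha : (a : Ω) ∈ (⊥ : Subgroup Ω) := hS0 ▸ hPS a.2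
      have hb : (b : Ω) ∈ (⊥ : Subgroup Ω) := hS0 ▸ hPS b.2
      rw [Subgroup.mem_bot] at ha hb
      exact Subtype.ext (ha.trans hb.symm)
    haveI : Subsingleton (MulAut P) := ⟨fun a b => by ext x; exact congrArg _ (Subsingleton.elim _ _)⟩
    apply Cfsg.Agent.Helper31.isPSolvable_of_card
    left
    exact ⟨0, by rw [pow_zero]; exact Nat.card_of_subsingleton (1 : F.autGroup P)⟩
  | step F E p D hFE hED _ ih =>
    intro hp hfin hS hF
    haveI := hp
    haveI := hfin
    have hEsat : E.IsSaturated p := hFE.1
    have hTS : E.hyperfocalSubgroup p ≤ _ := hyperfocalSubgroup_le E p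
    obtain ⟨hDstep, hDsol⟩ := ih hp (finite_of_le hTS) (hS.to_le hTS) hED.1
    have hEstep := ResUp.stepProp_of_pResidual hS E hEsat D hED hDstep
    have hEsol := ResUp.isPSolvable_autGroup_of_pResidual hS E hEsat D hED hDsol
    refine ⟨ResPrime.stepProp_of_isPPrimeResidual hS F hF E hFE hEstep, fun P hPS => ?_⟩
    exact ResPrime.isPSolvable_autGroup_of_primeIndex F E hFE.2.1 hPS (hEsol P hPS)

/-- Backward direction, by induction on the order of `S`: a constrained system all of whose automizers are
`p`-solvable has a terminating residual series. -/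
theorem backward_aux {p : ℕ} [Fact p.Prime] : ∀ (n : ℕ) {Ω : Type u} [Group Ω] (S : Subgroup Ω) [Finite S]
    (F : Cfsg.FusionSystem S), Nat.card S ≤ n → IsPGroup p S → F.IsConstrained p →
      (∀ P : Subgroup Ω, P ≤ S → Cfsg.IsPSolvable p (F.autGroup P)) → F.HasTerminatingResidualSeries p := by
  intro n
  induction n with
  | zero =>
    intro Ω _ S _ F hc
    exact absurd hc (by have := Nat.card_pos (α := S); omega)
  | succ n ih =>
    intro Ω _ S _ F hc hS hcon hsol
    have hF : F.IsSaturated p := hcon.1
    by_cases hS0 : S = ⊥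
    · exact HasTerminatingResidualSeries.trivial F p hS0
    · obtain ⟨G, _, ι, hmodel⟩ := Cfsg.Agent.S5090.result p hS F hcon
      haveI : Finite G := hmodel.1
      have hGsol : Cfsg.IsPSolvable p G :=
        Cfsg.Agent.S5292.isPSolvable_of_isModel F ι hmodel (hsol F.core (Cfsg.Agent.S5145.result F).1)
      obtain ⟨T, hT⟩ := hmodel.2.2.1
      have hFE : F.IsPPrimeResidual p (primeResidual p F) := isPPrimeResidual_primeResidual p F hS hF
      have hTS : (primeResidual p F).hyperfocalSubgroup p ≤ S := hyperfocalSubgroup_le _ p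
      obtain ⟨D, ⟨hDsat, hDidx⟩, -⟩ := Cfsg.Agent.S5113.result p hS (primeResidual p F) hFE.1 _ hTS le_rfl
      have hne := ResDown.hyperfocal_pPrimeResidual_ne F hS0 ι hmodel.2.1 T hT hGsol (primeResidual p F) hFE
      have hlt : Nat.card ((primeResidual p F).hyperfocalSubgroup p) < Nat.card S := by
        by_contra h
        exact hne (Subgroup.eq_of_le_of_card_ge hTS (not_lt.mp h))
      refine HasTerminatingResidualSeries.step F (primeResidual p F) p D hFE ⟨hDsat, hDidx⟩ ?_
      haveI : Finite ((primeResidual p F).hyperfocalSubgroup p) := finite_of_le hTS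
      have hEcon : (primeResidual p F).IsConstrained p :=
        Cfsg.Agent.Helper88.FS.isConstrained_of_subsystem hS F hcon _ hFE.1 hFE.2.1.1 (stronglyClosed_self F)
      have hDcon : D.IsConstrained p :=
        Cfsg.Agent.Helper88.FS.isConstrained_of_subsystem hS _ hEcon D hDsat hDidx.1
          (Cfsg.Agent.S5124.result p hS _ hFE.1)
      apply ih _ D (by omega) (hS.to_le hTS) hDcon
      intro P hPT
      have hDF : D.IsSubsystemOf F := fun P φ h => hFE.2.1.1 P (hDidx.1 P h)
      have hle : D.autGroup P ≤ F.autGroup P := Cfsg.Agent.Helper85.autGroup_le_of_isSubsystemOf F D hDF hPT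
      exact PSolvExt.isPSolvable_of_injective (Subgroup.inclusion hle) (Subgroup.inclusion_injective hle)
        (hsol P (hPT.trans hTS))

/-- A saturated fusion system over a finite p-group has a terminating alternating chain of p'-residual and p-residual subsystems (the chain reaches the trivial system — the notion of solvability adapted to fusion systems of p-solvable groups) if and only if it is constrained and its models are p-solvable (a model is a finite group realizing the system on a Sylow p-subgroup with self-centralizing largest normal p-subgroup; it exists and is unique up to isomorphism for constrained systems). -/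
theorem result {Ω : Type u} [Group Ω] {S : Subgroup Ω} [Finite S] (p : ℕ) [Fact p.Prime] (hS : IsPGroup p S) (F : Cfsg.FusionSystem S) (hF : F.IsSaturated p) : F.HasTerminatingResidualSeries p ↔ (F.IsConstrained p ∧ ∀ (G : Type u) [Group G] (ι : S →* G), F.IsModel p G ι → Cfsg.IsPSolvable p G) := by
  constructor
  · intro h
    obtain ⟨hstep, hsol⟩ := forward_aux h inferInstance inferInstance hS hF
    have hsolv : F.IsSolvableSystem := (isSolvableSystem_iff_stepProp hS F hF).mpr hstep
    refine ⟨Cfsg.Agent.S5158.result p hS F hF hsolv, fun G _ ι hmodel => ?_⟩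
    exact Cfsg.Agent.S5292.isPSolvable_of_isModel F ι hmodel (hsol F.core (Cfsg.Agent.S5145.result F).1)
  · rintro ⟨hcon, hmod⟩
    obtain ⟨G, _, ι, hmodel⟩ := Cfsg.Agent.S5090.result p hS F hcon
    have hGsol : Cfsg.IsPSolvable p G := hmod G ι hmodel
    apply backward_aux (Nat.card S) S F le_rfl hS hcon
    intro P hPS
    exact Cfsg.Agent.S5292.isPSolvable_autGroup_of_isRealizedBy F ι hmodel.2.1 hGsol hPS

end Cfsg.Agent.S5156
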