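import Cfsg.Statements.S5163
import Cfsg.Agent.Helper84.PSLnMain

set_option autoImplicit false
open Cfsg

namespace Cfsg.Agent.S5163

/-- For a finite field K of characteristic p and n ≥ 3, the p-fusion system of the projective special linear group PSL_n(K) on a Sylow p-subgroup is simple. -/
theorem result {K : Type*} [Field K] [Fintype K] (p : ℕ) [Fact p.Prime] [CharP K p] (n : ℕ) (hn : 3 ≤ n) (S : Sylow p (Matrix.ProjectiveSpecialLinearGroup (Fin n) K)) : (Cfsg.groupFusionSystem (S : Subgroup (Matrix.ProjectiveSpecialLinearGroup (Fin n) K))).IsSimple p := by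
  classical
  obtain ⟨f, -, hF⟩ := FiniteField.card K p
  have hf : 1 ≤ (f : ℕ) := f.2
  have hn1 : 1 ≤ n := by omega
  have hn2 : 2 ≤ n := by omega
  have hS := Cfsg.Agent.Helper14.AutPSL.coe_sylUT hF hf n hn1
  refine Cfsg.Agent.Helper84.isSimple_of_locGen_conj p (Cfsg.Agent.Helper14.AutPSL.sylUT hF hf n hn1) ?_ ?_ ?_ S
  · rw [hS]
    intro hbot
    have hx := Cfsg.Agent.Helper14.AutPSL.tv_single_mem_UT (F := K)
      (lt_of_le_of_ne (Cfsg.Agent.Helper14.AutPSL.fst_le hn2 _) (Cfsg.Agent.Helper14.AutPSL.fst_ne_lst hn2)) 1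
    have h1 : Cfsg.Agent.Helper14.AutPSL.prj _ ∈
        (Cfsg.Agent.Helper14.AutPSL.UT n K).map Cfsg.Agent.Helper14.AutPSL.prj :=
      Subgroup.mem_map_of_mem _ hx
    rw [hbot, Subgroup.mem_bot] at h1
    have h2 := Cfsg.Agent.Helper14.AutPSL.eq_of_prj_eq_of_mem_UT hn1 hx (Subgroup.one_mem _)
      (by rw [h1, map_one])
    rw [Cfsg.Agent.Helper14.AutPSL.tv_eq_one_iff] at h2
    rcases h2 with h3 | h3
    · have := congrFun h3 (Cfsg.Agent.Helper14.AutPSL.fst hn2)
      simp at this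
    · have := congrFun h3 (Cfsg.Agent.Helper14.AutPSL.lst hn2)
      simp at this
  · rw [hS]
    exact Cfsg.Agent.Helper84.PSLn.locGen_UT hF hf hn
  · rw [hS]
    exact Cfsg.Agent.Helper84.PSLn.noStrClosed_UT hF hf hn

end Cfsg.Agent.S5163
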