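-- Statement S5164: a nontrivial Sylow p-subgroup of A_n (n ≥ 6) is abelian iff n < p².
import Mathlib
import Cfsg.Statements.S5164

set_option autoImplicit false
open Cfsg

namespace Cfsg.Agent.S5164

open Equiv

theorem zpowers_isPGroup {G : Type*} [Group G] {p : ℕ} [Fact p.Prime] (x : G) (a : ℕ)
    (hx : x ^ p ^ a = 1) : IsPGroup p (Subgroup.zpowers x) := by
  obtain ⟨m, -, hm⟩ := (Nat.dvd_prime_pow (Fact.out : p.Prime)).1 (orderOf_dvd_of_pow_eq_one hx)
  exact IsPGroup.of_card (n := m) (by rw [Nat.card_zpowers, hm])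

/-- If a Sylow `p`-subgroup is commutative, then two `p`-elements one of which normalizes the cyclic group
generated by the other commute. -/
theorem comm_of_sylow_comm {G : Type*} [Group G] [Finite G] {p : ℕ} [Fact p.Prime] (S : Sylow p G)
    (hS : IsMulCommutative S) (x y : G) (a b : ℕ) (hx : x ^ p ^ a = 1) (hy : y ^ p ^ b = 1)
    (hxy : y * x * y⁻¹ ∈ Subgroup.zpowers x) : x * y = y * x := by
  classical
  have hH : IsPGroup p (Subgroup.zpowers x) := zpowers_isPGroup x a hx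
  have hK : IsPGroup p (Subgroup.zpowers y) := zpowers_isPGroup y b hy
  have hnorm : Subgroup.zpowers y ≤ Subgroup.normalizer (Subgroup.zpowers x : Set G) := by
    rw [Subgroup.zpowers_le]
    apply Subgroup.mem_normalizer_fintype
    rintro _ ⟨k, rfl⟩
    have : y * x ^ k * y⁻¹ = (y * x * y⁻¹) ^ k := by
      simp [conj_zpow]
    show y * x ^ k * y⁻¹ ∈ Subgroup.zpowers x
    rw [this]
    exact Subgroup.zpow_mem _ hxy k
  have hT : IsPGroup p (Subgroup.zpowers y ⊔ Subgroup.zpowers x : Subgroup G) :=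
    IsPGroup.to_sup_of_normal_right' hK hH hnorm
  obtain ⟨R, hR⟩ := hT.exists_le_sylow
  obtain ⟨g, hg⟩ := MulAction.exists_smul_eq G S R
  have hxR : x ∈ R := hR (Subgroup.mem_sup_right (Subgroup.mem_zpowers x))
  have hyR : y ∈ R := hR (Subgroup.mem_sup_left (Subgroup.mem_zpowers y))
  let e := Sylow.equivSMul S g
  rw [← hg] at hxR hyR
  have hcomm : ∀ u v : S, u * v = v * u := isMulCommutative_iff.mp hS
  have h1 := hcomm (e.symm ⟨x, hxR⟩) (e.symm ⟨y, hyR⟩)
  have h2 := congrArg e h1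
  simp only [map_mul, MulEquiv.apply_symm_apply] at h2
  exact congrArg Subtype.val h2

/-- a permutation of odd order is even -/
theorem sign_eq_one_of_pow_odd {α : Type*} [Fintype α] [DecidableEq α] (σ : Perm α) (m : ℕ) (hm : Odd m)
    (h : σ ^ m = 1) : Perm.sign σ = 1 := by
  have h1 : Perm.sign σ ^ m = 1 := by rw [← map_pow, h, map_one]
  rcases Int.units_eq_one_or (Perm.sign σ) with h2 | h2
  · exact h2
  · rw [h2, Odd.neg_one_pow hm] at h1
    exact absurd h1 (by decide)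

/-- In `Perm (ZMod (p^2))` there are `x₀` of order dividing `p²` and `y₀` of order dividing `p` with
`y₀ x₀ y₀⁻¹ = x₀^(1+p)` and `x₀ y₀ ≠ y₀ x₀`. -/
theorem exists_noncomm_pair (p : ℕ) [hp : Fact p.Prime] :
    ∃ x₀ y₀ : Perm (ZMod (p ^ 2)), x₀ ^ p ^ 2 = 1 ∧ y₀ ^ p ^ 1 = 1 ∧ y₀ * x₀ * y₀⁻¹ = x₀ ^ (1 + p) ∧
      x₀ * y₀ ≠ y₀ * x₀ := by
  have hp0 : p ≠ 0 := hp.out.ne_zero
  have : NeZero (p ^ 2) := ⟨pow_ne_zero 2 hp0⟩
  have hcop : Nat.Coprime (1 + p) (p ^ 2) := by
    apply Nat.Coprime.pow_right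
    rw [Nat.coprime_comm, Nat.coprime_add_self_right]
    exact Nat.coprime_one_right p
  let u : (ZMod (p ^ 2))ˣ := ZMod.unitOfCoprime (1 + p) hcop
  have hu : (u : ZMod (p ^ 2)) = 1 + p := by simp [u, ZMod.coe_unitOfCoprime]
  have hpp : (p : ZMod (p ^ 2)) * p = 0 := by
    rw [← Nat.cast_mul, ← pow_two]; exact ZMod.natCast_self _
  have hpne : (p : ZMod (p ^ 2)) ≠ 0 := by
    rw [Ne, ZMod.natCast_eq_zero_iff]
    intro hdvd
    have := Nat.le_of_dvd hp.out.pos hdvd
    have h2 : p < p ^ 2 := by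
      calc p = p ^ 1 := (pow_one p).symm
        _ < p ^ 2 := Nat.pow_lt_pow_right hp.out.one_lt (by norm_num)
    omega
  -- (1 + a)^k = 1 + k a when a^2 = 0
  have hpow : ∀ k : ℕ, ((1 : ZMod (p ^ 2)) + p) ^ k = 1 + k * p := by
    intro k
    induction k with
    | zero => simp
    | succ k ih =>
      rw [pow_succ (1 + (p : ZMod (p ^ 2))) k, ih]
      push_cast
      have : ((1 : ZMod (p ^ 2)) + k * p) * (1 + p) = 1 + (k + 1) * p + k * (p * p) := by ring
      rw [this, hpp]; ring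
  have hup : u ^ p = 1 := by
    apply Units.ext
    rw [Units.val_pow_eq_pow_val, hu, hpow, hpp]
    simp
  refine ⟨Equiv.addLeft (1 : ZMod (p ^ 2)), MulAction.toPermHom (ZMod (p ^ 2))ˣ (ZMod (p ^ 2)) u,
    ?_, ?_, ?_, ?_⟩
  · rw [Equiv.nsmul_addLeft]
    have : (p ^ 2) • (1 : ZMod (p ^ 2)) = 0 := by
      rw [nsmul_eq_mul, mul_one]; exact ZMod.natCast_self _
    rw [this]; exact Equiv.addLeft_zero
  · rw [pow_one, ← map_pow, hup, map_one]
  · ext k
    rw [Equiv.nsmul_addLeft, ← map_inv]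
    simp only [Perm.coe_mul, Function.comp_apply, Equiv.coe_addLeft, MulAction.toPermHom_apply,
      MulAction.toPerm_apply, Units.smul_def, smul_eq_mul, nsmul_eq_mul, mul_one]
    rw [mul_add, mul_one, ← mul_assoc, Units.mul_inv, one_mul, hu]
    push_cast; ring
  · intro h
    have h0 := congrArg (fun σ : Perm (ZMod (p ^ 2)) => σ 0) h
    simp only [Perm.coe_mul, Function.comp_apply, Equiv.coe_addLeft, MulAction.toPermHom_apply,
      MulAction.toPerm_apply, Units.smul_def, smul_eq_mul, mul_zero, add_zero, mul_one] at h0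
    rw [hu] at h0
    exact hpne (by simpa using h0.symm)

theorem sign_viaEmbeddingHom {α β : Type*} [Fintype α] [DecidableEq α] [Fintype β] [DecidableEq β]
    (ι : α ↪ β) (σ : Perm α) : Perm.sign (Perm.viaEmbeddingHom ι σ) = Perm.sign σ := by
  classical
  rw [Perm.viaEmbeddingHom_apply]
  unfold Perm.viaEmbedding
  convert Perm.sign_extendDomain σ (Equiv.ofInjective ι.1 ι.2)

/-- the explicit pair for `p = 2` inside `Perm (Fin 6)` -/
theorem exists_noncomm_pair_two :
    ∃ x₀ y₀ : Perm (Fin 6), x₀ ^ 2 ^ 2 = 1 ∧ y₀ ^ 2 ^ 1 = 1 ∧ y₀ * x₀ * y₀⁻¹ = x₀ ^ (1 + 2) ∧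
      x₀ * y₀ ≠ y₀ * x₀ ∧ Perm.sign x₀ = 1 ∧ Perm.sign y₀ = 1 := by
  refine ⟨swap 0 1 * swap 1 2 * swap 2 3 * swap 4 5, swap 1 3 * swap 4 5, ?_⟩
  decide

/-- transport a pair along an embedding -/
theorem transport_pair {α β : Type*} [Fintype α] [DecidableEq α] [Fintype β] [DecidableEq β]
    (ι : α ↪ β) (p : ℕ) (x₀ y₀ : Perm α) (h1 : x₀ ^ p ^ 2 = 1) (h2 : y₀ ^ p ^ 1 = 1)
    (h3 : y₀ * x₀ * y₀⁻¹ = x₀ ^ (1 + p)) (h4 : x₀ * y₀ ≠ y₀ * x₀) (h5 : Perm.sign x₀ = 1)
    (h6 : Perm.sign y₀ = 1) :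
    ∃ x y : Perm β, x ^ p ^ 2 = 1 ∧ y ^ p ^ 1 = 1 ∧ y * x * y⁻¹ = x ^ (1 + p) ∧
      x * y ≠ y * x ∧ Perm.sign x = 1 ∧ Perm.sign y = 1 := by
  refine ⟨Perm.viaEmbeddingHom ι x₀, Perm.viaEmbeddingHom ι y₀, ?_, ?_, ?_, ?_, ?_, ?_⟩
  · rw [← map_pow, h1, map_one]
  · rw [← map_pow, h2, map_one]
  · rw [← map_inv, ← map_mul, ← map_mul, h3, map_pow]
  · intro h
    rw [← map_mul, ← map_mul] at h
    exact h4 (Perm.viaEmbeddingHom_injective ι h)
  · rw [sign_viaEmbeddingHom, h5]
  · rw [sign_viaEmbeddingHom, h6]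

theorem exists_pair_in_perm (n p : ℕ) (hn : 6 ≤ n) [hp : Fact p.Prime] (hnp : p ^ 2 ≤ n) :
    ∃ x y : Perm (Fin n), x ^ p ^ 2 = 1 ∧ y ^ p ^ 1 = 1 ∧ y * x * y⁻¹ = x ^ (1 + p) ∧
      x * y ≠ y * x ∧ Perm.sign x = 1 ∧ Perm.sign y = 1 := by
  rcases hp.out.eq_two_or_odd' with h2 | hodd
  · subst h2
    obtain ⟨x₀, y₀, h1, h2, h3, h4, h5, h6⟩ := exists_noncomm_pair_two
    exact transport_pair (Fin.castLEEmb hn) 2 x₀ y₀ h1 h2 h3 h4 h5 h6
  · have hp0 : p ≠ 0 := hp.out.ne_zero
    have : NeZero (p ^ 2) := ⟨pow_ne_zero 2 hp0⟩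
    obtain ⟨x₀, y₀, h1, h2, h3, h4⟩ := exists_noncomm_pair p
    have hcard : Fintype.card (ZMod (p ^ 2)) ≤ Fintype.card (Fin n) := by
      rw [ZMod.card, Fintype.card_fin]; exact hnp
    obtain ⟨ι⟩ := Function.Embedding.nonempty_of_card_le hcard
    exact transport_pair ι p x₀ y₀ h1 h2 h3 h4
      (sign_eq_one_of_pow_odd x₀ (p ^ 2) hodd.pow h1)
      (sign_eq_one_of_pow_odd y₀ (p ^ 1) hodd.pow h2)

theorem not_comm_of_sq_le (n p : ℕ) (hn : 6 ≤ n) [hp : Fact p.Prime] (hnp : p ^ 2 ≤ n)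
    (S : Sylow p (alternatingGroup (Fin n))) : ¬ IsMulCommutative S := by
  intro hS
  obtain ⟨x, y, h1, h2, h3, h4, h5, h6⟩ := exists_pair_in_perm n p hn hnp
  let x' : alternatingGroup (Fin n) := ⟨x, Perm.mem_alternatingGroup.2 h5⟩
  let y' : alternatingGroup (Fin n) := ⟨y, Perm.mem_alternatingGroup.2 h6⟩
  have hx' : x' ^ p ^ 2 = 1 := Subtype.ext (by simpa [x'] using h1)
  have hy' : y' ^ p ^ 1 = 1 := Subtype.ext (by simpa [y'] using h2)
  have hxy' : y' * x' * y'⁻¹ ∈ Subgroup.zpowers x' := by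
    refine ⟨((1 + p : ℕ) : ℤ), ?_⟩
    apply Subtype.ext
    simp only [zpow_natCast]
    simpa [x', y'] using h3.symm
  have := comm_of_sylow_comm S hS x' y' 2 1 hx' hy' hxy'
  exact h4 (by simpa [x', y'] using congrArg Subtype.val this)

/-- An injective hom from `(ZMod p)^k` into `Perm (Fin n)` when `k * p ≤ n`. -/
theorem exists_elementary_abelian (n p k : ℕ) [hp : Fact p.Prime] (hk : k * p ≤ n) :
    ∃ Ψ : (Fin k → Multiplicative (ZMod p)) →* Perm (Fin n), Function.Injective Ψ := by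
  have : NeZero p := ⟨hp.out.ne_zero⟩
  let f : Multiplicative (ZMod p) →* Perm (ZMod p) := MulAction.toPermHom (Multiplicative (ZMod p)) (ZMod p)
  have hf : Function.Injective f := by
    intro a b hab
    have h0 := congrArg (fun σ : Perm (ZMod p) => σ 0) hab
    simp only [f, MulAction.toPermHom_apply, MulAction.toPerm_apply] at h0
    have h1 : ∀ c : Multiplicative (ZMod p), c • (0 : ZMod p) = Multiplicative.toAdd c := by
      intro c
      show Multiplicative.toAdd c +ᵥ (0 : ZMod p) = _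
      simp
    rw [h1, h1] at h0
    exact Multiplicative.toAdd.injective h0
  let F1 : (Fin k → Multiplicative (ZMod p)) →* (Fin k → Perm (ZMod p)) :=
    MonoidHom.pi fun i => f.comp (Pi.evalMonoidHom _ i)
  have hF1 : Function.Injective F1 := by
    intro v w hvw
    funext i
    exact hf (congrFun hvw i)
  let F2 : (Fin k → Perm (ZMod p)) →* Perm (Σ _ : Fin k, ZMod p) :=
    Perm.sigmaCongrRightHom (fun _ : Fin k => ZMod p)
  have hF2 : Function.Injective F2 := Perm.sigmaCongrRightHom_injective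
  have hcard : Fintype.card (Σ _ : Fin k, ZMod p) ≤ Fintype.card (Fin n) := by
    rw [Fintype.card_sigma]
    simpa [ZMod.card] using hk
  obtain ⟨ι⟩ := Function.Embedding.nonempty_of_card_le hcard
  exact ⟨(Perm.viaEmbeddingHom ι).comp (F2.comp F1),
    (Perm.viaEmbeddingHom_injective ι).comp (hF2.comp hF1)⟩

theorem factorization_card_alt (n p : ℕ) (hn : 6 ≤ n) [hp : Fact p.Prime] (hnp : n < p ^ 2) :
    (Nat.card (alternatingGroup (Fin n))).factorization p = n / p := by
  have hp2 : p ≠ 2 := by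
    rintro rfl
    omega
  have : Nontrivial (Fin n) := Fin.nontrivial_iff_two_le.2 (by omega)
  have h1 : 2 * Nat.card (alternatingGroup (Fin n)) = n.factorial := by
    rw [two_mul_nat_card_alternatingGroup, Nat.card_perm, Nat.card_eq_fintype_card, Fintype.card_fin]
  have hN : Nat.card (alternatingGroup (Fin n)) ≠ 0 := Nat.card_pos.ne'
  have h2 : (2 * Nat.card (alternatingGroup (Fin n))).factorization p =
      (Nat.card (alternatingGroup (Fin n))).factorization p := by
    rw [Nat.factorization_mul two_ne_zero hN]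
    have : (2 : ℕ).factorization p = 0 := by
      apply Nat.factorization_eq_zero_of_not_dvd
      intro hd
      exact hp2 ((Nat.prime_dvd_prime_iff_eq hp.out Nat.prime_two).1 hd)
    simp [this]
  rw [← h2, h1, Nat.factorization_def _ hp.out]
  have hlog : Nat.log p n < 2 := Nat.log_lt_of_lt_pow (by omega) hnp
  rw [padicValNat_factorial hlog]
  simp

theorem comm_of_lt_sq (n p : ℕ) (hn : 6 ≤ n) [hp : Fact p.Prime] (hnp : n < p ^ 2)
    (S : Sylow p (alternatingGroup (Fin n))) : IsMulCommutative S := by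
  classical
  have hp2 : p ≠ 2 := by
    rintro rfl
    omega
  have hodd : Odd p := hp.out.odd_of_ne_two hp2
  have : NeZero p := ⟨hp.out.ne_zero⟩
  set k := n / p with hk
  obtain ⟨Ψ, hΨ⟩ := exists_elementary_abelian n p k (Nat.div_mul_le_self n p)
  have hpow : ∀ v : Fin k → Multiplicative (ZMod p), v ^ p = 1 := by
    intro v
    funext i
    show (v i) ^ p = 1
    apply Multiplicative.toAdd.injective
    simp
  have hsign : ∀ v, Ψ v ∈ alternatingGroup (Fin n) := by
    intro v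
    rw [Perm.mem_alternatingGroup]
    apply sign_eq_one_of_pow_odd (Ψ v) p hodd
    rw [← map_pow, hpow, map_one]
  let Ψ' : (Fin k → Multiplicative (ZMod p)) →* alternatingGroup (Fin n) :=
    Ψ.codRestrict (alternatingGroup (Fin n)) hsign
  have hΨ' : Function.Injective Ψ' := by
    intro v w h
    exact hΨ (congrArg Subtype.val h)
  have hcardB : Nat.card Ψ'.range = p ^ k := by
    have e1 : (Fin k → Multiplicative (ZMod p)) ≃ Ψ'.range :=
      (MonoidHom.ofInjective hΨ').toEquiv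
    rw [← Nat.card_congr e1, Nat.card_fun]
    simp [Nat.card_eq_fintype_card, ZMod.card]
  have hB : IsPGroup p Ψ'.range := IsPGroup.of_card hcardB
  obtain ⟨R, hR⟩ := hB.exists_le_sylow
  have hcardR : Nat.card R = p ^ k := by
    rw [Sylow.card_eq_multiplicity, factorization_card_alt n p hn hnp]
  have hBR : Ψ'.range = (R : Subgroup _) :=
    Subgroup.eq_of_le_of_card_ge hR (by rw [hcardB]; exact hcardR.le)
  -- R is commutative
  have hRcomm : ∀ a b : R, a * b = b * a := by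
    intro a b
    have ha : (a : alternatingGroup (Fin n)) ∈ Ψ'.range := by rw [hBR]; exact a.2
    have hb : (b : alternatingGroup (Fin n)) ∈ Ψ'.range := by rw [hBR]; exact b.2
    obtain ⟨v, hv⟩ := ha
    obtain ⟨w, hw⟩ := hb
    apply Subtype.ext
    show (a : alternatingGroup (Fin n)) * b = b * a
    rw [← hv, ← hw, ← map_mul, ← map_mul, mul_comm]
  let e : S ≃* R := Sylow.equiv S R
  refine isMulCommutative_iff.mpr fun a b => ?_
  apply e.injective
  rw [map_mul, map_mul]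
  exact hRcomm _ _

/-- For n ≥ 6 and a prime p, a nontrivial Sylow p-subgroup of the alternating group of degree n is abelian if and only if n < p². -/
theorem result (n p : ℕ) (hn : 6 ≤ n) [Fact p.Prime] (S : Sylow p (alternatingGroup (Fin n))) (hS : (S : Subgroup (alternatingGroup (Fin n))) ≠ ⊥) : IsMulCommutative S ↔ n < p ^ 2 := by
  have _ := hS
  constructor
  · intro h
    by_contra hlt
    exact not_comm_of_sq_le n p hn (not_lt.mp hlt) S h
  · intro h
    exact comm_of_lt_sq n p hn h S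

end Cfsg.Agent.S5164
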