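-- Statement S5165: the p-fusion system of A_n is simple for p² ≤ n, n ≡ 0, 1 (mod p), n ≥ 6 (helper88).
-- Route: generalized local-generation criterion (Helper88.AltCrit, from S5160) on the explicit two-level wreath
-- model of a Sylow p-subgroup of the symmetric group; pieces by helper4, helper9, helper38, helper46, helper60,
-- helper69, helper80.
import Cfsg.Statements.S5165
import Cfsg.Agent.Helper88.AltMainOdd
import Cfsg.Agent.Helper88.AltMainTwo

set_option autoImplicit false
open Cfsg

namespace Cfsg.Agent.S5165

open Equiv Cfsg.Agent.Helper88.AltM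

/-- For n ≥ 6, a prime p with p² ≤ n, and n congruent to 0 or 1 modulo p, the p-fusion system of the alternating group of degree n on a Sylow p-subgroup is simple. -/
theorem result (n p : ℕ) (hn : 6 ≤ n) [Fact p.Prime] (hnp : p ^ 2 ≤ n) (hb : n % p ≤ 1) (S : Sylow p (alternatingGroup (Fin n))) : (Cfsg.groupFusionSystem (S : Subgroup (alternatingGroup (Fin n)))).IsSimple p := by
  classical
  have hp : p.Prime := Fact.out
  have hcardX : Fintype.card (Pt2 (Fin (n / p / p)) (Fin (n / p % p)) (Fin (n % p)) p) = n := by
    rw [card_Pt, card_Pt, Fintype.card_fin, Fintype.card_fin, Fintype.card_fin, Nat.div_add_mod,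
      Nat.div_add_mod]
  let e : Pt2 (Fin (n / p / p)) (Fin (n / p % p)) (Fin (n % p)) p ≃ Fin n := Fintype.equivFinOfCardEq hcardX
  let ι : alternatingGroup (Fin n) →* Perm (Pt2 (Fin (n / p / p)) (Fin (n / p % p)) (Fin (n % p)) p) :=
    (e.symm.permCongrHom).toMonoidHom.comp (alternatingGroup (Fin n)).subtype
  have hι : Function.Injective ι :=
    (e.symm.permCongrHom).injective.comp (alternatingGroup (Fin n)).subtype_injective
  have hr : ι.range = alternatingGroup (Pt2 (Fin (n / p / p)) (Fin (n / p % p)) (Fin (n % p)) p) := by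
    ext x
    constructor
    · rintro ⟨g, rfl⟩
      apply Perm.mem_alternatingGroup.mpr
      show Perm.sign (e.symm.permCongr (g : Perm (Fin n))) = 1
      rw [Perm.sign_permCongr]
      exact Perm.mem_alternatingGroup.mp g.2
    · intro hx
      have hx' : Perm.sign x = 1 := Perm.mem_alternatingGroup.mp hx
      refine ⟨⟨e.permCongr x, ?_⟩, ?_⟩
      · apply Perm.mem_alternatingGroup.mpr
        rw [Perm.sign_permCongr]
        exact hx'
      · show e.symm.permCongr (e.permCongr x) = x
        ext y
        simp [Equiv.permCongr_apply]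
  have hsub : Subsingleton (Fin (n % p)) := ⟨fun a b => Fin.ext (by omega)⟩
  have hne : Nonempty (Fin (n / p / p)) := by
    have h1 : 0 < n / p / p := by
      rw [Nat.div_div_eq_div_mul]
      apply Nat.div_pos _ (Nat.mul_pos hp.pos hp.pos)
      rw [← pow_two]
      exact hnp
    exact ⟨⟨0, h1⟩⟩
  have hρ' : Fintype.card (Fin (n / p % p)) < p := by
    rw [Fintype.card_fin]
    exact Nat.mod_lt _ hp.pos
  by_cases hp2 : p = 2
  · subst hp2
    have hβ3 : 3 ≤ Fintype.card (Pt (Fin (n / 2 / 2)) (Fin (n / 2 % 2)) 2) := by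
      rw [card_Pt, Fintype.card_fin, Fintype.card_fin, Nat.div_add_mod]
      omega
    exact isSimple_two hρ' hβ3 default ι hι hr S
  · exact isSimple_odd hp2 hρ' default ι hι hr S

end Cfsg.Agent.S5165
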