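import Cfsg.Statements.S5171
import Cfsg.Agent.Helper84.PSpSC
import Cfsg.Agent.Helper5.AutSpE

set_option autoImplicit false
open Cfsg

namespace Cfsg.Agent.S5171

/-- For a finite field K of characteristic p and m ≥ 2, excluding the case m = 2 with K of two elements, the p-fusion system of the projective symplectic group PSp_{2m}(K) on a Sylow p-subgroup is simple. -/
theorem result {K : Type*} [Field K] [Fintype K] (p : ℕ) [Fact p.Prime] [CharP K p] (m : ℕ) (hm : 2 ≤ m) (hex : m = 2 → 3 ≤ Fintype.card K) (S : Sylow p (Cfsg.PSp m K)) : (Cfsg.groupFusionSystem (S : Subgroup (Cfsg.PSp m K))).IsSimple p := by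
  classical
  obtain ⟨f, -, hF⟩ := FiniteField.card K p
  have hf : 1 ≤ (f : ℕ) := f.2
  have hm1 : 1 ≤ m := by omega
  have hS : ((Sylow.mapSurjective (Cfsg.Agent.Helper5.AutSp.prj_surjective (F := K) (m := m))
      (Cfsg.Agent.Helper84.PSp.sylU0 hF hf m) : Sylow p (Cfsg.PSp m K)) : Subgroup (Cfsg.PSp m K)) =
      (Cfsg.Agent.Helper84.PSp.U0 m K).map Cfsg.Agent.Helper5.AutSp.prj := by
    rw [Sylow.coe_mapSurjective, Cfsg.Agent.Helper84.PSp.coe_sylU0]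
  refine Cfsg.Agent.Helper84.isSimple_of_locGen_conj p
    (Sylow.mapSurjective (Cfsg.Agent.Helper5.AutSp.prj_surjective (F := K) (m := m))
      (Cfsg.Agent.Helper84.PSp.sylU0 hF hf m)) ?_ ?_ ?_ S
  · rw [hS]
    intro hbot
    have hx : Cfsg.Agent.Helper94.SpRoot.tE (Cfsg.Agent.Helper84.PSp.ev ⟨0, hm1⟩ : Fin m ⊕ Fin m → K) 1 ∈
        Cfsg.Agent.Helper84.PSp.U0 m K :=
      Cfsg.Agent.Helper84.PSp.R_le_U0
        (Cfsg.Agent.Helper84.PSp.tE_mem_R (Cfsg.Agent.Helper84.PSp.inVM_ev _) 1)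
    have h1 : Cfsg.Agent.Helper5.AutSp.prj
        (Cfsg.Agent.Helper94.SpRoot.tE (Cfsg.Agent.Helper84.PSp.ev ⟨0, hm1⟩ : Fin m ⊕ Fin m → K) 1) ∈
        (Cfsg.Agent.Helper84.PSp.U0 m K).map Cfsg.Agent.Helper5.AutSp.prj :=
      Subgroup.mem_map_of_mem _ hx
    rw [hbot, Subgroup.mem_bot] at h1
    exact Cfsg.Agent.Helper5.AutSp.prj_tE_ne_one hm1 (Cfsg.Agent.Helper84.PSp.ev_ne_zero _) one_ne_zero h1
  · rw [hS]
    exact Cfsg.Agent.Helper84.PSp.locGen_U0 hF hf hm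
  · rw [hS]
    exact Cfsg.Agent.Helper84.PSp.noStrClosed_U0 hF hf hm hex

end Cfsg.Agent.S5171
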