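import Cfsg.Statements.S5178
import Cfsg.Agent.S5244
import Cfsg.Agent.Helper87.ExtraIndex

set_option autoImplicit false
universe u
open Cfsg

namespace Cfsg.Agent.S5178

open Cfsg.FusionSystem Cfsg.Agent.Helper87 Cfsg.Agent.Helper86 Cfsg.Agent.S5254
open scoped commutatorElement

/-- Let p be an odd prime, S a finite p-group containing an extraspecial subgroup Q of index p, and F a saturated fusion system over S whose largest subgroup normal in F is trivial. Then the centre of S equals the centre of Q. -/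
theorem result {Ω : Type u} [Group Ω] {S : Subgroup Ω} [Finite S] (p : ℕ) [Fact p.Prime] (hp : Odd p) (hS : IsPGroup p S)
    (Q : Subgroup Ω) (hQS : Q ≤ S) (hQ : Cfsg.IsExtraspecial p ↥Q) (hQi : (Q.subgroupOf S).index = p)
    (F : Cfsg.FusionSystem S) (hF : F.IsSaturated p) (hO : F.core = ⊥) :
    S ⊓ Subgroup.centralizer (S : Set Ω) = Q ⊓ Subgroup.centralizer (Q : Set Ω) := by
  have hpp : p.Prime := Fact.out
  have hp2 : p ≠ 2 := by
    rintro rfl
    exact absurd hp (by decide)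
  haveI : Finite Q := finite_of_le hQS
  have hZcard : Nat.card (zOf Q) = p := card_zOf_of_isExtraspecial hQ
  have hZQ : zOf Q ≤ Q := zOf_le Q
  have hZS : zOf Q ≤ S := hZQ.trans hQS
  -- `Q` is normal in `S`
  have hQn : (Q.subgroupOf S).Normal := Cfsg.Agent.Helper63.normal_of_index_eq_prime hS _ hQi
  have hconjQ : ∀ s ∈ S, ∀ q ∈ Q, s * q * s⁻¹ ∈ Q := by
    intro s hs q hq
    have h1 : (⟨q, hQS hq⟩ : S) ∈ Q.subgroupOf S := Subgroup.mem_subgroupOf.mpr hq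
    exact Subgroup.mem_subgroupOf.mp (hQn.conj_mem _ h1 ⟨s, hs⟩)
  have hconjZ : ∀ s ∈ S, ∀ z ∈ zOf Q, s * z * s⁻¹ ∈ zOf Q := by
    intro s hs z hz
    rw [mem_zOf_iff] at hz ⊢
    refine ⟨hconjQ s hs z hz.1, fun q hq => ?_⟩
    have hq' : s⁻¹ * q * s ∈ Q := by
      have := hconjQ s⁻¹ (S.inv_mem hs) q hq
      rwa [inv_inv] at this
    have h1 := hz.2 (s⁻¹ * q * s) hq'
    calc q * (s * z * s⁻¹) = s * ((s⁻¹ * q * s) * z) * s⁻¹ := by group
      _ = s * (z * (s⁻¹ * q * s)) * s⁻¹ := by rw [h1]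
      _ = s * z * s⁻¹ * q := by group
  have hZc := central_of_normal_card_prime hS hZS hconjZ hZcard
  have hZle : zOf Q ≤ S ⊓ Subgroup.centralizer (S : Set Ω) := by
    intro z hz
    refine ⟨hZS hz, ?_⟩
    show z ∈ Subgroup.centralizer (S : Set Ω)
    rw [Subgroup.mem_centralizer_iff]
    intro s hs
    exact hZc z hz s hs
  show cen S = zOf Q
  apply le_antisymm _ hZle
  by_contra hnot
  exfalso
  obtain ⟨y, hyZ, hyQ⟩ : ∃ y ∈ cen S, y ∉ Q := by
    by_contra hcon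
    push Not at hcon
    apply hnot
    intro z hz
    rw [mem_zOf_iff]
    exact ⟨hcon z hz, fun q hq => ((mem_cen_iff z).mp hz).2 q (hQS hq)⟩
  have hyS : y ∈ S := cen_le S hyZ
  have hyc : ∀ s ∈ S, s * y = y * s := ((mem_cen_iff y).mp hyZ).2
  have hypc : ∀ (k : ℕ), ∀ s ∈ S, y ^ k * s * (y ^ k)⁻¹ = s := by
    intro k s hs
    have : Commute s (y ^ k) := (show Commute s y from hyc s hs).pow_right k
    rw [← this.eq]
    group
  -- `S = Q ⟨y⟩`
  have hdecQ : ∀ s ∈ S, ∃ i : ℕ, s * y ^ i ∈ Q := by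
    intro s hs
    have hv : (⟨y, hyS⟩ : S) ∉ Q.subgroupOf S := fun h => hyQ (Subgroup.mem_subgroupOf.mp h)
    obtain ⟨i, hi⟩ := exists_mul_pow_mem_of_index_prime hpp (Q.subgroupOf S) hQi hv ⟨s, hs⟩
    rw [Subgroup.mem_subgroupOf] at hi
    exact ⟨i, by simpa using hi⟩
  -- commutators of `S` lie in `Z(Q)`
  have hcomm : ∀ a ∈ S, ∀ b ∈ S, a * b * a⁻¹ * b⁻¹ ∈ zOf Q := by
    intro a ha b hb
    obtain ⟨i, hi⟩ := hdecQ a ha
    obtain ⟨j, hj⟩ := hdecQ b hb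
    have h := comm_mem_zOf_of_isExtraspecial hQ hi hj
    have e1 : y ^ i * (b * y ^ j) * (y ^ i)⁻¹ = b * y ^ j := hypc i _ (S.mul_mem hb (S.pow_mem hyS j))
    have e2 : a * y ^ j * a⁻¹ = y ^ j := by
      have : Commute a (y ^ j) := (show Commute a y from hyc a ha).pow_right j
      rw [this.eq]
      group
    have e : a * y ^ i * (b * y ^ j) * (a * y ^ i)⁻¹ * (b * y ^ j)⁻¹ = a * b * a⁻¹ * b⁻¹ := by
      calc a * y ^ i * (b * y ^ j) * (a * y ^ i)⁻¹ * (b * y ^ j)⁻¹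
          = a * (y ^ i * (b * y ^ j) * (y ^ i)⁻¹) * a⁻¹ * (b * y ^ j)⁻¹ := by group
        _ = a * (b * y ^ j) * a⁻¹ * (b * y ^ j)⁻¹ := by rw [e1]
        _ = a * b * a⁻¹ * (a * y ^ j * a⁻¹) * (y ^ j)⁻¹ * b⁻¹ := by group
        _ = a * b * a⁻¹ * b⁻¹ := by rw [e2]; group
    rwa [e] at h
  -- `Q` is not abelian
  obtain ⟨a₀, ha₀, b₀, hb₀, hab₀⟩ : ∃ a ∈ Q, ∃ b ∈ Q, a * b ≠ b * a := by
    by_contra hcon
    push Not at hcon
    have hcQ : IsMulCommutative ↥Q := by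
      rw [isMulCommutative_iff]
      intro a b
      exact Subtype.ext (hcon a a.2 b b.2)
    have h1 : commutator ↥Q = ⊥ := (commutator_eq_bot_iff ↥Q).mpr hcQ
    have h2 : Nat.card (Subgroup.center ↥Q) = 1 := by
      rw [← hQ.1.2.2, h1]
      exact Subgroup.card_bot
    rw [hQ.2] at h2
    exact hpp.one_lt.ne' h2
  have hna : ¬ IsMulCommutative ↥S := by
    intro h
    apply hab₀
    have := isMulCommutative_iff.mp h ⟨a₀, hQS ha₀⟩ ⟨b₀, hQS hb₀⟩
    exact congrArg Subtype.val this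
  -- `Z(S) ∩ S'` has order `p`
  have hZ₀c : Nat.card ↥(cen S ⊓ (commutator ↥S).map S.subtype) = p := by
    have hXZ : cen S ⊓ (commutator ↥S).map S.subtype ≤ zOf Q := by
      rintro x ⟨-, c, hc, rfl⟩
      have hle : commutator ↥S ≤ (zOf Q).subgroupOf S := by
        rw [commutator_def, Subgroup.commutator_le]
        intro a _ b _
        rw [Subgroup.mem_subgroupOf]
        have := hcomm a a.2 b b.2
        simpa [commutatorElement_def] using this
      exact Subgroup.mem_subgroupOf.mp (hle hc)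
    have hdvd : Nat.card ↥(cen S ⊓ (commutator ↥S).map S.subtype) ∣ p := by
      rw [← hZcard]
      exact Subgroup.card_dvd_of_le hXZ
    rcases (Nat.dvd_prime hpp).mp hdvd with h | h
    · exfalso
      have hbot := Subgroup.card_eq_one.mp h
      have hx : a₀ * b₀ * a₀⁻¹ * b₀⁻¹ ∈ cen S ⊓ (commutator ↥S).map S.subtype := by
        refine ⟨hZle (hcomm a₀ (hQS ha₀) b₀ (hQS hb₀)), ⁅(⟨a₀, hQS ha₀⟩ : S), ⟨b₀, hQS hb₀⟩⁆, ?_, ?_⟩
        · exact Subgroup.commutator_mem_commutator (Subgroup.mem_top _) (Subgroup.mem_top _)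
        · simp [commutatorElement_def]
      rw [hbot, Subgroup.mem_bot] at hx
      apply hab₀
      calc a₀ * b₀ = (a₀ * b₀ * a₀⁻¹ * b₀⁻¹) * b₀ * a₀ := by group
        _ = b₀ * a₀ := by rw [hx, one_mul]
    · exact h
  -- `S` is strongly closed
  have hPsc : F.StronglyClosed S := ⟨le_rfl, fun R _ φ hφ x => (F.le_of_mem hφ).2 x⟩
  have hSN : S ≤ Subgroup.normalizer (S : Set Ω) := Subgroup.le_normalizer
  -- the essential subgroups are abelian of index `p`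
  have hdata : ∀ R : Subgroup Ω, F.IsEssential p R → (∀ a ∈ R, ∀ b ∈ R, a * b = b * a) ∧
      ∃ (A : Subgroup Ω) (x : Ω), Setup p S A ∧ x ∈ R ∧ x ∉ A := by
    intro R hR
    have hRS : R ≤ S := hR.1.1
    have hlt := Cfsg.Agent.S5326.lt_of_isEssential hS F hF hR
    have hPR : ¬ S ≤ R := not_le_of_gt hlt
    obtain ⟨n, w, U, C, h, hnN, hnS, hidx, hab, hZU, hUP₀, -, -, -, -, -, -, -, hwU, hnw, -⟩ :=
      essential_line_data hS F hPsc hSN hZS hZcard hcomm hZc hR hPR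
    refine ⟨fun a ha b hb => hab a ⟨hRS ha, ha⟩ b ⟨hRS hb, hb⟩, ?_⟩
    obtain ⟨hset, hwA⟩ := setup_centralizer hS hRS hZS (hZU.trans (hUP₀.trans inf_le_right)) hZcard hcomm hZc hidx hab
      hnS (hUP₀ hwU).2 hnw
    exact ⟨_, w, hset, (hUP₀ hwU).2, hwA⟩
  have hglobal := hom_subset_cenSystem hS F hF (fun R hR hRna => absurd (hdata R hR).1 hRna)
  have hcoreQ : ∀ Q' : Subgroup Ω, F.IsNormal Q' → Q' = ⊥ := by
    intro Q' hQ'
    have h1 : Q' ≤ F.core := le_sSup hQ'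
    rw [hO] at h1
    exact le_bot_iff.mp h1
  have hSne : S ≠ ⊥ := by
    intro h
    have : a₀ ∈ (⊥ : Subgroup Ω) := h ▸ hQS ha₀
    have hb : b₀ ∈ (⊥ : Subgroup Ω) := h ▸ hQS hb₀
    rw [Subgroup.mem_bot] at this hb
    apply hab₀
    rw [this, hb]
  have hactS : ∀ β ∈ F.autGroup S, ∃ κ ∈ cenAut F, ∀ (z : cen S) (hz : (z : Ω) ∈ S),
      ((β ⟨z, hz⟩ : S) : Ω) = ((κ z : cen S) : Ω) :=
    fun β hβ => ⟨resZHom β, ⟨β, hβ, rfl⟩, fun z hz => rfl⟩
  -- some subgroup is essential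
  obtain ⟨P, hP⟩ : ∃ P : Subgroup Ω, F.IsEssential p P := by
    by_contra hcon
    push Not at hcon
    apply hSne
    apply hcoreQ
    apply isNormal_of_forall_essential hS F hF
    intro R hR
    rcases hR with rfl | hess
    · refine ⟨le_rfl, fun α _ => ?_⟩
      rw [Subgroup.subgroupOf_self, Subgroup.map_top_of_surjective _ α.surjective]
    · exact absurd hess (hcon R)
  obtain ⟨hPcomm, A, x, hA, hxP, hxA⟩ := hdata P hP
  obtain ⟨⟨ι, hιK, hιinv, hιcard⟩, -⟩ := local_main hp2 hS F hF hA hna hglobal hZ₀c hP hxP hxA hPcomm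
  have hunique : ∀ κ ∈ cenAut F, QInv κ → κ = ι :=
    fun κ hκ hκinv => Cfsg.Agent.S5244.qinv_unique hS F hF hZ₀c hκ hιK hκinv hιinv
  -- `ι` is central in `cenAut F`
  have hcentral : ∀ κ ∈ cenAut F, ∀ z : cen S, ι (κ z) = κ (ι z) := by
    intro κ hκ z
    have hκ' : κ⁻¹ ∈ cenAut F := (cenAut F).inv_mem hκ
    have hconj : QInv (κ * ι * κ⁻¹) := by
      refine ⟨fun w hw => ?_, fun w => ?_⟩
      · rw [MulAut.mul_apply, MulAut.mul_apply, hιinv.1 _ (Cfsg.Agent.S5244.cenAut_preserves F hκ' w hw), map_inv,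
          MulAut.apply_inv_self]
      · have h1 := hιinv.2 (κ⁻¹ w)
        have h2 := Cfsg.Agent.S5244.cenAut_preserves F hκ _ h1
        have e : w⁻¹ * (κ * ι * κ⁻¹) w = κ ((κ⁻¹ w)⁻¹ * ι (κ⁻¹ w)) := by
          rw [MulAut.mul_apply, MulAut.mul_apply, map_mul, map_inv, MulAut.apply_inv_self]
        rw [e]
        exact h2
    have h3 := hunique _ ((cenAut F).mul_mem ((cenAut F).mul_mem hκ hιK) hκ') hconj
    have h4 : (κ * ι * κ⁻¹) (κ z) = ι (κ z) := by rw [h3]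
    rw [MulAut.mul_apply, MulAut.mul_apply, MulAut.inv_apply_self] at h4
    exact h4.symm
  set Z₁ : Subgroup Ω := (Cfsg.Agent.S5244.fixSub ι).map (cen S).subtype with hZ₁
  have hZ₁mem : ∀ z : cen S, (z : Ω) ∈ Z₁ ↔ ι z = z := by
    intro z
    constructor
    · rintro ⟨w, hw, hwz⟩
      have : w = z := Subtype.ext hwz
      rw [← this]
      exact hw
    · intro hz
      exact ⟨z, hz, rfl⟩
  have hZ₁Z : Z₁ ≤ cen S := by
    rintro _ ⟨w, -, rfl⟩
    exact w.2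
  have hpres : ∀ (R : Subgroup Ω) (β : MulAut R), (∃ κ ∈ cenAut F, ∀ (z : cen S) (hz : (z : Ω) ∈ R),
      ((β ⟨z, hz⟩ : R) : Ω) = ((κ z : cen S) : Ω)) → ∀ y : R, (y : Ω) ∈ Z₁ → ((β y : R) : Ω) ∈ Z₁ := by
    rintro R β ⟨κ, hκ, hκz⟩ y hy
    have hyZ : (y : Ω) ∈ cen S := hZ₁Z hy
    have h1 := hκz ⟨y, hyZ⟩ y.2
    rw [show (⟨((⟨(y : Ω), hyZ⟩ : cen S) : Ω), y.2⟩ : R) = y from rfl] at h1
    rw [h1, hZ₁mem, hcentral κ hκ, (hZ₁mem ⟨y, hyZ⟩).mp hy]
  have hZ₁normal : F.IsNormal Z₁ := by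
    apply isNormal_of_forall_essential hS F hF
    intro R hR
    have hRS : R ≤ S := by
      rcases hR with rfl | hess
      · exact le_rfl
      · exact hess.1.1
    have hZR : cen S ≤ R := by
      rcases hR with rfl | hess
      · exact cen_le _
      · exact cen_le_of_centric F hess.1
    refine ⟨hZ₁Z.trans hZR, fun α hα => ?_⟩
    apply Cfsg.Agent.S5244.map_subgroupOf_eq_of_forall (F.autGroup R) ?_ α hα
    intro β hβ y hy
    rcases hR with rfl | hess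
    · exact hpres _ β (hactS β hβ) y hy
    · obtain ⟨hRcomm, A', x', hA', hx'R, hx'A⟩ := hdata R hess
      obtain ⟨-, hloc⟩ := local_main hp2 hS F hF hA' hna hglobal hZ₀c hess hx'R hx'A hRcomm
      rcases hloc β hβ with hI | ⟨⟨κ, hκ, hκinv, hκfix⟩, ⟨κ', hκ', hκ'inv, hκ'fix⟩⟩
      · exact hpres R β hI y hy
      · rw [hunique κ hκ hκinv] at hκfix
        rw [hunique κ' hκ' hκ'inv] at hκ'fix
        have hyZ : (y : Ω) ∈ cen S := hZ₁Z hy
        have hιy : ι ⟨y, hyZ⟩ = ⟨y, hyZ⟩ := (hZ₁mem ⟨y, hyZ⟩).mp hy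
        obtain ⟨y', hy'Z, hy'⟩ := (hκ'fix ⟨y, hyZ⟩).mp hιy
        have hy'eq : y' = β y := by
          have h1 : β⁻¹ y' = y := Subtype.ext hy'
          rw [← h1, MulAut.apply_inv_self]
        rw [← hy'eq]
        rw [show (y' : Ω) = ((⟨y', hy'Z⟩ : cen S) : Ω) from rfl, hZ₁mem, hκfix]
        refine ⟨y, hyZ, ?_⟩
        rw [← hy'eq]
  have hZ₁bot : Z₁ = ⊥ := hcoreQ Z₁ hZ₁normal
  have htriv : ∀ z : cen S, ι z = z → z = 1 := by
    intro z hz
    have h1 := (hZ₁mem z).mpr hz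
    rw [hZ₁bot, Subgroup.mem_bot] at h1
    exact Subtype.ext h1
  have hcardZ : Nat.card (cen S) ≤ p := hιcard htriv
  have hfinZ : Finite ↥(cen S) := finite_of_le (cen_le S)
  have hlt : zOf Q < cen S := by
    refine lt_of_le_of_ne hZle ?_
    intro h
    exact hyQ (hZQ (h ▸ hyZ))
  have := card_lt_card_of_lt hlt
  rw [hZcard] at this
  omega

end Cfsg.Agent.S5178
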