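import Cfsg.Statements.S5179
import Cfsg.Agent.Helper87.EssentialLine
import Cfsg.Agent.Helper87.ExtraSub
import Cfsg.Agent.Helper87.FusionRS
import Cfsg.Agent.Helper87.FusionFrobenius

set_option autoImplicit false
universe u
open Cfsg

namespace Cfsg.Agent.S5179

open Cfsg.FusionSystem Cfsg.Agent.Helper87
open scoped commutatorElement

/-- Let p be an odd prime, S a finite p-group of order at least p⁶ containing an extraspecial subgroup Q of index p, and F a saturated fusion system over S whose largest subgroup normal in F is trivial. Then no proper subgroup of Q is essential in F: an essential subgroup of F contained in Q equals Q. -/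
theorem result {Ω : Type u} [Group Ω] {S : Subgroup Ω} [Finite S] (p : ℕ) [Fact p.Prime] (hp : Odd p) (hS : IsPGroup p S)
    (Q : Subgroup Ω) (hQS : Q ≤ S) (hQ : Cfsg.IsExtraspecial p ↥Q) (hQi : (Q.subgroupOf S).index = p)
    (h6 : p ^ 6 ≤ Nat.card S)
    (F : Cfsg.FusionSystem S) (hF : F.IsSaturated p) (hO : F.core = ⊥)
    (E : Subgroup Ω) (hEQ : E ≤ Q) (hE : F.IsEssential p E) : E = Q := by
  have _ := hp
  have _ := hF
  have _ := hO
  have hp' : (Fact.out : p.Prime) = Fact.out := rfl
  have hpp : p.Prime := Fact.out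
  obtain ⟨hEc, -, hnorm, M, hM⟩ := hE
  have hES : E ≤ S := hEc.1
  have hcen : centralizerIn S E ≤ E := hEc.2 E (isConj_refl F hES)
  haveI : Finite E := finite_of_le hES
  haveI : Finite Q := finite_of_le hQS
  haveI := hnorm
  set Z := zOf Q with hZdef
  have hZcard : Nat.card Z = p := card_zOf_of_isExtraspecial hQ
  have hZQ : Z ≤ Q := zOf_le Q
  have hZc : ∀ z ∈ Z, ∀ q ∈ Q, q * z = z * q := fun z hz => ((mem_zOf_iff Q z).mp hz).2
  have hcomm : ∀ a ∈ Q, ∀ b ∈ Q, a * b * a⁻¹ * b⁻¹ ∈ Z :=
    fun a ha b hb => comm_mem_zOf_of_isExtraspecial hQ ha hb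
  -- `Z ≤ E`
  have hZE : Z ≤ E := by
    intro z hz
    apply hcen
    refine ⟨hQS (hZQ hz), ?_⟩
    show z ∈ Subgroup.centralizer (E : Set Ω)
    rw [Subgroup.mem_centralizer_iff]
    intro e he
    exact hZc z hz e (hEQ he)
  by_contra hne
  -- `Q` normalizes `E`
  have hQN : Q ≤ Subgroup.normalizer (E : Set Ω) := by
    intro q hq
    apply mem_normalizer_of_conj_mem_of_inv_conj_mem
    · intro y hy
      have : q * y * q⁻¹ = (q * y * q⁻¹ * y⁻¹) * y := by group
      rw [this]
      exact E.mul_mem (hZE (hcomm q hq y (hEQ hy))) hy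
    · intro y hy
      have : q⁻¹ * y * q = (q⁻¹ * y * q⁻¹⁻¹ * y⁻¹) * y := by group
      rw [this]
      exact E.mul_mem (hZE (hcomm q⁻¹ (Q.inv_mem hq) y (hEQ hy))) hy
  -- the commutator `x⁻¹ (q x q⁻¹)` lies in `Z`
  have hcomm' : ∀ q ∈ Q, ∀ x ∈ E, x⁻¹ * (q * x * q⁻¹) ∈ Z := by
    intro q hq x hx
    have := hcomm x⁻¹ (Q.inv_mem (hEQ hx)) q hq
    have e : x⁻¹ * q * x⁻¹⁻¹ * q⁻¹ = x⁻¹ * (q * x * q⁻¹) := by group
    rwa [e] at this
  have hfixZ : ∀ q ∈ Q, ∀ z ∈ Z, q * z * q⁻¹ = z := by
    intro q hq z hz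
    rw [hZc z hz q hq]
    group
  by_cases hab : ∀ a ∈ E, ∀ b ∈ E, a * b = b * a
  · -- abelian case
    have hidx := index_subgroupOf_dvd_of_line hS F hES hcen M hM E (fun α _ x _ => (α x).2) Z hZE hZE hZcard
      Q hQS hQN (fun q hq x hx => hZE (hcomm' q hq x hx)) (fun q hq x hx _ => hcomm' q hq x hx) hfixZ
    have hidx1 : (E.subgroupOf Q).index ≠ 1 := by
      intro h1
      rw [Subgroup.index_eq_one, Subgroup.subgroupOf_eq_top] at h1
      exact hne (le_antisymm hEQ h1)
    have hidxp : (E.subgroupOf Q).index = p := by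
      rcases (Nat.dvd_prime hpp).mp hidx with h | h
      · exact absurd h hidx1
      · exact h
    have hcardQ : Nat.card Q ≤ p ^ 3 := by
      apply card_le_cube_of_abelian_index_prime (comm_mem_center_of_isExtraspecial hQ) hQ.2 (E.subgroupOf Q)
      · intro x hx
        rw [Subgroup.mem_subgroupOf]
        exact hZE (mem_zOf_of_mem_center hx)
      · intro a ha b hb
        rw [Subgroup.mem_subgroupOf] at ha hb
        exact Subtype.ext (hab a ha b hb)
      · exact hidxp
    have hcardS : Nat.card S = Nat.card Q * p := by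
      rw [← Subgroup.card_mul_index (Q.subgroupOf S), hQi]
      congr 1
      exact Nat.card_congr (Subgroup.subgroupOfEquivOfLe hQS).toEquiv
    have h2 : 2 ≤ p := hpp.two_le
    have : p ^ 6 ≤ p ^ 3 * p := by
      calc p ^ 6 ≤ Nat.card S := h6
        _ = Nat.card Q * p := hcardS
        _ ≤ p ^ 3 * p := Nat.mul_le_mul_right p hcardQ
    have h4 : p ^ 3 * p = p ^ 4 := by ring
    rw [h4] at this
    have := (Nat.pow_le_pow_iff_right hpp.one_lt).mp this
    omega
  · -- nonabelian case
    push Not at hab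
    obtain ⟨a, ha, b, hb, hab⟩ := hab
    set D : Subgroup E := Z.subgroupOf E with hD
    have hDcard : Nat.card D = p := by
      rw [← hZcard]
      exact Nat.card_congr (Subgroup.subgroupOfEquivOfLe hZE).toEquiv
    -- commutators of `E` lie in `D`
    have hcD : ∀ x y : E, ⁅x, y⁆ ∈ D := by
      intro x y
      rw [hD, Subgroup.mem_subgroupOf]
      have := hcomm x (hEQ x.2) y (hEQ y.2)
      simpa [commutatorElement_def] using this
    set c : E := ⁅(⟨a, ha⟩ : E), ⟨b, hb⟩⁆ with hc
    have hc1 : c ≠ 1 := by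
      intro h
      rw [hc, commutatorElement_eq_one_iff_mul_comm] at h
      exact hab (congrArg Subtype.val h)
    have hgen : ∀ x ∈ D, ∃ k : ℤ, x = c ^ k := by
      intro x hx
      have h1 : (⟨c, hcD _ _⟩ : D) ≠ 1 := fun h => hc1 (congrArg Subtype.val h)
      have h2 : (⟨x, hx⟩ : D) ∈ Subgroup.zpowers (⟨c, hcD _ _⟩ : D) := mem_zpowers_of_prime_card hDcard h1
      obtain ⟨k, hk⟩ := Subgroup.mem_zpowers_iff.mp h2
      exact ⟨k, by simpa using (congrArg Subtype.val hk).symm⟩
    have hDinv : ∀ α : MulAut E, ∀ x ∈ D, α x ∈ D := by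
      intro α x hx
      obtain ⟨k, rfl⟩ := hgen x hx
      rw [map_zpow]
      apply Subgroup.zpow_mem
      rw [hc, map_commutatorElement]
      exact hcD _ _
    have hinv : ∀ α ∈ F.autGroup E, ∀ k, ∀ x ∈ chain3 D ⊥ k, α x ∈ chain3 D ⊥ k := by
      intro α _ k x hx
      unfold chain3 at hx ⊢
      by_cases hk0 : k = 0
      · simp [hk0]
      · by_cases hk1 : k = 1
        · simp only [hk1] at hx ⊢
          simpa using hDinv α x (by simpa using hx)
        · have hx1 : x = 1 := by
            by_cases hk2 : k = 2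
            · simpa [hk2] using hx
            · simpa [hk0, hk1, hk2] using hx
          subst hx1
          simp
    have hQE : Q ≤ E := by
      intro q hq
      refine mem_of_conjAut_mem_chainStab hS F hES hcen M hM (chain3 D ⊥) (chain3_antitone bot_le)
        (by simp [chain3]) 2 (by simp [chain3]) hinv (hQS hq) (hQN hq) ?_
      apply mem_chainStab_chain3 bot_le
      · intro x
        rw [hD, Subgroup.mem_subgroupOf]
        have := hcomm' q hq x x.2
        simpa [conjAut_apply] using this
      · intro x hx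
        rw [hD, Subgroup.mem_subgroupOf] at hx
        rw [Subgroup.mem_bot]
        apply Subtype.ext
        have := hfixZ q hq x hx
        simp [conjAut_apply, this]
      · intro x hx
        rw [Subgroup.mem_bot] at hx
        rw [hx, map_one]
    exact hne (le_antisymm hEQ hQE)

end Cfsg.Agent.S5179
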