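import Cfsg.Statements.S5186
import Cfsg.Agent.Helper87.CubeAbelian
import Cfsg.Agent.Helper87.CubeTwo
import Cfsg.Agent.Helper87.CubeOdd
import Cfsg.Agent.Helper37.ExtraP3

set_option autoImplicit false
universe u
open Cfsg

namespace Cfsg.Agent.S5186

open Cfsg.Agent.Helper87

/-- A group of order `p ^ 3` with a group of automorphisms a quotient of which has a strongly `p`-embedded subgroup. -/
theorem core {T : Type*} [Group T] (p : ℕ) [hp : Fact p.Prime] (hcard : Nat.card T = p ^ 3)
    (A : Subgroup (MulAut T)) (N : Subgroup A) [N.Normal] (Y : Subgroup (A ⧸ N)) (hY : IsStronglyPEmbedded p Y) :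
    ((∀ a b : T, a * b = b * a) ∧ ∀ a : T, a ^ p = 1) ∨ (Odd p ∧ Cfsg.IsExtraspecial p T ∧ ∀ x : T, x ^ p = 1) ∨
      (p = 2 ∧ Nonempty (T ≃* QuaternionGroup 2)) := by
  have hfin : Finite T := Nat.finite_of_card_ne_zero (by rw [hcard]; exact pow_ne_zero 3 hp.out.ne_zero)
  by_cases hc : ∀ a b : T, a * b = b * a
  · by_cases he : ∀ a : T, a ^ p = 1
    · exact Or.inl ⟨hc, he⟩
    · exfalso
      push Not at he
      exact false_of_comm_card_cube hcard hc he A N Y hY
  · right
    rcases hp.out.eq_two_or_odd' with h2 | hodd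
    · right
      subst h2
      exact ⟨rfl, quaternion_of_card_eight (by rw [hcard]; norm_num) hc A N Y hY⟩
    · left
      by_cases he : ∀ a : T, a ^ p = 1
      · refine ⟨hodd, ?_, he⟩
        push Not at hc
        obtain ⟨a, b, hab⟩ := hc
        exact Cfsg.Agent.Helper37.isExtraspecial_of_card_cube hcard ⟨a, b, hab⟩ he
      · exfalso
        push Not at he
        exact false_of_card_cube_odd hodd hcard hc he A N Y hY

/-- Let F be a saturated fusion system over a finite p-group S and H an essential subgroup of order p³. Then H is elementary abelian, or p is odd and H is extraspecial of exponent p, or p = 2 and H is the quaternion group of order 8. -/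
theorem result {Ω : Type u} [Group Ω] {S : Subgroup Ω} [Finite S] (p : ℕ) [Fact p.Prime] (hS : IsPGroup p S)
    (F : Cfsg.FusionSystem S) (hF : F.IsSaturated p) (H : Subgroup Ω) (hH : F.IsEssential p H) (hcard : Nat.card H = p ^ 3) :
    Cfsg.IsElementaryAbelian p H ∨ (Odd p ∧ Cfsg.IsExtraspecial p ↥H ∧ ∀ x ∈ H, x ^ p = 1) ∨
      (p = 2 ∧ Nonempty (↥H ≃* QuaternionGroup 2)) := by
  have _ := hS
  have _ := hF
  obtain ⟨-, -, hnorm, E, hE⟩ := hH
  rcases core p hcard (F.autGroup H) ((Inn H).subgroupOf (F.autGroup H)) E hE with ⟨hc, he⟩ | ⟨hodd, hes, he⟩ | h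
  · left
    exact ⟨isMulCommutative_iff.mpr hc, fun a ha => congrArg Subtype.val (he ⟨a, ha⟩)⟩
  · right; left
    exact ⟨hodd, hes, fun a ha => congrArg Subtype.val (he ⟨a, ha⟩)⟩
  · right; right
    exact h

end Cfsg.Agent.S5186
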