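import Cfsg.Statements.S5188
import Cfsg.Agent.Helper87.P4Nonabelian
import Cfsg.Agent.Helper87.P4Abelian

set_option autoImplicit false
universe u
open Cfsg

namespace Cfsg.Agent.S5188

open Cfsg.Agent.Helper87

/-- Let F be a saturated fusion system over a finite p-group S and H an essential subgroup of order p⁴. Then H is isomorphic to one of: C_p⁴ or C_{p²} × C_p × C_p (any p); C_{p²} × C_{p²} with p ∈ {2, 3}; p^{1+2}_+ × C_p with p odd (the direct product of an extraspecial group of order p³ and exponent p with a group of order p); Q₈ × C₂ (p = 2); or the non-abelian group of order p⁴ of exponent p² whose centre is cyclic of order p² (the central product of an extraspecial group of order p³ with a cyclic group of order p²; for p = 2 this is D₈ ∘ C₄). -/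
theorem result {Ω : Type u} [Group Ω] {S : Subgroup Ω} [Finite S] (p : ℕ) [Fact p.Prime] (hS : IsPGroup p S)
    (F : Cfsg.FusionSystem S) (hF : F.IsSaturated p) (H : Subgroup Ω) (hH : F.IsEssential p H) (hcard : Nat.card H = p ^ 4) :
    Cfsg.IsElementaryAbelian p H ∨
      Nonempty (↥H ≃* Multiplicative (ZMod (p ^ 2) × ZMod p × ZMod p)) ∨
      ((p = 2 ∨ p = 3) ∧ Nonempty (↥H ≃* Multiplicative (ZMod (p ^ 2) × ZMod (p ^ 2)))) ∨
      (Odd p ∧ ∃ (E : Type) (_ : Group E) (_ : Finite E), Cfsg.IsExtraspecial p E ∧ Nat.card E = p ^ 3 ∧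
        (∀ x : E, x ^ p = 1) ∧ Nonempty (↥H ≃* E × Multiplicative (ZMod p))) ∨
      (p = 2 ∧ Nonempty (↥H ≃* QuaternionGroup 2 × Multiplicative (ZMod 2))) ∨
      (¬ IsMulCommutative ↥H ∧ (∀ x ∈ H, x ^ (p ^ 2) = 1) ∧ IsCyclic ↥(Subgroup.center ↥H) ∧
        Nat.card (Subgroup.center ↥H) = p ^ 2) := by
  have _ := hF
  have _ := hS
  have hp : p.Prime := Fact.out
  obtain ⟨-, -, hnorm, E, hE⟩ := hH
  have hfin : Finite ↥H := Nat.finite_of_card_ne_zero (by rw [hcard]; exact pow_ne_zero 4 hp.ne_zero)
  have hHp : IsPGroup p ↥H := IsPGroup.of_card hcard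
  by_cases hcomm : ∀ a b : ↥H, a * b = b * a
  · letI cg : CommGroup ↥H := { (inferInstance : Group ↥H) with mul_comm := hcomm }
    have hI : (Inn H).subgroupOf (F.autGroup H) = ⊥ := by
      rw [eq_bot_iff]
      rintro x hx
      rw [Subgroup.mem_subgroupOf] at hx
      obtain ⟨g, hg⟩ := hx
      rw [Subgroup.mem_bot]
      apply Subtype.ext
      rw [← hg]
      ext h
      simp [MulAut.conj_apply, hcomm g h]
    rcases p4_abelian (T := ↥H) p hcard (F.autGroup H) ((Inn H).subgroupOf (F.autGroup H)) hI E hE with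
      he | h | h
    · left
      exact ⟨isMulCommutative_iff.mpr hcomm, fun a ha => congrArg Subtype.val (he ⟨a, ha⟩)⟩
    · right; left
      exact h
    · right; right; left
      exact h
  · rcases p4_nonabelian hcard hcomm with h | h | h | ⟨h1, h2, h3⟩
    · exfalso
      exact false_of_hasCharChain hHp (F.autGroup H) ((Inn H).subgroupOf (F.autGroup H)) E hE h
    · right; right; right; left
      exact h
    · right; right; right; right; left
      exact h
    · right; right; right; right; right
      refine ⟨fun hc => hcomm hc.is_comm.comm, ?_, h2, h3⟩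
      intro x hx
      exact congrArg Subtype.val (h1 ⟨x, hx⟩)

end Cfsg.Agent.S5188
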