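-- Statement S5191: fusion lifts from the quotient by a normal subgroup (here O_{p'}(G)).
import Cfsg.Statements.S5191

set_option autoImplicit false
open Cfsg

namespace Cfsg.Agent.S5191

/-- Sylow step: a `p`-subgroup `Q` of `S N` (with `N` normal) is conjugate into `S` by an element of `N`. -/
theorem conj_into_sylow_by_normal {G : Type*} [Group G] [Finite G] {p : ℕ} [Fact p.Prime]
    (N : Subgroup G) [N.Normal] (S : Sylow p G) (Q : Subgroup G) (hQ : IsPGroup p Q)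
    (hQK : Q ≤ (S : Subgroup G) ⊔ N) : ∃ n ∈ N, ∀ x ∈ Q, n * x * n⁻¹ ∈ (S : Subgroup G) := by
  classical
  set K : Subgroup G := (S : Subgroup G) ⊔ N with hK
  have hSK : (S : Subgroup G) ≤ K := le_sup_left
  let S' : Sylow p K := S.subtype hSK
  have hQ' : IsPGroup p (Q.subgroupOf K) := hQ.comap_subtype
  obtain ⟨R, hR⟩ := hQ'.exists_le_sylow
  obtain ⟨k, hk⟩ := MulAction.exists_smul_eq K R S'
  -- decompose k = s * n
  have hkmem : (k : G) ∈ ((S : Subgroup G) ⊔ N : Subgroup G) := k.2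
  rw [← SetLike.mem_coe, Subgroup.mul_normal] at hkmem
  obtain ⟨s, hs, n, hn, hsn⟩ := hkmem
  refine ⟨n, hn, fun x hx => ?_⟩
  have hxK : x ∈ K := hQK hx
  have hxR : (⟨x, hxK⟩ : K) ∈ (R : Subgroup K) := hR (by simpa [Subgroup.mem_subgroupOf] using hx)
  have h1 : k * ⟨x, hxK⟩ * k⁻¹ ∈ ((k • R : Sylow p K) : Subgroup K) := by
    rw [Sylow.coe_subgroup_smul]
    have := Subgroup.smul_mem_pointwise_smul (⟨x, hxK⟩ : K) (MulAut.conj k) (R : Subgroup K) hxR
    simpa [MulAut.smul_def] using this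
  rw [hk] at h1
  have h2 : (k : G) * x * (k : G)⁻¹ ∈ (S : Subgroup G) := by
    have h3 : k * ⟨x, hxK⟩ * k⁻¹ ∈ (S : Subgroup G).subgroupOf K := by
      rw [← Sylow.coe_subtype]; exact h1
    simpa [Subgroup.mem_subgroupOf] using h3
  have hsn' : s * n = (k : G) := hsn
  rw [← hsn'] at h2
  have hs' : s ∈ (S : Subgroup G) := hs
  have h4 : s⁻¹ * (s * n * x * (s * n)⁻¹) * s ∈ (S : Subgroup G) :=
    Subgroup.mul_mem _ (Subgroup.mul_mem _ (Subgroup.inv_mem _ hs') h2) hs'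
  have h5 : s⁻¹ * (s * n * x * (s * n)⁻¹) * s = n * x * n⁻¹ := by group
  rwa [h5] at h4

/-- General form for any normal subgroup `N`. -/
theorem lift_general {G : Type*} [Group G] [Finite G] {p : ℕ} [Fact p.Prime]
    (N : Subgroup G) [N.Normal] (S : Sylow p G) (P : Subgroup G) (hP : P ≤ (S : Subgroup G))
    (γ : G ⧸ N)
    (hγ : ∀ x ∈ P, γ * QuotientGroup.mk x * γ⁻¹ ∈ ((S : Subgroup G).map (QuotientGroup.mk' N))) :
    ∃ g : G, ∀ x ∈ P, g * x * g⁻¹ ∈ S ∧
      (QuotientGroup.mk (g * x * g⁻¹) : G ⧸ N) = γ * QuotientGroup.mk x * γ⁻¹ := by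
  classical
  obtain ⟨g₀, rfl⟩ := QuotientGroup.mk_surjective γ
  -- Q = g₀ P g₀⁻¹
  let Q : Subgroup G := P.map (MulAut.conj g₀).toMonoidHom
  have hPp : IsPGroup p P := S.isPGroup'.to_le hP
  have hQ : IsPGroup p Q := hPp.map _
  have hQK : Q ≤ (S : Subgroup G) ⊔ N := by
    rintro _ ⟨x, hx, rfl⟩
    obtain ⟨s, hs, hsx⟩ := hγ x hx
    have hsx' : (QuotientGroup.mk s : G ⧸ N) = QuotientGroup.mk (g₀ * x * g₀⁻¹) := by
      simpa using hsx
    have hmem : s⁻¹ * (g₀ * x * g₀⁻¹) ∈ N := QuotientGroup.eq.mp hsx'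
    have : g₀ * x * g₀⁻¹ = s * (s⁻¹ * (g₀ * x * g₀⁻¹)) := by group
    show (MulAut.conj g₀) x ∈ _
    rw [MulAut.conj_apply, this]
    exact Subgroup.mul_mem_sup hs hmem
  obtain ⟨n, hn, hnQ⟩ := conj_into_sylow_by_normal N S Q hQ hQK
  refine ⟨n * g₀, fun x hx => ⟨?_, ?_⟩⟩
  · have := hnQ (g₀ * x * g₀⁻¹) ⟨x, hx, by simp [MulAut.conj_apply]⟩
    have h : n * g₀ * x * (n * g₀)⁻¹ = n * (g₀ * x * g₀⁻¹) * n⁻¹ := by group
    rw [h]; exact this
  · have hn1 : (QuotientGroup.mk n : G ⧸ N) = 1 := (QuotientGroup.eq_one_iff n).mpr hn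
    simp [QuotientGroup.mk_mul, QuotientGroup.mk_inv, hn1]

/-- Fusion in a finite group G and in its quotient by O_{p'}(G) agree. Let S be a Sylow p-subgroup of G, N = O_{p'}(G) and P ≤ S. If an element of G/N conjugates the image of P into the image of S, then some element g of G conjugates P into S and induces the same map on P modulo N. (Together with the injectivity of S → G/N this says that g ↦ gN induces an isomorphism of the fusion system of G on S with that of G/N on SN/N.) -/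
theorem result {G : Type*} [Group G] [Finite G] {p : ℕ} [Fact p.Prime]
    [hN : (Cfsg.pPrimeCore p G).Normal] (S : Sylow p G) (P : Subgroup G) (hP : P ≤ (S : Subgroup G))
    (γ : G ⧸ Cfsg.pPrimeCore p G)
    (hγ : ∀ x ∈ P, γ * QuotientGroup.mk x * γ⁻¹ ∈ ((S : Subgroup G).map (QuotientGroup.mk' (Cfsg.pPrimeCore p G)))) :
    ∃ g : G, ∀ x ∈ P, g * x * g⁻¹ ∈ S ∧
      (QuotientGroup.mk (g * x * g⁻¹) : G ⧸ Cfsg.pPrimeCore p G) = γ * QuotientGroup.mk x * γ⁻¹ := by
  exact lift_general (Cfsg.pPrimeCore p G) S P hP γ hγ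

end Cfsg.Agent.S5191
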