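-- Statement S5192 (helper88): Thompson transfer for saturated fusion systems, through the transfer of a characteristic biset.
import Cfsg.Statements.S5192
import Cfsg.Agent.Helper88.ThompsonFusion

set_option autoImplicit false
set_option linter.style.haveILetI false
open Cfsg

namespace Cfsg.Agent.S5192

open Cfsg.FusionSystem Cfsg.Agent.Helper87 Cfsg.Agent.Helper88.Marks Cfsg.Agent.Helper88.Biset

/-- A Thompson-type transfer for saturated fusion systems. Let F be a saturated fusion system on a finite 2-group S, T a subgroup of S of index 2, and i an involution of S such that every fully normalized F-conjugate of i lies in S but outside T. Then i does not lie in the hyperfocal subgroup of F (the Sylow group of the 2-residual subsystem). -/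
theorem result {Ω : Type*} [Group Ω] [Finite Ω] {S : Subgroup Ω}
    (hS : IsPGroup 2 ↥S) (F : Cfsg.FusionSystem S) (hF : F.IsSaturated 2)
    (T : Subgroup Ω) (hTS : T ≤ S) (hT : T.relIndex S = 2)
    (i : Ω) (hi : i ∈ S) (hi2 : orderOf i = 2)
    (h : ∀ j : Ω, F.IsConjElt i j → F.IsFullyNormalized (Subgroup.zpowers j) → j ∉ T) :
    i ∉ F.hyperfocalSubgroup 2 := by
  intro hi_hyp
  haveI : Fact (Nat.Prime 2) := ⟨Nat.prime_two⟩
  obtain ⟨m, hsupp, hstab, hidx⟩ := exists_char_biset hS F hF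
  -- the quotient of order two
  have hT' : (T.subgroupOf S).index = 2 := hT
  haveI : (T.subgroupOf S).Normal := Subgroup.normal_of_index_eq_two hT'
  have hcard : Nat.card (↥S ⧸ T.subgroupOf S) = 2 := by rw [← Subgroup.index_eq_card]; exact hT'
  haveI : IsCyclic (↥S ⧸ T.subgroupOf S) := isCyclic_of_prime_card hcard
  letI : CommGroup (↥S ⧸ T.subgroupOf S) := IsCyclic.commGroup
  haveI : Fintype (↥S ⧸ T.subgroupOf S) := Fintype.ofFinite _
  obtain ⟨ε, hε, hεuniq⟩ := (Nat.card_eq_two_iff' (1 : ↥S ⧸ T.subgroupOf S)).mp hcard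
  have hA : ∀ a : ↥S ⧸ T.subgroupOf S, a = 1 ∨ a = ε := by
    intro a
    by_cases ha : a = 1
    · left; exact ha
    · right; exact hεuniq a ha
  obtain ⟨lam, hlamdef⟩ : ∃ lam : ↥S →* ↥S ⧸ T.subgroupOf S, lam = QuotientGroup.mk' (T.subgroupOf S) := ⟨_, rfl⟩
  have hlam : ∀ w : ↥S, lam w = 1 → (w : Ω) ∈ T := by
    intro w hw
    rw [hlamdef] at hw
    have := (QuotientGroup.eq_one_iff w).mp hw
    exact Subgroup.mem_subgroupOf.mp this
  -- the involution
  have hi2' : i ^ 2 = 1 := by rw [← hi2]; exact pow_orderOf_eq_one i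
  have hi1 : i ≠ 1 := by
    intro h1
    rw [h1, orderOf_one] at hi2
    exact absurd hi2 (by norm_num)
  have hι : (⟨i, hi⟩ : ↥S) ^ 2 = 1 := Subtype.ext hi2'
  -- the parity hypothesis
  have heven : ∀ w : ↥S, lam w = 1 → Even (cCount m ⟨i, hi⟩ (ConjClasses.mk w)) := by
    intro w hw
    have hwT : (w : Ω) ∈ T := hlam w hw
    have hmk := mark_eq_card_centralizer_mul F m hsupp ⟨i, hi⟩ w
    by_cases h0 : mark m (Subgroup.zpowers (((⟨i, hi⟩ : ↥S), w) : ↥S × ↥S)) = 0
    · rw [h0] at hmk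
      have hz : cCount m ⟨i, hi⟩ (ConjClasses.mk w) = 0 :=
        (Nat.mul_eq_zero.mp hmk.symm).resolve_left Nat.card_pos.ne'
      rw [hz]
      exact Even.zero
    · have hTD := TD.of_mark_ne_zero m hsupp _ h0
      have hconj : F.IsConjElt i (w : Ω) := isConjElt_of_TD_zpowers hTD
      have hnfn : ¬ F.IsFullyNormalized (Subgroup.zpowers (w : Ω)) := fun hfn => h (w : Ω) hconj hfn hwT
      have hwS : Subgroup.zpowers (w : Ω) ≤ S := Subgroup.zpowers_le.mpr w.2
      have hex : ∃ Q, F.IsConj (Subgroup.zpowers (w : Ω)) Q ∧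
          Nat.card (normalizerIn S (Subgroup.zpowers (w : Ω))) < Nat.card (normalizerIn S Q) := by
        by_contra hcon
        apply hnfn
        refine ⟨hwS, fun Q hQ => ?_⟩
        by_contra hlt
        exact hcon ⟨Q, hQ, not_le.mp hlt⟩
      obtain ⟨Q, ⟨φ, hφ, hrange⟩, hlt⟩ := hex
      -- the orders of `w` and of its image
      obtain ⟨ψ, hψ, hψi⟩ := hconj
      have hw21 := involution_map F hψ ⟨i, Subgroup.mem_zpowers i⟩ hi2' hi1
      rw [hψi] at hw21
      obtain ⟨hw2, hw1⟩ := hw21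
      obtain ⟨hj2, hj1⟩ := involution_map F hφ ⟨(w : Ω), Subgroup.mem_zpowers _⟩ hw2 hw1
      have hQ : Q = Subgroup.zpowers (φ ⟨(w : Ω), Subgroup.mem_zpowers _⟩) := by
        rw [← hrange]
        ext y
        constructor
        · rintro ⟨⟨x, hx⟩, rfl⟩
          obtain ⟨n, rfl⟩ := Subgroup.mem_zpowers_iff.mp hx
          have : (⟨(w : Ω) ^ n, hx⟩ : Subgroup.zpowers (w : Ω)) = ⟨(w : Ω), Subgroup.mem_zpowers _⟩ ^ n :=
            Subtype.ext rfl
          rw [this, map_zpow]
          exact Subgroup.zpow_mem_zpowers _ n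
        · intro hy
          obtain ⟨n, rfl⟩ := Subgroup.mem_zpowers_iff.mp hy
          exact ⟨⟨(w : Ω), Subgroup.mem_zpowers _⟩ ^ n, map_zpow φ _ n⟩
      have hmark := mark_zpowers_eq_snd F m hsupp hstab hφ ⟨(w : Ω), Subgroup.mem_zpowers _⟩ ⟨i, hi⟩
      have hmk' := mark_eq_card_centralizer_mul F m hsupp ⟨i, hi⟩
        ⟨φ ⟨(w : Ω), Subgroup.mem_zpowers _⟩, (F.le_of_mem hφ).2 _⟩
      have hww : (⟨((⟨(w : Ω), Subgroup.mem_zpowers _⟩ : Subgroup.zpowers (w : Ω)) : Ω),
          (F.le_of_mem hφ).1 (Subgroup.mem_zpowers _)⟩ : ↥S) = w := Subtype.ext rfl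
      rw [hww] at hmark
      rw [hmark, hmk'] at hmk
      -- centralizer orders
      have hc1 := card_centralizer_eq_card_normalizerIn w hw2 hw1
      have hc2 := card_centralizer_eq_card_normalizerIn
        (⟨φ ⟨(w : Ω), Subgroup.mem_zpowers _⟩, (F.le_of_mem hφ).2 _⟩ : ↥S) hj2 hj1
      rw [hQ] at hlt
      rw [← hc1, ← hc2] at hlt
      obtain ⟨k, hk⟩ := IsPGroup.iff_card.mp (hS.to_subgroup (Subgroup.centralizer ({w} : Set ↥S)))
      obtain ⟨l, hl⟩ := IsPGroup.iff_card.mp (hS.to_subgroup (Subgroup.centralizer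
        ({(⟨φ ⟨(w : Ω), Subgroup.mem_zpowers _⟩, (F.le_of_mem hφ).2 _⟩ : ↥S)} : Set ↥S)))
      obtain ⟨r, hr⟩ := two_mul_dvd_of_lt_of_pow hk hl hlt
      rw [hr] at hmk
      have hpos : 0 < Nat.card (Subgroup.centralizer ({w} : Set ↥S)) := Nat.card_pos
      have : cCount m ⟨i, hi⟩ (ConjClasses.mk w) = 2 * (r * cCount m ⟨i, hi⟩
          (ConjClasses.mk (⟨φ ⟨(w : Ω), Subgroup.mem_zpowers _⟩, (F.le_of_mem hφ).2 _⟩ : ↥S))) := by
        apply Nat.eq_of_mul_eq_mul_left hpos
        rw [← hmk]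
        ring
      rw [this]
      exact even_two_mul _
  have h1 := bisetTransfer_focal F m hsupp hstab lam i (hyperfocalSubgroup_le_focalSubgroup F 2 hi_hyp)
  have h2 := bisetTransfer_involution F m hsupp hidx lam ε hA hε ⟨i, hi⟩ hι heven
  exact hε (h2.symm.trans h1)

end Cfsg.Agent.S5192
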