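-- Statement S5193: Glauberman's theorem on weakly closed elements, for saturated fusion systems (helper51).
import Cfsg.Statements.S5193
import Cfsg.Agent.Helper51.FusWC8

set_option autoImplicit false
open Cfsg

namespace Cfsg.Agent.S5193

open Cfsg.Agent.Helper51.FusWC

/-- Glauberman's Theorem for fusion systems. Let F be a saturated fusion system over a finite p-group S, let J(S) be the subgroup generated by the abelian subgroups of S of largest order, and let N be the normalizer fusion system of J(S) in F (a fusion system over N_S(J(S)) = S). Then every p-th power of an element of Z(S) that lies in the centre of N lies in the centre of F; and if p is odd, or if the symmetric group of degree 4 is not involved in any model of the normalizer system of a fully normalized F-centric subgroup (F is S₄-free), then the centre of N equals the centre of F. -/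
theorem result {Ω : Type*} [Group Ω] {S : Subgroup Ω} [Finite S] (p : ℕ) [Fact p.Prime] (hS : IsPGroup p S) (F : Cfsg.FusionSystem S) (hF : F.IsSaturated p) (N : Cfsg.FusionSystem (Cfsg.FusionSystem.normalizerIn S (Cfsg.thompsonSubgroupAOf S))) (hN : F.IsNormalizerSystem (Cfsg.thompsonSubgroupAOf S) N) : Subgroup.closure ((fun z : Ω => z ^ p) '' ((S ⊓ Subgroup.centralizer (S : Set Ω) : Subgroup Ω) : Set Ω)) ⊓ N.center ≤ F.center ∧ (p ≠ 2 ∨ F.IsSectionFree p (Equiv.Perm (Fin 4)) → N.center = F.center) := by
  constructor
  · rintro y ⟨hy1, hy2⟩
    apply mem_center_of_mem_center_normalizer hS F hF N hN hy2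
    right; left
    -- the `p`-th powers of the abelian group `Z(S)` form a subgroup
    have key : ∀ w ∈ Subgroup.closure ((fun z : Ω => z ^ p) ''
        ((S ⊓ Subgroup.centralizer (S : Set Ω) : Subgroup Ω) : Set Ω)),
        ∃ z ∈ S ⊓ Subgroup.centralizer (S : Set Ω), z ^ p = w := by
      intro w hw
      induction hw using Subgroup.closure_induction with
      | mem w hw =>
        obtain ⟨z, hz, rfl⟩ := hw
        exact ⟨z, hz, rfl⟩
      | one => exact ⟨1, Subgroup.one_mem _, one_pow p⟩
      | mul a b _ _ ha hb =>
        obtain ⟨z₁, hz₁, rfl⟩ := ha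
        obtain ⟨z₂, hz₂, rfl⟩ := hb
        refine ⟨z₁ * z₂, Subgroup.mul_mem _ hz₁ hz₂, ?_⟩
        have hc : Commute z₁ z₂ := (Subgroup.mem_centralizer_iff.1 hz₂.2 z₁ hz₁.1)
        exact hc.mul_pow p
      | inv a _ ha =>
        obtain ⟨z, hz, rfl⟩ := ha
        exact ⟨z⁻¹, Subgroup.inv_mem _ hz, inv_pow z p⟩
    exact key y hy1
  · intro h
    apply le_antisymm
    · intro y hy
      apply mem_center_of_mem_center_normalizer hS F hF N hN hy
      rcases h with h | h
      · exact Or.inl h
      · exact Or.inr (Or.inr h)
    · exact center_le_center_normalizer hS F hF (thompsonSubgroupAOf_le S)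
        (le_normalizer_thompsonSubgroupAOf S) N hN

end Cfsg.Agent.S5193
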