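import Cfsg.Statements.S5293
import Cfsg.Agent.Helper86.CETop
import Cfsg.Agent.Helper86.CECrit
import Cfsg.Agent.Helper86.CECentric
import Cfsg.Agent.Helper70.CEJ1
import Cfsg.Agent.Helper70.CEJ4
import Cfsg.Agent.Helper80.CEW5
import Cfsg.Agent.Helper50.CEW2
import Cfsg.Agent.Helper79.CEW1
import Cfsg.Agent.S5099
import Cfsg.Agent.S5092

set_option autoImplicit false
open Cfsg

namespace Cfsg.Agent.S5293

open Cfsg.FusionSystem Cfsg.Agent.Helper87 Cfsg.Agent.Helper86.CE

/-- the centralizer of `T` in `S` centralizes every subgroup of `T`. -/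
private theorem cen_le_cen {Ω : Type*} [Group Ω] (S : Subgroup Ω) {P T : Subgroup Ω} (hPT : P ≤ T) :
    centralizerIn S T ≤ centralizerIn S P := by
  intro x hx
  exact ⟨hx.1, Subgroup.centralizer_le (by exact_mod_cast hPT) hx.2⟩

/-- Let F be a saturated fusion system over a finite p-group S, E a normal subsystem of F over T ≤ S, and C the join of the subgroups X ≤ C_S(T) such that E is contained in the centralizer system C_F(X). Then for the centralizer fusion system C_F(T) over C_S(T), the focal subgroup of C_F(T) is contained in C. -/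
theorem result {Ω : Type*} [Group Ω] {S : Subgroup Ω} [Finite S] (p : ℕ) [Fact p.Prime] (hS : IsPGroup p S)
    (F : Cfsg.FusionSystem S) (hF : F.IsSaturated p)
    {T : Subgroup Ω} (E : Cfsg.FusionSystem T) (hE : E.IsNormalIn F p)
    (C : Subgroup Ω)
    (hC : C = sSup {X : Subgroup Ω | X ≤ Cfsg.FusionSystem.centralizerIn S T ∧ ∀ P : Subgroup Ω, E.Hom P ⊆ F.centralizerHom X P})
    (D : Cfsg.FusionSystem (Cfsg.FusionSystem.centralizerIn S T)) (hD : F.IsCentralizerSystem T D) :
    D.focalSubgroup ≤ C := by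
  have hinv : E.IsInvariantIn F := hE.1.2.2
  have hT : F.StronglyClosed T := hinv.2.1
  have hTS : T ≤ S := hT.1
  have hCSS : centralizerIn S T ≤ S := inf_le_left
  have hCSp : IsPGroup p (centralizerIn S T) := hS.to_le hCSS
  have : Finite (centralizerIn S T) := finite_of_le hCSS
  have hTfc : F.IsFullyCentralized T := Cfsg.Agent.Helper70.isFullyCentralized_of_stronglyClosed F hT
  have hDsat : D.IsSaturated p := Cfsg.Agent.S5099.result p hS F hF T hTfc D hD
  rw [Cfsg.Agent.S5092.result p hCSp D hDsat]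
  -- the criterion, in the form used twice
  have crit : ∀ X : Subgroup Ω, X ≤ centralizerIn S T →
      (∀ P : Subgroup Ω, P ≤ T → ∀ α : MulAut P, TrivExt F P (centralizerIn S T) α →
        ExtFix F X P (P.subtype.comp α.toMonoidHom)) → X ≤ C := by
    intro X hX h
    rw [hC]
    refine le_sSup ⟨hX, ?_⟩
    refine hom_subset_centralizerHom hS F E hE X hX ?_ ?_
    · intro β hβ
      exact h T le_rfl β (trivExt_top F E hE β hβ)
    · rintro P hPc α hα ⟨k, hk⟩
      have hPT : P ≤ T := hPc.1
      have h1 := trivExt_of_isCentric hS F hF E hE hPc α hα k hk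
      exact h P hPT α (Cfsg.Agent.Helper79.TrivExt.mono h1 (cen_le_cen S hPT))
  refine sup_le ?_ ?_
  · -- the hyperfocal subgroup
    rw [hyperfocalSubgroup, Subgroup.closure_le]
    rintro y ⟨R, α, x, hR, hα, rfl⟩
    have : Finite R := finite_of_le (hR.trans hCSS)
    refine Cfsg.Agent.Helper70.comm_mem_of_mem_pResidual p D C R ?_ α hα x
    intro ψ hψ q k hq hqp hk r
    have : Fact q.Prime := ⟨hq⟩
    have hψT : R.subtype.comp ψ.toMonoidHom ∈ F.centralizerHom T R := by
      rw [← hD R]
      exact (mem_autGroup_iff D hR ψ).mp hψ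
    set X := Subgroup.closure {y : Ω | ∃ r : R, y = (r : Ω)⁻¹ * ((ψ r : R) : Ω)} with hXdef
    have hXR : X ≤ R := by
      rw [hXdef, Subgroup.closure_le]
      rintro _ ⟨r, rfl⟩
      exact R.mul_mem (R.inv_mem r.2) (ψ r).2
    have hXC : X ≤ C := by
      refine crit X (hXR.trans hR) ?_
      intro P hPT α' hα'
      exact Cfsg.Agent.Helper80.TrivExt.extFix_comm_aut hqp hS F hPT hTS hR
        (Cfsg.Agent.Helper79.TrivExt.mono hα' hR) ψ hψT k hk
    exact hXC (Subgroup.subset_closure ⟨r, rfl⟩)
  · -- the commutator subgroup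
    have hX : ⁅centralizerIn S T, centralizerIn S T⁆ ≤ centralizerIn S T := by
      rw [Subgroup.commutator_le]
      intro a ha b hb
      exact Subgroup.mul_mem _ (Subgroup.mul_mem _ (Subgroup.mul_mem _ ha hb) (inv_mem ha)) (inv_mem hb)
    refine crit _ hX ?_
    intro P hPT α hα
    refine Cfsg.Agent.Helper50.TrivExt.extFix_commutator hα ?_
    exact (cen_le_cen S hPT).trans inf_le_right

end Cfsg.Agent.S5293
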