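-- Statement S5201: Oliver's reduction to normal subsystems: equal residual limits.
import Cfsg.Statements.S5201
import Cfsg.Agent.Helper86.ORMain2
import Cfsg.Agent.Helper60.FT4
import Cfsg.Agent.Helper48.FT4p
import Cfsg.Agent.Helper60.FT5a
import Cfsg.Agent.Helper67.FT3
import Cfsg.Agent.S5293
import Cfsg.Agent.S5097
import Cfsg.Agent.S5203

set_option autoImplicit false
open Cfsg

namespace Cfsg.Agent.S5201

open Cfsg.FusionSystem Cfsg.Agent.Helper87

/-- A reduction to normal subsystems. Let F be a saturated fusion system over a finite p-group S and E a normal subsystem of F over T whose centralizer in S lies in T (every subgroup Y of C_S(T) with E contained in the centralizer fusion system of Y in F satisfies Y ≤ T), and suppose Aut_F(T)/Aut_E(T) is p-solvable. Then F and E have the same residual limit: if F∞ is the residual limit of F (reached by alternately passing to the p-residual and the p'-residual subsystem until nothing changes)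 and E∞ that of E, then F∞ and E∞ have the same maps. -/
theorem result {Ω : Type*} [Group Ω] {S : Subgroup Ω} [Finite S] (p : ℕ) [Fact p.Prime] (hS : IsPGroup p S) (F : Cfsg.FusionSystem S) (hF : F.IsSaturated p) {T : Subgroup Ω} (E : Cfsg.FusionSystem T) (hE : E.IsNormalIn F p) (hCE : ∀ Y : Subgroup Ω, Y ≤ Cfsg.FusionSystem.centralizerIn S T → (∀ C : Cfsg.FusionSystem (Cfsg.FusionSystem.centralizerIn S Y), F.IsCentralizerSystem Y C → E.IsSubsystemOf C) → Y ≤ T) [hn : ((E.autGroup T).subgroupOf (F.autGroup T)).Normal] (hsolv : Cfsg.IsPSolvable p (↥(F.autGroup T) ⧸ (E.autGroup T).subgroupOf (F.autGroup T))) {U V : Subgroup Ω} (Finf : Cfsg.FusionSystem U) (hFinf : Finf.IsResidualLimitOf F p) (Einf : Cfsg.FusionSystem V) (hEinf : Einf.IsResidualLimitOf E p) : ∀ P : Subgroup Ω, Finf.Hom P = Einf.Hom P := by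
  obtain ⟨U₀, F₀, hU₀, hnorm, hEn, haut, -, hres⟩ :=
    Cfsg.Agent.Helper86.OR.goodN_of_pSolvable p E _ hS F hF hE hsolv rfl
  have hTS : T ≤ S := hE.1.2.2.2.1.1
  have hU₀S : U₀ ≤ S := hnorm.1.2.2.2.1.1
  have hfinU₀ : Finite U₀ := finite_of_le hU₀S
  have hU₀p : IsPGroup p U₀ := hS.to_le hU₀S
  have hF₀sat : F₀.IsSaturated p := hnorm.1.1
  have hTcl₀ : F₀.StronglyClosed T := hEn.1.2.2.2.1
  have hTU₀ : T ≤ U₀ := hTcl₀.1
  have hF₀F : F₀.IsSubsystemOf F := hnorm.1.2.2.1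
  have hEF₀ : E.IsSubsystemOf F₀ := hEn.1.2.2.1
  have hcent : centralizerIn U₀ T = centralizerIn S T := by
    apply le_antisymm
    · exact fun c hc => ⟨hU₀S hc.1, hc.2⟩
    · intro c hc
      refine ⟨?_, hc.2⟩
      rw [hU₀]
      exact Subgroup.mem_sup_right hc
  -- the focal subgroup of `C_F(T)` lies in `T`
  have hfocT : (Cfsg.Agent.S5097.centralizerSystem F T hTS).focalSubgroup ≤ T := by
    refine (Cfsg.Agent.S5293.result p hS F hF E hE _ rfl (Cfsg.Agent.S5097.centralizerSystem F T hTS)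
      (fun P => rfl)).trans ?_
    apply sSup_le
    rintro X ⟨hX, hXE⟩
    exact hCE X hX (fun C' hC' P φ hφ => by rw [hC' P]; exact hXE P hφ)
  have hfoc : ∀ (R : Subgroup Ω) (φ : R →* Ω), φ ∈ F₀.centralizerHom T R → ∀ x : R, (x : Ω)⁻¹ * φ x ∈ T := by
    intro R φ hφ x
    apply hfocT
    apply Subgroup.subset_closure
    refine ⟨R, φ, x, ?_, rfl⟩
    obtain ⟨h1, h2, h3, ψ, hψ, hψR, hψT⟩ := hφ
    exact ⟨hF₀F R h1, h2.trans hcent.le, fun x => hcent.le (h3 x), ψ, hF₀F _ hψ, hψR, hψT⟩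
  -- `U₀ / T` is abelian
  have hU₀le : U₀ ≤ T ⊔ centralizerIn U₀ T := by rw [hcent, hU₀]
  have hCC : ⁅centralizerIn U₀ T, centralizerIn U₀ T⁆ ≤ T := by
    rw [Subgroup.commutator_le]
    intro a ha b hb
    have hconj : conjHom (centralizerIn U₀ T) b ∈ F₀.centralizerHom T (centralizerIn U₀ T) :=
      Cfsg.Agent.S5097.conj_mem_centralizerHom F₀ hTU₀ (le_refl (centralizerIn U₀ T)) hb
    have h1 := hfoc _ _ hconj ⟨a⁻¹, inv_mem ha⟩
    have h2 : a * b * a⁻¹ * b⁻¹ = (a⁻¹)⁻¹ * (b * a⁻¹ * b⁻¹) := by group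
    rw [commutatorElement_def, h2]
    exact h1
  have hcomm : ⁅U₀, U₀⁆ ≤ T := Cfsg.Agent.Helper48.commutator_le_of_sup_centralizerIn hU₀le hCC
  -- all maps of `F₀` are trivial modulo `T`
  have htop := Cfsg.Agent.Helper60.aut_top_comm_mem F₀ E hEn haut hU₀le hfoc
  have hall := Cfsg.Agent.Helper60.comm_mem_of_top_of hU₀p F₀ hF₀sat hcomm
    (fun hPn hPS ih => Cfsg.Agent.Helper67.autGroup_le_trivModSys hU₀p F₀ hF₀sat hTcl₀ hcomm hPn hPS ih) htop
  -- `E` has `p`-power index in `F₀`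
  have hidx : E.HasPPowerIndexIn F₀ p := by
    refine ⟨hEF₀, ?_, ?_⟩
    · rw [hyperfocalSubgroup, Subgroup.closure_le]
      rintro y ⟨P, α, x, hP, -, rfl⟩
      exact hall P _ ((mem_autGroup_iff F₀ hP _).mp α.2) x
    · intro P hPT
      refine le_trans (Subgroup.map_subtype_le _) ?_
      intro α hα
      have hα' := (mem_autGroup_iff F₀ (hPT.trans hTU₀) α).mp hα
      obtain ⟨β, hβ, φ₀, hφ₀, hβφ⟩ := hEn.1.2.2.2.2.2 P hPT _ hα'
      rw [haut] at hβ
      have hφ₀T : ∀ x : P, φ₀ x ∈ T := (E.le_of_mem hφ₀).2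
      have hcomp := E.comp_mem hφ₀ ((mem_autGroup_iff E le_rfl β).mp hβ) hφ₀T
      rw [mem_autGroup_iff E hPT]
      exact mem_of_eq E hcomp (fun x => hβφ x (hφ₀T x))
  -- conclude with S5203
  obtain ⟨W, L, hL⟩ := Cfsg.Agent.Helper74.OR2.exists_residualLimit p hU₀p F₀ hF₀sat
  intro P
  rw [← hres Finf L hFinf hL P]
  exact Cfsg.Agent.S5203.result p hU₀p F₀ hF₀sat E hEn hidx L hL Einf hEinf P

end Cfsg.Agent.S5201
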