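import Cfsg.Statements.S5204
import Cfsg.Agent.Helper2.FusGT4

set_option autoImplicit false
open Cfsg

namespace Cfsg.Agent.S5204

/-- The Glauberman–Thompson normal p-complement criterion for fusion systems, p odd. Let F be a saturated fusion system over a finite p-group S with p odd, and let Z(J(S)) be the centre of the subgroup generated by the abelian subgroups of S of largest order. Then F is the inner fusion system of S if and only if the normalizer fusion system of Z(J(S)) in F is the inner fusion system of N_S(Z(J(S))) = S. -/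
theorem result {Ω : Type*} [Group Ω] {S : Subgroup Ω} [Finite S] (p : ℕ) [Fact p.Prime] (hS : IsPGroup p S) (F : Cfsg.FusionSystem S) (hF : F.IsSaturated p) (hp : p ≠ 2) : (∀ P : Subgroup Ω, F.Hom P = (Cfsg.innerFusionSystem S).Hom P) ↔ ∀ N : Cfsg.FusionSystem (Cfsg.FusionSystem.normalizerIn S (Cfsg.centerThompsonAOf S)), F.IsNormalizerSystem (Cfsg.centerThompsonAOf S) N → ∀ P : Subgroup Ω, N.Hom P = (Cfsg.innerFusionSystem (Cfsg.FusionSystem.normalizerIn S (Cfsg.centerThompsonAOf S))).Hom P := by
  constructor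
  · intro hinner N hNs D
    apply Set.Subset.antisymm
    · intro φ hφ
      rw [hNs D] at hφ
      obtain ⟨hφF, hDN, -, -⟩ := hφ
      rw [hinner D] at hφF
      obtain ⟨-, g, hg, hgx⟩ := hφF
      have hSn : S ≤ Subgroup.normalizer (Cfsg.centerThompsonAOf S : Set Ω) :=
        Subgroup.le_normalizer.trans Cfsg.Agent.Helper2.FusGT.zj_normalizer
      exact ⟨hDN, g, ⟨hg, hSn hg⟩, hgx⟩
    · exact Cfsg.Agent.Helper87.inner_hom_subset N D
  · intro hN
    have hW : ∀ (D : Subgroup Ω) (φ : D →* Ω),
        φ ∈ F.normalizerHom (Cfsg.centerThompsonAOf S) D → Cfsg.Agent.Helper2.FusGT.ConjBy S φ := by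
      intro D φ hφ
      have h1 := hN (Cfsg.Agent.S5096.normalizerSystem F _ (Cfsg.Agent.Helper2.FusGT.zj_le S)) (fun _ => rfl) D
      have h2 : φ ∈ (Cfsg.Agent.S5096.normalizerSystem F _ (Cfsg.Agent.Helper2.FusGT.zj_le S)).Hom D := hφ
      rw [h1] at h2
      obtain ⟨-, g, hg, hgx⟩ := h2
      exact ⟨g, hg.1, hgx⟩
    have hfinal := Cfsg.Agent.Helper2.FusGT.gt_main p hp (Nat.card S) Ω S rfl hS F hF hW
    exact Cfsg.Agent.Helper87.hom_eq_inner_of_forall_conj F hfinal

end Cfsg.Agent.S5204
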