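import Cfsg.Statements.S5206
import Cfsg.Agent.Helper84.QdLocal3
import Cfsg.Agent.Helper84.GroupModel2
import Cfsg.Agent.Helper84.ModelBiset4
import Cfsg.Agent.S5096
import Cfsg.Agent.S5098
import Cfsg.Agent.S5076

set_option autoImplicit false
universe u
open Cfsg

namespace Cfsg.Agent.S5206

/-- Let p be an odd prime, G a finite group and P a Sylow p-subgroup of G. Then the fusion system of G on P is Qd(p)-free (Qd(p), the natural semidirect product of an elementary abelian group of order p² by SL₂(p), is not involved in any model of the normalizer system of a fully normalized centric subgroup) if and only if Qd(p) is not involved in G. -/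
theorem result {G : Type u} [Group G] [Finite G] {p : ℕ} [Fact p.Prime] (hp : p ≠ 2) (P : Sylow p G) : (Cfsg.groupFusionSystem (P : Subgroup G)).IsSectionFree p ↥(Cfsg.qd p) ↔ ¬ Cfsg.Involves ↥(Cfsg.qd p) G := by
  have hS : IsPGroup p ↥(P : Subgroup G) := P.isPGroup'
  have hF := Cfsg.Agent.S5076.result p P
  constructor
  · intro hfree hinv
    obtain ⟨Q, hfn, hc, hQ⟩ := Cfsg.Agent.Helper84.exists_centric_involves_qd hp P hinv
    have hQS : Q ≤ (P : Subgroup G) := hfn.1
    obtain ⟨N, hN⟩ := Cfsg.Agent.S5096.result (Cfsg.groupFusionSystem (P : Subgroup G)) Q hQS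
    have hNsat := Cfsg.Agent.S5098.result p hS _ hF Q hfn N hN
    have hTS : Cfsg.FusionSystem.normalizerIn (P : Subgroup G) Q ≤ (P : Subgroup G) := inf_le_left
    have : Finite ↥(Cfsg.FusionSystem.normalizerIn (P : Subgroup G) Q) :=
      Cfsg.Agent.Helper87.finite_of_le hTS
    have hTp : IsPGroup p ↥(Cfsg.FusionSystem.normalizerIn (P : Subgroup G) Q) := hS.to_le hTS
    obtain ⟨X, K, H, ι, hM⟩ := Cfsg.Agent.Helper84.exists_model_of_constrained hTp N hNsat
      (Cfsg.Agent.Helper87.isNormal_normalizerSystem _ hQS N hN)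
      (Cfsg.Agent.Helper87.isCentric_normalizerSystem _ hc N hN)
    obtain ⟨φ, -⟩ := Cfsg.Agent.Helper84.exists_iso_quotient_of_model p P hfn hc N hN ι hM
    exact hfree Q hfn hc N hN ↥H ι hM
      (Cfsg.Agent.Helper84.involves_of_injective' φ.toMonoidHom φ.injective hQ)
  · intro hninv Q hfn hc N hN L _ ι hM hinvL
    obtain ⟨φ, -⟩ := Cfsg.Agent.Helper84.exists_iso_quotient_of_model p P hfn hc N hN ι hM
    have h1 : Cfsg.Involves ↥(Cfsg.qd p)
        (↥(Subgroup.normalizer (Q : Set G)) ⧸ Cfsg.Agent.Helper84.centPrimeN p Q) :=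
      Cfsg.Agent.Helper84.involves_of_injective' φ.symm.toMonoidHom φ.symm.injective hinvL
    have h2 := Cfsg.Agent.Helper37.involves_of_involves_quotient (Cfsg.Agent.Helper84.centPrimeN p Q) h1
    exact hninv (Cfsg.Agent.Helper84.involves_of_injective' (Subgroup.normalizer (Q : Set G)).subtype
      (Subgroup.subtype_injective _) h2)

end Cfsg.Agent.S5206
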