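import Cfsg.Statements.S5212
import Cfsg.Agent.Helper85.MetaSC
import Cfsg.Agent.Helper58.MetaTwoD
import Cfsg.Agent.S5111
import Cfsg.Agent.S5326
import Cfsg.Agent.Helper87.FusionAlperin

set_option autoImplicit false
open Cfsg

namespace Cfsg.Agent.S5212

open Cfsg.FusionSystem Cfsg.Agent.Helper87 Cfsg.Agent.Helper85.MetaSC

/-- Let S be a finite metacyclic 2-group that is not homocyclic abelian (a direct product of cyclic groups of one common order), not dihedral, not semidihedral and not generalized quaternion. Then every saturated fusion system over S is the inner fusion system of S. -/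
theorem result {Ω : Type*} [Group Ω] {S : Subgroup Ω} [Finite S] (hS : IsPGroup 2 S) (F : Cfsg.FusionSystem S) (hF : F.IsSaturated 2) (hm : Cfsg.IsMetacyclic ↥S) (hh : ¬ ∃ n k : ℕ, Nonempty (↥S ≃* Multiplicative (Fin k → ZMod (2 ^ n)))) (hd : ¬ ∃ m : ℕ, Nonempty (↥S ≃* DihedralGroup m)) (hq : ¬ ∃ m : ℕ, Nonempty (↥S ≃* QuaternionGroup m)) (hsd : ¬ Cfsg.IsQuasiDihedral ↥S) : ∀ P : Subgroup Ω, F.Hom P = (Cfsg.innerFusionSystem S).Hom P := by
  have : Fact (Nat.Prime 2) := ⟨Nat.prime_two⟩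
  have hex : ¬ ((∃ m : ℕ, Nonempty (↥S ≃* DihedralGroup m)) ∨ (∃ m : ℕ, Nonempty (↥S ≃* QuaternionGroup m)) ∨
      IsQuasiDihedral ↥S) := by
    rintro (h | h | h)
    exacts [hd h, hq h, hsd h]
  -- `S` is strongly closed in `F`
  have hSsc : F.StronglyClosed S := ⟨le_rfl, fun R _ φ hφ x => (F.le_of_mem hφ).2 x⟩
  -- there are no essential subgroups
  have hnoess : ∀ E : Subgroup Ω, ¬ F.IsEssential 2 E := by
    intro E hE
    have hSE : S ≤ E := le_essential_of_metacyclic hS F hF hSsc hm hex hE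
    exact absurd hSE (not_le_of_gt (Cfsg.Agent.S5326.lt_of_isEssential hS F hF hE))
  have : Finite (MulAut S) := MulEquiv.finite_left
  -- `Aut_F(S)` is a `2`-group
  have hA2 : IsPGroup 2 (F.autGroup S) := by
    by_contra hnot
    obtain ⟨r, hrp, hrdvd, hrodd⟩ : ∃ r, Nat.Prime r ∧ r ∣ Nat.card (F.autGroup S) ∧ Odd r := by
      rcases Nat.eq_two_pow_or_exists_odd_prime_and_dvd (Nat.card (F.autGroup S)) with ⟨k, hk⟩ | h
      · exact absurd (IsPGroup.of_card hk) hnot
      · exact h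
    have : Fact r.Prime := ⟨hrp⟩
    obtain ⟨⟨α, hαK⟩, hαord⟩ := exists_prime_orderOf_dvd_card' r hrdvd
    have hαord' : orderOf α = r := by
      rw [← hαord]
      exact (Subgroup.orderOf_mk α hαK).symm
    have hαodd : Odd (orderOf α) := by rw [hαord']; exact hrodd
    have hα1 : α ≠ 1 := by
      intro h
      rw [h, orderOf_one] at hαord'
      exact hrp.one_lt.ne hαord'
    rcases Cfsg.Agent.Helper65.MetaTwoA.metacyclic_two_odd_aut hS hm α hαodd hα1 with
      ⟨x, y, hx4, hinv, hsq⟩ | ⟨hab, m, hm1, hcard, hexp⟩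
    · exact hex (Cfsg.Agent.Helper35.MetaTwoC.metacyclic_two_maximal_class hS hm x y hx4 hinv (Or.inr hsq))
    · exact hh ⟨m, 2, Cfsg.Agent.Helper58.MetaTwoD.homocyclic_mulEquiv hm hab m hcard hexp⟩
  -- `Aut_F(S) = Inn(S)`
  have haut : F.autGroup S ≤ (innerFusionSystem S).autGroup S := by
    obtain ⟨-, R, hR⟩ := ((Cfsg.Agent.S5111.result 2 hS F).1 hF).1
    have htop : (⊤ : Subgroup (F.autGroup S)) = (R : Subgroup (F.autGroup S)) :=
      R.is_maximal' (hA2.to_subgroup ⊤) le_top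
    intro α hα
    have h1 : (⟨α, hα⟩ : F.autGroup S) ∈ (R : Subgroup (F.autGroup S)) := by
      rw [← htop]
      exact Subgroup.mem_top _
    rw [hR, Subgroup.mem_subgroupOf, mem_autInducedBy_iff] at h1
    obtain ⟨g, hg, hgx⟩ := h1
    refine (mem_autGroup_iff (innerFusionSystem S) le_rfl α).mpr ?_
    exact ⟨le_rfl, g, hg, fun x => hgx x⟩
  intro P
  apply Set.Subset.antisymm
  · refine alperin hS F (innerFusionSystem S) hF ?_ P
    rintro P (rfl | h)
    · exact haut
    · exact absurd h (hnoess P)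
  · exact inner_hom_subset F P

end Cfsg.Agent.S5212
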