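import Cfsg.Statements.S5214
import Cfsg.Agent.Helper65.Suzuki19
import Cfsg.Agent.Helper87.FusionRadical

set_option autoImplicit false
open Cfsg

namespace Cfsg.Agent.S5214

open Cfsg.Agent.Helper65.Suz Cfsg.Agent.Helper87 Cfsg.FusionSystem in
/-- Let S be a Suzuki 2-group (a finite nonabelian 2-group with more than one involution admitting a cyclic group of automorphisms permuting its involutions regularly). Then S is normal in every saturated fusion system over S (such a group is resistant). -/
theorem result {Ω : Type*} [Group Ω] {S : Subgroup Ω} [Finite S] (hS : IsPGroup 2 S) (F : Cfsg.FusionSystem S) (hF : F.IsSaturated 2) (hsz : Cfsg.IsSuzukiTwoGroup ↥S) : F.IsNormal S := by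
  classical
  -- the two facts on `S` we need, in terms of elements of `Ω`
  have F1 : ∀ x ∈ S, x * x = 1 → ∀ g ∈ S, x * g = g * x := by
    intro x hx hx2 g hg
    have h1 : (⟨x, hx⟩ : S) * ⟨x, hx⟩ = 1 := Subtype.ext hx2
    have h2 := Subgroup.mem_center_iff.mp (higman_inv hsz h1) ⟨g, hg⟩
    exact (congrArg Subtype.val h2).symm
  have F2 : ∀ x ∈ S, ∀ y ∈ S, (x⁻¹ * y⁻¹ * x * y) * (x⁻¹ * y⁻¹ * x * y) = 1 := by
    intro x hx y hy
    have h1 := higman_center_sq hsz (higman_cm hsz ⟨x, hx⟩ ⟨y, hy⟩)
    exact congrArg Subtype.val h1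
  rw [isNormal_iff_stronglyClosed_centric_radical hS F hF S]
  refine ⟨⟨le_rfl, fun R _ φ hφ x => (F.le_of_mem hφ).2 x⟩, fun P hPc hPr => ?_⟩
  have hPS : P ≤ S := hPc.1
  haveI : Finite P := Finite.of_injective (Subgroup.inclusion hPS) (Subgroup.inclusion_injective hPS)
  have hPp : IsPGroup 2 P := hS.of_injective (Subgroup.inclusion hPS) (Subgroup.inclusion_injective hPS)
  -- the subgroup of elements of order at most two of `P`
  let Z1 : Subgroup P :=
    { carrier := {x | x * x = 1}
      one_mem' := by simp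
      mul_mem' := by
        intro x y hx hy
        have hx' : x * x = 1 := hx
        have hy' : y * y = 1 := hy
        have hc : (x : Ω) * (y : Ω) = (y : Ω) * (x : Ω) :=
          F1 x (hPS x.2) (congrArg Subtype.val hx') y (hPS y.2)
        have hc' : x * y = y * x := Subtype.ext hc
        show (x * y) * (x * y) = 1
        calc (x * y) * (x * y) = x * (y * x) * y := by group
          _ = x * (x * y) * y := by rw [hc']
          _ = (x * x) * (y * y) := by group
          _ = 1 := by rw [hx', hy', one_mul]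
      inv_mem' := by
        intro x hx
        have hx' : x * x = 1 := hx
        show x⁻¹ * x⁻¹ = 1
        have : x⁻¹ * x⁻¹ = (x * x)⁻¹ := by group
        rw [this, hx', inv_one] }
  let D : ℕ → Subgroup P := fun k => if k = 0 then ⊤ else if k = 1 then Z1 else ⊥
  have hD0 : D 0 = ⊤ := rfl
  have hD1 : D 1 = Z1 := rfl
  have hD2 : ∀ k, 2 ≤ k → D k = ⊥ := by
    intro k hk
    show (if k = 0 then ⊤ else if k = 1 then Z1 else ⊥) = ⊥
    rw [if_neg (by omega), if_neg (by omega)]
  have hD : Antitone D := by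
    apply antitone_nat_of_succ_le
    intro n
    rcases Nat.eq_zero_or_pos n with rfl | hn
    · rw [hD0]; exact le_top
    · rw [hD2 (n + 1) (by omega)]; exact bot_le
  -- every automorphism of `P` leaves the chain invariant
  have hinvar : ∀ (α : MulAut P) (k : ℕ), ∀ x ∈ D k, α x ∈ D k := by
    intro α k x hx
    rcases Nat.eq_zero_or_pos k with rfl | hk
    · rw [hD0]; exact Subgroup.mem_top _
    · rcases Nat.eq_or_lt_of_le hk with h1 | h2
      · rw [← h1, hD1] at hx ⊢
        have hx' : x * x = 1 := hx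
        show α x * α x = 1
        rw [← map_mul, hx', map_one]
      · rw [hD2 k h2, Subgroup.mem_bot] at hx
        rw [hx, map_one]
        exact Subgroup.one_mem _
  let K : Subgroup (F.autGroup P) := (chainStab D hD).subgroupOf (F.autGroup P)
  have hKp : IsPGroup 2 K := (isPGroup_chainStab hPp D hD hD0 2 (hD2 2 le_rfl)).comap_subtype
  have hKn : K.Normal := by
    constructor
    intro β hβ α
    rw [Subgroup.mem_subgroupOf] at hβ ⊢
    exact conj_mem_chainStab D hD (α : MulAut P) (β : MulAut P) (hinvar α) (hinvar (α : MulAut P)⁻¹) hβ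
  apply le_of_centric_radical_of_normal_pGroup hS F hPc hPr le_rfl Subgroup.le_normalizer K hKn hKp
  intro c hcS hcN hβA
  rw [Subgroup.mem_subgroupOf, mem_chainStab]
  intro k x hx
  rcases Nat.eq_zero_or_pos k with rfl | hk
  · -- commutators have order at most two
    rw [zero_add, hD1]
    show (x⁻¹ * conjAut P c hcN x) * (x⁻¹ * conjAut P c hcN x) = 1
    apply Subtype.ext
    have h1 := F2 x (hPS x.2) c⁻¹ (S.inv_mem hcS)
    have h2 : ((x⁻¹ * conjAut P c hcN x : P) : Ω) = (x : Ω)⁻¹ * (c⁻¹)⁻¹ * x * c⁻¹ := by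
      show (x : Ω)⁻¹ * (c * x * c⁻¹) = _
      group
    show ((x⁻¹ * conjAut P c hcN x : P) : Ω) * ((x⁻¹ * conjAut P c hcN x : P) : Ω) = 1
    rw [h2]
    exact h1
  · rcases Nat.eq_or_lt_of_le hk with h1 | h2
    · subst h1
      rw [hD2 _ (by omega), Subgroup.mem_bot]
      have hx' : x * x = 1 := hx
      apply Subtype.ext
      have hc := F1 x (hPS x.2) (congrArg Subtype.val hx') c hcS
      show (x : Ω)⁻¹ * (c * x * c⁻¹) = 1
      calc (x : Ω)⁻¹ * (c * x * c⁻¹) = (x : Ω)⁻¹ * (c * x) * c⁻¹ := by group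
        _ = (x : Ω)⁻¹ * (x * c) * c⁻¹ := by rw [hc]
        _ = 1 := by group
    · rw [hD2 k h2, Subgroup.mem_bot] at hx
      rw [hx, map_one, inv_one, one_mul]
      exact Subgroup.one_mem _

end Cfsg.Agent.S5214
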