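import Cfsg.Statements.S5219
import Cfsg.Agent.Helper2.FusGlau3
import Cfsg.Agent.Helper2.ExpClass

set_option autoImplicit false
open Cfsg

namespace Cfsg.Agent.S5219

/-- Let p be a prime, n a natural number, S a nontrivial finite p-group of nilpotence class at most n(p−1)+1, and F a saturated fusion system over S with no nontrivial normal subgroup (O_p(F) = 1). Then S has exponent dividing p^(n²(p−1)+n). -/
theorem result {Ω : Type*} [Group Ω] {S : Subgroup Ω} [Finite S] (p : ℕ) [Fact p.Prime] (hS : IsPGroup p S) (F : Cfsg.FusionSystem S) (hF : F.IsSaturated p) (n : ℕ) (hS1 : S ≠ ⊥) (hcl : Subgroup.lowerCentralSeries S (n * (p - 1) + 1) = ⊥) (hcore : F.core = ⊥) : Monoid.exponent ↥S ∣ p ^ (n ^ 2 * (p - 1) + n) := by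
  have hW := Cfsg.Agent.Helper2.FusGlau.glauberman_agemo hS F hF n hcl
  have hbot : Cfsg.powerClosure p n (S ⊓ Subgroup.centralizer (S : Set Ω)) = ⊥ := by
    have h1 : Cfsg.powerClosure p n (S ⊓ Subgroup.centralizer (S : Set Ω)) ≤ F.core := le_sSup hW
    rw [hcore] at h1
    exact le_bot_iff.mp h1
  have hZ : ∀ z ∈ Subgroup.center ↥S, z ^ p ^ n = 1 := by
    intro z hz
    have hzZ : (z : Ω) ∈ S ⊓ Subgroup.centralizer (S : Set Ω) := by
      refine Subgroup.mem_inf.mpr ⟨z.2, ?_⟩
      rw [Subgroup.mem_centralizer_iff]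
      intro y hy
      have := Subgroup.mem_center_iff.mp hz ⟨y, hy⟩
      exact congrArg (fun t : S => (t : Ω)) this
    have h2 := Cfsg.Agent.Helper2.FusGlau.pow_mem_powerClosure p n hzZ
    rw [hbot, Subgroup.mem_bot] at h2
    apply Subtype.ext
    rw [Subgroup.coe_pow]
    exact h2
  have htop : Subgroup.upperCentralSeries ↥S (n * (p - 1) + 1) = ⊤ := by
    rw [← Subgroup.lowerCentralSeries_eq_bot_iff_upperCentralSeries_eq_top]
    have h3 := Subgroup.top_subtype_lowerCentralSeries S (n * (p - 1) + 1)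
    rw [hcl] at h3
    exact (Subgroup.map_eq_bot_iff_of_injective _ S.subtype_injective).mp h3
  have hall := Cfsg.Agent.Helper2.ExpClass.pow_eq_one_of_upperCentralSeries (p ^ n) (n * (p - 1) + 1) ↥S htop hZ
  apply Monoid.exponent_dvd_of_forall_pow_eq_one
  intro g
  have h4 := hall g
  have e : (p ^ n) ^ (n * (p - 1) + 1) = p ^ (n ^ 2 * (p - 1) + n) := by
    rw [← pow_mul]
    congr 1
    ring
  rw [e] at h4
  exact h4

end Cfsg.Agent.S5219
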