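import Cfsg.Statements.S5221
import Cfsg.Agent.Helper2.FusTh6
import Cfsg.Agent.Helper87.FusionNormal

set_option autoImplicit false
open Cfsg

namespace Cfsg.Agent.S5221

theorem isConstrained_cast {Ω : Type*} [Group Ω] {S S' : Subgroup Ω} (h : S' = S) (E : Cfsg.FusionSystem S') (p : ℕ)
    (hE : E.IsConstrained p) : (Cfsg.Agent.Helper87.castSystem h E).IsConstrained p := by
  subst h
  exact hE

/-- Let F be a sparse fusion system over a finite p-group S: a saturated fusion system, not the inner fusion system of S, whose only saturated fusion systems over S contained in it are F itself and the inner one. If p is odd, or F is S₄-free (the symmetric group of degree 4 is not involved in any model of the normalizer system of a fully normalized F-centric subgroup), then F is constrained. -/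
theorem result {Ω : Type*} [Group Ω] {S : Subgroup Ω} [Finite S] (p : ℕ) [Fact p.Prime] (hS : IsPGroup p S) (F : Cfsg.FusionSystem S) (hF : F.IsSaturated p) (hsp : ¬ (∀ P : Subgroup Ω, F.Hom P = (Cfsg.innerFusionSystem S).Hom P) ∧ ∀ E : Cfsg.FusionSystem S, E.IsSaturated p → E.IsSubsystemOf F → (∀ P : Subgroup Ω, E.Hom P = F.Hom P) ∨ (∀ P : Subgroup Ω, E.Hom P = (Cfsg.innerFusionSystem S).Hom P)) (hp : p ≠ 2 ∨ F.IsSectionFree p (Equiv.Perm (Fin 4))) : F.IsConstrained p := by
  obtain ⟨hne, hmin⟩ := hsp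
  have hnot : ¬ ∀ (D : Subgroup Ω) (φ : D →* Ω), φ ∈ F.Hom D → Cfsg.Agent.Helper2.FusGT.ConjBy S φ := by
    intro hall
    exact hne (Cfsg.Agent.Helper87.hom_eq_inner_of_forall_conj F hall)
  obtain ⟨P, hPS, hTeq, hPn, hcon, hEnot⟩ :=
    Cfsg.Agent.Helper2.FusGT.exists_constrained_bad_th p (Cfsg.Agent.Helper2.FusGT.s4Class p)
      (Cfsg.Agent.Helper2.FusGT.thClass_s4' p) hS F hF hp hnot
  have hEcon := isConstrained_cast hTeq _ p hcon
  have hsub : (Cfsg.Agent.Helper87.castSystem hTeq (Cfsg.Agent.S5096.normalizerSystem F P hPS)).IsSubsystemOf F := by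
    intro D φ hφ
    rw [Cfsg.Agent.Helper87.castSystem_hom] at hφ
    exact hφ.1
  rcases hmin _ hEcon.1 hsub with hEF | hEinner
  · have hEq : Cfsg.Agent.Helper87.castSystem hTeq (Cfsg.Agent.S5096.normalizerSystem F P hPS) = F :=
      Cfsg.Agent.Helper87.fusionSystem_ext hEF
    rw [← hEq]
    exact hEcon
  · exfalso
    apply hEnot
    intro D φ hφ
    have h1 : φ ∈ (Cfsg.Agent.Helper87.castSystem hTeq (Cfsg.Agent.S5096.normalizerSystem F P hPS)).Hom D := by
      rw [Cfsg.Agent.Helper87.castSystem_hom]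
      exact hφ
    rw [hEinner D] at h1
    obtain ⟨-, g, hg, hgx⟩ := h1
    exact ⟨g, by rw [hTeq]; exact hg, hgx⟩

end Cfsg.Agent.S5221
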