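import Cfsg.Statements.S5222
import Cfsg.Agent.Helper84.Tate4
import Cfsg.Agent.S5096
import Cfsg.Agent.S5098

set_option autoImplicit false
open Cfsg

namespace Cfsg.Agent.S5222

/-- Let F be a saturated fusion system over a finite p-group S whose normalizer fusion system of S is the inner fusion system of S (Aut_F(S) is a p-group). Then for every subgroup Q of S with [S, S] ≤ Q ≤ Φ(S), the normalizer fusion system of Q in F is the inner fusion system of N_S(Q) = S. -/
theorem result {Ω : Type*} [Group Ω] {S : Subgroup Ω} [Finite S] (p : ℕ) [Fact p.Prime] (hS : IsPGroup p S) (F : Cfsg.FusionSystem S) (hF : F.IsSaturated p) (hN : ∀ N : Cfsg.FusionSystem (Cfsg.FusionSystem.normalizerIn S S), F.IsNormalizerSystem S N → ∀ P : Subgroup Ω, N.Hom P = (Cfsg.innerFusionSystem (Cfsg.FusionSystem.normalizerIn S S)).Hom P) (Q : Subgroup Ω) (h1 : (commutator ↥S).map S.subtype ≤ Q) (h2 : Q ≤ (frattini ↥S).map S.subtype) : ∀ N : Cfsg.FusionSystem (Cfsg.FusionSystem.normalizerIn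 S Q), F.IsNormalizerSystem Q N → ∀ P : Subgroup Ω, N.Hom P = (Cfsg.innerFusionSystem (Cfsg.FusionSystem.normalizerIn S Q)).Hom P := by
  intro N hNs
  have hQS : Q ≤ S := h2.trans (Subgroup.map_subtype_le _)
  have hSNQ : S ≤ Subgroup.normalizer (Q : Set Ω) :=
    Cfsg.Agent.Helper84.le_normalizer_of_commutator_le h1 le_rfl hQS
  have hT : Cfsg.FusionSystem.normalizerIn S Q = S := inf_eq_left.mpr hSNQ
  have hQfn : F.IsFullyNormalized Q := by
    refine ⟨hQS, fun Q' _ => ?_⟩
    rw [hT]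
    exact Subgroup.card_le_of_le inf_le_left
  have hNsat : N.IsSaturated p := Cfsg.Agent.S5098.result p hS F hF Q hQfn N hNs
  -- `Aut_F(S)` consists of inner automorphisms
  have hinn0 : ∀ α ∈ F.autGroup S, ∃ g ∈ S, ∀ x : S, ((α x : S) : Ω) = g * x * g⁻¹ := by
    intro α hα
    have hN₀ : F.IsNormalizerSystem S (Cfsg.Agent.S5096.normalizerSystem F S le_rfl) := fun P => rfl
    have h3 := Cfsg.Agent.Helper84.autGroup_normalizerSystem_self F le_rfl _ hN₀
    rw [← h3] at hα
    have hSle : S ≤ Cfsg.FusionSystem.normalizerIn S S := Cfsg.Agent.Helper87.le_normalizerIn le_rfl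
    have h4 := (Cfsg.Agent.Helper87.mem_autGroup_iff _ hSle α).mp hα
    unfold Cfsg.Agent.Helper87.IsIso at h4
    rw [hN _ hN₀ S] at h4
    obtain ⟨-, g, hg, hgx⟩ := h4
    exact ⟨g, hg.1, fun x => hgx x⟩
  have hinn : ∀ (M : Subgroup Ω), M = S → ∀ α ∈ F.autGroup M, ∃ g ∈ S, ∀ x : M,
      ((α x : M) : Ω) = g * x * g⁻¹ := by
    rintro M rfl
    exact hinn0
  have hT' : IsPGroup p (Cfsg.FusionSystem.normalizerIn S Q) := hS.to_le inf_le_left
  haveI : Finite (Cfsg.FusionSystem.normalizerIn S Q) := Cfsg.Agent.Helper87.finite_of_le inf_le_left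
  have hfinal := Cfsg.Agent.Helper87.frobenius_inner p hT' N hNsat
    (fun P hPT => Cfsg.Agent.Helper84.isPGroup_autGroup_normalizerSystem hS F hF hinn Q h1 h2 N hNs P hPT)
  exact Cfsg.Agent.Helper87.hom_eq_inner_of_forall_conj N hfinal

end Cfsg.Agent.S5222
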