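-- Statement S5223: a terminating focal chain forces the inner fusion system.
import Cfsg.Statements.S5223
import Cfsg.Agent.Helper87.FusionFrobenius
import Cfsg.Agent.Helper87.StableAut

set_option autoImplicit false
open Cfsg

namespace Cfsg.Agent.S5223

open Cfsg.Agent.Helper87

/-- Let F be a saturated fusion system over a finite p-group S. Suppose there are subgroups Q₀ = S, Q₁, …, Qₙ = 1 (not required to be nested) such that for each i < n the focal subgroup of Qᵢ (generated by the elements x⁻¹φ(x), x ∈ Qᵢ, φ a map of F defined on the cyclic group generated by x) lies in Qᵢ₊₁. Then F is the inner fusion system of S. -/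
theorem result {Ω : Type*} [Group Ω] {S : Subgroup Ω} [Finite S] (p : ℕ) [Fact p.Prime] (hS : IsPGroup p S) (F : Cfsg.FusionSystem S) (hF : F.IsSaturated p) (n : ℕ) (Q : Fin (n + 1) → Subgroup Ω) (hQ0 : Q 0 = S) (hQn : Q (Fin.last n) = ⊥) (hstep : ∀ i : Fin n, Subgroup.closure {y : Ω | ∃ x ∈ Q i.castSucc, ∃ φ ∈ F.Hom (Subgroup.zpowers x), y = x⁻¹ * φ ⟨x, Subgroup.mem_zpowers x⟩} ≤ Q i.succ) : ∀ P : Subgroup Ω, F.Hom P = (Cfsg.innerFusionSystem S).Hom P := by
  apply hom_eq_inner_of_forall_conj F
  apply frobenius_inner p hS F hF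
  intro P hPS
  have : Finite P := finite_of_le hPS
  have hPp : IsPGroup p P := hS.to_le hPS
  -- every automorphism of the system on `P` has `p`-power order
  have key : ∀ α : MulAut P, α ∈ F.autGroup P → ∃ k : ℕ, α ^ (p ^ k) = 1 := by
    intro α hα
    have hiso := (mem_autGroup_iff F hPS α).mp hα
    have hchain : ∀ (i : ℕ) (hi : i < n + 1), (autCommChain α ⊤ i).map P.subtype ≤ Q ⟨i, hi⟩ := by
      intro i
      induction i with
      | zero =>
        intro hi
        have : (⟨0, hi⟩ : Fin (n + 1)) = 0 := rfl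
        rw [this, hQ0]
        rintro _ ⟨x, -, rfl⟩
        exact hPS x.2
      | succ i ih =>
        intro hi
        have hi' : i < n + 1 := by omega
        have hin : i < n := by omega
        have ih' := ih hi'
        rw [Subgroup.map_le_iff_le_comap]
        show autComm α (autCommChain α ⊤ i) ≤ _
        unfold autComm
        rw [Subgroup.closure_le]
        rintro y ⟨x, hx, rfl⟩
        have hxQ : (x : Ω) ∈ Q (⟨i, hin⟩ : Fin n).castSucc := ih' ⟨x, hx, rfl⟩
        have hle : Subgroup.zpowers (x : Ω) ≤ P := by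
          rw [Subgroup.zpowers_le]; exact x.2
        have hφ := restrict_mem F hiso hle
        have hmem := hstep ⟨i, hin⟩ (Subgroup.subset_closure ⟨(x : Ω), hxQ, _, hφ, rfl⟩)
        have e1 : (Subgroup.inclusion hle ⟨(x : Ω), Subgroup.mem_zpowers (x : Ω)⟩ : P) = x := Subtype.ext rfl
        show ((x⁻¹ * α x : P) : Ω) ∈ Q ⟨i + 1, hi⟩
        have e2 : ((x⁻¹ * α x : P) : Ω) = (x : Ω)⁻¹ *
            ((P.subtype.comp (α : P ≃* P).toMonoidHom).comp (Subgroup.inclusion hle))
              ⟨(x : Ω), Subgroup.mem_zpowers (x : Ω)⟩ := by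
          show _ = (x : Ω)⁻¹ * ((α (Subgroup.inclusion hle ⟨(x : Ω), Subgroup.mem_zpowers (x : Ω)⟩) : P) : Ω)
          rw [e1]
          simp
        rw [e2]
        exact hmem
    have hbot : autCommChain α ⊤ n = ⊥ := by
      have h1 := hchain n (Nat.lt_succ_self n)
      have : (⟨n, Nat.lt_succ_self n⟩ : Fin (n + 1)) = Fin.last n := rfl
      rw [this, hQn, le_bot_iff] at h1
      exact (Subgroup.map_eq_bot_iff_of_injective _ P.subtype_injective).mp h1
    exact exists_pow_eq_one_of_autCommChain_eq_bot hPp α n hbot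
  intro g
  obtain ⟨k, hk⟩ := key g.1 g.2
  exact ⟨k, Subtype.ext (by simpa using hk)⟩

end Cfsg.Agent.S5223
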