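import Cfsg.Statements.S5224
import Cfsg.Agent.Helper88.ParkTateMain
import Cfsg.Agent.Helper47.Frattini

set_option autoImplicit false
open Cfsg

namespace Cfsg.Agent.S5224

open Cfsg.FusionSystem Cfsg.Agent.Helper87 Cfsg.Agent.Helper88.Biset Cfsg.Agent.Helper88.ParkTate

/-- Tate's Theorem for fusion systems. Let F be a saturated fusion system over a finite p-group S and H a saturated fusion system over S contained in F. Then the following are equivalent: the elementary focal subgroups Φ(S)·foc agree for F and H; the focal subgroups of F and H agree; the hyperfocal subgroups of F and H agree. -/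
theorem result {Ω : Type*} [Group Ω] {S : Subgroup Ω} [Finite S] (p : ℕ) [Fact p.Prime] (hS : IsPGroup p S) (F : Cfsg.FusionSystem S) (hF : F.IsSaturated p) (H : Cfsg.FusionSystem S) (hH : H.IsSaturated p) (hHF : H.IsSubsystemOf F) : (((frattini ↥S).map S.subtype ⊔ F.focalSubgroup) = ((frattini ↥S).map S.subtype ⊔ H.focalSubgroup) ↔ F.focalSubgroup = H.focalSubgroup) ∧ (F.focalSubgroup = H.focalSubgroup ↔ F.hyperfocalSubgroup p = H.hyperfocalSubgroup p) := by
  have hmono : H.focalSubgroup ≤ F.focalSubgroup := focalSubgroup_mono H F hHF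
  refine ⟨⟨fun h => ?_, fun h => by rw [h]⟩, ⟨fun h => ?_, fun h => ?_⟩⟩
  · -- Tate, first part
    apply le_antisymm _ hmono
    by_contra hne
    have hK1 := commutator_le_focal H
    have hK2 : H.focalSubgroup.subgroupOf S ≤ F.focalSubgroup.subgroupOf S := by
      intro y hy
      rw [Subgroup.mem_subgroupOf] at hy ⊢
      exact hmono hy
    have hne' : ¬ F.focalSubgroup.subgroupOf S ≤ H.focalSubgroup.subgroupOf S := by
      intro hle
      apply hne
      intro y hy
      have hyS : y ∈ S := focalSubgroup_le F hy
      have := hle (show (⟨y, hyS⟩ : ↥S) ∈ _ from Subgroup.mem_subgroupOf.mpr hy)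
      exact Subgroup.mem_subgroupOf.mp this
    obtain ⟨A, instA, lam, hAcard, hKle, y, hy, hly⟩ := exists_hom_of_focal_not_le hS F hF _ hK1 hK2 hne'
    apply hly
    have hA : ∀ a : A, a ^ p = 1 := by
      intro a
      rw [← hAcard]
      exact pow_card_eq_one'
    have hfr : frattini ↥S ≤ lam.ker := by
      apply Cfsg.Agent.Helper47.frattini_le_of_commutator_pow_mem (p := p)
      · intro a b
        rw [MonoidHom.mem_ker, map_commutatorElement, commutatorElement_def, mul_comm (lam a), mul_inv_cancel_right,
          mul_inv_cancel]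
      · intro a
        rw [MonoidHom.mem_ker, map_pow, hA]
    have hle : (frattini ↥S).map S.subtype ⊔ H.focalSubgroup ≤ (lam.ker).map S.subtype := by
      apply sup_le (Subgroup.map_mono hfr)
      intro z hz
      have hzS : z ∈ S := focalSubgroup_le H hz
      exact ⟨⟨z, hzS⟩, hKle (Subgroup.mem_subgroupOf.mpr hz), rfl⟩
    have hy' : (y : Ω) ∈ (frattini ↥S).map S.subtype ⊔ F.focalSubgroup :=
      le_sup_right (a := (frattini ↥S).map S.subtype) (Subgroup.mem_subgroupOf.mp hy)
    rw [h] at hy'
    obtain ⟨z, hz, hzy⟩ := hle hy'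
    have : z = y := Subtype.ext hzy
    rw [← this]
    exact hz
  · -- Tate, second part
    exact tate_two (Nat.card S) S hS rfl F H hF hH hHF h
  · rw [Cfsg.Agent.S5092.result p hS F hF, Cfsg.Agent.S5092.result p hS H hH, h]

end Cfsg.Agent.S5224
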