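-- Statement S5226: normality via a central series with weakly closed terms.
import Cfsg.Statements.S5226
import Cfsg.Agent.Helper87.FusionSeries
import Cfsg.Agent.S5085

set_option autoImplicit false
open Cfsg

namespace Cfsg.Agent.S5226

open Cfsg.Agent.Helper87 Cfsg.FusionSystem

/-- Let F be a saturated fusion system over a finite p-group S and Q a subgroup of S. Then Q is normal in F (F equals the normalizer system of Q) if and only if Q is strongly closed in F and admits a central series 1 = Q₀ ≤ Q₁ ≤ ⋯ ≤ Qₙ = Q ([Qᵢ₊₁, Q] ≤ Qᵢ) all of whose proper terms are weakly closed in F. -/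
theorem result {Ω : Type*} [Group Ω] {S : Subgroup Ω} [Finite S] (p : ℕ) [Fact p.Prime] (hS : IsPGroup p S) (F : Cfsg.FusionSystem S) (hF : F.IsSaturated p) (Q : Subgroup Ω) : F.IsNormal Q ↔ F.StronglyClosed Q ∧ ∃ (n : ℕ) (C : Fin (n + 1) → Subgroup Ω), C 0 = ⊥ ∧ C (Fin.last n) = Q ∧ Monotone C ∧ (∀ i : Fin n, ⁅C i.succ, Q⁆ ≤ C i.castSucc) ∧ ∀ i : Fin n, F.WeaklyClosed (C i.castSucc) := by
  constructor
  · intro hQ
    refine ⟨stronglyClosed_of_isNormal F hQ, ?_⟩
    have hQS : Q ≤ S := hQ.1
    have hfin : Finite Q := finite_of_le hQS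
    have hnil : Group.IsNilpotent Q := (hS.to_le hQS).isNilpotent
    obtain ⟨c, hc⟩ := (Subgroup.isNilpotent_iff_lowerCentralSeries Q).mp hnil
    -- every term of the lower central series of `Q` is normal in the system
    have hLn : ∀ j, F.IsNormal (Q.lowerCentralSeries j) := by
      intro j
      apply Cfsg.Agent.S5085.result F Q _ hQ (Subgroup.lowerCentralSeries_le_self Q j)
      have h1 : (Q.lowerCentralSeries j).subgroupOf Q = (⊤ : Subgroup Q).lowerCentralSeries j := by
        rw [← Subgroup.top_subtype_lowerCentralSeries Q j]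
        exact Subgroup.comap_map_eq_self_of_injective Q.subtype_injective _
      rw [h1]
      infer_instance
    refine ⟨c, fun i => Q.lowerCentralSeries (c - i), ?_, ?_, ?_, ?_, ?_⟩
    · show Q.lowerCentralSeries (c - 0) = ⊥
      rw [Nat.sub_zero, hc]
    · show Q.lowerCentralSeries (c - c) = Q
      rw [Nat.sub_self]; rfl
    · intro i j hij
      exact Subgroup.lowerCentralSeries_antitone Q (Nat.sub_le_sub_left (Fin.le_def.mp hij) c)
    · intro i
      show ⁅Q.lowerCentralSeries (c - (i + 1)), Q⁆ ≤ Q.lowerCentralSeries (c - i)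
      have hi : (i : ℕ) < c := i.2
      have : c - i = (c - (i + 1)) + 1 := by omega
      rw [this, Subgroup.lowerCentralSeries_succ]
    · intro i
      exact weaklyClosed_of_isNormal F (hLn _)
  · rintro ⟨hQ, n, C, h0, hn, hmono, hcomm, hwc⟩
    -- extend the chain to the natural numbers
    let Cn : ℕ → Subgroup Ω := fun j => C ⟨min j n, Nat.lt_succ_of_le (min_le_right j n)⟩
    have hCn : ∀ (j : ℕ) (hj : j < n + 1), Cn j = C ⟨j, hj⟩ := by
      intro j hj
      show C ⟨min j n, _⟩ = C ⟨j, hj⟩
      congr 1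
      exact Fin.ext (min_eq_left (Nat.lt_succ_iff.mp hj))
    apply isNormal_of_weaklyClosed_series_nat hS F hF hQ n Cn
    · rw [hCn 0 (Nat.succ_pos n)]; exact h0
    · rw [hCn n (Nat.lt_succ_self n)]; exact hn
    · intro i j hij
      exact hmono (Fin.mk_le_mk.mpr (min_le_min_right n hij))
    · intro j hj
      rw [hCn (j + 1) (by omega), hCn j (by omega)]
      exact hcomm ⟨j, hj⟩
    · intro j hj
      rw [hCn j (by omega)]
      exact hwc ⟨j, hj⟩

end Cfsg.Agent.S5226
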