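import Cfsg.Statements.S5233
import Cfsg.Agent.Helper87.GenExtra2
import Cfsg.Agent.Helper87.GenExtra4

set_option autoImplicit false
open Cfsg

namespace Cfsg.Agent.S5233

open Cfsg.FusionSystem Cfsg.Agent.Helper87

/-- Let F be a saturated fusion system over a finite p-group S and P a subgroup of S strongly closed in F that is generalized extraspecial (its Frattini subgroup equals its commutator subgroup and has order p) and not isomorphic to E × A with A elementary abelian and E dihedral of order 8 (p = 2) or extraspecial of order p³ and exponent p (p odd). Then P is normal in F. -/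
theorem result {Ω : Type*} [Group Ω] {S : Subgroup Ω} [Finite S] (p : ℕ) [Fact p.Prime] (hS : IsPGroup p S) (F : Cfsg.FusionSystem S) (hF : F.IsSaturated p) (P : Subgroup Ω) (hP : F.StronglyClosed P) (hge : frattini ↥P = commutator ↥P ∧ Nat.card ↥(commutator ↥P) = p) (h2 : p = 2 → ¬ ∃ (A : Type) (_ : CommGroup A), (∀ a : A, a ^ 2 = 1) ∧ Nonempty (↥P ≃* DihedralGroup 4 × A)) (hodd : p ≠ 2 → ¬ ∃ (E : Type) (_ : Group E) (A : Type) (_ : CommGroup A), Cfsg.IsExtraspecial p E ∧ Nat.card E = p ^ 3 ∧ Monoid.exponent E = p ∧ (∀ a : A, a ^ p = 1) ∧ Nonempty (↥P ≃* E × A)) : F.IsNormal P := by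
  have hPS : P ≤ S := hP.1
  haveI : Finite P := finite_of_le hPS
  apply isNormal_of_forall_essential hS F hF
  intro R hR
  have hRS : R ≤ S := by
    rcases hR with rfl | hess
    · exact le_rfl
    · exact hess.1.1
  have hPR : P ≤ R := by
    rcases hR with rfl | hess
    · exact hPS
    · by_contra hnot
      obtain ⟨U, C, n, w, hZcen, hcomm, hpow, hZU, hUcard, hUexp, hC, hUC, hw, hnw, hcard, hnp⟩ :=
        exceptional_of_not_le_essential hS F hF hP hge hess hnot
      by_cases hp2 : p = 2
      · subst hp2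
        exact h2 rfl (genExtra_dihedral (commutator P) U C hZcen hge.2 hcomm hpow hZU hUcard hUexp hC hUC n w hw hnw hcard)
      · exact hodd hp2 (genExtra_odd hp2 (commutator P) U C hZcen hge.2 hcomm hpow hZU hUcard hUexp hC hUC n w hw hnw
          hcard (hnp hp2))
  refine ⟨hPR, fun α hα => ?_⟩
  have hαiso := (mem_autGroup_iff F hRS α).mp hα
  have hfwd : ∀ (β : MulAut R), IsIso F (β : R ≃* R) → ∀ x : R, (x : Ω) ∈ P → ((β x : R) : Ω) ∈ P := by
    intro β hβ x hx
    have := hP.2 P le_rfl _ (restrict_mem F hβ hPR) ⟨x, hx⟩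
    exact this
  ext y
  constructor
  · rintro ⟨x, hx, rfl⟩
    exact hfwd α hαiso x hx
  · intro hy
    refine ⟨α.symm y, hfwd α⁻¹ hαiso.symm y hy, ?_⟩
    simp

end Cfsg.Agent.S5233
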