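import Cfsg.Statements.S5235
import Cfsg.Agent.Helper85.MetaSC

set_option autoImplicit false
open Cfsg

namespace Cfsg.Agent.S5235

open Cfsg.FusionSystem Cfsg.Agent.Helper87 Cfsg.Agent.Helper85.MetaSC

/-- Let F be a saturated fusion system over a finite 2-group S (p = 2) and P a metacyclic subgroup of S strongly closed in F that is not dihedral, not semidihedral and not generalized quaternion (here the group of order 2, the Klein four-group and the cyclic group of order 4 also count as excluded). Then P is normal in F. -/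
theorem result {Ω : Type*} [Group Ω] {S : Subgroup Ω} [Finite S] (p : ℕ) [Fact p.Prime] (hS : IsPGroup p S) (F : Cfsg.FusionSystem S) (hF : F.IsSaturated p) (P : Subgroup Ω) (hP : F.StronglyClosed P) (hp : p = 2) (hm : Cfsg.IsMetacyclic ↥P) (hd : ¬ ∃ m : ℕ, Nonempty (↥P ≃* DihedralGroup m)) (hq : ¬ ∃ m : ℕ, Nonempty (↥P ≃* QuaternionGroup m)) (hsd : ¬ Cfsg.IsQuasiDihedral ↥P) : F.IsNormal P := by
  subst hp
  have hPS : P ≤ S := hP.1
  apply isNormal_of_forall_essential hS F hF
  intro R hR
  have hRS : R ≤ S := by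
    rcases hR with rfl | hess
    · exact le_rfl
    · exact hess.1.1
  have hPR : P ≤ R := by
    rcases hR with rfl | hess
    · exact hPS
    · refine le_essential_of_metacyclic hS F hF hP hm ?_ hess
      rintro (h | h | h)
      · exact hd h
      · exact hq h
      · exact hsd h
  refine ⟨hPR, fun α hα => ?_⟩
  have hαiso := (mem_autGroup_iff F hRS α).mp hα
  have hfwd : ∀ (β : MulAut R), IsIso F (β : R ≃* R) → ∀ x : R, (x : Ω) ∈ P → ((β x : R) : Ω) ∈ P := by
    intro β hβ x hx
    have := hP.2 P le_rfl _ (restrict_mem F hβ hPR) ⟨x, hx⟩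
    exact this
  ext y
  constructor
  · rintro ⟨x, hx, rfl⟩
    exact hfwd α hαiso x hx
  · intro hy
    refine ⟨α.symm y, hfwd α⁻¹ hαiso.symm y hy, ?_⟩
    simp

end Cfsg.Agent.S5235
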