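-- Statement S5243: a p'-quotient of Aut_F(T)/Aut_E(T) gives a proper normal subsystem over S (AOV Lemma 1.26).
import Cfsg.Statements.S5243
import Cfsg.Agent.Helper86.NQMain

set_option autoImplicit false
open Cfsg

namespace Cfsg.Agent.S5243

/-- Let F be a saturated fusion system over a finite p-group S, E a normal subsystem of F over T ≤ S, and χ a surjective homomorphism from Aut_F(T) onto a nontrivial finite group Δ of order prime to p whose kernel contains Aut_E(T). Then there is a proper normal subsystem F₀ of F over S containing E such that Aut_{F₀}(S) consists of those α ∈ Aut_F(S) whose restriction to T is an element of Aut_F(T) in the kernel of χ; moreover every p'-residual subsystem O^{p'}(F) of F is contained in F₀. -/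
theorem result {Ω : Type*} [Group Ω] {S : Subgroup Ω} [Finite S] (p : ℕ) [Fact p.Prime] (hS : IsPGroup p S) (F : Cfsg.FusionSystem S) (hF : F.IsSaturated p) {T : Subgroup Ω} (hTS : T ≤ S) (E : Cfsg.FusionSystem T) (hE : E.IsNormalIn F p) {Δ : Type*} [Group Δ] [Finite Δ] [Nontrivial Δ] (hΔ : (Nat.card Δ).Coprime p) (χ : ↥(F.autGroup T) →* Δ) (hχ : Function.Surjective χ) (hker : (E.autGroup T).subgroupOf (F.autGroup T) ≤ χ.ker) : ∃ F₀ : Cfsg.FusionSystem S, F₀.IsNormalIn F p ∧ ¬ (∀ P : Subgroup Ω, F₀.Hom P = F.Hom P) ∧ E.IsSubsystemOf F₀ ∧ (∀ α : MulAut ↥S, α ∈ F₀.autGroup S ↔ α ∈ F.autGroup S ∧ ∃ β : ↥(F.autGroup T), χ β = 1 ∧ ∀ t : ↥T, (((β : MulAut ↥T) t : ↥T) : Ω) = ((α ⟨(t : Ω), hTS t.2⟩ : ↥S) : Ω)) ∧ ∀ R : Cfsg.FusionSystem S, F.IsPPrimeResidual p R → R.IsSubsystemOf F₀ := by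
  have hyp : Cfsg.Agent.Helper86.NQ.Hyp p F E χ :=
    { pS := hS
      satF := hF
      satE := hE.1.1
      inv := hE.1.2.2
      ker := by
        intro α hα hαE
        have h1 : (⟨α, hα⟩ : ↥(F.autGroup T)) ∈ (E.autGroup T).subgroupOf (F.autGroup T) :=
          Subgroup.mem_subgroupOf.mpr hαE
        exact MonoidHom.mem_ker.mp (hker h1)
      pfree := by
        intro d k hd
        have h1 : orderOf d ∣ p ^ k := orderOf_dvd_of_pow_eq_one hd
        have h2 : orderOf d ∣ Nat.card Δ := orderOf_dvd_natCard d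
        have h3 : Nat.Coprime (Nat.card Δ) (p ^ k) := Nat.Coprime.pow_right k hΔ
        have h4 : Nat.Coprime (orderOf d) (p ^ k) := Nat.Coprime.coprime_dvd_left h2 h3
        have h5 : orderOf d = 1 := Nat.Coprime.eq_one_of_dvd h4 h1
        exact orderOf_eq_one_iff.mp h5 }
  refine ⟨Cfsg.Agent.Helper86.NQ.sysZero hyp, Cfsg.Agent.Helper86.NQ.sysZero_isNormalIn hyp hχ,
    Cfsg.Agent.Helper86.NQ.sysZero_ne hyp hχ, Cfsg.Agent.Helper86.NQ.sub_sysZero hyp hχ, ?_, ?_⟩
  · intro α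
    rw [Cfsg.Agent.Helper86.NQ.mem_autGroup_sysZero_iff hyp α]
    constructor
    · rintro ⟨hα, hd⟩
      exact ⟨hα, hyp.resST ⟨α, hα⟩, hd, fun t => rfl⟩
    · rintro ⟨hα, β, hβ, hβt⟩
      refine ⟨hα, ?_⟩
      have : hyp.resST ⟨α, hα⟩ = β := by
        apply Subtype.ext
        ext t
        rw [hβt t]
        rfl
      show χ (hyp.resST ⟨α, hα⟩) = 1
      rw [this, hβ]
  · intro R hR
    exact hR.2.2 _ (Cfsg.Agent.Helper86.NQ.sysZero_saturated hyp hχ)
      (Cfsg.Agent.Helper86.NQ.sysZero_primeIndex hyp hχ)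

end Cfsg.Agent.S5243
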