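import Cfsg.Statements.S5245
import Cfsg.Agent.Helper88.AutSystem
import Cfsg.Agent.Helper88.OmegaAut
import Cfsg.Agent.Helper88.FusionNormalCrit
import Cfsg.Agent.Helper87.FusionFrobenius

set_option autoImplicit false
open Cfsg

namespace Cfsg.Agent.S5245

open Cfsg.FusionSystem Cfsg.Agent.Helper87 Cfsg.Agent.Helper88 Cfsg.Agent.Helper88.FS

theorem inn_le_autGroup {Ω : Type*} [Group Ω] {S : Subgroup Ω} (F : FusionSystem S) {P : Subgroup Ω} (hPS : P ≤ S) :
    Inn P ≤ F.autGroup P := by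
  rintro _ ⟨x, rfl⟩
  rw [mem_autGroup_iff F hPS]
  exact mem_of_eq F (F.conj_mem hPS (hPS x.2)) (fun y => rfl)

/-- The case where the system is generated by `Inn(S)` and one automorphism of prime order `q ≠ p`. -/
theorem core {Ω : Type*} [Group Ω] {S : Subgroup Ω} [Finite S] (p : ℕ) [Fact p.Prime] (hS : IsPGroup p S)
    (F : Cfsg.FusionSystem S) (hF : F.IsSaturated p)
    (hsparse : ∀ (T : Subgroup Ω) (E : Cfsg.FusionSystem T), E.IsSaturated p → E.IsSubsystemOf F →
      (T = S ∧ ∀ P : Subgroup Ω, E.Hom P = F.Hom P) ∨ (∀ P : Subgroup Ω, E.Hom P = (Cfsg.innerFusionSystem T).Hom P))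
    (β : MulAut S) (q : ℕ) (hq : q.Prime) (hqp : q ≠ p) (hβord : orderOf β = q) (hβ : β ∈ F.autGroup S)
    (hEF : ∀ P : Subgroup Ω, (autSystem S (Inn S ⊔ Subgroup.zpowers β) le_sup_left).Hom P = F.Hom P) :
    F.IsNormal S ∧ F.focalSubgroup = S ∧ F.hyperfocalSubgroup p = S ∧ ∃ (q : ℕ) (β : MulAut ↥S), q.Prime ∧ q ≠ p ∧
      β ∈ F.autGroup S ∧ orderOf β = q ∧ (F.autGroup S : Subgroup (MulAut ↥S)) = Cfsg.Inn ↥S ⊔ Subgroup.zpowers β := by
  have hβq : β ^ q = 1 := by rw [← hβord]; exact pow_orderOf_eq_one β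
  have hqcop : q.Coprime p := (Nat.coprime_primes hq Fact.out).mpr hqp
  have hAF : Inn S ⊔ Subgroup.zpowers β ≤ F.autGroup S :=
    sup_le (inn_le_autGroup F le_rfl) (Subgroup.zpowers_le.mpr hβ)
  have hβiso : S.subtype.comp (β : S ≃* S).toMonoidHom ∈ F.Hom S := (mem_autGroup_iff F le_rfl β).mp hβ
  -- the automorphism group
  have haut : F.autGroup S = Inn S ⊔ Subgroup.zpowers β := by
    have h1 : F.autGroup S = (autSystem S (Inn S ⊔ Subgroup.zpowers β) le_sup_left).autGroup S := by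
      unfold autGroup
      rw [hEF S]
    rw [h1, autGroup_autSystem_top]
  -- normality of `S`
  have hnormal : F.IsNormal S := by
    apply isNormal_of_maps_extend hS F hF le_rfl
    intro Q hQS φ hφ
    rw [← hEF Q] at hφ
    obtain ⟨hQ, α, hα, hx⟩ := hφ
    exact ⟨α, hAF hα, fun x => (hx x).symm⟩
  -- the commutator `[S, β]`
  set K : Subgroup S := Subgroup.closure {y | ∃ x : S, y = x⁻¹ * β x} with hK
  have hKmem : ∀ x : S, x⁻¹ * β x ∈ K := fun x => Subgroup.subset_closure ⟨x, rfl⟩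
  have hKinv : ∀ x, β x ∈ K ↔ x ∈ K := by
    intro x
    constructor
    · intro h
      have := K.mul_mem h (K.inv_mem (hKmem x))
      simpa using this
    · intro h
      have := K.mul_mem h (hKmem x)
      simpa using this
  have hTS : K.map S.subtype ≤ S := by
    rintro _ ⟨x, -, rfl⟩
    exact x.2
  have hTinv : ∀ x : S, ((β x : S) : Ω) ∈ K.map S.subtype ↔ (x : Ω) ∈ K.map S.subtype := by
    intro x
    have h1 : ((β x : S) : Ω) ∈ K.map S.subtype ↔ β x ∈ K := Subgroup.mem_map_iff_mem S.subtype_injective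
    have h2 : (x : Ω) ∈ K.map S.subtype ↔ x ∈ K := Subgroup.mem_map_iff_mem S.subtype_injective
    rw [h1, h2, hKinv]
  have hTeq : K.map S.subtype = S := by
    have hβTq : (restrictAutSub β (K.map S.subtype) hTS hTinv) ^ q = 1 := by
      ext x
      rw [restrictAutSub_pow, hβq]
      rfl
    have hTp : IsPGroup p (K.map S.subtype) := hS.to_le hTS
    have : Finite (K.map S.subtype) := finite_of_le hTS
    have hAT : Inn (K.map S.subtype) ≤
        Inn (K.map S.subtype) ⊔ Subgroup.zpowers (restrictAutSub β (K.map S.subtype) hTS hTinv) := le_sup_left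
    have hβT : restrictAutSub β (K.map S.subtype) hTS hTinv ∈ F.autGroup (K.map S.subtype) := by
      rw [mem_autGroup_iff F hTS]
      exact mem_of_eq F (restrict_mem F hβiso hTS) (fun x => rfl)
    have hATF : Inn (K.map S.subtype) ⊔ Subgroup.zpowers (restrictAutSub β (K.map S.subtype) hTS hTinv) ≤
        F.autGroup (K.map S.subtype) := sup_le (inn_le_autGroup F hTS) (Subgroup.zpowers_le.mpr hβT)
    have hsat := autSystem_isSaturated hTp _ hAT (fun α hα => ⟨q, hqcop, pow_mem_inn_of_mem_sup hβTq α hα⟩)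
    have hsub := autSystem_isSubsystemOf F hTS _ hAT hATF
    rcases hsparse _ _ hsat hsub with ⟨hT, -⟩ | hinner
    · exact hT
    · exfalso
      have h1 := le_inn_of_autSystem_eq_inner _ hAT (hinner _) (Subgroup.mem_sup_right (Subgroup.mem_zpowers _))
      have h2 := eq_one_of_mem_inn_of_pow hTp h1 hqcop hβTq
      have h3 : ∀ v ∈ K, β v = v := by
        intro v hv
        have hvT : (v : Ω) ∈ K.map S.subtype := ⟨v, hv, rfl⟩
        have := congrArg (fun γ : MulAut (K.map S.subtype) => ((γ ⟨v, hvT⟩ : K.map S.subtype) : Ω)) h2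
        exact Subtype.ext this
      have h4 := eq_one_of_stabilizes hS β q hqcop hβq K hKmem h3
      rw [h4, orderOf_one] at hβord
      exact hq.one_lt.ne hβord
  have hgen : ∀ x : S, ((x⁻¹ * β x : S) : Ω) = (x : Ω)⁻¹ * ((β x : S) : Ω) := fun x => rfl
  refine ⟨hnormal, ?_, ?_, q, β, hq, hqp, hβ, hβord, haut⟩
  · apply le_antisymm
    · unfold focalSubgroup
      rw [Subgroup.closure_le]
      rintro y ⟨P, φ, x, hφ, rfl⟩
      exact S.mul_mem (S.inv_mem ((F.le_of_mem hφ).1 x.2)) ((F.le_of_mem hφ).2 x)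
    · have hle : K.map S.subtype ≤ F.focalSubgroup := ?_
      · intro s hs
        rw [← hTeq] at hs
        exact hle hs
      rw [Subgroup.map_le_iff_le_comap, hK, Subgroup.closure_le]
      rintro y ⟨x, rfl⟩
      show ((x⁻¹ * β x : S) : Ω) ∈ F.focalSubgroup
      rw [hgen]
      exact Subgroup.subset_closure ⟨S, S.subtype.comp (β : S ≃* S).toMonoidHom, x, hβiso, rfl⟩
  · apply le_antisymm
    · unfold hyperfocalSubgroup
      rw [Subgroup.closure_le]
      rintro y ⟨P, α, x, hP, -, rfl⟩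
      exact S.mul_mem (S.inv_mem (hP x.2)) (hP (((α : MulAut P) x : P)).2)
    · have hle : K.map S.subtype ≤ F.hyperfocalSubgroup p := ?_
      · intro s hs
        rw [← hTeq] at hs
        exact hle hs
      rw [Subgroup.map_le_iff_le_comap, hK, Subgroup.closure_le]
      rintro y ⟨x, rfl⟩
      show ((x⁻¹ * β x : S) : Ω) ∈ F.hyperfocalSubgroup p
      rw [hgen]
      refine Subgroup.subset_closure ⟨S, ⟨β, hβ⟩, x, le_rfl, ?_, rfl⟩
      apply Subgroup.subset_closure
      show Nat.Coprime (orderOf (⟨β, hβ⟩ : F.autGroup S)) p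
      rw [Subgroup.orderOf_mk, hβord]
      exact hqcop

/-- An extremely sparse saturated fusion system is F_S(S ⋊ C_q) for a prime q ≠ p: S ⊴ F, foc(F) = hyp(F) = S, and Aut_F(S) = Inn(S)⟨β⟩ with β of order q. -/
theorem result {Ω : Type*} [Group Ω] {S : Subgroup Ω} [Finite S] (p : ℕ) [Fact p.Prime] (hS : IsPGroup p S) (F : Cfsg.FusionSystem S) (hF : F.IsSaturated p) (hxs : ¬ (∀ P : Subgroup Ω, F.Hom P = (Cfsg.innerFusionSystem S).Hom P) ∧ ∀ (T : Subgroup Ω) (E : Cfsg.FusionSystem T), E.IsSaturated p → E.IsSubsystemOf F → (T = S ∧ ∀ P : Subgroup Ω, E.Hom P = F.Hom P) ∨ (∀ P : Subgroup Ω, E.Hom P = (Cfsg.innerFusionSystem T).Hom P)) : F.IsNormal S ∧ F.focalSubgroup = S ∧ F.hyperfocalSubgroup p = S ∧ ∃ (q : ℕ) (β : MulAut ↥S), q.Prime ∧ q ≠ p ∧ β ∈ F.autGroup S ∧ orderOf β = q ∧ (F.autGroup S : Subgroup (MulAut ↥S)) = Cfsg.Inn ↥S ⊔ Subgroup.zpowers β := by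
  obtain ⟨hne, hsparse⟩ := hxs
  have h1 : ∃ P : Subgroup Ω, P ≤ S ∧ ¬ IsPGroup p (F.autGroup P) := by
    by_contra hcon
    apply hne
    have h2 := frobenius_inner p hS F hF (fun P hP => by
      by_contra h
      exact hcon ⟨P, hP, h⟩)
    exact hom_eq_inner_of_forall_conj F h2
  obtain ⟨P, hPS, hnp⟩ := h1
  have : Finite (MulAut P) := finite_mulAut_of_le hPS
  obtain ⟨q, g, hq, hqp, hg⟩ := exists_prime_orderOf_of_not_isPGroup hnp
  have hβ : (g : MulAut P) ∈ F.autGroup P := g.2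
  have hβord : orderOf (g : MulAut P) = q := by rw [← hg]; exact Subgroup.orderOf_coe g
  have hβq : (g : MulAut P) ^ q = 1 := by rw [← hβord]; exact pow_orderOf_eq_one _
  have hqcop : q.Coprime p := (Nat.coprime_primes hq Fact.out).mpr hqp
  have hPp : IsPGroup p P := hS.to_le hPS
  have : Finite P := finite_of_le hPS
  have hA : Inn P ≤ Inn P ⊔ Subgroup.zpowers (g : MulAut P) := le_sup_left
  have hAF : Inn P ⊔ Subgroup.zpowers (g : MulAut P) ≤ F.autGroup P :=
    sup_le (inn_le_autGroup F hPS) (Subgroup.zpowers_le.mpr hβ)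
  have hsat := autSystem_isSaturated hPp _ hA (fun α hα => ⟨q, hqcop, pow_mem_inn_of_mem_sup hβq α hα⟩)
  have hsub := autSystem_isSubsystemOf F hPS _ hA hAF
  rcases hsparse P _ hsat hsub with ⟨hPeq, hEF⟩ | hinner
  · subst hPeq
    exact core p hS F hF hsparse (g : MulAut P) q hq hqp hβord hβ hEF
  · exfalso
    have h1 := le_inn_of_autSystem_eq_inner _ hA (hinner P) (Subgroup.mem_sup_right (Subgroup.mem_zpowers _))
    have h2 := eq_one_of_mem_inn_of_pow hPp h1 hqcop hβq
    rw [h2, orderOf_one] at hβord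
    exact hq.one_lt.ne hβord

end Cfsg.Agent.S5245
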