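import Cfsg.Statements.S5247
import Cfsg.Agent.Helper84.PStable
import Cfsg.Agent.S5096

set_option autoImplicit false
open Cfsg

namespace Cfsg.Agent.S5247

open Cfsg.FusionSystem Cfsg.Agent.Helper87 Cfsg.Agent.Helper84


/-- Let p be an odd prime and F a saturated fusion system over a finite p-group S. Call a fusion system E (over any subgroup) p-stable when, for every fully E-normalized subgroup Q and every χ ∈ Aut_E(Q) with χ(a⁻¹)·a·χ(a⁻¹)·χ(χ(a)) = 1 for all a ∈ Q (χ acts quadratically), χ lies in O_p(Aut_E(Q)). Then F is p-stable if and only if every normalizer fusion system N_F(R) of every non-cyclic fully F-normalized subgroup R of S is p-stable. -/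
theorem result {Ω : Type*} [Group Ω] {S : Subgroup Ω} [Finite S] (p : ℕ) [Fact p.Prime] (hS : IsPGroup p S) (F : Cfsg.FusionSystem S) (hF : F.IsSaturated p) (hp : p ≠ 2) : (∀ Q : Subgroup Ω, F.IsFullyNormalized Q → ∀ χ : MulAut ↥Q, χ ∈ F.autGroup Q → (∀ a : ↥Q, (χ a⁻¹) * a * (χ a⁻¹) * (χ (χ a)) = 1) → χ ∈ ((Cfsg.pCore p ↥(F.autGroup Q)).map (F.autGroup Q).subtype : Subgroup (MulAut ↥Q))) ↔ ∀ R : Subgroup Ω, F.IsFullyNormalized R → ¬ IsCyclic ↥R → ∀ N : Cfsg.FusionSystem (Cfsg.FusionSystem.normalizerIn S R), F.IsNormalizerSystem R N → (∀ Q : Subgroup Ω, N.IsFullyNormalized Q → ∀ χ : MulAut ↥Q, χ ∈ N.autGroup Q → (∀ a : ↥Q, (χ a⁻¹) * a * (χ a⁻¹) * (χ (χ a)) = 1) → χ ∈ ((Cfsg.pCore p ↥(N.autGroup Q)).map (N.autGroup Q).subtype : Subgroup (MulAut ↥Q))) := by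
  constructor
  · intro h R _ _ N hN Q hQ χ hχ hq
    have hQS : Q ≤ S := hQ.1.trans inf_le_left
    have hall : PStableAt F p Q := PStableAt.of_fullyNormalized F (p := p) h hQS
    have hle : N.autGroup Q ≤ F.autGroup Q := by
      apply autGroup_le_of_hom_subset
      rw [hN Q]
      exact fun φ hφ => hφ.1
    exact mem_pCore_map_of_le hle (hall χ (hle hχ) hq) hχ
  · intro h Q hQ χ hχ hq
    have hQS : Q ≤ S := hQ.1
    have hfin : Finite Q := finite_of_le hQS
    by_cases hc : IsCyclic Q
    · exact mem_pCore_of_isQuad_of_cyclic (hS.to_le hQS) hc _ hχ hq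
    · obtain ⟨N, hN⟩ := Cfsg.Agent.S5096.result F Q hQS
      have hfn : N.IsFullyNormalized Q := by
        refine ⟨le_normalizerIn hQS, fun Q' _ => ?_⟩
        have : Finite (FusionSystem.normalizerIn S Q) := finite_of_le inf_le_left
        have h1 : FusionSystem.normalizerIn (FusionSystem.normalizerIn S Q) Q' ≤ FusionSystem.normalizerIn S Q :=
          inf_le_left
        have h2 : FusionSystem.normalizerIn S Q ≤ FusionSystem.normalizerIn (FusionSystem.normalizerIn S Q) Q :=
          le_inf le_rfl inf_le_right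
        have h3 : FusionSystem.normalizerIn (FusionSystem.normalizerIn S Q) Q ≤ S :=
          inf_le_left.trans inf_le_left
        have : Finite (FusionSystem.normalizerIn (FusionSystem.normalizerIn S Q) Q) := finite_of_le h3
        exact Subgroup.card_le_of_le (h1.trans h2)
      have heq := autGroup_normalizerSystem_self F hQS N hN
      have := h Q hQ hc N hN Q hfn χ (heq ▸ hχ) hq
      exact mem_pCore_map_congr heq this

end Cfsg.Agent.S5247
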