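import Cfsg.Statements.S5249
import Cfsg.Agent.Helper85.Morphism3
import Cfsg.Agent.Helper87.FusionSeries
import Cfsg.Agent.Lib.ZJ8
import Cfsg.Agent.S2794
import Cfsg.Agent.S5134
import Cfsg.Agent.S5076

set_option autoImplicit false
open Cfsg

namespace Cfsg.Agent.S5249

open Cfsg.FusionSystem Cfsg.Agent.Helper85

/-- Conjugating the controlling subgroup into a prescribed Sylow subgroup. -/
theorem control_conj {H : Type*} [Group H] [Finite H] {p : ℕ} [Fact p.Prime] (Pb : Sylow p H) (Z : Subgroup H)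
    (hZ : Z ≠ ⊥) (hc : Cfsg.ControlsStrongFusion p Z) :
    ∃ W : Subgroup H, W ≠ ⊥ ∧ W ≤ (Pb : Subgroup H) ∧
      ∀ (A : Set H), A ⊆ ((Pb : Subgroup H) : Set H) → ∀ g : H, (∀ a ∈ A, g * a * g⁻¹ ∈ (Pb : Subgroup H)) →
        ∃ n ∈ Subgroup.normalizer (W : Set H), ∀ a ∈ A, g * a * g⁻¹ = n * a * n⁻¹ := by
  obtain ⟨T', hZT, hctl⟩ := hc
  obtain ⟨x₀, hx₀⟩ := MulAction.exists_smul_eq H T' Pb
  have hmem : ∀ y : H, y ∈ (Pb : Subgroup H) ↔ x₀⁻¹ * y * x₀ ∈ (T' : Subgroup H) := by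
    intro y
    rw [← hx₀, Sylow.coe_subgroup_smul, Subgroup.mem_pointwise_smul_iff_inv_smul_mem]
    simp [MulAut.smul_def]
  let c : H →* H := (MulAut.conj x₀).toMonoidHom
  have hc_apply : ∀ y, c y = x₀ * y * x₀⁻¹ := fun y => rfl
  have hWmem : ∀ y : H, y ∈ Z.map c ↔ x₀⁻¹ * y * x₀ ∈ Z := by
    intro y
    rw [Subgroup.mem_map]
    constructor
    · rintro ⟨z, hz, rfl⟩
      rw [hc_apply]
      have : x₀⁻¹ * (x₀ * z * x₀⁻¹) * x₀ = z := by group
      rwa [this]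
    · intro hy
      refine ⟨_, hy, ?_⟩
      rw [hc_apply]
      group
  refine ⟨Z.map c, ?_, ?_, ?_⟩
  · intro hbot
    apply hZ
    rw [Subgroup.eq_bot_iff_forall]
    intro z hz
    have h1 : c z ∈ Z.map c := Subgroup.mem_map_of_mem c hz
    rw [hbot, Subgroup.mem_bot, hc_apply] at h1
    have : z = x₀⁻¹ * (x₀ * z * x₀⁻¹) * x₀ := by group
    rw [this, h1]
    group
  · intro y hy
    rw [hmem]
    exact hZT ((hWmem y).mp hy)
  · intro A hA g hg
    let A₀ : Set H := (fun a => x₀⁻¹ * a * x₀) '' A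
    have hA₀ : A₀ ⊆ ((T' : Subgroup H) : Set H) := by
      rintro _ ⟨a, ha, rfl⟩
      exact (hmem a).mp (hA ha)
    obtain ⟨-, hctl'⟩ := hctl A₀ hA₀
    have hg₀ : (fun a => (x₀⁻¹ * g * x₀) * a * (x₀⁻¹ * g * x₀)⁻¹) '' A₀ ⊆ ((T' : Subgroup H) : Set H) := by
      rintro _ ⟨_, ⟨a, ha, rfl⟩, rfl⟩
      have h1 := (hmem _).mp (hg a ha)
      have : x₀⁻¹ * g * x₀ * (x₀⁻¹ * a * x₀) * (x₀⁻¹ * g * x₀)⁻¹ = x₀⁻¹ * (g * a * g⁻¹) * x₀ := by group
      show x₀⁻¹ * g * x₀ * (x₀⁻¹ * a * x₀) * (x₀⁻¹ * g * x₀)⁻¹ ∈ (T' : Subgroup H)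
      rw [this]
      exact h1
    obtain ⟨y, hy, hya⟩ := hctl' (x₀⁻¹ * g * x₀) hg₀
    refine ⟨x₀ * y * x₀⁻¹, ?_, ?_⟩
    · rw [Subgroup.mem_normalizer_iff] at hy ⊢
      intro w
      rw [hWmem, hWmem, hy (x₀⁻¹ * w * x₀)]
      have : y * (x₀⁻¹ * w * x₀) * y⁻¹ = x₀⁻¹ * (x₀ * y * x₀⁻¹ * w * (x₀ * y * x₀⁻¹)⁻¹) * x₀ := by group
      rw [this]
    · intro a ha
      have h1 := hya (x₀⁻¹ * a * x₀) ⟨a, ha, rfl⟩
      have h2 : g * a * g⁻¹ = x₀ * (x₀⁻¹ * g * x₀ * (x₀⁻¹ * a * x₀) * (x₀⁻¹ * g * x₀)⁻¹) * x₀⁻¹ := by group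
      rw [h2, h1]
      group

/-- A criterion for the full preimage of a subgroup to be normal in a fusion system on the whole group `M`:
every map of the system, read through the injective `j`, is conjugation by an element normalizing `W`, and that
conjugation is realized by a map of the system on the join. -/
theorem isNormal_comap_of_conj {M : Type*} [Group M] {H : Type*} [Group H]
    (E : FusionSystem (⊤ : Subgroup M)) (j : M →* H) (hinj : Function.Injective j) (W : Subgroup H)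
    (hWr : ∀ w ∈ W, ∃ a : M, j a = w)
    (h : ∀ (Q' : Subgroup M) (φ' : Q' →* M), φ' ∈ E.Hom Q' → ∃ n ∈ Subgroup.normalizer (W : Set H),
       (∀ y : Q', j (φ' y) = n * j y * n⁻¹) ∧
        ∃ ψ' ∈ E.Hom (Q' ⊔ W.comap j), ∀ y : ↥(Q' ⊔ W.comap j), j (ψ' y) = n * j y * n⁻¹) :
    E.IsNormal (W.comap j) := by
  refine ⟨le_top, fun Q' φ' hφ' => ?_⟩
  obtain ⟨n, hn, hφn, ψ', hψ', hψn⟩ := h Q' φ' hφ'
  rw [Subgroup.mem_normalizer_iff] at hn
  refine ⟨ψ', hψ', fun x => ?_, ?_⟩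
  · apply hinj
    rw [hψn, hφn]
    rfl
  · ext y
    rw [Subgroup.mem_map]
    constructor
    · rintro ⟨x, hx, rfl⟩
      have hx' : j (x : M) ∈ W := hx
      show j (ψ' x) ∈ W
      rw [hψn]
      exact (hn _).mp hx'
    · intro hy
      have hy' : j y ∈ W := hy
      have hw : n⁻¹ * j y * n ∈ W := by
        rw [hn]
        have : n * (n⁻¹ * j y * n) * n⁻¹ = j y := by group
        rw [this]
        exact hy'
      obtain ⟨y₀, hy₀⟩ := hWr _ hw
      have hy₀W : y₀ ∈ W.comap j := by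
        show j y₀ ∈ W
        rw [hy₀]
        exact hw
      refine ⟨⟨y₀, (le_sup_right : W.comap j ≤ Q' ⊔ W.comap j) hy₀W⟩, hy₀W, ?_⟩
      apply hinj
      rw [hψn]
      show n * j y₀ * n⁻¹ = j y
      rw [hy₀]
      group

theorem core_ne_bot_aux {G : Type*} [Group G] [Finite G] {p : ℕ} [Fact p.Prime] (P : Sylow p G)
    (hctl : ∀ (K R : Subgroup G) [(R.subgroupOf K).Normal], ∀ T : Sylow p (K ⧸ R.subgroupOf K),
      Cfsg.ControlsStrongFusion p (Cfsg.centerThompsonAOf (T : Subgroup (K ⧸ R.subgroupOf K))))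
    (R : Subgroup G) (hR : (groupFusionSystem (P : Subgroup G)).StronglyClosed R) (hRne : R ≠ (P : Subgroup G))
    [(R.subgroupOf (P : Subgroup G)).Normal]
    (E : FusionSystem (⊤ : Subgroup ((P : Subgroup G) ⧸ R.subgroupOf (P : Subgroup G))))
    (hE : (groupFusionSystem (P : Subgroup G)).IsFactorSystem R
      (QuotientGroup.mk' (R.subgroupOf (P : Subgroup G))) E) :
    E.core ≠ ⊥ := by
  classical
  have hS : IsPGroup p (P : Subgroup G) := P.isPGroup'
  have hF : (groupFusionSystem (P : Subgroup G)).IsSaturated p := Cfsg.Agent.S5076.result p P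
  have hRP : R ≤ (P : Subgroup G) := hR.1
  have hPK : (P : Subgroup G) ≤ Subgroup.normalizer (R : Set G) :=
    Cfsg.Agent.Helper87.le_normalizer_of_stronglyClosed _ hR
  -- the quotient of the normalizer
  let q : ↥(Subgroup.normalizer (R : Set G)) →*
      ↥(Subgroup.normalizer (R : Set G)) ⧸ R.subgroupOf (Subgroup.normalizer (R : Set G)) :=
    QuotientGroup.mk' _
  have hqker : ∀ y : ↥(Subgroup.normalizer (R : Set G)), q y = 1 ↔ (y : G) ∈ R := by
    intro y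
    rw [QuotientGroup.mk'_apply, QuotientGroup.eq_one_iff]
    exact Subgroup.mem_subgroupOf
  let PK : Sylow p ↥(Subgroup.normalizer (R : Set G)) := P.subtype hPK
  let Pb : Sylow p (↥(Subgroup.normalizer (R : Set G)) ⧸ R.subgroupOf (Subgroup.normalizer (R : Set G))) :=
    PK.mapSurjective (QuotientGroup.mk'_surjective _)
  have hPbmem : ∀ z, z ∈ Pb.toSubgroup ↔
      ∃ y : ↥(Subgroup.normalizer (R : Set G)), (y : G) ∈ (P : Subgroup G) ∧ q y = z := by
    intro z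
    show z ∈ ((PK : Subgroup _).map q) ↔ _
    rw [Subgroup.mem_map]
    constructor
    · rintro ⟨y, hy, rfl⟩
      exact ⟨y, Subgroup.mem_subgroupOf.mp hy, rfl⟩
    · rintro ⟨y, hy, rfl⟩
      exact ⟨y, Subgroup.mem_subgroupOf.mpr hy, rfl⟩
  have hPb_of : ∀ y : ↥(Subgroup.normalizer (R : Set G)), q y ∈ Pb.toSubgroup → (y : G) ∈ (P : Subgroup G) := by
    intro y hy
    obtain ⟨z, hz, hzy⟩ := (hPbmem _).mp hy
    have h1 : q (z⁻¹ * y) = 1 := by rw [map_mul, map_inv, hzy, inv_mul_cancel]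
    have h2 : ((z⁻¹ * y : ↥(Subgroup.normalizer (R : Set G))) : G) ∈ R := (hqker _).mp h1
    have h3 : (y : G) = (z : G) * ((z : G)⁻¹ * (y : G)) := by group
    rw [h3]
    exact Subgroup.mul_mem _ hz (hRP h2)
  -- the comparison map
  let j : ((P : Subgroup G) ⧸ R.subgroupOf (P : Subgroup G)) →*
      ↥(Subgroup.normalizer (R : Set G)) ⧸ R.subgroupOf (Subgroup.normalizer (R : Set G)) :=
    QuotientGroup.map (R.subgroupOf (P : Subgroup G)) (R.subgroupOf (Subgroup.normalizer (R : Set G)))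
      (Subgroup.inclusion hPK) (fun x hx => hx)
  have hj : ∀ (x : G) (hx : x ∈ (P : Subgroup G)),
      j (QuotientGroup.mk' (R.subgroupOf (P : Subgroup G)) ⟨x, hx⟩) = q ⟨x, hPK hx⟩ := fun x hx => rfl
  have hinj : Function.Injective j := by
    rw [injective_iff_map_eq_one]
    intro a ha
    induction a using QuotientGroup.induction_on with
    | H x =>
      have h1 : q ⟨x, hPK x.2⟩ = 1 := ha
      have h2 : (x : G) ∈ R := (hqker _).mp h1
      exact (QuotientGroup.eq_one_iff x).mpr (Subgroup.mem_subgroupOf.mpr h2)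
  have hjPb : ∀ a, j a ∈ Pb.toSubgroup := by
    intro a
    induction a using QuotientGroup.induction_on with
    | H x => exact (hPbmem _).mpr ⟨⟨x, hPK x.2⟩, x.2, rfl⟩
  have hPbj : ∀ z ∈ Pb.toSubgroup, ∃ a, j a = z := by
    intro z hz
    obtain ⟨y, hy, rfl⟩ := (hPbmem _).mp hz
    exact ⟨QuotientGroup.mk' (R.subgroupOf (P : Subgroup G)) ⟨y, hy⟩, rfl⟩
  -- nontriviality
  have hPbne : Pb.toSubgroup ≠ ⊥ := by
    intro hbot
    apply hRne
    apply le_antisymm hRP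
    intro x hx
    have h1 : q ⟨x, hPK hx⟩ ∈ Pb.toSubgroup := (hPbmem _).mpr ⟨⟨x, hPK hx⟩, hx, rfl⟩
    rw [hbot, Subgroup.mem_bot] at h1
    exact (hqker _).mp h1
  have hZne : Cfsg.centerThompsonAOf Pb.toSubgroup ≠ ⊥ :=
    Cfsg.Agent.Lib.ZJ.centerThompsonAOf_ne_bot Pb.isPGroup' hPbne
  obtain ⟨W, hWne, hWPb, hWctl⟩ := control_conj Pb _ hZne (hctl (Subgroup.normalizer (R : Set G)) R Pb)
  -- the normal subgroup
  have hnormal : E.IsNormal (W.comap j) := by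
    apply isNormal_comap_of_conj E j hinj W (fun w hw => hPbj w (hWPb hw))
    intro Q' φ' hφ'
    obtain ⟨-, φ, hφ, hind⟩ := (hE.2.2.2 Q' φ').mp hφ'
    obtain ⟨hQP, hφP, g, hg⟩ := hφ
    obtain ⟨hP1, hφ1, hP1', hindeq⟩ := hind
    have hRQ : R ≤ preimageAlong (QuotientGroup.mk' (R.subgroupOf (P : Subgroup G))) Q' := by
      intro x hx
      rw [mem_preimageAlong]
      refine ⟨hRP hx, ?_⟩
      have : QuotientGroup.mk' (R.subgroupOf (P : Subgroup G)) ⟨x, hRP hx⟩ = 1 :=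
        (QuotientGroup.eq_one_iff _).mpr (Subgroup.mem_subgroupOf.mpr hx)
      rw [this]
      exact Q'.one_mem
    have hgK : g ∈ Subgroup.normalizer (R : Set G) := by
      apply mem_normalizer_of_finite
      intro y hy
      have h1 : conjHom R g ∈ (groupFusionSystem (P : Subgroup G)).Hom R := by
        refine ⟨hRP, fun x => ?_, g, fun x => rfl⟩
        have := hφP ⟨x, hRQ x.2⟩
        rw [hg] at this
        exact this
      exact hR.2 R le_rfl _ h1 ⟨y, hy⟩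
    have hstar2 : ∀ y : Q', j (φ' y) = q ⟨g, hgK⟩ * j y * (q ⟨g, hgK⟩)⁻¹ := by
      rintro ⟨y, hy⟩
      induction y using QuotientGroup.induction_on with
      | H x =>
        have xQ : (x : G) ∈ preimageAlong (QuotientGroup.mk' (R.subgroupOf (P : Subgroup G))) Q' :=
          (mem_preimageAlong _ _ _).mpr ⟨x.2, hy⟩
        have h1 := hindeq ⟨x, xQ⟩
        have h2 : j (φ' ⟨(x : (P : Subgroup G) ⧸ R.subgroupOf (P : Subgroup G)), hy⟩) =
            q ⟨φ ⟨x, xQ⟩, hPK (hφ1 ⟨x, xQ⟩)⟩ := congrArg j h1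
        rw [h2]
        show q ⟨φ ⟨x, xQ⟩, hPK (hφ1 ⟨x, xQ⟩)⟩ = q ⟨g, hgK⟩ * q ⟨x, hPK x.2⟩ * (q ⟨g, hgK⟩)⁻¹
        rw [← map_inv, ← map_mul, ← map_mul]
        apply congrArg q
        apply Subtype.ext
        exact hg ⟨x, xQ⟩
    have hA : j '' (Q' : Set _) ⊆ (Pb.toSubgroup : Set _) := by
      rintro _ ⟨y, -, rfl⟩
      exact hjPb y
    have hgA : ∀ a ∈ j '' (Q' : Set _), q ⟨g, hgK⟩ * a * (q ⟨g, hgK⟩)⁻¹ ∈ Pb.toSubgroup := by
      rintro _ ⟨y, hy, rfl⟩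
      rw [← hstar2 ⟨y, hy⟩]
      exact hjPb _
    obtain ⟨n, hn, hna⟩ := hWctl _ hA _ hgA
    obtain ⟨⟨k, hkK⟩, rfl⟩ := QuotientGroup.mk'_surjective _ n
    refine ⟨_, hn, fun y => ?_, ?_⟩
    · rw [hstar2]
      exact hna _ ⟨y, y.2, rfl⟩
    · have hB : ∀ y ∈ Q' ⊔ W.comap j, q ⟨k, hkK⟩ * j y * (q ⟨k, hkK⟩)⁻¹ ∈ Pb.toSubgroup := by
        let B : Subgroup ((P : Subgroup G) ⧸ R.subgroupOf (P : Subgroup G)) :=
          (Pb.toSubgroup.comap (MulAut.conj (q ⟨k, hkK⟩)).toMonoidHom).comap j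
        have hle : Q' ⊔ W.comap j ≤ B := by
          refine sup_le (fun y hy => ?_) (fun y hy => ?_)
          · show q ⟨k, hkK⟩ * j y * (q ⟨k, hkK⟩)⁻¹ ∈ Pb.toSubgroup
            rw [← hna _ ⟨y, hy, rfl⟩]
            exact hgA _ ⟨y, hy, rfl⟩
          · show q ⟨k, hkK⟩ * j y * (q ⟨k, hkK⟩)⁻¹ ∈ Pb.toSubgroup
            have hy' : j y ∈ W := hy
            exact hWPb ((Subgroup.mem_normalizer_iff.mp hn _).mp hy')
        exact fun y hy => hle hy
      have hψP : ∀ x : ↥(preimageAlong (QuotientGroup.mk' (R.subgroupOf (P : Subgroup G))) (Q' ⊔ W.comap j)),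
          k * (x : G) * k⁻¹ ∈ (P : Subgroup G) := by
        intro x
        obtain ⟨hxP, hx⟩ := (mem_preimageAlong _ _ _).mp x.2
        have h1 := hB _ hx
        apply hPb_of ⟨k * (x : G) * k⁻¹, Subgroup.mul_mem _ (Subgroup.mul_mem _ hkK (hPK hxP)) (Subgroup.inv_mem _ hkK)⟩
        rw [hj (x : G) hxP, ← map_inv, ← map_mul, ← map_mul] at h1
        exact h1
      have hψ : conjHom (preimageAlong (QuotientGroup.mk' (R.subgroupOf (P : Subgroup G))) (Q' ⊔ W.comap j)) k ∈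
          (groupFusionSystem (P : Subgroup G)).Hom _ :=
        ⟨preimageAlong_le _ _, hψP, k, fun x => rfl⟩
      obtain ⟨ψ'₀, hψ'₀, hindψ⟩ := (Cfsg.Agent.S5134.result p hS _ hF R hR _ E hE).1.2 _ _ hψ
      have himg : imageAlong (QuotientGroup.mk' (R.subgroupOf (P : Subgroup G)))
          (preimageAlong (QuotientGroup.mk' (R.subgroupOf (P : Subgroup G))) (Q' ⊔ W.comap j)) = Q' ⊔ W.comap j := by
        apply imageAlong_preimageAlong
        rw [hE.2.2.1]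
        exact le_top
      obtain ⟨ψ', hψ', hψ'eq⟩ := exists_cast_hom E himg hψ'₀
      refine ⟨ψ', hψ', ?_⟩
      obtain ⟨hP2, hφ2, hP2', hindeq2⟩ := hindψ
      rintro ⟨y, hy⟩
      induction y using QuotientGroup.induction_on with
      | H x =>
        have xQ : (x : G) ∈ preimageAlong (QuotientGroup.mk' (R.subgroupOf (P : Subgroup G))) (Q' ⊔ W.comap j) :=
          (mem_preimageAlong _ _ _).mpr ⟨x.2, hy⟩
        have h1 := hindeq2 ⟨x, xQ⟩
        have h0 := hψ'eq (x : (P : Subgroup G) ⧸ R.subgroupOf (P : Subgroup G)) (hP2' ⟨x, xQ⟩) hy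
        rw [h0]
        have h2 : j (ψ'₀ ⟨(x : (P : Subgroup G) ⧸ R.subgroupOf (P : Subgroup G)), hP2' ⟨x, xQ⟩⟩) =
            q ⟨k * (x : G) * k⁻¹, hPK (hφ2 ⟨x, xQ⟩)⟩ := congrArg j h1
        rw [h2]
        show q ⟨k * (x : G) * k⁻¹, hPK (hφ2 ⟨x, xQ⟩)⟩ = q ⟨k, hkK⟩ * q ⟨x, hPK x.2⟩ * (q ⟨k, hkK⟩)⁻¹
        rw [← map_inv, ← map_mul, ← map_mul]
        rfl
  -- conclusion
  intro hcore
  have hle : W.comap j ≤ E.core := le_sSup hnormal
  rw [hcore, le_bot_iff] at hle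
  apply hWne
  rw [Subgroup.eq_bot_iff_forall]
  intro w hw
  obtain ⟨a, rfl⟩ := hPbj w (hWPb hw)
  have ha : a ∈ W.comap j := hw
  rw [hle, Subgroup.mem_bot] at ha
  rw [ha, map_one]


/-- Let p be an odd prime, G a finite group in which Qd(p) (the natural semidirect product of an elementary abelian group of order p² by SL₂(p)) is not involved, and P a Sylow p-subgroup of G. Then the fusion system of G on P is a solvable fusion system. -/
theorem result {G : Type*} [Group G] [Finite G] {p : ℕ} [Fact p.Prime] (hp : p ≠ 2) (hqd : ¬ Cfsg.Involves ↥(Cfsg.qd p) G) (P : Sylow p G) : (Cfsg.groupFusionSystem (P : Subgroup G)).IsSolvableSystem := by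
  intro R hR hRne _ E hE
  exact core_ne_bot_aux P (fun K R _ T => (Cfsg.Agent.S2794.result hp).mp hqd K R T) R hR hRne E hE

end Cfsg.Agent.S5249
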