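-- Statement S5251: a centric subgroup meeting a normal subsystem non-centrically is not radical.
import Cfsg.Statements.S5251
import Cfsg.Agent.S5107
import Cfsg.Agent.Lib.Cores
import Cfsg.Agent.Helper87.FusionExtend
import Cfsg.Agent.Helper87.FusionRS
import Cfsg.Agent.Helper87.FusionRadical

set_option autoImplicit false
open Cfsg

namespace Cfsg.Agent.S5251

open Cfsg.FusionSystem Cfsg.Agent.Helper87 Cfsg.Agent.Lib

section transport

theorem pCore_map_equiv_le {X Y : Type*} [Group X] [Group Y] (p : ℕ) (e : X ≃* Y) :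
    (pCore p X).map e.toMonoidHom ≤ pCore p Y := by
  apply le_pCore
  · haveI : (pCore p X).Characteristic := pCore_characteristic p
    have : (pCore p X).Normal := inferInstance
    exact this.map _ e.surjective
  · exact (isPGroup_pCore p).map _

/-- `O_p` is invariant under isomorphisms. -/
theorem pCore_map_equiv {X Y : Type*} [Group X] [Group Y] (p : ℕ) (e : X ≃* Y) :
    (pCore p X).map e.toMonoidHom = pCore p Y := by
  apply le_antisymm (pCore_map_equiv_le p e)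
  have h := Subgroup.map_mono (f := e.toMonoidHom) (pCore_map_equiv_le p e.symm)
  rw [Subgroup.map_map] at h
  have : e.toMonoidHom.comp e.symm.toMonoidHom = MonoidHom.id Y := by
    ext y; simp
  rwa [this, Subgroup.map_id] at h

/-- Transport along an isomorphism carries inner automorphisms to inner automorphisms. -/
theorem inn_map_congr {P R : Type*} [Group P] [Group R] (e : P ≃* R) :
    (Inn P).map ((MulAut.congr e : MulAut P ≃* MulAut R) : MulAut P →* MulAut R) = Inn R := by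
  ext γ
  constructor
  · rintro ⟨_, ⟨u, rfl⟩, rfl⟩
    refine ⟨e u, ?_⟩
    ext y
    simp [MulAut.congr]
  · rintro ⟨v, rfl⟩
    refine ⟨MulAut.conj (e.symm v), ⟨_, rfl⟩, ?_⟩
    ext y
    simp [MulAut.congr]

variable {Ω : Type*} [Group Ω] {S : Subgroup Ω}

/-- Being radical is invariant under isomorphisms of the system. -/
theorem isRadical_of_isIso {p : ℕ} (F : FusionSystem S) {P R : Subgroup Ω} (e : P ≃* R) (he : IsIso F e)
    (hP : F.IsRadical p P) : F.IsRadical p R := by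
  refine ⟨he.le_right, ?_⟩
  have hmap := map_congr_autGroup F e he
  let Ψ : F.autGroup P ≃* F.autGroup R :=
    ((MulAut.congr e : MulAut P ≃* MulAut R).subgroupMap (F.autGroup P)).trans (MulEquiv.subgroupCongr hmap)
  have h1 : (pCore p (F.autGroup P)).map Ψ.toMonoidHom = pCore p (F.autGroup R) := pCore_map_equiv p Ψ
  rw [← h1, Subgroup.map_map]
  have h2 : (F.autGroup R).subtype.comp Ψ.toMonoidHom =
      ((MulAut.congr e : MulAut P ≃* MulAut R) : MulAut P →* MulAut R).comp (F.autGroup P).subtype := by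
    ext a
    rfl
  rw [h2, ← Subgroup.map_map, hP.2, inn_map_congr]

end transport

variable {Ω : Type*} [Group Ω] {S : Subgroup Ω}

/-- If `T` is strongly closed and `C_T(P ∩ T) ≰ P ∩ T`, then some `x ∈ N_S(P) \ P` induces an automorphism of `P` lying in
`O_p(Aut_F(P))`. -/
theorem exists_conj_mem_pCore [Finite S] {p : ℕ} [Fact p.Prime] (hS : IsPGroup p S) (F : FusionSystem S)
    {T : Subgroup Ω} (hT : F.StronglyClosed T) {P : Subgroup Ω} (hPS : P ≤ S)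
    (hC : ¬ centralizerIn T (P ⊓ T) ≤ P ⊓ T) :
    ∃ x ∈ S ⊓ Subgroup.normalizer (P : Set Ω), x ∉ P ∧
      ∃ α ∈ ((pCore p (F.autGroup P)).map (F.autGroup P).subtype : Subgroup (MulAut P)),
        ∀ y : P, ((α y : P) : Ω) = x * (y : Ω) * x⁻¹ := by
  have hTS : T ≤ S := hT.1
  have hTn : ∀ g ∈ S, ∀ t ∈ T, g * t * g⁻¹ ∈ T := fun g hg t ht => conj_mem_of_stronglyClosed F hT hg ht
  have hCS : centralizerIn T (P ⊓ T) ≤ S := inf_le_left.trans hTS
  -- `C_T(P ∩ T) ≰ P`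
  have hnot : ¬ centralizerIn T (P ⊓ T) ≤ P := fun h => hC (le_inf h inf_le_left)
  -- `P` normalizes `C_T(P ∩ T)`
  have hPC : P ≤ Subgroup.normalizer (centralizerIn T (P ⊓ T) : Set Ω) := by
    have key : ∀ g ∈ P, ∀ c ∈ centralizerIn T (P ⊓ T), g * c * g⁻¹ ∈ centralizerIn T (P ⊓ T) := by
      intro g hg c hc
      refine ⟨hTn g (hPS hg) c hc.1, ?_⟩
      show g * c * g⁻¹ ∈ Subgroup.centralizer ((P ⊓ T : Subgroup Ω) : Set Ω)
      rw [Subgroup.mem_centralizer_iff]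
      intro q hq
      have hq' : g⁻¹ * q * g ∈ P ⊓ T := by
        refine ⟨P.mul_mem (P.mul_mem (P.inv_mem hg) hq.1) hg, ?_⟩
        have := hTn g⁻¹ (S.inv_mem (hPS hg)) q hq.2
        rwa [inv_inv] at this
      have hcomm := Subgroup.mem_centralizer_iff.mp hc.2 _ hq'
      calc q * (g * c * g⁻¹) = g * ((g⁻¹ * q * g) * c) * g⁻¹ := by group
        _ = g * (c * (g⁻¹ * q * g)) * g⁻¹ := by rw [hcomm]
        _ = g * c * g⁻¹ * q := by group
    intro g hg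
    apply mem_normalizer_of_conj_mem_of_inv_conj_mem (key g hg)
    intro c hc
    have := key g⁻¹ (P.inv_mem hg) c hc
    rwa [inv_inv] at this
  obtain ⟨x, hxC, hxN, hxP⟩ := exists_mem_normalizer_not_mem hS hPS hCS hPC hnot
  have hxT : x ∈ T := hxC.1
  have hxS : x ∈ S := hTS hxT
  have hxc : x ∈ Subgroup.centralizer ((P ⊓ T : Subgroup Ω) : Set Ω) := hxC.2
  have hαA : conjAut P x hxN ∈ F.autGroup P := (mem_autGroup_iff F hPS _).mpr (isIso_conjAut F hPS hxS hxN)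
  refine ⟨x, ⟨hxS, hxN⟩, hxP, conjAut P x hxN, ?_, fun y => conjAut_apply P x hxN y⟩
  have : Finite (P ⊓ T : Subgroup Ω) := finite_of_le (inf_le_left.trans hPS)
  have hZp : IsPGroup p (P ⊓ T : Subgroup Ω) := hS.to_le (inf_le_left.trans hPS)
  have hinv : ∀ β ∈ F.autGroup P, ∀ y : P, (y : Ω) ∈ P ⊓ T → ((β y : P) : Ω) ∈ P ⊓ T := by
    intro β hβ y hy
    exact ⟨(β y).2, aut_mem_of_stronglyClosed F hT hPS hβ y hy.2⟩
  have hle := Cfsg.Agent.S5107.chainStab_le_pCore (p := p) P (F.autGroup P) (P ⊓ T) inf_le_left hZp hinv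
  refine ⟨⟨conjAut P x hxN, hαA⟩, hle ?_, rfl⟩
  rw [Cfsg.Agent.S5107.mem_chainStab_iff]
  constructor
  · intro y hy
    apply Subtype.ext
    show ((conjAut P x hxN y : P) : Ω) = y
    rw [conjAut_apply]
    have := Subgroup.mem_centralizer_iff.mp hxc _ hy
    rw [← this]
    group
  · intro y
    show (y : Ω)⁻¹ * ((conjAut P x hxN y : P) : Ω) ∈ P ⊓ T
    refine ⟨P.mul_mem (P.inv_mem y.2) (conjAut P x hxN y).2, ?_⟩
    rw [conjAut_apply]
    have h1 : (y : Ω)⁻¹ * x * ((y : Ω)⁻¹)⁻¹ ∈ T := hTn _ (S.inv_mem (hPS y.2)) x hxT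
    have h2 : (y : Ω)⁻¹ * (x * (y : Ω) * x⁻¹) = ((y : Ω)⁻¹ * x * ((y : Ω)⁻¹)⁻¹) * x⁻¹ := by group
    rw [h2]
    exact T.mul_mem h1 (T.inv_mem hxT)

/-- Let F be a saturated fusion system over a finite p-group S, E a normal subsystem of F over T, and P an F-centric subgroup of S such that P ∩ T is not E-centric. Then some F-conjugate P* of P satisfies Out_S(P*) ∩ O_p(Out_F(P*)) ≠ 1: there is an element of N_S(P*) outside P* whose conjugation action on P* lies in O_p(Aut_F(P*)). In particular P is not both centric and radical in F. -/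
theorem result {Ω : Type*} [Group Ω] {S : Subgroup Ω} [Finite S] (p : ℕ) [Fact p.Prime] (hS : IsPGroup p S) (F : Cfsg.FusionSystem S) (hF : F.IsSaturated p) {T : Subgroup Ω} (E : Cfsg.FusionSystem T) (hE : E.IsNormalIn F p) (P : Subgroup Ω) (hP : F.IsCentric P) (hPT : ¬ E.IsCentric (P ⊓ T)) : (∃ φ ∈ F.Hom P, ∃ x ∈ S ⊓ Subgroup.normalizer (φ.range : Set Ω), x ∉ φ.range ∧ ∃ α ∈ ((Cfsg.pCore p ↥(F.autGroup φ.range)).map (F.autGroup φ.range).subtype : Subgroup (MulAut ↥φ.range)), ∀ y : ↥φ.range, ((α y : ↥φ.range) : Ω) = x * (y : Ω) * x⁻¹) ∧ ¬ F.IsRadical p P := by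
  have hEF : E.IsSubsystemOf F := hE.1.2.2.1
  have hT : F.StronglyClosed T := hE.1.2.2.2.1
  have hTS : T ≤ S := hT.1
  have hPS : P ≤ S := hP.1
  have hTn : ∀ g ∈ S, ∀ t ∈ T, g * t * g⁻¹ ∈ T := fun g hg t ht => conj_mem_of_stronglyClosed F hT hg ht
  -- Step A: an `E`-conjugate `R` of `P ∩ T` with `C_T(R) ≰ R`
  have hPT' : ∃ R, E.IsConj (P ⊓ T) R ∧ ¬ centralizerIn T R ≤ R := by
    by_contra hcon
    push Not at hcon
    exact hPT ⟨inf_le_right, hcon⟩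
  obtain ⟨R, ⟨ψ₀, hψ₀E, hψ₀R⟩, hR⟩ := hPT'
  have hψ₀F : ψ₀ ∈ F.Hom (P ⊓ T) := hEF _ hψ₀E
  have hconjR : F.IsConj (P ⊓ T) R := ⟨ψ₀, hψ₀F, hψ₀R⟩
  have hRS : R ≤ S := by
    rw [← hψ₀R]
    rintro _ ⟨y, rfl⟩
    exact (F.le_of_mem hψ₀F).2 y
  -- Step B: a fully automized receptive conjugate `Q'`
  obtain ⟨Q', hRQ', hQ'a, hQ'r⟩ := hF R hRS
  obtain ⟨e₁, he₁⟩ := (isConj_iff F R Q').mp hRQ'
  obtain ⟨e₂, he₂⟩ := (isConj_iff F (P ⊓ T) Q').mp (isConj_trans F hconjR hRQ')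
  -- Step C: `C_T(Q') ≰ Q'`
  have hQ'C : ∃ c', c' ∈ centralizerIn T Q' ∧ c' ∉ Q' := by
    obtain ⟨φ₁, hφ₁, e₁', he₁', hφ₁x, -, hφ₁C, hφ₁Q⟩ := exists_extension_normalizerIn' hS F hQ'a hQ'r e₁ he₁
    obtain ⟨c, hcC, hcR⟩ := SetLike.not_le_iff_exists.mp hR
    have hcS : c ∈ centralizerIn S R := ⟨hTS hcC.1, hcC.2⟩
    have hcN : c ∈ normalizerIn S R := centralizerIn_le_normalizerIn S R hcS
    refine ⟨φ₁ ⟨c, hcN⟩, ⟨?_, (hφ₁C ⟨c, hcN⟩ hcS).2⟩, fun h => hcR (hφ₁Q ⟨c, hcN⟩ h)⟩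
    have h2 := restrict_mem F hφ₁ (inf_le_left : normalizerIn S R ⊓ T ≤ normalizerIn S R)
    exact hT.2 (normalizerIn S R ⊓ T) inf_le_right _ h2 ⟨c, hcN, hcC.1⟩
  obtain ⟨c', hc'C, hc'Q⟩ := hQ'C
  -- Step D: move `P` so that `P ∩ T` becomes `Q'`
  obtain ⟨φ₂, hφ₂, e₂', he₂', hφ₂x, -, -, hφ₂Q⟩ := exists_extension_normalizerIn' hS F hQ'a hQ'r e₂ he₂
  have hPN : P ≤ normalizerIn S (P ⊓ T) := by
    intro g hg
    refine ⟨hPS hg, ?_⟩
    apply mem_normalizer_of_conj_mem_of_inv_conj_mem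
    · intro y hy
      exact ⟨P.mul_mem (P.mul_mem hg hy.1) (P.inv_mem hg), hTn g (hPS hg) y hy.2⟩
    · intro y hy
      refine ⟨P.mul_mem (P.mul_mem (P.inv_mem hg) hy.1) hg, ?_⟩
      have := hTn g⁻¹ (S.inv_mem (hPS hg)) y hy.2
      rwa [inv_inv] at this
  set φ : P →* Ω := φ₂.comp (Subgroup.inclusion hPN) with hφdef
  have hφ : φ ∈ F.Hom P := restrict_mem F hφ₂ hPN
  have hφS : φ.range ≤ S := by
    rintro _ ⟨y, rfl⟩
    exact (F.le_of_mem hφ).2 y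
  -- `φ x ∈ T → x ∈ T`
  have hback : ∀ x : P, φ x ∈ T → (x : Ω) ∈ T := by
    intro x hx
    obtain ⟨ψ, hψ, hψx⟩ := F.inv_mem hφ
    have h2 := restrict_mem F hψ (inf_le_left : φ.range ⊓ T ≤ φ.range)
    have h3 := hT.2 (φ.range ⊓ T) inf_le_right _ h2 ⟨φ x, ⟨x, rfl⟩, hx⟩
    have h4 : (ψ.comp (Subgroup.inclusion (inf_le_left : φ.range ⊓ T ≤ φ.range))) ⟨φ x, ⟨x, rfl⟩, hx⟩ = (x : Ω) :=
      hψx x
    rwa [h4] at h3
  have hQ'T : Q' ≤ T := by
    intro y hy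
    have h1 := hφ₂x (e₂'.symm ⟨y, hy⟩)
    rw [MulEquiv.apply_symm_apply] at h1
    have h2 := restrict_mem F hφ₂ (le_normalizerIn he₂.le_left : P ⊓ T ≤ normalizerIn S (P ⊓ T))
    have h3 := hT.2 (P ⊓ T) inf_le_right _ h2 (e₂'.symm ⟨y, hy⟩)
    have h4 : (φ₂.comp (Subgroup.inclusion (le_normalizerIn he₂.le_left : P ⊓ T ≤ normalizerIn S (P ⊓ T))))
        (e₂'.symm ⟨y, hy⟩) = y := h1
    rwa [h4] at h3
  have hinf : φ.range ⊓ T = Q' := by
    apply le_antisymm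
    · rintro y ⟨⟨x, rfl⟩, hyT⟩
      have hxT := hback x hyT
      have h1 : φ x = e₂' ⟨x, x.2, hxT⟩ := by
        rw [← hφ₂x]
        rfl
      rw [h1]
      exact (e₂' _).2
    · intro y hy
      refine ⟨?_, hQ'T hy⟩
      have h1 := hφ₂x (e₂'.symm ⟨y, hy⟩)
      rw [MulEquiv.apply_symm_apply] at h1
      exact ⟨⟨(e₂'.symm ⟨y, hy⟩ : Ω), (e₂'.symm ⟨y, hy⟩).2.1⟩, h1⟩
  have hC : ¬ centralizerIn T (φ.range ⊓ T) ≤ φ.range ⊓ T := by
    rw [hinf]
    exact fun h => hc'Q (h hc'C)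
  obtain ⟨x, hxN, hxP, α, hα, hαx⟩ := exists_conj_mem_pCore hS F hT hφS hC
  refine ⟨⟨φ, hφ, x, hxN, hxP, α, hα, hαx⟩, fun hrad => ?_⟩
  -- `P` radical ⟹ `φ(P)` radical ⟹ `α` inner ⟹ `x ∈ φ(P)`
  have hrad' : F.IsRadical p φ.range := isRadical_of_isIso F _ (isIso_ofInjective F hφ) hrad
  rw [hrad'.2] at hα
  obtain ⟨r, hr⟩ := hα
  have hcen : centralizerIn S φ.range ≤ φ.range := hP.2 φ.range ⟨φ, hφ, rfl⟩
  refine hxP (mem_of_conj_eq_inner hcen hxN.1 hφS r (fun y => ?_))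
  rw [← hαx y, ← hr]
  rfl

end Cfsg.Agent.S5251
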