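-- Statement S5265: S ≠ 1, F saturated with O_p(F) = 1 and hyp(F) = S, |S : Z(S)| ≤ p² ⟹ S extraspecial of order p³,
-- of exponent p for odd p and dihedral of order 8 for p = 2.
import Cfsg.Statements.S5265
import Cfsg.Agent.Helper86.SCIOdd
import Cfsg.Agent.Helper86.SCITwoMain
import Cfsg.Agent.S0206
import Cfsg.Agent.Helper47.Frattini
import Cfsg.Agent.Helper2.Basic

set_option autoImplicit false
open Cfsg

namespace Cfsg.Agent.S5265

open Cfsg.FusionSystem Cfsg.Agent.Helper87 Cfsg.Agent.Helper86
open scoped commutatorElement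

/-- In a nonabelian group whose centre has index `p²`, `p`-th powers are central. -/
theorem pow_mem_center {G : Type*} [Group G] [Finite G] {p : ℕ} [hp : Fact p.Prime] (hna : ¬ IsMulCommutative G)
    (hZ : (Subgroup.center G).index = p ^ 2) (a : G) : a ^ p ∈ Subgroup.center G := by
  by_contra hcon
  have hcard : Nat.card (G ⧸ Subgroup.center G) = p ^ 2 := by
    rw [← Subgroup.index_eq_card]
    exact hZ
  have h1 : (QuotientGroup.mk' (Subgroup.center G) a) ^ p ≠ 1 := by
    intro h
    apply hcon
    rw [← map_pow] at h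
    exact (QuotientGroup.eq_one_iff _).mp h
  have h2 : orderOf (QuotientGroup.mk' (Subgroup.center G) a) ∣ p ^ 2 := by
    rw [← hcard]
    exact orderOf_dvd_natCard _
  obtain ⟨i, hi, hio⟩ := (Nat.dvd_prime_pow hp.out).mp h2
  have hi2 : i = 2 := by
    by_contra hne
    have hi1 : i ≤ 1 := by omega
    apply h1
    apply orderOf_dvd_iff_pow_eq_one.mp
    rw [hio]
    calc p ^ i ∣ p ^ 1 := pow_dvd_pow p hi1
      _ = p := pow_one p
  rw [hi2, ← hcard] at hio
  haveI : IsCyclic (G ⧸ Subgroup.center G) := isCyclic_of_orderOf_eq_card _ hio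
  exact hna (MonoidHom.isMulCommutative_of_isCyclic_of_ker_le_center (QuotientGroup.mk' (Subgroup.center G))
    (by rw [QuotientGroup.ker_mk']))

/-- Let p be a prime, S a nontrivial finite p-group whose centre has index at most p², and F a saturated fusion system over S with no nontrivial normal subgroup and with hyperfocal subgroup equal to S. Then S is extraspecial of order p³; for odd p it has exponent p, and for p = 2 it is dihedral of order 8. -/
theorem result {Ω : Type*} [Group Ω] {S : Subgroup Ω} [Finite S] (p : ℕ) [Fact p.Prime] (hS : IsPGroup p ↥S) (F : Cfsg.FusionSystem S) (hF : F.IsSaturated p) (hS1 : S ≠ ⊥) (hcore : F.core = ⊥) (hhyp : F.hyperfocalSubgroup p = S) (hZ : (Subgroup.center ↥S).index ≤ p ^ 2) : Cfsg.IsExtraspecial p ↥S ∧ Nat.card S = p ^ 3 ∧ (p ≠ 2 → Monoid.exponent ↥S = p) ∧ (p = 2 → Nonempty (↥S ≃* DihedralGroup 4)) := by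
  have hpp : p.Prime := Fact.out
  have hna := not_comm_of_core_bot hS F hF hS1 hcore
  have hZ2 := center_index_eq hS hna hZ
  have hfinZ : Finite (cen S) := finite_of_le (cen_le S)
  -- the centre is nontrivial
  haveI hnt : Nontrivial ↥S := by
    by_contra hnt
    rw [not_nontrivial_iff_subsingleton] at hnt
    apply hna
    rw [isMulCommutative_iff]
    intro a b
    exact Subsingleton.elim _ _
  have hcardZ : Nat.card (cen S) = p := by
    have hle : Nat.card (cen S) ≤ p := by
      by_cases hp2 : p = 2
      · subst hp2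
        exact (two_main hS F hF hS1 hcore hhyp hna hZ2).1.le
      · exact card_cen_le_of_odd hp2 hS F hF hS1 hcore hna hZ2
    obtain ⟨k, hk⟩ := IsPGroup.iff_card.mp (hS.to_le (cen_le S))
    have hk0 : k ≠ 0 := by
      rintro rfl
      rw [pow_zero] at hk
      haveI : Nontrivial (Subgroup.center ↥S) := hS.center_nontrivial
      have h1 : Nat.card (Subgroup.center ↥S) = 1 := by
        rw [← cen_subgroupOf_eq_center, ← hk]
        exact Nat.card_congr (Subgroup.subgroupOfEquivOfLe (cen_le S)).toEquiv
      have h2 := Finite.one_lt_card (α := Subgroup.center ↥S)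
      omega
    rw [hk] at hle ⊢
    have hk1 : k ≤ 1 := by
      have : p ^ k ≤ p ^ 1 := by rw [pow_one]; exact hle
      exact (Nat.pow_le_pow_iff_right hpp.one_lt).mp this
    have : k = 1 := by omega
    rw [this, pow_one]
  have hcZ : Nat.card (Subgroup.center ↥S) = p := by
    rw [← cen_subgroupOf_eq_center, ← hcardZ]
    exact Nat.card_congr (Subgroup.subgroupOfEquivOfLe (cen_le S)).toEquiv
  have hcardS : Nat.card S = p ^ 3 := by
    have := Subgroup.card_mul_index (Subgroup.center ↥S)
    rw [hcZ, hZ2] at this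
    rw [← this]
    ring
  -- extraspecial
  have hcomle : commutator ↥S ≤ Subgroup.center ↥S := commutator_le_center hZ2
  have hcomne : commutator ↥S ≠ ⊥ := by
    intro h
    apply hna
    rw [isMulCommutative_iff]
    intro a b
    have : ⁅a, b⁆ ∈ commutator ↥S :=
      Subgroup.commutator_mem_commutator (Subgroup.mem_top a) (Subgroup.mem_top b)
    rw [h, Subgroup.mem_bot, commutatorElement_eq_one_iff_mul_comm] at this
    exact this
  have hcomeq : commutator ↥S = Subgroup.center ↥S := by
    have hd : Nat.card (commutator ↥S) ∣ p := hcZ ▸ Subgroup.card_dvd_of_le hcomle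
    rcases (Nat.dvd_prime hpp).1 hd with h1 | h1
    · exact absurd (Subgroup.card_eq_one.1 h1) hcomne
    · exact Subgroup.eq_of_le_of_card_ge hcomle (by rw [hcZ, h1])
  haveI : Group.IsNilpotent ↥S := hS.isNilpotent
  have hfr : frattini ↥S = Subgroup.center ↥S := by
    apply le_antisymm
    · apply Cfsg.Agent.Helper47.frattini_le_of_commutator_pow_mem (p := p)
      · intro a b
        exact hcomle (Subgroup.commutator_mem_commutator (Subgroup.mem_top a) (Subgroup.mem_top b))
      · intro a
        exact pow_mem_center hna hZ2 a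
    · rw [← hcomeq]
      exact Cfsg.Agent.Helper2.commutator_le_frattini
  refine ⟨⟨⟨hS, hfr, hcomeq⟩, hcZ⟩, hcardS, ?_, ?_⟩
  · intro hp2
    have hpow := pow_eq_one_of_odd hp2 hS F hF hS1 hcore hna hZ2 hcardZ
    have hdvd : Monoid.exponent ↥S ∣ p := Monoid.exponent_dvd_of_forall_pow_eq_one hpow
    rcases (Nat.dvd_prime hpp).1 hdvd with h1 | h1
    · exfalso
      have := Monoid.exp_eq_one_iff.mp h1
      exact not_subsingleton ↥S this
    · exact h1
  · intro hp2
    subst hp2
    obtain ⟨-, x, hxS, y, hyS, hx2, hy2, hxy⟩ := two_main hS F hF hS1 hcore hhyp hna hZ2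
    obtain ⟨a, ha⟩ : ∃ a : S, a = ⟨x, hxS⟩ := ⟨_, rfl⟩
    obtain ⟨b, hb⟩ : ∃ b : S, b = ⟨y, hyS⟩ := ⟨_, rfl⟩
    have ha2 : a * a = 1 := by rw [ha]; exact Subtype.ext hx2
    have hb2 : b * b = 1 := by rw [hb]; exact Subtype.ext hy2
    have hab : a * b ≠ b * a := by
      intro h
      apply hxy
      have := congrArg Subtype.val h
      rw [ha, hb] at this
      exact this
    have ha1 : a ≠ 1 := by
      rintro rfl
      exact hab (by rw [one_mul, mul_one])
    have hb1 : b ≠ 1 := by
      rintro rfl
      exact hab (by rw [one_mul, mul_one])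
    have hoa : orderOf a = 2 := orderOf_eq_prime (by rw [pow_two]; exact ha2) ha1
    have hob : orderOf b = 2 := orderOf_eq_prime (by rw [pow_two]; exact hb2) hb1
    have hne : a ≠ b := by
      rintro rfl
      exact hab rfl
    have hainv : a⁻¹ = a := inv_eq_of_mul_eq_one_left ha2
    have hbinv : b⁻¹ = b := inv_eq_of_mul_eq_one_left hb2
    -- `(a b)² = [a, b]` is central of order `2`
    have hcomm : (a * b) ^ 2 = ⁅a, b⁆ := by
      rw [commutatorElement_def, hainv, hbinv, pow_two]
      group
    have hc : ⁅a, b⁆ ∈ Subgroup.center ↥S :=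
      hcomle (Subgroup.commutator_mem_commutator (Subgroup.mem_top a) (Subgroup.mem_top b))
    have h4 : (a * b) ^ 2 ^ 2 = 1 := by
      rw [pow_two 2, pow_mul, hcomm]
      have h1 : (⟨⁅a, b⁆, hc⟩ : Subgroup.center ↥S) ^ 2 = 1 := by
        rw [← hcZ]
        exact pow_card_eq_one'
      have := congrArg Subtype.val h1
      rw [Subgroup.coe_pow] at this
      exact this
    have h2 : (a * b) ^ 2 ^ 1 ≠ 1 := by
      rw [pow_one, hcomm]
      intro h
      exact hab (commutatorElement_eq_one_iff_mul_comm.mp h)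
    have hoab : orderOf (a * b) = 4 := by
      have := orderOf_eq_prime_pow h2 h4
      rw [this]
      norm_num
    obtain ⟨e⟩ := Cfsg.Agent.S0206.result a b hoa hob hne
    rw [hoab] at e
    have hcardcl : Nat.card (Subgroup.closure ({a, b} : Set ↥S)) = 8 := by
      rw [Nat.card_congr e.toEquiv, DihedralGroup.nat_card]
    have htop : Subgroup.closure ({a, b} : Set ↥S) = ⊤ := by
      rw [← Subgroup.card_eq_iff_eq_top, hcardcl, hcardS]
      norm_num
    exact ⟨(Subgroup.topEquiv.symm.trans (MulEquiv.subgroupCongr htop.symm)).trans e⟩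

end Cfsg.Agent.S5265
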