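import Cfsg.Statements.S5270
import Cfsg.Agent.Helper51.MaxClassZ2
import Cfsg.Agent.Helper51.FusZ2

set_option autoImplicit false
open Cfsg

namespace Cfsg.Agent.S5270

open Cfsg.FusionSystem Cfsg.Agent.Helper87 Cfsg.Agent.Helper51.FusZ2 Cfsg.Agent.Helper51.MaxClassZ2

/-- Let p ≥ 5 be a prime, S a finite p-group of maximal class of order p^n with n ≥ 4, and F a saturated fusion system over S. If some map of F defined on the second centre Z₂(S) with image Z₂(S) does not carry Z(S) into itself, then the centralizer C_S(Z₂(S)) is an F-essential subgroup. -/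
theorem result {Ω : Type*} [Group Ω] {S : Subgroup Ω} [Finite S] (p : ℕ) [Fact p.Prime] (hS : IsPGroup p ↥S) (n : ℕ) (hn : Nat.card S = p ^ n) (h4 : 4 ≤ n) (hmax : Subgroup.lowerCentralSeries S (n - 2) ≠ ⊥) (F : Cfsg.FusionSystem S) (hF : F.IsSaturated p) (hp : 5 ≤ p) (φ : ↥((Subgroup.upperCentralSeries ↥S 2).map S.subtype) →* Ω) (hφ : φ ∈ F.Hom ((Subgroup.upperCentralSeries ↥S 2).map S.subtype)) (hφZ : φ.range = ((Subgroup.upperCentralSeries ↥S 2).map S.subtype)) (hmove : ∃ (z : Ω) (hz : z ∈ ((Subgroup.upperCentralSeries ↥S 2).map S.subtype)), z ∈ ((Subgroup.center ↥S).map S.subtype) ∧ φ ⟨z, hz⟩ ∉ ((Subgroup.center ↥S).map S.subtype)) : F.IsEssential p (S ⊓ Subgroup.centralizer (((Subgroup.upperCentralSeries ↥S 2).map S.subtype) : Set Ω)) := by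
  have hnil : Group.IsNilpotent ↥S := hS.isNilpotent
  -- the class of `S` is at least `n - 1`
  have hcl : n - 1 ≤ Group.nilpotencyClass ↥S := by
    by_contra hlt
    have h1 : Group.nilpotencyClass ↥S ≤ n - 2 := by omega
    have h2 := Subgroup.lowerCentralSeries_eq_bot_iff_nilpotencyClass_le.mpr h1
    apply hmax
    rw [← Subgroup.top_subtype_lowerCentralSeries, h2, Subgroup.map_bot]
  obtain ⟨hZ1, hZ2⟩ := card_center_and_second hn h4 hcl
  obtain ⟨hab, hCtop, hCmax⟩ := centralizer_second_center hZ1 hZ2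
  generalize hZ2def : Subgroup.upperCentralSeries ↥S 2 = Z2 at *
  generalize hTdef : Z2.map S.subtype = T at *
  generalize hZdef : (Subgroup.center ↥S).map S.subtype = Z at *
  have hTS : T ≤ S := by rw [← hTdef]; exact Subgroup.map_subtype_le _
  have hmemT : ∀ y : Ω, y ∈ T ↔ ∃ hy : y ∈ S, (⟨y, hy⟩ : ↥S) ∈ Z2 := by
    intro y
    constructor
    · rw [← hTdef]
      rintro ⟨y', hy', rfl⟩
      exact ⟨y'.2, hy'⟩
    · rintro ⟨hy, hy'⟩
      rw [← hTdef]
      exact ⟨⟨y, hy⟩, hy', rfl⟩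
  have hmemZ : ∀ y : Ω, y ∈ Z ↔ ∃ hy : y ∈ S, (⟨y, hy⟩ : ↥S) ∈ Subgroup.center ↥S := by
    intro y
    constructor
    · rw [← hZdef]
      rintro ⟨y', hy', rfl⟩
      exact ⟨y'.2, hy'⟩
    · rintro ⟨hy, hy'⟩
      rw [← hZdef]
      exact ⟨⟨y, hy⟩, hy', rfl⟩
  -- membership in `C_S(T)`
  have hmemC : ∀ g : Ω, g ∈ centralizerIn S T ↔
      ∃ hg : g ∈ S, (⟨g, hg⟩ : ↥S) ∈ Subgroup.centralizer (Z2 : Set ↥S) := by
    intro g
    constructor
    · intro hg
      refine ⟨hg.1, ?_⟩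
      rw [Subgroup.mem_centralizer_iff]
      intro y hy
      apply Subtype.ext
      exact Subgroup.mem_centralizer_iff.mp hg.2 (y : Ω) ((hmemT _).mpr ⟨y.2, hy⟩)
    · rintro ⟨hg, hg'⟩
      refine Subgroup.mem_inf.mpr ⟨hg, ?_⟩
      rw [Subgroup.mem_centralizer_iff]
      intro y hy
      obtain ⟨hyS, hy'⟩ := (hmemT y).mp hy
      exact congrArg Subtype.val (Subgroup.mem_centralizer_iff.mp hg' ⟨y, hyS⟩ hy')
  have hTn : S ≤ Subgroup.normalizer (T : Set Ω) := by
    have hnorm : Z2.Normal := by rw [← hZ2def]; infer_instance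
    have key : ∀ g ∈ S, ∀ x ∈ T, g * x * g⁻¹ ∈ T := by
      intro g hg x hx
      obtain ⟨hxS, hx'⟩ := (hmemT x).mp hx
      refine (hmemT _).mpr ⟨S.mul_mem (S.mul_mem hg hxS) (S.inv_mem hg), ?_⟩
      exact hnorm.conj_mem ⟨x, hxS⟩ hx' ⟨g, hg⟩
    intro g hg
    rw [Subgroup.mem_normalizer_iff]
    intro x
    constructor
    · exact key g hg x
    · intro hx
      have := key g⁻¹ (S.inv_mem hg) _ hx
      have e : g⁻¹ * (g * x * g⁻¹) * g⁻¹⁻¹ = x := by group
      rwa [e] at this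
  have hTab : T ≤ Subgroup.centralizer (T : Set Ω) := by
    intro x hx
    obtain ⟨hxS, hx'⟩ := (hmemT x).mp hx
    have h1 : x ∈ centralizerIn S T := (hmemC x).mpr ⟨hxS, hab hx'⟩
    exact h1.2
  -- invariance of the centre under maps of `F` defined on `S`
  have hZinv : ∀ ψ : S →* Ω, ψ ∈ F.Hom S → ∀ x : S, (x : Ω) ∈ Z ↔ ψ x ∈ Z := by
    intro ψ hψ x
    have hval : ∀ s : S, ψ s ∈ S := (F.le_of_mem hψ).2
    let ψ' : S →* S := ψ.codRestrict S hval
    have hinj : Function.Injective ψ' := by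
      intro a b hab'
      exact F.injective_of_mem hψ (congrArg Subtype.val hab')
    have hsurj : Function.Surjective ψ' := Finite.injective_iff_surjective.mp hinj
    constructor
    · intro hx
      obtain ⟨hxS, hx'⟩ := (hmemZ _).mp hx
      refine (hmemZ _).mpr ⟨hval x, ?_⟩
      rw [Subgroup.mem_center_iff]
      intro s
      obtain ⟨s', rfl⟩ := hsurj s
      show ψ' s' * ψ' x = ψ' x * ψ' s'
      rw [← map_mul, ← map_mul]
      congr 1
      exact Subgroup.mem_center_iff.mp hx' s'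
    · intro hx
      obtain ⟨hxS, hx'⟩ := (hmemZ _).mp hx
      refine (hmemZ _).mpr ⟨x.2, ?_⟩
      rw [Subgroup.mem_center_iff]
      intro s
      apply hinj
      rw [map_mul, map_mul]
      exact Subgroup.mem_center_iff.mp hx' (ψ' s)
  have hmaxC : ∀ N : Subgroup Ω, centralizerIn S T ≤ N → (∃ g ∈ N, g ∈ S ∧ g ∉ centralizerIn S T) → S ≤ N := by
    intro N hCN ⟨g, hgN, hgS, hgC⟩
    have h1 : Subgroup.centralizer (Z2 : Set ↥S) ≤ N.subgroupOf S := by
      intro c hc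
      rw [Subgroup.mem_subgroupOf]
      exact hCN ((hmemC _).mpr ⟨c.2, hc⟩)
    have h2 : N.subgroupOf S = ⊤ := by
      apply hCmax _ h1
      refine ⟨⟨g, hgS⟩, ?_, ?_⟩
      · rw [Subgroup.mem_subgroupOf]; exact hgN
      · intro hc
        exact hgC ((hmemC g).mpr ⟨hgS, hc⟩)
    intro s hs
    have : (⟨s, hs⟩ : ↥S) ∈ N.subgroupOf S := h2 ▸ Subgroup.mem_top _
    rwa [Subgroup.mem_subgroupOf] at this
  have hCne : ∃ g ∈ S, g ∉ centralizerIn S T := by
    by_contra hcon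
    simp only [not_exists, not_and, not_not] at hcon
    apply hCtop
    rw [Subgroup.eq_top_iff']
    intro g
    obtain ⟨_, hg'⟩ := (hmemC (g : Ω)).mp (hcon g g.2)
    exact hg'
  exact isEssential_centralizerIn hS F hF T Z hTS hTn hTab hZinv hmaxC hCne φ hφ hφZ hmove

end Cfsg.Agent.S5270
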