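import Cfsg.Statements.S5271
import Cfsg.Agent.Helper86.WEMain
import Cfsg.Agent.Helper62.WEA1
import Cfsg.Agent.Helper10.WEA2
import Cfsg.Agent.Helper37.WEH

set_option autoImplicit false
open Cfsg

namespace Cfsg.Agent.S5271

open Cfsg.FusionSystem Cfsg.Agent.Helper87 Cfsg.Agent.Helper86.WE Cfsg.Agent.Helper62.WE Cfsg.Agent.Helper10.WE Cfsg.Agent.Helper37.WE

/-- A nilpotency criterion for fusion systems. Let F be a saturated fusion system over a finite p-group S of order at least p². Call a subgroup Q of S weakly embedded in F when there is a subgroup P of S strongly closed in F such that both the product QP and the intersection Q ∩ P are strongly closed in F. Then F is the inner fusion system of S if and only if there is a subgroup D of S with 1 < D < S such that every subgroup of S of the same order as D is weakly embedded in F and, for every fully normalized subgroup H of S of that order, the normalizer fusion system of H in F is the inner fusion system of N_S(H). -/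
theorem result {Ω : Type*} [Group Ω] {S : Subgroup Ω} [Finite S] (p : ℕ) [Fact p.Prime] (hS : IsPGroup p ↥S) (F : Cfsg.FusionSystem S) (hF : F.IsSaturated p) (hcard : p ^ 2 ≤ Nat.card S) : (∀ P : Subgroup Ω, F.Hom P = (Cfsg.innerFusionSystem S).Hom P) ↔ ∃ D : Subgroup Ω, ⊥ < D ∧ D < S ∧ (∀ Q : Subgroup Ω, Q ≤ S → Nat.card ↥Q = Nat.card ↥D → ∃ P : Subgroup Ω, F.StronglyClosed P ∧ F.StronglyClosed (Q ⊔ P) ∧ F.StronglyClosed (Q ⊓ P)) ∧ (∀ H : Subgroup Ω, F.IsFullyNormalized H → Nat.card ↥H = Nat.card ↥D → ∀ N : Cfsg.FusionSystem (Cfsg.FusionSystem.normalizerIn S H), F.IsNormalizerSystem H N → ∀ P : Subgroup Ω, N.Hom P = (Cfsg.innerFusionSystem (Cfsg.FusionSystem.normalizerIn S H)).Hom P) := by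
  constructor
  · exact forward p hS F hcard
  · rintro ⟨D, hD1, hDS, hH1, hH2⟩
    obtain ⟨k, hk⟩ := exists_card_eq_pow hS hDS.le
    have hW : WEmb p F k := by
      intro Q hQS hQ
      exact hH1 Q hQS (hQ.trans hk.symm)
    have hkS : p ^ k < Nat.card S := by
      rw [← hk]
      exact Cfsg.Agent.Helper87.card_lt_card_of_lt hDS
    have hA : AutP p F k := by
      intro R hRS hkR
      have hφ : ∀ α : MulAut R, α ∈ F.autGroup R → ∃ m : ℕ, α ^ (p ^ m) = 1 := by
        intro α hα
        have hiso := (mem_autGroup_iff F hRS α).mp hα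
        have hrange : (R.subtype.comp (α : R ≃* R).toMonoidHom).range = R := by
          ext y
          constructor
          · rintro ⟨x, rfl⟩
            exact (α x).2
          · intro hy
            exact ⟨α.symm ⟨y, hy⟩, by simp⟩
        obtain ⟨X, hXR, hXn, hXφ, hXc⟩ := exists_invariant_card hS F k hW hRS hkR _ hiso hrange
        refine exists_pow_eq_one_of_invariant hS F hF hRS hXR hXn ?_ α hα (fun x hx => hXφ x hx)
        intro H hH hHc
        exact hH2 H hH (hHc.trans (hXc.trans hk.symm))
      rintro ⟨α, hα⟩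
      obtain ⟨m, hm⟩ := hφ α hα
      exact ⟨m, Subtype.ext hm⟩
    exact inner_of_autP_wEmb p (Nat.card S) Ω S hS F hF k rfl hkS hA hW

end Cfsg.Agent.S5271
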