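import Cfsg.Statements.S5272
import Cfsg.Agent.Helper87.AxGlue

set_option autoImplicit false
open Cfsg

namespace Cfsg.Agent.S5272

/-- An axiomatic Glauberman–Thompson nilpotency criterion for fusion systems. Let p be an odd prime, F a saturated fusion system over a finite p-group S, and 𝒜 a nonempty family of abelian subgroups of S. For Q ≤ S write I(Q) for the intersection of the members of 𝒜 contained in Q. Assume (invariance) that for every Q ≤ S containing a member of 𝒜, every F-automorphism of Q maps I(Q) into itself, and (replacement) that for every subgroup B of S of nilpotency class at most 2, if some member of 𝒜 contains [B,B] but not B, then B normalizes some member of 𝒜 that contains [B,B] but not B. Then F is the inner fusion system of S if and only if the normalizer fusion system of I(S) in F is the inner fusion system of N_S(I(S)). -/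
theorem result {Ω : Type*} [Group Ω] {S : Subgroup Ω} [Finite S] (p : ℕ) [Fact p.Prime] (hS : IsPGroup p ↥S) (F : Cfsg.FusionSystem S) (hF : F.IsSaturated p) (hp : p ≠ 2) (𝒜 : Set (Subgroup Ω)) (h𝒜 : ∀ A ∈ 𝒜, A ≤ S ∧ IsMulCommutative ↥A) (hne : 𝒜.Nonempty) (hinv : ∀ Q : Subgroup Ω, Q ≤ S → (∃ A ∈ 𝒜, A ≤ Q) → ∀ α ∈ F.autGroup Q, ∀ x : ↥Q, (x : Ω) ∈ (⨅ A ∈ {A : Subgroup Ω | A ∈ 𝒜 ∧ A ≤ Q}, A) → (((α : MulAut ↥Q) x : ↥Q) : Ω) ∈ (⨅ A ∈ {A : Subgroup Ω | A ∈ 𝒜 ∧ A ≤ Q}, A)) (hrep : ∀ B : Subgroup Ω, B ≤ S → ⁅⁅B, B⁆, B⁆ = ⊥ → (∃ A ∈ 𝒜, ⁅B, B⁆ ≤ A ∧ ¬ B ≤ A) → ∃ A ∈ 𝒜, ⁅B, B⁆ ≤ A ∧ ¬ B ≤ A ∧ B ≤ Subgroup.normalizer (A : Set Ω)) : (∀ P : Subgroup Ω, F.Hom P = (Cfsg.innerFusionSystem S).Hom P) ↔ ∀ N : Cfsg.FusionSystem (Cfsg.FusionSystem.normalizerIn S (⨅ A ∈ 𝒜, A)), F.IsNormalizerSystem (⨅ A ∈ 𝒜, A) N → ∀ P : Subgroup Ω, N.Hom P = (Cfsg.innerFusionSystem (Cfsg.FusionSystem.normalizerIn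 S (⨅ A ∈ 𝒜, A))).Hom P := by
  have hIQ : ∀ Q : Subgroup Ω, (⨅ A ∈ {A : Subgroup Ω | A ∈ 𝒜 ∧ A ≤ Q}, A) = sInf {A : Subgroup Ω | A ∈ 𝒜 ∧ A ≤ Q} :=
    fun Q => sInf_eq_iInf.symm
  have hWeq : (⨅ A ∈ 𝒜, A) = sInf 𝒜 := sInf_eq_iInf.symm
  have hinv' : Cfsg.Agent.Helper87.AxGT.InvHyp F 𝒜 := by
    intro Q hQS hQ α hα x hx
    rw [← hIQ Q] at hx ⊢
    exact hinv Q hQS hQ α hα x hx
  have hSn : S ≤ Subgroup.normalizer ((⨅ A ∈ 𝒜, A : Subgroup Ω) : Set Ω) := by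
    rw [hWeq]
    exact Cfsg.Agent.Helper87.AxGT.le_normalizer_sInf_of_invHyp F 𝒜 h𝒜 hne hinv'
  have hWS : (⨅ A ∈ 𝒜, A) ≤ S := by
    obtain ⟨A0, hA0⟩ := hne
    rw [hWeq]
    exact (sInf_le hA0).trans (h𝒜 A0 hA0).1
  constructor
  · intro hinner N hNs Dm
    apply Set.Subset.antisymm
    · intro φ hφ
      rw [hNs Dm] at hφ
      obtain ⟨hφF, hDN, -, -⟩ := hφ
      rw [hinner Dm] at hφF
      obtain ⟨-, g, hg, hgx⟩ := hφF
      exact ⟨hDN, g, ⟨hg, hSn hg⟩, hgx⟩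
    · exact Cfsg.Agent.Helper87.inner_hom_subset N Dm
  · intro hN
    have hW : ∀ (Dm : Subgroup Ω) (φ : Dm →* Ω),
        φ ∈ F.normalizerHom (sInf 𝒜) Dm → Cfsg.Agent.Helper2.FusGT.ConjBy S φ := by
      intro Dm φ hφ
      rw [← hWeq] at hφ
      have h1 := hN (Cfsg.Agent.S5096.normalizerSystem F _ hWS) (fun _ => rfl) Dm
      have h2 : φ ∈ (Cfsg.Agent.S5096.normalizerSystem F _ hWS).Hom Dm := hφ
      rw [h1] at h2
      obtain ⟨-, g, hg, hgx⟩ := h2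
      exact ⟨g, hg.1, hgx⟩
    exact Cfsg.Agent.Helper87.AxGT.inner_of_normalizer_inner hp hS F hF 𝒜 h𝒜 hne hinv' hrep hW

end Cfsg.Agent.S5272
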