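import Mathlib
import Cfsg.Statements.S5274
import Cfsg.Agent.Helper53.FCH6

set_option autoImplicit false
open Cfsg

namespace Cfsg.Agent.S5274

open Cfsg.Agent.Helper53.FCH Cfsg.Agent.Helper53.CH

/-- Let F be a saturated fusion system over a finite 2-group S. Suppose that every element of S is F-conjugate to an element of the centre Z(S) (some map of F defined on the cyclic subgroup it generates sends it into Z(S)). Then S is abelian. -/
theorem result {Ω : Type*} [Group Ω] {S : Subgroup Ω} [Finite S] (hS : IsPGroup 2 ↥S) (F : Cfsg.FusionSystem S) (hF : F.IsSaturated 2) (h : ∀ x ∈ S, ∃ z ∈ S ⊓ Subgroup.centralizer (S : Set Ω), F.IsConjElt x z) : IsMulCommutative ↥S := by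
  classical
  by_contra hcon
  -- a non-central element
  have hex : ∃ x : S, ¬ IsCentralIn S (x : Ω) := by
    by_contra hall
    push Not at hall
    apply hcon
    refine ⟨⟨fun a b => ?_⟩⟩
    apply Subtype.ext
    exact (hall b).2 a a.2
  let Pr := {x : S // ¬ IsCentralIn S (x : Ω)}
  have hne : Nonempty Pr := by
    obtain ⟨x, hx⟩ := hex
    exact ⟨⟨x, hx⟩⟩
  obtain ⟨⟨x, hxnc⟩, hmax⟩ := Finite.exists_max
    (fun p : Pr => Nat.card ↥(S ⊓ Subgroup.centralizer ({(p.1 : Ω)} : Set Ω)))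
  simp only at hmax
  have c0 : FCfg S (x : Ω) (S ⊓ Subgroup.centralizer ({(x : Ω)} : Set Ω))
      ((S ⊓ Subgroup.centralizer ({(x : Ω)} : Set Ω)) ⊓
        Subgroup.centralizer ((S ⊓ Subgroup.centralizer ({(x : Ω)} : Set Ω) : Subgroup Ω) : Set Ω)) :=
    ⟨x.2, hxnc, fun x' h1 h2 => hmax ⟨⟨x', h1⟩, h2⟩, rfl, rfl⟩
  obtain ⟨x', Q, W, c1, hfa, hrec⟩ := exists_good hS F hF c0
  exact local_contra hS F hF h c1 hfa hrec

end Cfsg.Agent.S5274
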