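import Cfsg.Statements.S5275
import Cfsg.Agent.Helper2.FusGTD4

set_option autoImplicit false
open Cfsg

namespace Cfsg.Agent.S5275

/-- A Glauberman–Thompson nilpotency criterion for fusion systems relative to a strongly closed subgroup. Let p be an odd prime, F a saturated fusion system over a finite p-group S, and D a subgroup of S that is strongly closed in F. Let Z(J(D)) be the centre of the subgroup of D generated by the abelian subgroups of D of largest order. Then F is the inner fusion system of S if and only if the normalizer fusion system of Z(J(D)) in F is the inner fusion system of N_S(Z(J(D))) = S. -/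
theorem result {Ω : Type*} [Group Ω] {S : Subgroup Ω} [Finite S] (p : ℕ) [Fact p.Prime] (hS : IsPGroup p ↥S) (F : Cfsg.FusionSystem S) (hF : F.IsSaturated p) (hp : p ≠ 2) (D : Subgroup Ω) (hD : F.StronglyClosed D) : (∀ P : Subgroup Ω, F.Hom P = (Cfsg.innerFusionSystem S).Hom P) ↔ ∀ N : Cfsg.FusionSystem (Cfsg.FusionSystem.normalizerIn S (Cfsg.centerThompsonAOf D)), F.IsNormalizerSystem (Cfsg.centerThompsonAOf D) N → ∀ P : Subgroup Ω, N.Hom P = (Cfsg.innerFusionSystem (Cfsg.FusionSystem.normalizerIn S (Cfsg.centerThompsonAOf D))).Hom P := by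
  have hDS : D ≤ S := hD.1
  have hWS : Cfsg.centerThompsonAOf D ≤ S := (Cfsg.Agent.Helper2.FusGT.zj_le D).trans hDS
  constructor
  · intro hinner N hNs Dm
    apply Set.Subset.antisymm
    · intro φ hφ
      rw [hNs Dm] at hφ
      obtain ⟨hφF, hDN, -, -⟩ := hφ
      rw [hinner Dm] at hφF
      obtain ⟨-, g, hg, hgx⟩ := hφF
      haveI : Finite D := Cfsg.Agent.Helper87.finite_of_le hDS
      have hSn : S ≤ Subgroup.normalizer (Cfsg.centerThompsonAOf D : Set Ω) :=
        (Cfsg.Agent.Helper87.le_normalizer_of_stronglyClosed F hD).trans Cfsg.Agent.Helper2.FusGT.zj_normalizer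
      exact ⟨hDN, g, ⟨hg, hSn hg⟩, hgx⟩
    · exact Cfsg.Agent.Helper87.inner_hom_subset N Dm
  · intro hN
    have hW : ∀ (Dm : Subgroup Ω) (φ : Dm →* Ω),
        φ ∈ F.normalizerHom (Cfsg.centerThompsonAOf D) Dm → Cfsg.Agent.Helper2.FusGT.ConjBy S φ := by
      intro Dm φ hφ
      have h1 := hN (Cfsg.Agent.S5096.normalizerSystem F _ hWS) (fun _ => rfl) Dm
      have h2 : φ ∈ (Cfsg.Agent.S5096.normalizerSystem F _ hWS).Hom Dm := hφ
      rw [h1] at h2
      obtain ⟨-, g, hg, hgx⟩ := h2
      exact ⟨g, hg.1, hgx⟩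
    have hfinal := Cfsg.Agent.Helper2.FusGT.gtd_main p hp (Nat.card S) Ω S rfl hS F hF D hD hW
    exact Cfsg.Agent.Helper87.hom_eq_inner_of_forall_conj F hfinal

end Cfsg.Agent.S5275
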