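import Mathlib
import Cfsg.Statements.S5279
import Cfsg.Agent.S5246
import Cfsg.Agent.Helper10.NPSInduction

set_option autoImplicit false
open Cfsg

namespace Cfsg.Agent.S5279

/-- if `N_G(W)` controls strong fusion in `S` and `W ≤ S` then `W` is normal in `F_S(G)`. -/
theorem isNormal_of_controls {G : Type*} [Group G] (S W : Subgroup G) (hWS : W ≤ S)
    (hctl : ∀ A : Set G, A ⊆ (S : Set G) →
      Cfsg.ControlsStrongFusionOf (Subgroup.normalizer (W : Set G)) S A) :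
    (Cfsg.groupFusionSystem S).IsNormal W := by
  refine ⟨hWS, ?_⟩
  rintro A φ ⟨hAS, hφS, g, hg⟩
  obtain ⟨-, h⟩ := hctl (A : Set G) hAS
  obtain ⟨n, hn, hna⟩ := h g (by
    rintro _ ⟨a, ha, rfl⟩
    have := hφS ⟨a, ha⟩
    rwa [hg] at this)
  have hAn : ∀ a ∈ A, n * a * n⁻¹ ∈ S := by
    intro a ha
    rw [← hna a ha, ← hg ⟨a, ha⟩]
    exact hφS ⟨a, ha⟩
  have hWn : ∀ w ∈ W, n * w * n⁻¹ ∈ W := fun w hw => (Subgroup.mem_normalizer_iff.1 hn w).1 hw
  have hsup : A ⊔ W ≤ S.comap (MulAut.conj n).toMonoidHom := by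
    apply sup_le
    · intro a ha
      exact hAn a ha
    · intro w hw
      exact hWS (hWn w hw)
  refine ⟨Cfsg.conjHom (A ⊔ W) n, ⟨sup_le hAS hWS, fun x => hsup x.2, n, fun x => rfl⟩, ?_, ?_⟩
  · intro x
    show n * (x : G) * n⁻¹ = φ x
    rw [hg, hna x x.2]
  · ext y
    constructor
    · rintro ⟨x, hx, rfl⟩
      exact hWn _ hx
    · intro hy
      have h1 : n⁻¹ * y * n ∈ W := by
        have := (Subgroup.mem_normalizer_iff.1 (Subgroup.inv_mem _ hn) y).1 hy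
        rwa [inv_inv] at this
      refine ⟨⟨n⁻¹ * y * n, (le_sup_right : W ≤ A ⊔ W) h1⟩, h1, ?_⟩
      show n * (n⁻¹ * y * n) * n⁻¹ = y
      group

/-- Let p be an odd prime, G a finite group with a nontrivial Sylow p-subgroup P, and F the fusion system of G on P. Suppose F is p-stable: for every fully normalized subgroup Q and every χ in Aut_F(Q) acting quadratically on Q (χ(a⁻¹)·a·χ(a⁻¹)·χ(χ(a)) = 1 for all a in Q), χ lies in O_p(Aut_F(Q)). Then some nontrivial subgroup of P is normal in F. -/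
theorem result {Ω : Type*} [Group Ω] [Finite Ω] (p : ℕ) [Fact p.Prime] (hp : p ≠ 2) (P : Sylow p Ω) (hP : (P : Subgroup Ω) ≠ ⊥) (hst : (∀ Q : Subgroup Ω, (Cfsg.groupFusionSystem (P : Subgroup Ω)).IsFullyNormalized Q → ∀ χ : MulAut ↥Q, χ ∈ (Cfsg.groupFusionSystem (P : Subgroup Ω)).autGroup Q → (∀ a : ↥Q, (χ a⁻¹) * a * (χ a⁻¹) * (χ (χ a)) = 1) → χ ∈ ((Cfsg.pCore p ↥((Cfsg.groupFusionSystem (P : Subgroup Ω)).autGroup Q)).map ((Cfsg.groupFusionSystem (P : Subgroup Ω)).autGroup Q).subtype : Subgroup (MulAut ↥Q)))) : (Cfsg.groupFusionSystem (P : Subgroup Ω)).core ≠ ⊥ := by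
  have hnps : Cfsg.IsNormalizerPStable p Ω := (Cfsg.Agent.S5246.result hp P).2 hst
  have hctl := Cfsg.Agent.Helper10.NPSInd.controlsStrongFusionOf_zj_of_nps hp hnps P
  have hWP : Cfsg.centerThompsonAOf (P : Subgroup Ω) ≤ (P : Subgroup Ω) :=
    Cfsg.Agent.Lib.ZJ.centerThompsonAOf_le _
  have hnorm := isNormal_of_controls (P : Subgroup Ω) (Cfsg.centerThompsonAOf (P : Subgroup Ω)) hWP hctl
  have hne : Cfsg.centerThompsonAOf (P : Subgroup Ω) ≠ ⊥ := by
    rw [← Cfsg.Agent.Helper10.ZJF.inducedFunctor_zjA]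
    unfold Cfsg.inducedFunctor
    have : Nontrivial ↥(P : Subgroup Ω) := (Subgroup.nontrivial_iff_ne_bot _).mpr hP
    have h1 := Cfsg.Agent.Helper10.ZJF.zjA_ne_bot (p := p) ↥(P : Subgroup Ω) P.isPGroup'
    intro h2
    apply h1
    exact (Subgroup.map_eq_bot_iff_of_injective _ (Subgroup.subtype_injective _)).1 h2
  intro hcore
  apply hne
  have hle : Cfsg.centerThompsonAOf (P : Subgroup Ω) ≤ (Cfsg.groupFusionSystem (P : Subgroup Ω)).core :=
    le_sSup hnorm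
  rw [hcore] at hle
  exact le_bot_iff.1 hle

end Cfsg.Agent.S5279
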