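import Mathlib
import Cfsg.Statements.S5280
import Cfsg.Agent.S5246
import Cfsg.Agent.S5279
import Cfsg.Agent.S5076
import Cfsg.Agent.Helper10.NPSCon4

set_option autoImplicit false
open Cfsg

namespace Cfsg.Agent.S5280

/-- Let p be a prime greater than 3, G a finite group with Sylow p-subgroup P, and F the fusion system of G on P. Suppose F is p-stable: for every fully normalized subgroup Q and every χ in Aut_F(Q) acting quadratically on Q (χ(a⁻¹)·a·χ(a⁻¹)·χ(χ(a)) = 1 for all a in Q), χ lies in O_p(Aut_F(Q)). Then F is constrained: some subgroup normal in F is F-centric. -/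
theorem result {Ω : Type*} [Group Ω] [Finite Ω] (p : ℕ) [Fact p.Prime] (hp : 3 < p) (P : Sylow p Ω) (hst : (∀ Q : Subgroup Ω, (Cfsg.groupFusionSystem (P : Subgroup Ω)).IsFullyNormalized Q → ∀ χ : MulAut ↥Q, χ ∈ (Cfsg.groupFusionSystem (P : Subgroup Ω)).autGroup Q → (∀ a : ↥Q, (χ a⁻¹) * a * (χ a⁻¹) * (χ (χ a)) = 1) → χ ∈ ((Cfsg.pCore p ↥((Cfsg.groupFusionSystem (P : Subgroup Ω)).autGroup Q)).map ((Cfsg.groupFusionSystem (P : Subgroup Ω)).autGroup Q).subtype : Subgroup (MulAut ↥Q)))) : (Cfsg.groupFusionSystem (P : Subgroup Ω)).IsConstrained p := by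
  have hp2 : p ≠ 2 := by omega
  have hnps : Cfsg.IsNormalizerPStable p Ω := (Cfsg.Agent.S5246.result hp2 P).2 hst
  obtain ⟨Q, hQP, hQctl, hQc⟩ := Cfsg.Agent.Helper10.NPSCon.exists_centric_lctl hp2
    Cfsg.Agent.Lib.ZJ.intrinsic_comm
    (fun S _ _ hS D' _ B _ h1 h2 => Cfsg.Agent.S0651.result hS hp2 D' B h1 h2)
    (by
      intro X _ _ R hR hR1
      rw [← Cfsg.Agent.Lib.ZJ.centerThompsonAOf_eq_sInf]
      exact Cfsg.Agent.Lib.ZJ.centerThompsonAOf_ne_bot hR hR1)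
    (Nat.card Ω) Ω rfl hnps P
  refine ⟨Cfsg.Agent.S5076.result p P, Q, ?_, hQP, ?_⟩
  · apply Cfsg.Agent.S5279.isNormal_of_controls (P : Subgroup Ω) Q hQP
    intro A hA
    refine ⟨hA, fun g hgA => ?_⟩
    obtain ⟨x, hx, hxa⟩ := hQctl A g hA (fun a ha => hgA ⟨a, ha, rfl⟩)
    exact ⟨x, hx, fun a ha => (hxa a ha).symm⟩
  · rintro Q' ⟨φ, ⟨-, hφP, g, hg⟩, rfl⟩
    have hgQ : ∀ a ∈ Q, g * a * g⁻¹ ∈ (P : Subgroup Ω) := by
      intro a ha
      rw [← hg ⟨a, ha⟩]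
      exact hφP ⟨a, ha⟩
    obtain ⟨x, hx, hxa⟩ := hQctl (Q : Set Ω) g hQP hgQ
    have hrange : φ.range = Q := by
      ext y
      constructor
      · rintro ⟨a, rfl⟩
        rw [hg a, ← hxa a a.2]
        exact (Subgroup.mem_normalizer_iff.1 hx a).1 a.2
      · intro hy
        have h1 : x⁻¹ * y * x ∈ Q := by
          have := (Subgroup.mem_normalizer_iff.1 (Subgroup.inv_mem _ hx) y).1 hy
          rwa [inv_inv] at this
        refine ⟨⟨x⁻¹ * y * x, h1⟩, ?_⟩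
        rw [hg, ← hxa _ h1]
        group
    rw [hrange]
    exact hQc

end Cfsg.Agent.S5280
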