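import Cfsg.Statements.S5284
import Cfsg.Agent.S5283
import Cfsg.Agent.Helper87.AbelianInv3
import Cfsg.Agent.Helper87.AbelianInv5
import Cfsg.Agent.Helper87.FusionSeries

set_option autoImplicit false
open Cfsg

namespace Cfsg.Agent.S5284

open Cfsg.Agent.Helper87 in
/-- A commutative finite `p`-group is normal in every saturated fusion system over it. -/
theorem isNormal_of_comm {Ω : Type*} [Group Ω] {S : Subgroup Ω} [Finite S] (p : ℕ) [Fact p.Prime]
    (hS : IsPGroup p ↥S) (hG : ∀ a b : S, a * b = b * a) (F : Cfsg.FusionSystem S) (hF : F.IsSaturated p) :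
    F.IsNormal S := by
  apply isNormal_of_weaklyClosed_series_fin hS F hF
    (⟨le_rfl, fun _ _ _ hφ x => (F.le_of_mem hφ).2 x⟩ : F.StronglyClosed S) 1 (Fin.cons ⊥ (fun _ => S))
  · rfl
  · rfl
  · apply Fin.monotone_iff_le_succ.mpr
    intro i
    have hi : i = 0 := Subsingleton.elim _ _
    rw [hi, Fin.castSucc_zero, Fin.cons_zero]
    exact bot_le
  · intro i
    rw [Fin.cons_succ]
    rw [Subgroup.commutator_le]
    intro a ha b hb
    have := hG ⟨a, ha⟩ ⟨b, hb⟩
    have h2 : a * b = b * a := congrArg Subtype.val this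
    rw [commutatorElement_def, h2]
    have : b * a * a⁻¹ * b⁻¹ = 1 := by group
    rw [this]
    exact Subgroup.one_mem _
  · intro i
    have hi : i = 0 := Subsingleton.elim _ _
    rw [hi, Fin.castSucc_zero, Fin.cons_zero]
    exact weaklyClosed_of_stronglyClosed F (stronglyClosed_bot F)

/-- Let S be a finite abelian p-group. Every saturated fusion system over S is supersoluble (S has a chain of F-strongly closed subgroups from 1 to S with cyclic steps) if and only if the invariants of S are pairwise distinct, that is, S is not isomorphic to a direct product (Z/p^n × Z/p^n) × H with n ≥ 1. -/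
theorem result {Ω : Type*} [Group Ω] {S : Subgroup Ω} [Finite S] (p : ℕ) [Fact p.Prime] (hS : IsPGroup p ↥S) (hab : IsMulCommutative ↥S) : (∀ F : Cfsg.FusionSystem S, F.IsSaturated p → (∃ (m : ℕ) (c : Fin (m + 1) → Subgroup Ω), c 0 = ⊥ ∧ c (Fin.last m) = S ∧ (∀ i : Fin (m + 1), F.StronglyClosed (c i)) ∧ ∀ i : Fin m, c i.castSucc ≤ c i.succ ∧ ∃ x ∈ S, c i.succ = c i.castSucc ⊔ Subgroup.zpowers x)) ↔ ¬ ∃ (n : ℕ) (H : Type) (_ : CommGroup H), 0 < n ∧ Nonempty (↥S ≃* (Multiplicative (ZMod (p ^ n)) × Multiplicative (ZMod (p ^ n))) × H) := by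
  have hG : ∀ a b : S, a * b = b * a := fun a b => hab.is_comm.comm a b
  constructor
  · intro hsup
    rintro ⟨n, H, instH, hn, ⟨φ⟩⟩
    have hpc := ((Cfsg.Agent.S5283.result p hS).mp hsup).2
    exact Cfsg.Agent.Helper87.false_of_repeat n hn H φ hpc
  · intro hno
    apply (Cfsg.Agent.S5283.result p hS).mpr
    refine ⟨fun F hF => isNormal_of_comm p hS hG F hF, fun H hH => ?_⟩
    obtain ⟨h1, h2⟩ := Cfsg.Agent.Helper87.comm_and_exp_of_cyclic_sections hG hS
      (Cfsg.Agent.Helper87.exists_cyclic_sections_of_no_repeat hG hS hno) H hH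
    exact ⟨⟨⟨fun a b => Subtype.ext (h1 a a.2 b b.2)⟩⟩, h2⟩

end Cfsg.Agent.S5284
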