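-- Statement S5290 (helper88): Q ⊴ F iff the inner fusion system of Q is weakly normal in F.
import Cfsg.Statements.S5290
import Cfsg.Agent.S5106
import Cfsg.Agent.Helper88.FusionInner

set_option autoImplicit false
open Cfsg

namespace Cfsg.Agent.S5290

open Cfsg.FusionSystem Cfsg.Agent.Helper87 Cfsg.Agent.Helper88.FS

/-- Let F be a saturated fusion system over a finite p-group S and Q a subgroup of S. Then Q is normal in F (F = N_F(Q)) if and only if the inner fusion system of Q, consisting of the conjugations by elements of Q on subgroups of Q, is a weakly normal subsystem of F (both saturated, Q strongly closed, invariant under F-conjugation, with the Frattini property). -/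
theorem result {Ω : Type*} [Group Ω] {S : Subgroup Ω} [Finite S] (p : ℕ) [Fact p.Prime] (hS : IsPGroup p S)
    (F : Cfsg.FusionSystem S) (hF : F.IsSaturated p)
    (Q : Subgroup Ω) (hQ : Q ≤ S) :
    F.IsNormal Q ↔ (Cfsg.innerFusionSystem Q).IsWeaklyNormalIn F p := by
  have hQp : IsPGroup p Q := hS.to_le hQ
  constructor
  · intro hN
    have hext := (Cfsg.Agent.S5106.result p hS F hF Q hQ).mp hN
    refine ⟨inner_isSaturated hQp, hF, ?_, stronglyClosed_of_isNormal F hN, ?_, ?_⟩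
    · -- subsystem
      rintro P φ ⟨hP, g, hg, hgx⟩
      exact mem_of_eq F (F.conj_mem (hP.trans hQ) (hQ hg)) hgx
    · -- invariance
      rintro P hPQ φ ⟨-, g, hg, hgx⟩ α hα
      refine ⟨conjHom _ ((α ⟨g, hg⟩ : Q) : Ω), (innerFusionSystem Q).conj_mem ?_ (α ⟨g, hg⟩).2, ?_⟩
      · rintro _ ⟨y, -, rfl⟩
        exact (α y).2
      · intro x hφx hαx
        show ((α ⟨g, hg⟩ : Q) : Ω) * ((α ⟨x, hPQ x.2⟩ : Q) : Ω) * ((α ⟨g, hg⟩ : Q) : Ω)⁻¹ = ((α ⟨φ x, hφx⟩ : Q) : Ω)
        have : (⟨φ x, hφx⟩ : Q) = ⟨g, hg⟩ * ⟨x, hPQ x.2⟩ * ⟨g, hg⟩⁻¹ := Subtype.ext (hgx x)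
        rw [this, map_mul, map_mul, map_inv]
        rfl
    · -- Frattini
      intro P hPQ φ hφ
      obtain ⟨α, hα, hαx⟩ := hext P hPQ φ hφ
      refine ⟨α, hα, P.subtype, subtype_mem _ hPQ, fun x hx => ?_⟩
      exact (hαx x).symm
  · rintro ⟨-, -, -, hsc, -, hfr⟩
    apply (Cfsg.Agent.S5106.result p hS F hF Q hQ).mpr
    intro P hPQ φ hφ
    obtain ⟨α, hα, φ₀, ⟨-, g, hg, hgx⟩, hx⟩ := hfr P hPQ φ hφ
    have hgN : g ∈ Subgroup.normalizer (Q : Set Ω) := Subgroup.le_normalizer hg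
    refine ⟨α * conjAut Q g hgN,
      (F.autGroup Q).mul_mem hα ((mem_autGroup_iff F hQ _).mpr (isIso_conjAut F hQ (hQ hg) hgN)), fun x => ?_⟩
    rw [MulAut.mul_apply]
    have h1 : φ₀ x ∈ Q := by
      rw [hgx]
      exact Q.mul_mem (Q.mul_mem hg (hPQ x.2)) (Q.inv_mem hg)
    rw [hx x h1]
    have h2 : conjAut Q g hgN (Subgroup.inclusion hPQ x) = ⟨φ₀ x, h1⟩ := by
      apply Subtype.ext
      rw [conjAut_apply]
      exact (hgx x).symm
    rw [h2]

end Cfsg.Agent.S5290
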