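-- Statement S5291 (helper88): the subgroup generated by the F-images of a subgroup normal in a weakly normal subsystem
-- is normal in F.
import Cfsg.Statements.S5291
import Cfsg.Agent.Helper88.FusionInvariant
import Cfsg.Agent.Helper87.FusionSeries

set_option autoImplicit false
open Cfsg

namespace Cfsg.Agent.S5291

open Cfsg.FusionSystem Cfsg.Agent.Helper87 Cfsg.Agent.Helper88.FS

/-- Let F be a saturated fusion system over a finite p-group S and E a weakly normal subsystem of F over a subgroup T. Suppose a subgroup R of T is normal in E (E = N_E(R)), and let R* be the subgroup of T generated by the images of R under all maps of F with source R. Then R* is normal in F (F = N_F(R*)). -/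
theorem result {Ω : Type*} [Group Ω] {S : Subgroup Ω} [Finite S] (p : ℕ) [Fact p.Prime] (hS : IsPGroup p S)
    (F : Cfsg.FusionSystem S) (hF : F.IsSaturated p)
    {T : Subgroup Ω} (E : Cfsg.FusionSystem T) (hE : E.IsWeaklyNormalIn F p)
    (R : Subgroup Ω) (hR : E.IsNormal R) :
    F.IsNormal (Subgroup.closure {x : Ω | ∃ φ ∈ F.Hom R, ∃ r : R, x = φ r}) := by
  obtain ⟨hEsat, -, hEF⟩ := hE
  have hsub := hEF.1
  have hsc := hEF.2.1
  have hfr := hEF.2.2.2
  have hTS : T ≤ S := hsc.1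
  have hRT : R ≤ T := hR.1
  have hfinT : Finite T := finite_of_le hTS
  have hTp : IsPGroup p T := hS.to_le hTS
  set Rs := Subgroup.closure {x : Ω | ∃ φ ∈ F.Hom R, ∃ r : R, x = φ r} with hRs
  have hRsT : Rs ≤ T := by
    rw [hRs, Subgroup.closure_le]
    rintro x ⟨φ, hφ, r, rfl⟩
    exact hsc.2 R hRT φ hφ r
  have hwc := weaklyClosed_of_isNormal E hR
  -- images of `R` under `Aut_F(T)` lie in `Rs`
  have himg_le : ∀ α ∈ F.autGroup T, imgT α R ≤ Rs := by
    intro α hα y hy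
    obtain ⟨x, hxR, rfl⟩ := (mem_imgT_iff _ _ _).mp hy
    have hαiso := (mem_autGroup_iff F hTS α).mp hα
    have h1 := restrict_mem F hαiso hRT
    exact Subgroup.subset_closure ⟨_, h1, ⟨x, hxR⟩, rfl⟩
  -- every generator lies in a subgroup normal in `E` and contained in `Rs`
  have hgen : ∀ φ ∈ F.Hom R, ∀ r : R, ∃ Q : Subgroup Ω, (E.IsNormal Q ∧ Q ≤ Rs) ∧ φ r ∈ Q := by
    intro φ hφ r
    obtain ⟨α, hα, φ₀, hφ₀, hx⟩ := hfr R hRT φ hφ
    refine ⟨imgT α R, ⟨isNormal_imgT hTp hEsat hEF hR hα, himg_le α hα⟩, ?_⟩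
    have h0 : φ₀ r ∈ R := by
      have h00 : φ₀ r ∈ φ₀.range := ⟨r, rfl⟩
      rwa [hwc.2 φ₀ hφ₀] at h00
    rw [hx r (hRT h0)]
    exact apply_mem_imgT α _ h0
  -- `Rs` is normal in `E`
  have hM : E.IsNormal Rs := by
    have h1 := Cfsg.Agent.Helper85.sSup_mem_of_sup_closed (S := T) {Q | E.IsNormal Q ∧ Q ≤ Rs}
      ⟨Cfsg.Agent.S5145.isNormal_bot E, bot_le⟩
      (fun A hA B hB => ⟨Cfsg.Agent.S5145.isNormal_sup E hA.1 hB.1, sup_le hA.2 hB.2⟩) (fun A hA => hA.1.1)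
    have hle : Rs ≤ sSup {Q | E.IsNormal Q ∧ Q ≤ Rs} := by
      rw [hRs, Subgroup.closure_le]
      rintro x ⟨φ, hφ, r, rfl⟩
      obtain ⟨Q, hQ, hxQ⟩ := hgen φ hφ r
      exact (le_sSup hQ : Q ≤ _) hxQ
    have heq : sSup {Q | E.IsNormal Q ∧ Q ≤ Rs} = Rs := le_antisymm (sSup_le (fun Q hQ => hQ.2)) hle
    rw [heq] at h1
    exact h1.1
  -- `Rs` is invariant under `Aut_F(T)`
  have hinvRs : ∀ β ∈ F.autGroup T, ∀ y ∈ Rs, ∀ hy : y ∈ T, ((β ⟨y, hy⟩ : T) : Ω) ∈ Rs := by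
    intro β hβ y hyRs
    have hβiso := (mem_autGroup_iff F hTS β).mp hβ
    rw [hRs] at hyRs
    induction hyRs using Subgroup.closure_induction with
    | mem y hy =>
      obtain ⟨φ, hφ, r, rfl⟩ := hy
      intro hyT
      have h1 := F.comp_mem hφ hβiso (fun x => hsc.2 R hRT φ hφ x)
      exact Subgroup.subset_closure ⟨_, h1, r, rfl⟩
    | one =>
      intro hy
      have : (⟨1, hy⟩ : T) = 1 := rfl
      rw [this, map_one]
      exact Rs.one_mem
    | mul a b ha hb iha ihb =>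
      intro hy
      have haT : a ∈ T := hRsT ha
      have hbT : b ∈ T := hRsT hb
      have : (⟨a * b, hy⟩ : T) = ⟨a, haT⟩ * ⟨b, hbT⟩ := rfl
      rw [this, map_mul]
      exact Rs.mul_mem (iha haT) (ihb hbT)
    | inv a ha iha =>
      intro hy
      have haT : a ∈ T := hRsT ha
      have : (⟨a⁻¹, hy⟩ : T) = ⟨a, haT⟩⁻¹ := rfl
      rw [this, map_inv]
      exact Rs.inv_mem (iha haT)
  -- the criterion
  apply (Cfsg.Agent.S5106.result p hS F hF Rs (hRsT.trans hTS)).mpr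
  intro P hPRs φ hφ
  have hPT : P ≤ T := hPRs.trans hRsT
  obtain ⟨α, hα, φ₀, hφ₀, hx⟩ := hfr P hPT φ hφ
  obtain ⟨γ, hγ, hγx⟩ := (Cfsg.Agent.S5106.result p hTp E hEsat Rs hRsT).mp hM P hPRs φ₀ hφ₀
  have hαiso := (mem_autGroup_iff F hTS α).mp hα
  have hαRs := restrict_mem F hαiso hRsT
  have hrange : ((T.subtype.comp (α : T ≃* T).toMonoidHom).comp (Subgroup.inclusion hRsT)).range = Rs := by
    ext y
    constructor
    · rintro ⟨x, rfl⟩
      exact hinvRs α hα _ x.2 (hRsT x.2)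
    · intro hy
      refine ⟨⟨((α⁻¹ ⟨y, hRsT hy⟩ : T) : Ω), hinvRs α⁻¹ ((F.autGroup T).inv_mem hα) _ hy (hRsT hy)⟩, ?_⟩
      show ((α (α⁻¹ ⟨y, hRsT hy⟩) : T) : Ω) = y
      rw [MulAut.apply_inv_self]
  have hαR : (isoOfRange F hαRs hrange : MulAut Rs) ∈ F.autGroup Rs :=
    (mem_autGroup_iff F (hRsT.trans hTS) _).mpr (isIso_isoOfRange F hαRs hrange)
  have hγF : γ ∈ F.autGroup Rs := by
    rw [mem_autGroup_iff F (hRsT.trans hTS)]
    exact hsub _ ((mem_autGroup_iff E hRsT γ).mp hγ)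
  refine ⟨(isoOfRange F hαRs hrange : MulAut Rs) * γ, (F.autGroup Rs).mul_mem hαR hγF, fun x => ?_⟩
  rw [MulAut.mul_apply]
  have hφ₀T : φ₀ x ∈ T := (E.le_of_mem hφ₀).2 x
  rw [hx x hφ₀T]
  have h1 := hγx x
  have h2 : (Subgroup.inclusion hRsT (γ (Subgroup.inclusion hPRs x))) = ⟨φ₀ x, hφ₀T⟩ := Subtype.ext h1
  show ((α (Subgroup.inclusion hRsT (γ (Subgroup.inclusion hPRs x))) : T) : Ω) = _
  rw [h2]

end Cfsg.Agent.S5291
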