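-- Statement S5294 (helper88): Z(S) ≤ O_p(F) implies Z(F) is a direct factor of Z(S).
import Cfsg.Statements.S5294
import Cfsg.Agent.Helper88.TraceComplement
import Cfsg.Agent.S5085
import Cfsg.Agent.S5144
import Cfsg.Agent.S5145
import Cfsg.Agent.Helper87.FusionRS
import Cfsg.Agent.Helper87.FusionNormal

set_option autoImplicit false
universe u
open Cfsg

namespace Cfsg.Agent.S5294

open Cfsg.FusionSystem Cfsg.Agent.Helper87 Cfsg.Agent.Helper88

variable {Ω : Type u} [Group Ω] {S : Subgroup Ω}

/-- The centre of `O`, as a subgroup of the ambient group, is characteristic in `O`. -/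
theorem center_char (O : Subgroup Ω) :
    ((O ⊓ Subgroup.centralizer (O : Set Ω)).subgroupOf O).Characteristic := by
  have h : (O ⊓ Subgroup.centralizer (O : Set Ω)).subgroupOf O = Subgroup.center O := by
    ext x
    rw [Subgroup.mem_subgroupOf, Subgroup.mem_center_iff]
    constructor
    · rintro ⟨-, hx⟩ g
      apply Subtype.ext
      exact Subgroup.mem_centralizer_iff.mp hx g g.2
    · intro hx
      refine ⟨x.2, Subgroup.mem_centralizer_iff.mpr fun g hg => ?_⟩
      exact congrArg Subtype.val (hx ⟨g, hg⟩)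
  rw [h]
  infer_instance

/-- The fixed points of `Aut_F(V)` on a subgroup `V` normal in the system form a central subgroup. -/
theorem isCentral_fixed (F : FusionSystem S) {V : Subgroup Ω} (hV : F.IsNormal V) (W : Subgroup Ω) (hWV : W ≤ V)
    (hfix : ∀ α ∈ F.autGroup V, ∀ w : V, (w : Ω) ∈ W → α w = w) : F.IsCentral W := by
  have hVS : V ≤ S := hV.1
  refine ⟨hWV.trans hVS, fun P φ hφ => ?_⟩
  obtain ⟨ψ, hψ, hψx, hψV⟩ := hV.2 P φ hφ
  rw [Helper85.map_subgroupOf_eq_iff] at hψV
  have hψ' := restrict_mem F hψ (le_sup_right : V ≤ P ⊔ V)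
  have hrange : (ψ.comp (Subgroup.inclusion (le_sup_right : V ≤ P ⊔ V))).range = V := by
    ext y
    constructor
    · rintro ⟨x, rfl⟩
      exact hψV.1 _ x.2
    · intro hy
      obtain ⟨x, hxV, hxy⟩ := hψV.2 y hy
      exact ⟨⟨x, hxV⟩, hxy⟩
  have hα : (isoOfRange F hψ' hrange : MulAut V) ∈ F.autGroup V :=
    (mem_autGroup_iff F hVS _).mpr (isIso_isoOfRange F hψ' hrange)
  have hle : P ⊔ W ≤ P ⊔ V := sup_le_sup_left hWV P
  refine ⟨ψ.comp (Subgroup.inclusion hle), restrict_mem F hψ hle, fun x => ?_, fun w => ?_⟩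
  · rw [← hψx x]
    rfl
  · have h1 := hfix _ hα ⟨w, hWV w.2⟩ w.2
    have h2 := congrArg Subtype.val h1
    rw [isoOfRange_apply] at h2
    exact h2

/-- Let F be a saturated fusion system over a finite p-group S whose centre Z(S) lies in the largest subgroup O_p(F) normal in F. Then the centre Z(F) of F is a direct factor of Z(S): there is a subgroup K of Z(S) with Z(F) ∩ K = 1 and Z(F)K = Z(S). -/
theorem result {Ω : Type u} [Group Ω] {S : Subgroup Ω} [Finite S] (p : ℕ) [Fact p.Prime] (hS : IsPGroup p S)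
    (F : Cfsg.FusionSystem S) (hF : F.IsSaturated p) (hZ : (S ⊓ Subgroup.centralizer (S : Set Ω)) ≤ F.core) :
    ∃ K : Subgroup Ω, K ≤ (S ⊓ Subgroup.centralizer (S : Set Ω)) ∧ F.center ⊓ K = ⊥ ∧ F.center ⊔ K = (S ⊓ Subgroup.centralizer (S : Set Ω)) := by
  set Z := S ⊓ Subgroup.centralizer (S : Set Ω) with hZdef
  have hO : F.IsNormal F.core := Cfsg.Agent.S5145.result F
  set O := F.core with hOdef
  set V := O ⊓ Subgroup.centralizer (O : Set Ω) with hVdef
  have hV : F.IsNormal V := Cfsg.Agent.S5085.result F O V hO inf_le_left (center_char O)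
  have hVS : V ≤ S := hV.1
  have hOS : O ≤ S := hO.1
  have hsc := stronglyClosed_of_isNormal F hV
  have hnorm : S ≤ Subgroup.normalizer (V : Set Ω) := le_normalizer_of_isNormal F hV
  have hZV : Z ≤ V := by
    intro z hz
    refine ⟨hZ hz, Subgroup.mem_centralizer_iff.mpr fun g hg => ?_⟩
    exact Subgroup.mem_centralizer_iff.mp hz.2 g (hOS hg)
  have hcen : F.IsCentral F.center := Cfsg.Agent.S5144.result F
  -- the centre of the system lies in `Z(S)`
  have hcenZ : F.center ≤ Z := by
    intro c hc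
    have hcS : c ∈ S := hcen.1 hc
    refine ⟨hcS, Subgroup.mem_centralizer_iff.mpr fun s hs => ?_⟩
    obtain ⟨ψ, -, hψx, hψc⟩ := hcen.2 S _ (F.conj_mem le_rfl hs)
    have h1 := hψx ⟨c, hcS⟩
    have h2 := hψc ⟨c, hc⟩
    have e : Subgroup.inclusion (le_sup_left : S ≤ S ⊔ F.center) ⟨c, hcS⟩ =
        Subgroup.inclusion (le_sup_right : F.center ≤ S ⊔ F.center) ⟨c, hc⟩ := Subtype.ext rfl
    rw [e, h2] at h1
    have h3 : c = s * c * s⁻¹ := h1
    calc s * c = s * c * s⁻¹ * s := by group
      _ = c * s := by rw [← h3]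
  -- commutativity of `V`
  have hcomm : ∀ a b : V, a * b = b * a := by
    intro a b
    apply Subtype.ext
    exact (Subgroup.mem_centralizer_iff.mp b.2.2 a a.2.1)
  let _instV : CommGroup V := { (inferInstance : Group V) with mul_comm := hcomm }
  have hfinV : Finite V := finite_of_le hVS
  have hfinA : Finite (MulAut V) := MulEquiv.finite_left
  have hVp : IsPGroup p V := hS.to_le hVS
  -- `V` is fully normalized, hence fully automized
  have hfn : F.IsFullyNormalized V := by
    refine ⟨hVS, fun Q _ => ?_⟩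
    have h1 : normalizerIn S V = S := inf_eq_left.mpr hnorm
    rw [h1]
    exact Subgroup.card_le_of_le inf_le_left
  set A := F.autGroup V with hA
  obtain ⟨-, -, R, hR⟩ := fullyAutomized_fullyCentralized_of_fullyNormalized hS F hF hfn
  have hRidx : (R : Subgroup A).index.Coprime p := by
    have h1 : ¬ p ∣ (R : Subgroup A).index := R.not_dvd_index
    exact Nat.Coprime.symm ((Nat.Prime.coprime_iff_not_dvd (Fact.out : p.Prime)).mpr h1)
  obtain ⟨K, hKR, hinf, hsup⟩ := exists_complement_fixedSub hVp A.subtype (R : Subgroup A) hRidx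
  -- identify the two fixed-point subgroups
  have hfixtop : (fixedSub A.subtype ⊤).map V.subtype = F.center := by
    apply le_antisymm
    · apply le_sSup
      apply isCentral_fixed F hV _ (Subgroup.map_subtype_le _)
      intro α hα w hw
      obtain ⟨w', hw', hww'⟩ := hw
      have : w' = w := Subtype.ext hww'
      subst this
      exact hw' ⟨α, hα⟩ (Subgroup.mem_top _)
    · intro c hc
      have hcV : c ∈ V := hZV (hcenZ hc)
      refine ⟨⟨c, hcV⟩, ?_, rfl⟩
      intro a _
      have haiso := (mem_autGroup_iff F hVS (a : MulAut V)).mp a.2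
      obtain ⟨ψ, -, hψx, hψc⟩ := hcen.2 V _ haiso
      have h1 := hψx ⟨c, hcV⟩
      have h2 := hψc ⟨c, hc⟩
      have e : Subgroup.inclusion (le_sup_left : V ≤ V ⊔ F.center) ⟨c, hcV⟩ =
          Subgroup.inclusion (le_sup_right : F.center ≤ V ⊔ F.center) ⟨c, hc⟩ := Subtype.ext rfl
      rw [e, h2] at h1
      apply Subtype.ext
      exact h1.symm
  have hfixR : (fixedSub A.subtype (R : Subgroup A)).map V.subtype = Z := by
    apply le_antisymm
    · rintro _ ⟨v, hv, rfl⟩
      refine ⟨hVS v.2, Subgroup.mem_centralizer_iff.mpr fun s hs => ?_⟩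
      have hsN : s ∈ Subgroup.normalizer (V : Set Ω) := hnorm hs
      have hcA : conjAut V s hsN ∈ A := (mem_autGroup_iff F hVS _).mpr (isIso_conjAut F hVS hs hsN)
      have hcR : (⟨conjAut V s hsN, hcA⟩ : A) ∈ (R : Subgroup A) := by
        rw [hR, Subgroup.mem_subgroupOf, mem_autInducedBy_iff]
        exact ⟨s, hs, fun x => rfl⟩
      have h1 := hv _ hcR
      have h2 : s * (v : Ω) * s⁻¹ = v := congrArg Subtype.val h1
      calc s * (v : Ω) = s * v * s⁻¹ * s := by group
        _ = v * s := by rw [h2]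
    · intro z hz
      refine ⟨⟨z, hZV hz⟩, ?_, rfl⟩
      intro a ha
      rw [hR, Subgroup.mem_subgroupOf, mem_autInducedBy_iff] at ha
      obtain ⟨g, hg, hgx⟩ := ha
      apply Subtype.ext
      have h1 := hgx ⟨z, hZV hz⟩
      have h2 : g * z = z * g := Subgroup.mem_centralizer_iff.mp hz.2 g hg
      show (((a : MulAut V) ⟨z, hZV hz⟩ : V) : Ω) = z
      rw [h1]
      show g * z * g⁻¹ = z
      rw [h2]
      group
  refine ⟨K.map V.subtype, ?_, ?_, ?_⟩
  · rw [← hfixR]
    exact Subgroup.map_mono hKR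
  · rw [← hfixtop, ← Subgroup.map_inf _ _ _ V.subtype_injective, hinf, Subgroup.map_bot]
  · rw [← hfixtop, ← Subgroup.map_sup, hsup, hfixR]

end Cfsg.Agent.S5294
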