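-- Statement S5295: for p odd, Z(F) is a direct factor of Z(S) (helper51).
-- Z(F) = Z(N_F(J(S))) by S5193, and Z(S) ≤ J(S) ≤ O_p(N_F(J(S))), so S5294 applies to N_F(J(S)).
import Cfsg.Statements.S5295
import Cfsg.Agent.S5193
import Cfsg.Agent.S5294

set_option autoImplicit false
universe u
open Cfsg

namespace Cfsg.Agent.S5295

open Cfsg.FusionSystem Cfsg.Agent.Helper87 Cfsg.Agent.Helper51.FusWC

/-- Let F be a saturated fusion system over a finite p-group S with p odd. Then the centre Z(F) of F is a direct factor of Z(S): there is a subgroup K of Z(S) with Z(F) ∩ K = 1 and Z(F)K = Z(S). (At the prime 2 this can fail.) -/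
theorem result {Ω : Type u} [Group Ω] {S : Subgroup Ω} [Finite S] (p : ℕ) [Fact p.Prime] (hp : p ≠ 2) (hS : IsPGroup p S)
    (F : Cfsg.FusionSystem S) (hF : F.IsSaturated p) :
    ∃ K : Subgroup Ω, K ≤ (S ⊓ Subgroup.centralizer (S : Set Ω)) ∧ F.center ⊓ K = ⊥ ∧ F.center ⊔ K = (S ⊓ Subgroup.centralizer (S : Set Ω)) := by
  have hJS : Cfsg.thompsonSubgroupAOf S ≤ S := thompsonSubgroupAOf_le S
  have hSJ := le_normalizer_thompsonSubgroupAOf S
  obtain ⟨N, hN⟩ := Cfsg.Agent.S5096.result F (Cfsg.thompsonSubgroupAOf S) hJS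
  have hcenter : N.center = F.center := (Cfsg.Agent.S5193.result p hS F hF N hN).2 (Or.inl hp)
  have hSN : S ≤ normalizerIn S (Cfsg.thompsonSubgroupAOf S) := le_inf le_rfl hSJ
  have hSN_eq : normalizerIn S (Cfsg.thompsonSubgroupAOf S) = S := le_antisymm inf_le_left hSN
  have hZeq : normalizerIn S (Cfsg.thompsonSubgroupAOf S) ⊓
      Subgroup.centralizer ((normalizerIn S (Cfsg.thompsonSubgroupAOf S) : Subgroup Ω) : Set Ω) =
      S ⊓ Subgroup.centralizer (S : Set Ω) := by rw [hSN_eq]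
  have hfinN : Finite ↥(normalizerIn S (Cfsg.thompsonSubgroupAOf S)) := finite_of_le inf_le_left
  have hJfn : F.IsFullyNormalized (Cfsg.thompsonSubgroupAOf S) :=
    ⟨hJS, fun Q _ => Subgroup.card_le_of_le (inf_le_left.trans hSN)⟩
  have hNsat := Cfsg.Agent.S5098.result p hS F hF _ hJfn N hN
  have hNp : IsPGroup p ↥(normalizerIn S (Cfsg.thompsonSubgroupAOf S)) := hS.to_le inf_le_left
  have hZcore : normalizerIn S (Cfsg.thompsonSubgroupAOf S) ⊓
      Subgroup.centralizer ((normalizerIn S (Cfsg.thompsonSubgroupAOf S) : Subgroup Ω) : Set Ω) ≤ N.core := by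
    rw [hZeq]
    refine (center_le_thompsonSubgroupAOf S).trans ?_
    exact le_sSup (isNormal_normalizerSystem F hJS N hN)
  obtain ⟨K, hK1, hK2, hK3⟩ := Cfsg.Agent.S5294.result p hNp N hNsat hZcore
  rw [hZeq] at hK1 hK3
  rw [hcenter] at hK2 hK3
  exact ⟨K, hK1, hK2, hK3⟩

end Cfsg.Agent.S5295
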