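import Cfsg.Statements.S5298
import Cfsg.Agent.Helper2.FusSmall

set_option autoImplicit false
universe u
open Cfsg

namespace Cfsg.Agent.S5298

open Cfsg.FusionSystem Cfsg.Agent.Helper87 Cfsg.Agent.Helper88 Cfsg.Agent.Helper2.FusSmall

/-- The quotient `x⁻¹ β(x)` lies in the hyperfocal subgroup for `β` in `Aut_F(P)` of order prime to `p`. -/
theorem mem_hyperfocal {Ω : Type u} [Group Ω] {S : Subgroup Ω} (p : ℕ) (F : Cfsg.FusionSystem S) {P : Subgroup Ω}
    (hPS : P ≤ S) (β : MulAut P) (hβ : β ∈ F.autGroup P) (k : ℕ) (hk : k.Coprime p) (hβk : β ^ k = 1) (x : P) :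
    ((x⁻¹ * β x : P) : Ω) ∈ F.hyperfocalSubgroup p := by
  unfold Cfsg.FusionSystem.hyperfocalSubgroup
  apply Subgroup.subset_closure
  refine ⟨P, ⟨β, hβ⟩, x, hPS, ?_, rfl⟩
  apply Subgroup.subset_closure
  show Nat.Coprime (orderOf (⟨β, hβ⟩ : F.autGroup P)) p
  have h1 : (⟨β, hβ⟩ : F.autGroup P) ^ k = 1 := by
    apply Subtype.ext
    rw [Subgroup.coe_pow]
    exact hβk
  exact Nat.Coprime.coprime_dvd_left (orderOf_dvd_of_pow_eq_one h1) hk

/-- Let F be a saturated fusion system over a finite p-group S. If every map of F between cyclic subgroups of the hyperfocal subgroup of F of order p or 4 is conjugation by an element of S, then F is the inner fusion system of S. -/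
theorem result {Ω : Type u} [Group Ω] {S : Subgroup Ω} [Finite S] (p : ℕ) [Fact p.Prime] (hS : IsPGroup p S)
    (F : Cfsg.FusionSystem S) (hF : F.IsSaturated p)
    (h : ∀ A B : Subgroup Ω, A ≤ (F.hyperfocalSubgroup p) → B ≤ (F.hyperfocalSubgroup p) → IsCyclic ↥A → (Nat.card ↥A = p ∨ Nat.card ↥A = 4) → IsCyclic ↥B → (Nat.card ↥B = p ∨ Nat.card ↥B = 4) →
      F.homSet A B ⊆ (Cfsg.innerFusionSystem S).Hom A) :
    ∀ P : Subgroup Ω, F.Hom P = (Cfsg.innerFusionSystem S).Hom P := by
  have hpp : p.Prime := Fact.out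
  -- an automorphism in `F` of order prime to `p` is trivial
  have key : ∀ (P : Subgroup Ω), P ≤ S → ∀ α : MulAut P, α ∈ F.autGroup P → ∀ k : ℕ, k.Coprime p → α ^ k = 1 →
      α = 1 := by
    intro P hPS α hα k hk hαk
    haveI : Finite P := Finite.of_injective (Subgroup.inclusion hPS) (Subgroup.inclusion_injective hPS)
    have hPp : IsPGroup p P := hS.to_le hPS
    have hk0 : 0 < k := by
      rcases Nat.eq_zero_or_pos k with h0 | h0
      · rw [h0, Nat.coprime_zero_left] at hk
        exact absurd hk hpp.one_lt.ne'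
      · exact h0
    have hpowmem : ∀ i : ℕ, α ^ i ∈ F.autGroup P := fun i => Subgroup.pow_mem _ hα i
    have hpowk : ∀ i : ℕ, (α ^ i) ^ k = 1 := by
      intro i
      rw [← pow_mul, mul_comm, pow_mul, hαk, one_pow]
    have hH : ∀ (i : ℕ) (x : P), (((x⁻¹ * (α ^ i) x : P)) : Ω) ∈ F.hyperfocalSubgroup p :=
      fun i x => mem_hyperfocal p F hPS (α ^ i) (hpowmem i) k hk (hpowk i) x
    have hconj : ∀ (i : ℕ) (x : P), (x : Ω) ∈ F.hyperfocalSubgroup p → x ^ smallExp p = 1 →
        ∃ g ∈ S, (((α ^ i) x : P) : Ω) = g * (x : Ω) * g⁻¹ := by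
      intro i x hxH hxs
      by_cases hx1 : x = 1
      · refine ⟨1, S.one_mem, ?_⟩
        rw [hx1, map_one]
        simp
      have hxs' : (x : Ω) ^ smallExp p = 1 := by
        have := congrArg Subtype.val hxs
        simpa using this
      have hx1' : (x : Ω) ≠ 1 := fun h0 => hx1 (Subtype.ext h0)
      -- the order of `x` is `p` or `4`
      have hord : orderOf (x : Ω) = p ∨ orderOf (x : Ω) = 4 := by
        have hdvd : orderOf (x : Ω) ∣ smallExp p := orderOf_dvd_of_pow_eq_one hxs'
        have hne1 : orderOf (x : Ω) ≠ 1 := fun h0 => hx1' (orderOf_eq_one_iff.mp h0)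
        unfold smallExp at hdvd
        split_ifs at hdvd with h2
        · have hle : orderOf (x : Ω) ≤ 4 := Nat.le_of_dvd (by norm_num) hdvd
          have hpos : 0 < orderOf (x : Ω) := Nat.pos_of_dvd_of_pos hdvd (by norm_num)
          have h3 : orderOf (x : Ω) ≠ 3 := by
            intro h0
            rw [h0] at hdvd
            omega
          rw [h2]
          omega
        · rcases (Nat.dvd_prime hpp).mp hdvd with h0 | h0
          · exact absurd h0 hne1
          · exact Or.inl h0
      have himg : (((α ^ i) x : P) : Ω) = (x : Ω) * (((x⁻¹ * (α ^ i) x : P)) : Ω) := by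
        simp
      have himgH : (((α ^ i) x : P) : Ω) ∈ F.hyperfocalSubgroup p := by
        rw [himg]
        exact Subgroup.mul_mem _ hxH (hH i x)
      have hordimg : orderOf ((((α ^ i) x : P)) : Ω) = orderOf (x : Ω) := by
        rw [Subgroup.orderOf_coe, Subgroup.orderOf_coe]
        exact MulEquiv.orderOf_eq (α ^ i) x
      have hzle : Subgroup.zpowers (x : Ω) ≤ P := by
        rw [Subgroup.zpowers_le]
        exact x.2
      have hiso : IsIso F ((α ^ i : MulAut P) : P ≃* P) := (mem_autGroup_iff F hPS _).mp (hpowmem i)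
      have hφ := restrict_mem F hiso hzle
      have hmem : (P.subtype.comp ((α ^ i : MulAut P) : P ≃* P).toMonoidHom).comp (Subgroup.inclusion hzle) ∈
          F.homSet (Subgroup.zpowers (x : Ω)) (Subgroup.zpowers ((((α ^ i) x : P)) : Ω)) := by
        refine ⟨hφ, fun y => ?_⟩
        obtain ⟨j, hj⟩ := Subgroup.mem_zpowers_iff.mp y.2
        have hy : Subgroup.inclusion hzle y = x ^ j := by
          apply Subtype.ext
          rw [Subgroup.coe_zpow]
          exact hj.symm
        show (((α ^ i) (Subgroup.inclusion hzle y) : P) : Ω) ∈ _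
        rw [hy, map_zpow, Subgroup.coe_zpow]
        exact Subgroup.zpow_mem _ (Subgroup.mem_zpowers _) j
      have hres := h (Subgroup.zpowers (x : Ω)) (Subgroup.zpowers ((((α ^ i) x : P)) : Ω))
        (by rw [Subgroup.zpowers_le]; exact hxH) (by rw [Subgroup.zpowers_le]; exact himgH)
        inferInstance (by rw [Nat.card_zpowers]; exact hord)
        inferInstance (by rw [Nat.card_zpowers, hordimg]; exact hord) hmem
      obtain ⟨-, g, hg, hgx⟩ := hres
      refine ⟨g, hg, ?_⟩
      have := hgx ⟨(x : Ω), Subgroup.mem_zpowers _⟩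
      rw [← this]
      rfl
    -- all elements of small order of `P ∩ hyp` are fixed
    obtain ⟨n, hn⟩ := (hS.isNilpotent : Group.IsNilpotent S).nilpotent
    have hfix : ∀ x : P, (x : Ω) ∈ F.hyperfocalSubgroup p → x ^ smallExp p = 1 → α x = x := by
      intro x hxH hxs
      apply fix_small_of_conj hS (F.hyperfocalSubgroup p) hPS α k hk hαk hH hconj n x hxH hxs
      rw [hn]
      exact ⟨⟨x, hPS x.2⟩, Subgroup.mem_top _, rfl⟩
    -- `α` is trivial on `P ∩ hyp`
    have hVinv : ∀ v ∈ (F.hyperfocalSubgroup p).subgroupOf P, α v ∈ (F.hyperfocalSubgroup p).subgroupOf P := by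
      intro v hv
      rw [Subgroup.mem_subgroupOf] at hv ⊢
      have e : ((α v : P) : Ω) = (v : Ω) * (((v⁻¹ * (α ^ 1) v : P)) : Ω) := by
        simp
      rw [e]
      exact Subgroup.mul_mem _ hv (hH 1 v)
    have hiff := apply_mem_iff_of_forall α k hk0 hαk _ hVinv
    have hβk : (restrictAut α _ hiff) ^ k = 1 := by
      ext y
      rw [restrictAut_pow, hαk]
      rfl
    have hβ1 : restrictAut α _ hiff = 1 := by
      apply aut_eq_one_of_fix_small (hPp.to_subgroup _) _ k hk hβk
      intro y hy
      apply Subtype.ext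
      rw [restrictAut_apply]
      have hyH := y.2
      rw [Subgroup.mem_subgroupOf] at hyH
      apply hfix (y : P) hyH
      have := congrArg Subtype.val hy
      simpa using this
    apply eq_one_of_stabilizes hPp α k hk hαk ((F.hyperfocalSubgroup p).subgroupOf P)
    · intro x
      rw [Subgroup.mem_subgroupOf]
      have := hH 1 x
      rwa [pow_one] at this
    · intro v hv
      have h1 := congrArg (fun β : MulAut ((F.hyperfocalSubgroup p).subgroupOf P) => ((β ⟨v, hv⟩ : _) : P)) hβ1
      simpa [restrictAut_apply] using h1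
  -- all automorphism groups are `p`-groups
  have hpg : ∀ P : Subgroup Ω, P ≤ S → IsPGroup p (F.autGroup P) := by
    intro P hPS
    haveI : Finite P := Finite.of_injective (Subgroup.inclusion hPS) (Subgroup.inclusion_injective hPS)
    haveI : Finite (MulAut P) := Finite.of_injective (fun e : MulAut P => (e : P → P)) (fun a b hab => by
      ext x
      exact congrArg Subtype.val (congrFun hab x))
    rw [IsPGroup.iff_card]
    refine ⟨(Nat.card (F.autGroup P)).primeFactorsList.length, ?_⟩
    apply Nat.eq_prime_pow_of_unique_prime_dvd Nat.card_pos.ne'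
    intro q hq hqd
    by_contra hqp
    haveI : Fact q.Prime := ⟨hq⟩
    obtain ⟨a, ha⟩ := exists_prime_orderOf_dvd_card' q hqd
    have hcop : q.Coprime p := (Nat.coprime_primes hq hpp).mpr hqp
    have haq : (a : MulAut P) ^ q = 1 := by
      have h1 : a ^ q = 1 := by rw [← ha]; exact pow_orderOf_eq_one a
      have := congrArg Subtype.val h1
      simpa using this
    have h1 := key P hPS a a.2 q hcop haq
    have h2 : a = 1 := Subtype.ext h1
    rw [h2, orderOf_one] at ha
    exact hq.one_lt.ne' ha.symm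
  exact hom_eq_inner_of_forall_conj F (fun D φ hφ => frobenius_inner p hS F hF hpg D φ hφ)

end Cfsg.Agent.S5298
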