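-- Statement S5300 (helper88): if the small cyclic subgroups of foc(F) are normal in S then S is normal in F.
import Cfsg.Statements.S5300
import Cfsg.Agent.S5301
import Cfsg.Agent.Helper88.OmegaAut
import Cfsg.Agent.Helper87.FusionRS

set_option autoImplicit false
universe u
open Cfsg

namespace Cfsg.Agent.S5300

open Cfsg.FusionSystem Cfsg.Agent.Helper87 Cfsg.Agent.Helper88

/-- The automorphisms in `A` preserving `D` and mapping every `x ∈ D` with `x ^ q = 1` into `⟨x⟩` (fixing it when `fix`
holds), as a submonoid. -/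
def ctrlMon {P : Type*} [Group P] (A : Subgroup (MulAut P)) (D : Subgroup P) (q : ℕ) (fix : Prop) :
    Submonoid (MulAut P) where
  carrier := {a | a ∈ A ∧ (∀ x ∈ D, a x ∈ D) ∧
    ∀ x ∈ D, x ^ q = 1 → a x ∈ Subgroup.zpowers x ∧ (fix → a x = x)}
  one_mem' := ⟨A.one_mem, fun x hx => hx, fun x _ _ => ⟨Subgroup.mem_zpowers x, fun _ => rfl⟩⟩
  mul_mem' := by
    rintro a b ⟨ha, haD, hax⟩ ⟨hb, hbD, hbx⟩
    refine ⟨A.mul_mem ha hb, fun x hx => haD _ (hbD x hx), fun x hx hxq => ?_⟩
    obtain ⟨hb1, hb2⟩ := hbx x hx hxq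
    have hbq : (b x) ^ q = 1 := by rw [← map_pow, hxq, map_one]
    obtain ⟨ha1, ha2⟩ := hax (b x) (hbD x hx) hbq
    refine ⟨?_, fun hf => ?_⟩
    · rw [MulAut.mul_apply]
      exact (Subgroup.zpowers_le_of_mem hb1) ha1
    · rw [MulAut.mul_apply]
      have h1 := ha2 hf
      rw [hb2 hf] at h1
      rw [hb2 hf]
      exact h1

/-- The same set as a subgroup (the ambient automorphism group being finite). -/
def ctrlSub {P : Type*} [Group P] [Finite P] (A : Subgroup (MulAut P)) (D : Subgroup P) (q : ℕ) (fix : Prop) :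
    Subgroup (MulAut P) :=
  { ctrlMon A D q fix with
    inv_mem' := by
      intro a ha
      have hfin : Finite (MulAut P) := MulEquiv.finite_left
      have hpos : 0 < orderOf a := orderOf_pos a
      have h1 : a ^ (orderOf a - 1) * a = 1 := by
        rw [← pow_succ, Nat.sub_add_cancel hpos, pow_orderOf_eq_one]
      have h2 : a⁻¹ = a ^ (orderOf a - 1) := (eq_inv_of_mul_eq_one_left h1).symm
      show a⁻¹ ∈ ctrlMon A D q fix
      rw [h2]
      exact (ctrlMon A D q fix).pow_mem ha _ }

theorem mem_ctrlSub_iff {P : Type*} [Group P] [Finite P] (A : Subgroup (MulAut P)) (D : Subgroup P) (q : ℕ)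
    (fix : Prop) (a : MulAut P) : a ∈ ctrlSub A D q fix ↔ a ∈ A ∧ (∀ x ∈ D, a x ∈ D) ∧
      ∀ x ∈ D, x ^ q = 1 → a x ∈ Subgroup.zpowers x ∧ (fix → a x = x) := Iff.rfl

variable {Ω : Type u} [Group Ω] {S : Subgroup Ω}

/-- Elements `x⁻¹ α(x)` lie in the focal subgroup. -/
theorem inv_mul_apply_mem_focal (F : FusionSystem S) {P : Subgroup Ω} (hPS : P ≤ S) {a : MulAut P}
    (ha : a ∈ F.autGroup P) (x : P) : x⁻¹ * a x ∈ F.focalSubgroup.subgroupOf P := by
  rw [Subgroup.mem_subgroupOf]
  apply Subgroup.subset_closure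
  exact ⟨P, P.subtype.comp (a : P ≃* P).toMonoidHom, x, (mem_autGroup_iff F hPS a).mp ha, rfl⟩

theorem apply_mem_focal (F : FusionSystem S) {P : Subgroup Ω} (hPS : P ≤ S) {a : MulAut P}
    (ha : a ∈ F.autGroup P) (x : P) (hx : x ∈ F.focalSubgroup.subgroupOf P) :
    a x ∈ F.focalSubgroup.subgroupOf P := by
  have h1 := (F.focalSubgroup.subgroupOf P).mul_mem hx (inv_mul_apply_mem_focal F hPS ha x)
  rwa [mul_inv_cancel_left] at h1

/-- The finishing argument: a normal subgroup `C` of `Aut_F(P)` containing `Aut_S(P)` whose elements of order prime to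
`p` fix the small elements of `P ∩ foc(F)` is a normal Sylow `p`-subgroup. -/
theorem exists_normal_sylow [Finite S] (p : ℕ) [Fact p.Prime] (hS : IsPGroup p S) (F : FusionSystem S)
    (hF : F.IsSaturated p) {P : Subgroup Ω} [Finite P] (hfn : F.IsFullyNormalized P) (q : ℕ) (fix : Prop)
    (hle : autInducedBy S P ≤ ctrlSub (F.autGroup P) (F.focalSubgroup.subgroupOf P) q fix)
    (hsmall : ∀ δ ∈ ctrlSub (F.autGroup P) (F.focalSubgroup.subgroupOf P) q fix, ∀ k : ℕ, k.Coprime p → δ ^ k = 1 →
        ∀ x ∈ F.focalSubgroup.subgroupOf P, x ^ smallExp p = 1 → δ x = x) :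
    ∃ R : Sylow p ↥(F.autGroup P), (R : Subgroup ↥(F.autGroup P)).Normal := by
  have hPS : P ≤ S := hfn.1
  have hfinA : Finite (MulAut P) := MulEquiv.finite_left
  have hPp : IsPGroup p P := hS.to_le hPS
  set A := F.autGroup P with hA
  set D := F.focalSubgroup.subgroupOf P with hD
  set C := ctrlSub A D q fix with hC
  have hCA : C ≤ A := fun a ha => ha.1
  -- `C` is a `p`-group
  have hCp : IsPGroup p C := by
    rintro ⟨γ, hγ⟩
    have hN : orderOf γ ≠ 0 := (orderOf_pos γ).ne'
    obtain ⟨e, k, hk, hNk⟩ := Nat.exists_eq_pow_mul_and_not_dvd hN p (Fact.out : p.Prime).ne_one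
    refine ⟨e, Subtype.ext ?_⟩
    show γ ^ p ^ e = 1
    set δ := γ ^ p ^ e with hδ
    have hδC : δ ∈ C := C.pow_mem hγ _
    have hkcop : k.Coprime p := Nat.Coprime.symm ((Nat.Prime.coprime_iff_not_dvd (Fact.out : p.Prime)).mpr hk)
    have hδk : δ ^ k = 1 := by
      rw [hδ, ← pow_mul, ← hNk, pow_orderOf_eq_one]
    have hδA : δ ∈ A := hCA hδC
    have hinv : ∀ x, δ x ∈ D ↔ x ∈ D := by
      intro x
      constructor
      · intro h
        have h1 := D.mul_mem h (D.inv_mem (inv_mul_apply_mem_focal F hPS hδA x))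
        simpa using h1
      · exact apply_mem_focal F hPS hδA x
    -- `δ` is trivial on `D`
    have hDp : IsPGroup p D := hPp.to_subgroup D
    have h1 : restrictAut δ D hinv = 1 := by
      apply aut_eq_one_of_fix_small hDp (restrictAut δ D hinv) k hkcop
      · ext y
        rw [restrictAut_pow, hδk]
        rfl
      · intro y hy
        apply Subtype.ext
        rw [restrictAut_apply]
        apply hsmall δ hδC k hkcop hδk y y.2
        have := congrArg Subtype.val hy
        simpa using this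
    apply eq_one_of_stabilizes hPp δ k hkcop hδk D (inv_mul_apply_mem_focal F hPS hδA)
    intro v hv
    have h2 := congrArg (fun β : MulAut D => ((β ⟨v, hv⟩ : D) : P)) h1
    exact h2
  -- `C` is normal in `A`
  have hCn : (C.subgroupOf A).Normal := by
    constructor
    intro a ha b
    rw [Subgroup.mem_subgroupOf] at ha ⊢
    obtain ⟨haA, haD, hax⟩ := ha
    have hbA : (b : MulAut P) ∈ A := b.2
    have hbinvA : (b : MulAut P)⁻¹ ∈ A := A.inv_mem hbA
    show (b : MulAut P) * (a : MulAut P) * (b : MulAut P)⁻¹ ∈ C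
    refine ⟨A.mul_mem (A.mul_mem hbA haA) hbinvA, fun x hx => ?_, fun x hx hxq => ?_⟩
    · rw [MulAut.mul_apply, MulAut.mul_apply]
      exact apply_mem_focal F hPS hbA _ (haD _ (apply_mem_focal F hPS hbinvA x hx))
    · rw [MulAut.mul_apply, MulAut.mul_apply]
      set y := (b : MulAut P)⁻¹ x with hy
      have hyD : y ∈ D := apply_mem_focal F hPS hbinvA x hx
      have hyq : y ^ q = 1 := by rw [hy, ← map_pow, hxq, map_one]
      have hby : (b : MulAut P) y = x := by rw [hy, MulAut.apply_inv_self]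
      obtain ⟨h1, h2⟩ := hax y hyD hyq
      refine ⟨?_, fun hf => ?_⟩
      · obtain ⟨j, hj⟩ := Subgroup.mem_zpowers_iff.mp h1
        rw [← hj, map_zpow, hby]
        exact Subgroup.zpow_mem_zpowers x j
      · rw [h2 hf, hby]
  -- conclusion
  obtain ⟨-, -, T₀, hT₀⟩ := fullyAutomized_fullyCentralized_of_fullyNormalized hS F hF hfn
  have hle' : (T₀ : Subgroup A) ≤ C.subgroupOf A := by
    rw [hT₀]
    intro x hx
    rw [Subgroup.mem_subgroupOf] at hx ⊢
    exact hle hx
  have heq : C.subgroupOf A = (T₀ : Subgroup A) := T₀.is_maximal' hCp.comap_subtype hle'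
  refine ⟨T₀, ?_⟩
  rw [← heq]
  exact hCn

/-- Powers of an automorphism induced by conjugation. -/
theorem conj_pow_apply {P : Subgroup Ω} (a : MulAut P) (g : Ω) (hgx : ∀ x : P, ((a x : P) : Ω) = g * x * g⁻¹) (n : ℕ)
    (y : P) : (((a ^ n) y : P) : Ω) = g ^ n * y * (g ^ n)⁻¹ := by
  induction n with
  | zero => simp
  | succ n ih =>
    rw [pow_succ', MulAut.mul_apply, hgx, ih, pow_succ']
    group

/-- Elements of `Aut_S(P)` are in `Aut_F(P)`. -/
theorem autInducedBy_le_autGroup (F : FusionSystem S) {P : Subgroup Ω} (hPS : P ≤ S) :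
    autInducedBy S P ≤ F.autGroup P := by
  intro a ha
  obtain ⟨g, hg, hgx⟩ := (mem_autInducedBy_iff S P a).mp ha
  rw [mem_autGroup_iff F hPS, eq_conjAut_of_conj_eq a g hgx]
  exact isIso_conjAut F hPS hg _

/-- Transfer of membership in a cyclic subgroup from the ambient group to `P`. -/
theorem mem_zpowers_of_coe {P : Subgroup Ω} (x y : P) (h : (y : Ω) ∈ Subgroup.zpowers (x : Ω)) :
    y ∈ Subgroup.zpowers x := by
  obtain ⟨j, hj⟩ := Subgroup.mem_zpowers_iff.mp h
  rw [Subgroup.mem_zpowers_iff]
  refine ⟨j, Subtype.ext ?_⟩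
  rw [← hj]
  simp

/-- Let F be a saturated fusion system over a finite p-group S. If every cyclic subgroup of the focal subgroup of F of order p (of order 2 or 4 when p = 2) is normal in S, then S is normal in F. -/
theorem result {Ω : Type u} [Group Ω] {S : Subgroup Ω} [Finite S] (p : ℕ) [Fact p.Prime] (hS : IsPGroup p S)
    (F : Cfsg.FusionSystem S) (hF : F.IsSaturated p)
    (hnorm : ∀ x ∈ F.focalSubgroup, (x ^ p = 1 ∨ (p = 2 ∧ x ^ 4 = 1)) → ∀ s ∈ S, s * x * s⁻¹ ∈ Subgroup.zpowers x) :
    F.IsNormal S := by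
  apply Cfsg.Agent.S5301.result p hS F hF
  intro P hfn _ _
  have hPS : P ≤ S := hfn.1
  have hfinP : Finite P := finite_of_le hPS
  have hp : p.Prime := Fact.out
  by_cases h2 : p = 2
  · -- `p = 2`
    apply exists_normal_sylow p hS F hF hfn 4 False
    · intro a ha
      obtain ⟨g, hg, hgx⟩ := (mem_autInducedBy_iff S P a).mp ha
      have haA : a ∈ F.autGroup P := autInducedBy_le_autGroup F hPS ha
      refine ⟨haA, fun x hx => apply_mem_focal F hPS haA x hx, fun x hx hxq => ⟨?_, fun hf => hf.elim⟩⟩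
      have hxq' : (x : Ω) ^ 4 = 1 := by
        have := congrArg Subtype.val hxq
        simpa using this
      have h1 := hnorm (x : Ω) hx (Or.inr ⟨h2, hxq'⟩) g hg
      apply mem_zpowers_of_coe
      rw [hgx]
      exact h1
    · intro δ hδ k hk hδk x hx hxq
      have hxq4 : x ^ 4 = 1 := by
        have : smallExp p = 4 := by unfold smallExp; rw [if_pos h2]
        rwa [this] at hxq
      obtain ⟨h1, -⟩ := hδ.2.2 x hx hxq4
      apply apply_eq_of_mem_zpowers δ x h1 k hδk
      have hdvd : orderOf x ∣ 4 := orderOf_dvd_of_pow_eq_one hxq4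
      have hle : orderOf x ≤ 4 := Nat.le_of_dvd (by norm_num) hdvd
      have hkodd : k.Coprime 2 := by rw [h2] at hk; exact hk
      have hpos : 0 < orderOf x := orderOf_pos x
      have h3 : orderOf x ≠ 3 := by
        intro h
        rw [h] at hdvd
        omega
      have hcases : orderOf x = 1 ∨ orderOf x = 2 ∨ orderOf x = 4 := by omega
      rcases hcases with h | h | h
      · rw [h]; simp
      · rw [h]; simp
      · rw [h]
        have : Nat.totient 4 = 2 := by decide
        rw [this]
        exact hkodd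
  · -- `p` odd
    apply exists_normal_sylow p hS F hF hfn p True
    · intro a ha
      obtain ⟨g, hg, hgx⟩ := (mem_autInducedBy_iff S P a).mp ha
      have haA : a ∈ F.autGroup P := autInducedBy_le_autGroup F hPS ha
      refine ⟨haA, fun x hx => apply_mem_focal F hPS haA x hx, fun x hx hxq => ?_⟩
      have hxq' : (x : Ω) ^ p = 1 := by
        have := congrArg Subtype.val hxq
        simpa using this
      have h1 := hnorm (x : Ω) hx (Or.inl hxq') g hg
      have hz : a x ∈ Subgroup.zpowers x := by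
        apply mem_zpowers_of_coe
        rw [hgx]
        exact h1
      refine ⟨hz, fun _ => ?_⟩
      obtain ⟨m, hm⟩ := IsPGroup.iff_card.mp hS
      have hgpow : g ^ p ^ m = 1 := by
        have := pow_card_eq_one' (G := S) (x := ⟨g, hg⟩)
        rw [hm] at this
        have h0 := congrArg Subtype.val this
        simpa using h0
      have hapow : a ^ p ^ m = 1 := by
        ext y
        rw [conj_pow_apply a g hgx, hgpow]
        simp
      apply apply_eq_of_mem_zpowers a x hz (p ^ m) hapow
      have hdvd : orderOf x ∣ p := orderOf_dvd_of_pow_eq_one hxq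
      rcases (Nat.dvd_prime hp).mp hdvd with h | h
      · rw [h]; simp
      · rw [h, Nat.totient_prime hp]
        apply Nat.Coprime.pow_left
        exact (Nat.coprime_self_sub_right hp.one_le).mpr (Nat.coprime_one_right p)
    · intro δ hδ k hk hδk x hx hxq
      have hxp : x ^ p = 1 := by
        have : smallExp p = p := by unfold smallExp; rw [if_neg h2]
        rwa [this] at hxq
      exact (hδ.2.2 x hx hxp).2 trivial

end Cfsg.Agent.S5300
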