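import Cfsg.Statements.S5306

set_option autoImplicit false
open Cfsg

namespace Cfsg.Agent.S5306

variable {X : Type*} [Group X]

theorem isElemAb_iff (p : ℕ) (A : Subgroup X) :
    Cfsg.IsElementaryAbelian p A ↔ (∀ a ∈ A, ∀ b ∈ A, a * b = b * a) ∧ ∀ a ∈ A, a ^ p = 1 := by
  unfold Cfsg.IsElementaryAbelian
  constructor
  · rintro ⟨h1, h2⟩
    refine ⟨fun a ha b hb => ?_, h2⟩
    have := h1.is_comm.comm ⟨a, ha⟩ ⟨b, hb⟩
    exact congrArg Subtype.val this
  · rintro ⟨h1, h2⟩
    exact ⟨⟨⟨fun a b => Subtype.ext (h1 a a.2 b b.2)⟩⟩, h2⟩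

/-- Elementary abelian subgroups of `X` inside `P` of largest order. -/
def maxEA (p : ℕ) (P : Subgroup X) : Set (Subgroup X) :=
  {A | A ≤ P ∧ Cfsg.IsElementaryAbelian p A ∧
    ∀ B : Subgroup X, B ≤ P → Cfsg.IsElementaryAbelian p B → Nat.card B ≤ Nat.card A}

theorem isElemAb_map_inj {Y : Type*} [Group Y] (p : ℕ) (f : Y →* X) (hf : Function.Injective f)
    (A : Subgroup Y) : Cfsg.IsElementaryAbelian p (A.map f) ↔ Cfsg.IsElementaryAbelian p A := by
  rw [isElemAb_iff, isElemAb_iff]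
  constructor
  · rintro ⟨h1, h2⟩
    refine ⟨fun a ha b hb => hf ?_, fun a ha => hf ?_⟩
    · rw [map_mul, map_mul]
      exact h1 _ (Subgroup.mem_map_of_mem f ha) _ (Subgroup.mem_map_of_mem f hb)
    · rw [map_pow, map_one]
      exact h2 _ (Subgroup.mem_map_of_mem f ha)
  · rintro ⟨h1, h2⟩
    refine ⟨?_, ?_⟩
    · rintro _ ⟨a, ha, rfl⟩ _ ⟨b, hb, rfl⟩
      rw [← map_mul, ← map_mul, h1 a ha b hb]
    · rintro _ ⟨a, ha, rfl⟩
      rw [← map_pow, h2 a ha, map_one]

theorem thompson_eq (p : ℕ) (P : Subgroup X) :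
    Cfsg.thompsonSubgroupOf p P = sSup (maxEA p P) := by
  unfold Cfsg.thompsonSubgroupOf Cfsg.thompsonSubgroup
  rw [(Subgroup.gc_map_comap P.subtype).l_sSup]
  apply le_antisymm
  · refine iSup₂_le fun A hA => le_sSup ?_
    obtain ⟨hA1, hA2⟩ := hA
    refine ⟨Subgroup.map_subtype_le A, (isElemAb_map_inj p _ (Subgroup.subtype_injective P) A).mpr hA1, ?_⟩
    intro B hB hBe
    have hB' : (B.subgroupOf P).map P.subtype = B := Subgroup.map_subgroupOf_eq_of_le hB
    have h1 : Cfsg.IsElementaryAbelian p (B.subgroupOf P) := by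
      rw [← isElemAb_map_inj p _ (Subgroup.subtype_injective P), hB']; exact hBe
    have h2 := hA2 _ h1
    rw [Subgroup.card_map_of_injective (Subgroup.subtype_injective P)]
    rw [← hB', Subgroup.card_map_of_injective (Subgroup.subtype_injective P)]
    exact h2
  · refine sSup_le fun B hB => ?_
    obtain ⟨hB1, hB2, hB3⟩ := hB
    have hB' : (B.subgroupOf P).map P.subtype = B := Subgroup.map_subgroupOf_eq_of_le hB1
    have hmem : B.subgroupOf P ∈ Cfsg.maxElementaryAbelianSubgroups p P := by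
      refine ⟨?_, fun A hA => ?_⟩
      · rw [← isElemAb_map_inj p _ (Subgroup.subtype_injective P), hB']; exact hB2
      · have := hB3 (A.map P.subtype) (Subgroup.map_subtype_le A)
          ((isElemAb_map_inj p _ (Subgroup.subtype_injective P) A).mpr hA)
        rw [Subgroup.card_map_of_injective (Subgroup.subtype_injective P)] at this
        rw [← hB', Subgroup.card_map_of_injective (Subgroup.subtype_injective P)] at this
        exact this
    calc B = (B.subgroupOf P).map P.subtype := hB'.symm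
      _ ≤ _ := le_iSup₂ (f := fun A _ => Subgroup.map P.subtype A) (B.subgroupOf P) hmem

theorem map_symm_map (e : X ≃* X) (A : Subgroup X) :
    (A.map e.toMonoidHom).map e.symm.toMonoidHom = A := by
  rw [Subgroup.map_map]
  have : e.symm.toMonoidHom.comp e.toMonoidHom = MonoidHom.id X := by
    ext x; simp
  rw [this, Subgroup.map_id]

theorem map_map_symm (e : X ≃* X) (A : Subgroup X) :
    (A.map e.symm.toMonoidHom).map e.toMonoidHom = A := by
  rw [Subgroup.map_map]
  have : e.toMonoidHom.comp e.symm.toMonoidHom = MonoidHom.id X := by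
    ext x; simp
  rw [this, Subgroup.map_id]

theorem mem_maxEA_map (p : ℕ) (P : Subgroup X) (e : X ≃* X) {A : Subgroup X} (hA : A ∈ maxEA p P) :
    A.map e.toMonoidHom ∈ maxEA p (P.map e.toMonoidHom) := by
  obtain ⟨hA1, hA2, hA3⟩ := hA
  refine ⟨Subgroup.map_mono hA1, (isElemAb_map_inj p _ e.injective A).mpr hA2, fun B hB hBe => ?_⟩
  have h1 : B.map e.symm.toMonoidHom ≤ P := by
    calc B.map e.symm.toMonoidHom ≤ (P.map e.toMonoidHom).map e.symm.toMonoidHom := Subgroup.map_mono hB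
      _ = P := map_symm_map e P
  have h2 : Cfsg.IsElementaryAbelian p (B.map e.symm.toMonoidHom) :=
    (isElemAb_map_inj p _ e.symm.injective B).mpr hBe
  have h3 := hA3 _ h1 h2
  rw [Subgroup.card_map_of_injective e.symm.injective] at h3
  rw [Subgroup.card_map_of_injective e.injective]
  exact h3

theorem thompson_map_le (p : ℕ) (P : Subgroup X) (e : X ≃* X) :
    (Cfsg.thompsonSubgroupOf p P).map e.toMonoidHom ≤ Cfsg.thompsonSubgroupOf p (P.map e.toMonoidHom) := by
  rw [thompson_eq, thompson_eq, (Subgroup.gc_map_comap e.toMonoidHom).l_sSup]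
  exact iSup₂_le fun A hA => le_sSup (mem_maxEA_map p P e hA)

theorem thompson_map (p : ℕ) (P : Subgroup X) (e : X ≃* X) :
    Cfsg.thompsonSubgroupOf p (P.map e.toMonoidHom) = (Cfsg.thompsonSubgroupOf p P).map e.toMonoidHom := by
  apply le_antisymm _ (thompson_map_le p P e)
  have h := thompson_map_le p (P.map e.toMonoidHom) e.symm
  rw [map_symm_map] at h
  calc Cfsg.thompsonSubgroupOf p (P.map e.toMonoidHom)
      = ((Cfsg.thompsonSubgroupOf p (P.map e.toMonoidHom)).map e.symm.toMonoidHom).map e.toMonoidHom :=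
        (map_map_symm e _).symm
    _ ≤ _ := Subgroup.map_mono h

theorem thompson_le (p : ℕ) (P : Subgroup X) : Cfsg.thompsonSubgroupOf p P ≤ P := by
  unfold Cfsg.thompsonSubgroupOf
  exact Subgroup.map_subtype_le _

/-- If `J(P)` lies in a conjugate `P'` of `P`, then `J(P) = J(P')`. -/
theorem thompson_eq_of_le [Finite X] (p : ℕ) (P : Subgroup X) (e : X ≃* X)
    (h : Cfsg.thompsonSubgroupOf p P ≤ P.map e.toMonoidHom) :
    Cfsg.thompsonSubgroupOf p P = Cfsg.thompsonSubgroupOf p (P.map e.toMonoidHom) := by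
  have hle : Cfsg.thompsonSubgroupOf p P ≤ Cfsg.thompsonSubgroupOf p (P.map e.toMonoidHom) := by
    conv_lhs => rw [thompson_eq]
    refine sSup_le fun A hA => ?_
    rw [thompson_eq (P := P.map e.toMonoidHom)]
    apply le_sSup
    have hAJ : A ≤ Cfsg.thompsonSubgroupOf p P := by rw [thompson_eq]; exact le_sSup hA
    obtain ⟨hA1, hA2, hA3⟩ := hA
    refine ⟨hAJ.trans h, hA2, fun B hB hBe => ?_⟩
    have h1 : B.map e.symm.toMonoidHom ≤ P := by
      calc B.map e.symm.toMonoidHom ≤ (P.map e.toMonoidHom).map e.symm.toMonoidHom := Subgroup.map_mono hB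
        _ = P := map_symm_map e P
    have h2 : Cfsg.IsElementaryAbelian p (B.map e.symm.toMonoidHom) :=
      (isElemAb_map_inj p _ e.symm.injective B).mpr hBe
    have h3 := hA3 _ h1 h2
    rw [Subgroup.card_map_of_injective e.symm.injective] at h3
    exact h3
  refine Subgroup.eq_of_le_of_card_ge hle ?_
  rw [thompson_map, Subgroup.card_map_of_injective e.injective]

/-- Let P be a Sylow p-subgroup of the finite group X and J = J(P) its Thompson subgroup (generated by the elementary abelian subgroups of P of largest order). If x and y lie in the centre of J and y = g x g⁻¹ for some g in X, then y = n x n⁻¹ for some n in the normalizer N_X(J). -/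
theorem result {X : Type*} [Group X] [Finite X] (p : ℕ) [Fact p.Prime] (P : Sylow p X) (J : Subgroup X) (hJ : J = Cfsg.thompsonSubgroupOf p (P : Subgroup X))
    (x y : X) (hx : x ∈ J ∧ ∀ j ∈ J, Commute j x) (hy : y ∈ J ∧ ∀ j ∈ J, Commute j y) (g : X) (hg : g * x * g⁻¹ = y) :
    ∃ n ∈ Subgroup.normalizer (J : Set X), n * x * n⁻¹ = y := by
  -- the centralizer of `y`
  let C : Subgroup X := Subgroup.centralizer {y}
  have hJC : J ≤ C := by
    intro j hj
    rw [Subgroup.mem_centralizer_iff]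
    intro z hz
    have hzy : z = y := hz
    rw [hzy]
    exact ((hy.2 j hj).eq).symm
  have hgJC : J.map (MulAut.conj g).toMonoidHom ≤ C := by
    rintro _ ⟨j, hj, rfl⟩
    rw [Subgroup.mem_centralizer_iff]
    intro z hz
    have hzy : z = y := hz
    rw [hzy]
    have h1 : j * x = x * j := (hx.2 j hj).eq
    show y * (g * j * g⁻¹) = g * j * g⁻¹ * y
    rw [← hg]
    calc g * x * g⁻¹ * (g * j * g⁻¹) = g * (x * j) * g⁻¹ := by group
      _ = g * (j * x) * g⁻¹ := by rw [h1]
      _ = g * j * g⁻¹ * (g * x * g⁻¹) := by group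
  have hJP : J ≤ (P : Subgroup X) := hJ ▸ thompson_le p _
  have hJp : IsPGroup p J := P.2.to_le hJP
  have hgJp : IsPGroup p (J.map (MulAut.conj g).toMonoidHom) := hJp.map _
  obtain ⟨R₁, hR₁⟩ := (hJp.comap_subtype (K := C)).exists_le_sylow
  obtain ⟨R₂, hR₂⟩ := (hgJp.comap_subtype (K := C)).exists_le_sylow
  obtain ⟨c, hc⟩ := MulAction.exists_smul_eq C R₂ R₁
  -- `R₁` as a `p`-subgroup of `X`
  obtain ⟨P₁, hP₁⟩ := (R₁.2.map C.subtype).exists_le_sylow
  obtain ⟨h, hh⟩ := MulAction.exists_smul_eq X P P₁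
  have hP₁eq : (P₁ : Subgroup X) = (P : Subgroup X).map (MulAut.conj h).toMonoidHom := by
    rw [← hh]; rfl
  -- `J ≤ P₁`
  have hJR : J ≤ (R₁ : Subgroup C).map C.subtype := by
    intro j hj
    exact ⟨⟨j, hJC hj⟩, hR₁ (show (⟨j, hJC hj⟩ : C) ∈ J.subgroupOf C from hj), rfl⟩
  have hJP₁ : J ≤ (P₁ : Subgroup X) := hJR.trans hP₁
  have hJ1 : J = Cfsg.thompsonSubgroupOf p (P₁ : Subgroup X) := by
    rw [hP₁eq, hJ]
    apply thompson_eq_of_le
    rw [← hJ, ← hP₁eq]; exact hJP₁
  -- `n = c * g`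
  let n : X := (c : X) * g
  have hnJR : J.map (MulAut.conj n).toMonoidHom ≤ (R₁ : Subgroup C).map C.subtype := by
    rintro _ ⟨j, hj, rfl⟩
    have h1 : g * j * g⁻¹ ∈ C := hgJC ⟨j, hj, rfl⟩
    have h2 : (⟨g * j * g⁻¹, h1⟩ : C) ∈ (R₂ : Subgroup C) :=
      hR₂ (show (⟨g * j * g⁻¹, h1⟩ : C) ∈ (J.map (MulAut.conj g).toMonoidHom).subgroupOf C from ⟨j, hj, rfl⟩)
    have h3 : c * (⟨g * j * g⁻¹, h1⟩ : C) * c⁻¹ ∈ (R₁ : Subgroup C) := by
      rw [← hc, Sylow.coe_subgroup_smul]
      have := Subgroup.smul_mem_pointwise_smul _ (MulAut.conj c) (R₂ : Subgroup C) h2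
      simpa [MulAut.smul_def] using this
    refine ⟨_, h3, ?_⟩
    show (c : X) * (g * j * g⁻¹) * (c : X)⁻¹ = (c : X) * g * j * ((c : X) * g)⁻¹
    group
  -- `J(P₂) = J(P₁)` where `P₂ = n P n⁻¹`
  have hP₁eq' : (P₁ : Subgroup X) =
      ((P : Subgroup X).map (MulAut.conj n).toMonoidHom).map (MulAut.conj (h * n⁻¹)).toMonoidHom := by
    rw [hP₁eq, Subgroup.map_map]
    congr 1
    ext z
    simp [mul_assoc]
  have hJ2 : Cfsg.thompsonSubgroupOf p ((P : Subgroup X).map (MulAut.conj n).toMonoidHom) =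
      Cfsg.thompsonSubgroupOf p (P₁ : Subgroup X) := by
    rw [hP₁eq']
    apply thompson_eq_of_le
    rw [← hP₁eq', thompson_map, ← hJ]
    exact hnJR.trans hP₁
  have hnJ : J.map (MulAut.conj n).toMonoidHom = J := by
    conv_rhs => rw [hJ1, ← hJ2, thompson_map, ← hJ]
  refine ⟨n, Subgroup.mem_normalizer_iff_map_conj_eq.mpr hnJ, ?_⟩
  have hcy : y * (c : X) = (c : X) * y := by
    have := c.2
    rw [Subgroup.mem_centralizer_iff] at this
    exact this y rfl
  show (c : X) * g * x * ((c : X) * g)⁻¹ = y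
  calc (c : X) * g * x * ((c : X) * g)⁻¹ = (c : X) * (g * x * g⁻¹) * (c : X)⁻¹ := by group
    _ = (c : X) * y * (c : X)⁻¹ := by rw [hg]
    _ = y := by rw [← hcy]; group

end Cfsg.Agent.S5306
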