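import Cfsg.Statements.S5311
import Cfsg.Agent.Helper85.TransportAut

set_option autoImplicit false
open Cfsg

namespace Cfsg.Agent.S5311

open Cfsg.Agent.Helper85



/-- The layer of a saturated fusion system F over a finite p-group S is characteristic in F: for every automorphism α of S that is an automorphism of F (α and its inverse are morphisms from F to F) and every layer E of F over T, α carries T onto T and, for every map φ of E with source P, the map induced by α on α(P) (that is, α ∘ φ ∘ α⁻¹) is a map of E. -/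
theorem result {Ω : Type*} [Group Ω] {S : Subgroup Ω} [Finite S] (p : ℕ) [Fact p.Prime] (hS : IsPGroup p S) (F : Cfsg.FusionSystem S) (hF : F.IsSaturated p)
    (α : ↥S ≃* ↥S) (hα : F.IsMorphism F (S.subtype.comp α.toMonoidHom))
    (hα' : F.IsMorphism F (S.subtype.comp α.symm.toMonoidHom))
    {T : Subgroup Ω} (E : Cfsg.FusionSystem T) (hE : E.IsLayerOf F p) :
    Cfsg.FusionSystem.imageAlong (S.subtype.comp α.toMonoidHom) T = T ∧
      ∀ (P : Subgroup Ω) (φ : ↥P →* Ω), φ ∈ E.Hom P →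
        ∀ φ' : ↥(Cfsg.FusionSystem.imageAlong (S.subtype.comp α.toMonoidHom) P) →* Ω,
          Cfsg.FusionSystem.InducedAlong (S.subtype.comp α.toMonoidHom) φ φ' →
            φ' ∈ E.Hom (Cfsg.FusionSystem.imageAlong (S.subtype.comp α.toMonoidHom) P) := by
  set θ : ↥S →* Ω := S.subtype.comp α.toMonoidHom with hθ
  set θ' : ↥S →* Ω := S.subtype.comp α.symm.toMonoidHom with hθ'
  have h1 : ∀ x : S, ∃ h : θ x ∈ S, θ' ⟨θ x, h⟩ = x := fun x => ⟨(α x).2, by
    show ((α.symm (α x) : S) : Ω) = x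
    rw [MulEquiv.symm_apply_apply]⟩
  have h2 : ∀ x : S, ∃ h : θ' x ∈ S, θ ⟨θ' x, h⟩ = x := fun x => ⟨(α.symm x).2, by
    show ((α (α.symm x) : S) : Ω) = x
    rw [MulEquiv.apply_symm_apply]⟩
  have hFF := isImgF_of_isMorphism h1 h2 hα hα'
  have hF'F' := isImgF_of_isMorphism h2 h1 hα' hα
  have hff' : ∀ x ∈ S, extFun θ (extFun θ' x) = x := by
    intro x hx
    obtain ⟨h, hx'⟩ := h2 ⟨x, hx⟩
    rw [extFun_eq θ' hx, extFun_eq θ h]
    exact hx'
  have hf'f : ∀ x ∈ S, extFun θ' (extFun θ x) = x := by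
    intro x hx
    obtain ⟨h, hx'⟩ := h1 ⟨x, hx⟩
    rw [extFun_eq θ hx, extFun_eq θ' h]
    exact hx'
  have hTS : T ≤ S := hE.1.1.2.2.2.1.1
  have hfinT : Finite T := Cfsg.Agent.Helper87.finite_of_le hTS
  obtain ⟨Tα, Eα, hEα⟩ := exists_isImgF (hFF.hom.mono hTS) E
  obtain ⟨Tβ, Eβ, hEβ⟩ := exists_isImgF (hF'F'.hom.mono hTS) E
  have hLα := layer_le_img hS hFF hF'F' hff' hE hEα
  have hLβ := layer_le_img hS hF'F' hFF hf'f hE hEβ
  have hTα : T ≤ Tα := (Eα.le_of_mem (hLα T (Cfsg.Agent.Helper85.subtype_mem E le_rfl))).1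
  have hTβ : T ≤ Tβ := (Eβ.le_of_mem (hLβ T (Cfsg.Agent.Helper85.subtype_mem E le_rfl))).1
  refine ⟨?_, ?_⟩
  · have him : IsIm (extFun θ) T (Cfsg.FusionSystem.imageAlong θ T) := isIm_imageAlong θ hTS
    apply le_antisymm
    · intro y hy
      obtain ⟨x, hx, rfl⟩ := (him y).mp hy
      obtain ⟨t, ht, htx⟩ := (hEβ.im x).mp (hTβ hx)
      rw [← htx, hff' t (hTS ht)]
      exact ht
    · rw [him.eq_right hEα.im]
      exact hTα
  · intro P φ hφ φ' hind
    have hPT := (E.le_of_mem hφ).1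
    have hPS := hPT.trans hTS
    obtain ⟨P₁, φ₁, hφ₁, him₁, hind₁⟩ := (hEβ.iff P φ).mp (hLβ P hφ)
    have hP₁T := (E.le_of_mem hφ₁).1
    have himP := isIm_imageAlong θ hPS
    have himP₁ : IsIm (extFun θ) P P₁ := by
      intro y
      constructor
      · intro hy
        exact ⟨extFun θ' y, him₁.map_mem hy, hff' y (hTS (hP₁T hy))⟩
      · rintro ⟨x, hx, rfl⟩
        obtain ⟨z, hz, rfl⟩ := (him₁ x).mp hx
        rw [hff' z (hTS (hP₁T hz))]
        exact hz
    have hEq : P₁ = Cfsg.FusionSystem.imageAlong θ P := himP₁.eq_right himP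
    subst hEq
    have hφφ : φ₁ = φ' := by
      refine ind_unique himP ?_ (ind_of_inducedAlong θ hind)
      intro x h
      have hx' : extFun θ' ((⟨extFun θ x, h⟩ : ↥(Cfsg.FusionSystem.imageAlong θ P)) : Ω) ∈ P := by
        show extFun θ' (extFun θ x) ∈ P
        rw [hf'f x (hPS x.2)]
        exact x.2
      have e1 := hind₁ ⟨extFun θ x, h⟩ hx'
      have e2 : φ ⟨extFun θ' (extFun θ x), hx'⟩ = φ x := by
        congr 1
        exact Subtype.ext (hf'f x (hPS x.2))
      rw [e2] at e1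
      rw [e1, hff' _ (hTS ((E.le_of_mem hφ₁).2 _))]
    rw [← hφφ]
    exact hφ₁

end Cfsg.Agent.S5311
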