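import Cfsg.Statements.S5317
import Cfsg.Agent.Helper80.PSL2Fusion
import Cfsg.Agent.Helper85.SimpleCrit

set_option autoImplicit false
open Cfsg

namespace Cfsg.Agent.S5317

/-- Let F be a finite field of odd order q with q² ≡ 1 mod 16 (so that a Sylow 2-subgroup of PSL(2,q), dihedral of order the 2-part of (q²−1)/2, has order at least 8). Then the 2-fusion system of PSL(2,F) on a Sylow 2-subgroup is simple: saturated, over a nontrivial 2-group, with no normal subsystem other than the trivial one and itself. -/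
theorem result {F : Type*} [Field F] [Fintype F] (hodd : Fintype.card F % 2 = 1) (h16 : 16 ∣ Fintype.card F ^ 2 - 1)
    (S : Sylow 2 (Matrix.ProjectiveSpecialLinearGroup (Fin 2) F)) :
    (Cfsg.groupFusionSystem (S : Subgroup (Matrix.ProjectiveSpecialLinearGroup (Fin 2) F))).IsSimple 2 := by
  have hodd' : Odd (Fintype.card F) := Nat.odd_iff.2 hodd
  obtain ⟨j, hj, ⟨e⟩⟩ := Cfsg.Agent.Helper80.PSL2Fusion.sylow_dihedral hodd' h16 S
  have hconj := Cfsg.Agent.Helper80.PSL2Fusion.involutions_conj (F := F) hodd' h16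
  have hS1 : (S : Subgroup (Matrix.ProjectiveSpecialLinearGroup (Fin 2) F)) ≠ ⊥ := by
    intro h
    have h1 : Nat.card (S : Subgroup (Matrix.ProjectiveSpecialLinearGroup (Fin 2) F)) = 2 * 2 ^ j := by
      rw [Nat.card_congr e.toEquiv, DihedralGroup.nat_card]
    rw [h, Subgroup.card_bot] at h1
    have : 0 < 2 ^ j := by positivity
    omega
  refine Cfsg.Agent.Helper85.isSimple_of_selfNorm 2 S hS1 ?_ ?_
  · intro g hg
    exact Cfsg.Agent.Helper80.DihSylow.selfNorm_of_dihedral S hj e g hg
  · intro T hT hcl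
    exact Cfsg.Agent.Helper80.DihSylow.noStrClosed_of_dihedral S e hconj T hT hcl

end Cfsg.Agent.S5317
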