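-- S5318 (helper88): the 2-fusion system of PSL₃(F), F finite of odd order, is simple.
-- Route: helper85's criterion `isSimple_of_selfNorm_conj` in PSL₃(F) = SL₃(F)/Z, Z of odd order; the Sylow 2-subgroup of
-- SL₃(F) is the image of a Sylow 2-subgroup of GL₂(F) (wreathed or semidihedral), see Helper88/PSL3Main.
import Cfsg.Statements.S5318
import Cfsg.Agent.Helper88.PSL3Main
import Cfsg.Agent.Helper88.PSL3Quot

set_option autoImplicit false
open Cfsg

namespace Cfsg.Agent.S5318

/-- For a finite field F of odd order, the 2-fusion system of PSL(3,F) on a Sylow 2-subgroup (semidihedral or wreathed according as |F| ≡ 3 or 1 mod 4) is simple. -/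
theorem result {F : Type*} [Field F] [Fintype F] (hodd : Fintype.card F % 2 = 1) (S : Sylow 2 (Matrix.ProjectiveSpecialLinearGroup (Fin 3) F)) :
    (Cfsg.groupFusionSystem (S : Subgroup (Matrix.ProjectiveSpecialLinearGroup (Fin 3) F))).IsSimple 2 := by
  obtain ⟨S₀, h0, hN, hT⟩ := Cfsg.Agent.Helper88.PSL3F.exists_sylow_SL3 hodd
  obtain ⟨S', h0', h1', h2'⟩ := Cfsg.Agent.Helper88.PSL3F.quotient_selfNorm_noStrClosed 2
    (Subgroup.center (Matrix.SpecialLinearGroup (Fin 3) F)) le_rfl
    Cfsg.Agent.Helper88.PSL3F.card_center_SL3_coprime S₀ h0 hN hT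
  exact Cfsg.Agent.Helper85.isSimple_of_selfNorm_conj 2 S' h0' h1' h2' S

end Cfsg.Agent.S5318
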