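-- S5320 (helper88): the 2-fusion system of PSp₄(F), F finite of odd order, is simple.
-- Route: helper84's criterion `isSimple_of_locGen_conj` in PSp₄(F) = Sp₄(F)/{±1}; the Sylow 2-subgroup is helper42's
-- `Q ≀ 2` (Q a generalized quaternion Sylow 2-subgroup of SL₂(F)); see Helper88/PSp4Main.
import Cfsg.Statements.S5320
import Cfsg.Agent.Helper88.PSp4Main

set_option autoImplicit false
open Cfsg

namespace Cfsg.Agent.S5320

/-- For a finite field F of odd order, the 2-fusion system of the projective symplectic group PSp(4,F) on a Sylow 2-subgroup is simple. -/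
theorem result {F : Type*} [Field F] [Fintype F] (hodd : Fintype.card F % 2 = 1) (S : Sylow 2 (Cfsg.PSp 2 F)) :
    (Cfsg.groupFusionSystem (S : Subgroup (Cfsg.PSp 2 F))).IsSimple 2 :=
  Cfsg.Agent.Helper88.PSp4F.psp4_main hodd S

end Cfsg.Agent.S5320
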