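import Cfsg.Statements.S5327
import Cfsg.Agent.S5326

set_option autoImplicit false
open Cfsg Cfsg.FusionSystem Cfsg.Agent.Helper87

namespace Cfsg.Agent.S5327

variable {Ω : Type*} [Group Ω] {S : Subgroup Ω}

theorem autGroup_eq_bot_of_not_le (F : FusionSystem S) {R : Subgroup Ω} (hR : ¬ R ≤ S) : F.autGroup R = ⊥ := by
  unfold autGroup
  rw [Subgroup.closure_eq_bot_iff]
  intro α hα
  exact absurd (F.le_of_mem hα).1 hR

/-- The subsystem of `F` in which the only maps defined on `S` are the conjugations by elements of `S`. -/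
def innTopSystem [Finite S] (F : FusionSystem S) : FusionSystem S where
  Hom P := {φ | φ ∈ F.Hom P ∧ (P = S → ∃ g ∈ S, ∀ x : P, φ x = g * x * g⁻¹)}
  le_of_mem h := F.le_of_mem h.1
  injective_of_mem h := F.injective_of_mem h.1
  conj_mem := by
    intro P g hP hg
    exact ⟨F.conj_mem hP hg, fun _ => ⟨g, hg, fun x => rfl⟩⟩
  comp_mem := by
    rintro P Q₁ φ ψ ⟨hφ, hφS⟩ ⟨hψ, hψS⟩ h
    refine ⟨F.comp_mem hφ hψ h, fun hPS => ?_⟩
    obtain ⟨g, hg, hgx⟩ := hφS hPS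
    have hQ₁S : Q₁ ≤ S := (F.le_of_mem hψ).1
    have hSQ₁ : S ≤ Q₁ := by
      intro y hy
      have hy' : g⁻¹ * y * g ∈ P := by
        rw [hPS]
        exact S.mul_mem (S.mul_mem (S.inv_mem hg) hy) hg
      have := h ⟨_, hy'⟩
      rw [hgx] at this
      have e : g * (g⁻¹ * y * g) * g⁻¹ = y := by group
      rw [← e]
      exact this
    obtain ⟨k, hk, hkx⟩ := hψS (le_antisymm hQ₁S hSQ₁)
    refine ⟨k * g, S.mul_mem hk hg, fun x => ?_⟩
    show ψ ⟨φ x, h x⟩ = _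
    rw [hkx]
    show k * φ x * k⁻¹ = _
    rw [hgx]
    group
  inv_mem := by
    rintro P φ ⟨hφ, hφS⟩
    obtain ⟨χ, hχ, hχx⟩ := F.inv_mem hφ
    refine ⟨χ, ⟨hχ, fun hr => ?_⟩, hχx⟩
    have hPS : P ≤ S := (F.le_of_mem hφ).1
    have hfinP : Finite P := finite_of_le hPS
    have hcard : Nat.card φ.range = Nat.card P :=
      (Nat.card_congr (MonoidHom.ofInjective (F.injective_of_mem hφ)).toEquiv).symm
    have hPeq : P = S := by
      apply Subgroup.eq_of_le_of_card_ge hPS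
      rw [← hcard, hr]
    obtain ⟨g, hg, hgx⟩ := hφS hPeq
    refine ⟨g⁻¹, S.inv_mem hg, ?_⟩
    rintro ⟨_, x, rfl⟩
    rw [hχx]
    show (x : Ω) = g⁻¹ * φ x * g⁻¹⁻¹
    rw [hgx]
    group

/-- Let F be a saturated fusion system over a finite p-group S. Call a family of subgroups of S generating when every fusion system over S whose automorphism group of each member R contains Aut_F(R) contains every map of F. If two families are each closed under F-conjugacy and each generating, then their intersection is generating. -/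
theorem result {Ω : Type*} [Group Ω] {S : Subgroup Ω} [Finite S] (p : ℕ) [Fact p.Prime] (hS : IsPGroup p S) (F : Cfsg.FusionSystem S) (hF : F.IsSaturated p) (𝒬₁ 𝒬₂ : Set (Subgroup Ω)) (h₁ : ∀ R ∈ 𝒬₁, ∀ R' : Subgroup Ω, F.IsConj R R' → R' ∈ 𝒬₁) (h₂ : ∀ R ∈ 𝒬₂, ∀ R' : Subgroup Ω, F.IsConj R R' → R' ∈ 𝒬₂) (hg₁ : ∀ E : Cfsg.FusionSystem S, (∀ R ∈ 𝒬₁, F.autGroup R ≤ E.autGroup R) → F ≤ E) (hg₂ : ∀ E : Cfsg.FusionSystem S, (∀ R ∈ 𝒬₂, F.autGroup R ≤ E.autGroup R) → F ≤ E) (E : Cfsg.FusionSystem S) (hE : ∀ R ∈ 𝒬₁ ∩ 𝒬₂, F.autGroup R ≤ E.autGroup R) : F ≤ E := by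
  -- a conjugacy-closed generating family contains every essential subgroup
  have hess : ∀ (𝒬 : Set (Subgroup Ω)), (∀ R ∈ 𝒬, ∀ R' : Subgroup Ω, F.IsConj R R' → R' ∈ 𝒬) →
      (∀ E : Cfsg.FusionSystem S, (∀ R ∈ 𝒬, F.autGroup R ≤ E.autGroup R) → F ≤ E) →
      ∀ P : Subgroup Ω, F.IsEssential p P → P ∈ 𝒬 := by
    intro 𝒬 h hg P hP
    by_contra hnot
    obtain ⟨E', hE'1, hE'2⟩ := Cfsg.Agent.S5326.result p hS F hF P hP
    apply hE'2
    apply hg
    intro R hR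
    by_cases hRS : R ≤ S
    · exact hE'1 R hRS (fun hconj => hnot (h R hR P (isConj_symm F hconj)))
    · rw [autGroup_eq_bot_of_not_le F hRS]
      exact bot_le
  -- a generating family not containing `S` forces `Aut_F(S) = Inn(S)`
  have htop : ∀ (𝒬 : Set (Subgroup Ω)),
      (∀ E : Cfsg.FusionSystem S, (∀ R ∈ 𝒬, F.autGroup R ≤ E.autGroup R) → F ≤ E) → S ∉ 𝒬 →
      F.autGroup S ≤ E.autGroup S := by
    intro 𝒬 hg hS𝒬 α hα
    have hle : F ≤ innTopSystem F := by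
      apply hg
      intro R hR
      by_cases hRS : R ≤ S
      · intro β hβ
        rw [mem_autGroup_iff _ hRS]
        refine ⟨(mem_autGroup_iff F hRS β).mp hβ, fun hRS' => ?_⟩
        exact absurd (hRS' ▸ hR) hS𝒬
      · rw [autGroup_eq_bot_of_not_le F hRS]
        exact bot_le
    have hαF := (mem_autGroup_iff F le_rfl α).mp hα
    obtain ⟨g, hg', hgx⟩ := (hle S hαF).2 rfl
    rw [mem_autGroup_iff E le_rfl]
    exact mem_of_eq E (E.conj_mem le_rfl hg') hgx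
  intro P
  apply alperin hS F E hF
  rintro P' (rfl | hP')
  · by_cases h1 : P' ∈ 𝒬₁
    · by_cases h2 : P' ∈ 𝒬₂
      · exact hE P' ⟨h1, h2⟩
      · exact htop 𝒬₂ hg₂ h2
    · exact htop 𝒬₁ hg₁ h1
  · exact hE P' ⟨hess 𝒬₁ h₁ hg₁ P' hP', hess 𝒬₂ h₂ hg₂ P' hP'⟩

end Cfsg.Agent.S5327
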