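-- Statement S5329 (helper88): foc(F) ∩ Z(F) = S' ∩ Z(F), through the transfer of a characteristic biset.
import Cfsg.Statements.S5329
import Cfsg.Agent.Helper88.FTransfer2

set_option autoImplicit false
open Cfsg

namespace Cfsg.Agent.S5329

open Cfsg.FusionSystem Cfsg.Agent.Helper87 Cfsg.Agent.Helper88.Biset

/-- For a saturated fusion system F over a finite p-group S, the focal subgroup and the derived subgroup of S meet the centre Z(F) of the system in the same subgroup: foc(F) ∩ Z(F) = S′ ∩ Z(F). -/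
theorem result {Ω : Type*} [Group Ω] {S : Subgroup Ω} [Finite S] (p : ℕ) [Fact p.Prime] (hS : IsPGroup p S) (F : Cfsg.FusionSystem S) (hF : F.IsSaturated p) : F.focalSubgroup ⊓ F.center = ⁅(S : Subgroup Ω), (S : Subgroup Ω)⁆ ⊓ F.center := by
  have hp : p.Prime := Fact.out
  apply le_antisymm
  · rintro z ⟨hzf, hzc⟩
    refine ⟨?_, hzc⟩
    obtain ⟨m, hsupp, hstab, hidx⟩ := exists_char_biset hS F hF
    have : Finite (Abelianization ↥S) := inferInstanceAs (Finite (↥S ⧸ commutator ↥S))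
    have hzS : z ∈ S := focalSubgroup_le F hzf
    have h1 := bisetTransfer_focal F m hsupp hstab (Abelianization.of : ↥S →* Abelianization ↥S) z hzf
    have h2 := bisetTransfer_center F m hsupp (Abelianization.of : ↥S →* Abelianization ↥S) ⟨z, hzS⟩ hzc
    rw [h2] at h1
    have h3 : (Abelianization.of : ↥S →* Abelianization ↥S) ⟨z, hzS⟩ = 1 := by
      obtain ⟨k, hk⟩ := hS ⟨z, hzS⟩
      have hk' : ((Abelianization.of : ↥S →* Abelianization ↥S) ⟨z, hzS⟩) ^ (p ^ k) = 1 := by
        rw [← map_pow, hk, map_one]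
      have hd1 := orderOf_dvd_of_pow_eq_one hk'
      have hd2 := orderOf_dvd_of_pow_eq_one h1
      obtain ⟨j, -, hj⟩ := (Nat.dvd_prime_pow hp).mp hd1
      rcases Nat.eq_zero_or_pos j with h0 | h0
      · rw [h0, pow_zero] at hj
        exact orderOf_eq_one_iff.mp hj
      · exfalso
        apply hidx
        refine dvd_trans ?_ hd2
        rw [hj]
        exact dvd_pow_self p h0.ne'
    have h4 : (⟨z, hzS⟩ : ↥S) ∈ commutator ↥S := by
      rw [← Abelianization.ker_of]
      exact h3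
    rw [← Subgroup.map_subtype_commutator]
    exact ⟨⟨z, hzS⟩, h4, rfl⟩
  · rintro z ⟨hzS', hzc⟩
    refine ⟨?_, hzc⟩
    revert hzS'
    show z ∈ ⁅(S : Subgroup Ω), (S : Subgroup Ω)⁆ → z ∈ F.focalSubgroup
    suffices h : ⁅(S : Subgroup Ω), (S : Subgroup Ω)⁆ ≤ F.focalSubgroup from fun hz => h hz
    rw [Subgroup.commutator_le]
    intro a ha b hb
    unfold focalSubgroup
    apply Subgroup.subset_closure
    refine ⟨S, conjHom S b, ⟨a⁻¹, S.inv_mem ha⟩, F.conj_mem le_rfl hb, ?_⟩
    rw [commutatorElement_def]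
    show a * b * a⁻¹ * b⁻¹ = (a⁻¹)⁻¹ * (b * a⁻¹ * b⁻¹)
    group

end Cfsg.Agent.S5329
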