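import Cfsg.Statements.S5330
import Cfsg.Agent.Helper88.FusionAbelian
import Cfsg.Agent.Helper88.CoprimeAbelian

set_option autoImplicit false
open Cfsg

namespace Cfsg.Agent.S5330

open Cfsg.Agent.Helper88 Cfsg.FusionSystem

/-- Let F be a saturated fusion system over a finite abelian p-group S. Then S is the internal direct product of the centre of the system and the focal subgroup: Z(F) ∩ foc(F) = 1 and Z(F)·foc(F) = S. -/
theorem result {Ω : Type*} [Group Ω] {S : Subgroup Ω} [Finite S] (p : ℕ) [Fact p.Prime] (hS : IsPGroup p S) (F : Cfsg.FusionSystem S) (hF : F.IsSaturated p) (hab : ∀ x ∈ S, ∀ y ∈ S, x * y = y * x) : F.center ⊓ F.focalSubgroup = ⊥ ∧ F.center ⊔ F.focalSubgroup = S := by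
  -- the acting group
  set A : Subgroup (MulAut S) := F.autGroup S with hA
  have hcopA : (Nat.card A).Coprime p := autGroup_card_coprime_of_abelian F p hF hab
  have hcop : (Nat.card A).Coprime (Nat.card S) := by
    obtain ⟨n, hn⟩ := hS.exists_card_eq
    rw [hn]
    exact Nat.Coprime.pow_right n hcopA
  have hc : ∀ a b : S, a * b = b * a := fun a b => Subtype.ext (hab a a.2 b b.2)
  -- fixed points and commutator
  let Fix : Subgroup S :=
    { carrier := {s | ∀ α ∈ A, α s = s}
      one_mem' := fun α _ => map_one α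
      mul_mem' := fun {a b} ha hb α hα => by rw [map_mul, ha α hα, hb α hα]
      inv_mem' := fun {a} ha α hα => by rw [map_inv, ha α hα] }
  let Comm : Subgroup S := Subgroup.closure {y : S | ∃ α ∈ A, ∃ g : S, y = g⁻¹ * α g}
  obtain ⟨h1, h2⟩ := coprime_action_abelian hc A hcop Fix Comm (fun g => Iff.rfl) rfl
  -- identify the centre
  have hcenter : F.center = Fix.map S.subtype := by
    apply le_antisymm
    · refine sSup_le fun Q hQ => ?_
      obtain ⟨hQS, hext⟩ := hQ
      intro q hq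
      refine ⟨⟨q, hQS hq⟩, ?_, rfl⟩
      intro α hα
      have hψ : S.subtype.comp α.toMonoidHom ∈ F.Hom S := (mem_autGroup F le_rfl α).mp hα
      obtain ⟨ψ', -, hψ'S, hψ'Q⟩ := hext S _ hψ
      have e1 := hψ'S ⟨q, hQS hq⟩
      have e2 := hψ'Q ⟨q, hq⟩
      have e12 : (Subgroup.inclusion (le_sup_left : S ≤ S ⊔ Q) ⟨q, hQS hq⟩) =
          Subgroup.inclusion (le_sup_right : Q ≤ S ⊔ Q) ⟨q, hq⟩ := Subtype.ext rfl
      rw [e12, e2] at e1
      apply Subtype.ext
      exact e1.symm
    · apply le_sSup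
      refine ⟨Subgroup.map_subtype_le Fix, fun P φ hφ => ?_⟩
      obtain ⟨ψ, hψ, hψext⟩ := exists_extension_of_abelian F p hF hab hφ
      have hP : P ≤ S := (F.le_of_mem hφ).1
      have hle : P ⊔ Fix.map S.subtype ≤ S := sup_le hP (Subgroup.map_subtype_le Fix)
      refine ⟨_, restrict_mem F hψ hle, fun x => ?_, fun z => ?_⟩
      · exact hψext x x.2 (hP x.2)
      · obtain ⟨z, s, hs, rfl⟩ := z
        have := hs (homToAut F ψ hψ) (homToAut_mem F ψ hψ)
        exact congrArg Subtype.val this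
  -- identify the focal subgroup
  have hfocal : F.focalSubgroup = Comm.map S.subtype := by
    rw [MonoidHom.map_closure]
    apply le_antisymm
    · apply (Subgroup.closure_le _).mpr
      rintro y ⟨P, φ, x, hφ, rfl⟩
      obtain ⟨ψ, hψ, hψext⟩ := exists_extension_of_abelian F p hF hab hφ
      have hP : P ≤ S := (F.le_of_mem hφ).1
      apply Subgroup.subset_closure
      refine ⟨(⟨x, hP x.2⟩ : S)⁻¹ * homToAut F ψ hψ ⟨x, hP x.2⟩,
        ⟨homToAut F ψ hψ, homToAut_mem F ψ hψ, ⟨x, hP x.2⟩, rfl⟩, ?_⟩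
      show (x : Ω)⁻¹ * ψ ⟨x, hP x.2⟩ = (x : Ω)⁻¹ * φ x
      rw [hψext x x.2 (hP x.2)]
    · apply (Subgroup.closure_le _).mpr
      rintro _ ⟨_, ⟨α, hα, g, rfl⟩, rfl⟩
      apply Subgroup.subset_closure
      have hψ : S.subtype.comp α.toMonoidHom ∈ F.Hom S := (mem_autGroup F le_rfl α).mp hα
      exact ⟨S, _, g, hψ, rfl⟩
  rw [hcenter, hfocal]
  constructor
  · rw [← Subgroup.map_inf _ _ _ (Subgroup.subtype_injective S), h1, Subgroup.map_bot]
  · rw [← Subgroup.map_sup, h2, ← MonoidHom.range_eq_map, Subgroup.range_subtype]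

end Cfsg.Agent.S5330
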