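import Cfsg.Statements.S5331
import Cfsg.Agent.Helper88.FusionAbelian
import Cfsg.Agent.Helper88.OddAutTwoGroup

set_option autoImplicit false
open Cfsg

namespace Cfsg.Agent.S5331

open Cfsg.Agent.Helper88 Cfsg.FusionSystem

/-- Let S be a finite abelian 2-group that is a direct product of cyclic groups of pairwise distinct orders 2^{a_1} < 2^{a_2} < ⋯ < 2^{a_n} (all a_i ≥ 1). Then every saturated fusion system over S is the inner one: its maps are exactly the conjugations by elements of S. -/
theorem result {Ω : Type*} [Group Ω] {S : Subgroup Ω} [Finite S] (n : ℕ) (a : Fin n → ℕ) (ha : StrictMono a) (ha1 : ∀ i, 1 ≤ a i) (e : ↥S ≃* Multiplicative ((i : Fin n) → ZMod (2 ^ a i))) (F : Cfsg.FusionSystem S) (hF : F.IsSaturated 2) (P : Subgroup Ω) : F.Hom P = (Cfsg.innerFusionSystem S).Hom P := by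
  have hab : ∀ x ∈ S, ∀ y ∈ S, x * y = y * x := by
    intro x hx y hy
    have h : (⟨x, hx⟩ : S) * ⟨y, hy⟩ = ⟨y, hy⟩ * ⟨x, hx⟩ := by
      apply e.injective
      rw [map_mul, map_mul, mul_comm]
    exact congrArg Subtype.val h
  have hcop : (Nat.card (F.autGroup S)).Coprime 2 := autGroup_card_coprime_of_abelian F 2 hF hab
  have hodd : Odd (Nat.card (F.autGroup S)) := Nat.coprime_two_right.mp hcop
  -- every F-automorphism of `S` is trivial
  have htriv : ∀ α ∈ F.autGroup S, ∀ s : S, α s = s := by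
    intro α hα s
    have hpow : α ^ Nat.card (F.autGroup S) = 1 := by
      have h := pow_card_eq_one' (G := F.autGroup S) (x := ⟨α, hα⟩)
      exact congrArg Subtype.val h
    have hpow' : (MulAut.congr e α) ^ Nat.card (F.autGroup S) = 1 := by
      rw [← map_pow, hpow, map_one]
    have h := prod_zmod_odd_aut_trivial n a ha (MulAut.congr e α) _ hodd hpow' (e s)
    have h' : e (α (e.symm (e s))) = e s := h
    rw [e.symm_apply_apply] at h'
    exact e.injective h'
  apply Set.eq_of_subset_of_subset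
  · intro φ hφ
    obtain ⟨ψ, hψ, hψext⟩ := exists_extension_of_abelian F 2 hF hab hφ
    have hP : P ≤ S := (F.le_of_mem hφ).1
    refine ⟨hP, 1, S.one_mem, fun x => ?_⟩
    have h1 := htriv (homToAut F ψ hψ) (homToAut_mem F ψ hψ) ⟨x, hP x.2⟩
    have h2 : ψ ⟨x, hP x.2⟩ = x := congrArg Subtype.val h1
    rw [← hψext x x.2 (hP x.2), h2]
    simp
  · rintro φ ⟨hP, g, hg, h⟩
    exact mem_of_eq F (F.conj_mem hP hg) (fun x => h x)

end Cfsg.Agent.S5331
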