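import Cfsg.Statements.S5333
import Cfsg.Agent.Helper88.FusionCentric
import Cfsg.Agent.Helper87.FusionAlperin
import Cfsg.Agent.S5097

set_option autoImplicit false
open Cfsg

namespace Cfsg.Agent.S5333

open Cfsg.FusionSystem Cfsg.Agent.Helper87 Cfsg.Agent.Helper88.FS

/-- A nontrivial finite `p`-group `S` has a subgroup of order `p` in its centre. -/
theorem exists_central_order_p {Ω : Type*} [Group Ω] {S : Subgroup Ω} [Finite S] (p : ℕ) [Fact p.Prime]
    (hS : IsPGroup p S) [Nontrivial S] :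
    ∃ Z : Subgroup Ω, Z ≤ S ∧ Nat.card Z = p ∧ ∀ z ∈ Z, ∀ s ∈ S, s * z = z * s := by
  have hnt : Nontrivial (Subgroup.center S) := hS.center_nontrivial
  have hcp : IsPGroup p (Subgroup.center S) := hS.to_subgroup _
  obtain ⟨n, hn⟩ := IsPGroup.iff_card.mp hcp
  have hn0 : n ≠ 0 := by
    rintro rfl
    rw [pow_zero] at hn
    have := (Nat.card_eq_one_iff_unique.mp hn).1
    exact not_subsingleton _ this
  have hdvd : p ∣ Nat.card (Subgroup.center S) := by rw [hn]; exact dvd_pow_self p hn0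
  obtain ⟨z, hz⟩ := exists_prime_orderOf_dvd_card' p hdvd
  refine ⟨Subgroup.zpowers ((z : S) : Ω), ?_, ?_, ?_⟩
  · rw [Subgroup.zpowers_le]
    exact (z : S).2
  · rw [Nat.card_zpowers]
    have h1 : orderOf ((z : S) : Ω) = orderOf (z : S) := Subgroup.orderOf_coe _
    have h2 : orderOf (z : S) = orderOf z := Subgroup.orderOf_coe _
    rw [h1, h2, hz]
  · intro w hw s hs
    obtain ⟨k, rfl⟩ := Subgroup.mem_zpowers_iff.mp hw
    have hc : ∀ g : S, g * (z : S) = (z : S) * g := fun g => (Subgroup.mem_center_iff.mp z.2 g)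
    have h1 : (⟨s, hs⟩ : S) * (z : S) ^ k = (z : S) ^ k * ⟨s, hs⟩ := by
      have : Commute (⟨s, hs⟩ : S) (z : S) := hc ⟨s, hs⟩
      exact (this.zpow_right k).eq
    have := congrArg Subtype.val h1
    simpa using this

/-- Let F′ ≤ F be saturated fusion systems over the same finite p-group S. Suppose that for every subgroup Z ≤ S of order p that is fully centralized in F′, the maps of F and of F′ with source Z coincide and the centralizer systems C_F(Z) and C_{F′}(Z) coincide. Then F = F′. -/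
theorem result {Ω : Type*} [Group Ω] {S : Subgroup Ω} [Finite S] (p : ℕ) [Fact p.Prime] (hS : IsPGroup p S) (F : Cfsg.FusionSystem S) (hF : F.IsSaturated p) (F' : Cfsg.FusionSystem S) (hF' : F'.IsSaturated p) (hle : F' ≤ F) (hZ : ∀ Z : Subgroup Ω, Z ≤ S → Nat.card Z = p → F'.IsFullyCentralized Z → F.Hom Z = F'.Hom Z ∧ ∀ (C C' : Cfsg.FusionSystem (Cfsg.FusionSystem.centralizerIn S Z)), F.IsCentralizerSystem Z C → F'.IsCentralizerSystem Z C' → ∀ P : Subgroup Ω, C.Hom P = C'.Hom P) (P : Subgroup Ω) : F.Hom P = F'.Hom P := by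
  apply Set.Subset.antisymm _ (hle P)
  rcases subsingleton_or_nontrivial S with hsub | hnt
  · -- trivial `S`
    intro φ hφ
    have hPS : P ≤ S := (F.le_of_mem hφ).1
    refine mem_of_eq F' (subtype_mem F' hPS) (fun x => ?_)
    have hx : x = 1 := by
      apply Subtype.ext
      have h0 := Subsingleton.elim (⟨x, hPS x.2⟩ : S) 1
      have h1 : ((⟨x, hPS x.2⟩ : S) : Ω) = ((1 : S) : Ω) := congrArg Subtype.val h0
      exact h1
    rw [hx, map_one, map_one]
  · obtain ⟨Z, hZS, hZcard, hZcen⟩ := exists_central_order_p p hS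
    have hZfc : F'.IsFullyCentralized Z := by
      refine ⟨hZS, fun Q _ => ?_⟩
      have h1 : centralizerIn S Z = S := by
        apply le_antisymm inf_le_left
        intro s hs
        refine ⟨hs, ?_⟩
        show s ∈ Subgroup.centralizer (Z : Set Ω)
        rw [Subgroup.mem_centralizer_iff]
        intro z hz
        exact (hZcen z hz s hs).symm
      rw [h1]
      exact Subgroup.card_le_of_le inf_le_left
    obtain ⟨hHomZ, hC⟩ := hZ Z hZS hZcard hZfc
    have hCeq : ∀ P : Subgroup Ω, F.centralizerHom Z P = F'.centralizerHom Z P := fun P =>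
      hC (Cfsg.Agent.S5097.centralizerSystem F Z hZS) (Cfsg.Agent.S5097.centralizerSystem F' Z hZS)
        (fun _ => rfl) (fun _ => rfl) P
    have hZrec : F'.IsReceptive Z := receptive_of_fullyCentralized hS F' hF' hZfc
    refine alperin hS F F' hF (fun P' hP' α hα => ?_) P
    have hP'cen : F.IsCentric P' := by
      rcases hP' with rfl | hess
      · refine ⟨le_rfl, fun Q hQ => ?_⟩
        obtain ⟨e, he⟩ := (isConj_iff F P' Q).mp hQ
        have hQS : Q ≤ P' := he.le_right
        have : Q = P' := Subgroup.eq_of_le_of_card_ge hQS (le_of_eq (Nat.card_congr e.toEquiv))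
        rw [this]
        exact inf_le_left
      · exact hess.1
    have hP'S : P' ≤ S := hP'cen.1
    have hαF : IsIso F (α : P' ≃* P') := (mem_autGroup_iff F hP'S α).mp hα
    rw [mem_autGroup_iff F' hP'S]
    -- `Z ≤ P'`
    have hZP' : Z ≤ P' := by
      intro z hz
      apply hP'cen.2 P' (isConj_refl F hP'S)
      refine ⟨hZS hz, ?_⟩
      show z ∈ Subgroup.centralizer (P' : Set Ω)
      rw [Subgroup.mem_centralizer_iff]
      intro x hx
      exact hZcen z hz x (hP'S hx)
    -- the restriction of `α` to `Z` is a map of `F'`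
    have hβ₀F : IsIso F (restrictIso (α : P' ≃* P') hZP') := isIso_restrictIso F hαF hZP'
    have hβ₀ : IsIso F' (restrictIso (α : P' ≃* P') hZP') := by
      unfold IsIso at hβ₀F ⊢
      rw [← hHomZ]; exact hβ₀F
    set Z₁ := imageSub (α : P' ≃* P') Z with hZ₁
    set β₀ : Z ≃* Z₁ := restrictIso (α : P' ≃* P') hZP' with hβ₀def
    have hβ : IsIso F' β₀.symm := hβ₀.symm
    have hβrange : (Z.subtype.comp β₀.symm.toMonoidHom).range = Z := range_subtype_comp_equiv β₀.symm
    obtain ⟨β', hβ', hβ'ext⟩ := hZrec.2 Z₁ _ hβ hβrange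
    -- elements of `P'` centralize `Z₁`
    have hZ₁cen : ∀ g ∈ P', ∀ u ∈ Z₁, g * u * g⁻¹ = u := by
      rintro g hg _ ⟨t, ht, rfl⟩
      have ht' : (t : Ω) ∈ Z := ht
      obtain ⟨g', rfl⟩ : ∃ g' : P', ((α g' : P') : Ω) = g := ⟨α.symm ⟨g, hg⟩, by simp⟩
      have h1 : g' * t * g'⁻¹ = t := by
        apply Subtype.ext
        show (g' : Ω) * t * (g' : Ω)⁻¹ = t
        rw [hZcen t ht' g' (hP'S g'.2), mul_inv_cancel_right]
      have h2 := congrArg (fun x : P' => ((α x : P') : Ω)) h1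
      simp only [map_mul, map_inv] at h2
      exact h2
    have hP'ext : P' ≤ extender S Z₁ (Z.subtype.comp β₀.symm.toMonoidHom) := by
      intro g hg
      rw [mem_extender_iff]
      refine ⟨hP'S hg, ?_, 1, S.one_mem, fun x hx => ?_⟩
      · rw [Subgroup.mem_normalizer_iff]
        intro u
        constructor
        · intro hu
          rw [hZ₁cen g hg u hu]; exact hu
        · intro hu
          have h1 := hZ₁cen g⁻¹ (P'.inv_mem hg) _ hu
          have h2 : g⁻¹ * (g * u * g⁻¹) * g⁻¹⁻¹ = u := by group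
          rw [h2] at h1
          rw [h1]; exact hu
      · have : (⟨g * (x : Ω) * g⁻¹, hx⟩ : Z₁) = x := Subtype.ext (hZ₁cen g hg x x.2)
        rw [this]; simp
    have hγ := restrict_mem F' hβ' hP'ext
    set γ : P' →* Ω := β'.comp (Subgroup.inclusion hP'ext) with hγdef
    have hγZ₁ : ∀ (u : Ω) (hu : u ∈ Z₁) (huP : u ∈ P'), γ ⟨u, huP⟩ = ((β₀.symm ⟨u, hu⟩ : Z) : Ω) :=
      fun u hu huP => hβ'ext u hu (hP'ext huP)
    -- `δ = γ ∘ α`
    have hδF : γ.comp (α : P' ≃* P').toMonoidHom ∈ F.Hom P' := comp_iso_mem F hαF (hle _ hγ)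
    set δ : P' →* Ω := γ.comp (α : P' ≃* P').toMonoidHom with hδdef
    have hδZ : ∀ (t : Ω) (ht : t ∈ Z), δ ⟨t, hZP' ht⟩ = t := by
      intro t ht
      have hu : ((α ⟨t, hZP' ht⟩ : P') : Ω) ∈ Z₁ := mem_imageSub _ Z ⟨t, hZP' ht⟩ ht
      show γ (α ⟨t, hZP' ht⟩) = t
      have h1 := hγZ₁ _ hu (α ⟨t, hZP' ht⟩).2
      have h2 : (⟨((α ⟨t, hZP' ht⟩ : P') : Ω), hu⟩ : Z₁) = β₀ ⟨t, ht⟩ := Subtype.ext rfl
      rw [h2, MulEquiv.symm_apply_apply] at h1
      exact h1
    have hScenZ : ∀ s ∈ S, s ∈ centralizerIn S Z := by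
      intro s hs
      refine ⟨hs, ?_⟩
      show s ∈ Subgroup.centralizer (Z : Set Ω)
      rw [Subgroup.mem_centralizer_iff]
      intro z hz
      exact (hZcen z hz s hs).symm
    have hδC : δ ∈ F.centralizerHom Z P' := by
      refine ⟨hδF, fun x hx => hScenZ x (hP'S hx), fun x => hScenZ _ ((F.le_of_mem hδF).2 x), ?_⟩
      have hle' : P' ⊔ Z ≤ P' := sup_le le_rfl hZP'
      refine ⟨_, restrict_mem F hδF hle', fun x => ?_, fun x => ?_⟩
      · rfl
      · exact hδZ x x.2
    have hδF' : δ ∈ F'.Hom P' := by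
      rw [hCeq] at hδC
      exact hδC.1
    -- `α = γ⁻¹ ∘ δ`
    have hγiso := isIso_isoOfRange F' hγ rfl
    set γiso : P' ≃* γ.range := isoOfRange F' hγ rfl with hγisodef
    have hval : ∀ x : P', δ x ∈ γ.range := fun x => ⟨α x, rfl⟩
    have h4 := F'.comp_mem hδF' hγiso.symm hval
    unfold IsIso
    refine mem_of_eq F' h4 (fun x => ?_)
    show ((α x : P') : Ω) = ((γiso.symm ⟨δ x, hval x⟩ : P') : Ω)
    have : (⟨δ x, hval x⟩ : γ.range) = γiso (α x) := Subtype.ext rfl
    rw [this, MulEquiv.symm_apply_apply]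

end Cfsg.Agent.S5333
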