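import Cfsg.Statements.S5334
import Cfsg.Agent.Helper88.FusionSub

set_option autoImplicit false
open Cfsg

namespace Cfsg.Agent.S5334

open Cfsg.FusionSystem Cfsg.Agent.Helper87 Cfsg.Agent.Helper88.FS

/-- Let F′ ≤ F be saturated fusion systems over the same finite p-group S, let Q and R be F-centric subgroups, φ a map of F with source Q and values in R, and ψ a map of F with source R. If two of φ, ψ and the composite ψ ∘ φ are maps of F′ then so is the third. -/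
theorem result {Ω : Type*} [Group Ω] {S : Subgroup Ω} [Finite S] (p : ℕ) [Fact p.Prime] (hS : IsPGroup p S) (F : Cfsg.FusionSystem S) (hF : F.IsSaturated p) (F' : Cfsg.FusionSystem S) (hF' : F'.IsSaturated p) (hle : F' ≤ F) (Q R : Subgroup Ω) (hQ : F.IsCentric Q) (hR : F.IsCentric R) (φ : ↥Q →* Ω) (hφ : φ ∈ F.Hom Q) (hφR : ∀ x : Q, φ x ∈ R) (ψ : ↥R →* Ω) (hψ : ψ ∈ F.Hom R) : (φ ∈ F'.Hom Q → ψ ∈ F'.Hom R → ψ.comp (φ.codRestrict R hφR) ∈ F'.Hom Q) ∧ (ψ ∈ F'.Hom R → ψ.comp (φ.codRestrict R hφR) ∈ F'.Hom Q → φ ∈ F'.Hom Q) ∧ (φ ∈ F'.Hom Q → ψ.comp (φ.codRestrict R hφR) ∈ F'.Hom Q → ψ ∈ F'.Hom R) := by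
  refine ⟨fun h1 h2 => F'.comp_mem h1 h2 hφR, fun h2 h3 => ?_, fun h1 h3 => ?_⟩
  · -- `φ = ψ⁻¹ ∘ (ψ ∘ φ)`
    have hiso := isIso_isoOfRange F' h2 rfl
    set ψiso : R ≃* ψ.range := isoOfRange F' h2 rfl with hψiso
    have hinv : IsIso F' ψiso.symm := hiso.symm
    have hval : ∀ x : Q, (ψ.comp (φ.codRestrict R hφR)) x ∈ ψ.range := fun x => ⟨_, rfl⟩
    have h4 := F'.comp_mem h3 hinv hval
    refine mem_of_eq F' h4 (fun x => ?_)
    show φ x = ((ψiso.symm ⟨ψ (φ.codRestrict R hφR x), hval x⟩ : R) : Ω)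
    have : (⟨ψ (φ.codRestrict R hφR x), hval x⟩ : ψ.range) = ψiso (φ.codRestrict R hφR x) := Subtype.ext rfl
    rw [this, MulEquiv.symm_apply_apply]
    rfl
  · -- restrict `ψ` to the image of `φ`, which is `F`-centric
    have hiso := isIso_isoOfRange F' h1 rfl
    set φiso : Q ≃* φ.range := isoOfRange F' h1 rfl with hφiso
    have hTR : φ.range ≤ R := by
      rintro _ ⟨x, rfl⟩
      exact hφR x
    have hT : F.IsCentric φ.range := isCentric_of_isConj F hQ ⟨φ, hφ, rfl⟩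
    have h4 := comp_iso_mem F' hiso.symm h3
    have h5 : ψ.comp (Subgroup.inclusion hTR) ∈ F'.Hom φ.range := by
      refine mem_of_eq F' h4 (fun y => ?_)
      show ψ (Subgroup.inclusion hTR y) = ψ (φ.codRestrict R hφR (φiso.symm y))
      congr 1
      apply Subtype.ext
      show (y : Ω) = φ (φiso.symm y)
      have : ((φiso (φiso.symm y) : φ.range) : Ω) = φ (φiso.symm y) := rfl
      rw [← this, MulEquiv.apply_symm_apply]
    exact mem_of_restrict_mem_centric hS F hF F' hF' hle hψ _ φ.range hTR rfl hT h5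

end Cfsg.Agent.S5334
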