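import Cfsg.Statements.S5335
import Cfsg.Agent.Helper88.FusionSub
import Cfsg.Agent.Helper87.FusionAlperin

set_option autoImplicit false
open Cfsg

namespace Cfsg.Agent.S5335

open Cfsg.FusionSystem Cfsg.Agent.Helper87 Cfsg.Agent.Helper88.FS

/-- Every centric subgroup contains a minimal centric subgroup. -/
theorem exists_minimal_centric {Ω : Type*} [Group Ω] {S : Subgroup Ω} [Finite S] (F : FusionSystem S) :
    ∀ (n : ℕ) (Q : Subgroup Ω), Nat.card Q = n → F.IsCentric Q →
      ∃ Q₀ : Subgroup Ω, Q₀ ≤ Q ∧ F.IsCentric Q₀ ∧ ∀ R : Subgroup Ω, R < Q₀ → ¬ F.IsCentric R := by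
  intro n
  induction n using Nat.strong_induction_on with
  | _ n ih =>
    intro Q hn hQ
    by_cases hmin : ∀ R : Subgroup Ω, R < Q → ¬ F.IsCentric R
    · exact ⟨Q, le_rfl, hQ, hmin⟩
    · push Not at hmin
      obtain ⟨R, hRQ, hR⟩ := hmin
      have : Finite Q := finite_of_le hQ.1
      have hcard : Nat.card R < Nat.card Q := card_lt_card_of_lt hRQ
      obtain ⟨Q₀, hQ₀R, hQ₀, hQ₀min⟩ := ih (Nat.card R) (hn ▸ hcard) R rfl hR
      exact ⟨Q₀, hQ₀R.trans hRQ.le, hQ₀, hQ₀min⟩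

/-- Let F′ ≤ F be saturated fusion systems over the same finite p-group S. If the maps of F and of F′ with source Q coincide for every F-centric subgroup Q that is minimal among F-centric subgroups, then F = F′. -/
theorem result {Ω : Type*} [Group Ω] {S : Subgroup Ω} [Finite S] (p : ℕ) [Fact p.Prime] (hS : IsPGroup p S) (F : Cfsg.FusionSystem S) (hF : F.IsSaturated p) (F' : Cfsg.FusionSystem S) (hF' : F'.IsSaturated p) (hle : F' ≤ F) (hmin : ∀ Q : Subgroup Ω, F.IsCentric Q → (∀ R : Subgroup Ω, R < Q → ¬ F.IsCentric R) → F.Hom Q = F'.Hom Q) (P : Subgroup Ω) : F.Hom P = F'.Hom P := by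
  -- agreement on centric subgroups
  have hcen : ∀ P : Subgroup Ω, F.IsCentric P → F.Hom P ⊆ F'.Hom P := by
    intro P hP ψ hψ
    obtain ⟨Q₀, hQ₀P, hQ₀, hQ₀min⟩ := exists_minimal_centric F _ P rfl hP
    have h1 : ψ.comp (Subgroup.inclusion hQ₀P) ∈ F'.Hom Q₀ := by
      rw [← hmin Q₀ hQ₀ hQ₀min]
      exact restrict_mem F hψ hQ₀P
    exact mem_of_restrict_mem_centric hS F hF F' hF' hle hψ _ Q₀ hQ₀P rfl hQ₀ h1
  have hScen : F.IsCentric S := by
    refine ⟨le_rfl, fun Q hQ => ?_⟩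
    obtain ⟨e, he⟩ := (isConj_iff F S Q).mp hQ
    have hQS : Q ≤ S := he.le_right
    have : Q = S := Subgroup.eq_of_le_of_card_ge hQS (le_of_eq (Nat.card_congr e.toEquiv))
    rw [this]
    exact inf_le_left
  apply Set.Subset.antisymm _ (hle P)
  refine alperin hS F F' hF (fun P' hP' α hα => ?_) P
  have hP'cen : F.IsCentric P' := by
    rcases hP' with rfl | hess
    · exact hScen
    · exact hess.1
  have hP'S : P' ≤ S := hP'cen.1
  rw [mem_autGroup_iff F' hP'S]
  exact hcen P' hP'cen ((mem_autGroup_iff F hP'S α).mp hα)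

end Cfsg.Agent.S5335
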