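-- Statement S5336: a minimal group realizing a simple fusion system (with trivial p'-core) is simple.
import Cfsg.Statements.S5336
import Cfsg.Agent.S5118

set_option autoImplicit false
open Cfsg

namespace Cfsg.Agent.S5336

open Cfsg.FusionSystem Cfsg.Agent.Helper86

/-- Let G be a finite group with Sylow p-subgroup S whose fusion system F_S(G) is simple. If G has no nontrivial normal subgroup of order prime to p and no proper subgroup H containing S induces the same fusion system on S as G does, then G is a simple group. -/
theorem result {G : Type*} [Group G] [Finite G] (p : ℕ) [Fact p.Prime] (S : Sylow p G) (hsimple : (Cfsg.groupFusionSystem (S : Subgroup G)).IsSimple p) (hcore : Cfsg.pPrimeCore p G = ⊥) (hmin : ∀ (H : Subgroup G) (hSH : (S : Subgroup G) ≤ H), H ≠ ⊤ → ∃ P : Subgroup G, (Cfsg.fusionSystemOfSubgroup H (S : Subgroup G) hSH).Hom P ≠ (Cfsg.groupFusionSystem (S : Subgroup G)).Hom P) : IsSimpleGroup G := by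
  obtain ⟨-, hS1, hsimp⟩ := hsimple
  have hp : p.Prime := Fact.out
  haveI : Nontrivial G := by
    by_contra h
    rw [not_nontrivial_iff_subsingleton] at h
    exact hS1 (Subsingleton.elim _ _)
  refine ⟨fun N hN => ?_⟩
  haveI := hN
  have hE := S5118.result p S N
  have hT : IsSylowIn p ((S : Subgroup G) ⊓ N) N := S5118.isSylowIn_inf_normal S N
  rcases hsimp _ _ hE with h | ⟨hinf, hHom⟩
  · left
    have hcard : Nat.card ((S : Subgroup G) ⊓ N : Subgroup G) = 1 := by
      rw [h]; exact Subgroup.card_bot
    have h1 : p ^ (Nat.card N).factorization p = 1 := by rw [← hT.2, hcard]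
    have h2 : (Nat.card N).factorization p = 0 := by
      by_contra hne
      have : 1 < p ^ (Nat.card N).factorization p := Nat.one_lt_pow hne hp.one_lt
      omega
    have hcop : (Nat.card N).Coprime p := by
      rw [Nat.coprime_comm, Nat.Prime.coprime_iff_not_dvd hp]
      intro hdvd
      have := (hp.dvd_iff_one_le_factorization Nat.card_pos.ne').mp hdvd
      omega
    have hle : N ≤ pPrimeCore p G := le_sSup ⟨hN, hcop⟩
    rw [hcore] at hle
    exact le_bot_iff.mp hle
  · right
    by_contra hne
    have hSN : (S : Subgroup G) ≤ N := inf_eq_left.mp hinf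
    obtain ⟨P, hP⟩ := hmin N hSN hne
    apply hP
    rw [← hHom P]
    ext φ
    constructor
    · rintro ⟨h1, h2, h3⟩
      exact ⟨by rw [hinf]; exact h1, fun x => by rw [hinf]; exact h2 x, h3⟩
    · rintro ⟨h1, h2, h3⟩
      refine ⟨by rw [hinf] at h1; exact h1, fun x => ?_, h3⟩
      have := h2 x
      rwa [hinf] at this

end Cfsg.Agent.S5336
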