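-- Statement S5338: a saturated F-invariant subsystem over all of S with the same Aut(S) is all of F.
import Cfsg.Statements.S5338
import Cfsg.Agent.Helper87.FusionAlperin

set_option autoImplicit false
open Cfsg

namespace Cfsg.Agent.S5338

open Cfsg.FusionSystem Cfsg.Agent.Helper87

variable {Ω : Type*} [Group Ω] {S : Subgroup Ω}

/-- A variant of the Alperin–Goldschmidt induction (adapted from `Cfsg.Agent.Helper87.alperin`): to show that every map
of a saturated `F` is a map of `E` it suffices to compare `Aut(S)` and, for a fully automized receptive `R < S`, to compare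
`Aut(R)` knowing that the maps of `F` on all strictly larger subgroups are maps of `E`. -/
theorem hom_subset_of_aut_le [Finite S] {p : ℕ} [Fact p.Prime] (hS : IsPGroup p S) (F E : FusionSystem S)
    (hF : F.IsSaturated p) (htop : F.autGroup S ≤ E.autGroup S)
    (hstep : ∀ R : Subgroup Ω, R < S → F.IsFullyAutomized p R → F.IsReceptive R →
      (∀ (N : Subgroup Ω) (ψ : N →* Ω), R < N → ψ ∈ F.Hom N → ψ ∈ E.Hom N) → F.autGroup R ≤ E.autGroup R) :
    ∀ P : Subgroup Ω, F.Hom P ⊆ E.Hom P := by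
  intro P
  induction' hn : Nat.card S - Nat.card P using Nat.strong_induction_on with n ih generalizing P
  intro φ hφ
  have hPS : P ≤ S := (F.le_of_mem hφ).1
  have hP : Finite P := finite_of_le hPS
  have ih' : ∀ (N : Subgroup Ω) (ψ : N →* Ω), Nat.card P < Nat.card N → ψ ∈ F.Hom N → ψ ∈ E.Hom N := by
    intro N ψ hlt hψ
    have hNS : N ≤ S := (F.le_of_mem hψ).1
    have : Finite N := finite_of_le hNS
    have hle : Nat.card N ≤ Nat.card S := Subgroup.card_le_of_le hNS
    exact ih (Nat.card S - Nat.card N) (by omega) N rfl hψ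
  have he := isIso_ofInjective F hφ
  set e := MonoidHom.ofInjective (F.injective_of_mem hφ) with he_def
  have hQS : φ.range ≤ S := he.le_right
  have hcardQ : Nat.card φ.range = Nat.card P := (Nat.card_congr e.toEquiv).symm
  by_cases hPeq : P = S
  · subst hPeq
    have : Finite φ.range := finite_of_le hQS
    have hQ : φ.range = P := Subgroup.eq_of_le_of_card_ge hQS (le_of_eq hcardQ.symm)
    have hα : IsIso F (e.trans (MulEquiv.subgroupCongr hQ)) := by
      unfold IsIso
      exact mem_of_eq F hφ (fun x => rfl)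
    have hαE := htop ((mem_autGroup_iff F hPS (e.trans (MulEquiv.subgroupCongr hQ))).mpr hα)
    have := (mem_autGroup_iff E hPS _).mp hαE
    exact mem_of_eq E this (fun x => rfl)
  · have hPlt : P < S := lt_of_le_of_ne hPS hPeq
    obtain ⟨R, hQR, hRa, hRr⟩ := hF φ.range hQS
    obtain ⟨e₂, he₂⟩ := (isConj_iff F φ.range R).mp hQR
    have hRS : R ≤ S := he₂.le_right
    have hcardR : Nat.card R = Nat.card P := by rw [← hcardQ]; exact (Nat.card_congr e₂.toEquiv).symm
    have hcardlt : Nat.card P < Nat.card S := card_lt_card_of_lt hPlt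
    have hRlt : R < S := lt_of_le_of_ne hRS (fun h => by rw [h] at hcardR; omega)
    have hQlt : φ.range < S := lt_of_le_of_ne hQS (fun h => by rw [h] at hcardQ; omega)
    obtain ⟨φ₁, hφ₁, e₁', he₁', hφ₁x⟩ := exists_extension_normalizerIn hS F hRa hRr (e.trans e₂) (he.trans he₂)
    obtain ⟨φ₂, hφ₂, e₂', he₂', hφ₂x⟩ := exists_extension_normalizerIn hS F hRa hRr e₂ he₂
    have hN₁ : Finite (normalizerIn S P) := finite_of_le inf_le_left
    have hN₂ : Finite (normalizerIn S φ.range) := finite_of_le inf_le_left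
    have hφ₁E := ih' _ φ₁ (card_lt_card_of_lt (lt_normalizerIn hS hPlt)) hφ₁
    have hφ₂E := ih' _ φ₂ (by rw [← hcardQ]; exact card_lt_card_of_lt (lt_normalizerIn hS hQlt)) hφ₂
    have he₁E : IsIso E e₁' := isIso_of_restrict E hφ₁E (le_normalizerIn hPS) e₁' hφ₁x
    have he₂E : IsIso E e₂' := isIso_of_restrict E hφ₂E (le_normalizerIn hQS) e₂' hφ₂x
    have hαF : IsIso F (e₁'.symm.trans (e.trans e₂')) := he₁'.symm.trans (he.trans he₂')
    have hle := hstep R hRlt hRa hRr
      (fun N ψ hlt hψ => by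
        have hNS : N ≤ S := (F.le_of_mem hψ).1
        have : Finite N := finite_of_le hNS
        exact ih' N ψ (by rw [← hcardR]; exact card_lt_card_of_lt hlt) hψ)
    have hαE : IsIso E (e₁'.symm.trans (e.trans e₂')) :=
      (mem_autGroup_iff E hRS _).mp (hle ((mem_autGroup_iff F hRS (e₁'.symm.trans (e.trans e₂'))).mpr hαF))
    have hfin : IsIso E (e₁'.trans ((e₁'.symm.trans (e.trans e₂')).trans e₂'.symm)) :=
      he₁E.trans (hαE.trans he₂E.symm)
    exact mem_of_eq E hfin (fun x => by simp; rfl)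

/-- Let F be a saturated fusion system over a finite p-group S and F′ ≤ F a saturated subsystem over all of S that is invariant under F in the conjugation sense: for every map φ of F with source Q and every map ψ of F′ between subgroups R ≤ Q (with values in Q), the transported map φψφ⁻¹ defined on φ(R) is again a map of F′. If moreover Aut_{F′}(S) = Aut_F(S), then F′ = F. -/
theorem result {Ω : Type*} [Group Ω] {S : Subgroup Ω} [Finite S] (p : ℕ) [Fact p.Prime] (hS : IsPGroup p S) (F : Cfsg.FusionSystem S) (hF : F.IsSaturated p) (F' : Cfsg.FusionSystem S) (hF' : F'.IsSaturated p) (hle : F' ≤ F) (hinv : ∀ (Q : Subgroup Ω) (φ : ↥Q →* Ω), φ ∈ F.Hom Q → ∀ (R : Subgroup Ω) (hRQ : R ≤ Q) (ψ : ↥R →* Ω), ψ ∈ F'.Hom R → ∀ (hψQ : ∀ x : R, ψ x ∈ Q), ∃ χ ∈ F'.Hom ((R.subgroupOf Q).map φ), ∀ (x : R) (hx : φ ⟨(x : Ω), hRQ x.2⟩ ∈ (R.subgroupOf Q).map φ), χ ⟨φ ⟨(x : Ω), hRQ x.2⟩, hx⟩ = φ ⟨ψ x, hψQ x⟩) (htop : F'.autGroup S = F.autGroup S) (P : Subgroup Ω) : F'.Hom P = F.Hom P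 := by
  apply Set.Subset.antisymm (hle P)
  refine hom_subset_of_aut_le hS F F' hF (le_of_eq htop.symm) ?_ P
  intro R hRlt hRa hRr ih
  have hRS : R ≤ S := hRlt.le
  have hfinAut : Finite (MulAut R) := finite_mulAut_of_le hRS
  -- B ≤ A
  have hBA : F'.autGroup R ≤ F.autGroup R := by
    intro β hβ
    rw [mem_autGroup_iff F hRS]
    exact hle R ((mem_autGroup_iff F' hRS β).1 hβ)
  -- Aut_S(R) ≤ B
  have hP0B : autInducedBy S R ≤ F'.autGroup R := by
    intro α hα
    obtain ⟨g, hg, hgx⟩ := (mem_autInducedBy_iff S R α).1 hα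
    rw [mem_autGroup_iff F' hRS]
    unfold IsIso
    exact mem_of_eq F' (F'.conj_mem hRS hg) (fun x => hgx x)
  -- normality of B in A
  have hnormal : ((F'.autGroup R).subgroupOf (F.autGroup R)).Normal := by
    constructor
    intro n hn a
    rw [Subgroup.mem_subgroupOf] at hn ⊢
    have hαF := (mem_autGroup_iff F hRS (a : MulAut R)).1 a.2
    have hβF' := (mem_autGroup_iff F' hRS (n : MulAut R)).1 hn
    rw [mem_autGroup_iff F' hRS]
    obtain ⟨χ, hχ, hχx⟩ := hinv R _ hαF R le_rfl _ hβF' (fun x => ((n : MulAut R) x).2)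
    have hRR'' : R ≤ (R.subgroupOf R).map (R.subtype.comp ((a : MulAut R) : R ≃* R).toMonoidHom) := by
      intro y hy
      refine ⟨(a : MulAut R)⁻¹ ⟨y, hy⟩, ?_, ?_⟩
      · rw [SetLike.mem_coe, Subgroup.mem_subgroupOf]; exact ((a : MulAut R)⁻¹ ⟨y, hy⟩).2
      · simp
    have hχx' : ∀ (x : R) (hx : (((a : MulAut R) x : R) : Ω) ∈
        (R.subgroupOf R).map (R.subtype.comp ((a : MulAut R) : R ≃* R).toMonoidHom)),
        χ ⟨(((a : MulAut R) x : R) : Ω), hx⟩ = (((a : MulAut R) ((n : MulAut R) x) : R) : Ω) :=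
      fun x hx => hχx x hx
    have key : ∀ (x z : R) (hz : (z : Ω) ∈
        (R.subgroupOf R).map (R.subtype.comp ((a : MulAut R) : R ≃* R).toMonoidHom)),
        z = (a : MulAut R) x → χ ⟨(z : Ω), hz⟩ = (((a : MulAut R) ((n : MulAut R) x) : R) : Ω) := by
      rintro x z hz rfl
      exact hχx' x hz
    unfold IsIso
    refine mem_of_eq F' (restrict_mem F' hχ hRR'') (fun y => ?_)
    have h1 := key ((a : MulAut R)⁻¹ y) y (hRR'' y.2) (by simp)
    show ((((a * n * a⁻¹ : F.autGroup R) : MulAut R) y : R) : Ω) = χ (Subgroup.inclusion hRR'' y)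
    have h2 : Subgroup.inclusion hRR'' y = ⟨(y : Ω), hRR'' y.2⟩ := rfl
    rw [h2, h1]
    simp [MulAut.mul_apply]
  -- the Sylow subgroup Aut_S(R) of A lies in B
  obtain ⟨-, Sy, hSy⟩ := hRa
  have hSyN : (Sy : Subgroup (F.autGroup R)) ≤ (F'.autGroup R).subgroupOf (F.autGroup R) := by
    rw [hSy]
    intro a ha
    rw [Subgroup.mem_subgroupOf] at ha ⊢
    exact hP0B ha
  have hfrat := Sylow.normalizer_sup_eq_top' Sy hSyN
  -- the normalizer of Aut_S(R) in A lies in B
  have hnorm : Subgroup.normalizer ((Sy : Subgroup (F.autGroup R)) : Set (F.autGroup R)) ≤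
      (F'.autGroup R).subgroupOf (F.autGroup R) := by
    intro ν hν
    rw [Subgroup.mem_subgroupOf, mem_autGroup_iff F' hRS]
    obtain ⟨g, hgN, hgR⟩ := SetLike.exists_of_lt (lt_normalizerIn hS hRlt)
    refine isIso_of_extender_gt F F' hRr (ν : MulAut R) ((mem_autGroup_iff F hRS _).1 ν.2) ih g ?_ hgR
    rw [mem_extender_iff]
    refine ⟨hgN.1, hgN.2, ?_⟩
    -- c_g ∈ Sy
    have htA : conjAut R g hgN.2 ∈ F.autGroup R :=
      (mem_autGroup_iff F hRS _).mpr (isIso_conjAut F hRS hgN.1 hgN.2)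
    have htSy : (⟨conjAut R g hgN.2, htA⟩ : F.autGroup R) ∈ (Sy : Subgroup (F.autGroup R)) := by
      rw [hSy, Subgroup.mem_subgroupOf]
      exact (mem_autInducedBy_iff S R _).mpr ⟨g, hgN.1, fun x => rfl⟩
    have h1 := (Subgroup.mem_normalizer_iff.1 hν ⟨conjAut R g hgN.2, htA⟩).1 htSy
    rw [hSy, Subgroup.mem_subgroupOf] at h1
    obtain ⟨h, hhS, hhx⟩ := (mem_autInducedBy_iff S R _).1 h1
    refine ⟨h, hhS, fun x hx => ?_⟩
    have h2 := hhx ((ν : MulAut R) x)
    simp only [Subgroup.coe_mul, Subgroup.coe_inv, MulAut.mul_apply, MulAut.inv_apply_self] at h2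
    have e : (conjAut R g hgN.2) x = ⟨g * (x : Ω) * g⁻¹, hx⟩ := Subtype.ext rfl
    rw [e] at h2
    exact h2
  have htopN : (F'.autGroup R).subgroupOf (F.autGroup R) = ⊤ := by
    rw [eq_top_iff, ← hfrat]
    exact sup_le hnorm le_rfl
  intro α hα
  have := Subgroup.mem_top (⟨α, hα⟩ : F.autGroup R)
  rw [← htopN, Subgroup.mem_subgroupOf] at this
  exact this

end Cfsg.Agent.S5338
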