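-- Statement S5339: saturated F with Aut_F(S) = Inn(S) and no proper nontrivial strongly closed subgroup is simple.
import Cfsg.Statements.S5339

set_option autoImplicit false
open Cfsg

namespace Cfsg.Agent.S5339

/-- Core argument, without saturation hypotheses on `F`: if `Aut_F(S) = Inn(S)` and the only strongly closed subgroups
are `⊥` and `S`, then every subsystem normal in `F` is over `⊥` or is all of `F`. -/
theorem normal_subsystem_trivial_or_top {Ω : Type*} [Group Ω] {S : Subgroup Ω} (p : ℕ)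
    (F : Cfsg.FusionSystem S) (htop : F.autGroup S = Cfsg.Inn ↥S)
    (hsc : ∀ T : Subgroup Ω, F.StronglyClosed T → T = ⊥ ∨ T = S)
    (T : Subgroup Ω) (E : Cfsg.FusionSystem T) (hE : E.IsNormalIn F p) :
    T = ⊥ ∨ (T = S ∧ ∀ P : Subgroup Ω, E.Hom P = F.Hom P) := by
  obtain ⟨⟨-, -, hsub, hsc', -, hfrat⟩, -⟩ := hE
  rcases hsc T hsc' with h | h
  · left; exact h
  · right
    refine ⟨h, ?_⟩
    subst h
    intro P
    apply Set.Subset.antisymm (hsub P)
    intro φ hφ
    have hPS := (F.le_of_mem hφ).1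
    obtain ⟨α, hα, φ₀, hφ₀, hcomp⟩ := hfrat P hPS φ hφ
    rw [htop] at hα
    obtain ⟨s, rfl⟩ := hα
    have h0 := E.le_of_mem hφ₀
    have hc : (conjHom T (s : Ω)) ∈ E.Hom T := E.conj_mem le_rfl s.2
    have hφeq : φ = (conjHom T (s : Ω)).comp (φ₀.codRestrict T h0.2) := by
      ext x
      rw [hcomp x (h0.2 x)]
      simp [conjHom]
    rw [hφeq]
    exact E.comp_mem hφ₀ hc h0.2

/-- Let F be a saturated fusion system over a nontrivial finite p-group S such that Aut_F(S) consists of inner automorphisms only and S has no strongly closed subgroup other than 1 and S. Then F is simple. -/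
theorem result {Ω : Type*} [Group Ω] {S : Subgroup Ω} [Finite S] (p : ℕ) [Fact p.Prime] (hS : IsPGroup p S) (F : Cfsg.FusionSystem S) (hF : F.IsSaturated p) (hS1 : S ≠ ⊥) (htop : F.autGroup S = Cfsg.Inn ↥S) (hsc : ∀ T : Subgroup Ω, F.StronglyClosed T → T = ⊥ ∨ T = S) : F.IsSimple p := by
  refine ⟨hF, hS1, ?_⟩
  intro T E hE
  exact normal_subsystem_trivial_or_top p F htop hsc T E hE

end Cfsg.Agent.S5339
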