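-- Statement S5340: simple if S generated by order-p elements, one F-class of subgroups of order p, Aut_F(S) = Inn(S).
import Cfsg.Statements.S5340
import Cfsg.Agent.S5339

set_option autoImplicit false
open Cfsg

namespace Cfsg.Agent.S5340

/-- Let F be a saturated fusion system over a nontrivial finite p-group S such that S is generated by its elements of order p, any two subgroups of S of order p are F-conjugate, and Aut_F(S) consists of inner automorphisms only. Then F is simple. -/
theorem result {Ω : Type*} [Group Ω] {S : Subgroup Ω} [Finite S] (p : ℕ) [Fact p.Prime] (hS : IsPGroup p S) (F : Cfsg.FusionSystem S) (hF : F.IsSaturated p) (hS1 : S ≠ ⊥) (hgen : Subgroup.closure {x : Ω | x ∈ S ∧ orderOf x = p} = S) (htr : ∀ A B : Subgroup Ω, A ≤ S → B ≤ S → Nat.card A = p → Nat.card B = p → F.IsConj A B) (htop : F.autGroup S = Cfsg.Inn ↥S) : F.IsSimple p := by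
  apply Cfsg.Agent.S5339.result p hS F hF hS1 htop
  intro T hT
  obtain ⟨hTS, hcl⟩ := hT
  by_cases hT1 : T = ⊥
  · left; exact hT1
  right
  apply le_antisymm hTS
  -- T is a nontrivial finite p-group
  have hTp : IsPGroup p T := hS.to_le hTS
  haveI : Finite T := Finite.of_injective (Subgroup.inclusion hTS) (Subgroup.inclusion_injective hTS)
  have hcard : Nat.card T ≠ 1 := by
    intro h
    apply hT1
    exact Subgroup.card_eq_one.1 h
  have hdvd : p ∣ Nat.card T := by
    rcases hTp.card_eq_or_dvd with h | h
    · exact absurd h hcard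
    · exact h
  obtain ⟨t, ht⟩ := exists_prime_orderOf_dvd_card' p hdvd
  -- A = ⟨t⟩ has order p and lies in T
  have htΩ : orderOf (t : Ω) = p := by rw [Subgroup.orderOf_coe]; exact ht
  have hA_le : Subgroup.zpowers (t : Ω) ≤ T := by
    rw [Subgroup.zpowers_le]; exact t.2
  have hA_card : Nat.card (Subgroup.zpowers (t : Ω)) = p := by
    rw [Nat.card_zpowers]; exact htΩ
  conv_lhs => rw [← hgen]
  rw [Subgroup.closure_le]
  rintro x ⟨hxS, hxp⟩
  have hB_le : Subgroup.zpowers x ≤ S := by
    rw [Subgroup.zpowers_le]; exact hxS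
  have hB_card : Nat.card (Subgroup.zpowers x) = p := by
    rw [Nat.card_zpowers]; exact hxp
  obtain ⟨φ, hφ, hrange⟩ := htr _ _ (hA_le.trans hTS) hB_le hA_card hB_card
  have hx : x ∈ φ.range := by
    rw [hrange]; exact Subgroup.mem_zpowers x
  obtain ⟨a, rfl⟩ := hx
  exact hcl _ hA_le φ hφ a

end Cfsg.Agent.S5340
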