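import Cfsg.Statements.S5342
import Cfsg.Agent.Helper88.Constrained
-- import your own Cfsg.Agent.* helpers here

set_option autoImplicit false
open Cfsg

namespace Cfsg.Agent.S5342

open Cfsg.FusionSystem Cfsg.Agent.Helper87 Cfsg.Agent.Helper88.FS

theorem aux {Ω : Type*} [Group Ω] {T S : Subgroup Ω} {E : Cfsg.FusionSystem T} {F : Cfsg.FusionSystem S} {p : ℕ}
    (hE : E.IsSubnormalIn F p) : Finite S → p.Prime → IsPGroup p S → F.IsConstrained p → E.IsConstrained p := by
  induction hE with
  | refl F p => exact fun _ _ _ h => h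
  | step hED hDF ih =>
    rename_i T' U' S' E' D' F' p'
    intro hfin hp hS hF
    have : Fact p'.Prime := ⟨hp⟩
    obtain ⟨⟨hDsat, -, hDsub, hU, -, -⟩, -⟩ := hDF
    have hUS := hU.1
    exact ih (finite_of_le hUS) hp (hS.to_le hUS) (isConstrained_of_subsystem hS _ hF _ hDsat hDsub hU)

/-- Let F be a constrained saturated fusion system over a finite p-group S. Then every subsystem of F that is subnormal in F (reached from F by a finite chain of successive normal subsystems) is constrained. -/
theorem result {Ω : Type*} [Group Ω] {S : Subgroup Ω} [Finite S] (p : ℕ) [Fact p.Prime] (hS : IsPGroup p S) (F : Cfsg.FusionSystem S) (hF : F.IsConstrained p) {T : Subgroup Ω} (E : Cfsg.FusionSystem T) (hE : E.IsSubnormalIn F p) : E.IsConstrained p :=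
  aux hE inferInstance (Fact.out) hS hF

end Cfsg.Agent.S5342
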