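import Cfsg.Statements.S5343
import Cfsg.Agent.Helper88.RealizeSimple

set_option autoImplicit false
universe u
open Cfsg

namespace Cfsg.Agent.S5343

/-- Let F be a simple saturated fusion system over a finite p-group S that is realized by some finite group on a Sylow p-subgroup. Then F is realized by a finite simple group on a Sylow p-subgroup. -/
theorem result {Ω : Type u} [Group Ω] {S : Subgroup Ω} [Finite S] (p : ℕ) [Fact p.Prime] (hS : IsPGroup p S) (F : Cfsg.FusionSystem S) (hsimple : F.IsSimple p) (hreal : F.IsRealizable p) : ∃ (G : Type u) (_ : Group G) (_ : Finite G) (_ : IsSimpleGroup G) (ι : ↥S →* G), F.IsRealizedBy ι ∧ ∃ T : Sylow p G, (T : Subgroup G) = ι.range := by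
  classical
  let R : ℕ → Prop := fun n => ∃ (G : Type u) (_ : Group G) (_ : Finite G) (ι : ↥S →* G),
    Nat.card G = n ∧ F.IsRealizedBy ι ∧ ∃ T : Sylow p G, (T : Subgroup G) = ι.range
  have hex : ∃ n, R n := by
    obtain ⟨G, hG, hfin, ι, hι, T, hT⟩ := hreal
    exact ⟨Nat.card G, G, hG, hfin, ι, rfl, hι, T, hT⟩
  obtain ⟨G, hG, hfin, ι, hcard, hι, PG, hPG⟩ := Nat.find_spec hex
  have hmin : ∀ m, m < Nat.card G → ¬ R m := fun m hm => Nat.find_min hex (hcard ▸ hm)
  obtain ⟨hFsat, hSne, hsimp⟩ := hsimple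
  have hnt : Nontrivial G := by
    obtain ⟨s, hs1⟩ := (Subgroup.ne_bot_iff_exists_ne_one.mp hSne)
    exact ⟨ι s, 1, fun h => hs1 (hι.1 (h.trans (map_one ι).symm))⟩
  refine ⟨G, hG, hfin, { toNontrivial := hnt, eq_bot_or_eq_top_of_normal := fun N hN => ?_ }, ι, hι, PG, hPG⟩
  by_contra hcon
  rw [not_or] at hcon
  obtain ⟨hNbot, hNtop⟩ := hcon
  have hnorm := Cfsg.Agent.Helper88.PN.pull_isNormalIn F ι hι N PG hPG hFsat
  rcases hsimp _ _ hnorm with hT | ⟨hT, hEF⟩
  · obtain ⟨hq, P', hP'⟩ := Cfsg.Agent.Helper88.PN.isRealizedBy_quotient F ι hι N PG hPG hT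
    have hlt : Nat.card (G ⧸ N) < Nat.card G := by
      have h1 := Subgroup.card_eq_card_quotient_mul_card_subgroup N
      have h2 : 1 < Nat.card N := (Subgroup.one_lt_card_iff_ne_bot N).mpr hNbot
      have h3 : 0 < Nat.card (G ⧸ N) := Nat.card_pos
      rw [h1]
      nlinarith
    exact hmin _ hlt ⟨G ⧸ N, inferInstance, inferInstance, _, rfl, hq, P', hP'⟩
  · obtain ⟨ι', hι', P', hP'⟩ := Cfsg.Agent.Helper88.PN.exists_isRealizedBy_normal F ι hι N PG hPG hT hEF
    have hlt : Nat.card N < Nat.card G :=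
      lt_of_le_of_ne (Subgroup.card_le_card_group N) (fun h => hNtop ((Subgroup.card_eq_iff_eq_top N).mp h))
    exact hmin _ hlt ⟨N, inferInstance, inferInstance, ι', rfl, hι', P', hP'⟩


end Cfsg.Agent.S5343
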