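-- Statement S5345: D ∩ T for a Sylow 2-subgroup T generates an abelian subgroup and has size the width of D.
import Cfsg.Statements.S5345
import Cfsg.Agent.Helper89.ThreeTransp

set_option autoImplicit false
open Cfsg

namespace Cfsg.Agent.S5345

open Cfsg.Agent.Helper89

/-- Let D be a conjugation-invariant generating set of 3-transpositions of a finite group G and T a Sylow 2-subgroup of G. Then the members of D lying in T generate an abelian subgroup, and their number is the width of D (the largest number of pairwise commuting members of D). -/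
theorem result {G : Type*} [Group G] [Finite G] {D : Set G} (hD : Cfsg.IsThreeTranspositionGroup D) (T : Sylow 2 G) : IsMulCommutative (Subgroup.closure {d : G | d ∈ D ∧ d ∈ T}) ∧ {d : G | d ∈ D ∧ d ∈ T}.ncard = Cfsg.commutingWidth D := by
  obtain ⟨hset, hconj, -⟩ := hD
  have hT2 : IsPGroup 2 (T : Subgroup G) := T.isPGroup'
  have hAcomm : ∀ a ∈ {d : G | d ∈ D ∧ d ∈ T}, ∀ b ∈ {d : G | d ∈ D ∧ d ∈ T}, Commute a b :=
    fun a ha b hb => commute_of_mem_two_group hset hT2 ha.1 hb.1 ha.2 hb.2
  refine ⟨Subgroup.isMulCommutative_closure (fun x hx y hy => hAcomm x hx y hy), ?_⟩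
  symm
  apply IsGreatest.csSup_eq
  constructor
  · exact ⟨{d : G | d ∈ D ∧ d ∈ T}, fun x hx => hx.1, Set.toFinite _, hAcomm, rfl⟩
  · rintro n ⟨E, hED, hEfin, hEcomm, rfl⟩
    have h2 := isPGroup_two_closure_of_commuting_involutions (fun d hd => hset.1 d (hED hd)) hEcomm
    obtain ⟨Q, hQ⟩ := h2.exists_le_sylow
    obtain ⟨g, hg⟩ := MulAction.exists_smul_eq G Q T
    have hsub : (fun x => g * x * g⁻¹) '' E ⊆ {d : G | d ∈ D ∧ d ∈ T} := by
      rintro _ ⟨x, hx, rfl⟩
      refine ⟨hconj g x (hED hx), ?_⟩
      have hxQ : x ∈ (Q : Subgroup G) := hQ (Subgroup.subset_closure hx)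
      have : g * x * g⁻¹ ∈ ((g • Q : Sylow 2 G) : Subgroup G) := by
        rw [Sylow.coe_subgroup_smul]
        have := Subgroup.smul_mem_pointwise_smul x (MulAut.conj g) (Q : Subgroup G) hxQ
        simpa [MulAut.smul_def] using this
      rw [hg] at this
      exact this
    have hinj : Function.Injective (fun x : G => g * x * g⁻¹) := by
      intro x y hxy
      simpa using hxy
    calc E.ncard = ((fun x => g * x * g⁻¹) '' E).ncard := (Set.ncard_image_of_injective E hinj).symm
      _ ≤ {d : G | d ∈ D ∧ d ∈ T}.ncard := Set.ncard_le_ncard hsub (Set.toFinite _)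

end Cfsg.Agent.S5345
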