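-- Statement S5348: for a 3-transposition d, V_d = {d} or W_d = {d}.
import Cfsg.Statements.S5348

set_option autoImplicit false
open Cfsg

namespace Cfsg.Agent.S5348

/-- Let D be a conjugation-invariant generating set of 3-transpositions of a finite group G and d a member of D. Let V be the set of members of D commuting with exactly the same members of D as d, and W the set of members w of D such that the members of D other than w commuting with w are precisely the members of D other than d commuting with d. Then V = {d} or W = {d}. -/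
theorem result {G : Type*} [Group G] [Finite G] {D : Set G} (hD : Cfsg.IsThreeTranspositionGroup D) {d : G} (hd : d ∈ D) : {v : G | v ∈ D ∧ ∀ e ∈ D, Commute v e ↔ Commute d e} = {d} ∨ {w : G | w ∈ D ∧ {y : G | y ∈ D ∧ y ≠ d ∧ Commute d y} = {y : G | y ∈ D ∧ y ≠ w ∧ Commute w y}} = {d} := by
  by_contra hcon
  rw [not_or] at hcon
  obtain ⟨hV, hW⟩ := hcon
  -- d ∈ V and d ∈ W
  have hdV : d ∈ {v : G | v ∈ D ∧ ∀ e ∈ D, Commute v e ↔ Commute d e} := ⟨hd, fun e _ => Iff.rfl⟩
  have hdW : d ∈ {w : G | w ∈ D ∧ {y : G | y ∈ D ∧ y ≠ d ∧ Commute d y} = {y : G | y ∈ D ∧ y ≠ w ∧ Commute w y}} :=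
    ⟨hd, rfl⟩
  -- there are v ∈ V, v ≠ d and w ∈ W, w ≠ d
  have hv : ∃ v, v ∈ {v : G | v ∈ D ∧ ∀ e ∈ D, Commute v e ↔ Commute d e} ∧ v ≠ d := by
    by_contra h
    push Not at h
    apply hV
    ext v
    constructor
    · intro hv; exact h v hv
    · intro hv; rw [Set.mem_singleton_iff] at hv; rw [hv]; exact hdV
  have hw : ∃ w, w ∈ {w : G | w ∈ D ∧ {y : G | y ∈ D ∧ y ≠ d ∧ Commute d y} = {y : G | y ∈ D ∧ y ≠ w ∧ Commute w y}} ∧ w ≠ d := by
    by_contra h
    push Not at h
    apply hW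
    ext w
    constructor
    · intro hw; exact h w hw
    · intro hw; rw [Set.mem_singleton_iff] at hw; rw [hw]; exact hdW
  obtain ⟨v, ⟨hvD, hvc⟩, hvd⟩ := hv
  obtain ⟨w, ⟨hwD, hwA⟩, hwd⟩ := hw
  -- v commutes with d
  have hvd_comm : Commute v d := (hvc d hd).2 (Commute.refl d)
  -- w does not commute with d
  have hwd_ncomm : ¬ Commute d w := by
    intro hc
    have : w ∈ {y : G | y ∈ D ∧ y ≠ d ∧ Commute d y} := ⟨hwD, hwd, hc⟩
    rw [hwA] at this
    exact this.2.1 rfl
  -- v ∈ A_d = A_w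
  have hvA : v ∈ {y : G | y ∈ D ∧ y ≠ d ∧ Commute d y} := ⟨hvD, hvd, hvd_comm.symm⟩
  rw [hwA] at hvA
  obtain ⟨-, hvw, hwv⟩ := hvA
  -- so w commutes with v, hence with d
  have : Commute d w := (hvc w hwD).1 hwv.symm
  exact hwd_ncomm this

end Cfsg.Agent.S5348
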