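import Cfsg.Statements.S5354
import Cfsg.Agent.Helper89.TranspPrimitive
import Cfsg.Agent.Helper89.TranspRank3

set_option autoImplicit false
open Cfsg

namespace Cfsg.Agent.S5354

open Cfsg.Agent.Helper89 Cfsg.Agent.Helper21
open Cfsg.Agent.S5353 (class_conj class_trans notMem_center exists_not_commute)

/-- Let D be a conjugation-invariant generating set of 3-transpositions of the finite group G on which G acts primitively by conjugation, and suppose two different members of D commute (width at least 2). Then G has a quasisimple normal subgroup L of index at most 2 with the generalized Fitting subgroup of G equal to L times the centre, the commuting graph of D is connected, and for d in D the subgroup generated by the members of D commuting with d is a maximal D-subgroup: it is proper, and every subgroup generated by members of D that contains it is either it or G. -/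
theorem result {G : Type*} [Group G] [Finite G] {D : Set G} (hD : Cfsg.IsThreeTranspositionGroup D) (hprim : Cfsg.IsPrimitiveUnderConj D) (hw : ∃ a ∈ D, ∃ b ∈ D, a ≠ b ∧ Commute a b) : (∃ L : Subgroup G, L.Normal ∧ Cfsg.IsQuasisimple L ∧ L.index ≤ 2 ∧ Cfsg.generalizedFittingSubgroup G = L ⊔ Subgroup.center G) ∧ (Cfsg.commutingGraph D).Connected ∧ ∀ d ∈ D, Subgroup.closure {y : G | y ∈ D ∧ Commute d y} ≠ ⊤ ∧ ∀ H : Subgroup G, Cfsg.IsDSubgroup D H → Subgroup.closure {y : G | y ∈ D ∧ Commute d y} ≤ H → H = Subgroup.closure {y : G | y ∈ D ∧ Commute d y} ∨ H = ⊤ := by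
  classical
  obtain ⟨hT, hconj, hgen⟩ := hD
  have htrans := hprim.1
  have hD2 : ∃ a ∈ D, ∃ b ∈ D, a ≠ b := hprim.2.1
  -- `D` is a class of 3-transpositions
  have hcls : Cfsg.IsThreeTranspositionClass D := by
    obtain ⟨a, ha, -⟩ := hD2
    refine ⟨hT, ⟨a, ha, ?_⟩, hgen⟩
    ext x
    constructor
    · intro hx
      obtain ⟨g, hg⟩ := htrans a ha x hx
      show IsConj a x
      exact isConj_iff.mpr ⟨g, hg⟩
    · intro hx
      have hx' : IsConj a x := hx
      obtain ⟨g, hg⟩ := isConj_iff.mp hx'
      rw [← hg]
      exact hconj g a ha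
  have hconn := connected_of_isPrimitiveUnderConj hconj hprim hw
  have h2' := pCore_le_center_of_isPrimitiveUnderConj hcls hprim hw (Or.inl rfl)
  have h3' := pCore_le_center_of_isPrimitiveUnderConj hcls hprim hw (Or.inr rfl)
  refine ⟨?_, hconn, ?_⟩
  · obtain ⟨L, hLn, hLq, hF⟩ := exists_quasisimple_fstar hcls hD2 h2' h3' hconn
    have hcomp : Cfsg.IsComponent L := ⟨Subgroup.Normal.isSubnormal hLn, hLq⟩
    have hall := forall_inv_mul_mem_of_connected
      (fun a ha b hb hab => inv_mul_mem_of_commute (hN := hLn) hcls hcomp le_rfl ha hb hab) hconn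
    obtain ⟨d0, hd0, -⟩ := hcls.2.1
    have hcover := cover_of_forall_inv_mul_mem (hN := hLn) hcls hall hd0
    exact ⟨L, hLn, hLq, index_le_two_of_cover (sq_of_mem hT hd0) hcover, hF⟩
  · intro d hd
    have hnc : d ∉ Subgroup.center G := notMem_center hcls hD2 hd
    obtain ⟨x0, hx0, hdx0⟩ := exists_not_commute hcls hnc
    constructor
    · intro htop
      have : x0 ∈ Rank3.Md D d := by
        show x0 ∈ Subgroup.closure {y : G | y ∈ D ∧ Commute d y}
        rw [htop]; exact Subgroup.mem_top _
      exact hdx0 (Rank3.commute_of_mem_Md this).symm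
    · intro H hH hle
      by_cases hHM : H ≤ Subgroup.closure {y : G | y ∈ D ∧ Commute d y}
      · exact Or.inl (le_antisymm hHM hle)
      · right
        -- some member of `D ∩ H` lies outside `M_d`
        have hex : ∃ a, a ∈ D ∧ a ∈ H ∧ ¬ Commute d a := by
          by_contra hcon
          push Not at hcon
          apply hHM
          rw [← hH, Subgroup.closure_le]
          rintro t ⟨htD, htH⟩
          exact Subgroup.subset_closure ⟨htD, hcon t htD htH⟩
        obtain ⟨a, haD, haH, hda⟩ := hex
        rw [eq_top_iff, ← hgen, Subgroup.closure_le]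
        intro t htD
        by_cases hdt : Commute d t
        · exact hle (Subgroup.subset_closure ⟨htD, hdt⟩)
        · obtain ⟨g, hg, hgt⟩ := Rank3.sameOrb_all hT hconj hprim hw hd haD hda htD hdt
          rw [← hgt]
          have hgH : g ∈ H := hle hg
          exact H.mul_mem (H.mul_mem hgH haH) (H.inv_mem hgH)

end Cfsg.Agent.S5354
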