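import Cfsg.Statements.S5355
import Cfsg.Agent.Helper89.PairS4

set_option autoImplicit false
open Cfsg

namespace Cfsg.Agent.S5355

/-- Let D be a conjugacy class of 3-transpositions generating the finite group G, with at least two members, and d a member of D. Suppose that every member of D commuting with d commutes with exactly the same members of D as d does, and that exactly one member of D other than d commutes with d. Then G is isomorphic to the symmetric group of degree 4. -/
theorem result {G : Type*} [Group G] [Finite G] {D : Set G} (hD : Cfsg.IsThreeTranspositionClass D) (hD2 : ∃ a ∈ D, ∃ b ∈ D, a ≠ b) {d : G} (hd : d ∈ D) (hV : {y : G | y ∈ D ∧ Commute d y} = {v : G | v ∈ D ∧ ∀ e ∈ D, Commute v e ↔ Commute d e}) (hm : {y : G | y ∈ D ∧ Commute d y}.ncard = 2) : Nonempty (G ≃* Equiv.Perm (Fin 4)) := by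
  obtain ⟨hDset, ⟨d0, hd0, hDeq⟩, hgen⟩ := hD
  -- conjugation invariance and transitivity
  have hconj : ∀ g : G, ∀ x ∈ D, g * x * g⁻¹ ∈ D := by
    intro g x hx
    rw [hDeq] at hx ⊢
    exact (show IsConj d0 x from hx).trans (isConj_iff.2 ⟨g, rfl⟩)
  have htrans : ∀ x ∈ D, ∃ g : G, g * d * g⁻¹ = x := by
    intro x hx
    have h1 : IsConj d0 x := by rw [hDeq] at hx; exact hx
    have h2 : IsConj d0 d := by rw [hDeq] at hd; exact hd
    exact isConj_iff.1 (h2.symm.trans h1)
  -- the partner of d
  have hdS : d ∈ {y : G | y ∈ D ∧ Commute d y} := ⟨hd, Commute.refl d⟩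
  obtain ⟨d', hdd', hS⟩ : ∃ d', d ≠ d' ∧ {y : G | y ∈ D ∧ Commute d y} = {d, d'} := by
    obtain ⟨x, y, hxy, hS⟩ := Set.ncard_eq_two.1 hm
    rw [hS] at hdS
    rcases hdS with h | h
    · exact ⟨y, h ▸ hxy, by rw [hS, h]⟩
    · rw [Set.mem_singleton_iff] at h
      exact ⟨x, h ▸ hxy.symm, by rw [hS, h, Set.pair_comm]⟩
  have hd'S : d' ∈ {y : G | y ∈ D ∧ Commute d y} := by rw [hS]; exact Or.inr rfl
  have hd'V : ∀ e ∈ D, Commute d' e ↔ Commute d e := by
    rw [hV] at hd'S
    exact hd'S.2
  have hP : Cfsg.Agent.Helper89.PairS4.Partner D d d' := by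
    refine ⟨hd, hd'S.1, hdd', hd'S.2, ?_, ?_⟩
    · intro e he hc
      have : e ∈ {y : G | y ∈ D ∧ Commute d y} := ⟨he, hc⟩
      rw [hS] at this
      exact this
    · intro e he hc
      have : e ∈ {y : G | y ∈ D ∧ Commute d y} := ⟨he, (hd'V e he).1 hc⟩
      rw [hS] at this
      exact this
  have hpart : ∀ x ∈ D, ∃ x', Cfsg.Agent.Helper89.PairS4.Partner D x x' := by
    intro x hx
    obtain ⟨g, rfl⟩ := htrans x hx
    refine ⟨g * d' * g⁻¹, hx, hconj g d' hP.2.1, ?_, ?_, ?_, ?_⟩
    · intro h
      exact hdd' (mul_left_cancel (mul_right_cancel h))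
    · exact (Commute.conj_iff g).2 hP.2.2.2.1
    · intro e he hc
      have he0 : g⁻¹ * e * g ∈ D := by
        have := hconj g⁻¹ e he
        rwa [inv_inv] at this
      have hc0 : Commute d (g⁻¹ * e * g) := by
        have := (Commute.conj_iff g⁻¹).2 hc
        rw [inv_inv] at this
        have e1 : g⁻¹ * (g * d * g⁻¹) * g = d := by group
        rwa [e1] at this
      rcases hP.2.2.2.2.1 _ he0 hc0 with h | h
      · left; rw [← h]; group
      · right; rw [← h]; group
    · intro e he hc
      have he0 : g⁻¹ * e * g ∈ D := by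
        have := hconj g⁻¹ e he
        rwa [inv_inv] at this
      have hc0 : Commute d' (g⁻¹ * e * g) := by
        have := (Commute.conj_iff g⁻¹).2 hc
        rw [inv_inv] at this
        have e1 : g⁻¹ * (g * d' * g⁻¹) * g = d' := by group
        rwa [e1] at this
      rcases hP.2.2.2.2.2 _ he0 hc0 with h | h
      · left; rw [← h]; group
      · right; rw [← h]; group
  -- a member not commuting with d
  have hex : ∃ e ∈ D, ¬ Commute d e := by
    by_contra hcon
    push Not at hcon
    have hle : Subgroup.closure D ≤ Subgroup.centralizer ({d} : Set G) := by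
      rw [Subgroup.closure_le]
      intro x hx
      rw [SetLike.mem_coe, Subgroup.mem_centralizer_iff]
      intro h hh
      rw [Set.mem_singleton_iff] at hh
      rw [hh]
      exact (hcon x hx).eq
    obtain ⟨g, hg⟩ := htrans d' hP.2.1
    have hgc : g ∈ Subgroup.centralizer ({d} : Set G) := hle (hgen ▸ Subgroup.mem_top g)
    have h1 : d * g = g * d := Subgroup.mem_centralizer_iff.1 hgc d rfl
    apply hdd'
    rw [← hg, ← h1, mul_assoc, mul_inv_cancel, mul_one]
  obtain ⟨e, he, hde⟩ := hex
  exact Cfsg.Agent.Helper89.PairS4.main hDset hconj hgen hpart hP he hde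

end Cfsg.Agent.S5355
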