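-- Statement S5356: if C_D(d) = W_d then d normalizes a Sylow 3-subgroup P and G = <d> P O_2(G)
-- (consumer of Hall's theorem S5561 via the width-one theorem for G / O_2(G)).
import Cfsg.Statements.S5356
import Cfsg.Agent.Helper89.TranspHallSyl
import Cfsg.Agent.S5349
import Cfsg.Agent.S5561

set_option autoImplicit false
open Cfsg

namespace Cfsg.Agent.S5356

open Cfsg.Agent.Helper89
open Cfsg.Agent.S5353 (class_conj class_trans notMem_center exists_not_commute)

/-- Let D be a conjugacy class of 3-transpositions generating the finite group G, with at least two members, and d a member of D such that every member of D commuting with d commutes with exactly the same members of D as d. Then there is a Sylow 3-subgroup P of G normalized by d such that G is generated by d, P and the largest normal 2-subgroup of G. -/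
theorem result {G : Type*} [Group G] [Finite G] {D : Set G} (hD : Cfsg.IsThreeTranspositionClass D) (hD2 : ∃ a ∈ D, ∃ b ∈ D, a ≠ b) {d : G} (hd : d ∈ D) (hV : {y : G | y ∈ D ∧ Commute d y} = {v : G | v ∈ D ∧ ∀ e ∈ D, Commute v e ↔ Commute d e}) : ∃ P : Sylow 3 G, d ∈ Subgroup.normalizer (P : Set G) ∧ Subgroup.zpowers d ⊔ (P : Subgroup G) ⊔ Cfsg.pCore 2 G = ⊤ := by
  have hT := hD.1
  have hconj := class_conj hD
  have hgen := hD.2.2
  haveI hQn : (pCore 2 G).Normal := pCore_normal' 2
  have hQ2 : IsPGroup 2 (pCore 2 G) := Cfsg.Agent.Lib.isPGroup_pCore 2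
  obtain ⟨hAB, hAC⟩ := Cfsg.Agent.S5349.result hD hD2 hd
  -- commuting with `d` means lying in `d Q`
  have h1d : ∀ b ∈ D, Commute d b → d⁻¹ * b ∈ pCore 2 G := by
    intro b hb hc
    have h1 : b ∈ {y : G | y ∈ D ∧ Commute d y} := ⟨hb, hc⟩
    rw [hV, hAB] at h1
    exact h1.2
  have h1 : ∀ a ∈ D, ∀ b ∈ D, Commute a b → a⁻¹ * b ∈ pCore 2 G := by
    intro a ha b hb hc
    obtain ⟨g, rfl⟩ := class_trans hD d hd a ha
    have hb' : g⁻¹ * b * g ∈ D := by
      have := hconj g⁻¹ b hb
      rwa [inv_inv] at this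
    have hc' : Commute d (g⁻¹ * b * g) := by
      have e : b = g * (g⁻¹ * b * g) * g⁻¹ := by group
      rw [e, Commute.conj_iff] at hc
      exact hc
    have h2 := hQn.conj_mem _ (h1d _ hb' hc') g
    have e : g * (d⁻¹ * (g⁻¹ * b * g)) * g⁻¹ = (g * d * g⁻¹)⁻¹ * b := by group
    rwa [e] at h2
  have h2 : ∀ g : G, d⁻¹ * (g * d * g⁻¹) ∈ pCore 2 G →
      ∃ q ∈ pCore 2 G, q⁻¹ * g ∈ Subgroup.centralizer {d} := by
    intro g hg
    have h3 : g * d * g⁻¹ ∈ {v : G | v ∈ D ∧ d⁻¹ * v ∈ pCore 2 G} := ⟨hconj g d hd, hg⟩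
    rw [← hAB, hAC] at h3
    obtain ⟨q, hq, hqe⟩ := h3
    refine ⟨q, hq, ?_⟩
    rw [Subgroup.mem_centralizer_iff]
    intro x hx
    rw [Set.mem_singleton_iff.mp hx]
    calc d * (q⁻¹ * g) = q⁻¹ * (q * d * q⁻¹) * g := by group
      _ = q⁻¹ * (g * d * g⁻¹) * g := by rw [hqe]
      _ = q⁻¹ * g * d := by group
  have hnot : ∀ a ∈ D, a ∉ pCore 2 G := by
    intro a ha haQ
    -- then all of `D` lies in `Q`, so `d` is central
    have hall : ∀ e ∈ D, e ∈ pCore 2 G := by
      intro e he
      obtain ⟨g, rfl⟩ := class_trans hD a ha e he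
      exact hQn.conj_mem a haQ g
    apply notMem_center hD hD2 hd
    have hle : Subgroup.closure D ≤ Subgroup.centralizer {d} := by
      rw [Subgroup.closure_le]
      intro e he
      rw [SetLike.mem_coe, Subgroup.mem_centralizer_iff]
      intro x hx
      rw [Set.mem_singleton_iff.mp hx]
      exact (commute_of_mem_two_group hT hQ2 hd he (hall d hd) (hall e he)).eq
    rw [hgen] at hle
    rw [Subgroup.mem_center_iff]
    intro g
    exact (Subgroup.mem_centralizer_iff.mp (hle (Subgroup.mem_top g)) d (Set.mem_singleton d)).symm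
  exact exists_sylow_normalized_of_hall
    (fun H _ _ d hd hprod => Cfsg.Agent.S5561.result d hd hprod)
    (QuotientGroup.mk' (pCore 2 G)) (QuotientGroup.mk'_surjective _)
    (fun x => QuotientGroup.eq_one_iff x) hQ2 hT hconj hgen hd hnot h1 h2

end Cfsg.Agent.S5356
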