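import Cfsg.Statements.S5357
import Cfsg.Agent.Helper89.ReflConj

set_option autoImplicit false
open Cfsg

namespace Cfsg.Agent.S5357

open Matrix Cfsg.Agent.Helper14 Cfsg.Agent.Helper89

variable {n : ℕ}

/-- The matrix of an element of the reflection subgroup. -/
def matOf (Q : QuadraticForm (ZMod 3) (Fin n → ZMod 3)) (c : ZMod 3)
    (g : ↥(Cfsg.reflectionSubgroup (⇑Q) c)) : Matrix (Fin n) (Fin n) (ZMod 3) :=
  (((g : ↥(Cfsg.isometryGroup (ZMod 3) (⇑Q))) : Matrix.GeneralLinearGroup (Fin n) (ZMod 3)) :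
    Matrix (Fin n) (Fin n) (ZMod 3))

theorem matOf_mul (Q : QuadraticForm (ZMod 3) (Fin n → ZMod 3)) (c : ZMod 3)
    (g h : ↥(Cfsg.reflectionSubgroup (⇑Q) c)) : matOf Q c (g * h) = matOf Q c g * matOf Q c h :=
  rfl

theorem matOf_one (Q : QuadraticForm (ZMod 3) (Fin n → ZMod 3)) (c : ZMod 3) :
    matOf Q c 1 = 1 := rfl

theorem matOf_inj (Q : QuadraticForm (ZMod 3) (Fin n → ZMod 3)) (c : ZMod 3) :
    Function.Injective (matOf Q c) :=
  fun _ _ e => Subtype.ext (Subtype.ext (Units.ext e))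

theorem matOf_iso (Q : QuadraticForm (ZMod 3) (Fin n → ZMod 3)) (c : ZMod 3)
    (g : ↥(Cfsg.reflectionSubgroup (⇑Q) c)) (x : Fin n → ZMod 3) :
    Q (matOf Q c g *ᵥ x) = Q x :=
  (Cfsg.Agent.Helper13.mem_isometryGroup_iff _ _).mp
    (g : ↥(Cfsg.isometryGroup (ZMod 3) (⇑Q))).2 x

theorem matOf_mul_inv (Q : QuadraticForm (ZMod 3) (Fin n → ZMod 3)) (c : ZMod 3)
    (g : ↥(Cfsg.reflectionSubgroup (⇑Q) c)) : matOf Q c g * matOf Q c g⁻¹ = 1 := by
  rw [← matOf_mul, mul_inv_cancel, matOf_one]

/-- The reflection in a vector of norm `c`, as an element of the reflection subgroup. -/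
noncomputable def mkRefl (Q : QuadraticForm (ZMod 3) (Fin n → ZMod 3)) {c : ZMod 3} (hc : c ≠ 0)
    (u : Fin n → ZMod 3) (hu : Q u = c) : ↥(Cfsg.reflectionSubgroup (⇑Q) c) :=
  ⟨⟨reflectionGL Q u (hu ▸ hc), reflectionGL_mem Q u _⟩,
    Subgroup.subset_closure ⟨u, hu, rfl⟩⟩

theorem matOf_mkRefl (Q : QuadraticForm (ZMod 3) (Fin n → ZMod 3)) {c : ZMod 3} (hc : c ≠ 0)
    (u : Fin n → ZMod 3) (hu : Q u = c) :
    matOf Q c (mkRefl Q hc u hu) = Cfsg.reflectionMatrix (⇑Q) u := rfl

theorem mkRefl_mul_self (Q : QuadraticForm (ZMod 3) (Fin n → ZMod 3)) {c : ZMod 3} (hc : c ≠ 0)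
    (u : Fin n → ZMod 3) (hu : Q u = c) : mkRefl Q hc u hu * mkRefl Q hc u hu = 1 := by
  apply matOf_inj
  rw [matOf_mul, matOf_mkRefl, matOf_one]
  exact reflectionMatrix_mul_self Q u (hu ▸ hc)

/-- Reflections in non-orthogonal vectors of norm `c` are conjugate in the reflection subgroup. -/
theorem isConj_of_polar_ne (Q : QuadraticForm (ZMod 3) (Fin n → ZMod 3)) {c : ZMod 3} (hc : c ≠ 0)
    {v w : Fin n → ZMod 3} (hv : Q v = c) (hw : Q w = c)
    (hvw : QuadraticMap.polar (⇑Q) v w ≠ 0) : IsConj (mkRefl Q hc v hv) (mkRefl Q hc w hw) := by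
  set a := mkRefl Q hc v hv
  set b := mkRefl Q hc w hw
  have haa : a * a = 1 := mkRefl_mul_self Q hc v hv
  have hbb : b * b = 1 := mkRefl_mul_self Q hc w hw
  have hbr : a * b * a = b * a * b := by
    apply matOf_inj
    simp only [matOf_mul]
    exact reflection_braid Q hc hv hw hvw
  rw [isConj_iff]
  refine ⟨a * b, ?_⟩
  have hainv : a⁻¹ = a := inv_eq_of_mul_eq_one_left haa
  have hbinv : b⁻¹ = b := inv_eq_of_mul_eq_one_left hbb
  rw [_root_.mul_inv_rev, hainv, hbinv]
  calc a * b * a * (b * a) = (a * b * a) * b * a := by simp only [mul_assoc]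
    _ = (b * a * b) * b * a := by rw [hbr]
    _ = b * a * (b * b) * a := by simp only [mul_assoc]
    _ = b * (a * a) := by rw [hbb]; simp only [mul_one, mul_assoc]
    _ = b := by rw [haa, mul_one]

theorem two_ne_zero_zmod3 : (2 : ZMod 3) ≠ 0 := by decide

/-- Any two reflections in vectors of norm `c` are conjugate in the reflection subgroup. -/
theorem isConj_mkRefl (hn : 5 ≤ n) (Q : QuadraticForm (ZMod 3) (Fin n → ZMod 3))
    (hQ : (QuadraticMap.polarBilin Q).Nondegenerate) {c : ZMod 3} (hc : c ≠ 0)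
    {v w : Fin n → ZMod 3} (hv : Q v = c) (hw : Q w = c) :
    IsConj (mkRefl Q hc v hv) (mkRefl Q hc w hw) := by
  classical
  by_cases hvw : QuadraticMap.polar (⇑Q) v w = 0
  · have hvv : QuadraticMap.polar (⇑Q) v v ≠ 0 := by
      rw [QuadraticMap.polar_self, hv]
      simpa using mul_ne_zero two_ne_zero_zmod3 hc
    have hww : QuadraticMap.polar (⇑Q) w w ≠ 0 := by
      rw [QuadraticMap.polar_self, hw]
      simpa using mul_ne_zero two_ne_zero_zmod3 hc
    have hne : v ≠ w := by
      intro h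
      rw [h] at hvw
      exact hww hvw
    obtain ⟨z, hz, hzo⟩ := exists_norm_orth Q hQ {v, w}
      (by
        intro s hs
        rcases Finset.mem_insert.mp hs with h | h
        · rw [h, hv]; exact hc
        · rw [Finset.mem_singleton.mp h, hw]; exact hc)
      (by
        intro s hs t ht hst
        rcases Finset.mem_insert.mp hs with h | h
        · rcases Finset.mem_insert.mp ht with h' | h'
          · exact absurd (h.trans h'.symm) hst
          · rw [h, Finset.mem_singleton.mp h']; exact hvw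
        · rcases Finset.mem_insert.mp ht with h' | h'
          · rw [Finset.mem_singleton.mp h, h', QuadraticMap.polar_comm]; exact hvw
          · exact absurd ((Finset.mem_singleton.mp h).trans (Finset.mem_singleton.mp h').symm) hst)
      (by rw [Finset.card_pair hne]; omega) (neg_ne_zero.mpr hc)
    have hzv : QuadraticMap.polar (⇑Q) v z = 0 := hzo v (by simp)
    have hzw : QuadraticMap.polar (⇑Q) w z = 0 := hzo w (by simp)
    set u := v + w + z with hu_def
    have hu : Q u = c := by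
      rw [hu_def, QuadraticMap.map_add (⇑Q), QuadraticMap.map_add (⇑Q), hv, hw, hz, hvw,
        QuadraticMap.polar_add_left, hzv, hzw]
      ring
    have hvu : QuadraticMap.polar (⇑Q) v u ≠ 0 := by
      rw [hu_def, QuadraticMap.polar_add_right, QuadraticMap.polar_add_right, hvw, hzv, add_zero,
        add_zero]
      exact hvv
    have huw : QuadraticMap.polar (⇑Q) u w ≠ 0 := by
      rw [QuadraticMap.polar_comm, hu_def, QuadraticMap.polar_add_right,
        QuadraticMap.polar_add_right, QuadraticMap.polar_comm (⇑Q) w v, hvw, hzw, add_zero,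
        zero_add]
      exact hww
    exact (isConj_of_polar_ne Q hc hv hu hvu).trans (isConj_of_polar_ne Q hc hu hw huw)
  · exact isConj_of_polar_ne Q hc hv hw hvw

/-- Let Q be a non-degenerate quadratic form on the n-dimensional coordinate space over the field with three elements, n ≥ 5, and c a non-zero scalar. In the subgroup of the isometry group of Q generated by the reflections in vectors v with Q(v) = c, these reflections form a single conjugacy class of 3-transpositions generating that subgroup. -/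
theorem result (n : ℕ) (hn : 5 ≤ n) (Q : QuadraticForm (ZMod 3) (Fin n → ZMod 3)) (hQ : (QuadraticMap.polarBilin Q).Nondegenerate) (c : ZMod 3) (hc : c ≠ 0) : Cfsg.IsThreeTranspositionClass {g : ↥(Cfsg.reflectionSubgroup (⇑Q) c) | (g : ↥(Cfsg.isometryGroup (ZMod 3) (⇑Q))) ∈ Cfsg.reflectionsOfNorm (⇑Q) c} := by
  classical
  have hmem : ∀ g : ↥(Cfsg.reflectionSubgroup (⇑Q) c),
      g ∈ {g : ↥(Cfsg.reflectionSubgroup (⇑Q) c) |
        (g : ↥(Cfsg.isometryGroup (ZMod 3) (⇑Q))) ∈ Cfsg.reflectionsOfNorm (⇑Q) c} ↔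
      ∃ v, Q v = c ∧ matOf Q c g = Cfsg.reflectionMatrix (⇑Q) v := fun g => Iff.rfl
  have heq : ∀ g : ↥(Cfsg.reflectionSubgroup (⇑Q) c), ∀ v (hv : Q v = c),
      matOf Q c g = Cfsg.reflectionMatrix (⇑Q) v → g = mkRefl Q hc v hv := by
    intro g v hv hm
    apply matOf_inj
    rw [hm, matOf_mkRefl]
  have hconjinv : ∀ k g : ↥(Cfsg.reflectionSubgroup (⇑Q) c),
      g ∈ {g : ↥(Cfsg.reflectionSubgroup (⇑Q) c) |
        (g : ↥(Cfsg.isometryGroup (ZMod 3) (⇑Q))) ∈ Cfsg.reflectionsOfNorm (⇑Q) c} →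
      k * g * k⁻¹ ∈ {g : ↥(Cfsg.reflectionSubgroup (⇑Q) c) |
        (g : ↥(Cfsg.isometryGroup (ZMod 3) (⇑Q))) ∈ Cfsg.reflectionsOfNorm (⇑Q) c} := by
    intro k g hg
    obtain ⟨v, hv, hm⟩ := (hmem g).mp hg
    rw [hmem]
    refine ⟨matOf Q c k *ᵥ v, ?_, ?_⟩
    · rw [matOf_iso, hv]
    · rw [matOf_mul, matOf_mul, hm]
      exact reflection_conj Q _ _ (matOf_mul_inv Q c k) (matOf_iso Q c k) v
  refine ⟨⟨?_, ?_⟩, ?_, ?_⟩
  · -- order two
    intro g hg
    obtain ⟨v, hv, hm⟩ := (hmem g).mp hg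
    have hg' := heq g v hv hm
    have hv0 : Q v ≠ 0 := hv ▸ hc
    apply orderOf_eq_prime
    · rw [pow_two, hg']; exact mkRefl_mul_self Q hc v hv
    · intro h1
      have hR1 : Cfsg.reflectionMatrix (⇑Q) v = 1 := by rw [← hm, h1, matOf_one]
      have h2 := reflectionMatrix_apply_self Q v hv0
      rw [hR1, Matrix.one_mulVec] at h2
      have hvz : v = 0 := by
        funext i
        have := congrFun h2 i
        simp only [Pi.neg_apply] at this
        have key : ∀ a : ZMod 3, a = -a → a = 0 := by decide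
        exact key _ this
      rw [hvz, map_zero] at hv
      exact hc hv.symm
  · -- products of order at most three
    intro g hg h hh
    obtain ⟨v, hv, hmv⟩ := (hmem g).mp hg
    obtain ⟨w, hw, hmw⟩ := (hmem h).mp hh
    have hg' := heq g v hv hmv
    have hh' := heq h w hw hmw
    have hgg : g * g = 1 := by rw [hg']; exact mkRefl_mul_self Q hc v hv
    have hhh : h * h = 1 := by rw [hh']; exact mkRefl_mul_self Q hc w hw
    have hv0 : Q v ≠ 0 := hv ▸ hc
    by_cases hvw : QuadraticMap.polar (⇑Q) v w = 0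
    · left
      have hcomm : g * h * g = h := by
        apply matOf_inj
        rw [matOf_mul, matOf_mul, hmv, hmw,
          reflection_conj Q _ _ (reflectionMatrix_mul_self Q v hv0)
            (reflectionMatrix_isometry Q v hv0) w,
          reflectionMatrix_apply_of_polar_eq_zero Q v w hvw]
      calc (g * h) ^ 2 = (g * h * g) * h := by simp only [pow_succ, pow_zero, one_mul, mul_assoc]
        _ = 1 := by rw [hcomm, hhh]
    · right
      have hbr : g * h * g = h * g * h := by
        apply matOf_inj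
        simp only [matOf_mul, hmv, hmw]
        exact reflection_braid Q hc hv hw hvw
      calc (g * h) ^ 3 = (g * h * g) * (h * g * h) := by
            simp only [pow_succ, pow_zero, one_mul, mul_assoc]
        _ = (h * g * h) * (h * g * h) := by rw [hbr]
        _ = h * g * (h * h) * g * h := by simp only [mul_assoc]
        _ = h * (g * g) * h := by rw [hhh]; simp only [mul_one, mul_assoc]
        _ = 1 := by rw [hgg, mul_one, hhh]
  · -- one conjugacy class
    obtain ⟨v0, hv0, -⟩ := exists_norm_orth Q hQ ∅ (by simp) (by simp) (by simp; omega) hc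
    refine ⟨mkRefl Q hc v0 hv0, (hmem _).mpr ⟨v0, hv0, rfl⟩, ?_⟩
    ext g
    show _ ↔ IsConj (mkRefl Q hc v0 hv0) g
    constructor
    · intro hg
      obtain ⟨w, hw, hm⟩ := (hmem g).mp hg
      rw [heq g w hw hm]
      exact isConj_mkRefl hn Q hQ hc hv0 hw
    · intro hconj
      obtain ⟨k, hk⟩ := isConj_iff.mp hconj
      rw [← hk]
      exact hconjinv k _ ((hmem _).mpr ⟨v0, hv0, rfl⟩)
  · exact Subgroup.closure_closure_coe_preimage

end Cfsg.Agent.S5357
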