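-- Statement S5358: over the field with 3 elements two reflections of the same nonzero norm commute iff orthogonal.
import Cfsg.Statements.S5358

set_option autoImplicit false
open Cfsg

namespace Cfsg.Agent.S5358

theorem polarVec_dot {ι : Type} [Fintype ι] [DecidableEq ι] {F : Type*} [Field F]
    (Q : QuadraticForm F (ι → F)) (u x : ι → F) :
    polarVec (⇑Q) u ⬝ᵥ x = QuadraticMap.polar (⇑Q) u x := by
  have hx : x = ∑ j, x j • (Pi.single j 1 : ι → F) := pi_eq_sum_univ' x
  conv_rhs => rw [hx]
  rw [← QuadraticMap.polarBilin_apply_apply, map_sum]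
  simp [polarVec, dotProduct, mul_comm]

theorem commute_one_sub_iff {R : Type*} [Ring R] (x y : R) : Commute (1 - x) (1 - y) ↔ Commute x y := by
  constructor
  · intro h
    show x * y = y * x
    have e1 : x * y = (1 - x) * (1 - y) - 1 + x + y := by noncomm_ring
    rw [e1, h.eq]
    noncomm_ring
  · intro h
    show (1 - x) * (1 - y) = (1 - y) * (1 - x)
    have e1 : (1 - x) * (1 - y) = 1 - x - y + x * y := by noncomm_ring
    rw [e1, h.eq]
    noncomm_ring

/-- The two reflection matrices commute iff the two rank-one parts commute. -/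
theorem commute_reflection_iff {ι : Type} [Fintype ι] [DecidableEq ι] {F : Type*} [Field F]
    (Q : QuadraticForm F (ι → F)) (u v : ι → F) (hu : Q u ≠ 0) (hv : Q v ≠ 0) :
    Commute (reflectionMatrix (⇑Q) u) (reflectionMatrix (⇑Q) v) ↔
      QuadraticMap.polar (⇑Q) u v • Matrix.vecMulVec u (polarVec (⇑Q) v) =
        QuadraticMap.polar (⇑Q) u v • Matrix.vecMulVec v (polarVec (⇑Q) u) := by
  have hAB : Matrix.vecMulVec u (polarVec (⇑Q) u) * Matrix.vecMulVec v (polarVec (⇑Q) v) =
      QuadraticMap.polar (⇑Q) u v • Matrix.vecMulVec u (polarVec (⇑Q) v) := by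
    rw [Matrix.vecMulVec_mul_vecMulVec, polarVec_dot, Matrix.vecMulVec_smul]
  have hBA : Matrix.vecMulVec v (polarVec (⇑Q) v) * Matrix.vecMulVec u (polarVec (⇑Q) u) =
      QuadraticMap.polar (⇑Q) u v • Matrix.vecMulVec v (polarVec (⇑Q) u) := by
    rw [Matrix.vecMulVec_mul_vecMulVec, polarVec_dot, Matrix.vecMulVec_smul, QuadraticMap.polar_comm]
  rw [← hAB, ← hBA]
  unfold reflectionMatrix
  rw [commute_one_sub_iff, Commute.smul_left_iff₀ (inv_ne_zero hu), Commute.smul_right_iff₀ (inv_ne_zero hv)]
  rfl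

/-- Let Q be a non-degenerate quadratic form on the n-dimensional coordinate space over the field with three elements and u, v vectors of the same non-zero norm Q(u) = Q(v) spanning different lines (v ≠ u and v ≠ −u). Then the reflection matrices of u and v commute if and only if u and v are orthogonal for the polar form of Q. -/
theorem result (n : ℕ) (Q : QuadraticForm (ZMod 3) (Fin n → ZMod 3)) (hQ : (QuadraticMap.polarBilin Q).Nondegenerate) (u v : Fin n → ZMod 3) (hu : Q u ≠ 0) (huv : Q u = Q v) (h1 : v ≠ u) (h2 : v ≠ -u) : Commute (Cfsg.reflectionMatrix (⇑Q) u) (Cfsg.reflectionMatrix (⇑Q) v) ↔ QuadraticMap.polar (⇑Q) u v = 0 := by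
  have hv : Q v ≠ 0 := huv ▸ hu
  rw [commute_reflection_iff Q u v hu hv]
  constructor
  · intro h
    by_contra hb
    have h' := smul_right_injective _ hb h
    -- apply both sides to u
    have h3 := congrArg (fun M => Matrix.mulVec M u) h'
    simp only [Matrix.vecMulVec_mulVec, polarVec_dot, QuadraticMap.polar_self, op_smul_eq_smul] at h3
    rw [QuadraticMap.polar_comm] at h3
    -- h3 : b • u = (2 • Q u) • v
    have h2Q : (2 • Q u : ZMod 3) ≠ 0 := by
      have : ∀ a : ZMod 3, a ≠ 0 → (2 • a : ZMod 3) ≠ 0 := by decide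
      exact this _ hu
    have hv_eq : v = ((2 • Q u)⁻¹ * QuadraticMap.polar (⇑Q) u v) • u := by
      rw [mul_smul, h3, smul_smul, inv_mul_cancel₀ h2Q, one_smul]
    have hs : ∀ s : ZMod 3, s = 0 ∨ s = 1 ∨ s = -1 := by decide
    rcases hs ((2 • Q u)⁻¹ * QuadraticMap.polar (⇑Q) u v) with hs0 | hs1 | hs2
    · rw [hs0, zero_smul] at hv_eq
      apply hv
      rw [hv_eq, map_zero]
    · rw [hs1, one_smul] at hv_eq
      exact h1 hv_eq
    · rw [hs2, neg_smul, one_smul] at hv_eq
      exact h2 hv_eq
  · intro h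
    rw [h, zero_smul, zero_smul]

end Cfsg.Agent.S5358
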