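import Cfsg.Statements.S5360
import Cfsg.Agent.S5357
import Cfsg.Agent.Helper89.ReflGeom
import Cfsg.Agent.Helper89.TranspCores

set_option autoImplicit false
open scoped MatrixGroups
open Cfsg

namespace Cfsg.Agent.S5360

open Matrix Cfsg.Agent.Helper14 Cfsg.Agent.Helper89
open Cfsg.Agent.S5357 (matOf matOf_mul matOf_one matOf_inj matOf_iso matOf_mul_inv mkRefl
  matOf_mkRefl mkRefl_mul_self)

section Aux

variable {n : ℕ} (Q : QuadraticForm (ZMod 3) (Fin n → ZMod 3)) {c : ZMod 3} (hc : c ≠ 0)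

/-- The class of reflections of norm `c` inside the reflection subgroup. -/
def reflClass (Q : QuadraticForm (ZMod 3) (Fin n → ZMod 3)) (c : ZMod 3) :
    Set ↥(Cfsg.reflectionSubgroup (⇑Q) c) :=
  {g | (g : ↥(Cfsg.isometryGroup (ZMod 3) (⇑Q))) ∈ Cfsg.reflectionsOfNorm (⇑Q) c}

theorem mkRefl_mem (u : Fin n → ZMod 3) (hu : Q u = c) : mkRefl Q hc u hu ∈ reflClass Q c :=
  ⟨u, hu, rfl⟩

theorem exists_eq_mkRefl {g : ↥(Cfsg.reflectionSubgroup (⇑Q) c)} (hg : g ∈ reflClass Q c) :
    ∃ v, ∃ hv : Q v = c, g = mkRefl Q hc v hv := by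
  obtain ⟨v, hv, hm⟩ := hg
  refine ⟨v, hv, ?_⟩
  apply matOf_inj
  rw [matOf_mkRefl]
  exact hm

theorem mkRefl_eq_iff {v w : Fin n → ZMod 3} (hv : Q v = c) (hw : Q w = c) :
    mkRefl Q hc v hv = mkRefl Q hc w hw ↔
      Cfsg.reflectionMatrix (⇑Q) v = Cfsg.reflectionMatrix (⇑Q) w := by
  constructor
  · intro h
    have := congrArg (matOf Q c) h
    rwa [matOf_mkRefl, matOf_mkRefl] at this
  · intro h
    apply matOf_inj
    rw [matOf_mkRefl, matOf_mkRefl]
    exact h

/-- Reflections in orthogonal vectors commute. -/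
theorem commute_mkRefl {v w : Fin n → ZMod 3} (hv : Q v = c) (hw : Q w = c)
    (hvw : QuadraticMap.polar (⇑Q) v w = 0) :
    Commute (mkRefl Q hc v hv) (mkRefl Q hc w hw) := by
  have hv0 : Q v ≠ 0 := hv ▸ hc
  have h1 : mkRefl Q hc v hv * mkRefl Q hc w hw * mkRefl Q hc v hv = mkRefl Q hc w hw := by
    apply matOf_inj
    rw [matOf_mul, matOf_mul, matOf_mkRefl, matOf_mkRefl,
      reflection_conj Q _ _ (reflectionMatrix_mul_self Q v hv0)
        (reflectionMatrix_isometry Q v hv0) w,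
      reflectionMatrix_apply_of_polar_eq_zero Q v w hvw]
  show mkRefl Q hc v hv * mkRefl Q hc w hw = mkRefl Q hc w hw * mkRefl Q hc v hv
  calc mkRefl Q hc v hv * mkRefl Q hc w hw
      = mkRefl Q hc v hv * mkRefl Q hc w hw * (mkRefl Q hc v hv * mkRefl Q hc v hv) := by
        rw [mkRefl_mul_self, mul_one]
    _ = (mkRefl Q hc v hv * mkRefl Q hc w hw * mkRefl Q hc v hv) * mkRefl Q hc v hv := by
        simp only [mul_assoc]
    _ = mkRefl Q hc w hw * mkRefl Q hc v hv := by rw [h1]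

/-- Different reflections in non-orthogonal vectors do not commute. -/
theorem not_commute_mkRefl {v w : Fin n → ZMod 3} (hv : Q v = c) (hw : Q w = c)
    (hvw : QuadraticMap.polar (⇑Q) v w ≠ 0) (hne : mkRefl Q hc v hv ≠ mkRefl Q hc w hw) :
    ¬ Commute (mkRefl Q hc v hv) (mkRefl Q hc w hw) := by
  intro hcomm
  apply hne
  have hbr : mkRefl Q hc v hv * mkRefl Q hc w hw * mkRefl Q hc v hv =
      mkRefl Q hc w hw * mkRefl Q hc v hv * mkRefl Q hc w hw := by
    apply matOf_inj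
    simp only [matOf_mul, matOf_mkRefl]
    exact reflection_braid Q hc hv hw hvw
  have h1 : mkRefl Q hc v hv * mkRefl Q hc w hw * mkRefl Q hc v hv = mkRefl Q hc w hw := by
    rw [hcomm.eq, mul_assoc, mkRefl_mul_self, mul_one]
  have h2 : mkRefl Q hc w hw * mkRefl Q hc v hv * mkRefl Q hc w hw = mkRefl Q hc v hv := by
    rw [← hcomm.eq, mul_assoc, mkRefl_mul_self, mul_one]
  rw [h1, h2] at hbr
  exact hbr.symm

/-- Conjugating a reflection inside the reflection subgroup. -/
theorem conj_mkRefl (k : ↥(Cfsg.reflectionSubgroup (⇑Q) c)) {v : Fin n → ZMod 3} (hv : Q v = c) :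
    k * mkRefl Q hc v hv * k⁻¹ =
      mkRefl Q hc (matOf Q c k *ᵥ v) (by rw [matOf_iso, hv]) := by
  apply matOf_inj
  rw [matOf_mul, matOf_mul, matOf_mkRefl, matOf_mkRefl]
  exact reflection_conj Q _ _ (matOf_mul_inv Q c k) (matOf_iso Q c k) v

theorem two_ne_zero' : (2 : ZMod 3) ≠ 0 := by decide

include hc in
theorem polar_self_ne {v : Fin n → ZMod 3} (hv : Q v = c) : QuadraticMap.polar (⇑Q) v v ≠ 0 := by
  rw [QuadraticMap.polar_self, hv]
  simpa using mul_ne_zero two_ne_zero' hc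

/-- Reflections in orthogonal vectors are different. -/
theorem mkRefl_ne_of_polar_eq_zero {v w : Fin n → ZMod 3} (hv : Q v = c) (hw : Q w = c)
    (hvw : QuadraticMap.polar (⇑Q) v w = 0) : mkRefl Q hc v hv ≠ mkRefl Q hc w hw := by
  intro h
  rw [mkRefl_eq_iff] at h
  have := polar_eq_zero_of_reflectionMatrix_eq Q h.symm (hw ▸ hc) hvw
  exact polar_self_ne Q hc hw this

end Aux

section Aux2

variable {n : ℕ} (Q : QuadraticForm (ZMod 3) (Fin n → ZMod 3)) {c : ZMod 3} (hc : c ≠ 0)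
  (hn : 5 ≤ n) (hQ : (QuadraticMap.polarBilin Q).Nondegenerate)

include hc hn hQ in
/-- There are two different reflections of norm `c`. -/
theorem exists_two : ∃ a ∈ reflClass Q c, ∃ b ∈ reflClass Q c, a ≠ b := by
  classical
  obtain ⟨v, hv, -⟩ := exists_norm_orth Q hQ ∅ (by simp) (by simp) (by simp; omega) hc
  obtain ⟨z, hz, hzo⟩ := exists_norm_orth Q hQ {v}
    (by intro s hs; rw [Finset.mem_singleton.mp hs, hv]; exact hc)
    (by
      intro s hs t ht hst
      exact absurd ((Finset.mem_singleton.mp hs).trans (Finset.mem_singleton.mp ht).symm) hst)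
    (by rw [Finset.card_singleton]; omega) hc
  exact ⟨mkRefl Q hc v hv, mkRefl_mem Q hc v hv, mkRefl Q hc z hz, mkRefl_mem Q hc z hz,
    mkRefl_ne_of_polar_eq_zero Q hc hv hz (hzo v (Finset.mem_singleton_self v))⟩

theorem reachable_of_commute {a b : reflClass Q c} (h : Commute (a : ↥(Cfsg.reflectionSubgroup (⇑Q) c)) b) :
    (Cfsg.commutingGraph (reflClass Q c)).Reachable a b := by
  by_cases hab : a = b
  · rw [hab]
  · apply SimpleGraph.Adj.reachable
    simp only [Cfsg.commutingGraph, SimpleGraph.fromRel_adj]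
    exact ⟨hab, Or.inl h⟩

include hc hn hQ in
/-- The commuting graph of the reflections of norm `c` is connected. -/
theorem connected_reflClass : (Cfsg.commutingGraph (reflClass Q c)).Connected := by
  obtain ⟨a, ha, -⟩ := exists_two Q hc hn hQ
  rw [SimpleGraph.connected_iff_exists_forall_reachable]
  refine ⟨⟨a, ha⟩, ?_⟩
  rintro ⟨b, hb⟩
  obtain ⟨v, hv, rfl⟩ := exists_eq_mkRefl Q hc ha
  obtain ⟨w, hw, rfl⟩ := exists_eq_mkRefl Q hc hb
  by_cases hvw : QuadraticMap.polar (⇑Q) v w = 0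
  · exact reachable_of_commute Q (commute_mkRefl Q hc hv hw hvw)
  · obtain ⟨u, hu, hvu, hwu⟩ := exists_norm_orth_of_polar_ne Q hn hQ hc hv hw hvw hc
    have h1 : (Cfsg.commutingGraph (reflClass Q c)).Reachable ⟨mkRefl Q hc v hv, ha⟩
        ⟨mkRefl Q hc u hu, mkRefl_mem Q hc u hu⟩ :=
      reachable_of_commute Q (commute_mkRefl Q hc hv hu hvu)
    have h2 : (Cfsg.commutingGraph (reflClass Q c)).Reachable
        ⟨mkRefl Q hc u hu, mkRefl_mem Q hc u hu⟩ ⟨mkRefl Q hc w hw, hb⟩ := by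
      apply reachable_of_commute Q
      apply commute_mkRefl Q hc hu hw
      rw [QuadraticMap.polar_comm]; exact hwu
    exact h1.trans h2

include hc hn hQ in
/-- `O_3` of the reflection subgroup is central. -/
theorem pCore_three_le_center (hD : Cfsg.IsThreeTranspositionClass (reflClass Q c)) :
    Cfsg.pCore 3 ↥(Cfsg.reflectionSubgroup (⇑Q) c) ≤
      Subgroup.center ↥(Cfsg.reflectionSubgroup (⇑Q) c) := by
  have hPn : (Cfsg.pCore 3 ↥(Cfsg.reflectionSubgroup (⇑Q) c)).Normal := by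
    have := Cfsg.Agent.Lib.pCore_characteristic (G := ↥(Cfsg.reflectionSubgroup (⇑Q) c)) 3
    infer_instance
  have hPp := Cfsg.Agent.Lib.isPGroup_pCore (G := ↥(Cfsg.reflectionSubgroup (⇑Q) c)) 3
  apply le_center_of_forall_commute hD.2.2
  intro x hx d hd
  obtain ⟨v, hv, rfl⟩ := exists_eq_mkRefl Q hc hd
  have hd' : x * mkRefl Q hc v hv * x⁻¹ ∈ reflClass Q c := by
    rw [conj_mkRefl]; exact mkRefl_mem Q hc _ _
  have key := conj_eq_of_mem_normal_three_group hD.1 hPn hPp hd hx hd' (by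
    intro hne hnc
    rw [conj_mkRefl] at hne hnc ⊢
    have hw : Q (matOf Q c x *ᵥ v) = c := by rw [matOf_iso, hv]
    have hvw : QuadraticMap.polar (⇑Q) v (matOf Q c x *ᵥ v) ≠ 0 := by
      intro h0
      exact hnc (commute_mkRefl Q hc hv hw h0)
    have hRne : Cfsg.reflectionMatrix (⇑Q) (matOf Q c x *ᵥ v) ≠ Cfsg.reflectionMatrix (⇑Q) v := by
      intro h
      exact hne ((mkRefl_eq_iff Q hc hw hv).mpr h)
    obtain ⟨u, hu, huv, huw⟩ := exists_norm_orth_left_not_right Q hQ hc hv hw hvw hRne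
    refine ⟨mkRefl Q hc u hu, mkRefl_mem Q hc u hu, ?_, ?_, ?_⟩
    · exact mkRefl_ne_of_polar_eq_zero Q hc hu hv huv
    · exact commute_mkRefl Q hc hu hv huv
    · apply not_commute_mkRefl Q hc hu hw huw
      intro h
      rw [mkRefl_eq_iff] at h
      -- `R_u = R_w` and `u ⊥ v` give `w ⊥ v`
      have huv' : QuadraticMap.polar (⇑Q) u v = 0 := huv
      have hw0 : Q (matOf Q c x *ᵥ v) ≠ 0 := by rw [hw]; exact hc
      have := polar_eq_zero_of_reflectionMatrix_eq Q h.symm hw0 huv'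
      rw [QuadraticMap.polar_comm] at this
      exact hvw this)
  show x * mkRefl Q hc v hv = mkRefl Q hc v hv * x
  calc x * mkRefl Q hc v hv = (x * mkRefl Q hc v hv * x⁻¹) * x := by group
    _ = mkRefl Q hc v hv * x := by rw [key]

include hc hn hQ in
/-- `O_2` of the reflection subgroup is central. -/
theorem pCore_two_le_center (hD : Cfsg.IsThreeTranspositionClass (reflClass Q c)) :
    Cfsg.pCore 2 ↥(Cfsg.reflectionSubgroup (⇑Q) c) ≤
      Subgroup.center ↥(Cfsg.reflectionSubgroup (⇑Q) c) := by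
  have hPn : (Cfsg.pCore 2 ↥(Cfsg.reflectionSubgroup (⇑Q) c)).Normal := by
    have := Cfsg.Agent.Lib.pCore_characteristic (G := ↥(Cfsg.reflectionSubgroup (⇑Q) c)) 2
    infer_instance
  have hPp := Cfsg.Agent.Lib.isPGroup_pCore (G := ↥(Cfsg.reflectionSubgroup (⇑Q) c)) 2
  apply le_center_of_forall_commute hD.2.2
  intro x hx d hd
  obtain ⟨v, hv, rfl⟩ := exists_eq_mkRefl Q hc hd
  have hd' : x * mkRefl Q hc v hv * x⁻¹ ∈ reflClass Q c := by
    rw [conj_mkRefl]; exact mkRefl_mem Q hc _ _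
  have key := conj_eq_of_mem_normal_two_group hD.1 hPn hPp hd hx hd' (by
    intro hne hcomm
    rw [conj_mkRefl] at hne hcomm ⊢
    have hw : Q (matOf Q c x *ᵥ v) = c := by rw [matOf_iso, hv]
    have hvw : QuadraticMap.polar (⇑Q) v (matOf Q c x *ᵥ v) = 0 := by
      by_contra h0
      exact not_commute_mkRefl Q hc hv hw h0 (Ne.symm hne) hcomm
    obtain ⟨u, hu, huw, huv, hRne⟩ := exists_norm_orth_right_not_left Q hn hQ hc hv hw hvw
    refine ⟨mkRefl Q hc u hu, mkRefl_mem Q hc u hu, ?_, ?_⟩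
    · exact commute_mkRefl Q hc hu hw huw
    · apply not_commute_mkRefl Q hc hu hv huv
      intro h
      exact hRne ((mkRefl_eq_iff Q hc hu hv).mp h))
  show x * mkRefl Q hc v hv = mkRefl Q hc v hv * x
  calc x * mkRefl Q hc v hv = (x * mkRefl Q hc v hv * x⁻¹) * x := by group
    _ = mkRefl Q hc v hv * x := by rw [key]

end Aux2

/-- Let Q be a non-degenerate quadratic form on the n-dimensional coordinate space over the field with three elements, n ≥ 5, c a non-zero scalar, and R the subgroup of the isometry group generated by the reflections of norm c. Then the commutator subgroup of R is quasisimple of index at most 2, the generalized Fitting subgroup of R is the product of the centre and the commutator subgroup, and R acts primitively by conjugation on its reflections of norm c. -/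
theorem result (n : ℕ) (hn : 5 ≤ n) (Q : QuadraticForm (ZMod 3) (Fin n → ZMod 3)) (hQ : (QuadraticMap.polarBilin Q).Nondegenerate) (c : ZMod 3) (hc : c ≠ 0) : Cfsg.IsQuasisimple (commutator ↥(Cfsg.reflectionSubgroup (⇑Q) c)) ∧ (commutator ↥(Cfsg.reflectionSubgroup (⇑Q) c)).index ≤ 2 ∧ Cfsg.generalizedFittingSubgroup ↥(Cfsg.reflectionSubgroup (⇑Q) c) = Subgroup.center ↥(Cfsg.reflectionSubgroup (⇑Q) c) ⊔ commutator ↥(Cfsg.reflectionSubgroup (⇑Q) c) ∧ Cfsg.IsPrimitiveUnderConj {g : ↥(Cfsg.reflectionSubgroup (⇑Q) c) | (g : ↥(Cfsg.isometryGroup (ZMod 3) (⇑Q))) ∈ Cfsg.reflectionsOfNorm (⇑Q) c} := by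
  have hD : Cfsg.IsThreeTranspositionClass (reflClass Q c) := Cfsg.Agent.S5357.result n hn Q hQ c hc
  have hD2 := exists_two Q hc hn hQ
  have hconn := connected_reflClass Q hc hn hQ
  have h2 := pCore_two_le_center Q hc hn hQ hD
  have h3 := pCore_three_le_center Q hc hn hQ hD
  haveI : Finite ↥(Cfsg.reflectionSubgroup (⇑Q) c) := inferInstance
  obtain ⟨L, hLn, hLq, hF⟩ := exists_quasisimple_fstar hD hD2 h2 h3 hconn
  haveI := hLn
  obtain ⟨hEq, hidx⟩ := commutator_eq_of_quasisimple_normal hD hconn hLn hLq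
  obtain ⟨hA, -⟩ := Cfsg.Agent.S5353.result hD hD2 h2 h3 L hLq hF
  refine ⟨?_, ?_, ?_, hA hidx⟩
  · rw [hEq]; exact hLq
  · rw [hEq]; exact hidx
  · rw [hEq, hF, sup_comm]

end Cfsg.Agent.S5360
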