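import Cfsg.Statements.S5361
import Cfsg.Agent.Helper89.TranspPrimitive

set_option autoImplicit false
open Cfsg

namespace Cfsg.Agent.S5361

open Cfsg.Agent.Helper89 Cfsg.Agent.Helper21
open Cfsg.Agent.S5353 (class_conj class_trans notMem_center)
open scoped commutatorElement

section Aux

variable {G : Type*} [Group G] [Finite G] {D : Set G}

/-- Under the hypotheses of (3), there is a simple normal subgroup `L` of index at most two which
is the commutator subgroup. -/
theorem commutator_simple (hD : Cfsg.IsThreeTranspositionClass D) (hZ : Subgroup.center G = ⊥)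
    (hD2 : ∃ a ∈ D, ∃ b ∈ D, a ≠ b) (h2 : Cfsg.pCore 2 G = ⊥) (h3 : Cfsg.pCore 3 G = ⊥)
    (hconn : (Cfsg.commutingGraph D).Connected) : IsSimpleGroup (commutator G) := by
  have h2' : Cfsg.pCore 2 G ≤ Subgroup.center G := by rw [h2]; exact bot_le
  have h3' : Cfsg.pCore 3 G ≤ Subgroup.center G := by rw [h3]; exact bot_le
  obtain ⟨L, hLn, hLq, hF⟩ := exists_quasisimple_fstar hD hD2 h2' h3' hconn
  have hcomp : Cfsg.IsComponent L := ⟨Subgroup.Normal.isSubnormal hLn, hLq⟩
  -- all of `D` lies in one coset of `L`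
  have hall := forall_inv_mul_mem_of_connected
    (fun a ha b hb hab => inv_mul_mem_of_commute (hN := hLn) hD hcomp le_rfl ha hb hab) hconn
  obtain ⟨d0, hd0, -⟩ := hD.2.1
  have hcover := cover_of_forall_inv_mul_mem (hN := hLn) hD hall hd0
  have hcomm : commutator G ≤ L := commutator_le_of_cover (hN := hLn) hcover
  have hperf : ⁅L, L⁆ = L := Subgroup.isPerfect_iff.1 hLq.1
  have hLc : L ≤ commutator G := by
    calc L = ⁅L, L⁆ := hperf.symm
      _ ≤ ⁅(⊤ : Subgroup G), ⊤⁆ := Subgroup.commutator_mono le_top le_top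
      _ = commutator G := (commutator_def G).symm
  have hEq : commutator G = L := le_antisymm hcomm hLc
  rw [hEq]
  -- the centre of `L` is trivial
  have hall' := pCore_le_center_all hD h2' h3'
  have hFit : Cfsg.fittingSubgroup G = ⊥ := by rw [fittingSubgroup_eq_center hall', hZ]
  have hZL : Subgroup.center L = ⊥ := by
    have hAn : ((Subgroup.center L).map L.subtype).Normal := by
      constructor
      rintro _ ⟨⟨z, hzL⟩, hz, rfl⟩ g
      refine ⟨⟨g * z * g⁻¹, hLn.conj_mem z hzL g⟩, ?_, rfl⟩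
      rw [SetLike.mem_coe, Subgroup.mem_center_iff]
      rintro ⟨l, hl⟩
      apply Subtype.ext
      show l * (g * z * g⁻¹) = g * z * g⁻¹ * l
      have h1 := Subgroup.mem_center_iff.mp hz ⟨g⁻¹ * l * g⁻¹⁻¹, hLn.conj_mem l hl g⁻¹⟩
      have h1' : g⁻¹ * l * g⁻¹⁻¹ * z = z * (g⁻¹ * l * g⁻¹⁻¹) := congrArg Subtype.val h1
      calc l * (g * z * g⁻¹) = g * (g⁻¹ * l * g⁻¹⁻¹ * z) * g⁻¹ := by group
        _ = g * (z * (g⁻¹ * l * g⁻¹⁻¹)) * g⁻¹ := by rw [h1']
        _ = g * z * g⁻¹ * l := by group
    have hAnil : Group.IsNilpotent ((Subgroup.center L).map L.subtype) := by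
      haveI := isNilpotent_center L
      exact Group.nilpotent_of_mulEquiv
        ((Subgroup.center L).equivMapOfInjective L.subtype L.subtype_injective)
    have hle := Cfsg.Agent.Lib.le_fittingSubgroup hAn hAnil
    rw [hFit, le_bot_iff] at hle
    exact (Subgroup.map_eq_bot_iff_of_injective _ L.subtype_injective).mp hle
  haveI : Nontrivial L := IsQuasisimple.nontrivial hLq
  refine ⟨fun H hH => ?_⟩
  rcases IsQuasisimple.normal_eq_top_or_le_center hLq H with h | h
  · exact Or.inr h
  · left
    rw [hZL, le_bot_iff] at h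
    exact h

end Aux

/-- Let D be a conjugacy class of 3-transpositions generating the finite group G, and suppose the centre of G is trivial and some two different members of D commute. Then the following are equivalent: (1) the commutator subgroup of G is simple (possibly of prime order); (2) G acts primitively on D by conjugation; (3) the largest normal 2-subgroup and the largest normal 3-subgroup of G are trivial and the commuting graph of D is connected. -/
theorem result {G : Type*} [Group G] [Finite G] {D : Set G} (hD : Cfsg.IsThreeTranspositionClass D) (hZ : Subgroup.center G = ⊥) (hw : ∃ a ∈ D, ∃ b ∈ D, a ≠ b ∧ Commute a b) : (IsSimpleGroup (commutator G) ↔ Cfsg.IsPrimitiveUnderConj D) ∧ (Cfsg.IsPrimitiveUnderConj D ↔ (Cfsg.pCore 2 G = ⊥ ∧ Cfsg.pCore 3 G = ⊥ ∧ (Cfsg.commutingGraph D).Connected)) := by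
  classical
  have hD2 : ∃ a ∈ D, ∃ b ∈ D, a ≠ b := by
    obtain ⟨a, ha, b, hb, hab, -⟩ := hw
    exact ⟨a, ha, b, hb, hab⟩
  have hconj := class_conj hD
  have htrans := class_trans hD
  have hT := hD.1
  -- (2) ⇒ (3)
  have h23 : Cfsg.IsPrimitiveUnderConj D →
      (Cfsg.pCore 2 G = ⊥ ∧ Cfsg.pCore 3 G = ⊥ ∧ (Cfsg.commutingGraph D).Connected) := by
    intro hprim
    refine ⟨?_, ?_, connected_of_isPrimitiveUnderConj hconj hprim hw⟩
    · have := pCore_le_center_of_isPrimitiveUnderConj hD hprim hw (Or.inl rfl)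
      rwa [hZ, le_bot_iff] at this
    · have := pCore_le_center_of_isPrimitiveUnderConj hD hprim hw (Or.inr rfl)
      rwa [hZ, le_bot_iff] at this
  -- (3) ⇒ (2)
  have h32 : (Cfsg.pCore 2 G = ⊥ ∧ Cfsg.pCore 3 G = ⊥ ∧ (Cfsg.commutingGraph D).Connected) →
      Cfsg.IsPrimitiveUnderConj D := by
    rintro ⟨h2, h3, hconn⟩
    have h2' : Cfsg.pCore 2 G ≤ Subgroup.center G := by rw [h2]; exact bot_le
    have h3' : Cfsg.pCore 3 G ≤ Subgroup.center G := by rw [h3]; exact bot_le
    obtain ⟨L, hLn, hLq, hF⟩ := exists_quasisimple_fstar hD hD2 h2' h3' hconn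
    haveI := hLn
    obtain ⟨hA, hB⟩ := Cfsg.Agent.S5353.result hD hD2 h2' h3' L hLq hF
    exact hA (hB hconn)
  refine ⟨⟨?_, ?_⟩, ⟨h23, h32⟩⟩
  · -- (1) ⇒ (2)
    intro hsimple
    have hall : ∀ a ∈ D, ∀ b ∈ D, a⁻¹ * b ∈ commutator G := by
      intro a ha b hb
      obtain ⟨g, rfl⟩ := htrans a ha b hb
      have h1 : ⁅a⁻¹, g⁆ ∈ ⁅(⊤ : Subgroup G), ⊤⁆ :=
        Subgroup.commutator_mem_commutator (Subgroup.mem_top _) (Subgroup.mem_top _)
      rw [← commutator_def] at h1
      have e : ⁅a⁻¹, g⁆ = a⁻¹ * (g * a * g⁻¹) := by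
        rw [commutatorElement_def, inv_inv]; group
      rwa [e] at h1
    obtain ⟨d0, hd0, -⟩ := hD.2.1
    have hcover := cover_of_forall_inv_mul_mem hD hall hd0
    have hidx : (commutator G).index ≤ 2 := index_le_two_of_cover (sq_of_mem hT hd0) hcover
    apply isPrimitiveUnderConj_of_forall_normal hD hD2
    intro K hKn hKtop hK
    obtain ⟨a, ha, b, hb, hab, habK⟩ := hK
    haveI := hKn
    have hnorm : (K.subgroupOf (commutator G)).Normal := inferInstance
    rcases hsimple.eq_bot_or_eq_top_of_normal (K.subgroupOf (commutator G)) hnorm with h | h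
    · -- `K ∩ G' = 1`: impossible since `a b ∈ K ∩ G'`
      exfalso
      rw [Subgroup.subgroupOf_eq_bot, Subgroup.disjoint_def] at h
      have habL : a * b ∈ commutator G := by
        have := hall a ha b hb
        rwa [inv_eq_of_mul_eq_one_left (sq_of_mem hT ha)] at this
      have h1 := h habK habL
      apply hab
      have : a = b⁻¹ := eq_inv_of_mul_eq_one_left h1
      rw [this, inv_eq_of_mul_eq_one_left (sq_of_mem hT hb)]
    · rw [Subgroup.subgroupOf_eq_top] at h
      have hdvd : K.index ∣ (commutator G).index := Subgroup.index_dvd_of_le h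
      have hL0 : (commutator G).index ≠ 0 := Subgroup.index_ne_zero_of_finite
      have hK1 : K.index ≠ 1 := fun h => hKtop (Subgroup.index_eq_one.mp h)
      have hle : K.index ≤ (commutator G).index := Nat.le_of_dvd (Nat.pos_of_ne_zero hL0) hdvd
      have hK0 : K.index ≠ 0 := Subgroup.index_ne_zero_of_finite
      omega
  · -- (2) ⇒ (1)
    intro hprim
    obtain ⟨h2, h3, hconn⟩ := h23 hprim
    exact commutator_simple hD hZ hD2 h2 h3 hconn

end Cfsg.Agent.S5361
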