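-- Statement S5363: odd transpositions iff C_D(ab) = C_D(a) ∩ C_D(b) for commuting a ≠ b in D.
import Cfsg.Statements.S5363
import Cfsg.Agent.Helper89.ThreeTransp

set_option autoImplicit false
open Cfsg

namespace Cfsg.Agent.S5363

open Cfsg.Agent.Helper89

/-- Let D be a conjugation-invariant set of involutions of a finite group G. Then every product of two members of D has odd order or order 2 if and only if, for every a in D and every b in D different from a and commuting with a, the members of D commuting with a b are exactly those commuting with both a and b. -/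
theorem result {G : Type*} [Group G] [Finite G] {D : Set G} (hinv : ∀ d ∈ D, orderOf d = 2) (hconj : ∀ g : G, ∀ d ∈ D, g * d * g⁻¹ ∈ D) : (∀ a ∈ D, ∀ b ∈ D, Odd (orderOf (a * b)) ∨ orderOf (a * b) = 2) ↔ ∀ a ∈ D, ∀ b ∈ D, b ≠ a → Commute a b → {y : G | y ∈ D ∧ Commute (a * b) y} = {y : G | y ∈ D ∧ Commute a y} ∩ {y : G | y ∈ D ∧ Commute b y} := by
  constructor
  · intro H a ha b hb hba hab
    have haa := mul_self_of_orderOf_two (hinv a ha)
    have hbb := mul_self_of_orderOf_two (hinv b hb)
    ext y
    simp only [Set.mem_ofPred_eq, Set.mem_inter_iff]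
    constructor
    · rintro ⟨hy, hzy⟩
      have hyy := mul_self_of_orderOf_two (hinv y hy)
      have hay : Commute a y := by
        rcases H a ha y hy with hodd | h2
        · have hza : Commute (a * b) a := (Commute.refl a).mul_left hab.symm
          have hz_ay : Commute (a * b) (a * y) := hza.mul_right hzy
          have hz2 : orderOf (a * b) = 2 := by
            apply orderOf_eq_prime
            · rw [hab.mul_pow, pow_two, pow_two, haa, hbb, one_mul]
            · intro h1
              apply hba
              have : b = a⁻¹ := (eq_inv_of_mul_eq_one_right h1)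
              rw [this, inv_eq_self_of_orderOf_two (hinv a ha)]
          have hcop : Nat.Coprime (orderOf (a * b)) (orderOf (a * y)) := by
            rw [hz2]; exact (Nat.coprime_two_left).2 hodd
          have hord := hz_ay.orderOf_mul_eq_mul_orderOf_of_coprime hcop
          have hprod : (a * b) * (a * y) = b * y := by
            rw [hab.eq]
            calc b * a * (a * y) = b * (a * a) * y := by group
              _ = b * y := by rw [haa, mul_one]
          rw [hprod, hz2] at hord
          have h1 : orderOf (a * y) = 1 := by
            rcases H b hb y hy with hodd' | h2'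
            · rw [hord] at hodd'
              exact absurd hodd' (by simp)
            · rw [hord] at h2'
              omega
          rw [orderOf_eq_one_iff] at h1
          have : y = a⁻¹ := (eq_inv_of_mul_eq_one_right h1)
          rw [this]
          exact (Commute.refl a).inv_right
        · apply commute_of_mul_sq_eq_one haa hyy
          rw [← h2, pow_orderOf_eq_one]
      refine ⟨⟨hy, hay⟩, hy, ?_⟩
      have : b = a * (a * b) := by rw [← mul_assoc, haa, one_mul]
      rw [this]
      exact hay.mul_left hzy
    · rintro ⟨⟨hy, hay⟩, -, hby⟩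
      exact ⟨hy, hay.mul_left hby⟩
  · intro C a ha b hb
    have haa := mul_self_of_orderOf_two (hinv a ha)
    have hbb := mul_self_of_orderOf_two (hinv b hb)
    have hainv := inv_eq_self_of_orderOf_two (hinv a ha)
    have hbinv := inv_eq_self_of_orderOf_two (hinv b hb)
    by_contra hcon
    rw [not_or] at hcon
    obtain ⟨hnodd, hn2⟩ := hcon
    rw [Nat.not_odd_iff_even] at hnodd
    obtain ⟨m, hm⟩ := hnodd
    have hNpos : 0 < orderOf (a * b) := orderOf_pos (a * b)
    have hm2 : 2 ≤ m := by omega
    -- conjugation by a and by b inverts r = a * b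
    have hrinv : (a * b)⁻¹ = b * a := by rw [mul_inv_rev, hainv, hbinv]
    have hconj_a : ∀ j : ℕ, a * (a * b) ^ j * a⁻¹ = ((a * b)⁻¹) ^ j := by
      intro j
      rw [← conj_pow, hrinv, hainv]
      congr 1
      calc a * (a * b) * a = (a * a) * b * a := by group
        _ = b * a := by rw [haa, one_mul]
    have hconj_b : ∀ j : ℕ, b * (a * b) ^ j * b⁻¹ = ((a * b)⁻¹) ^ j := by
      intro j
      rw [← conj_pow, hrinv, hbinv]
      congr 1
      calc b * (a * b) * b = b * a * (b * b) := by group
        _ = b * a := by rw [hbb, mul_one]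
    -- z = r ^ m is an involution
    have hzz : (a * b) ^ m * (a * b) ^ m = 1 := by
      rw [← pow_add, ← hm, pow_orderOf_eq_one]
    have hzinv : ((a * b) ^ m)⁻¹ = (a * b) ^ m := inv_eq_of_mul_eq_one_left hzz
    have hz1 : (a * b) ^ m ≠ 1 := by
      intro h
      have := orderOf_dvd_of_pow_eq_one h
      have := Nat.le_of_dvd (by omega) this
      omega
    -- a and b commute with z
    have haz : Commute a ((a * b) ^ m) := by
      show a * (a * b) ^ m = (a * b) ^ m * a
      have := hconj_a m
      rw [inv_pow, hzinv] at this
      calc a * (a * b) ^ m = (a * (a * b) ^ m * a⁻¹) * a := by group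
        _ = (a * b) ^ m * a := by rw [this]
    have hbz : Commute b ((a * b) ^ m) := by
      show b * (a * b) ^ m = (a * b) ^ m * b
      have := hconj_b m
      rw [inv_pow, hzinv] at this
      calc b * (a * b) ^ m = (b * (a * b) ^ m * b⁻¹) * b := by group
        _ = (a * b) ^ m * b := by rw [this]
    -- a' = a * z ∈ D
    have ha'D : a * (a * b) ^ m ∈ D := by
      rcases Nat.even_or_odd' m with ⟨k, hk | hk⟩
      · -- m = 2k : a z = r^{-k} a r^{k}
        have : ((a * b) ^ k)⁻¹ * a * (((a * b) ^ k)⁻¹)⁻¹ = a * (a * b) ^ m := by
          rw [inv_inv]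
          have h1 := hconj_a k
          rw [inv_pow] at h1
          calc ((a * b) ^ k)⁻¹ * a * (a * b) ^ k = a * (a * ((a * b) ^ k)⁻¹ * a) * (a * b) ^ k := by
                rw [show a * (a * ((a * b) ^ k)⁻¹ * a) = (a * a) * ((a * b) ^ k)⁻¹ * a by group, haa, one_mul]
            _ = a * ((a * b) ^ k * (a * b) ^ k) := by
                have h2 : a * ((a * b) ^ k)⁻¹ * a = (a * b) ^ k := by
                  have h3 : a * ((a * b) ^ k)⁻¹ * a = (a * (a * b) ^ k * a⁻¹)⁻¹ := by
                    rw [mul_inv_rev, mul_inv_rev, inv_inv, hainv, mul_assoc]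
                  rw [h3, h1, inv_inv]
                rw [h2, mul_assoc]
            _ = a * (a * b) ^ m := by rw [← pow_add, hk, two_mul]
        rw [← this]
        exact hconj _ a ha
      · -- m = 2k+1 : a z = r^{-k} b r^{k}
        have : ((a * b) ^ k)⁻¹ * b * (((a * b) ^ k)⁻¹)⁻¹ = a * (a * b) ^ m := by
          rw [inv_inv]
          have h1 := hconj_b k
          rw [inv_pow] at h1
          have hb_ar : b = a * (a * b) := by rw [← mul_assoc, haa, one_mul]
          calc ((a * b) ^ k)⁻¹ * b * (a * b) ^ k = b * (b * ((a * b) ^ k)⁻¹ * b) * (a * b) ^ k := by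
                rw [show b * (b * ((a * b) ^ k)⁻¹ * b) = (b * b) * ((a * b) ^ k)⁻¹ * b by group, hbb, one_mul]
            _ = b * ((a * b) ^ k * (a * b) ^ k) := by
                have h2 : b * ((a * b) ^ k)⁻¹ * b = (a * b) ^ k := by
                  have h3 : b * ((a * b) ^ k)⁻¹ * b = (b * (a * b) ^ k * b⁻¹)⁻¹ := by
                    rw [mul_inv_rev, mul_inv_rev, inv_inv, hbinv, mul_assoc]
                  rw [h3, h1, inv_inv]
                rw [h2, mul_assoc]
            _ = a * ((a * b) * ((a * b) ^ k * (a * b) ^ k)) := by
                rw [← mul_assoc a (a * b), ← hb_ar]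
            _ = a * (a * b) ^ m := by
                rw [← pow_add, ← pow_succ', hk]
                congr 2
                omega
        rw [← this]
        exact hconj _ b hb
    have ha'ne : a * (a * b) ^ m ≠ a := by
      intro h
      apply hz1
      exact mul_left_cancel (a := a) (by rw [h, mul_one])
    have hcomm' : Commute a (a * (a * b) ^ m) := (Commute.refl a).mul_right haz
    have hC := C a ha _ ha'D ha'ne hcomm'
    have hprod : a * (a * (a * b) ^ m) = (a * b) ^ m := by rw [← mul_assoc, haa, one_mul]
    rw [hprod] at hC
    have hbmem : b ∈ {y : G | y ∈ D ∧ Commute ((a * b) ^ m) y} := ⟨hb, hbz.symm⟩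
    rw [hC] at hbmem
    have hab : Commute a b := hbmem.1.2
    have hsq := mul_sq_eq_one_of_commute haa hbb hab
    have hdvd := orderOf_dvd_of_pow_eq_one hsq
    have := Nat.le_of_dvd (by norm_num) hdvd
    omega

end Cfsg.Agent.S5363
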