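-- Statement S5364: lifting the 3-transposition conditions through a central involution t with d t ∉ D.
import Cfsg.Statements.S5364

set_option autoImplicit false
open Cfsg

namespace Cfsg.Agent.S5364

theorem mem_zpowers_of_order_two {G : Type*} [Group G] {t x : G} (ht : orderOf t = 2)
    (hx : x ∈ Subgroup.zpowers t) : x = 1 ∨ x = t := by
  obtain ⟨k, rfl⟩ := hx
  have h := zpow_mod_orderOf t k
  rw [ht] at h
  show t ^ k = 1 ∨ t ^ k = t
  rw [← h]
  have : k % (2 : ℕ) = 0 ∨ k % (2 : ℕ) = 1 := by omega
  rcases this with h0 | h1
  · left; rw [h0, zpow_zero]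
  · right; rw [h1, zpow_one]

/-- Let D be a conjugation-invariant set of involutions of a finite group G and t an involution in the centre of G such that d t does not lie in D for any d in D. If the images of the members of D in G modulo the subgroup generated by t satisfy the 3-transposition order conditions (each has order 2 and any two have product of order at most 3), then so do the members of D. -/
theorem result {G : Type*} [Group G] [Finite G] {D : Set G} (hinv : ∀ d ∈ D, orderOf d = 2) (hconj : ∀ g : G, ∀ d ∈ D, g * d * g⁻¹ ∈ D) (t : G) (ht : orderOf t = 2) (htZ : t ∈ Subgroup.center G) (hDt : ∀ d ∈ D, d * t ∉ D) [(Subgroup.zpowers t).Normal] (himg : Cfsg.IsThreeTranspositionSet ((QuotientGroup.mk : G → G ⧸ Subgroup.zpowers t) '' D)) : Cfsg.IsThreeTranspositionSet D := by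
  refine ⟨hinv, ?_⟩
  intro d hd e he
  have hdd : d * d = 1 := by
    rw [← pow_two, ← hinv d hd, pow_orderOf_eq_one]
  have hee : e * e = 1 := by
    rw [← pow_two, ← hinv e he, pow_orderOf_eq_one]
  have hdinv : d⁻¹ = d := inv_eq_of_mul_eq_one_left hdd
  have heinv : e⁻¹ = e := inv_eq_of_mul_eq_one_left hee
  have hdd' : ∀ x : G, d * (d * x) = x := fun x => by rw [← mul_assoc, hdd, one_mul]
  have hee' : ∀ x : G, e * (e * x) = x := fun x => by rw [← mul_assoc, hee, one_mul]
  have h := himg.2 _ ⟨d, hd, rfl⟩ _ ⟨e, he, rfl⟩
  rcases h with h2 | h3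
  · left
    have h2' : ((QuotientGroup.mk ((d * e) ^ 2) : G ⧸ Subgroup.zpowers t)) = 1 := by
      simpa using h2
    rw [QuotientGroup.eq_one_iff] at h2'
    rcases mem_zpowers_of_order_two ht h2' with h1 | h1
    · exact h1
    · exfalso
      apply hDt d hd
      have : e * d * e⁻¹ = d * t := by
        rw [← h1, heinv, pow_two]
        simp only [mul_assoc, hdd']
      rw [← this]
      exact hconj e d hd
  · right
    have h3' : ((QuotientGroup.mk ((d * e) ^ 3) : G ⧸ Subgroup.zpowers t)) = 1 := by
      simpa using h3
    rw [QuotientGroup.eq_one_iff] at h3'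
    rcases mem_zpowers_of_order_two ht h3' with h1 | h1
    · exact h1
    · exfalso
      apply hDt d hd
      have : (e * d) * e * (e * d)⁻¹ = d * t := by
        rw [← h1, mul_inv_rev, heinv, hdinv, pow_succ, pow_two]
        simp only [mul_assoc, hdd']
      rw [← this]
      exact hconj (e * d) e he

end Cfsg.Agent.S5364
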