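import Cfsg.Statements.S5366
import Cfsg.Agent.Helper89.FischerSpace

set_option autoImplicit false
open Cfsg

namespace Cfsg.Agent.S5366

open Cfsg.LineSystem Cfsg.Agent.Helper89

/-- Let L be a nondegenerate Fischer space on the point type X (every point on a line). Then for every point x the map t(x) — sending a point collinear with x to the third point of their common line and fixing every other point — is a permutation of X of order 2 and an automorphism of the line system; and the set of all t(x) satisfies the 3-transposition order conditions in the permutation group of X (any two have product of order at most 3). -/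
theorem result {X : Type*} (L : Set (Set X)) (hL : Cfsg.IsFischerSpace L) (hnd : Cfsg.LineSystem.IsNondegenerate L) : (∀ x : X, ∃ σ : Equiv.Perm X, ⇑σ = Cfsg.LineSystem.lineMap L x ∧ orderOf σ = 2 ∧ Cfsg.LineSystem.IsIso L L σ) ∧ Cfsg.IsThreeTranspositionSet {σ : Equiv.Perm X | ∃ x : X, ⇑σ = Cfsg.LineSystem.lineMap L x} := by
  have hpl := hL.1
  have h3 := hL.2.1
  have hsq : ∀ (σ : Equiv.Perm X) (x : X), ⇑σ = lineMap L x → σ * σ = 1 := by
    intro σ x hσ
    ext p
    simp only [Equiv.Perm.coe_mul, Function.comp_apply, Equiv.Perm.coe_one, id_eq]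
    rw [hσ]; exact lineMap_involutive hpl x p
  have hne1 : ∀ (σ : Equiv.Perm X) (x : X), ⇑σ = lineMap L x → σ ≠ 1 := by
    intro σ x hσ h1
    obtain ⟨l, hl, hxl⟩ := hnd x
    obtain ⟨y, hyl, hyx⟩ := Set.exists_ne_of_one_lt_ncard (by rw [h3 l hl]; omega) x
    obtain ⟨z, hz, -⟩ := exists_isThird_of_mem_line h3 hl hxl hyl hyx.symm
    have hzy : σ y = z := by rw [hσ]; exact lineMap_eq_of_isThird hpl hz
    rw [h1] at hzy
    exact hz.2.1 hzy.symm
  have hord : ∀ (σ : Equiv.Perm X) (x : X), ⇑σ = lineMap L x → orderOf σ = 2 := by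
    intro σ x hσ
    exact orderOf_eq_prime (by rw [pow_two]; exact hsq σ x hσ) (hne1 σ x hσ)
  have hiso : ∀ (σ : Equiv.Perm X) (x : X), ⇑σ = lineMap L x → IsIso L L σ := by
    intro σ x hσ l
    constructor
    · intro hl; rw [hσ]; exact lineMap_image_mem hL x hl
    · intro hl
      have him := lineMap_image_mem hL x hl
      rw [← hσ, Set.image_image] at him
      have h2 : (fun p => σ (σ p)) = id := by
        funext p; rw [hσ]; exact lineMap_involutive hpl x p
      rw [h2, Set.image_id] at him; exact him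
  refine ⟨fun x => ?_, ?_, ?_⟩
  · exact ⟨Function.Involutive.toPerm (lineMap L x) (lineMap_involutive hpl x), rfl,
      hord _ x rfl, hiso _ x rfl⟩
  · rintro σ ⟨x, hσ⟩; exact hord σ x hσ
  · rintro σ ⟨x, hσ⟩ τ ⟨y, hτ⟩
    have hconj : ∀ (ρ : Equiv.Perm X) (a : X), ⇑ρ = lineMap L a → ∀ (π : Equiv.Perm X) (b : X),
        ⇑π = lineMap L b → ⇑(ρ * π * ρ⁻¹) = lineMap L (ρ b) := by
      intro ρ a hρ π b hπ
      funext p
      simp only [Equiv.Perm.coe_mul, Function.comp_apply]
      rw [hπ]
      have hmap := lineMap_map hpl (hiso ρ a hρ) b (ρ⁻¹ p)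
      rw [← hmap]; simp
    have hσinv : σ⁻¹ = σ := inv_eq_of_mul_eq_one_left (hsq σ x hσ)
    have hτinv : τ⁻¹ = τ := inv_eq_of_mul_eq_one_left (hsq τ y hτ)
    by_cases hex : ∃ z, IsThird L x y z
    · right
      obtain ⟨z, hz⟩ := hex
      have h1 : ⇑(σ * τ * σ⁻¹) = lineMap L z := by
        rw [hconj σ x hσ τ y hτ, hσ, lineMap_eq_of_isThird hpl hz]
      have h2 : ⇑(τ * σ * τ⁻¹) = lineMap L z := by
        rw [hconj τ y hτ σ x hσ, hτ, lineMap_eq_of_isThird hpl hz.swap12]
      have heq : σ * τ * σ⁻¹ = τ * σ * τ⁻¹ := DFunLike.coe_injective (h1.trans h2.symm)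
      rw [hσinv, hτinv] at heq
      calc (σ * τ) ^ 3 = (σ * τ * σ) * τ * σ * τ := by simp only [pow_succ, pow_zero, one_mul, mul_assoc]
        _ = (τ * σ * τ) * τ * σ * τ := by rw [heq]
        _ = τ * σ * (τ * τ) * σ * τ := by simp only [mul_assoc]
        _ = τ * (σ * σ) * τ := by rw [hsq τ y hτ]; simp only [mul_one, mul_assoc]
        _ = 1 := by rw [hsq σ x hσ, mul_one, hsq τ y hτ]
    · left
      push Not at hex
      have h1 : ⇑(σ * τ * σ⁻¹) = lineMap L y := by
        rw [hconj σ x hσ τ y hτ, hσ, lineMap_eq_self_of_forall_not hex]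
      have heq : σ * τ * σ⁻¹ = τ := DFunLike.coe_injective (h1.trans hτ.symm)
      rw [hσinv] at heq
      calc (σ * τ) ^ 2 = (σ * τ * σ) * τ := by simp only [pow_succ, pow_zero, one_mul, mul_assoc]
        _ = τ * τ := by rw [heq]
        _ = 1 := hsq τ y hτ

end Cfsg.Agent.S5366
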