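import Cfsg.Statements.S5367
import Cfsg.Agent.Helper89.S4Plane
import Cfsg.Agent.Helper89.AGPlane

set_option autoImplicit false
open Cfsg

namespace Cfsg.Agent.S5367

open Cfsg.LineSystem Cfsg.Agent.Helper89

/-- Let D be a conjugation-invariant generating set of 3-transpositions of a finite group G. Then the line system on D whose lines are the triples {x, y, y x y⁻¹} for non-commuting members x, y of D is a Fischer space: two points lie on at most one line, lines have three points, and two different meeting lines generate a subspace isomorphic to the dual affine plane of order two or to the affine plane of order three. -/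
theorem result {G : Type*} [Group G] [Finite G] {D : Set G} (hD : Cfsg.IsThreeTranspositionGroup D) : Cfsg.IsFischerSpace (Cfsg.threeTranspositionLines D) := by
  obtain ⟨hT, hconj, -⟩ := hD
  have h3 := lines_ncard hT hconj
  have hpl := lines_partialLinear hT hconj
  refine ⟨hpl, h3, ?_⟩
  rintro l hl m hm hne ⟨a, hal, ham⟩
  obtain ⟨b, hbl, hba⟩ := Set.exists_ne_of_one_lt_ncard (by rw [h3 l hl]; omega) a
  obtain ⟨d, hdm, hda⟩ := Set.exists_ne_of_one_lt_ncard (by rw [h3 m hm]; omega) a
  obtain ⟨c, hc, hlc⟩ := exists_isThird_of_mem_line h3 hl hal hbl hba.symm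
  obtain ⟨e, he, hme⟩ := exists_isThird_of_mem_line h3 hm ham hdm hda.symm
  have tc := tri_of_isThird hT hconj hc
  have te := tri_of_isThird hT hconj he
  have hab := tc.1
  have had := te.1
  have hdl : d ∉ l := fun h => hne (hpl l hl m hm a d hda.symm hal h ham hdm)
  have hbd : b ≠ d := fun h => hdl (h ▸ hbl)
  have hspan_sub : IsSubspace (threeTranspositionLines D)
      (span (threeTranspositionLines D) (l ∪ m)) := isSubspace_span _ _
  have hsub0 : l ∪ m ⊆ span (threeTranspositionLines D) (l ∪ m) := subset_span _ _
  have haP : a ∈ span (threeTranspositionLines D) (l ∪ m) := hsub0 (Or.inl hal)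
  have hbP : b ∈ span (threeTranspositionLines D) (l ∪ m) := hsub0 (Or.inl hbl)
  have hdP : d ∈ span (threeTranspositionLines D) (l ∪ m) := hsub0 (Or.inr hdm)
  have close : ∀ S : Set D, IsSubspace (threeTranspositionLines D) S → a ∈ S → b ∈ S → d ∈ S →
      S ⊆ span (threeTranspositionLines D) (l ∪ m) →
      span (threeTranspositionLines D) (l ∪ m) = S := by
    intro S hS haS hbS hdS hSs
    refine span_eq_of_subspace hS ?_ hSs
    rintro p (hp | hp)
    · rw [hlc] at hp
      rcases hp with rfl | rfl | rfl
      · exact haS
      · exact hbS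
      · exact mem_of_subspace_of_tri hT hconj hS haS hbS tc
    · rw [hme] at hp
      rcases hp with rfl | rfl | rfl
      · exact haS
      · exact hdS
      · exact mem_of_subspace_of_tri hT hconj hS haS hdS te
  by_cases hcbd : Commute b.1 d.1
  · -- the 3-string b - a - d
    left
    obtain ⟨S, hS, hiso, hbS, haS, hdS, hmin⟩ :=
      s4_plane hT hconj hbd hcbd (fun h => hab h.symm) had
    rw [close S hS haS hbS hdS (hmin _ hspan_sub hbP haP hdP)]
    exact hiso
  · let f : D := ⟨cj b.1 d.1, hconj _ _ d.2⟩
    have tf : Tri b.1 d.1 f.1 := tri_mk hT b.2 d.2 hcbd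
    have hfP : f ∈ span (threeTranspositionLines D) (l ∪ m) :=
      mem_of_subspace_of_tri hT hconj hspan_sub hbP hdP tf
    by_cases hcaf : Commute a.1 f.1
    · -- the 3-string a - b - f
      left
      have haf : a ≠ f := by
        intro h
        apply hdl
        have h1 : d.1 = cj f.1 b.1 := (tf.swap23 hT b.2 d.2).2
        rw [← h] at h1
        have h2 : c.1 = cj a.1 b.1 := (tc.swap12 hT a.2 b.2).2
        have hdc : d = c := Subtype.ext (h1.trans h2.symm)
        rw [hdc, hlc]; simp
      have hbf : ¬ Commute b.1 f.1 := not_commute_cj_right hcbd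
      obtain ⟨S, hS, hiso, haS, hbS, hfS, hmin⟩ := s4_plane hT hconj haf hcaf hab hbf
      have hdS : d ∈ S := mem_of_subspace_of_tri hT hconj hS hbS hfS (tf.swap23 hT b.2 d.2)
      rw [close S hS haS hbS hdS (hmin _ hspan_sub haP hbP hfP)]
      exact hiso
    · -- the affine plane
      right
      obtain ⟨S, hS, hiso, haS, hbS, hdS, hmin⟩ := ag_plane hT hconj hab had hcbd hcaf
      rw [close S hS haS hbS hdS (hmin _ hspan_sub haP hbP hdP)]
      exact hiso

end Cfsg.Agent.S5367
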