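import Cfsg.Statements.S5387
import Cfsg.Agent.Helper35.L34Cover
import Cfsg.Agent.Helper50.L34T1
import Cfsg.Agent.Helper56.PSLCongr
import Cfsg.Agent.Helper98.M21b

set_option autoImplicit false
open Cfsg

namespace Cfsg.Agent.S5387

/-- Up to isomorphism there is at most one quasisimple group whose centre is elementary abelian of order 4 and whose central quotient is isomorphic to the projective special linear group of dimension 3 over the field with four elements: any two such groups are isomorphic. -/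
theorem result {L₁ L₂ : Type*} [Group L₁] [Finite L₁] [Group L₂] [Finite L₂] (F : Type) [Field F] [Fintype F] (hF : Fintype.card F = 4) (h₁ : Cfsg.IsQuasisimple L₁) (h₂ : Cfsg.IsQuasisimple L₂) (hc₁ : Nat.card (Subgroup.center L₁) = 4) (hc₂ : Nat.card (Subgroup.center L₂) = 4) (he₁ : ∀ x ∈ Subgroup.center L₁, x * x = 1) (he₂ : ∀ x ∈ Subgroup.center L₂, x * x = 1) (e₁ : L₁ ⧸ Subgroup.center L₁ ≃* Matrix.ProjectiveSpecialLinearGroup (Fin 3) F) (e₂ : L₂ ⧸ Subgroup.center L₂ ≃* Matrix.ProjectiveSpecialLinearGroup (Fin 3) F) : Nonempty (L₁ ≃* L₂) := by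
  -- the covering group `E` of `PSL₃(F)` built for S2088
  let e : Matrix.ProjectiveSpecialLinearGroup (Fin 3) Cfsg.Agent.Helper27.GF4 ≃*
      Matrix.ProjectiveSpecialLinearGroup (Fin 3) F :=
    Cfsg.Agent.Helper56.PSLCongr.pslCongr (Cfsg.Agent.Helper27.gf4Equiv F hF)
  obtain ⟨τ₀, hτ₀, ha₀, hb₀⟩ := Cfsg.Agent.Helper50.L34.exists_tau
  let τ : Cfsg.Agent.Helper96.L34.E →* Matrix.ProjectiveSpecialLinearGroup (Fin 3) F :=
    e.toMonoidHom.comp τ₀
  have hτ : Function.Surjective τ := e.surjective.comp hτ₀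
  have hG : Nat.card (Matrix.ProjectiveSpecialLinearGroup (Fin 3) F) = 20160 := by
    rw [← Nat.card_congr e.toEquiv, Cfsg.Agent.Helper98.M21.card_psl]
  have ha : τ (Cfsg.Agent.Helper96.L34.eg .a) = 1 := by
    show e (τ₀ (PresentedGroup.of Cfsg.Agent.Helper96.L34.PE.Gen.a)) = 1
    rw [ha₀, map_one]
  have hb : τ (Cfsg.Agent.Helper96.L34.eg .b) = 1 := by
    show e (τ₀ (PresentedGroup.of Cfsg.Agent.Helper96.L34.PE.Gen.b)) = 1
    rw [hb₀, map_one]
  -- the two central extensions as quotients of `E`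
  have hσ₁ : Function.Surjective (e₁.toMonoidHom.comp (QuotientGroup.mk' (Subgroup.center L₁))) ∧
      (e₁.toMonoidHom.comp (QuotientGroup.mk' (Subgroup.center L₁))).ker = Subgroup.center L₁ := by
    refine ⟨e₁.surjective.comp (QuotientGroup.mk'_surjective _), ?_⟩
    ext x
    rw [MonoidHom.mem_ker]
    show e₁ ((QuotientGroup.mk' (Subgroup.center L₁)) x) = 1 ↔ _
    rw [MulEquiv.map_eq_one_iff, QuotientGroup.mk'_apply, QuotientGroup.eq_one_iff]
  obtain ⟨φ₁, hs₁, hk₁⟩ := Cfsg.Agent.Helper35.L34U.exists_surj_lift τ hτ hG ha hb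
    h₁.1.commutator_eq_top _ hσ₁.1 hσ₁.2 hc₁ he₁
  have hσ₂ : Function.Surjective (e₂.toMonoidHom.comp (QuotientGroup.mk' (Subgroup.center L₂))) ∧
      (e₂.toMonoidHom.comp (QuotientGroup.mk' (Subgroup.center L₂))).ker = Subgroup.center L₂ := by
    refine ⟨e₂.surjective.comp (QuotientGroup.mk'_surjective _), ?_⟩
    ext x
    rw [MonoidHom.mem_ker]
    show e₂ ((QuotientGroup.mk' (Subgroup.center L₂)) x) = 1 ↔ _
    rw [MulEquiv.map_eq_one_iff, QuotientGroup.mk'_apply, QuotientGroup.eq_one_iff]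
  obtain ⟨φ₂, hs₂, hk₂⟩ := Cfsg.Agent.Helper35.L34U.exists_surj_lift τ hτ hG ha hb
    h₂.1.commutator_eq_top _ hσ₂.1 hσ₂.2 hc₂ he₂
  have hkk : φ₁.ker = φ₂.ker := SetLike.coe_injective (hk₁.trans hk₂.symm)
  exact ⟨(QuotientGroup.quotientKerEquivOfSurjective φ₁ hs₁).symm.trans
    ((QuotientGroup.quotientMulEquivOfEq hkk).trans
      (QuotientGroup.quotientKerEquivOfSurjective φ₂ hs₂))⟩

end Cfsg.Agent.S5387
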