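import Cfsg.Statements.S5393
import Cfsg.Agent.Helper7.Basic
import Cfsg.Agent.Helper8.Golay

set_option autoImplicit false
open Cfsg

namespace Cfsg.Agent.S5393

open Cfsg.Agent.Helper7

/-- The shift `x ↦ x + t` of the 24 points, fixing the extra point. -/
def shift (t : ZMod 23) : Equiv.Perm GolayPt := Equiv.optionCongr (Equiv.addRight t)

theorem shift_symm_some (t x : ZMod 23) : (shift t).symm (some x) = some (x - t) := by
  rw [sub_eq_add_neg]; rfl

theorem shift_symm_none (t : ZMod 23) : (shift t).symm none = none := rfl

theorem shift_mem (t : ZMod 23) : shift t ∈ M24 := by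
  apply mem_M24_of_gens
  intro u
  have hq : permL (shift t) (qrWord u) = qrWord (u + t) := by
    funext p
    rw [permL_apply]
    cases p with
    | none => rfl
    | some x =>
      rw [shift_symm_some]
      have h : (∃ r : ZMod 23, x - t = r ^ 2 + u) ↔ (∃ r : ZMod 23, x = r ^ 2 + (u + t)) := by
        constructor
        · rintro ⟨r, hr⟩
          exact ⟨r, by rw [← add_assoc, ← hr]; ring⟩
        · rintro ⟨r, hr⟩
          exact ⟨r, by rw [hr]; ring⟩
      simp only [qrWord, h]
  rw [hq]
  exact qrWord_mem _

/-- Every word of the code satisfies the overall parity check. -/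
theorem parity {w : V} (hw : w ∈ golayCode) : w none = ∑ x : ZMod 23, w (some x) := by
  have h := Cfsg.Agent.Helper8.golay_dot_eq_zero hw one_mem_golayCode
  simp only [dotProduct, Pi.one_apply, mul_one, Fintype.sum_option] at h
  have key : ∀ a b : ZMod 2, a + b = 0 → a = b := by decide
  exact key _ _ h

theorem finrank_golayCode_le : Module.finrank (ZMod 2) golayCode ≤ 12 := by
  have h1 : golayCode.map ((dotProductEquiv (ZMod 2) GolayPt) : V →ₗ[ZMod 2] Module.Dual (ZMod 2) V) ≤
      golayCode.dualAnnihilator := by
    rintro _ ⟨u, hu, rfl⟩
    rw [Submodule.mem_dualAnnihilator]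
    intro v hv
    exact Cfsg.Agent.Helper8.golay_dot_eq_zero hu hv
  have h2 : Module.finrank (ZMod 2) golayCode ≤
      Module.finrank (ZMod 2) golayCode.dualAnnihilator := by
    have h := Submodule.finrank_mono h1
    rw [LinearEquiv.finrank_map_eq] at h
    exact h
  have h3 : Module.finrank (ZMod 2) golayCode +
      Module.finrank (ZMod 2) golayCode.dualAnnihilator = Module.finrank (ZMod 2) V :=
    Subspace.finrank_add_finrank_dualAnnihilator_eq (golayCode : Subspace (ZMod 2) V)
  have h4 : Module.finrank (ZMod 2) V = 24 := by
    rw [Module.finrank_fintype_fun_eq_card]; rfl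
  omega

theorem pow_mod_cases : ∀ d < 13, 2 ^ d % 23 = 2 % 23 → d = 1 ∨ d = 12 := by decide

/-- Orbit counting under the 23 shifts. -/
theorem card_mod (U : Submodule (ZMod 2) V) (h1U : (1 : V) ∈ U) (hUle : U ≤ golayCode)
    (hUinv : ∀ t : ZMod 23, ∀ w ∈ U, permL (shift t) w ∈ U) :
    2 ^ (Module.finrank (ZMod 2) U) ≡ 2 [MOD 23] := by
  let _ : MulAction (Multiplicative (ZMod 23)) U :=
    { smul := fun t w => ⟨permL (shift (Multiplicative.toAdd t)) w.1, hUinv _ _ w.2⟩
      one_smul := by
        intro w
        apply Subtype.ext
        funext p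
        show w.1 ((shift 0).symm p) = w.1 p
        cases p with
        | none => rfl
        | some x => rw [shift_symm_some, sub_zero]
      mul_smul := by
        intro s t w
        apply Subtype.ext
        funext p
        show w.1 ((shift (Multiplicative.toAdd s + Multiplicative.toAdd t)).symm p) =
          w.1 ((shift (Multiplicative.toAdd t)).symm ((shift (Multiplicative.toAdd s)).symm p))
        cases p with
        | none => rfl
        | some x =>
          rw [shift_symm_some, shift_symm_some, shift_symm_some, sub_add_eq_sub_sub] }
  have hsmul : ∀ (t : Multiplicative (ZMod 23)) (w : U) (p : GolayPt),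
      (t • w).1 p = w.1 ((shift (Multiplicative.toAdd t)).symm p) := fun t w p => rfl
  have : Fact (Nat.Prime 23) := ⟨by norm_num⟩
  have hp : IsPGroup 23 (Multiplicative (ZMod 23)) :=
    IsPGroup.of_card (n := 1) (by simp)
  have hcount := hp.card_modEq_card_fixedPoints U
  have hcard : Nat.card U = 2 ^ (Module.finrank (ZMod 2) U) := by
    have := Module.natCard_eq_pow_finrank (K := ZMod 2) (V := U)
    rw [this, Nat.card_zmod]
  have hne : (⟨0, U.zero_mem⟩ : U) ≠ ⟨1, h1U⟩ := by
    intro h
    have := congrFun (congrArg Subtype.val h) none
    simp at this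
  have hfix : MulAction.fixedPoints (Multiplicative (ZMod 23)) U =
      {⟨0, U.zero_mem⟩, ⟨1, h1U⟩} := by
    ext w
    simp only [MulAction.mem_fixedPoints, Set.mem_insert_iff, Set.mem_singleton_iff]
    constructor
    · intro hw
      have hconst : ∀ x : ZMod 23, w.1 (some x) = w.1 (some 0) := by
        intro x
        have := congrFun (congrArg Subtype.val (hw (Multiplicative.ofAdd x))) (some x)
        rw [hsmul, toAdd_ofAdd, shift_symm_some, sub_self] at this
        exact this.symm
      have hnone : w.1 none = w.1 (some 0) := by
        rw [parity (hUle w.2), Finset.sum_congr rfl fun x _ => hconst x]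
        simp only [Finset.sum_const, Finset.card_univ, ZMod.card, nsmul_eq_mul]
        have h23 : ((23 : ℕ) : ZMod 2) = 1 := by decide
        rw [h23, one_mul]
      have hall : ∀ p, w.1 p = w.1 (some 0) := by
        intro p
        cases p with
        | none => exact hnone
        | some x => exact hconst x
      have h01 : w.1 (some 0) = 0 ∨ w.1 (some 0) = 1 := by
        generalize w.1 (some 0) = a
        revert a; decide
      rcases h01 with h0 | h0
      · left
        apply Subtype.ext
        funext p
        rw [hall p, h0]; rfl
      · right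
        apply Subtype.ext
        funext p
        rw [hall p, h0]; rfl
    · rintro (rfl | rfl) t
      · apply Subtype.ext
        funext p
        rfl
      · apply Subtype.ext
        funext p
        rfl
  have hfc : Nat.card (MulAction.fixedPoints (Multiplicative (ZMod 23)) U) = 2 := by
    rw [Nat.card_coe_set_eq, hfix, Set.ncard_pair hne]
  rw [hcard, hfc] at hcount
  exact hcount

/-- The length-24 code built from the squares modulo 23 contains the all-ones word, and the code modulo the all-ones word is an irreducible module over the field with two elements for the code's automorphism group: a subspace of the code that contains the all-ones word and is invariant under every coordinate permutation preserving the code is either the span of the all-ones word or the whole code. -/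
theorem result : (fun _ : Cfsg.GolayPt => (1 : ZMod 2)) ∈ Cfsg.golayCode ∧ ∀ W : Submodule (ZMod 2) (Cfsg.GolayPt → ZMod 2), (fun _ => (1 : ZMod 2)) ∈ W → W ≤ Cfsg.golayCode → (∀ σ ∈ Cfsg.M24, ∀ w ∈ W, (fun p => w (σ.symm p)) ∈ W) → W = Submodule.span (ZMod 2) {fun _ => (1 : ZMod 2)} ∨ W = Cfsg.golayCode := by
  refine ⟨one_mem_golayCode, ?_⟩
  intro W h1 hle hinv
  have h1' : (1 : V) ∈ W := h1
  have hW : 2 ^ (Module.finrank (ZMod 2) W) ≡ 2 [MOD 23] :=
    card_mod W h1' hle fun t w hw => hinv _ (shift_mem t) w hw
  have hC : 2 ^ (Module.finrank (ZMod 2) golayCode) ≡ 2 [MOD 23] :=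
    card_mod golayCode one_mem_golayCode le_rfl fun t w hw =>
      permL_mem_of_mem_M24 (shift_mem t) hw
  have hm : Module.finrank (ZMod 2) golayCode ≤ 12 := finrank_golayCode_le
  have hd : Module.finrank (ZMod 2) W ≤ Module.finrank (ZMod 2) golayCode :=
    Submodule.finrank_mono hle
  have hW' := pow_mod_cases _ (by omega) hW
  have hC' := pow_mod_cases _ (by omega) hC
  rcases hW' with hd1 | hd12
  · left
    have hone : (1 : V) ≠ 0 := by
      intro h
      have := congrFun h none
      simp at this
    have hspan : Submodule.span (ZMod 2) {(1 : V)} ≤ W := by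
      rw [Submodule.span_le]
      rintro _ rfl
      exact h1'
    have hfr : Module.finrank (ZMod 2) (Submodule.span (ZMod 2) {(1 : V)}) = 1 :=
      finrank_span_singleton hone
    exact (Submodule.eq_of_le_of_finrank_eq hspan (by rw [hfr, hd1])).symm
  · right
    exact Submodule.eq_of_le_of_finrank_eq hle (by omega)

end Cfsg.Agent.S5393
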