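import Cfsg.Statements.S5394
import Cfsg.Agent.Helper92.M24Classes
import Cfsg.Agent.Helper27.Octads
import Cfsg.Agent.Helper7.M24Octad

set_option autoImplicit false
open Cfsg

namespace Cfsg.Agent.S5394

open Cfsg.Agent.Helper27 Cfsg.Agent.Helper92 Cfsg.Agent.Helper7
open scoped Pointwise

/-- the fixed points of a permutation -/
abbrev fixSet (g : Equiv.Perm GolayPt) : Finset GolayPt := Finset.univ.filter fun p => g p = p

theorem fixSet_conj (k g : Equiv.Perm GolayPt) : fixSet (k * g * k⁻¹) = k • fixSet g := by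
  ext p
  rw [Finset.mem_filter, ← Finset.inv_smul_mem_iff, Finset.mem_filter]
  simp only [Finset.mem_univ, true_and, Equiv.Perm.mul_apply, Equiv.Perm.smul_def]
  constructor
  · intro h
    have := congrArg (⇑k⁻¹) h
    simpa using this
  · intro h
    rw [h]
    simp

theorem sq_of_orderOf {g : Equiv.Perm GolayPt} (h : orderOf g = 2) : g ^ 2 = 1 ∧ g ≠ 1 := by
  refine ⟨by rw [← h]; exact pow_orderOf_eq_one g, ?_⟩
  intro h1
  rw [h1, orderOf_one] at h
  omega

theorem sq_permOfTabs_self {t : List ℕ} (h : isInvPair t t = true) : (permOfTabs t t) ^ 2 = 1 := by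
  apply Equiv.ext
  intro p
  rw [pow_two, Equiv.Perm.mul_apply, Equiv.Perm.one_apply]
  have h1 : permOfTabs t t p = (permOfTabs t t).symm p := by
    rw [permOfTabs_apply h, permOfTabs_symm_apply h]
  rw [h1]
  exact (permOfTabs t t).apply_symm_apply p

theorem orderOf_T2A : orderOf T2A = 2 := by
  apply orderOf_eq_prime (sq_permOfTabs_self t2A_inv)
  exact permOfTabs_ne_one t2A_inv 0 (by norm_num) (by decide)

theorem orderOf_T2B : orderOf T2B = 2 := by
  apply orderOf_eq_prime (sq_permOfTabs_self t2B_inv)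
  exact permOfTabs_ne_one t2B_inv 0 (by norm_num) (by decide)

/-- mask of the fixed points of `T2A` -/
def fixMaskA : ℕ := 2 ^ 3 + 2 ^ 4 + 2 ^ 5 + 2 ^ 13 + 2 ^ 14 + 2 ^ 16 + 2 ^ 17 + 2 ^ 22

theorem fixSet_T2A : fixSet T2A = Helper27.setOf fixMaskA := by
  ext p
  rw [Finset.mem_filter, Helper27.mem_setOf]
  simp only [Finset.mem_univ, true_and]
  have hp := gIdx_lt p
  have key : ∀ i < 24, (t2A.getD i 0 = i ↔ fixMaskA.testBit i = true) := by decide
  have h1 : T2A p = gPt (t2A.getD (gIdx p) 0) := by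
    have := isTab_T2A (gIdx p) hp
    rwa [gPt_gIdx] at this
  rw [h1, ← key _ hp]
  constructor
  · intro h
    have := congrArg gIdx h
    rw [gIdx_gPt _ (isInvPair_spec t2A_inv _ hp).1] at this
    exact this
  · intro h
    rw [h, gPt_gIdx]

theorem fixSet_T2A_mem : fixSet T2A ∈ octads := by
  rw [fixSet_T2A, Helper27.setOf_mem_octads_iff (by decide)]
  decide +kernel

theorem free_T2B : ∀ p, T2B p ≠ p := by
  intro p hp
  have h := card_fixed_T2B
  rw [Finset.card_eq_zero] at h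
  have : p ∈ Finset.univ.filter fun p => T2B p = p := by
    rw [Finset.mem_filter]
    exact ⟨Finset.mem_univ _, hp⟩
  rw [h] at this
  simp at this

theorem fixed_mem_octads {g : Equiv.Perm GolayPt} (hg : g ∈ M24) (h2 : g ^ 2 = 1) (h1 : g ≠ 1)
    (hfix : ∃ e, g e = e) : fixSet g ∈ octads := by
  obtain ⟨k, hk, e⟩ := involution_conj_of_fixed hg h2 h1 hfix
  have h3 := fixSet_conj k g
  rw [e] at h3
  have h4 : fixSet g = k⁻¹ • fixSet T2A := by
    rw [h3, inv_smul_smul]
  rw [h4]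
  exact smul_mem_octads (M24.inv_mem hk) fixSet_T2A_mem

theorem conj_of_conj_same {g h T : Equiv.Perm GolayPt}
    (hg : ∃ k ∈ M24, k * g * k⁻¹ = T) (hh : ∃ k ∈ M24, k * h * k⁻¹ = T) :
    ∃ k ∈ M24, k * g * k⁻¹ = h := by
  obtain ⟨a, ha, ea⟩ := hg
  obtain ⟨b, hb, eb⟩ := hh
  refine ⟨b⁻¹ * a, M24.mul_mem (M24.inv_mem hb) ha, ?_⟩
  have : h = b⁻¹ * T * b := by
    rw [← eb]
    simp [mul_assoc]
  rw [this, ← ea]
  simp [mul_assoc]


/-- The automorphism group of the length-24 code built from the squares modulo 23 has exactly two conjugacy classes of involutions: an involution either fixes exactly the eight points of an octad or has no fixed points, both kinds occur, and any two involutions of the same kind are conjugate in the group. -/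
theorem result : (∀ g ∈ Cfsg.M24, orderOf g = 2 → (Finset.univ.filter fun p => g p = p) ∈ Cfsg.octads ∨ ∀ p, g p ≠ p) ∧ (∃ g ∈ Cfsg.M24, orderOf g = 2 ∧ (Finset.univ.filter fun p => g p = p) ∈ Cfsg.octads) ∧ (∃ g ∈ Cfsg.M24, orderOf g = 2 ∧ ∀ p, g p ≠ p) ∧ ∀ g ∈ Cfsg.M24, ∀ h ∈ Cfsg.M24, orderOf g = 2 → orderOf h = 2 → ((∀ p, g p ≠ p) ↔ (∀ p, h p ≠ p)) → ∃ k ∈ Cfsg.M24, k * g * k⁻¹ = h := by
  refine ⟨?_, ⟨T2A, T2A_mem, orderOf_T2A, fixSet_T2A_mem⟩, ⟨T2B, T2B_mem, orderOf_T2B, free_T2B⟩, ?_⟩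
  · intro g hg ho
    obtain ⟨h2, h1⟩ := sq_of_orderOf ho
    by_cases hfix : ∃ e, g e = e
    · left
      exact fixed_mem_octads hg h2 h1 hfix
    · right
      push Not at hfix
      exact hfix
  · intro g hg h hh hog hoh hiff
    obtain ⟨g2, g1⟩ := sq_of_orderOf hog
    obtain ⟨h2, h1⟩ := sq_of_orderOf hoh
    by_cases hfree : ∀ p, g p ≠ p
    · exact conj_of_conj_same (involution_conj_of_free hg g2 hfree)
        (involution_conj_of_free hh h2 (hiff.1 hfree))
    · have hfree' : ¬ ∀ p, h p ≠ p := fun hc => hfree (hiff.2 hc)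
      push Not at hfree hfree'
      exact conj_of_conj_same (involution_conj_of_fixed hg g2 g1 hfree)
        (involution_conj_of_fixed hh h2 h1 hfree')

end Cfsg.Agent.S5394
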