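-- Statement S5395: an automorphism of an extraspecial 2-group acting trivially on E/Z(E) is inner.
import Cfsg.Statements.S5395

set_option autoImplicit false
open Cfsg

namespace Cfsg.Agent.S5395

open scoped IsMulCommutative

theorem card_hom_units {E : Type*} [Group E] [Finite E] :
    Nat.card (E →* ℂˣ) = (commutator E).index := by
  have e : (E →* ℂˣ) ≃ (Abelianization E →* ℂˣ) := Abelianization.lift
  rw [Nat.card_congr e]
  have : NeZero (Monoid.exponent (Abelianization E)) := ⟨Monoid.exponent_ne_zero_of_finite⟩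
  rw [CommGroup.card_monoidHom_of_hasEnoughRootsOfUnity]
  rfl

/-- The commutator map `x ↦ g x g⁻¹ x⁻¹` into the centre, when all commutators are central. -/
def kappa {E : Type*} [Group E] (hc : ∀ g x : E, g * x * g⁻¹ * x⁻¹ ∈ Subgroup.center E) (g : E) :
    E →* Subgroup.center E where
  toFun x := ⟨g * x * g⁻¹ * x⁻¹, hc g x⟩
  map_one' := by
    apply Subtype.ext
    simp
  map_mul' x y := by
    apply Subtype.ext
    have hy := Subgroup.mem_center_iff.1 (hc g y)
    show g * (x * y) * g⁻¹ * (x * y)⁻¹ = (g * x * g⁻¹ * x⁻¹) * (g * y * g⁻¹ * y⁻¹)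
    calc g * (x * y) * g⁻¹ * (x * y)⁻¹ = g * x * g⁻¹ * ((g * y * g⁻¹ * y⁻¹) * x⁻¹) := by group
      _ = g * x * g⁻¹ * (x⁻¹ * (g * y * g⁻¹ * y⁻¹)) := by rw [hy x⁻¹]
      _ = (g * x * g⁻¹ * x⁻¹) * (g * y * g⁻¹ * y⁻¹) := by group

theorem kappa_mul {E : Type*} [Group E] (hc : ∀ g x : E, g * x * g⁻¹ * x⁻¹ ∈ Subgroup.center E) (g h x : E) :
    kappa hc (g * h) x = kappa hc g x * kappa hc h x := by
  apply Subtype.ext
  have hy := Subgroup.mem_center_iff.1 (hc h x)
  show g * h * x * (g * h)⁻¹ * x⁻¹ = (g * x * g⁻¹ * x⁻¹) * (h * x * h⁻¹ * x⁻¹)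
  calc g * h * x * (g * h)⁻¹ * x⁻¹ = g * ((h * x * h⁻¹ * x⁻¹) * (x * g⁻¹ * x⁻¹)) := by group
    _ = g * ((x * g⁻¹ * x⁻¹) * (h * x * h⁻¹ * x⁻¹)) := by rw [hy (x * g⁻¹ * x⁻¹)]
    _ = (g * x * g⁻¹ * x⁻¹) * (h * x * h⁻¹ * x⁻¹) := by group

/-- For a finite extraspecial 2-group E, an automorphism of E that induces the identity on E modulo its centre is inner (so these automorphisms form exactly the inner automorphism group, an elementary abelian 2-group of order |E|/2). -/
theorem result {E : Type*} [Group E] [Finite E] (hE : Cfsg.IsExtraspecial 2 E) (φ : E ≃* E) (hφ : ∀ x : E, φ x * x⁻¹ ∈ Subgroup.center E) : ∃ g : E, ∀ x : E, φ x = g * x * g⁻¹ := by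
  obtain ⟨⟨-, -, hcomm⟩, hcard⟩ := hE
  -- all commutators are central
  have hc : ∀ g x : E, g * x * g⁻¹ * x⁻¹ ∈ Subgroup.center E := by
    intro g x
    rw [← hcomm, commutator_def, ← commutatorElement_def]
    exact Subgroup.commutator_mem_commutator (Subgroup.mem_top g) (Subgroup.mem_top x)
  -- the centre is {1, z}
  obtain ⟨z, hz1, hzuniq⟩ := (Nat.card_eq_two_iff' (1 : Subgroup.center E)).1 hcard
  -- an injective character of the centre
  have : NeZero (Monoid.exponent (Subgroup.center E)) := ⟨Monoid.exponent_ne_zero_of_finite⟩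
  obtain ⟨ι, hι⟩ := CommGroup.exists_apply_ne_one_of_hasEnoughRootsOfUnity (Subgroup.center E) ℂ hz1
  have hιinj : ∀ w : Subgroup.center E, ι w = 1 → w = 1 := by
    intro w hw
    by_contra hw1
    have := hzuniq w hw1
    rw [this] at hw
    exact hι hw
  -- the homomorphism Φ : E →* (E →* ℂˣ)
  let Φ : E →* (E →* ℂˣ) :=
    { toFun := fun g => ι.comp (kappa hc g)
      map_one' := by
        ext x
        have : kappa hc 1 x = 1 := by
          apply Subtype.ext
          show 1 * x * 1⁻¹ * x⁻¹ = 1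
          group
        simp [this]
      map_mul' := by
        intro g h
        ext x
        simp [kappa_mul] }
  -- the kernel of Φ is the centre
  have hker : Φ.ker = Subgroup.center E := by
    ext g
    rw [MonoidHom.mem_ker, Subgroup.mem_center_iff]
    constructor
    · intro hg x
      have h1 : ι (kappa hc g x) = 1 := by
        have := DFunLike.congr_fun hg x
        simpa [Φ] using this
      have h2 := congrArg Subtype.val (hιinj _ h1)
      have h3 : g * x * g⁻¹ * x⁻¹ = 1 := h2
      calc x * g = (g * x * g⁻¹ * x⁻¹)⁻¹ * (g * x) := by group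
        _ = g * x := by rw [h3, inv_one, one_mul]
    · intro hg
      ext x
      have : kappa hc g x = 1 := by
        apply Subtype.ext
        show g * x * g⁻¹ * x⁻¹ = 1
        rw [← hg x]
        group
      simp [Φ, this]
  -- counting
  have hfin : Finite (E →* ℂˣ) := by
    apply Nat.finite_of_card_ne_zero
    rw [card_hom_units]
    exact Subgroup.index_ne_zero_of_finite
  have hrange : Φ.range = ⊤ := by
    apply (Subgroup.card_eq_iff_eq_top _).1
    rw [card_hom_units, ← Subgroup.index_ker, hker, hcomm]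
  -- the homomorphism c : x ↦ φ x * x⁻¹
  let c : E →* Subgroup.center E :=
    { toFun := fun x => ⟨φ x * x⁻¹, hφ x⟩
      map_one' := by
        apply Subtype.ext
        simp
      map_mul' := by
        intro x y
        apply Subtype.ext
        have hy := Subgroup.mem_center_iff.1 (hφ y)
        show φ (x * y) * (x * y)⁻¹ = (φ x * x⁻¹) * (φ y * y⁻¹)
        rw [map_mul]
        calc φ x * φ y * (x * y)⁻¹ = φ x * ((φ y * y⁻¹) * x⁻¹) := by group
          _ = φ x * (x⁻¹ * (φ y * y⁻¹)) := by rw [hy x⁻¹]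
          _ = (φ x * x⁻¹) * (φ y * y⁻¹) := by group }
  have hmem : ι.comp c ∈ Φ.range := by rw [hrange]; exact Subgroup.mem_top _
  obtain ⟨g, hg⟩ := hmem
  refine ⟨g, fun x => ?_⟩
  have h1 : ι (kappa hc g x) = ι (c x) := by
    have := DFunLike.congr_fun hg x
    simpa [Φ] using this
  have h2 : kappa hc g x = c x := by
    have h3 : ι (kappa hc g x * (c x)⁻¹) = 1 := by
      rw [map_mul, map_inv, h1, mul_inv_cancel]
    have h4 := hιinj _ h3
    exact mul_inv_eq_one.1 h4
  have h3 : g * x * g⁻¹ * x⁻¹ = φ x * x⁻¹ := congrArg Subtype.val h2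
  exact (mul_right_cancel h3).symm

end Cfsg.Agent.S5395
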