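import Cfsg.Statements.S5396
import Cfsg.Agent.Helper89.HeisTwoForms

set_option autoImplicit false
open Cfsg

namespace Cfsg.Agent.S5396

open Cfsg.Agent.Helper89 Cfsg.Agent.Helper89.HeisTwo

theorem zmod2_mul_self : ∀ a : ZMod 2, a * a = a := by decide

theorem zmod2_add_eq_zero_iff : ∀ a b : ZMod 2, a + b = 0 ↔ a = b := by decide

/-- The number of singular vectors of the minus-type form. -/
theorem minus_count (m : ℕ) :
    2 * (Finset.univ.filter fun w : Vec2 m × Vec2 m => cocyc m 1 w w = 0).card + 2 ^ (m + 1) =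
      2 ^ (2 * (m + 1)) := by
  classical
  set e0 : Vec2 m := Pi.single 0 1 with he0
  have hcond : ∀ x y : Vec2 m, cocyc m 1 (x, y) (x, y) = 0 ↔ (x + e0) ⬝ᵥ y = x 0 := by
    intro x y
    rw [cocyc_apply, add_dotProduct]
    have h1 : e0 ⬝ᵥ y = y 0 := by simp [he0]
    rw [h1]
    simp only [one_mul, zmod2_mul_self]
    have h2 := CharTwo.add_self_eq_zero (x 0)
    constructor
    · intro h; linear_combination h - h2
    · intro h; linear_combination h + h2
  have hcardV : Fintype.card (Vec2 m) = 2 ^ (m + 1) := by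
    rw [Fintype.card_fun, ZMod.card, Fintype.card_fin]
  have hfib : ∀ x : Vec2 m, 2 * (Finset.univ.filter fun y : Vec2 m => (x + e0) ⬝ᵥ y = x 0).card =
      if x = e0 then 0 else 2 ^ (m + 1) := by
    intro x
    split_ifs with hx
    · subst hx
      have hzero : e0 + e0 = 0 := ZModModule.add_self e0
      have hone : e0 0 = 1 := by simp [he0]
      rw [hzero, hone]
      simp
    · have hne : x + e0 ≠ 0 := by
        intro h
        apply hx
        have := congrArg (· + e0) h
        simp only [add_assoc, ZModModule.add_self, add_zero, zero_add] at this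
        exact this
      let f : Vec2 m →ₗ[ZMod 2] ZMod 2 := dotProductEquiv (ZMod 2) (Fin (m + 1)) (x + e0)
      have hf : f ≠ 0 := by
        intro h0
        apply hne
        exact (dotProductEquiv (ZMod 2) (Fin (m + 1))).map_eq_zero_iff.mp h0
      have := two_mul_card_fiber f hf (x 0)
      rw [hcardV] at this
      exact this
  have hN : (Finset.univ.filter fun w : Vec2 m × Vec2 m => cocyc m 1 w w = 0).card =
      ∑ x : Vec2 m, (Finset.univ.filter fun y : Vec2 m => (x + e0) ⬝ᵥ y = x 0).card := by
    rw [Finset.card_filter, Fintype.sum_prod_type]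
    apply Finset.sum_congr rfl
    intro x _
    rw [Finset.card_filter]
    apply Finset.sum_congr rfl
    intro y _
    simp only [hcond]
  rw [hN, Finset.mul_sum, Finset.sum_congr rfl fun x _ => hfib x]
  have hsum : (∑ x : Vec2 m, if x = e0 then 0 else 2 ^ (m + 1)) +
      (∑ x : Vec2 m, if x = e0 then 2 ^ (m + 1) else 0) = ∑ _x : Vec2 m, 2 ^ (m + 1) := by
    rw [← Finset.sum_add_distrib]
    apply Finset.sum_congr rfl
    intro x _
    split_ifs <;> simp
  have hsingle : (∑ x : Vec2 m, if x = e0 then 2 ^ (m + 1) else 0) = 2 ^ (m + 1) := by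
    rw [Finset.sum_ite_eq' Finset.univ e0]; simp
  rw [hsingle, Finset.sum_const, Finset.card_univ, hcardV, smul_eq_mul] at hsum
  rw [hsum, ← pow_add]
  congr 1; ring

/-- Elementary abelian subgroups of the minus-type group have order at most `2^(m+1)`. -/
theorem minus_rank_le (m : ℕ) (A : Subgroup (HeisTwo (cocyc m 1)))
    (hA : Cfsg.IsElementaryAbelian 2 A) {k : ℕ} (hk : Nat.card A = 2 ^ k) : k ≤ m + 1 := by
  classical
  by_contra hlt
  have hk2 : k ≤ m + 2 := rank_le m 1 A hA.1 hk
  have hkeq : k = m + 2 := by omega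
  have h1 := card_le_shadow A
  rw [hk, card_submodule, ← pow_succ'] at h1
  have hf1 : k ≤ Module.finrank (ZMod 2) (shadow A) + 1 :=
    (Nat.pow_le_pow_iff_right (by norm_num)).mp h1
  have hiso := finrank_isotropic_le (cocyc_nondeg m 1) (shadow A)
    fun u hu u' hu' => shadow_polar hA.1 hu hu'
  rw [finrank_pairs] at hiso
  have hf : Module.finrank (ZMod 2) (shadow A) = m + 1 := by omega
  have hB := polar_nondegenerate (cocyc_nondeg m 1)
  have hle : shadow A ≤ (polar (cocyc m 1)).orthogonal (shadow A) := by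
    intro u hu
    rw [LinearMap.BilinForm.mem_orthogonal_iff]
    intro n hn
    exact shadow_polar hA.1 hn hu
  have hfo : Module.finrank (ZMod 2) ((polar (cocyc m 1)).orthogonal (shadow A)) =
      Module.finrank (ZMod 2) (Vec2 m × Vec2 m) - Module.finrank (ZMod 2) (shadow A) :=
    LinearMap.BilinForm.finrank_orthogonal hB (shadow A)
  rw [finrank_pairs, hf] at hfo
  have heq : shadow A = (polar (cocyc m 1)).orthogonal (shadow A) :=
    Submodule.eq_of_le_of_finrank_eq hle (by rw [hf, hfo]; omega)
  have hperp : ∀ w : Vec2 m × Vec2 m,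
      (∀ u ∈ shadow A, polar (cocyc m 1) w u = 0) → w ∈ shadow A := by
    intro w hw
    rw [heq, LinearMap.BilinForm.mem_orthogonal_iff]
    intro n hn
    show polar (cocyc m 1) n w = 0
    rw [polar_symm]
    exact hw n hn
  have hcount := two_mul_card_singular (β := cocyc m 1) (shadow A)
    (fun u hu => shadow_sing hA.2 hu) hperp
  rw [card_submodule, hf] at hcount
  have hcW : Fintype.card (Vec2 m × Vec2 m) = 2 ^ (2 * (m + 1)) := by
    rw [← Nat.card_eq_fintype_card, card_pairs]
  rw [hcW] at hcount
  have hmc := minus_count m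
  have hpos : 0 < 2 ^ (m + 1) := pow_pos (by norm_num) _
  omega

/-- For every n ≥ 1 there exist finite extraspecial 2-groups of order 2^(2n+1) whose 2-rank (the largest rank of an elementary abelian subgroup) is n, and ones whose 2-rank is n + 1 (so for each such order there are two non-isomorphic extraspecial 2-groups, told apart by their 2-rank). -/
theorem result (n : ℕ) (hn : 1 ≤ n) : ∀ r ∈ ({n, n + 1} : Set ℕ), ∃ (E : Type) (_ : Group E) (_ : Finite E), Cfsg.IsExtraspecial 2 E ∧ Nat.card E = 2 ^ (2 * n + 1) ∧ sSup {k : ℕ | ∃ A : Subgroup E, Cfsg.IsElementaryAbelian 2 A ∧ Nat.card A = 2 ^ k} = r := by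
  obtain ⟨m, rfl⟩ : ∃ m, n = m + 1 := ⟨n - 1, by omega⟩
  intro r hr
  rcases hr with rfl | rfl
  · refine ⟨HeisTwo (cocyc m 1), inferInstance, inferInstance, extraspecial_heis m 1,
      card_heis m 1, ?_⟩
    apply IsGreatest.csSup_eq
    constructor
    · exact ⟨minusSub m, minusSub_elementary m, minusSub_card m⟩
    · rintro k ⟨A, hA, hk⟩
      exact minus_rank_le m A hA hk
  · refine ⟨HeisTwo (cocyc m 0), inferInstance, inferInstance, extraspecial_heis m 0,
      card_heis m 0, ?_⟩
    apply IsGreatest.csSup_eq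
    constructor
    · exact ⟨plusSub m, plusSub_elementary m, plusSub_card m⟩
    · rintro k ⟨A, hA, hk⟩
      exact rank_le m 0 A hA.1 hk

end Cfsg.Agent.S5396
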