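import Cfsg.Statements.S5406
import Cfsg.Agent.Helper90.MonT4
import Cfsg.Agent.S0402

set_option autoImplicit false
open Cfsg

namespace Cfsg.Agent.S5406

/-- Let G be a finite group of Monster type at the involution z with Q the extraspecial normal subgroup of order 2^25 of C = C_G(z) (so C/Q is identified with the first Conway group with Q modulo its centre the Leech lattice modulo 2, and z is not weakly closed in Q). Then C acts transitively by conjugation on the conjugates of z that lie in Q and differ from z. -/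
theorem result {G : Type*} [Group G] [Finite G] (z : G) (Q : Subgroup (Subgroup.centralizer ({z} : Set G))) [Q.Normal] (hM : Cfsg.IsOfMonsterType z Q) (s t : G) (hsQ : ∃ hsc : s ∈ Subgroup.centralizer ({z} : Set G), (⟨s, hsc⟩ : Subgroup.centralizer ({z} : Set G)) ∈ Q) (htQ : ∃ htc : t ∈ Subgroup.centralizer ({z} : Set G), (⟨t, htc⟩ : Subgroup.centralizer ({z} : Set G)) ∈ Q) (hs : IsConj z s) (ht : IsConj z t) (hs1 : s ≠ z) (ht1 : t ≠ z) : ∃ h ∈ Subgroup.centralizer ({z} : Set G), h * s * h⁻¹ = t := by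
  obtain ⟨hz2, hE, hcard, hcard', hlarge, hZ⟩ := Cfsg.Agent.Helper90.monster_setup hM
  obtain ⟨e, ψ, hψ⟩ := hM.2
  obtain ⟨hsc, hsQ'⟩ := hsQ
  obtain ⟨htc, htQ'⟩ := htQ
  let s' : Q := ⟨⟨s, hsc⟩, hsQ'⟩
  let t' : Q := ⟨⟨t, htc⟩, htQ'⟩
  obtain ⟨v, hv64, hv⟩ := Cfsg.Agent.Helper90.type_four hM hψ
    (fun v hv => Cfsg.Agent.S0402.result v hv) s' hs hs1
  obtain ⟨w, hw64, hw⟩ := Cfsg.Agent.Helper90.type_four hM hψ
    (fun v hv => Cfsg.Agent.S0402.result v hv) t' ht ht1
  obtain ⟨γ, hγ⟩ := Cfsg.Agent.Helper8.co0_transitive_norm64 v w hv64 hw64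
  have hs1' : (s' : Subgroup.centralizer ({z} : Set G)) ≠ 1 := by
    intro h
    have h1 : s = 1 := congrArg Subtype.val h
    rw [h1] at hs
    have := isConj_one_left.mp hs
    apply hE.z1
    exact Subtype.ext this
  have hsz' : (s' : Subgroup.centralizer ({z} : Set G)) ≠ Cfsg.Agent.Helper90.zC z := by
    intro h
    exact hs1 (congrArg Subtype.val h)
  obtain ⟨h, hh⟩ := Cfsg.Agent.Helper90.exists_conj_of_smul hE hψ s' t' hs1' hsz' v w hv hw γ hγ
  refine ⟨(h : G), h.2, ?_⟩
  have := congrArg Subtype.val hh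
  rwa [Subgroup.coe_mul, Subgroup.coe_mul, Subgroup.coe_inv] at this

end Cfsg.Agent.S5406
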