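-- Statement S5420: large extraspecial subgroup when the centre lies in the 2-core.
import Cfsg.Statements.S5420
import Cfsg.Agent.Helper90.Basic

set_option autoImplicit false
open Cfsg

namespace Cfsg.Agent.S5420

/-- Let Q be an extraspecial 2-subgroup of the finite group G whose centralizer in G is its centre Z and which is normal in the centralizer of Z. If Z lies in the largest normal 2-subgroup of G, then Q is a large extraspecial 2-subgroup of G: it normalizes no non-trivial subgroup of G of odd order. -/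
theorem result {G : Type*} [Group G] [Finite G] (Q : Subgroup G) (hL1 : Cfsg.IsExtraspecial 2 ↥Q) (hL2 : Subgroup.centralizer (Q : Set G) = ((Subgroup.center ↥Q).map Q.subtype)) (hL3 : Subgroup.centralizer (((Subgroup.center ↥Q).map Q.subtype) : Set G) ≤ Subgroup.normalizer (Q : Set G)) (hZ : ((Subgroup.center ↥Q).map Q.subtype) ≤ Cfsg.pCore 2 G) : Cfsg.IsLargeExtraspecial Q := by
  refine ⟨hL1, hL2, hL3, ?_⟩
  intro K hK hQK
  have hQ2 : IsPGroup 2 Q := Helper90.isPGroup_of_isExtraspecial hL1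
  have hZQ : ((Subgroup.center ↥Q).map Q.subtype) ≤ Q := by
    intro x hx
    obtain ⟨y, _, rfl⟩ := hx
    exact y.2
  have hcore : Cfsg.pCore 2 G ⊓ K = ⊥ :=
    Helper90.inf_eq_bot_of_two_group_of_odd (Helper90.pCore_isPGroup 2 G) hK
  have hKC : K ≤ Subgroup.centralizer (((Subgroup.center ↥Q).map Q.subtype) : Set G) := by
    intro k hk
    rw [Subgroup.mem_centralizer_iff]
    intro z hz
    have hzQ : z ∈ Q := hZQ hz
    have hzO : z ∈ Cfsg.pCore 2 G := hZ hz
    have h1 : z * k * z⁻¹ * k⁻¹ ∈ K := by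
      have := (Subgroup.mem_normalizer_iff.mp (hQK hzQ) k).mp hk
      exact K.mul_mem this (K.inv_mem hk)
    have h2 : z * k * z⁻¹ * k⁻¹ ∈ Cfsg.pCore 2 G := by
      have hn : (Cfsg.pCore 2 G).Normal := inferInstance
      have := hn.conj_mem z⁻¹ ((Cfsg.pCore 2 G).inv_mem hzO) k
      have h3 : z * (k * z⁻¹ * k⁻¹) ∈ Cfsg.pCore 2 G := (Cfsg.pCore 2 G).mul_mem hzO this
      simpa [mul_assoc] using h3
    have h3 : z * k * z⁻¹ * k⁻¹ ∈ Cfsg.pCore 2 G ⊓ K := ⟨h2, h1⟩
    rw [hcore, Subgroup.mem_bot] at h3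
    have : z * k = (z * k * z⁻¹ * k⁻¹) * (k * z) := by group
    rw [this, h3, one_mul]
  exact Helper90.eq_bot_of_odd_of_normalizes hQ2 hK hQK (hKC.trans hL3) (hL2.le.trans hZQ)

end Cfsg.Agent.S5420
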