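-- Statement S5423 (Cfsg.spor2_affine_general_linear_large_extraspecial).
import Cfsg.Statements.S5423
import Cfsg.Agent.Helper90.Holomorph2
import Cfsg.Agent.Helper90.Holomorph4
import Cfsg.Agent.Helper90.ExtraCrit
import Cfsg.Agent.Helper90.Large

set_option autoImplicit false
open Cfsg

namespace Cfsg.Agent.S5423

open Cfsg.Agent.Helper90

/-- Let G be a finite group that is the split extension of an elementary abelian normal subgroup U of order 2^(n+1), n ≥ 1, by its full automorphism group: U has a complement M in G whose conjugation action on U is faithful and realizes every automorphism of U. Let Z be a subgroup of U of order 2 and Q the largest normal 2-subgroup of the centralizer C of Z. Then Q is extraspecial of order 2^(2n+1) with an elementary abelian subgroup of order 2^(n+1) (plus type), Q is a large extraspecial 2-subgroup of G, and C is the split extension of Q by the general linear group of degree n over the field with two elements. -/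
theorem result {G : Type*} [Group G] [Finite G] (n : ℕ) (hn : 1 ≤ n) (U M : Subgroup G) [U.Normal] (hU : Cfsg.IsElementaryAbelian 2 U) (hUcard : Nat.card ↥U = 2 ^ (n + 1)) (hUM : U ⊓ M = ⊥) (hUM' : U ⊔ M = ⊤) (hfaith : ∀ m ∈ M, (∀ u ∈ U, m * u * m⁻¹ = u) → m = 1) (hfull : ∀ φ : ↥U ≃* ↥U, ∃ m ∈ M, ∀ u : ↥U, ((φ u : ↥U) : G) = m * u * m⁻¹) (Z : Subgroup G) (hZU : Z ≤ U) (hZ : Nat.card ↥Z = 2) (Q : Subgroup G) (hQ : Q = (Cfsg.pCore 2 ↥(Subgroup.centralizer (Z : Set G))).map (Subgroup.centralizer (Z : Set G)).subtype) : Cfsg.IsExtraspecial 2 ↥Q ∧ Nat.card ↥Q = 2 ^ (2 * n + 1) ∧ (∃ E : Subgroup G, E ≤ Q ∧ Cfsg.IsElementaryAbelian 2 E ∧ Nat.card ↥E = 2 ^ (n + 1)) ∧ Cfsg.IsLargeExtraspecial Q ∧ ∃ K : Subgroup G, K ≤ Subgroup.centralizer (Z : Set G) ∧ Q ⊓ K = ⊥ ∧ Q ⊔ K = Subgroup.centralizer (Z : Set G) ∧ Nonempty (↥K ≃* Matrix.GeneralLinearGroup (Fin n) (ZMod 2)) := by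
  classical
  -- the generator of `Z`
  obtain ⟨z, hzZ, hz1⟩ : ∃ z ∈ Z, z ≠ 1 := by
    obtain ⟨x, y, hxy, -⟩ := Nat.card_eq_two_iff.mp hZ
    by_cases hx : (x : G) = 1
    · refine ⟨y, y.2, fun hy => hxy ?_⟩
      exact Subtype.ext (hx.trans hy.symm)
    · exact ⟨x, x.2, hx⟩
  have hZiff : ∀ x, x ∈ Z ↔ x = 1 ∨ x = z := by
    intro x
    constructor
    · intro hx
      by_cases hx1 : x = 1
      · left; exact hx1
      · right; exact eq_of_card_two hZ hx hzZ hx1 hz1
    · rintro (rfl | rfl)
      · exact Z.one_mem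
      · exact hzZ
  -- the context
  have hctx : HolCtx U M z :=
    { Unorm := fun g u hu => ‹U.Normal›.conj_mem u hu g
      Ucomm := fun u hu v hv => by
        have := hU.1.is_comm.comm ⟨u, hu⟩ ⟨v, hv⟩
        exact congrArg Subtype.val this
      Usq := fun u hu => by
        have := hU.2 u hu
        rwa [pow_two] at this
      inf := fun x hxU hxM => by
        have : x ∈ U ⊓ M := ⟨hxU, hxM⟩
        rw [hUM, Subgroup.mem_bot] at this
        exact this
      sup := fun g => by
        have hg : g ∈ ((U ⊔ M : Subgroup G) : Set G) := by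
          rw [hUM']; exact Set.mem_univ g
        rw [Subgroup.normal_mul] at hg
        obtain ⟨u, hu, m, hm, rfl⟩ := Set.mem_mul.mp hg
        exact ⟨u, hu, m, hm, rfl⟩
      faith := hfaith
      full := hfull
      zU := hZU hzZ
      z1 := hz1 }
  -- `U` is strictly bigger than `Z`
  have hU4 : ∃ x ∈ U, x ∉ Z := by
    by_contra hcon
    push_neg at hcon
    have hUZ : U ≤ Z := hcon
    have h1 : Nat.card ↥U ≤ Nat.card ↥Z := Nat.card_le_card_of_injective (Subgroup.inclusion hUZ)
      (Subgroup.inclusion_injective hUZ)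
    rw [hUcard, hZ] at h1
    have h2 : 2 ^ 2 ≤ 2 ^ (n + 1) := Nat.pow_le_pow_right (by norm_num) (by omega)
    omega
  have hQT : Q = hctx.T := by
    rw [hQ]
    exact hctx.core_eq_T Z hZiff hU4
  have hzT : z ∈ hctx.T := hctx.U_le_T hctx.zU
  -- extraspecial
  have hextra : Cfsg.IsExtraspecial 2 ↥hctx.T := by
    obtain ⟨x, hxU, hxZ⟩ := hU4
    obtain ⟨m, _, hmT, hmx⟩ := hctx.exists_moving Z hZiff hxU hxZ
    refine isExtraspecial_of_data hctx.T z hzT hz1 hctx.T_isPGroup ?_ ?_ ?_ ?_ ?_
    · intro y _ hy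
      exact hctx.T_center Z hZiff hy
    · intro d hd
      exact hctx.T_comm_z hd
    · intro a ha b hb
      exact hctx.T_comm ha hb
    · intro a ha
      exact hctx.T_sq ha
    · refine ⟨m, hmT, x, hctx.U_le_T hxU, ?_⟩
      intro hc
      have : m * x * m⁻¹ = x := by rw [hc]; group
      rw [this] at hmx
      exact hctx.mul_z_ne x hmx.symm
  have hcardT : Nat.card ↥hctx.T = 2 ^ (2 * n + 1) := hctx.card_T Z hZiff n hUcard
  -- centralizer of `T`
  have hcentT : ∀ x : G, (∀ t ∈ hctx.T, t * x = x * t) → x = 1 ∨ x = z :=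
    fun x hx => hctx.T_center Z hZiff hx
  have hcenter_map : ∀ x : G, x ∈ (Subgroup.center ↥hctx.T).map hctx.T.subtype ↔ x = 1 ∨ x = z := by
    intro x
    rw [mem_center_map_iff]
    constructor
    · rintro ⟨_, hx⟩
      exact hcentT x hx
    · rintro (rfl | rfl)
      · exact ⟨Subgroup.one_mem _, fun q _ => by rw [mul_one, one_mul]⟩
      · exact ⟨hzT, fun q hq => hctx.T_comm_z hq⟩
  subst hQT
  refine ⟨hextra, hcardT, ⟨U, hctx.U_le_T, hU, hUcard⟩, ⟨hextra, ?_, ?_, ?_⟩, ?_⟩
  · -- `C_G(T) = Z(T)`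
    ext x
    rw [hcenter_map, Subgroup.mem_centralizer_iff]
    constructor
    · intro hx
      exact hcentT x (fun t ht => hx t ht)
    · rintro (rfl | rfl)
      · intro t _; rw [mul_one, one_mul]
      · intro t ht; exact hctx.T_comm_z ht
  · -- `C_G(Z(T)) ≤ N_G(T)`
    intro c hc
    rw [Subgroup.mem_centralizer_iff] at hc
    have hcz : c * z = z * c := (hc z ((hcenter_map z).mpr (Or.inr rfl))).symm
    have hc'z : c⁻¹ * z = z * c⁻¹ := by
      calc c⁻¹ * z = c⁻¹ * (z * c) * c⁻¹ := by group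
        _ = c⁻¹ * (c * z) * c⁻¹ := by rw [hcz]
        _ = z * c⁻¹ := by group
    rw [Subgroup.mem_normalizer_iff]
    intro t
    constructor
    · intro ht
      exact hctx.conj_mem_T hcz ht
    · intro ht
      have := hctx.conj_mem_T hc'z ht
      rw [inv_inv] at this
      have e : c⁻¹ * (c * t * c⁻¹) * c = t := by group
      rwa [e] at this
  · -- no odd-order subgroup normalized by `T`
    intro K hKodd hTK
    haveI : Fact (Nat.Prime 2) := ⟨Nat.prime_two⟩
    have hU2 : IsPGroup 2 ↥U := by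
      apply IsPGroup.of_card (n := n + 1) hUcard
    apply eq_bot_of_odd_of_normalizes hU2 hKodd (le_trans hctx.U_le_T hTK)
    · intro k _
      rw [Subgroup.mem_normalizer_iff]
      intro u
      constructor
      · intro hu
        exact hctx.Unorm k u hu
      · intro hu
        have := hctx.Unorm' k hu
        have e : k⁻¹ * (k * u * k⁻¹) * k = u := by group
        rwa [e] at this
    · intro x hx
      rw [Subgroup.mem_centralizer_iff] at hx
      exact hctx.cent_U (fun u hu => (hx u hu).symm)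
  · exact hctx.exists_complement Z hZiff n hUcard

end Cfsg.Agent.S5423
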