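-- Statement S5425 (Cfsg.spor2_mathieu_octad_involution_large_extraspecial).
import Cfsg.Statements.S5425
import Cfsg.Agent.Helper90.M24Hol
import Cfsg.Agent.Helper90.SLPoint

set_option autoImplicit false
open Cfsg

namespace Cfsg.Agent.S5425

open Cfsg.Agent.Helper90 Cfsg.Agent.Helper26

/-- In the Mathieu group of degree 24 (the automorphism group of the length-24 binary Golay code, acting on the 24 coordinates), let z be an involution whose fixed points form an octad (the support of a code word of weight 8), and let Q be the largest normal 2-subgroup of the centralizer C of z. Then Q is extraspecial of order 2^7 with an elementary abelian subgroup of order 16 (plus type), Q is a large extraspecial 2-subgroup, and C is the split extension of Q by the special linear group of degree 3 over the field with two elements. -/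
theorem result (z : ↥Cfsg.M24) (hz : orderOf z = 2) (hfix : (Finset.univ.filter fun p : Cfsg.GolayPt => (z : Equiv.Perm Cfsg.GolayPt) p = p) ∈ Cfsg.octads) (Q : Subgroup ↥Cfsg.M24) (hQ : Q = (Cfsg.pCore 2 ↥(Subgroup.centralizer ({z} : Set ↥Cfsg.M24))).map (Subgroup.centralizer ({z} : Set ↥Cfsg.M24)).subtype) : Cfsg.IsExtraspecial 2 ↥Q ∧ Nat.card ↥Q = 2 ^ 7 ∧ (∃ E : Subgroup ↥Cfsg.M24, E ≤ Q ∧ Cfsg.IsElementaryAbelian 2 E ∧ Nat.card ↥E = 2 ^ 4) ∧ Cfsg.IsLargeExtraspecial Q ∧ ∃ K : Subgroup ↥Cfsg.M24, K ≤ Subgroup.centralizer ({z} : Set ↥Cfsg.M24) ∧ Q ⊓ K = ⊥ ∧ Q ⊔ K = Subgroup.centralizer ({z} : Set ↥Cfsg.M24) ∧ Nonempty (↥K ≃* Matrix.SpecialLinearGroup (Fin 3) (ZMod 2)) := by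
  classical
  have hcard24 : (Finset.univ : Finset Cfsg.GolayPt).card = 24 := by
    simp [Cfsg.GolayPt]
  obtain ⟨p, _, hp⟩ : ∃ p ∈ (Finset.univ : Finset Cfsg.GolayPt),
      p ∉ (Finset.univ.filter fun p : Cfsg.GolayPt => (z : Equiv.Perm Cfsg.GolayPt) p = p) := by
    apply Finset.exists_mem_notMem_of_card_lt_card
    rw [hfix.2, hcard24]
    norm_num
  have hzK : (z : Equiv.Perm Cfsg.GolayPt)
      ∈ octK (Finset.univ.filter fun p : Cfsg.GolayPt => (z : Equiv.Perm Cfsg.GolayPt) p = p) :=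
    mem_octK_iff.2 ⟨z.2, fun x hx => (Finset.mem_filter.1 hx).2⟩
  have hz1 : z ≠ 1 := by
    intro h
    rw [h, orderOf_one] at hz
    omega
  have hrel := holRel_M24 hfix hp z hzK hz1
  have hcardU : Nat.card ↥((octK (Finset.univ.filter fun p : Cfsg.GolayPt =>
      (z : Equiv.Perm Cfsg.GolayPt) p = p)).subgroupOf Cfsg.M24) = 2 ^ (3 + 1) := by
    rw [← card_octK hfix]
    exact Nat.card_congr (Subgroup.subgroupOfEquivOfLe
      (inf_le_left : octK (Finset.univ.filter fun p : Cfsg.GolayPt =>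
        (z : Equiv.Perm Cfsg.GolayPt) p = p) ≤ Cfsg.M24)).toEquiv
  obtain ⟨h1, h2, h3, h4, K, hK1, hK2, hK3, ⟨e⟩⟩ := hrel.main 3 (by norm_num) hcardU Q hQ
  obtain ⟨e'⟩ := gl_equiv_sl_two 3
  exact ⟨h1, h2, h3, h4, K, hK1, hK2, hK3, ⟨e.trans e'⟩⟩

end Cfsg.Agent.S5425
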