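import Cfsg.Statements.S5426
import Cfsg.Agent.Helper90.LgTwo3

set_option autoImplicit false
open Cfsg

namespace Cfsg.Agent.S5426

/-- Let Q be a large extraspecial 2-subgroup of the finite group G (extraspecial; centralizer equal to its centre; normal in the centralizer of its centre; normalizing no non-trivial subgroup of odd order) with centre generated by z, and let M be the normal closure of z in G. Then one of the following holds: Q is normal in G; or M is abelian and the generalized Fitting subgroup of G is its largest normal 2-subgroup; or M is the generalized Fitting subgroup of G and is a non-abelian simple group; or M is the generalized Fitting subgroup of G and is the direct product of a non-abelian simple subgroup L and its conjugate u L u⁻¹ by some u in Q (the two meet trivially and commute elementwise), with z = z₁ (u z₁ u⁻¹) for some z₁ in L whose centralizer in L is a Sylow 2-subgroup of L with Frattini subgroup inside the subgroup generated by z₁, and Q is not the largest normal 2-subgroup of the centralizer of z. -/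
theorem result {G : Type*} [Group G] [Finite G] (Q : Subgroup G) (hQ : Cfsg.IsLargeExtraspecial Q) (z : G) (hz : ((Subgroup.center ↥Q).map Q.subtype) = Subgroup.zpowers z) (M : Subgroup G) (hM : M = Subgroup.normalClosure ({z} : Set G)) : Q.Normal ∨ (IsMulCommutative ↥M ∧ Cfsg.generalizedFittingSubgroup G = Cfsg.pCore 2 G) ∨ (M = Cfsg.generalizedFittingSubgroup G ∧ IsSimpleGroup ↥M ∧ ¬ IsMulCommutative ↥M) ∨ (M = Cfsg.generalizedFittingSubgroup G ∧ ∃ (L : Subgroup G) (u : G), u ∈ Q ∧ IsSimpleGroup ↥L ∧ ¬ IsMulCommutative ↥L ∧ L ⊓ (L).map (MulAut.conj u).toMonoidHom = ⊥ ∧ (∀ x ∈ L, ∀ y ∈ (L).map (MulAut.conj u).toMonoidHom, x * y = y * x) ∧ L ⊔ (L).map (MulAut.conj u).toMonoidHom = M ∧ ∃ z₁ ∈ L, z = z₁ * (u * z₁ * u⁻¹) ∧ (∃ R : Sylow 2 ↥L, (R : Subgroup ↥L) = (Subgroup.centralizer ({z₁} : Set G)).subgroupOf L ∧ (frattini ↥(R : Subgroup ↥L)).map ((L.subtype).comp (R : Subgroup ↥L).subtype) ≤ Subgroup.zpowers z₁) ∧ Q ≠ (Cfsg.pCore 2 ↥(Subgroup.centralizer ({z} : Set G))).map (Subgroup.centralizer ({z} : Set G)).subtype) := by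
  classical
  have hD := Cfsg.Agent.Helper90.lgData_of_large hQ hz
  subst hM
  by_cases hE : Cfsg.layer G = ⊥
  · right; left
    exact hD.case_layer_eq_bot hE
  · obtain ⟨K, hK⟩ : ∃ K : Subgroup G, Cfsg.IsComponent K := by
      by_contra h
      push Not at h
      exact hE (Cfsg.Agent.Helper22.layer_eq_bot_iff.mpr h)
    have hF := hD.fittingSubgroup_eq_bot hK
    obtain ⟨hM1, hM2⟩ := hD.normalClosure_eq_layer hK
    by_cases hmove : ∀ u ∈ Q, K.map (MulAut.conj u).toMonoidHom = K
    · right; right; left
      have hlay : Cfsg.layer G = K := by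
        apply le_antisymm
        · rw [Cfsg.Agent.Helper22.layer_le_iff]
          intro L hL
          obtain ⟨q, hq, rfl⟩ := hD.exists_conj_eq hF hK hL
          rw [hmove q hq]
        · exact Cfsg.Agent.Helper22.IsComponent.le_layer hK
      have hMK : Subgroup.normalClosure ({z} : Set G) = K := hM1.trans hlay
      refine ⟨by rw [hM1, hM2], ?_, ?_⟩
      · rw [hMK]
        exact Cfsg.Agent.Helper90.isSimpleGroup_of_isComponent hF hK
      · rw [hMK]
        exact Cfsg.Agent.Helper90.not_comm_of_isComponent hK
    · push Not at hmove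
      obtain ⟨u, hu, hne⟩ := hmove
      right; right; right
      obtain ⟨h1, h2, h3, h4, h5, h6⟩ := hD.case_two hF hK hu hne
      exact ⟨by rw [hM1, hM2], K, u, hu, h1, h2, h3, h4, by rw [h5, hM1], h6⟩

end Cfsg.Agent.S5426
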