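import Cfsg.Statements.S5427
import Cfsg.Agent.S5421
import Cfsg.Agent.S5422
import Cfsg.Agent.S5426
import Cfsg.Agent.Helper90.LgSetting

set_option autoImplicit false
open Cfsg

namespace Cfsg.Agent.S5427

/-- Let z be an involution of the finite group G whose centralizer C has generalized Fitting subgroup Q, an extraspecial 2-group of width at least 2 (order 2^(2w+1), w ≥ 2). Let K be a subgroup of G such that the subgroup U generated by the K-conjugates of z is abelian and C is generated by the C-conjugates of U. Suppose that either some K-conjugate of z other than z lies in Q, or some element u of U ∩ Q outside the subgroup generated by z has z in the largest normal 2-subgroup of its centralizer. Then G is simple and Q is a large extraspecial 2-subgroup of G. -/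
theorem result {G : Type*} [Group G] [Finite G] (z : G) (hz : orderOf z = 2) (Q : Subgroup G) (hQC : Q ≤ Subgroup.centralizer ({z} : Set G)) (hF : (Cfsg.generalizedFittingSubgroup ↥(Subgroup.centralizer ({z} : Set G))).map (Subgroup.centralizer ({z} : Set G)).subtype = Q) (hQ : Cfsg.IsExtraspecial 2 ↥Q) (w : ℕ) (hw : 2 ≤ w) (hcard : Nat.card ↥Q = 2 ^ (2 * w + 1)) (K U : Subgroup G) (hU : U = Subgroup.closure {x : G | ∃ k ∈ K, x = k * z * k⁻¹}) (hUab : IsMulCommutative ↥U) (hgen : Subgroup.closure {x : G | ∃ c ∈ Subgroup.centralizer ({z} : Set G), ∃ u ∈ U, x = c * u * c⁻¹} = Subgroup.centralizer ({z} : Set G)) (h3 : (∃ k ∈ K, k * z * k⁻¹ ∈ Q ∧ k * z * k⁻¹ ≠ z) ∨ ∃ u ∈ U ⊓ Q, u ∉ Subgroup.zpowers z ∧ (∃ hz' : z ∈ Subgroup.centralizer ({u} : Set G), (⟨z, hz'⟩ : ↥(Subgroup.centralizer ({u} : Set G))) ∈ Cfsg.pCore 2 ↥(Subgroup.centralizer ({u} : Set G)))) : IsSimpleGroup G ∧ Cfsg.IsLargeExtraspecial Q := by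
  classical
  obtain ⟨hzQ, hZ, hL2, hL3, hHN, hO2⟩ := Cfsg.Agent.Helper90.setting_facts z hz Q hF hQ
  have hE := Cfsg.Agent.Helper90.extraData_of_center_eq hQ hZ
  have hzall : ∀ x ∈ Subgroup.zpowers z, x = 1 ∨ x = z := by
    intro x hx
    rw [← hZ] at hx
    exact hE.zall x hx
  -- `Q` is large
  have hlarge : Cfsg.IsLargeExtraspecial Q := by
    rcases h3 with ⟨k, hk, hkQ, hkz⟩ | ⟨u, hu, huz, hz', hzO⟩
    · refine (Cfsg.Agent.S5422.result Q hQ hL2 hL3 w hw hcard k ?_ ?_).2.2
      · rw [hZ]
        intro hkN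
        have h1 : k * z * k⁻¹ ∈ Subgroup.zpowers z :=
          Cfsg.Agent.Helper90.conj_mem_of_mem_normalizer hkN (Subgroup.mem_zpowers z)
        rcases hzall _ h1 with h | h
        · apply hE.z1
          calc z = k⁻¹ * (k * z * k⁻¹) * k := by group
            _ = 1 := by rw [h]; group
        · exact hkz h
      · rw [hZ, MonoidHom.map_zpowers, Subgroup.zpowers_le]
        exact hkQ
    · refine Cfsg.Agent.S5421.result Q hQ hL2 hL3 u hu.2 ?_ ?_ ?_
      · rw [hZ]; exact huz
      · -- `u` is an involution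
        have hsq : ∀ x ∈ U, x * x = 1 := by
          intro x hx
          rw [hU] at hx
          induction hx using Subgroup.closure_induction with
          | mem x hx =>
            obtain ⟨k, -, rfl⟩ := hx
            calc k * z * k⁻¹ * (k * z * k⁻¹) = k * (z * z) * k⁻¹ := by group
              _ = 1 := by rw [hE.zz]; group
          | one => simp
          | mul x y hx hy hxx hyy =>
            have hxU : x ∈ U := by rw [hU]; exact hx
            have hyU : y ∈ U := by rw [hU]; exact hy
            have hc : x * y = y * x :=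
              congrArg Subtype.val (hUab.is_comm.comm ⟨x, hxU⟩ ⟨y, hyU⟩)
            calc x * y * (x * y) = x * (y * x) * y := by group
              _ = x * (x * y) * y := by rw [hc]
              _ = (x * x) * (y * y) := by group
              _ = 1 := by rw [hxx, hyy, one_mul]
          | inv x hx hxx =>
            calc x⁻¹ * x⁻¹ = (x * x)⁻¹ := by group
              _ = 1 := by rw [hxx, inv_one]
        apply orderOf_eq_prime
        · rw [pow_two]; exact hsq u hu.1
        · intro h1
          apply huz
          rw [h1]; exact Subgroup.one_mem _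
      · rw [hZ, Subgroup.zpowers_le]
        exact ⟨⟨z, hz'⟩, hzO, rfl⟩
  refine ⟨?_, hlarge⟩
  have hD := Cfsg.Agent.Helper90.lgData_of_large hlarge hZ
  have hzM : z ∈ Subgroup.normalClosure ({z} : Set G) :=
    Subgroup.subset_normalClosure (Set.mem_singleton z)
  have hMN : (Subgroup.normalClosure ({z} : Set G)).Normal := Subgroup.normalClosure_normal
  have hUM : U ≤ Subgroup.normalClosure ({z} : Set G) := by
    rw [hU, Subgroup.closure_le]
    rintro x ⟨k, -, rfl⟩
    exact hMN.conj_mem z hzM k
  have hCM : Subgroup.centralizer ({z} : Set G) ≤ Subgroup.normalClosure ({z} : Set G) := by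
    rw [← hgen, Subgroup.closure_le]
    rintro x ⟨c, -, u, hu, rfl⟩
    exact hMN.conj_mem u (hUM hu) c
  rcases Cfsg.Agent.S5426.result Q hlarge z hZ _ rfl with
    h | ⟨hab, -⟩ | ⟨-, hsimp, -⟩ | ⟨-, L, u, -, -, -, -, -, -, z₁, -, -, -, hne⟩
  · -- `Q` normal: `z` is central, so `C_G(z) = ⟨z⟩`
    exfalso
    apply Cfsg.Agent.Helper90.not_le_zpowers hz w hw hcard
    have hU' : U ≤ Subgroup.zpowers z := by
      rw [hU, Subgroup.closure_le]
      rintro x ⟨k, -, rfl⟩
      rw [hD.central_of_normal h k]
      exact Subgroup.mem_zpowers z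
    have hC' : Subgroup.centralizer ({z} : Set G) ≤ Subgroup.zpowers z := by
      rw [← hgen, Subgroup.closure_le]
      rintro x ⟨c, -, u, hu, rfl⟩
      rcases hzall u (hU' hu) with h1 | h1
      · rw [h1]; simp
      · rw [h1, hD.central_of_normal h c]
        exact Subgroup.mem_zpowers z
    intro q hq
    apply hC'
    rw [Subgroup.mem_centralizer_singleton_iff]
    exact hE.zc q hq
  · -- `M` abelian
    exfalso
    apply Cfsg.Agent.Helper90.not_le_zpowers hz w hw hcard
    intro q hq
    rw [← hZ, Cfsg.Agent.Helper90.mem_center_map_iff]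
    refine ⟨hq, fun q' hq' => ?_⟩
    have h1 : q ∈ Subgroup.normalClosure ({z} : Set G) :=
      hCM (Subgroup.mem_centralizer_singleton_iff.mpr (hE.zc q hq))
    have h2 : q' ∈ Subgroup.normalClosure ({z} : Set G) :=
      hCM (Subgroup.mem_centralizer_singleton_iff.mpr (hE.zc q' hq'))
    exact congrArg Subtype.val (hab.is_comm.comm ⟨q', h2⟩ ⟨q, h1⟩)
  · -- `M` simple
    have htop := hD.eq_top_of_centralizer_le _ hCM
    haveI : Nontrivial G := ⟨⟨z, 1, hE.z1⟩⟩
    haveI := hsimp
    exact IsSimpleGroup.isSimpleGroup_of_surjective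
      ((Subgroup.normalClosure ({z} : Set G)).subtype)
      (fun g => ⟨⟨g, by rw [htop]; exact Subgroup.mem_top g⟩, rfl⟩)
  · exact absurd hO2 hne

end Cfsg.Agent.S5427
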