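import Cfsg.Statements.S5428
import Cfsg.Agent.Helper90.LgSetting
import Cfsg.Agent.Helper90.LgComp
import Cfsg.Agent.Helper90.LgOdd2
import Cfsg.Agent.Helper90.LgQuot2
import Cfsg.Agent.S0095
import Cfsg.Agent.S5422

set_option autoImplicit false
open Cfsg

namespace Cfsg.Agent.S5428

/-- Let z be an involution of the finite group G whose centralizer C has generalized Fitting subgroup Q extraspecial (as a 2-group), let A be a subgroup of C of odd order, and let R be the centralizer of A in Q; suppose R has order at least 32, the largest normal subgroup of odd order of the centralizer of the subgroup generated by A and R lies in A, the order of that centralizer is not divisible by 4, and g is an element of G with g z g⁻¹ in R but outside the centre Z of Q. Let M be the subgroup generated by A and the centralizer of A (A is normal in it). Then: the centralizer in M of the subgroup generated by R and A, joined with A, equals the subgroup generated by A and Z; the image of R in M/A is a large extraspecial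 2-subgroup of M/A; and g z g⁻¹ is conjugate to z inside the subgroup generated by R and the centralizer of A in g Q g⁻¹. -/
theorem result {G : Type*} [Group G] [Finite G] (z : G) (hz : orderOf z = 2) (Q : Subgroup G) (hQC : Q ≤ Subgroup.centralizer ({z} : Set G)) (hF : (Cfsg.generalizedFittingSubgroup ↥(Subgroup.centralizer ({z} : Set G))).map (Subgroup.centralizer ({z} : Set G)).subtype = Q) (hQ : Cfsg.IsExtraspecial 2 ↥Q) (A : Subgroup G) (hA : A ≤ Subgroup.centralizer ({z} : Set G)) (hAodd : Odd (Nat.card ↥A)) (R : Subgroup G) (hR : R = Q ⊓ Subgroup.centralizer (A : Set G)) (hR32 : 32 ≤ Nat.card ↥R) (hO : (Cfsg.oddCore ↥(Subgroup.centralizer ((A ⊔ R : Subgroup G) : Set G))).map (Subgroup.centralizer ((A ⊔ R : Subgroup G) : Set G)).subtype ≤ A) (h4 : ¬ 4 ∣ Nat.card ↥(Subgroup.centralizer ((A ⊔ R : Subgroup G) : Set G))) (g : G) (hgR : g * z * g⁻¹ ∈ R) (hgZ : g * z * g⁻¹ ∉ ((Subgroup.center ↥Q).map Q.subtype)) (M : Subgroup G) (hM : M = Subgroup.centralizer (A : Set G) ⊔ A) [hn : (A.subgroupOf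 M).Normal] : (M ⊓ Subgroup.centralizer ((R ⊔ A : Subgroup G) : Set G)) ⊔ A = A ⊔ ((Subgroup.center ↥Q).map Q.subtype) ∧ Cfsg.IsLargeExtraspecial ((R.subgroupOf M).map (QuotientGroup.mk' (A.subgroupOf M))) ∧ ∃ x ∈ R ⊔ ((Q).map (MulAut.conj g).toMonoidHom ⊓ Subgroup.centralizer (A : Set G)), x * (g * z * g⁻¹) * x⁻¹ = z := by
  classical
  have : Fact (Nat.Prime 2) := ⟨Nat.prime_two⟩
  obtain ⟨hzQ, hZ, hL2, hL3, hHN, -⟩ := Cfsg.Agent.Helper90.setting_facts z hz Q hF hQ
  have hE := Cfsg.Agent.Helper90.extraData_of_center_eq hQ hZ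
  have hzall : ∀ x ∈ Subgroup.zpowers z, x = 1 ∨ x = z := by
    intro x hx
    rw [← hZ] at hx
    exact hE.zall x hx
  have hRQ : R ≤ Q := by rw [hR]; exact inf_le_left
  have hRA : R ≤ Subgroup.centralizer (A : Set G) := by rw [hR]; exact inf_le_right
  have hsQ : g * z * g⁻¹ ∈ Q := hRQ hgR
  have hsz : g * z * g⁻¹ ≠ z := fun h => hgZ (by rw [h]; exact hE.zmem)
  have hs1 : g * z * g⁻¹ ≠ 1 := fun h => hgZ (by rw [h]; exact Subgroup.one_mem _)
  -- the order of `Q`
  obtain ⟨w, -, hw⟩ := Cfsg.Agent.S0095.result hQ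
  have hw2 : 2 ≤ w := by
    have h1 : Nat.card ↥R ≤ Nat.card ↥Q := Subgroup.card_le_of_le hRQ
    by_contra hlt
    have h2 : 2 * w + 1 ≤ 3 := by omega
    have h3 : 2 ^ (2 * w + 1) ≤ 2 ^ 3 := Nat.pow_le_pow_right (by norm_num) h2
    rw [hw] at h1
    omega
  -- `Q` is large and `z ∈ Q^g`
  obtain ⟨hZQg, -, hlarge⟩ := Cfsg.Agent.S5422.result Q hQ hL2 hL3 w hw2 hw g
    (by
      rw [hZ]
      intro hkN
      have h1 : g * z * g⁻¹ ∈ Subgroup.zpowers z :=
        Cfsg.Agent.Helper90.conj_mem_of_mem_normalizer hkN (Subgroup.mem_zpowers z)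
      rcases hzall _ h1 with h | h
      · exact hs1 h
      · exact hsz h)
    (by
      rw [hZ, MonoidHom.map_zpowers, Subgroup.zpowers_le]
      exact hsQ)
  have hzg : g⁻¹ * z * g ∈ Q := (Cfsg.Agent.Helper90.mem_map_conj_iff Q g z).mp (hZQg hE.zmem)
  -- the conjugating element
  have hgR' : g * z * g⁻¹ ∈ Q ⊓ Subgroup.centralizer (A : Set G) := by rw [← hR]; exact hgR
  obtain ⟨x, hxmem, hx⟩ :=
    Cfsg.Agent.Helper90.exists_conj_to_z hlarge hE hHN A hA hAodd g hgR' hsz hzg
  -- `R` is extraspecial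
  have hAN : A ≤ Subgroup.normalizer (Q : Set G) := hA.trans hHN
  have hRext : Cfsg.IsExtraspecial 2 ↥R := by
    rw [hR]
    apply Cfsg.Agent.Helper90.isExtraspecial_fix hlarge A hAN hAodd
    rw [← hR]; omega
  have hzA : ∀ a ∈ A, a * z = z * a := fun a ha =>
    Subgroup.mem_centralizer_singleton_iff.mp (hA ha)
  have hzR : z ∈ R := by
    rw [hR]
    refine Subgroup.mem_inf.mpr ⟨hzQ, ?_⟩
    rw [Subgroup.mem_centralizer_iff]
    exact hzA
  have hER : Cfsg.Agent.Helper90.ExtraData R z := by
    obtain ⟨z', hE'⟩ := Cfsg.Agent.Helper90.exists_extraData hRext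
    rcases hE'.cen z hzR (fun q hq => hE.zc q (hRQ hq)) with h | h
    · exact absurd h hE.z1
    · rw [h]; exact hE'
  -- the centralizer of `A ⊔ R`
  have hzX : z ∈ Subgroup.centralizer ((A ⊔ R : Subgroup G) : Set G) := by
    have h1 : A ⊔ R ≤ Subgroup.centralizer ({z} : Set G) := sup_le hA (hRQ.trans hQC)
    rw [Subgroup.mem_centralizer_iff]
    intro h hh
    exact Subgroup.mem_centralizer_singleton_iff.mp (h1 hh)
  have hX : Subgroup.centralizer ((A ⊔ R : Subgroup G) : Set G) ≤ A ⊔ Subgroup.zpowers z :=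
    Cfsg.Agent.Helper90.le_sup_zpowers_of_not_four_dvd _ A z hz hzX h4 hO
  have hCAM : Subgroup.centralizer (A : Set G) ≤ M := by rw [hM]; exact le_sup_left
  have hAM : A ≤ M := by rw [hM]; exact le_sup_right
  have hRM : R ≤ M := hRA.trans hCAM
  have hcommCA : ∀ c ∈ Subgroup.centralizer (A : Set G), ∀ a ∈ A, c * a = a * c := by
    intro c hc a ha
    exact (Subgroup.mem_centralizer_iff.mp hc a ha).symm
  have hcommAZ : ∀ a ∈ A, ∀ u ∈ Subgroup.zpowers z, a * u = u * a := by
    intro a ha u hu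
    rcases hzall u hu with rfl | rfl
    · simp
    · exact hzA a ha
  refine ⟨?_, ?_, ?_⟩
  · -- the first claim
    rw [hZ]
    apply le_antisymm
    · apply sup_le _ le_sup_left
      intro y hy
      have h1 : y ∈ Subgroup.centralizer ((A ⊔ R : Subgroup G) : Set G) := by
        rw [sup_comm]; exact hy.2
      exact hX h1
    · apply sup_le le_sup_right
      rw [Subgroup.zpowers_le]
      apply Subgroup.mem_sup_left
      refine Subgroup.mem_inf.mpr ⟨hRM hzR, ?_⟩
      rw [sup_comm]; exact hzX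
  · -- the second claim
    have hxCA : x ∈ Subgroup.centralizer (A : Set G) := by
      have h1 : R ⊔ ((Q).map (MulAut.conj g).toMonoidHom ⊓ Subgroup.centralizer (A : Set G)) ≤
          Subgroup.centralizer (A : Set G) := sup_le hRA inf_le_right
      rw [← hR] at hxmem
      exact h1 hxmem
    have hxz' : x⁻¹ * z * x⁻¹⁻¹ = g * z * g⁻¹ := by
      calc x⁻¹ * z * x⁻¹⁻¹ = x⁻¹ * (x * (g * z * g⁻¹) * x⁻¹) * x⁻¹⁻¹ := by rw [hx]
        _ = g * z * g⁻¹ := by group
    apply Cfsg.Agent.Helper90.large_subgroupOf_map_mk M A R z hAM hRM hRext hER hAodd hR32 ?_ ?_ x⁻¹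
      (M.inv_mem (hCAM hxCA)) (by rw [hxz']; exact hgR) (by rw [hxz']; exact hsz)
    · -- elements centralizing `R` modulo `A`
      intro m hm hmr
      rw [hM] at hm
      obtain ⟨c, hc, a, ha, rfl⟩ := Cfsg.Agent.Helper90.exists_mul_of_mem_sup_of_comm hcommCA hm
      have hcr : ∀ r ∈ R, c * r * c⁻¹ = r := by
        intro r hr
        obtain ⟨k, hk⟩ := Cfsg.Agent.Helper90.exists_pow_eq_one_of_isPGroup hRext.1.1 hr
        have har : a * r = r * a := Subgroup.mem_centralizer_iff.mp (hRA hr) a ha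
        have h1 : c * r * c⁻¹ * r⁻¹ ∈ A := by
          have h2 := hmr r hr
          have e : (c * a) * r * (c * a)⁻¹ * r⁻¹ = c * r * c⁻¹ * r⁻¹ := by
            calc (c * a) * r * (c * a)⁻¹ * r⁻¹ = c * (a * r) * a⁻¹ * c⁻¹ * r⁻¹ := by group
              _ = c * (r * a) * a⁻¹ * c⁻¹ * r⁻¹ := by rw [har]
              _ = c * r * c⁻¹ * r⁻¹ := by group
          rwa [e] at h2
        exact Cfsg.Agent.Helper90.conj_eq_of_comm_mem_odd hAodd k hk h1
          (Subgroup.mem_centralizer_iff.mp (hRA hr) _ h1)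
      have hcX : c ∈ Subgroup.centralizer ((A ⊔ R : Subgroup G) : Set G) := by
        have h1 : A ≤ Subgroup.centralizer ({c} : Set G) := fun a' ha' =>
          Subgroup.mem_centralizer_singleton_iff.mpr (Subgroup.mem_centralizer_iff.mp hc a' ha')
        have h2 : R ≤ Subgroup.centralizer ({c} : Set G) := by
          intro r hr
          rw [Subgroup.mem_centralizer_singleton_iff]
          have h3 := hcr r hr
          calc r * c = (c * r * c⁻¹) * c := by rw [h3]
            _ = c * r := by group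
        rw [Subgroup.mem_centralizer_iff]
        intro h hh
        exact Subgroup.mem_centralizer_singleton_iff.mp (sup_le h1 h2 hh)
      obtain ⟨a', ha', u, hu, rfl⟩ :=
        Cfsg.Agent.Helper90.exists_mul_of_mem_sup_of_comm hcommAZ (hX hcX)
      have haz : a * z = z * a := hzA a ha
      rcases hzall u hu with h | h
      · left
        rw [h, mul_one]
        exact A.mul_mem ha' ha
      · right
        rw [h]
        have e : a' * z * a * z = a' * a := by
          calc a' * z * a * z = a' * (z * a) * z := by group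
            _ = a' * (a * z) * z := by rw [haz]
            _ = a' * a * (z * z) := by group
            _ = a' * a := by rw [hE.zz, mul_one]
        rw [e]
        exact A.mul_mem ha' ha
    · -- elements centralizing `z` modulo `A`
      intro m hm hmz r hr
      rw [hM] at hm
      obtain ⟨c, hc, a, ha, rfl⟩ := Cfsg.Agent.Helper90.exists_mul_of_mem_sup_of_comm hcommCA hm
      have haz : a * z = z * a := hzA a ha
      have har : a * r = r * a := Subgroup.mem_centralizer_iff.mp (hRA hr) a ha
      have h1 : c * z * c⁻¹ * z⁻¹ ∈ A := by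
        have e : (c * a) * z * (c * a)⁻¹ * z⁻¹ = c * z * c⁻¹ * z⁻¹ := by
          calc (c * a) * z * (c * a)⁻¹ * z⁻¹ = c * (a * z) * a⁻¹ * c⁻¹ * z⁻¹ := by group
            _ = c * (z * a) * a⁻¹ * c⁻¹ * z⁻¹ := by rw [haz]
            _ = c * z * c⁻¹ * z⁻¹ := by group
        rwa [e] at hmz
      have h2 : c * z * c⁻¹ = z :=
        Cfsg.Agent.Helper90.conj_eq_of_comm_mem_odd hAodd 1 (by rw [pow_one, pow_two, hE.zz]) h1
          (hzA _ h1)
      have hcz : c ∈ Subgroup.centralizer ({z} : Set G) := by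
        rw [Subgroup.mem_centralizer_singleton_iff]
        calc c * z = (c * z * c⁻¹) * c := by group
          _ = z * c := by rw [h2]
      have e : (c * a) * r * (c * a)⁻¹ = c * r * c⁻¹ := by
        calc (c * a) * r * (c * a)⁻¹ = c * (a * r) * a⁻¹ * c⁻¹ := by group
          _ = c * (r * a) * a⁻¹ * c⁻¹ := by rw [har]
          _ = c * r * c⁻¹ := by group
      rw [e, hR]
      refine Subgroup.mem_inf.mpr
        ⟨Cfsg.Agent.Helper90.conj_mem_of_mem_normalizer (hHN hcz) (hRQ hr), ?_⟩
      exact Subgroup.mul_mem _ (Subgroup.mul_mem _ hc (hRA hr)) (Subgroup.inv_mem _ hc)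
  · -- the third claim
    rw [hR]
    exact ⟨x, hxmem, hx⟩

end Cfsg.Agent.S5428
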