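import Cfsg.Statements.S5429
import Cfsg.Agent.Helper90.LgSetting
import Cfsg.Agent.Helper90.LgTwo
import Cfsg.Agent.Helper90.LgInv2
import Cfsg.Agent.Helper90.LgQuotT2
import Cfsg.Agent.S5422

set_option autoImplicit false
open Cfsg

namespace Cfsg.Agent.S5429

/-- Let z be an involution of the finite group G with centralizer C whose generalized Fitting subgroup Q is extraspecial of width at least 3 (order 2^(2w+1), w ≥ 3); let g be an element of G with g z g⁻¹ in Q but outside the centre Z of Q, and t an involution lying in both Q and g Q g⁻¹ that is not conjugate to z; write P for the centralizer of t in Q and suppose that the elements of C acting trivially by conjugation on P modulo the subgroup generated by t and z are exactly the elements of Q. Then the image of P in the centralizer of t modulo the subgroup generated by t is a large extraspecial 2-subgroup there, and g z g⁻¹ is conjugate to z inside the subgroup generated by P and the centralizer of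 t in g Q g⁻¹. -/
theorem result {G : Type*} [Group G] [Finite G] (z : G) (hz : orderOf z = 2) (Q : Subgroup G) (hQC : Q ≤ Subgroup.centralizer ({z} : Set G)) (hF : (Cfsg.generalizedFittingSubgroup ↥(Subgroup.centralizer ({z} : Set G))).map (Subgroup.centralizer ({z} : Set G)).subtype = Q) (hQ : Cfsg.IsExtraspecial 2 ↥Q) (w : ℕ) (hw : 3 ≤ w) (hcard : Nat.card ↥Q = 2 ^ (2 * w + 1)) (g : G) (hgQ : g * z * g⁻¹ ∈ Q) (hgZ : g * z * g⁻¹ ∉ ((Subgroup.center ↥Q).map Q.subtype)) (t : G) (ht : orderOf t = 2) (htQ : t ∈ Q ⊓ (Q).map (MulAut.conj g).toMonoidHom) (htz : ¬ IsConj z t) (P : Subgroup G) (hP : P = Q ⊓ Subgroup.centralizer ({t} : Set G)) (hCP : ∀ c ∈ Subgroup.centralizer ({z} : Set G), (∀ x ∈ P, ∃ y ∈ Subgroup.closure ({t, z} : Set G), c * x * c⁻¹ = x * y) ↔ c ∈ Q) [hn : ((Subgroup.zpowers t).subgroupOf (Subgroup.centralizer ({t} : Set G))).Normal] : Cfsg.IsLargeExtraspecial ((P.subgroupOf (Subgroup.centralizer ({t} : Set G))).map (QuotientGroup.mk' ((Subgroup.zpowers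 t).subgroupOf (Subgroup.centralizer ({t} : Set G))))) ∧ ∃ x ∈ P ⊔ ((Q).map (MulAut.conj g).toMonoidHom ⊓ Subgroup.centralizer ({t} : Set G)), x * (g * z * g⁻¹) * x⁻¹ = z := by
  classical
  have : Fact (Nat.Prime 2) := ⟨Nat.prime_two⟩
  obtain ⟨hzQ, hZ, hL2, hL3, hHN, -⟩ := Cfsg.Agent.Helper90.setting_facts z hz Q hF hQ
  have hE := Cfsg.Agent.Helper90.extraData_of_center_eq hQ hZ
  have hzall : ∀ x ∈ Subgroup.zpowers z, x = 1 ∨ x = z := by
    intro x hx
    rw [← hZ] at hx
    exact hE.zall x hx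
  have hsz : g * z * g⁻¹ ≠ z := fun h => hgZ (by rw [h]; exact hE.zmem)
  have hs1 : g * z * g⁻¹ ≠ 1 := fun h => hgZ (by rw [h]; exact Subgroup.one_mem _)
  -- `z ∈ Q^g`
  obtain ⟨hZQg, -, -⟩ := Cfsg.Agent.S5422.result Q hQ hL2 hL3 w (by omega) hcard g
    (by
      rw [hZ]
      intro hkN
      have h1 : g * z * g⁻¹ ∈ Subgroup.zpowers z :=
        Cfsg.Agent.Helper90.conj_mem_of_mem_normalizer hkN (Subgroup.mem_zpowers z)
      rcases hzall _ h1 with h | h
      · exact hs1 h
      · exact hsz h)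
    (by
      rw [hZ, MonoidHom.map_zpowers, Subgroup.zpowers_le]
      exact hgQ)
  have hzg : g⁻¹ * z * g ∈ Q := (Cfsg.Agent.Helper90.mem_map_conj_iff Q g z).mp (hZQg hE.zmem)
  -- facts on `t`
  have htt : t * t = 1 := by rw [← pow_two, ← ht, pow_orderOf_eq_one]
  have ht1 : t ≠ 1 := by
    intro h
    rw [h, orderOf_one] at ht
    omega
  have htQ' : t ∈ Q := htQ.1
  have htQg : g⁻¹ * t * g ∈ Q := (Cfsg.Agent.Helper90.mem_map_conj_iff Q g t).mp htQ.2
  have hnc : ∀ c : G, c * z * c⁻¹ ≠ t := by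
    intro c h
    apply htz
    rw [isConj_iff]
    exact ⟨c, h⟩
  have htz' : t ≠ z := by
    intro h
    apply hnc 1
    rw [h]; group
  have hzt : t * z = z * t := hE.zc t htQ'
  -- the conjugating element
  obtain ⟨x, hxmem, hx⟩ := hE.exists_conj_to_z_inv t g htt ht1 htQ' htQg hnc hgQ hsz hzg
  refine ⟨?_, ?_⟩
  swap
  · rw [hP]; exact ⟨x, hxmem, hx⟩
  -- the first claim
  have hPQ : P ≤ Q := by rw [hP]; exact inf_le_left
  have hPC : P ≤ Subgroup.centralizer ({t} : Set G) := by rw [hP]; exact inf_le_right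
  have hPt : ∀ p ∈ P, p * t = t * p := fun p hp =>
    Subgroup.mem_centralizer_singleton_iff.mp (hPC hp)
  have htC : t ∈ Subgroup.centralizer ({t} : Set G) :=
    Subgroup.mem_centralizer_singleton_iff.mpr rfl
  have hzP : z ∈ P := by
    rw [hP]
    exact Subgroup.mem_inf.mpr ⟨hzQ, Subgroup.mem_centralizer_singleton_iff.mpr hzt.symm⟩
  have hcardP : 64 ≤ Nat.card ↥P := by
    have h1 := hE.card_fix_inv htQ' ht1 htz'
    rw [← hP, hcard] at h1
    have h2 : 2 ^ 7 ≤ 2 ^ (2 * w + 1) := Nat.pow_le_pow_right (by norm_num) (by omega)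
    omega
  -- no conjugate of `z` is `z t`
  have hnc2 : ∀ c : G, c * z * c⁻¹ ≠ z * t := by
    intro c h
    obtain ⟨y, -, hyt⟩ := hE.exists_conj_inv htQ' ht1 htz'
    apply hnc (y⁻¹ * c)
    calc y⁻¹ * c * z * (y⁻¹ * c)⁻¹ = y⁻¹ * (c * z * c⁻¹) * y := by group
      _ = y⁻¹ * (y * t * y⁻¹) * y := by rw [h, hyt]
      _ = t := by group
  -- elements of `C(t)` centralizing `z` modulo `⟨t⟩` centralize `z`
  have hCz : ∀ m : G, (m * z * m⁻¹ * z⁻¹ = 1 ∨ m * z * m⁻¹ * z⁻¹ = t) →
      m ∈ Subgroup.centralizer ({z} : Set G) := by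
    intro m hm
    rw [Subgroup.mem_centralizer_singleton_iff]
    rcases hm with h | h
    · calc m * z = (m * z * m⁻¹ * z⁻¹) * (z * m) := by group
        _ = z * m := by rw [h, one_mul]
    · exfalso
      apply hnc2 m
      calc m * z * m⁻¹ = (m * z * m⁻¹ * z⁻¹) * z := by group
        _ = z * t := by rw [h, hzt]
  have hxC : x ∈ Subgroup.centralizer ({t} : Set G) := by
    have h1 : P ⊔ ((Q).map (MulAut.conj g).toMonoidHom ⊓ Subgroup.centralizer ({t} : Set G)) ≤
        Subgroup.centralizer ({t} : Set G) := sup_le hPC inf_le_right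
    rw [← hP] at hxmem
    exact h1 hxmem
  have hxz' : x⁻¹ * z * x⁻¹⁻¹ = g * z * g⁻¹ := by
    calc x⁻¹ * z * x⁻¹⁻¹ = x⁻¹ * (x * (g * z * g⁻¹) * x⁻¹) * x⁻¹⁻¹ := by rw [hx]
      _ = g * z * g⁻¹ := by group
  have hsP : g * z * g⁻¹ ∈ P := by
    rw [hP]
    refine Subgroup.mem_inf.mpr ⟨hgQ, ?_⟩
    rw [Subgroup.mem_centralizer_singleton_iff]
    have h1 : (g⁻¹ * t * g) * z = z * (g⁻¹ * t * g) := hE.zc _ htQg
    calc g * z * g⁻¹ * t = g * (z * (g⁻¹ * t * g)) * g⁻¹ := by group
      _ = g * ((g⁻¹ * t * g) * z) * g⁻¹ := by rw [h1]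
      _ = t * (g * z * g⁻¹) := by group
  apply Cfsg.Agent.Helper90.large_subgroupOf_map_mk_two (Subgroup.centralizer ({t} : Set G)) P z t
    hPC htC ht (hQ.1.1.to_le hPQ) hzP hE.z1 (Ne.symm htz') (fun p hp => hE.zc p (hPQ hp))
    (fun a ha b hb => hE.comm a (hPQ ha) b (hPQ hb)) (fun a ha => hE.sq_mem (hPQ ha))
    (by rw [hP]; exact hE.cen_fix_inv htQ' htt ht1 htz') hcardP ?_ ?_ x⁻¹
    (Subgroup.inv_mem _ hxC) (by rw [hxz']; exact hsP) (by rw [hxz']; exact hs1)
    (by rw [hxz']; exact hnc g) ?_ ?_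
  · -- elements centralizing `P` modulo `⟨t⟩`
    intro m hm hmp
    have hmz : m ∈ Subgroup.centralizer ({z} : Set G) := hCz m (hmp z hzP)
    have hmQ : m ∈ Q := by
      apply (hCP m hmz).mp
      intro p hp
      rcases hmp p hp with h | h
      · refine ⟨1, Subgroup.one_mem _, ?_⟩
        calc m * p * m⁻¹ = (m * p * m⁻¹ * p⁻¹) * p := by group
          _ = p * 1 := by rw [h, one_mul, mul_one]
      · refine ⟨t, Subgroup.subset_closure (by simp), ?_⟩
        calc m * p * m⁻¹ = (m * p * m⁻¹ * p⁻¹) * p := by group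
          _ = p * t := by rw [h, hPt p hp]
    have hmP : m ∈ P := by
      rw [hP]; exact Subgroup.mem_inf.mpr ⟨hmQ, hm⟩
    have hmc : ∀ p ∈ P, p * m = m * p := by
      intro p hp
      rcases hmp p hp with h | h
      · calc p * m = (m * p * m⁻¹ * p⁻¹)⁻¹ * (m * p) := by group
          _ = m * p := by rw [h, inv_one, one_mul]
      · exfalso
        rcases hE.comm m hmQ p (hPQ hp) with h' | h'
        · rw [h'] at h; exact ht1 h.symm
        · rw [h'] at h; exact htz' h.symm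
    have h1 := hE.cen_fix_inv htQ' htt ht1 htz' m (by rw [← hP]; exact hmP)
      (by rw [← hP]; exact hmc)
    exact h1
  · -- elements centralizing `z` modulo `⟨t⟩`
    intro m hm hmz p hp
    have hmz' : m ∈ Subgroup.centralizer ({z} : Set G) := hCz m hmz
    rw [hP]
    refine Subgroup.mem_inf.mpr
      ⟨Cfsg.Agent.Helper90.conj_mem_of_mem_normalizer (hHN hmz') (hPQ hp), ?_⟩
    exact Subgroup.mul_mem _ (Subgroup.mul_mem _ hm (hPC hp)) (Subgroup.inv_mem _ hm)
  · rw [hxz']
    intro h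
    apply hsz
    calc g * z * g⁻¹ = (g * z * g⁻¹ * z⁻¹) * z := by group
      _ = z := by rw [h, one_mul]
  · rw [hxz']
    intro h
    apply hnc2 g
    calc g * z * g⁻¹ = (g * z * g⁻¹ * z⁻¹) * z := by group
      _ = z * t := by rw [h, hzt]

end Cfsg.Agent.S5429
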