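import Cfsg.Statements.S5430
import Cfsg.Agent.Helper90.PairCtx5

set_option autoImplicit false
open Cfsg
open Cfsg.Agent.Helper90

namespace Cfsg.Agent.S5430

/-- Let Q be a large extraspecial 2-subgroup of the finite group G (extraspecial; centralizer equal to its centre; normal in the centralizer of its centre; normalizing no non-trivial subgroup of odd order) with centre generated by z, an involution, of width w ≥ 2 (order 2^(2w+1)); let g be an element outside the centralizer H of z with g z g⁻¹ in Q; write V for the subgroup generated by z and g z g⁻¹, X for the subgroup generated by Q and g Q g⁻¹, R for the subgroup generated by the centralizer of z in g Q g⁻¹ and the centralizer of g z g⁻¹ in Q, and E for the intersection of Q and g Q g⁻¹. Then R is the centralizer of V in X and is the largest normal 2-subgroup of X, and X/R is isomorphic to the symmetric group of degree 3; moreover the normalizer of V is the product of X and the centralizer of V in H, X is normal in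 it, and modulo R it is the direct product of X/R and of the centralizer of V in H modulo R. -/
theorem result {G : Type*} [Group G] [Finite G] (Q : Subgroup G) (hQ : Cfsg.IsLargeExtraspecial Q) (z : G) (hz : ((Subgroup.center ↥Q).map Q.subtype) = Subgroup.zpowers z) (hz2 : orderOf z = 2) (w : ℕ) (hw : 2 ≤ w) (hcard : Nat.card ↥Q = 2 ^ (2 * w + 1)) (g : G) (hgH : g ∉ Subgroup.centralizer ({z} : Set G)) (hgQ : g * z * g⁻¹ ∈ Q) (V X R E : Subgroup G) (hV : V = Subgroup.closure ({z, g * z * g⁻¹} : Set G)) (hX : X = Q ⊔ (Q).map (MulAut.conj g).toMonoidHom) (hR : R = ((Q).map (MulAut.conj g).toMonoidHom ⊓ Subgroup.centralizer ({z} : Set G)) ⊔ (Q ⊓ Subgroup.centralizer ({g * z * g⁻¹} : Set G))) (hE : E = Q ⊓ (Q).map (MulAut.conj g).toMonoidHom) : R = X ⊓ Subgroup.centralizer (V : Set G) ∧ R = (Cfsg.pCore 2 ↥X).map X.subtype ∧ (∃ h : (R.subgroupOf X).Normal, Nonempty (↥X ⧸ R.subgroupOf X ≃* Equiv.Perm (Fin 3))) ∧ Subgroup.normalizer (V : Set G) = X ⊔ (Subgroup.centralizer ({z} : Set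 G) ⊓ Subgroup.centralizer (V : Set G)) ∧ (∀ y ∈ Subgroup.normalizer (V : Set G), ∀ x ∈ X, y * x * y⁻¹ ∈ X) ∧ R ≤ Subgroup.centralizer ({z} : Set G) ⊓ Subgroup.centralizer (V : Set G) ∧ (∀ x ∈ X, ∀ c ∈ Subgroup.centralizer ({z} : Set G) ⊓ Subgroup.centralizer (V : Set G), x * c * x⁻¹ * c⁻¹ ∈ R) ∧ X ⊓ (Subgroup.centralizer ({z} : Set G) ⊓ Subgroup.centralizer (V : Set G)) = R := by
  have hctx := pairCtx_of_large Q hQ z hz hz2 g hgH hgQ
  have hVmem : ∀ x : G, x ∈ V ↔ x = 1 ∨ x = z ∨ x = g * z * g⁻¹ ∨ x = z * (g * z * g⁻¹) := by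
    intro x
    rw [hV, closure_pair_eq hz g]
    exact mem_sup_conj_iff hctx.hEz rfl hgQ x
  have hQQg : ∀ t : G, t * z * t⁻¹ = g * z * g⁻¹ →
      ∀ q ∈ Q, t * q * t⁻¹ ∈ Q.map (MulAut.conj g).toMonoidHom := by
    intro t ht q hq
    rw [mem_map_conj_iff]
    have h1 : (g⁻¹ * t) * z = z * (g⁻¹ * t) := by
      calc (g⁻¹ * t) * z = g⁻¹ * (t * z * t⁻¹) * t := by group
        _ = g⁻¹ * (g * z * g⁻¹) * t := by rw [ht]
        _ = z * (g⁻¹ * t) := by group
    have h2 := conj_mem_of_mem_normalizer (hctx.normQ _ h1) hq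
    have e : g⁻¹ * (t * q * t⁻¹) * g = (g⁻¹ * t) * q * (g⁻¹ * t)⁻¹ := by group
    rw [e]; exact h2
  have h2Q : IsPGroup 2 Q := hQ.1.1.1
  exact hctx.sym3_main hQQg h2Q (h2Q.map _) hVmem hX hR

end Cfsg.Agent.S5430
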