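import Cfsg.Statements.S5432
import Cfsg.Agent.Helper90.HeisOut
import Cfsg.Agent.Helper90.HeisModel
import Cfsg.Agent.S3763
import Cfsg.Agent.S5396

set_option autoImplicit false
open Cfsg

namespace Cfsg.Agent.S5432

/-- Let E be an extraspecial 2-group of order 2^(2n+1), n ≥ 1. If E contains an elementary abelian subgroup of order 2^(n+1) (plus type), then its outer automorphism group is isomorphic to the full isometry group of the hyperbolic quadratic form in dimension 2n over the field with two elements; otherwise (minus type) it is isomorphic to the full isometry group of the elliptic quadratic form in dimension 2n over that field. -/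
theorem result {E : Type*} [Group E] [Finite E] (hE : Cfsg.IsExtraspecial 2 E) (n : ℕ) (hn : 1 ≤ n) (hcard : Nat.card E = 2 ^ (2 * n + 1)) : ((∃ A : Subgroup E, Cfsg.IsElementaryAbelian 2 A ∧ Nat.card ↥A = 2 ^ (n + 1)) → Nonempty (Cfsg.Out E ≃* Cfsg.isometryGroup (ZMod 2) (Cfsg.quadFormPlus n (ZMod 2)))) ∧ ((¬ ∃ A : Subgroup E, Cfsg.IsElementaryAbelian 2 A ∧ Nat.card ↥A = 2 ^ (n + 1)) → Nonempty (Cfsg.Out E ≃* Cfsg.isometryGroup (ZMod 2) (Cfsg.quadFormMinus (n - 1) (ZMod 2) 1 1))) := by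
  classical
  obtain ⟨k, rfl⟩ : ∃ k, n = k + 1 := ⟨n - 1, by omega⟩
  have hck := Cfsg.Agent.S3763.isCK_of_isExtraspecial hE
  obtain ⟨-, hd⟩ := Cfsg.Agent.S3763.rank_dichotomy hE (k + 1) hcard
  have hpow : 2 ^ (k + 1 + 1) = 2 * 2 ^ (k + 1) := by ring
  have hpos : 0 < 2 ^ (k + 1) := by positivity
  have hpow2 : 2 ^ (k + 2) = 2 * 2 ^ (k + 1) := by ring
  constructor
  · rintro ⟨A, hA, hAcard⟩
    have hsq : Cfsg.Agent.Helper2.sqCount E = 2 ^ (2 * (k + 1)) + 2 ^ (k + 1) := by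
      rcases hd with ⟨-, hr⟩ | ⟨hs, -⟩
      · exfalso
        have h1 := hr.1 A hA.1 hA.2
        rw [hAcard] at h1
        omega
      · exact hs
    have hE' := Cfsg.Agent.Helper89.extraspecial_heis k 0
    have hcard' := Cfsg.Agent.Helper89.card_heis k 0
    obtain ⟨-, hd'⟩ := Cfsg.Agent.S3763.rank_dichotomy hE' (k + 1) hcard'
    have hsq' : Cfsg.Agent.Helper2.sqCount (Cfsg.Agent.Helper89.HeisTwo (Cfsg.Agent.Helper89.cocyc k 0)) =
        2 ^ (2 * (k + 1)) + 2 ^ (k + 1) := by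
      rcases hd' with ⟨-, hr⟩ | ⟨hs, -⟩
      · exfalso
        have h1 := hr.1 (Cfsg.Agent.Helper89.plusSub k) (Cfsg.Agent.Helper89.plusSub_elementary k).1
          (Cfsg.Agent.Helper89.plusSub_elementary k).2
        rw [Cfsg.Agent.Helper89.plusSub_card] at h1
        omega
      · exact hs
    obtain ⟨e⟩ := Cfsg.Agent.Helper2.exists_mulEquiv_of_sqCount (Nat.card E) E
      (Cfsg.Agent.Helper89.HeisTwo (Cfsg.Agent.Helper89.cocyc k 0)) hck
      (Cfsg.Agent.S3763.isCK_of_isExtraspecial hE') rfl (hcard'.trans hcard.symm)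
      (hsq.trans hsq'.symm)
    exact ⟨(Cfsg.Agent.Helper90.outCongr (e.trans (Cfsg.Agent.Helper90.heisPlusEquiv k))).trans
      (Cfsg.Agent.Helper90.outHeisEquiv (Cfsg.Agent.Helper90.betaPlus_nondeg k) _
        (Cfsg.Agent.Helper90.betaPlus_self k))⟩
  · intro hno
    have hsq : Cfsg.Agent.Helper2.sqCount E = 2 ^ (2 * (k + 1)) - 2 ^ (k + 1) := by
      rcases hd with ⟨hs, -⟩ | ⟨-, hr⟩
      · exact hs
      · exfalso
        obtain ⟨-, A, hc, he, hAcard⟩ := hr
        exact hno ⟨A, ⟨⟨⟨fun a b => Subtype.ext (hc _ a.2 _ b.2)⟩⟩, he⟩, hAcard⟩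
    have hE' := Cfsg.Agent.Helper89.extraspecial_heis k 1
    have hcard' := Cfsg.Agent.Helper89.card_heis k 1
    obtain ⟨-, hd'⟩ := Cfsg.Agent.S3763.rank_dichotomy hE' (k + 1) hcard'
    have hsq' : Cfsg.Agent.Helper2.sqCount (Cfsg.Agent.Helper89.HeisTwo (Cfsg.Agent.Helper89.cocyc k 1)) =
        2 ^ (2 * (k + 1)) - 2 ^ (k + 1) := by
      rcases hd' with ⟨hs, -⟩ | ⟨-, hr⟩
      · exact hs
      · exfalso
        obtain ⟨-, A, hc, he, hAcard⟩ := hr
        have h1 := Cfsg.Agent.S5396.minus_rank_le k A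
          ⟨⟨⟨fun a b => Subtype.ext (hc _ a.2 _ b.2)⟩⟩, he⟩ hAcard
        omega
    obtain ⟨e⟩ := Cfsg.Agent.Helper2.exists_mulEquiv_of_sqCount (Nat.card E) E
      (Cfsg.Agent.Helper89.HeisTwo (Cfsg.Agent.Helper89.cocyc k 1)) hck
      (Cfsg.Agent.S3763.isCK_of_isExtraspecial hE') rfl (hcard'.trans hcard.symm)
      (hsq.trans hsq'.symm)
    show Nonempty (Cfsg.Out E ≃* Cfsg.isometryGroup (ZMod 2) (Cfsg.quadFormMinus k (ZMod 2) 1 1))
    exact ⟨(Cfsg.Agent.Helper90.outCongr (e.trans (Cfsg.Agent.Helper90.heisMinusEquiv k))).trans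
      (Cfsg.Agent.Helper90.outHeisEquiv (Cfsg.Agent.Helper90.betaMinus_nondeg k) _
        (Cfsg.Agent.Helper90.betaMinus_self k))⟩

end Cfsg.Agent.S5432
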