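-- Statement S5433: Frattini argument for a large extraspecial subgroup.
import Cfsg.Statements.S5433
import Cfsg.Agent.Helper90.Large

set_option autoImplicit false
open Cfsg

namespace Cfsg.Agent.S5433

/-- Let Q be a large extraspecial 2-subgroup of the finite group G (extraspecial; centralizer equal to its centre; normal in the centralizer of its centre; normalizing no non-trivial subgroup of odd order), and L a normal subgroup of G containing Q. Then G is the product of L and the normalizer of Q. -/
theorem result {G : Type*} [Group G] [Finite G] (Q : Subgroup G) (hQ : Cfsg.IsLargeExtraspecial Q) (L : Subgroup G) [L.Normal] (hQL : Q ≤ L) : L ⊔ Subgroup.normalizer (Q : Set G) = ⊤ := by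
  obtain ⟨hL1, hL2, hL3, -⟩ := hQ
  have : Fact (Nat.Prime 2) := ⟨Nat.prime_two⟩
  have hQ2 : IsPGroup 2 Q := hL1.1.1
  have hZcard : Nat.card ((Subgroup.center ↥Q).map Q.subtype) = 2 := by
    rw [Helper90.card_center_map, hL1.2]
  obtain ⟨S, hS⟩ := (hQ2.comap_subtype (K := L)).exists_le_sylow
  have hfr := Sylow.normalizer_sup_eq_top S
  have hT : IsPGroup 2 ((S : Subgroup L).map L.subtype) := S.isPGroup'.map _
  have hQT : Q ≤ (S : Subgroup L).map L.subtype := by
    intro q hq
    refine ⟨⟨q, hQL hq⟩, hS ?_, rfl⟩
    show (⟨q, hQL hq⟩ : L) ∈ Q.subgroupOf L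
    rw [Subgroup.mem_subgroupOf]
    exact hq
  have hN := Helper90.normalizer_le_of_two_group hZcard hL2 hL3 hT hQT
  rw [eq_top_iff, ← hfr, sup_comm]
  exact sup_le_sup le_rfl hN

end Cfsg.Agent.S5433
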