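import Cfsg.Statements.S5435
import Cfsg.Agent.S1183
import Cfsg.Agent.S0206
import Cfsg.Agent.Helper90.D8Sylow
import Cfsg.Agent.Helper90.D8Glue
import Cfsg.Agent.Helper90.FrattiniPow

set_option autoImplicit false
open Cfsg
open Cfsg.Agent.Helper90
open scoped commutatorElement

namespace Cfsg.Agent.S5435

/-- Let L be a finite non-abelian simple group with an involution z whose centralizer R is a Sylow 2-subgroup of L whose Frattini subgroup is the subgroup generated by z. Then R is dihedral of order 8. -/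
theorem result {L : Type*} [Group L] [Finite L] [IsSimpleGroup L] (hL : ¬ IsMulCommutative L) (z : L) (hz : orderOf z = 2) (R : Sylow 2 L) (hR : (R : Subgroup L) = Subgroup.centralizer ({z} : Set L)) (hΦ : (frattini ↥(R : Subgroup L)).map (R : Subgroup L).subtype = Subgroup.zpowers z) : Nonempty (↥(R : Subgroup L) ≃* DihedralGroup 4) := by
  classical
  have : Fact (Nat.Prime 2) := ⟨Nat.prime_two⟩
  have hzz : z * z = 1 := by rw [← pow_two, ← hz, pow_orderOf_eq_one]
  have hz1 : z ≠ 1 := by
    intro h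
    rw [h, orderOf_one] at hz
    norm_num at hz
  have hRC : ∀ x : L, x ∈ (R : Subgroup L) ↔ x * z = z * x := by
    intro x
    rw [hR, Subgroup.mem_centralizer_iff]
    constructor
    · intro h; exact (h z rfl).symm
    · intro h y hy
      rw [Set.mem_singleton_iff] at hy
      subst hy
      exact h.symm
  have h2R : IsPGroup 2 ↥(R : Subgroup L) := R.2
  have hΦmem : ∀ x : ↥(R : Subgroup L), x ∈ frattini ↥(R : Subgroup L) →
      (x : L) = 1 ∨ (x : L) = z := by
    intro x hx
    have : (x : L) ∈ (frattini ↥(R : Subgroup L)).map (R : Subgroup L).subtype := ⟨x, hx, rfl⟩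
    rw [hΦ] at this
    exact (mem_zpowers_of_sq_eq_one hzz _).mp this
  have hsq : ∀ x ∈ (R : Subgroup L), x * x = 1 ∨ x * x = z := by
    intro x hx
    have h1 : (⟨x, hx⟩ : ↥(R : Subgroup L)) ^ 2 ∈ frattini ↥(R : Subgroup L) :=
      pow_prime_mem_frattini h2R _
    have := hΦmem _ h1
    simpa [pow_two] using this
  have hcomm : ∀ x ∈ (R : Subgroup L), ∀ y ∈ (R : Subgroup L),
      x * y * x⁻¹ * y⁻¹ = 1 ∨ x * y * x⁻¹ * y⁻¹ = z := by
    intro x hx y hy
    haveI : Group.IsNilpotent ↥(R : Subgroup L) := h2R.isNilpotent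
    have h1 : ⁅(⟨x, hx⟩ : ↥(R : Subgroup L)), (⟨y, hy⟩ : ↥(R : Subgroup L))⁆ ∈
        frattini ↥(R : Subgroup L) := by
      apply commutator_le_frattini'
      rw [commutator_def]
      exact Subgroup.commutator_mem_commutator (Subgroup.mem_top _) (Subgroup.mem_top _)
    have := hΦmem _ h1
    simpa [commutatorElement_def] using this
  have hwit : (∃ x ∈ (R : Subgroup L), x * x = z) ∨
      ∃ x ∈ (R : Subgroup L), ∃ y ∈ (R : Subgroup L), x * y * x⁻¹ * y⁻¹ = z := by
    by_contra hcon
    push Not at hcon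
    obtain ⟨hc1, hc2⟩ := hcon
    have hle : frattini ↥(R : Subgroup L) ≤ ⊥ := by
      apply frattini_le_of_commutator_pow_mem' (p := 2)
      · intro a b
        rw [Subgroup.mem_bot, commutatorElement_def]
        apply Subtype.ext
        rcases hcomm a a.2 b b.2 with h | h
        · simpa using h
        · exact absurd h (hc2 a a.2 b b.2)
      · intro a
        rw [Subgroup.mem_bot, pow_two]
        apply Subtype.ext
        rcases hsq a a.2 with h | h
        · simpa using h
        · exact absurd h (hc1 a a.2)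
    have hzΦ : z ∈ (frattini ↥(R : Subgroup L)).map (R : Subgroup L).subtype := by
      rw [hΦ]; exact Subgroup.mem_zpowers z
    obtain ⟨w, hw, hwz⟩ := hzΦ
    have hw1 := hle hw
    rw [Subgroup.mem_bot] at hw1
    apply hz1
    rw [← hwz, hw1]
    rfl
  have hnoniso : ∃ g : L, g * z * g⁻¹ ≠ z ∧ (g * z * g⁻¹) * z = z * (g * z * g⁻¹) := by
    by_contra hcon
    push Not at hcon
    have hiso : Cfsg.IsIsolatedInvolution z := by
      refine ⟨hz, fun g hg => ?_⟩
      by_contra hne
      exact hcon g hne hg.eq.symm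
    have h1 := Cfsg.Agent.S1183.result z hiso
    have h2 : Cfsg.pResidual 2 L = ⊤ := pResidual_two_eq_top hL
    have h3 := h1.mp h2
    have h2C : IsPGroup 2 ↥(Subgroup.centralizer ({z} : Set L)) := by
      rintro ⟨x, hx⟩
      have hx' : x ∈ (R : Subgroup L) := by rw [hR]; exact hx
      obtain ⟨k, hk⟩ := h2R ⟨x, hx'⟩
      refine ⟨k, Subtype.ext ?_⟩
      have := congrArg Subtype.val hk
      simpa using this
    have h4 : Cfsg.pResidual 2 ↥(Subgroup.centralizer ({z} : Set L)) = ⊥ :=
      pResidual_two_eq_bot h2C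
    rw [h4] at h3
    have hzmem : z ∈ Subgroup.centralizer ({z} : Set L) := by
      rw [← hR, hRC]
    have hmem : (⟨z, hzmem⟩ : ↥(Subgroup.centralizer ({z} : Set L))) ∈
        (⊥ : Subgroup ↥(Subgroup.centralizer ({z} : Set L))) := by
      rw [h3]; trivial
    rw [Subgroup.mem_bot] at hmem
    exact hz1 (congrArg Subtype.val hmem)
  have hfrat : ∀ d ∈ (R : Subgroup L), d ≠ 1 → d ≠ z →
      ∃ M : Subgroup L, M ≤ (R : Subgroup L) ∧ M.relIndex (R : Subgroup L) = 2 ∧ d ∉ M := by
    intro d hd hd1 hdz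
    have hdΦ : (⟨d, hd⟩ : ↥(R : Subgroup L)) ∉ frattini ↥(R : Subgroup L) := by
      intro h
      rcases hΦmem _ h with h1 | h1
      · exact hd1 h1
      · exact hdz h1
    obtain ⟨M', hM'i, hdM'⟩ := exists_index_two_not_mem h2R hdΦ
    refine ⟨M'.map (R : Subgroup L).subtype, Subgroup.map_subtype_le M', ?_, ?_⟩
    · have e : (M'.map (R : Subgroup L).subtype).subgroupOf (R : Subgroup L) = M' :=
        Subgroup.comap_map_eq_self_of_injective (Subgroup.subtype_injective _) M'
      rw [Subgroup.relIndex, e]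
      exact hM'i
    · rintro ⟨w, hw, hwd⟩
      apply hdM'
      have : w = ⟨d, hd⟩ := Subtype.ext hwd
      rw [← this]
      exact hw
  obtain ⟨x, y, hxx, hx1, hyy, hy1, hxy, hord, hcl⟩ :=
    d8_structure R z hz1 hzz hRC hsq hcomm hwit hnoniso (hom_units_trivial hL) hfrat
  have hx : orderOf x = 2 := orderOf_eq_prime (by rw [pow_two]; exact hxx) hx1
  have hy : orderOf y = 2 := orderOf_eq_prime (by rw [pow_two]; exact hyy) hy1
  obtain ⟨e⟩ := Cfsg.Agent.S0206.result x y hx hy hxy
  rw [hord] at e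
  exact ⟨(MulEquiv.subgroupCongr hcl).trans e⟩

end Cfsg.Agent.S5435
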