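import Cfsg.Statements.S5436
import Cfsg.Agent.S5422
import Cfsg.Agent.S5426
import Cfsg.Agent.Helper53.Heis
import Cfsg.Agent.Helper90.LgSetting

set_option autoImplicit false
open Cfsg

namespace Cfsg.Agent.S5436

/-- Let z be an involution of the finite group G with centralizer H whose generalized Fitting subgroup Q is extraspecial of width at least 2 (order 2^(2w+1), w ≥ 2); suppose some conjugate of z other than z lies in Q, H/Q is a non-abelian simple group, H acts irreducibly by conjugation on Q modulo the subgroup generated by z (the only H-invariant subgroups of Q containing z are that subgroup and Q), and Q is not the subgroup generated by the conjugates of z lying in H. Then G is simple. -/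
theorem result {G : Type*} [Group G] [Finite G] (z : G) (hz : orderOf z = 2) (Q : Subgroup (Subgroup.centralizer ({z} : Set G))) [Q.Normal] (hF : Cfsg.generalizedFittingSubgroup ↥(Subgroup.centralizer ({z} : Set G)) = Q) (hQ : Cfsg.IsExtraspecial 2 ↥Q) (w : ℕ) (hw : 2 ≤ w) (hcard : Nat.card ↥Q = 2 ^ (2 * w + 1)) (hnwc : ∃ g : G, (∃ hq : g * z * g⁻¹ ∈ Subgroup.centralizer ({z} : Set G), (⟨g * z * g⁻¹, hq⟩ : Subgroup.centralizer ({z} : Set G)) ∈ Q) ∧ g * z * g⁻¹ ≠ z) (hsimp : IsSimpleGroup (↥(Subgroup.centralizer ({z} : Set G)) ⧸ Q)) (hna : ¬ IsMulCommutative (↥(Subgroup.centralizer ({z} : Set G)) ⧸ Q)) (hirr : ∀ W : Subgroup (Subgroup.centralizer ({z} : Set G)), W.Normal → W ≤ Q → (W = Q ∨ ∀ x ∈ W, (x : G) ∈ Subgroup.zpowers z)) (hwcl : Subgroup.closure {x : Subgroup.centralizer ({z} : Set G) | IsConj z (x : G)} ≠ Q) : IsSimpleGroup G := by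
  classical
  haveI : Fact (Nat.Prime 2) := ⟨Nat.prime_two⟩
  set Q' : Subgroup G := Q.map (Subgroup.centralizer ({z} : Set G)).subtype with hQ'
  have hF' : (Cfsg.generalizedFittingSubgroup ↥(Subgroup.centralizer ({z} : Set G))).map (Subgroup.centralizer ({z} : Set G)).subtype = Q' := by rw [hF]
  have hQe : Cfsg.IsExtraspecial 2 ↥Q' :=
    Cfsg.Agent.Helper53.isExtraspecial_of_mulEquiv
      (Q.equivMapOfInjective (Subgroup.centralizer ({z} : Set G)).subtype (Subgroup.centralizer ({z} : Set G)).subtype_injective) hQ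
  have hcard' : Nat.card ↥Q' = 2 ^ (2 * w + 1) := by
    rw [← hcard]
    exact (Nat.card_congr (Q.equivMapOfInjective (Subgroup.centralizer ({z} : Set G)).subtype (Subgroup.centralizer ({z} : Set G)).subtype_injective).toEquiv).symm
  obtain ⟨hzQ, hZ, hL2, hL3, hHN, hO2⟩ := Cfsg.Agent.Helper90.setting_facts z hz Q' hF' hQe
  have hE := Cfsg.Agent.Helper90.extraData_of_center_eq hQe hZ
  have hzall : ∀ x ∈ Subgroup.zpowers z, x = 1 ∨ x = z := by
    intro x hx
    rw [← hZ] at hx
    exact hE.zall x hx
  obtain ⟨g, ⟨hq, hgQ⟩, hgz⟩ := hnwc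
  have hgQ' : g * z * g⁻¹ ∈ Q' := ⟨⟨g * z * g⁻¹, hq⟩, hgQ, rfl⟩
  have hgnz : g * z * g⁻¹ ∉ Subgroup.zpowers z := by
    intro h1
    rcases hzall _ h1 with h | h
    · apply hE.z1
      calc z = g⁻¹ * (g * z * g⁻¹) * g := by group
        _ = 1 := by rw [h]; group
    · exact hgz h
  have hlarge : Cfsg.IsLargeExtraspecial Q' := by
    refine (Cfsg.Agent.S5422.result Q' hQe hL2 hL3 w hw hcard' g ?_ ?_).2.2
    · rw [hZ]
      intro hkN
      exact hgnz (Cfsg.Agent.Helper90.conj_mem_of_mem_normalizer hkN (Subgroup.mem_zpowers z))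
    · rw [hZ, MonoidHom.map_zpowers, Subgroup.zpowers_le]
      exact hgQ'
  have hD := Cfsg.Agent.Helper90.lgData_of_large hlarge hZ
  have hmemQ : ∀ x : ↥(Subgroup.centralizer ({z} : Set G)), x ∈ Q ↔ (x : G) ∈ Q' := by
    intro x
    constructor
    · intro hx
      exact ⟨x, hx, rfl⟩
    · rintro ⟨y, hy, hyx⟩
      have : y = x := Subtype.ext hyx
      rwa [← this]
  set M := Subgroup.normalClosure ({z} : Set G) with hM
  have hMN : M.Normal := Subgroup.normalClosure_normal
  have hzM : z ∈ M := Subgroup.subset_normalClosure (Set.mem_singleton z)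
  have hgM : g * z * g⁻¹ ∈ M := hMN.conj_mem z hzM g
  have hWN : (M.subgroupOf (Subgroup.centralizer ({z} : Set G))).Normal := inferInstance
  have hgW : (⟨g * z * g⁻¹, hq⟩ : ↥(Subgroup.centralizer ({z} : Set G))) ∈ M.subgroupOf (Subgroup.centralizer ({z} : Set G)) := by
    rw [Subgroup.mem_subgroupOf]; exact hgM
  rcases Cfsg.Agent.S5426.result Q' hlarge z hZ M rfl with
    h | ⟨hab, hFO⟩ | ⟨-, hsimp', -⟩ | ⟨-, L, u, -, -, -, -, -, -, z₁, -, -, -, hne⟩
  · exact absurd (hD.central_of_normal h g) hgz
  · -- `M` abelian and `F*(G) = O_2(G)`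
    exfalso
    have hMH : M ≤ (Subgroup.centralizer ({z} : Set G)) := by
      intro m hm
      rw [Subgroup.mem_centralizer_singleton_iff]
      exact congrArg Subtype.val (hab.is_comm.comm ⟨m, hm⟩ ⟨z, hzM⟩)
    have hMp : IsPGroup 2 ↥M := by
      have hnil : Group.IsNilpotent ↥M := Cfsg.Agent.Helper29.isNilpotent_of_isMulCommutative _
      have h1 : M ≤ Cfsg.generalizedFittingSubgroup G :=
        (Cfsg.Agent.Lib.le_fittingSubgroup hMN hnil).trans le_sup_right
      rw [hFO] at h1
      exact (Cfsg.Agent.Lib.isPGroup_pCore 2).to_le h1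
    have hWp : IsPGroup 2 ↥(M.subgroupOf (Subgroup.centralizer ({z} : Set G))) := hMp.comap_subtype
    have hWQ : M.subgroupOf (Subgroup.centralizer ({z} : Set G)) ≤ Q := by
      intro x hx
      rw [hmemQ, hO2]
      exact ⟨x, Cfsg.Agent.Lib.le_pCore hWN hWp hx, rfl⟩
    rcases hirr _ hWN hWQ with h1 | h1
    · apply Cfsg.Agent.Helper90.not_le_zpowers hz w hw hcard'
      have hQM : Q' ≤ M := by
        rintro _ ⟨x, hx, rfl⟩
        have hx' : x ∈ M.subgroupOf (Subgroup.centralizer ({z} : Set G)) := by rw [h1]; exact hx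
        exact Subgroup.mem_subgroupOf.mp hx'
      intro q hq
      rw [← hZ, Cfsg.Agent.Helper90.mem_center_map_iff]
      refine ⟨hq, fun q' hq' => ?_⟩
      exact congrArg Subtype.val (hab.is_comm.comm ⟨q', hQM hq'⟩ ⟨q, hQM hq⟩)
    · exact hgnz (h1 _ hgW)
  · -- `M` simple
    haveI := hsimp'
    -- `Q ≤ W`
    have hQW : Q ≤ M.subgroupOf (Subgroup.centralizer ({z} : Set G)) := by
      have hN1 : (M.subgroupOf (Subgroup.centralizer ({z} : Set G)) ⊓ Q).Normal := inferInstance
      rcases hirr _ hN1 inf_le_right with h1 | h1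
      · rw [← h1]; exact inf_le_left
      · exact absurd (h1 _ ⟨hgW, hgQ⟩) hgnz
    have hWn : ((M.subgroupOf (Subgroup.centralizer ({z} : Set G))).map (QuotientGroup.mk' Q)).Normal :=
      Subgroup.Normal.map hWN _ (QuotientGroup.mk'_surjective Q)
    have hHM : (Subgroup.centralizer ({z} : Set G)) ≤ M := by
      rcases hsimp.eq_bot_or_eq_top_of_normal _ hWn with hb | ht
      · exfalso
        have hWQ : M.subgroupOf (Subgroup.centralizer ({z} : Set G)) ≤ Q := by
          have := (Subgroup.map_eq_bot_iff _).mp hb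
          rwa [QuotientGroup.ker_mk'] at this
        set S : Set ↥(Subgroup.centralizer ({z} : Set G)) := {x : ↥(Subgroup.centralizer ({z} : Set G)) | IsConj z (x : G)} with hS
        have hSW : Subgroup.closure S ≤ Q := by
          rw [Subgroup.closure_le]
          intro x hx
          apply hWQ
          rw [Subgroup.mem_subgroupOf]
          obtain ⟨c, hc⟩ := isConj_iff.mp hx
          rw [← hc]
          exact hMN.conj_mem z hzM c
        have hSconj : Group.conjugatesOfSet S = S := by
          ext a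
          rw [Group.mem_conjugatesOfSet_iff]
          constructor
          · rintro ⟨b, hb, hba⟩
            obtain ⟨c, hc⟩ := isConj_iff.mp hba
            have hb' : IsConj z (b : G) := hb
            obtain ⟨d, hd⟩ := isConj_iff.mp hb'
            show IsConj z (a : G)
            rw [isConj_iff]
            refine ⟨(c : G) * d, ?_⟩
            have h1 : ((c * b * c⁻¹ : ↥(Subgroup.centralizer ({z} : Set G))) : G) = (a : G) := congrArg Subtype.val hc
            calc (c : G) * d * z * ((c : G) * d)⁻¹ = (c : G) * (d * z * d⁻¹) * (c : G)⁻¹ := by group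
              _ = (c : G) * (b : G) * (c : G)⁻¹ := by rw [hd]
              _ = (a : G) := by rw [← h1]; rfl
          · intro ha
            exact ⟨a, ha, IsConj.refl a⟩
        have hSN : (Subgroup.closure S).Normal := by
          have : Subgroup.closure S = Subgroup.normalClosure S := by
            unfold Subgroup.normalClosure
            rw [hSconj]
          rw [this]
          exact Subgroup.normalClosure_normal
        have hgS : (⟨g * z * g⁻¹, hq⟩ : ↥(Subgroup.centralizer ({z} : Set G))) ∈ Subgroup.closure S := by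
          apply Subgroup.subset_closure
          show IsConj z (g * z * g⁻¹)
          rw [isConj_iff]
          exact ⟨g, rfl⟩
        rcases hirr _ hSN hSW with h1 | h1
        · exact hwcl h1
        · exact hgnz (h1 _ hgS)
      · have h1 := Subgroup.comap_map_eq (QuotientGroup.mk' Q) (M.subgroupOf (Subgroup.centralizer ({z} : Set G)))
        rw [ht, Subgroup.comap_top, QuotientGroup.ker_mk', sup_eq_left.mpr hQW] at h1
        intro x hx
        have : (⟨x, hx⟩ : ↥(Subgroup.centralizer ({z} : Set G))) ∈ M.subgroupOf (Subgroup.centralizer ({z} : Set G)) := by rw [← h1]; exact Subgroup.mem_top _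
        rw [Subgroup.mem_subgroupOf] at this
        exact this
    have htop := hD.eq_top_of_centralizer_le M hHM
    haveI : Nontrivial G := ⟨⟨z, 1, hE.z1⟩⟩
    exact IsSimpleGroup.isSimpleGroup_of_surjective M.subtype
      (fun x => ⟨⟨x, by rw [htop]; exact Subgroup.mem_top x⟩, rfl⟩)
  · exact absurd hO2 hne

end Cfsg.Agent.S5436
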