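-- Statement S5437: involutions fixing a unique coset, three equivalent forms.
import Cfsg.Statements.S5437

set_option autoImplicit false
open Cfsg

namespace Cfsg.Agent.S5437

theorem mem_map_conj_iff {G : Type*} [Group G] (H : Subgroup G) (g x : G) :
    x ∈ H.map (MulAut.conj g).toMonoidHom ↔ g⁻¹ * x * g ∈ H := by
  constructor
  · rintro ⟨y, hy, rfl⟩
    have : g⁻¹ * ((MulAut.conj g).toMonoidHom y) * g = y := by
      simp [MulAut.conj_apply, mul_assoc]
    rw [this]
    exact hy
  · intro h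
    refine ⟨g⁻¹ * x * g, h, ?_⟩
    simp [MulAut.conj_apply, mul_assoc]

theorem smul_mk_eq_iff {G : Type*} [Group G] (H : Subgroup G) (x a : G) :
    x • (QuotientGroup.mk a : G ⧸ H) = QuotientGroup.mk a ↔ a⁻¹ * x * a ∈ H := by
  rw [MulAction.Quotient.smul_mk, QuotientGroup.eq]
  constructor
  · intro h
    have := H.inv_mem h
    simpa [mul_assoc] using this
  · intro h
    have := H.inv_mem h
    simpa [mul_assoc] using this

/-- Let I be a set of involutions of the finite group G closed under conjugation, and H a subgroup of G. The following are equivalent: (1) for every member x of I lying in H, the conjugates of x lying in H form a single H-class and the centralizer of x lies in H; (2) for every g outside H, no member of I lies in both H and g H g⁻¹; (3) every member of I lying in H fixes exactly one coset in the action of G on the cosets of H. -/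
theorem result {G : Type*} [Group G] [Finite G] (I : Set G) (hI : ∀ x ∈ I, orderOf x = 2) (hIc : ∀ g : G, ∀ x ∈ I, g * x * g⁻¹ ∈ I) (H : Subgroup G) : ((∀ x ∈ I, x ∈ H → (∀ g : G, g * x * g⁻¹ ∈ H → ∃ h ∈ H, h * x * h⁻¹ = g * x * g⁻¹) ∧ Subgroup.centralizer ({x} : Set G) ≤ H) ↔ (∀ g : G, g ∉ H → ∀ x ∈ I, ¬ (x ∈ H ∧ x ∈ (H : Subgroup G).map (MulAut.conj g).toMonoidHom))) ∧ ((∀ g : G, g ∉ H → ∀ x ∈ I, ¬ (x ∈ H ∧ x ∈ (H : Subgroup G).map (MulAut.conj g).toMonoidHom)) ↔ ∀ x ∈ I, x ∈ H → ∃! c : G ⧸ H, x • c = c) := by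
  refine ⟨⟨?_, ?_⟩, ⟨?_, ?_⟩⟩
  · -- (1) → (2)
    intro h1 g hg x hxI ⟨hxH, hxg⟩
    rw [mem_map_conj_iff] at hxg
    -- y = g⁻¹ x g ∈ I ∩ H
    have hyI : g⁻¹ * x * g ∈ I := by
      have := hIc g⁻¹ x hxI
      simpa using this
    obtain ⟨hfus, hcent⟩ := h1 (g⁻¹ * x * g) hyI hxg
    have hx' : g * (g⁻¹ * x * g) * g⁻¹ = x := by group
    obtain ⟨h, hhH, hh⟩ := hfus g (by rw [hx']; exact hxH)
    -- h y h⁻¹ = g y g⁻¹, so g⁻¹ h ∈ C(y)
    have hc : g⁻¹ * h ∈ Subgroup.centralizer ({g⁻¹ * x * g} : Set G) := by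
      rw [Subgroup.mem_centralizer_iff]
      intro y hy
      rw [Set.mem_singleton_iff] at hy
      subst hy
      have e1 : h * (g⁻¹ * x * g) = g * (g⁻¹ * x * g) * g⁻¹ * h := by
        rw [← hh]; group
      calc g⁻¹ * x * g * (g⁻¹ * h) = g⁻¹ * (g * (g⁻¹ * x * g) * g⁻¹ * h) := by group
        _ = g⁻¹ * (h * (g⁻¹ * x * g)) := by rw [e1]
        _ = g⁻¹ * h * (g⁻¹ * x * g) := by group
    have := hcent hc
    apply hg
    have h2 : h * (g⁻¹ * h)⁻¹ ∈ H := H.mul_mem hhH (H.inv_mem this)
    have e : h * (g⁻¹ * h)⁻¹ = g := by group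
    rwa [e] at h2
  · -- (2) → (1)
    intro h2 x hxI hxH
    refine ⟨?_, ?_⟩
    · intro g hgx
      by_cases hg : g ∈ H
      · exact ⟨g, hg, rfl⟩
      · exfalso
        refine h2 g hg (g * x * g⁻¹) (hIc g x hxI) ⟨hgx, ?_⟩
        rw [mem_map_conj_iff]
        have e : g⁻¹ * (g * x * g⁻¹) * g = x := by group
        rw [e]; exact hxH
    · intro g hg
      by_contra hgH
      refine h2 g hgH x hxI ⟨hxH, ?_⟩
      rw [mem_map_conj_iff]
      rw [Subgroup.mem_centralizer_iff] at hg
      have := hg x (Set.mem_singleton x)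
      have e : g⁻¹ * x * g = x := by
        rw [mul_assoc, this, ← mul_assoc, inv_mul_cancel, one_mul]
      rw [e]; exact hxH
  · -- (2) → (3)
    intro h2 x hxI hxH
    refine ⟨(QuotientGroup.mk 1 : G ⧸ H), ?_, ?_⟩
    · show x • (QuotientGroup.mk 1 : G ⧸ H) = QuotientGroup.mk 1
      rw [smul_mk_eq_iff]
      simpa using hxH
    · intro c hc
      induction c using QuotientGroup.induction_on with
      | H a =>
        rw [smul_mk_eq_iff] at hc
        by_contra hne
        have haH : a ∉ H := by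
          intro ha
          apply hne
          rw [QuotientGroup.eq]
          simpa using H.inv_mem ha
        refine h2 a haH x hxI ⟨hxH, ?_⟩
        rw [mem_map_conj_iff]
        exact hc
  · -- (3) → (2)
    intro h3 g hg x hxI ⟨hxH, hxg⟩
    rw [mem_map_conj_iff] at hxg
    obtain ⟨c, _, huniq⟩ := h3 x hxI hxH
    have e1 : (QuotientGroup.mk 1 : G ⧸ H) = c := by
      apply huniq
      show x • (QuotientGroup.mk 1 : G ⧸ H) = QuotientGroup.mk 1
      rw [smul_mk_eq_iff]
      simpa using hxH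
    have e2 : (QuotientGroup.mk g : G ⧸ H) = c := by
      apply huniq
      show x • (QuotientGroup.mk g : G ⧸ H) = QuotientGroup.mk g
      rw [smul_mk_eq_iff]
      exact hxg
    have : (QuotientGroup.mk 1 : G ⧸ H) = QuotientGroup.mk g := e1.trans e2.symm
    rw [QuotientGroup.eq] at this
    apply hg
    simpa using this

end Cfsg.Agent.S5437
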