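-- Statement S5438: a 2-central involution fixing a unique coset of H.
import Cfsg.Statements.S5438
import Cfsg.Agent.Helper90.SylowSub

set_option autoImplicit false
open Cfsg

namespace Cfsg.Agent.S5438

/-- Let z be a 2-central involution of the finite group G (an involution central in some Sylow 2-subgroup) and H a subgroup containing z such that the coset H is the only coset of H fixed by z (in the action of G on the cosets of H). Then H has odd index in G, and for every 2-element x of H the conjugates of x lying in H form a single H-class. -/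
theorem result {G : Type*} [Group G] [Finite G] (z : G) (hz : Cfsg.IsTwoCentralInvolution z) (H : Subgroup G) (hzH : z ∈ H) (hfix : ∀ g : G, g⁻¹ * z * g ∈ H → g ∈ H) : Odd H.index ∧ ∀ x ∈ H, (∃ k : ℕ, orderOf x = 2 ^ k) → ∀ g : G, g * x * g⁻¹ ∈ H → ∃ h ∈ H, h * x * h⁻¹ = g * x * g⁻¹ := by
  have : Fact (Nat.Prime 2) := ⟨Nat.prime_two⟩
  obtain ⟨hz2, P, hzP, hPz⟩ := hz
  -- `P ≤ H`
  have hPH : (P : Subgroup G) ≤ H := by
    intro t ht
    apply hfix
    have h1 := hPz t ht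
    have e : t⁻¹ * z * t = z := by
      rw [mul_assoc, ← h1, ← mul_assoc, inv_mul_cancel, one_mul]
    rw [e]; exact hzH
  have hodd : ¬ 2 ∣ H.index := by
    intro h
    exact P.not_dvd_index (dvd_trans h (Subgroup.index_dvd_of_le hPH))
  refine ⟨Nat.odd_iff.mpr (Nat.two_dvd_ne_zero.mp hodd), ?_⟩
  have hzpow : ∀ t : G, (∃ k : ℕ, orderOf t = 2 ^ k) → IsPGroup 2 (Subgroup.zpowers t) := by
    rintro t ⟨k, hk⟩
    exact IsPGroup.of_card (n := k) (by rw [Nat.card_zpowers, hk])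
  -- every 2-element of `H` is `H`-conjugate into `P`
  have key1 : ∀ x ∈ H, (∃ k : ℕ, orderOf x = 2 ^ k) → ∃ h ∈ H, h * x * h⁻¹ ∈ (P : Subgroup G) := by
    intro x hx hx2
    obtain ⟨m, hm, S, -, hS, hPS, hconj⟩ := Helper90.exists_conj_le_pgroup H (P : Subgroup G)
      (Subgroup.zpowers x) P.isPGroup' (hzpow x hx2) hPH (by rw [Subgroup.zpowers_le]; exact hx)
    have hSP : S = P := P.is_maximal' hS hPS
    refine ⟨m, hm, ?_⟩
    rw [← hSP]
    exact hconj x (Subgroup.mem_zpowers x)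
  -- the claim for elements of `P`
  have key2 : ∀ x ∈ (P : Subgroup G), ∀ g : G, g * x * g⁻¹ ∈ (P : Subgroup G) →
      ∃ h ∈ H, h * x * h⁻¹ = g * x * g⁻¹ := by
    intro x hxP g hyP
    have hzC : z ∈ Subgroup.centralizer ({g * x * g⁻¹} : Set G) := by
      rw [Subgroup.mem_centralizer_iff]
      intro w hw
      rw [Set.mem_singleton_iff] at hw
      subst hw
      exact hPz _ hyP
    have hgzC : g * z * g⁻¹ ∈ Subgroup.centralizer ({g * x * g⁻¹} : Set G) := by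
      rw [Subgroup.mem_centralizer_iff]
      intro w hw
      rw [Set.mem_singleton_iff] at hw
      subst hw
      have h1 := hPz x hxP
      calc g * x * g⁻¹ * (g * z * g⁻¹) = g * (x * z) * g⁻¹ := by group
        _ = g * (z * x) * g⁻¹ := by rw [h1]
        _ = g * z * g⁻¹ * (g * x * g⁻¹) := by group
    have hz2' : ∃ k : ℕ, orderOf z = 2 ^ k := ⟨1, by rw [hz2, pow_one]⟩
    have hgz2 : ∃ k : ℕ, orderOf (g * z * g⁻¹) = 2 ^ k := by
      refine ⟨1, ?_⟩
      have hs : SemiconjBy g z (g * z * g⁻¹) := by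
        show g * z = g * z * g⁻¹ * g
        group
      rw [← hs.orderOf_eq, hz2, pow_one]
    obtain ⟨c, hc, S, -, hS, hAS, hconj⟩ := Helper90.exists_conj_le_pgroup
      (Subgroup.centralizer ({g * x * g⁻¹} : Set G)) (Subgroup.zpowers z)
      (Subgroup.zpowers (g * z * g⁻¹)) (hzpow z hz2') (hzpow _ hgz2)
      (by rw [Subgroup.zpowers_le]; exact hzC) (by rw [Subgroup.zpowers_le]; exact hgzC)
    have hSH : S ≤ H :=
      Helper90.le_of_unique_fixed_coset H S z hodd hfix hS (hAS (Subgroup.mem_zpowers z))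
    have h1 : c * (g * z * g⁻¹) * c⁻¹ ∈ H := hSH (hconj _ (Subgroup.mem_zpowers _))
    have hcg : c * g ∈ H := by
      have h2 : ((c * g)⁻¹)⁻¹ * z * (c * g)⁻¹ ∈ H := by
        have e : ((c * g)⁻¹)⁻¹ * z * (c * g)⁻¹ = c * (g * z * g⁻¹) * c⁻¹ := by group
        rw [e]; exact h1
      have := hfix _ h2
      simpa using H.inv_mem this
    refine ⟨c * g, hcg, ?_⟩
    rw [Subgroup.mem_centralizer_iff] at hc
    have h3 := hc _ (Set.mem_singleton _)
    calc c * g * x * (c * g)⁻¹ = c * (g * x * g⁻¹) * c⁻¹ := by group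
      _ = (g * x * g⁻¹) * c * c⁻¹ := by rw [h3]
      _ = g * x * g⁻¹ := by group
  intro x hx hx2 g hgx
  obtain ⟨h₁, hh₁, hx'⟩ := key1 x hx hx2
  have hy2 : ∃ k : ℕ, orderOf (g * x * g⁻¹) = 2 ^ k := by
    obtain ⟨k, hk⟩ := hx2
    refine ⟨k, ?_⟩
    have hs : SemiconjBy g x (g * x * g⁻¹) := by
      show g * x = g * x * g⁻¹ * g
      group
    rw [← hs.orderOf_eq, hk]
  obtain ⟨h₂, hh₂, hy'⟩ := key1 _ hgx hy2
  have e1 : h₂ * g * h₁⁻¹ * (h₁ * x * h₁⁻¹) * (h₂ * g * h₁⁻¹)⁻¹ = h₂ * (g * x * g⁻¹) * h₂⁻¹ := by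
    group
  obtain ⟨h, hh, he⟩ := key2 (h₁ * x * h₁⁻¹) hx' (h₂ * g * h₁⁻¹) (by rw [e1]; exact hy')
  refine ⟨h₂⁻¹ * h * h₁, H.mul_mem (H.mul_mem (H.inv_mem hh₂) hh) hh₁, ?_⟩
  calc h₂⁻¹ * h * h₁ * x * (h₂⁻¹ * h * h₁)⁻¹ = h₂⁻¹ * (h * (h₁ * x * h₁⁻¹) * h⁻¹) * h₂ := by group
    _ = h₂⁻¹ * (h₂ * (g * x * g⁻¹) * h₂⁻¹) * h₂ := by rw [he, e1]
    _ = g * x * g⁻¹ := by group

end Cfsg.Agent.S5438
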