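-- Statement S5439: two involution classes fixing unique cosets force H = G.
import Cfsg.Statements.S5439
import Cfsg.Agent.Helper90.Dihedral

set_option autoImplicit false
open Cfsg

namespace Cfsg.Agent.S5439

theorem smul_mk_eq_iff {G : Type*} [Group G] (H : Subgroup G) (x a : G) :
    x • (QuotientGroup.mk a : G ⧸ H) = QuotientGroup.mk a ↔ a⁻¹ * x * a ∈ H := by
  rw [MulAction.Quotient.smul_mk, QuotientGroup.eq]
  constructor
  · intro h
    have := H.inv_mem h
    simpa [mul_assoc] using this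
  · intro h
    have := H.inv_mem h
    simpa [mul_assoc] using this

/-- an element of `H` with a unique fixed coset: any `g` with `g⁻¹ x g ∈ H` lies in `H`. -/
theorem mem_of_unique_fixed {G : Type*} [Group G] (H : Subgroup G) (x : G) (hxH : x ∈ H)
    (hu : ∃! c : G ⧸ H, x • c = c) (g : G) (hg : g⁻¹ * x * g ∈ H) : g ∈ H := by
  obtain ⟨c, _, huniq⟩ := hu
  have e1 : (QuotientGroup.mk 1 : G ⧸ H) = c := by
    apply huniq
    show x • (QuotientGroup.mk 1 : G ⧸ H) = QuotientGroup.mk 1
    rw [smul_mk_eq_iff]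
    simpa using hxH
  have e2 : (QuotientGroup.mk g : G ⧸ H) = c := by
    apply huniq
    show x • (QuotientGroup.mk g : G ⧸ H) = QuotientGroup.mk g
    rw [smul_mk_eq_iff]
    exact hg
  have : (QuotientGroup.mk 1 : G ⧸ H) = QuotientGroup.mk g := e1.trans e2.symm
  rw [QuotientGroup.eq] at this
  simpa using this

/-- Let I and J be two different conjugacy classes of involutions of the finite group G and H a subgroup such that every member of I ∪ J fixes exactly one coset in the action on the cosets of H, and such that for every a in I ∩ H and every b in (I ∪ J) ∩ H different from a and commuting with it, the centralizer of a b lies in H. Then H = G. -/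
theorem result {G : Type*} [Group G] [Finite G] (I J : Set G) (a₀ b₀ : G) (ha₀ : orderOf a₀ = 2) (hb₀ : orderOf b₀ = 2) (hI : I = {x | IsConj a₀ x}) (hJ : J = {x | IsConj b₀ x}) (hIJ : I ≠ J) (H : Subgroup G) (hfix : ∀ x ∈ I ∪ J, ∃! c : G ⧸ H, x • c = c) (hcent : ∀ a ∈ I, a ∈ H → ∀ b ∈ I ∪ J, b ∈ H → a ≠ b → a * b = b * a → Subgroup.centralizer ({a * b} : Set G) ≤ H) : H = ⊤ := by
  have ha₀I : a₀ ∈ I := by rw [hI]; exact IsConj.refl a₀
  have hb₀J : b₀ ∈ J := by rw [hJ]; exact IsConj.refl b₀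
  -- `a₀` and `b₀` are not conjugate
  have hnc : ¬ IsConj a₀ b₀ := by
    intro h
    apply hIJ
    rw [hI, hJ]
    ext x
    show IsConj a₀ x ↔ IsConj b₀ x
    exact ⟨fun hx => h.symm.trans hx, fun hx => h.trans hx⟩
  -- squares
  have sq_of_I : ∀ x ∈ I, x * x = 1 := by
    intro x hx
    rw [hI] at hx
    obtain ⟨c, hc⟩ := isConj_iff.mp hx
    have h2 : a₀ * a₀ = 1 := by
      have := pow_orderOf_eq_one a₀
      rwa [ha₀, pow_two] at this
    rw [← hc]
    calc c * a₀ * c⁻¹ * (c * a₀ * c⁻¹) = c * (a₀ * a₀) * c⁻¹ := by group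
      _ = 1 := by rw [h2]; group
  have sq_of_J : ∀ x ∈ J, x * x = 1 := by
    intro x hx
    rw [hJ] at hx
    obtain ⟨c, hc⟩ := isConj_iff.mp hx
    have h2 : b₀ * b₀ = 1 := by
      have := pow_orderOf_eq_one b₀
      rwa [hb₀, pow_two] at this
    rw [← hc]
    calc c * b₀ * c⁻¹ * (c * b₀ * c⁻¹) = c * (b₀ * b₀) * c⁻¹ := by group
      _ = 1 := by rw [h2]; group
  -- closure under conjugation
  have conj_I : ∀ x ∈ I, ∀ c : G, c * x * c⁻¹ ∈ I := by
    intro x hx c
    rw [hI] at hx ⊢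
    exact IsConj.trans hx (isConj_iff.mpr ⟨c, rfl⟩)
  have conj_J : ∀ x ∈ J, ∀ c : G, c * x * c⁻¹ ∈ J := by
    intro x hx c
    rw [hJ] at hx ⊢
    exact IsConj.trans hx (isConj_iff.mpr ⟨c, rfl⟩)
  -- an element `a ∈ I ∩ H`
  obtain ⟨a, haI, haH⟩ : ∃ a ∈ I, a ∈ H := by
    obtain ⟨c, hc, -⟩ := hfix a₀ (Or.inl ha₀I)
    induction c using QuotientGroup.induction_on with
    | H g =>
      rw [smul_mk_eq_iff] at hc
      refine ⟨g⁻¹ * a₀ * g, ?_, hc⟩
      have := conj_I a₀ ha₀I g⁻¹
      simpa using this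
  have haa : a * a = 1 := sq_of_I a haI
  have hUa := mem_of_unique_fixed H a haH (hfix a (Or.inl haI))
  -- `J ⊆ H`
  have hJH : ∀ b ∈ J, b ∈ H := by
    intro b hbJ
    have hbb : b * b = 1 := sq_of_J b hbJ
    have hab_nc : ¬ ∃ c : G, c * b * c⁻¹ = a := by
      rintro ⟨c, hc⟩
      apply hnc
      have h1 : IsConj a₀ a := by rw [hI] at haI; exact haI
      have h2 : IsConj b₀ b := by rw [hJ] at hbJ; exact hbJ
      have h3 : IsConj b a := isConj_iff.mpr ⟨c, hc⟩
      exact h1.trans (h3.symm.trans h2.symm)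
    -- the order of `a * b` is even
    have hpos : 0 < orderOf (a * b) := orderOf_pos (a * b)
    rcases Nat.even_or_odd' (orderOf (a * b)) with ⟨k, hk | hk⟩
    · have hkpos : 0 < k := by omega
      obtain ⟨hconj, hwa, hcomm, hwu, huu, hu1⟩ := Helper90.dihedral_middle haa hbb hkpos hk
      -- w := (a*b)^k * a
      have hwIJ : (a * b) ^ k * a ∈ I ∪ J := by
        rcases hconj with ⟨c, hc⟩ | ⟨c, hc⟩
        · left; rw [← hc]; exact conj_I a haI c
        · right; rw [← hc]; exact conj_J b hbJ c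
      have hwH : (a * b) ^ k * a ∈ H := by
        apply hUa
        have : ((a * b) ^ k * a)⁻¹ * a * ((a * b) ^ k * a) = a := by
          rw [mul_assoc, hcomm.eq, ← mul_assoc, inv_mul_cancel, one_mul]
        rw [this]; exact haH
      have hcen := hcent a haI haH _ hwIJ hwH (Ne.symm hwa) hcomm.eq
      rw [hcomm.eq, hwu] at hcen
      apply hcen
      rw [Subgroup.mem_centralizer_iff]
      intro y hy
      rw [Set.mem_singleton_iff] at hy
      subst hy
      have h1 := Helper90.inv_conj_mul_pow' haa hbb k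
      have hinv : ((a * b) ^ k)⁻¹ = (a * b) ^ k := Helper90.inv_eq_self_of_sq huu
      rw [hinv] at h1
      calc (a * b) ^ k * b = (b * (a * b) ^ k * b) * b := by rw [h1]
        _ = b * (a * b) ^ k * (b * b) := by group
        _ = b * (a * b) ^ k := by rw [hbb, mul_one]
    · exfalso
      exact hab_nc (Helper90.conj_of_odd_order haa hbb hk)
  -- conclusion
  rw [eq_top_iff]
  intro g _
  have hb₀H : b₀ ∈ H := hJH b₀ hb₀J
  have hU := mem_of_unique_fixed H b₀ hb₀H (hfix b₀ (Or.inr hb₀J))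
  have h1 : g * b₀ * g⁻¹ ∈ H := hJH _ (conj_J b₀ hb₀J g)
  have h2 : g⁻¹ ∈ H := by
    apply hU
    simpa using h1
  simpa using H.inv_mem h2

end Cfsg.Agent.S5439
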