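import Cfsg.Statements.S5459

set_option autoImplicit false
open Cfsg

namespace Cfsg.Agent.S5459

variable {G : Type*} [Group G]

/-- Reachability between two elements of the class of `d` in its commuting graph. -/
def R (d a b : G) : Prop :=
  ∃ (ha : a ∈ conjugatesOf d) (hb : b ∈ conjugatesOf d),
    (commutingGraph (conjugatesOf d)).Reachable ⟨a, ha⟩ ⟨b, hb⟩

theorem R_refl (d a : G) (ha : a ∈ conjugatesOf d) : R d a a := ⟨ha, ha, SimpleGraph.Reachable.refl _⟩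

theorem R_symm {d a b : G} (h : R d a b) : R d b a := by
  obtain ⟨ha, hb, h⟩ := h
  exact ⟨hb, ha, h.symm⟩

theorem R_trans {d a b c : G} (h : R d a b) (h' : R d b c) : R d a c := by
  obtain ⟨ha, hb, h⟩ := h
  obtain ⟨hb', hc, h'⟩ := h'
  exact ⟨ha, hc, h.trans h'⟩

theorem R_step {d a b : G} (ha : a ∈ conjugatesOf d) (hb : b ∈ conjugatesOf d) (hne : a ≠ b)
    (hc : Commute a b) : R d a b := by
  refine ⟨ha, hb, SimpleGraph.Adj.reachable ?_⟩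
  simp only [commutingGraph, SimpleGraph.fromRel_adj]
  refine ⟨?_, Or.inl hc⟩
  intro h
  exact hne (congrArg Subtype.val h)

theorem conj_mem {d a : G} (g : G) (ha : a ∈ conjugatesOf d) : g * a * g⁻¹ ∈ conjugatesOf d := by
  have ha' : IsConj d a := ha
  show IsConj d (g * a * g⁻¹)
  exact ha'.trans (isConj_iff.2 ⟨g, rfl⟩)

/-- conjugation as a graph hom of the commuting graph on a conjugacy class -/
def conjHom (d g : G) : commutingGraph (conjugatesOf d) →g commutingGraph (conjugatesOf d) where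
  toFun a := ⟨g * a.1 * g⁻¹, conj_mem g a.2⟩
  map_rel' := by
    intro a b h
    simp only [commutingGraph, SimpleGraph.fromRel_adj] at h ⊢
    obtain ⟨hne, hc⟩ := h
    refine ⟨?_, ?_⟩
    · intro h
      apply hne
      have := congrArg Subtype.val h
      simp only at this
      apply Subtype.ext
      simpa using this
    · have hc' : Commute a.1 b.1 := by
        rcases hc with hc | hc
        · exact hc
        · exact hc.symm
      left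
      show Commute (g * a.1 * g⁻¹) (g * b.1 * g⁻¹)
      unfold Commute SemiconjBy at hc' ⊢
      calc g * a.1 * g⁻¹ * (g * b.1 * g⁻¹) = g * (a.1 * b.1) * g⁻¹ := by group
        _ = g * (b.1 * a.1) * g⁻¹ := by rw [hc']
        _ = g * b.1 * g⁻¹ * (g * a.1 * g⁻¹) := by group

theorem R_conj {d a b : G} (g : G) (h : R d a b) : R d (g * a * g⁻¹) (g * b * g⁻¹) := by
  obtain ⟨ha, hb, h⟩ := h
  exact ⟨conj_mem g ha, conj_mem g hb, h.map (conjHom d g)⟩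

/-- The stabiliser of the component of `d`. -/
def M (d : G) : Subgroup G where
  carrier := {g | R d d (g * d * g⁻¹)}
  one_mem' := by
    show R d d (1 * d * 1⁻¹)
    simpa using R_refl d d (mem_conjugatesOf_self)
  mul_mem' := by
    intro g h hg hh
    show R d d (g * h * d * (g * h)⁻¹)
    have h1 : R d (g * d * g⁻¹) (g * (h * d * h⁻¹) * g⁻¹) := R_conj g hh
    have h2 := R_trans hg h1
    have e : g * (h * d * h⁻¹) * g⁻¹ = g * h * d * (g * h)⁻¹ := by group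
    rwa [e] at h2
  inv_mem' := by
    intro g hg
    show R d d (g⁻¹ * d * g⁻¹⁻¹)
    have h1 : R d (g⁻¹ * d * g⁻¹⁻¹) (g⁻¹ * (g * d * g⁻¹) * g⁻¹⁻¹) := R_conj g⁻¹ hg
    have e : g⁻¹ * (g * d * g⁻¹) * g⁻¹⁻¹ = d := by group
    rw [e] at h1
    exact R_symm h1

theorem mem_M {d g : G} : g ∈ M d ↔ R d d (g * d * g⁻¹) := Iff.rfl


theorem Z_le (L : Subgroup G) : (Subgroup.center ↥L).map L.subtype ≤ L := by
  rintro _ ⟨y, _, rfl⟩
  exact y.2

theorem Z_comm (L : Subgroup G) {z x : G} (hz : z ∈ (Subgroup.center ↥L).map L.subtype)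
    (hx : x ∈ L) : z * x = x * z := by
  obtain ⟨y, hy, rfl⟩ := hz
  have h1 := Subgroup.mem_center_iff.1 hy ⟨x, hx⟩
  have h2 := congrArg Subtype.val h1
  simpa using h2.symm

theorem exists_sqrt [Finite G] (L : Subgroup G)
    (hodd : Odd (Nat.card ↥(Subgroup.center ↥L))) (z : G)
    (hz : z ∈ (Subgroup.center ↥L).map L.subtype) :
    ∃ w ∈ (Subgroup.center ↥L).map L.subtype, w ^ 2 = z := by
  obtain ⟨y, hy, rfl⟩ := hz
  obtain ⟨k, hk⟩ := hodd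
  have h1 : (⟨y, hy⟩ : Subgroup.center ↥L) ^ (Nat.card (Subgroup.center ↥L)) = 1 :=
    pow_card_eq_one'
  have h2 : y ^ (2 * k + 1) = 1 := by
    rw [hk] at h1
    have := congrArg Subtype.val h1
    simpa using this
  refine ⟨L.subtype (y ^ (k + 1)), ⟨y ^ (k + 1), Subgroup.pow_mem _ hy _, rfl⟩, ?_⟩
  rw [← map_pow]
  congr 1
  rw [← pow_mul]
  have e : (k + 1) * 2 = (2 * k + 1) + 1 := by ring
  rw [e, pow_succ, h2, one_mul]

theorem inv_of_conj (Zs : Subgroup G) [hZ : Zs.Normal] {d : G}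
    (hinv : ∀ c ∈ Zs, d * c * d⁻¹ = c⁻¹) {a : G} (ha : a ∈ conjugatesOf d) :
    ∀ c ∈ Zs, a * c * a⁻¹ = c⁻¹ := by
  obtain ⟨g, hg⟩ := isConj_iff.1 (ha : IsConj d a)
  subst hg
  intro c hc
  have h1 : g⁻¹ * c * g ∈ Zs := by simpa using hZ.conj_mem c hc g⁻¹
  have h2 := hinv _ h1
  calc g * d * g⁻¹ * c * (g * d * g⁻¹)⁻¹ = g * (d * (g⁻¹ * c * g) * d⁻¹) * g⁻¹ := by group
    _ = g * (g⁻¹ * c * g)⁻¹ * g⁻¹ := by rw [h2]
    _ = c⁻¹ := by group

theorem sq_of_conj {d a : G} (hd : orderOf d = 2) (ha : a ∈ conjugatesOf d) : a * a = 1 := by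
  obtain ⟨g, hg⟩ := isConj_iff.1 (ha : IsConj d a)
  subst hg
  have h1 : d ^ 2 = 1 := by rw [← hd]; exact pow_orderOf_eq_one d
  have h2 : d * d = 1 := by rwa [pow_two] at h1
  calc g * d * g⁻¹ * (g * d * g⁻¹) = g * (d * d) * g⁻¹ := by group
    _ = 1 := by rw [h2]; group

theorem conj_by_Z (Zs : Subgroup G) {c : G} (hc : ∀ x ∈ Zs, c * x * c⁻¹ = x⁻¹) {t : G}
    (ht : ∃ w ∈ Zs, w ^ 2 = t) : ∃ w ∈ Zs, w * c * w⁻¹ = t * c := by
  obtain ⟨w, hw, rfl⟩ := ht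
  refine ⟨w, hw, ?_⟩
  have h1 := hc w⁻¹ (Subgroup.inv_mem _ hw)
  have h2 : c * w⁻¹ = w * c := by
    calc c * w⁻¹ = (c * w⁻¹ * c⁻¹) * c := by group
      _ = w * c := by rw [h1, inv_inv]
  calc w * c * w⁻¹ = w * (c * w⁻¹) := by group
    _ = w ^ 2 * c := by rw [h2, pow_two, mul_assoc]


theorem lift_step (Zs : Subgroup G) [hZ : Zs.Normal] {d : G} (hd : orderOf d = 2)
    (hinv : ∀ c ∈ Zs, d * c * d⁻¹ = c⁻¹) (hsq : ∀ z ∈ Zs, ∃ w ∈ Zs, w ^ 2 = z)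
    {a c₀ : G} (ha : a ∈ conjugatesOf d) (hc₀ : c₀ ∈ conjugatesOf d)
    (hcomm : Commute (QuotientGroup.mk a : G ⧸ Zs) (QuotientGroup.mk c₀)) :
    ∃ c' : G, c' ∈ conjugatesOf d ∧ Commute a c' ∧
      (QuotientGroup.mk c' : G ⧸ Zs) = QuotientGroup.mk c₀ := by
  have haa := sq_of_conj hd ha
  have hcc := sq_of_conj hd hc₀
  have hainv : a⁻¹ = a := inv_eq_of_mul_eq_one_left haa
  have hcinv : c₀⁻¹ = c₀ := inv_eq_of_mul_eq_one_left hcc
  have hz : (c₀ * a)⁻¹ * (a * c₀) ∈ Zs := by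
    apply QuotientGroup.eq.1
    have := hcomm.eq
    simp only [QuotientGroup.mk_mul]
    exact this.symm
  set z := (c₀ * a)⁻¹ * (a * c₀) with hzdef
  have hz2 : a * c₀ * a⁻¹ = z * c₀ := by
    rw [hzdef, mul_inv_rev, hainv, hcinv]
    calc a * c₀ * a = a * c₀ * a * (c₀ * c₀) := by rw [hcc, mul_one]
      _ = a * c₀ * (a * c₀) * c₀ := by group
  obtain ⟨u, hu, hu2⟩ := hsq z hz
  have hinv_c := inv_of_conj Zs hinv hc₀
  have hinv_a := inv_of_conj Zs hinv ha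
  obtain ⟨w, hw, hwc⟩ := conj_by_Z Zs hinv_c (hsq u hu)
  refine ⟨u * c₀, ?_, ?_, ?_⟩
  · rw [← hwc]
    exact conj_mem w hc₀
  · have h1 : a * (u * c₀) * a⁻¹ = u * c₀ := by
      calc a * (u * c₀) * a⁻¹ = (a * u * a⁻¹) * (a * c₀ * a⁻¹) := by group
        _ = u⁻¹ * (u ^ 2 * c₀) := by rw [hinv_a u hu, hz2, hu2]
        _ = u * c₀ := by group
    show a * (u * c₀) = (u * c₀) * a
    calc a * (u * c₀) = (a * (u * c₀) * a⁻¹) * a := by group
      _ = (u * c₀) * a := by rw [h1]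
  · rw [QuotientGroup.mk_mul, (QuotientGroup.eq_one_iff u).2 hu, one_mul]


theorem lift_reach (Zs : Subgroup G) [hZ : Zs.Normal] {d : G} (hd : orderOf d = 2)
    (hinv : ∀ c ∈ Zs, d * c * d⁻¹ = c⁻¹) (hsq : ∀ z ∈ Zs, ∃ w ∈ Zs, w ^ 2 = z)
    (hconn : (commutingGraph (conjugatesOf (QuotientGroup.mk d : G ⧸ Zs))).Connected)
    (v : conjugatesOf (QuotientGroup.mk d : G ⧸ Zs)) :
    ∃ a : G, R d d a ∧ (QuotientGroup.mk a : G ⧸ Zs) = v.1 := by
  have hreach := hconn.preconnected ⟨QuotientGroup.mk d, mem_conjugatesOf_self⟩ v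
  rw [SimpleGraph.reachable_iff_reflTransGen] at hreach
  induction hreach with
  | refl => exact ⟨d, R_refl d d mem_conjugatesOf_self, rfl⟩
  | @tail b c _ hadj ih =>
    obtain ⟨a, hRa, hab⟩ := ih
    have ha : a ∈ conjugatesOf d := by
      obtain ⟨_, h, _⟩ := hRa
      exact h
    simp only [commutingGraph, SimpleGraph.fromRel_adj] at hadj
    obtain ⟨hne, hcomm⟩ := hadj
    have hcomm' : Commute b.1 c.1 := by
      rcases hcomm with h | h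
      · exact h
      · exact h.symm
    obtain ⟨gbar, hg⟩ := isConj_iff.1 (c.2 : IsConj (QuotientGroup.mk d : G ⧸ Zs) c.1)
    obtain ⟨y, rfl⟩ := QuotientGroup.mk_surjective gbar
    have hc₀ : y * d * y⁻¹ ∈ conjugatesOf d := conj_mem y mem_conjugatesOf_self
    have hc₀' : (QuotientGroup.mk (y * d * y⁻¹) : G ⧸ Zs) = c.1 := by
      rw [← hg]; simp
    have hcomm'' : Commute (QuotientGroup.mk a : G ⧸ Zs) (QuotientGroup.mk (y * d * y⁻¹)) := by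
      rw [hab, hc₀']; exact hcomm'
    obtain ⟨c', hc', hac', hcc'⟩ := lift_step Zs hd hinv hsq ha hc₀ hcomm''
    refine ⟨c', R_trans hRa (R_step ha hc' ?_ hac'), by rw [hcc', hc₀']⟩
    intro h
    apply hne
    apply Subtype.ext
    rw [← hab, ← hc₀', ← hcc', h]

theorem ZM (Zs : Subgroup G) [hZ : Zs.Normal] {d : G} (hd : orderOf d = 2)
    (hinv : ∀ c ∈ Zs, d * c * d⁻¹ = c⁻¹) (hsq : ∀ z ∈ Zs, ∃ w ∈ Zs, w ^ 2 = z)
    (hconn : (commutingGraph (conjugatesOf (QuotientGroup.mk d : G ⧸ Zs))).Connected)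
    (g : G) : ∃ w ∈ Zs, ∃ m ∈ M d, g = w * m := by
  have hv : (QuotientGroup.mk (g * d * g⁻¹) : G ⧸ Zs) ∈
      conjugatesOf (QuotientGroup.mk d : G ⧸ Zs) := by
    show IsConj _ _
    rw [isConj_iff]
    exact ⟨QuotientGroup.mk g, by simp⟩
  obtain ⟨a', hRa', ha'⟩ := lift_reach Zs hd hinv hsq hconn ⟨_, hv⟩
  have ha'mem : a' ∈ conjugatesOf d := by
    obtain ⟨_, h, _⟩ := hRa'
    exact h
  have ht0 : a'⁻¹ * (g * d * g⁻¹) ∈ Zs := QuotientGroup.eq.1 ha'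
  have ht : (g * d * g⁻¹) * a'⁻¹ ∈ Zs := by
    have := hZ.conj_mem _ ht0 a'
    have e : a' * (a'⁻¹ * (g * d * g⁻¹)) * a'⁻¹ = (g * d * g⁻¹) * a'⁻¹ := by group
    rwa [e] at this
  obtain ⟨w, hw, hwa⟩ := conj_by_Z Zs (inv_of_conj Zs hinv ha'mem) (hsq _ ht)
  have hwa' : w * a' * w⁻¹ = g * d * g⁻¹ := by
    rw [hwa]; group
  obtain ⟨h, hh⟩ := isConj_iff.1 (ha'mem : IsConj d a')
  have hhM : h ∈ M d := by
    rw [mem_M, hh]; exact hRa'
  have hk : ((w * h)⁻¹ * g) * d * ((w * h)⁻¹ * g)⁻¹ = d := by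
    calc ((w * h)⁻¹ * g) * d * ((w * h)⁻¹ * g)⁻¹
        = h⁻¹ * (w⁻¹ * (g * d * g⁻¹) * w) * h := by group
      _ = h⁻¹ * (w⁻¹ * (w * a' * w⁻¹) * w) * h := by rw [hwa']
      _ = h⁻¹ * a' * h := by group
      _ = h⁻¹ * (h * d * h⁻¹) * h := by rw [hh]
      _ = d := by group
  have hkM : (w * h)⁻¹ * g ∈ M d := by
    rw [mem_M, hk]; exact R_refl d d mem_conjugatesOf_self
  exact ⟨w, hw, h * ((w * h)⁻¹ * g), Subgroup.mul_mem _ hhM hkM, by group⟩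


theorem L_le_M [Finite G] (L : Subgroup G) [L.Normal] (hperf : Group.IsPerfect ↥L) {d : G}
    (hZM : ∀ g : G, ∃ w ∈ (Subgroup.center ↥L).map L.subtype, ∃ m ∈ M d, g = w * m) :
    L ≤ M d := by
  have key : ∀ x ∈ L, ∀ y ∈ L, x * y * x⁻¹ * y⁻¹ ∈ M d := by
    intro x hx y hy
    obtain ⟨w₁, hw₁, m₁, hm₁, rfl⟩ := hZM x
    obtain ⟨w₂, hw₂, m₂, hm₂, rfl⟩ := hZM y
    have hw₁L := Z_le L hw₁
    have hw₂L := Z_le L hw₂
    have hm₁L : m₁ ∈ L := by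
      have := L.mul_mem (L.inv_mem hw₁L) hx
      simpa using this
    have hm₂L : m₂ ∈ L := by
      have := L.mul_mem (L.inv_mem hw₂L) hy
      simpa using this
    have c1 : ∀ x ∈ L, w₁ * x = x * w₁ := fun x hx => Z_comm L hw₁ hx
    have c2 : ∀ x ∈ L, w₂ * x = x * w₂ := fun x hx => Z_comm L hw₂ hx
    have e : w₁ * m₁ * (w₂ * m₂) * (w₁ * m₁)⁻¹ * (w₂ * m₂)⁻¹ = m₁ * m₂ * m₁⁻¹ * m₂⁻¹ := by
      have e1 : w₁ * m₁ = m₁ * w₁ := c1 _ hm₁L
      have e2 : w₂ * m₂ = m₂ * w₂ := c2 _ hm₂L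
      have e3 : w₁ * m₂ = m₂ * w₁ := c1 _ hm₂L
      have e4 : w₂ * m₁⁻¹ = m₁⁻¹ * w₂ := c2 _ (L.inv_mem hm₁L)
      have e5 : w₁ * w₂ = w₂ * w₁ := c1 _ hw₂L
      calc w₁ * m₁ * (w₂ * m₂) * (w₁ * m₁)⁻¹ * (w₂ * m₂)⁻¹
          = m₁ * w₁ * (m₂ * w₂) * (m₁ * w₁)⁻¹ * (m₂ * w₂)⁻¹ := by rw [e1, e2]
        _ = m₁ * (w₁ * m₂) * (w₂ * w₁⁻¹) * (m₁⁻¹ * w₂⁻¹) * m₂⁻¹ := by group
        _ = m₁ * (m₂ * w₁) * (w₂ * w₁⁻¹) * (m₁⁻¹ * w₂⁻¹) * m₂⁻¹ := by rw [e3]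
        _ = m₁ * m₂ * (w₁ * w₂) * w₁⁻¹ * m₁⁻¹ * w₂⁻¹ * m₂⁻¹ := by group
        _ = m₁ * m₂ * (w₂ * w₁) * w₁⁻¹ * m₁⁻¹ * w₂⁻¹ * m₂⁻¹ := by rw [e5]
        _ = m₁ * m₂ * (w₂ * m₁⁻¹) * w₂⁻¹ * m₂⁻¹ := by group
        _ = m₁ * m₂ * (m₁⁻¹ * w₂) * w₂⁻¹ * m₂⁻¹ := by rw [e4]
        _ = m₁ * m₂ * m₁⁻¹ * m₂⁻¹ := by group
    rw [e]
    exact (M d).mul_mem ((M d).mul_mem ((M d).mul_mem hm₁ hm₂) ((M d).inv_mem hm₁)) ((M d).inv_mem hm₂)
  have hcomm : commutator ↥L ≤ (M d).comap L.subtype := by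
    rw [commutator_def, Subgroup.commutator_le]
    intro x _ y _
    rw [Subgroup.mem_comap]
    have := key x.1 x.2 y.1 y.2
    simpa [commutatorElement_def] using this
  intro x hx
  have h1 : (⟨x, hx⟩ : ↥L) ∈ commutator ↥L := by
    rw [hperf.commutator_eq_top]; trivial
  exact hcomm h1

theorem result {G : Type*} [Group G] [Finite G] (L : Subgroup G) [L.Normal] (hL : Cfsg.IsQuasisimple ↥L) (d : G) (hd : orderOf d = 2) (hgen : L ⊔ Subgroup.zpowers d = ⊤) (hodd : Odd (Nat.card ↥(Subgroup.center ↥L))) (hinv : ∀ c ∈ (Subgroup.center ↥L).map L.subtype, d * c * d⁻¹ = c⁻¹) [hn : ((Subgroup.center ↥L).map L.subtype).Normal] (hconn : (Cfsg.commutingGraph (conjugatesOf (QuotientGroup.mk d : G ⧸ (Subgroup.center ↥L).map L.subtype))).Connected) : (Cfsg.commutingGraph (conjugatesOf d)).Connected := by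
  have hsq := exists_sqrt L hodd
  have hZM := ZM ((Subgroup.center ↥L).map L.subtype) hd hinv hsq hconn
  have hLM := L_le_M L hL.1 hZM
  have hdM : d ∈ M d := by
    rw [mem_M]
    have e : d * d * d⁻¹ = d := by group
    rw [e]
    exact R_refl d d mem_conjugatesOf_self
  have hM : M d = ⊤ := by
    rw [eq_top_iff, ← hgen, sup_le_iff]
    exact ⟨hLM, by rw [Subgroup.zpowers_le]; exact hdM⟩
  have hall : ∀ a (ha : a ∈ conjugatesOf d),
      (commutingGraph (conjugatesOf d)).Reachable ⟨d, mem_conjugatesOf_self⟩ ⟨a, ha⟩ := by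
    intro a ha
    obtain ⟨g, hg⟩ := isConj_iff.1 (ha : IsConj d a)
    have hgM : g ∈ M d := by rw [hM]; trivial
    rw [mem_M, hg] at hgM
    obtain ⟨_, _, h⟩ := hgM
    exact h
  have : Nonempty ↥(conjugatesOf d) := ⟨⟨d, mem_conjugatesOf_self⟩⟩
  refine ⟨fun u v => ?_⟩
  exact (hall u.1 u.2).symm.trans (hall v.1 v.2)

end Cfsg.Agent.S5459
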