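import Cfsg.Statements.S5515
import Cfsg.Agent.S2608
import Cfsg.Agent.Helper22.Bender
import Cfsg.Agent.Helper12.GammaOF
import Cfsg.Agent.Helper44.EichlerPerfect
import Cfsg.Agent.Helper44.StdNondeg
import Cfsg.Agent.Helper35.AutExt
import Cfsg.Agent.Helper35.S3inS4

set_option autoImplicit false
open Cfsg

namespace Cfsg.Agent.S5515

/-- Let G and G′ be finite groups whose generalized Fitting subgroups are isomorphic to PΩ⁺(8, 3) (the commutator subgroup of the isometry group of the hyperbolic quadratic form in dimension 8 over the field with three elements, modulo its centre) with quotients isomorphic to the symmetric group of degree 3. Then G and G′ are isomorphic. -/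
theorem result {G G' : Type*} [Group G] [Finite G] [Group G'] [Finite G'] (hF : Nonempty (↥(Cfsg.generalizedFittingSubgroup G) ≃* Cfsg.POmega (ZMod 3) (Cfsg.quadFormPlus 4 (ZMod 3)))) (hF' : Nonempty (↥(Cfsg.generalizedFittingSubgroup G') ≃* Cfsg.POmega (ZMod 3) (Cfsg.quadFormPlus 4 (ZMod 3)))) [hn : (Cfsg.generalizedFittingSubgroup G).Normal] [hn' : (Cfsg.generalizedFittingSubgroup G').Normal] (hq : Nonempty (G ⧸ Cfsg.generalizedFittingSubgroup G ≃* Equiv.Perm (Fin 3))) (hq' : Nonempty (G' ⧸ Cfsg.generalizedFittingSubgroup G' ≃* Equiv.Perm (Fin 3))) : Nonempty (G ≃* G') := by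
  obtain ⟨φ⟩ := hF
  obtain ⟨φ'⟩ := hF'
  obtain ⟨e⟩ := hq
  obtain ⟨e'⟩ := hq'
  -- the centre of `T = PΩ⁺₈(3)` is trivial
  have hZ : Subgroup.center (Cfsg.POmega (ZMod 3) (Cfsg.quadFormPlus 4 (ZMod 3))) = ⊥ :=
    Cfsg.Agent.Helper12.GammaO.center_quot_center_eq_bot
      (Cfsg.Agent.Helper44.commutator_Omega_eq_top (Cfsg.Agent.Helper44.plusForm 4 (ZMod 3))
        (Cfsg.Agent.Helper44.nondegenerate_plusForm 4) (by simp))
  -- `Out T ≃ S₄`
  have : Fact (Nat.Prime 3) := ⟨by norm_num⟩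
  have hO := Cfsg.Agent.S2608.result (F := ZMod 3) (p := 3) (f := 1) (m := 4) le_rfl
    (by rw [ZMod.card]; norm_num) (by norm_num) le_rfl
  rw [if_pos rfl] at hO
  obtain ⟨eO⟩ := hO
  let eW : Cfsg.Out (Cfsg.POmega (ZMod 3) (Cfsg.quadFormPlus 4 (ZMod 3))) ≃* Equiv.Perm (Fin 4) :=
    eO.trans MulEquiv.prodUnique
  let π : MulAut (Cfsg.POmega (ZMod 3) (Cfsg.quadFormPlus 4 (ZMod 3))) →* Equiv.Perm (Fin 4) :=
    eW.toMonoidHom.comp (QuotientGroup.mk' (Cfsg.Inn _))
  have hπ : Function.Surjective π := eW.surjective.comp (QuotientGroup.mk'_surjective _)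
  have hker : π.ker = (MulAut.conj : Cfsg.POmega (ZMod 3) (Cfsg.quadFormPlus 4 (ZMod 3)) →*
      MulAut _).range := by
    ext x
    rw [MonoidHom.mem_ker]
    show eW ((QuotientGroup.mk' (Cfsg.Inn _)) x) = 1 ↔ _
    rw [MulEquiv.map_eq_one_iff, QuotientGroup.mk'_apply, QuotientGroup.eq_one_iff]
  exact Cfsg.Agent.Helper35.AutExt.nonempty_mulEquiv (S := Equiv.Perm (Fin 3)) hZ π hπ hker
    (fun P P' h h' => Cfsg.Agent.Helper35.S3inS4.conj_of_equiv P P' h h')
    (Cfsg.generalizedFittingSubgroup G) (Cfsg.generalizedFittingSubgroup G') φ φ'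
    Cfsg.Agent.Helper22.centralizer_generalizedFittingSubgroup_le
    Cfsg.Agent.Helper22.centralizer_generalizedFittingSubgroup_le e e'

end Cfsg.Agent.S5515
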