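import Cfsg.Statements.S5521
import Cfsg.Agent.Helper92.M24Data
import Cfsg.Agent.Helper92.FixClosure

set_option autoImplicit false
open Cfsg

namespace Cfsg.Agent.S5521

open Cfsg.Agent.Helper27 Cfsg.Agent.Helper7 Cfsg.Agent.Helper92

/-- for each index `x` outside the base `23, 0, 1, 2, 3`: a non-identity element of `M24` (table and
inverse table) fixing the base points and `x` -/
def wit : List (ℕ × List ℕ × List ℕ) := [
  (4, [0,1,2,3,4,17,18,12,9,21,7,20,10,16,5,6,22,14,15,11,19,8,13,23], [0,1,2,3,4,14,15,10,21,8,12,19,7,22,17,18,13,5,6,20,11,9,16,23]),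
  (5, [0,1,2,3,10,5,11,12,19,22,4,6,7,20,14,16,15,17,21,8,13,18,9,23], [0,1,2,3,10,5,11,12,19,22,4,6,7,20,14,16,15,17,21,8,13,18,9,23]),
  (6, [0,1,2,3,15,17,6,19,13,11,8,22,16,10,5,18,20,14,4,21,12,7,9,23], [0,1,2,3,18,14,6,21,10,22,13,9,20,8,17,4,12,5,15,7,16,19,11,23]),
  (7, [0,1,2,3,10,17,21,7,22,18,12,13,4,15,5,11,9,14,16,6,8,19,20,23], [0,1,2,3,12,14,19,7,20,16,4,15,10,11,17,13,18,5,9,21,22,6,8,23]),
  (8, [0,1,2,3,9,14,13,22,8,21,6,18,11,10,17,19,15,5,12,16,7,4,20,23], [0,1,2,3,21,17,10,20,8,4,13,12,18,6,5,16,19,14,11,15,22,9,7,23]),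
  (9, [0,1,2,3,8,17,22,16,21,9,15,6,19,12,5,20,18,14,7,13,10,4,11,23], [0,1,2,3,21,14,11,18,4,9,20,22,13,19,17,10,7,5,16,12,15,8,6,23]),
  (10, [0,1,2,3,12,17,13,4,6,20,10,21,7,8,5,9,11,14,19,22,15,16,18,23], [0,1,2,3,7,14,8,12,13,15,10,16,4,6,17,20,21,5,22,18,9,11,19,23]),
  (11, [0,1,2,3,19,17,9,15,18,22,16,11,8,7,5,13,21,14,12,20,4,10,6,23], [0,1,2,3,20,14,22,13,12,6,21,11,18,15,17,7,10,5,8,4,19,16,9,23]),
  (12, [0,1,2,3,10,14,16,4,18,19,7,8,12,9,17,21,20,5,11,13,6,22,15,23], [0,1,2,3,7,17,20,10,11,13,4,18,12,19,5,22,6,14,8,9,16,15,21,23]),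
  (13, [0,1,2,3,16,14,10,15,6,12,8,7,19,13,17,11,22,5,21,9,18,20,4,23], [0,1,2,3,22,17,8,11,10,19,6,15,9,13,5,7,4,14,20,12,21,18,16,23]),
  (14, [0,1,2,3,10,5,11,12,19,22,4,6,7,20,14,16,15,17,21,8,13,18,9,23], [0,1,2,3,10,5,11,12,19,22,4,6,7,20,14,16,15,17,21,8,13,18,9,23]),
  (15, [0,1,2,3,6,14,18,11,16,20,9,13,22,7,17,15,19,5,4,8,10,12,21,23], [0,1,2,3,18,17,4,13,19,10,20,7,21,11,5,15,8,14,6,16,9,22,12,23]),
  (16, [0,1,2,3,22,14,20,9,19,18,11,21,6,4,17,8,16,5,7,15,12,10,13,23], [0,1,2,3,13,17,12,18,15,7,21,10,20,22,5,19,16,14,9,8,6,11,4,23]),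
  (17, [0,1,2,3,10,5,11,12,19,22,4,6,7,20,14,16,15,17,21,8,13,18,9,23], [0,1,2,3,10,5,11,12,19,22,4,6,7,20,14,16,15,17,21,8,13,18,9,23]),
  (18, [0,1,2,3,15,14,4,16,11,7,19,12,8,20,17,6,9,5,18,22,21,13,10,23], [0,1,2,3,6,17,15,9,12,16,22,8,11,21,5,4,7,14,18,10,13,20,19,23]),
  (19, [0,1,2,3,11,14,21,6,15,13,22,20,9,12,17,16,8,5,10,19,4,7,18,23], [0,1,2,3,20,17,7,21,16,12,18,4,13,9,5,8,15,14,22,19,11,6,10,23]),
  (20, [0,1,2,3,19,14,12,8,22,10,15,4,16,21,17,9,6,5,13,11,20,18,7,23], [0,1,2,3,11,17,16,22,7,15,9,19,6,18,5,10,12,14,21,4,20,13,8,23]),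
  (21, [0,1,2,3,8,14,7,19,9,4,16,10,15,18,17,22,11,5,20,6,13,21,12,23], [0,1,2,3,9,17,19,6,4,8,11,16,22,20,5,12,10,14,13,7,18,21,15,23]),
  (22, [0,1,2,3,16,17,11,8,20,6,19,9,15,4,5,21,13,14,10,18,7,12,22,23], [0,1,2,3,13,14,9,20,7,11,18,6,21,16,17,12,4,5,19,10,8,15,22,23])]

/-- kernel-friendly check of the witnesses -/
def witOK : Bool :=
  (List.range 24).all fun x => base5.contains x || wit.any fun w =>
    (w.1 == x) && isInvPair w.2.1 w.2.2 && checkM24 w.2.2 &&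
      ((x :: base5).all fun j => w.2.1.getD j 0 == j) &&
      (List.range 24).any fun i => w.2.1.getD i 0 != i

theorem witOK_true : witOK = true := by decide +kernel

theorem exists_wit (x : ℕ) (hx : x < 24) (hxb : x ∉ base5) :
    ∃ g ∈ M24, g ≠ 1 ∧ g (gPt x) = gPt x ∧ ∀ j ∈ base5, g (gPt j) = gPt j := by
  have h := witOK_true
  unfold witOK at h
  rw [List.all_eq_true] at h
  have h1 := h x (List.mem_range.2 hx)
  rw [Bool.or_eq_true, List.contains_iff_mem, List.any_eq_true] at h1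
  rcases h1 with h1 | ⟨w, -, h1⟩
  · exact absurd h1 hxb
  · simp only [Bool.and_eq_true, beq_iff_eq, List.all_eq_true, List.any_eq_true, bne_iff_ne,
      List.mem_range] at h1
    obtain ⟨⟨⟨⟨-, hinv⟩, hchk⟩, hfix⟩, i, hi, hne⟩ := h1
    refine ⟨permOfTabs w.2.1 w.2.2, permOfTabs_mem_M24 hinv hchk, permOfTabs_ne_one hinv i hi hne,
      ?_, ?_⟩
    · rw [permOfTabs_gPt hinv x hx, hfix x (List.mem_cons_self)]
    · intro j hj
      have hj24 : j < 24 := by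
        have : ∀ j ∈ base5, j < 24 := by decide
        exact this j hj
      rw [permOfTabs_gPt hinv j hj24, hfix j (List.mem_cons_of_mem _ hj)]

/-- the closure certificate for the base `23, 0, 1, 2, 3, 4, 5` -/
def cert : List (ℕ × ℕ × ℕ) := [
  (12656663, 5275709, 4194304),
  (12656663, 14688364, 8192),
  (12656663, 12656663, 65536),
  (11100169, 3416079, 2097152),
  (14688364, 14688364, 64),
  (11100169, 2826278, 524288),
  (11100169, 11100169, 16384),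
  (2826278, 2826278, 131072),
  (13262980, 13262980, 128),
  (9347075, 1302533, 32768),
  (9347075, 9347075, 262144),
  (1302533, 1302533, 1048576),
  (4038912, 4038912, 256),
  (8077824, 8077824, 512),
  (7767041, 7767041, 1024),
  (14919680, 14919680, 2048),
  (13062145, 13062145, 4096)]

theorem cert_ok : closureOK 8388671 cert = true := by decide +kernel

/-- the seven base points -/
def baseSet : Finset GolayPt := {none, some 0, some 1, some 2, some 3, some 4, some 5}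

theorem baseSet_spec : ∀ i < 24, Nat.testBit 8388671 i = true → gPt i ∈ baseSet := by decide

theorem eq_one_of_fixes_baseSet (g : Equiv.Perm GolayPt) (hg : g ∈ M24)
    (h : ∀ b ∈ baseSet, g b = b) : g = 1 :=
  eq_one_of_closureOK hg 8388671 cert
    (fixesMask_of_forall _ fun i hi hb => h _ (baseSet_spec i hi hb)) cert_ok

theorem result :
    (∀ B : Finset Cfsg.GolayPt, B.card ≤ 6 → ∃ g ∈ Cfsg.M24, g ≠ 1 ∧ ∀ b ∈ B, g b = b) ∧
    (∃ B : Finset Cfsg.GolayPt, B.card = 7 ∧ ∀ g ∈ Cfsg.M24, (∀ b ∈ B, g b = b) → g = 1) := by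
  constructor
  · intro B hB
    obtain ⟨B', hBB', hcard⟩ := Finset.exists_superset_card_eq hB
      (by rw [Finset.card_univ]; decide : 6 ≤ (Finset.univ : Finset GolayPt).card)
    have hl : B'.toList.length = 6 := by rw [Finset.length_toList, hcard]
    have hnd : B'.toList.Nodup := Finset.nodup_toList B'
    have hmem : ∀ b, b ∈ B'.toList ↔ b ∈ B' := fun b => Finset.mem_toList
    generalize B'.toList = l at hl hnd hmem
    rcases l with _ | ⟨c₁, _ | ⟨c₂, _ | ⟨c₃, _ | ⟨c₄, _ | ⟨c₅, _ | ⟨c₆, _ | ⟨c₇, l⟩⟩⟩⟩⟩⟩⟩ <;>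
      simp only [List.length_nil, List.length_cons] at hl <;> try omega
    have hnd5 : [c₁, c₂, c₃, c₄, c₅].Nodup := by
      have hsub : List.Sublist [c₁, c₂, c₃, c₄, c₅] [c₁, c₂, c₃, c₄, c₅, c₆] := by
        simp
      exact hnd.sublist hsub
    obtain ⟨h, hM, h1, h2, h3, h4, h5⟩ := exists_sends_base5 c₁ c₂ c₃ c₄ c₅ hnd5
    -- the image of the sixth point
    have hx : gIdx (h c₆) ∉ base5 := by
      intro hmem6
      have hc : h c₆ = gPt (gIdx (h c₆)) := (gPt_gIdx _).symm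
      simp only [base5, List.mem_cons, List.not_mem_nil, or_false] at hmem6
      have hnd' : ([c₁, c₂, c₃, c₄, c₅] ++ [c₆]).Nodup := hnd
      rw [List.nodup_append] at hnd'
      have hdis := hnd'.2.2
      have hne : c₆ ≠ c₁ ∧ c₆ ≠ c₂ ∧ c₆ ≠ c₃ ∧ c₆ ≠ c₄ ∧ c₆ ≠ c₅ :=
        ⟨(hdis c₁ (by simp) c₆ (by simp)).symm, (hdis c₂ (by simp) c₆ (by simp)).symm,
          (hdis c₃ (by simp) c₆ (by simp)).symm, (hdis c₄ (by simp) c₆ (by simp)).symm,
          (hdis c₅ (by simp) c₆ (by simp)).symm⟩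
      rcases hmem6 with h6 | h6 | h6 | h6 | h6 <;> rw [h6] at hc
      · exact hne.1 (h.injective (hc.trans h1.symm))
      · exact hne.2.1 (h.injective (hc.trans h2.symm))
      · exact hne.2.2.1 (h.injective (hc.trans h3.symm))
      · exact hne.2.2.2.1 (h.injective (hc.trans h4.symm))
      · exact hne.2.2.2.2 (h.injective (hc.trans h5.symm))
    obtain ⟨g₀, hg₀M, hg₀ne, hg₀x, hg₀b⟩ := exists_wit (gIdx (h c₆)) (gIdx_lt _) hx
    rw [gPt_gIdx] at hg₀x
    refine ⟨h⁻¹ * g₀ * h, M24.mul_mem (M24.mul_mem (M24.inv_mem hM) hg₀M) hM, ?_, ?_⟩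
    · intro h1'
      apply hg₀ne
      have : g₀ = h * (h⁻¹ * g₀ * h) * h⁻¹ := by group
      rw [this, h1']; group
    · intro b hb
      have hb' : b ∈ [c₁, c₂, c₃, c₄, c₅, c₆] := (hmem b).2 (hBB' hb)
      have key : g₀ (h b) = h b := by
        simp only [List.mem_cons, List.not_mem_nil, or_false] at hb'
        rcases hb' with rfl | rfl | rfl | rfl | rfl | rfl
        · rw [h1]; exact hg₀b 23 (by simp [base5])
        · rw [h2]; exact hg₀b 0 (by simp [base5])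
        · rw [h3]; exact hg₀b 1 (by simp [base5])
        · rw [h4]; exact hg₀b 2 (by simp [base5])
        · rw [h5]; exact hg₀b 3 (by simp [base5])
        · exact hg₀x
      rw [Equiv.Perm.mul_apply, Equiv.Perm.mul_apply, key, Equiv.Perm.inv_eq_iff_eq]
  · exact ⟨baseSet, by decide, fun g hg h => eq_one_of_fixes_baseSet g hg h⟩

end Cfsg.Agent.S5521
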