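import Cfsg.Statements.S5522
import Cfsg.Agent.Helper92.Search
import Cfsg.Agent.Helper92.GroupChain

set_option autoImplicit false
open Cfsg

namespace Cfsg.Agent.S5522

open Cfsg.Agent.Helper27 Cfsg.Agent.Helper7 Cfsg.Agent.Helper92
open scoped Pointwise

/-- mask of the dodecad of squares -/
def sMask : ℕ := 340831

/-- mask of the complementary dodecad -/
def tMask : ℕ := 16436384

theorem squareDodecad_eq : Spor.squareDodecad = setOf sMask := by
  unfold Spor.squareDodecad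
  rw [qrWord_eq 0, support₂_wordOf]
  rfl

theorem tMask_spec : ∀ i < 24, tMask.testBit i = !sMask.testBit i := by decide

theorem not_mem_iff (p : GolayPt) : p ∉ Spor.squareDodecad ↔ tMask.testBit (gIdx p) = true := by
  rw [squareDodecad_eq, mem_setOf, tMask_spec _ (gIdx_lt p)]
  cases sMask.testBit (gIdx p) <;> simp

/-- image of a set given by a mask under a table permutation -/
theorem smul_setOf {t s : List ℕ} (h : isInvPair t s = true) (m : ℕ) :
    permOfTabs t s • setOf m = setOf (pmask s m) := by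
  ext p
  rw [image_setOf h, Finset.mem_smul_finset]
  constructor
  · rintro ⟨q, hq, rfl⟩
    rw [Equiv.Perm.smul_def, Equiv.symm_apply_apply]
    exact hq
  · intro hp
    exact ⟨_, hp, by rw [Equiv.Perm.smul_def, Equiv.apply_symm_apply]⟩

/-- kernel-friendly membership test for `M11` -/
def chkM11 (t s : List ℕ) : Bool := checkM24 s && (pmask s sMask == sMask) && (t.getD 0 0 == 0)

theorem chkM11_spec (t s : List ℕ) (h : isInvPair t s = true) (hc : chkM11 t s = true) :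
    permOfTabs t s ∈ Spor.M11 := by
  unfold chkM11 at hc
  simp only [Bool.and_eq_true, beq_iff_eq] at hc
  obtain ⟨⟨h1, h2⟩, h3⟩ := hc
  unfold Spor.M11 Spor.M12
  refine ⟨⟨permOfTabs_mem_M24 h h1, ?_⟩, ?_⟩
  · show permOfTabs t s • Spor.squareDodecad = Spor.squareDodecad
    rw [squareDodecad_eq, smul_setOf h, h2]
  · show permOfTabs t s • (some 0 : GolayPt) = some 0
    have := permOfTabs_gPt h 0 (by norm_num)
    rw [h3] at this
    exact this

theorem mem_M11_iff (g : Equiv.Perm GolayPt) :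
    g ∈ Spor.M11 ↔ g ∈ M24 ∧ g • Spor.squareDodecad = Spor.squareDodecad ∧ g (some 0) = some 0 := by
  unfold Spor.M11 Spor.M12
  constructor
  · rintro ⟨⟨h1, h2⟩, h3⟩
    exact ⟨h1, h2, h3⟩
  · rintro ⟨h1, h2, h3⟩
    exact ⟨⟨h1, h2⟩, h3⟩

/-- elements of `M11` preserve the dodecad of squares -/
theorem mem_iff_of_mem_M11 {g : Equiv.Perm GolayPt} (hg : g ∈ Spor.M11) (p : GolayPt) :
    g p ∈ Spor.squareDodecad ↔ p ∈ Spor.squareDodecad := by
  have h2 := ((mem_M11_iff g).1 hg).2.1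
  constructor
  · intro h
    rw [← h2, Finset.mem_smul_finset] at h
    obtain ⟨q, hq, hqe⟩ := h
    have : q = p := g.injective hqe
    rwa [this] at hq
  · intro h
    rw [← h2]
    exact Finset.smul_mem_smul_finset h

theorem horb : ∀ u ∈ Spor.M11, ∀ p : GolayPt, tMask.testBit (gIdx p) = true →
    tMask.testBit (gIdx (u p)) = true := by
  intro u hu p hp
  rw [← not_mem_iff] at hp ⊢
  rwa [mem_iff_of_mem_M11 hu]

/-- coset representatives at level 0 -/
def lev0 : List (List ℕ × List ℕ) := [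
  ([0,1,2,3,4,5,6,7,8,9,10,11,12,13,14,15,16,17,18,19,20,21,22,23], [0,1,2,3,4,5,6,7,8,9,10,11,12,13,14,15,16,17,18,19,20,21,22,23]),
  ([0,1,2,6,12,7,8,5,18,4,15,20,13,9,23,17,16,19,3,10,11,22,14,21], [0,1,2,18,9,7,3,5,6,13,19,20,4,12,22,10,16,15,8,17,11,23,21,14]),
  ([0,1,2,8,3,10,6,19,9,4,15,14,16,18,22,17,13,5,12,7,11,23,20,21], [0,1,2,4,9,17,6,19,3,8,5,20,18,16,11,10,12,15,13,7,22,23,14,21]),
  ([0,1,2,4,6,11,18,14,16,9,20,19,8,12,17,23,13,21,3,22,10,7,5,15], [0,1,2,18,3,22,4,21,12,9,20,5,13,16,7,23,8,14,6,11,10,17,19,15]),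
  ([0,1,2,3,6,14,12,22,13,4,11,7,9,16,5,21,18,23,8,20,15,19,10,17], [0,1,2,3,9,14,4,11,18,12,22,10,6,8,5,20,13,23,16,21,19,15,7,17]),
  ([0,1,2,4,3,15,13,10,18,16,7,23,12,6,21,5,9,17,8,19,20,14,22,11], [0,1,2,4,3,15,13,10,18,16,7,23,12,6,21,5,9,17,8,19,20,14,22,11]),
  ([0,1,2,3,8,17,18,15,12,13,19,21,16,6,23,10,4,5,9,7,11,22,20,14], [0,1,2,3,16,17,13,19,4,18,15,20,8,9,23,7,12,5,6,10,22,11,21,14]),
  ([0,1,2,6,16,19,9,10,12,3,17,11,18,4,21,5,13,7,8,15,14,20,22,23], [0,1,2,9,13,15,3,17,18,6,7,11,8,16,20,19,4,10,12,5,21,14,22,23]),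
  ([0,1,2,9,3,20,8,22,16,13,11,17,6,4,15,14,12,23,18,21,19,5,7,10], [0,1,2,4,13,21,12,22,6,3,23,10,16,9,15,14,8,11,18,20,5,19,7,17]),
  ([0,1,2,4,13,21,12,22,6,3,23,10,16,9,15,14,8,11,18,20,5,19,7,17], [0,1,2,9,3,20,8,22,16,13,11,17,6,4,15,14,12,23,18,21,19,5,7,10]),
  ([0,1,2,8,4,22,3,14,12,16,20,15,6,9,10,11,18,21,13,23,7,17,19,5], [0,1,2,6,4,23,12,20,3,13,14,15,8,18,7,11,9,21,16,22,10,17,5,19]),
  ([0,1,2,3,13,23,8,21,9,16,20,19,18,12,17,11,6,14,4,22,7,10,15,5], [0,1,2,3,18,23,16,20,6,8,21,15,13,4,17,22,9,14,12,11,10,7,19,5])]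

/-- coset representatives at level 1 -/
def lev1 : List (List ℕ × List ℕ) := [
  ([0,1,2,3,4,5,6,7,8,9,10,11,12,13,14,15,16,17,18,19,20,21,22,23], [0,1,2,3,4,5,6,7,8,9,10,11,12,13,14,15,16,17,18,19,20,21,22,23]),
  ([0,1,2,3,12,5,9,10,16,6,7,22,4,18,14,19,8,17,13,15,21,20,11,23], [0,1,2,3,12,5,9,10,16,6,7,22,4,18,14,19,8,17,13,15,21,20,11,23]),
  ([0,1,6,9,3,5,12,11,18,4,22,17,2,13,14,15,8,7,16,21,19,20,23,10], [0,1,12,4,9,5,2,17,16,3,23,7,6,13,14,15,18,11,8,20,21,19,10,22]),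
  ([0,2,1,8,6,5,18,14,16,12,20,23,4,9,10,19,3,21,13,15,17,7,11,22], [0,2,1,16,12,5,4,21,3,13,14,22,9,18,7,19,8,20,6,15,10,17,23,11]),
  ([0,3,1,2,8,5,6,15,13,9,19,11,16,4,23,21,18,14,12,20,10,7,22,17], [0,2,3,1,13,5,6,21,4,9,20,11,18,8,17,7,12,23,16,10,19,15,22,14]),
  ([0,1,2,8,9,5,12,17,16,18,7,23,13,6,21,15,3,10,4,19,14,20,11,22], [0,1,2,16,18,5,13,10,3,4,17,22,6,12,20,15,8,7,9,19,21,14,23,11]),
  ([0,3,1,2,16,5,9,19,18,6,15,22,8,12,23,20,13,14,4,21,7,10,11,17], [0,2,3,1,18,5,9,20,12,6,21,22,13,16,17,10,4,23,8,7,15,19,11,14]),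
  ([0,2,1,3,13,5,9,20,8,6,21,11,18,4,17,19,16,14,12,15,7,10,22,23], [0,2,1,3,13,5,9,20,8,6,21,11,18,4,17,19,16,14,12,15,7,10,22,23]),
  ([0,2,1,3,18,5,6,21,16,9,20,22,13,12,17,15,8,14,4,19,10,7,11,23], [0,2,1,3,18,5,6,21,16,9,20,22,13,12,17,15,8,14,4,19,10,7,11,23]),
  ([0,1,4,8,3,5,9,22,13,16,17,11,18,2,15,19,12,23,6,21,14,20,10,7], [0,1,13,4,2,5,18,23,3,6,22,11,16,8,20,14,9,10,12,15,21,19,7,17]),
  ([0,1,3,13,6,5,12,23,18,16,10,17,8,9,19,20,2,7,4,21,14,15,11,22], [0,1,16,2,18,5,4,17,12,13,10,22,6,3,20,21,9,11,8,14,15,19,23,7])]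

/-- coset representatives at level 2 -/
def lev2 : List (List ℕ × List ℕ) := [
  ([0,1,2,3,4,5,6,7,8,9,10,11,12,13,14,15,16,17,18,19,20,21,22,23], [0,1,2,3,4,5,6,7,8,9,10,11,12,13,14,15,16,17,18,19,20,21,22,23]),
  ([0,1,6,18,4,5,2,7,8,16,11,10,13,12,20,15,9,22,3,21,14,19,17,23], [0,1,6,18,4,5,2,7,8,16,11,10,13,12,20,15,9,22,3,21,14,19,17,23]),
  ([0,4,8,18,9,5,2,7,3,13,14,15,12,16,21,17,1,20,6,22,23,19,10,11], [0,16,6,8,1,5,18,7,2,4,22,23,12,9,10,11,13,15,3,21,17,14,19,20]),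
  ([0,4,2,6,9,5,8,7,3,1,15,14,16,12,23,17,13,10,18,19,21,22,20,11], [0,9,2,8,1,5,3,7,6,4,17,23,13,16,11,10,12,15,18,19,22,20,21,14]),
  ([0,1,2,8,13,5,18,7,3,12,17,11,9,4,21,19,16,10,6,15,20,14,23,22], [0,1,2,8,13,5,18,7,3,12,17,11,9,4,21,19,16,10,6,15,20,14,23,22]),
  ([0,12,2,18,16,5,6,7,3,4,19,22,13,1,20,15,9,10,8,17,23,11,21,14], [0,13,2,8,9,5,6,7,18,16,17,21,1,12,23,15,4,19,3,10,14,22,11,20]),
  ([0,4,3,8,13,5,6,7,2,12,20,11,16,1,19,21,9,10,18,23,17,22,15,14], [0,13,8,2,1,5,6,7,3,16,17,11,9,4,23,22,12,20,18,14,10,15,21,19]),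
  ([0,9,3,6,13,5,8,7,18,16,21,17,12,1,19,20,4,23,2,10,11,22,14,15], [0,13,18,2,16,5,3,7,6,1,19,20,12,4,22,23,9,11,8,14,15,10,21,17]),
  ([0,1,6,8,12,5,3,7,18,13,22,10,16,4,19,21,9,11,2,15,14,20,23,17], [0,1,18,6,13,5,2,7,3,16,11,17,4,9,20,19,12,23,8,14,21,15,10,22]),
  ([0,1,3,18,16,5,8,7,2,4,23,22,9,12,15,20,13,10,6,21,19,14,17,11], [0,1,8,2,9,5,18,7,6,12,17,23,13,16,21,14,4,22,3,20,15,19,11,10])]


/-- the base: three points of the complementary dodecad -/
def base3 : List ℕ := [5, 7, 10]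

theorem chainOK_base3 : chainOKg chkM11 tMask [] base3 [lev0, lev1, lev2] = true := by
  decide +kernel

/-- `M11` is 3-fold transitive on the complementary dodecad -/
theorem exists_sends_base3 (c₁ c₂ c₃ : GolayPt) (hnd : [c₁, c₂, c₃].Nodup)
    (h₁ : c₁ ∉ Spor.squareDodecad) (h₂ : c₂ ∉ Spor.squareDodecad) (h₃ : c₃ ∉ Spor.squareDodecad) :
    ∃ h ∈ Spor.M11, h c₁ = gPt 5 ∧ h c₂ = gPt 7 ∧ h c₃ = gPt 10 := by
  obtain ⟨h, hM, hs⟩ := exists_sends_of_chainOKg chkM11_spec horb chainOK_base3 [c₁, c₂, c₃] rfl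
    (by
      intro c hc
      simp only [List.mem_cons, List.not_mem_nil, or_false] at hc
      rcases hc with rfl | rfl | rfl
      · exact (not_mem_iff _).1 h₁
      · exact (not_mem_iff _).1 h₂
      · exact (not_mem_iff _).1 h₃) hnd
  refine ⟨h, hM, hs (c₁, 5) ?_, hs (c₂, 7) ?_, hs (c₃, 10) ?_⟩ <;> simp [base3]

/-- initial domains for an involution -/
def dom2 : List ℕ := [1,340831,340831,340831,340831,128,340831,16436256,340831,340831,16435360,16434336,340831,340831,16420000,16403616,340831,16305312,340831,15912096,15387808,14339232,12242080,8047776]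

/-- initial domains for an element of order three -/
def dom3 : List ℕ := [1,340831,340831,340831,340831,128,340831,1024,340831,340831,16435360,16434336,340831,340831,16420000,16403616,340831,16305312,340831,15912096,15387808,14339232,12242080,8047776]

/-- refutation certificate for involutions -/
def cert2 : Cert :=
(.inj 0 (.inj 5 (.cyc 5 (.inj 7 (.split 10 11
 (.inj 10 (.cyc 10 (.inj 11 (.octad 15777 15777 (.split 8 8
 (.inj 8 (.split 12 12
 (.inj 12 (.split 14 15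
 (.inj 14 (.cyc 14 (.inj 15 (.octad 1352353 2121909 (.cyc 20 (.inj 21 (.octad 2422785 1302533 (.contra 11))))))))
 (.split 14 17
 (.inj 14 (.cyc 14 (.inj 17 (.octad 8593633 2121909 (.cyc 23 (.inj 21 (.octad 10630149 11100169 (.contra 10))))))))
 (.split 14 19
 (.inj 14 (.cyc 14 (.inj 19 (.octad 2121909 4726955 (.cyc 21 (.inj 22 (.octad 6053905 11100169 (.cyc 2 (.inj 1 (.cyc 4 (.inj 3 (.cyc 18 (.inj 16 (.cyc 20 (.inj 23 (.octad 9543722 11952160 (.contra 1)))))))))))))))))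
 (.split 14 20
 (.inj 14 (.cyc 14 (.inj 20 (.octad 1352353 2121909 (.cyc 15 (.inj 21 (.octad 3172097 1302533 (.contra 8))))))))
 (.octad 352547 14950785 (.inj 1 (.contra 16))))))))
 (.inj 12 (.split 14 15
 (.inj 14 (.cyc 14 (.inj 15 (.octad 118953 2121909 (.contra 14)))))
 (.split 14 17
 (.inj 14 (.cyc 14 (.inj 17 (.octad 2494627 2121909 (.contra 21)))))
 (.split 14 19
 (.inj 14 (.cyc 14 (.inj 19 (.octad 118953 4726955 (.cyc 15 (.inj 22 (.octad 13811730 12222476 (.contra 15))))))))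
 (.split 14 20
 (.inj 14 (.cyc 14 (.inj 20 (.octad 1577201 2121909 (.cyc 19 (.inj 21 (.octad 12325377 11100169 (.contra 23))))))))
 (.octad 10506593 14950785 (.cyc 6 (.inj 18 (.octad 10666625 15335473 (.inj 17 (.cyc 9 (.inj 4 (.cyc 15 (.contra 17))))))))))))))))
 (.split 8 12
 (.inj 8 (.cyc 8 (.inj 12 (.split 14 15
 (.inj 14 (.cyc 14 (.inj 15 (.octad 1352353 2121909 (.cyc 20 (.inj 21 (.octad 2422785 1302533 (.contra 11))))))))
 (.split 14 17
 (.inj 14 (.cyc 14 (.inj 17 (.octad 8593633 2121909 (.cyc 23 (.inj 21 (.octad 10630149 11100169 (.contra 10))))))))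
 (.split 14 19
 (.inj 14 (.cyc 14 (.inj 19 (.octad 2121909 4726955 (.cyc 21 (.inj 22 (.octad 6053905 11100169 (.cyc 2 (.inj 1 (.cyc 4 (.inj 3 (.cyc 18 (.inj 16 (.cyc 20 (.inj 23 (.octad 9543722 11952160 (.contra 1)))))))))))))))))
 (.split 14 20
 (.inj 14 (.cyc 14 (.inj 20 (.octad 1352353 2121909 (.cyc 15 (.inj 21 (.octad 3172097 1302533 (.contra 8))))))))
 (.octad 684577 14950785 (.cyc 9 (.inj 18 (.octad 737427 15335473 (.inj 1 (.contra 4)))))))))))))
 (.inj 8 (.cyc 8 (.inj 13 (.split 14 15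
 (.inj 14 (.cyc 14 (.inj 15 (.octad 8421811 2121909 (.cyc 23 (.inj 21 (.octad 11046145 11100169 (.contra 10))))))))
 (.split 14 17
 (.inj 14 (.cyc 14 (.inj 17 (.octad 5390753 2121909 (.contra 14)))))
 (.split 14 19
 (.inj 14 (.cyc 14 (.inj 19 (.octad 5390753 4726955 (.contra 22)))))
 (.split 14 20
 (.inj 14 (.cyc 14 (.inj 20 (.octad 5390753 2121909 (.contra 14)))))
 (.octad 352547 14950785 (.inj 1 (.contra 16))))))))))))))))
 (.split 10 14
 (.inj 10 (.cyc 10 (.inj 14 (.octad 18147 18147 (.split 1 1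
 (.inj 1 (.split 6 6
 (.inj 6 (.split 11 15
 (.inj 11 (.cyc 11 (.inj 15 (.octad 12717187 3719203 (.octad 16262146 13811730 (.contra 11))))))
 (.split 11 17
 (.inj 11 (.cyc 11 (.inj 17 (.octad 12717187 8536111 (.contra 17)))))
 (.split 11 19
 (.inj 11 (.cyc 11 (.inj 19 (.octad 12717187 3719203 (.octad 3179802 13811730 (.inj 3 (.inj 17 (.contra 4))))))))
 (.split 11 20
 (.inj 11 (.cyc 11 (.inj 20 (.octad 12717187 3719203 (.octad 2664522 13811730 (.contra 6))))))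
 (.octad 2624690 14762146 (.cyc 4 (.inj 16 (.octad 2162811 12656663 (.contra 5))))))))))
 (.inj 6 (.split 11 15
 (.inj 11 (.cyc 11 (.inj 15 (.octad 12717187 3719203 (.octad 16262146 13811730 (.contra 11))))))
 (.split 11 17
 (.inj 11 (.cyc 11 (.inj 17 (.octad 12717187 8536111 (.contra 17)))))
 (.split 11 19
 (.inj 11 (.cyc 11 (.inj 19 (.octad 12717187 3719203 (.octad 3179802 13811730 (.inj 3 (.inj 17 (.contra 4))))))))
 (.split 11 20
 (.inj 11 (.cyc 11 (.inj 20 (.octad 12717187 3719203 (.octad 2664522 13811730 (.contra 6))))))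
 (.octad 2624690 14762146 (.cyc 4 (.inj 16 (.octad 2162811 12656663 (.contra 5))))))))))))
 (.split 1 6
 (.inj 1 (.cyc 1 (.inj 6 (.split 11 15
 (.inj 11 (.cyc 11 (.inj 15 (.octad 593097 3719203 (.contra 3)))))
 (.split 11 17
 (.inj 11 (.cyc 11 (.inj 17 (.octad 593097 8536111 (.cyc 19 (.inj 23 (.octad 13121601 9347075 (.cyc 22 (.inj 15 (.octad 6302745 1302533 (.cyc 3 (.contra 2))))))))))))
 (.split 11 19
 (.inj 11 (.cyc 11 (.inj 19 (.octad 593097 3719203 (.contra 3)))))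
 (.split 11 20
 (.inj 11 (.cyc 11 (.inj 20 (.octad 593097 3719203 (.contra 3)))))
 (.octad 1445088 14762146 (.cyc 18 (.inj 16 (.octad 3610628 16056344 (.cyc 21 (.inj 20 (.octad 2460752 10305542 (.cyc 4 (.inj 2 (.cyc 11 (.inj 23 (.cyc 12 (.inj 3 (.cyc 15 (.inj 19 (.octad 4563017 9347075 (.contra 3))))))))))))))))))))))))
 (.inj 1 (.cyc 1 (.inj 9 (.split 11 15
 (.inj 11 (.cyc 11 (.inj 15 (.octad 2363013 3719203 (.contra 2)))))
 (.split 11 17
 (.inj 11 (.cyc 11 (.inj 17 (.octad 2363013 8536111 (.cyc 21 (.inj 23 (.octad 15073798 12222476 (.contra 1))))))))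
 (.split 11 19
 (.inj 11 (.cyc 11 (.inj 19 (.octad 2363013 3719203 (.contra 2)))))
 (.split 11 20
 (.inj 11 (.cyc 11 (.inj 20 (.octad 2363013 3719203 (.contra 2)))))
 (.octad 8490656 14762146 (.octad 8431757 15335473 (.inj 2 (.contra 3)))))))))))))))))
 (.split 10 15
 (.inj 10 (.cyc 10 (.inj 15 (.octad 689317 689317 (.split 11 14
 (.inj 11 (.cyc 11 (.inj 14 (.octad 551943 1302533 (.contra 14)))))
 (.split 11 20
 (.inj 11 (.cyc 11 (.inj 20 (.octad 551943 1302533 (.contra 14)))))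
 (.octad 3811457 15335473 (.cyc 13 (.inj 4 (.octad 924689 9347075 (.inj 21 (.cyc 11 (.inj 23 (.inj 14 (.cyc 14 (.contra 20))))))))))))))))
 (.split 10 17
 (.inj 10 (.cyc 10 (.inj 17 (.octad 689317 689317 (.split 11 14
 (.inj 11 (.cyc 11 (.inj 14 (.octad 551943 1302533 (.contra 14)))))
 (.split 11 20
 (.inj 11 (.cyc 11 (.inj 20 (.octad 551943 1302533 (.contra 14)))))
 (.octad 1100945 15335473 (.octad 560668 5210132 (.cyc 11 (.inj 22 (.octad 11010247 1302533 (.contra 7))))))))))))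
 (.split 10 19
 (.inj 10 (.cyc 10 (.inj 19 (.octad 689317 689317 (.split 11 14
 (.inj 11 (.cyc 11 (.inj 14 (.octad 2263063 1302533 (.cyc 21 (.inj 20 (.octad 7767041 9347075 (.contra 20))))))))
 (.split 11 20
 (.inj 11 (.cyc 11 (.inj 20 (.octad 2263063 1302533 (.cyc 21 (.inj 14 (.octad 7767041 9347075 (.contra 20))))))))
 (.octad 1100945 15335473 (.octad 1217620 5210132 (.cyc 20 (.inj 22 (.octad 12747077 1302533 (.cyc 6 (.inj 16 (.cyc 8 (.inj 13 (.cyc 12 (.inj 18 (.cyc 21 (.inj 11 (.octad 185603 9347075 (.octad 10110017 11100169 (.contra 8))))))))))))))))))))))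
 (.split 10 20
 (.inj 10 (.cyc 10 (.inj 20 (.octad 11535529 11535529 (.split 11 14
 (.inj 11 (.cyc 11 (.inj 14 (.octad 10881097 11100169 (.cyc 17 (.inj 19 (.octad 15335473 9347075 (.contra 5))))))))
 (.split 11 15
 (.inj 11 (.cyc 11 (.inj 15 (.octad 10554382 12222476 (.inj 1 (.inj 14 (.inj 17 (.contra 2))))))))
 (.octad 10557585 15335473 (.inj 4 (.contra 12)))))))))
 (.split 10 21
 (.inj 10 (.cyc 10 (.inj 21 (.octad 11535529 11535529 (.split 11 14
 (.inj 11 (.cyc 11 (.inj 14 (.octad 1182989 11100169 (.cyc 17 (.inj 19 (.octad 5902343 9347075 (.cyc 2 (.inj 13 (.cyc 8 (.inj 16 (.octad 12656663 1302533 (.contra 1)))))))))))))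
 (.split 11 15
 (.inj 11 (.cyc 11 (.inj 15 (.octad 13667400 12222476 (.contra 15)))))
 (.octad 1100945 15335473 (.octad 9462812 16056344 (.cyc 14 (.inj 22 (.octad 13938692 10305542 (.cyc 11 (.inj 17 (.octad 1869893 9347075 (.cyc 2 (.contra 18))))))))))))))))
 (.split 10 22
 (.inj 10 (.cyc 10 (.inj 22 (.octad 4523185 4523185 (.split 4 4
 (.inj 4 (.split 16 16
 (.inj 16 (.split 11 14
 (.inj 11 (.cyc 11 (.inj 14 (.octad 12222476 12222476 (.octad 924689 6053905 (.inj 19 (.cyc 12 (.inj 13 (.cyc 17 (.contra 19))))))))))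
 (.split 11 15
 (.inj 11 (.cyc 11 (.inj 15 (.octad 2460752 5210132 (.contra 15)))))
 (.split 11 17
 (.inj 11 (.cyc 11 (.inj 17 (.octad 2460752 5210132 (.inj 15 (.cyc 6 (.inj 2 (.cyc 15 (.contra 19)))))))))
 (.split 11 19
 (.inj 11 (.cyc 11 (.inj 19 (.octad 924689 6053905 (.contra 19)))))
 (.octad 2460752 16056344 (.cyc 6 (.inj 3 (.octad 11831426 11952160 (.cyc 1 (.inj 13 (.octad 11731203 1302533 (.inj 19 (.cyc 8 (.inj 2 (.cyc 14 (.contra 19)))))))))))))))))
 (.inj 16 (.split 11 14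
 (.inj 11 (.cyc 11 (.inj 14 (.octad 12222476 12222476 (.octad 69395 6053905 (.inj 1 (.contra 8)))))))
 (.split 11 15
 (.inj 11 (.cyc 11 (.inj 15 (.octad 2460752 5210132 (.contra 15)))))
 (.split 11 17
 (.inj 11 (.cyc 11 (.inj 17 (.octad 2460752 5210132 (.inj 15 (.cyc 6 (.inj 2 (.cyc 15 (.contra 19)))))))))
 (.split 11 19
 (.inj 11 (.cyc 11 (.inj 19 (.octad 69395 6053905 (.inj 1 (.contra 8))))))
 (.octad 2460752 16056344 (.cyc 6 (.inj 3 (.octad 2738308 11952160 (.inj 14 (.cyc 2 (.inj 13 (.cyc 14 (.contra 17))))))))))))))))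
 (.split 4 16
 (.inj 4 (.cyc 4 (.inj 16 (.split 11 14
 (.inj 11 (.cyc 11 (.inj 14 (.octad 12222476 12222476 (.octad 9776129 6053905 (.inj 20 (.cyc 20 (.contra 19))))))))
 (.split 11 15
 (.inj 11 (.cyc 11 (.inj 15 (.octad 2460752 5210132 (.contra 15)))))
 (.split 11 17
 (.inj 11 (.cyc 11 (.inj 17 (.octad 2460752 5210132 (.inj 15 (.cyc 6 (.inj 2 (.cyc 15 (.contra 19)))))))))
 (.split 11 19
 (.inj 11 (.cyc 11 (.inj 19 (.octad 9776129 6053905 (.inj 20 (.cyc 20 (.contra 14)))))))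
 (.octad 2460752 16056344 (.cyc 6 (.inj 3 (.octad 11831426 11952160 (.cyc 1 (.inj 13 (.octad 9963547 1302533 (.contra 3)))))))))))))))
 (.inj 4 (.cyc 4 (.inj 18 (.split 11 14
 (.inj 11 (.cyc 11 (.inj 14 (.octad 12222476 12222476 (.octad 924689 6053905 (.inj 19 (.cyc 12 (.inj 13 (.cyc 17 (.contra 19))))))))))
 (.split 11 15
 (.inj 11 (.cyc 11 (.inj 15 (.octad 2460752 5210132 (.contra 15)))))
 (.split 11 17
 (.inj 11 (.cyc 11 (.inj 17 (.octad 2460752 5210132 (.inj 15 (.cyc 6 (.inj 2 (.cyc 15 (.contra 19)))))))))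
 (.split 11 19
 (.inj 11 (.cyc 11 (.inj 19 (.octad 924689 6053905 (.contra 19)))))
 (.octad 2460752 16056344 (.cyc 6 (.inj 3 (.octad 2141072 11952160 (.inj 8 (.contra 9)))))))))))))))))))
 (.inj 10 (.cyc 10 (.inj 23 (.octad 11535529 11535529 (.split 11 14
 (.inj 11 (.cyc 11 (.inj 14 (.octad 1182989 11100169 (.cyc 17 (.inj 19 (.octad 4924673 9347075 (.cyc 2 (.contra 16)))))))))
 (.split 11 15
 (.inj 11 (.cyc 11 (.inj 15 (.octad 3951624 12222476 (.inj 19 (.inj 22 (.cyc 14 (.contra 19))))))))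
 (.octad 1100945 15335473 (.octad 3179802 16056344 (.cyc 15 (.inj 22 (.octad 4476225 9347075 (.cyc 1 (.contra 16)))))))))))))))))))))))))

/-- refutation certificate for elements of order three -/
def cert3 : Cert :=
(.inj 0 (.inj 5 (.inj 7 (.cyc 5 (.inj 10 (.split 11 14
 (.inj 11 (.octad 15777 18147 (.split 8 1
 (.inj 8 (.split 12 6
 (.inj 12 (.split 15 11
 (.inj 15 (.cyc 15 (.inj 14 (.octad 4476225 3719203 (.contra 6)))))
 (.split 15 17
 (.inj 15 (.octad 11046145 8536111 (.contra 23)))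
 (.split 15 19
 (.inj 15 (.octad 11046145 3719203 (.octad 15274244 7438406 (.contra 22))))
 (.split 15 20
 (.inj 15 (.octad 11046145 3719203 (.octad 11163650 15515712 (.cyc 8 (.inj 18 (.octad 3328320 13811730 (.inj 19 (.cyc 12 (.inj 4 (.cyc 15 (.contra 17)))))))))))
 (.octad 4361520 14762146 (.octad 7767041 15335473 (.cyc 18 (.inj 16 (.octad 11731203 9347075 (.inj 22 (.cyc 1 (.contra 9)))))))))))))
 (.inj 12 (.split 15 11
 (.inj 15 (.cyc 15 (.inj 14 (.octad 4476225 3719203 (.contra 6)))))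
 (.split 15 17
 (.inj 15 (.octad 11046145 8536111 (.contra 23)))
 (.split 15 19
 (.inj 15 (.octad 11046145 3719203 (.octad 11150144 7438406 (.octad 2640465 1302533 (.cyc 4 (.contra 6))))))
 (.split 15 20
 (.inj 15 (.octad 11046145 3719203 (.octad 11282452 15515712 (.inj 2 (.inj 17 (.inj 20 (.contra 4)))))))
 (.octad 4361520 14762146 (.octad 7767041 15335473 (.cyc 18 (.inj 16 (.octad 11731203 9347075 (.inj 22 (.cyc 1 (.contra 6)))))))))))))))
 (.split 8 6
 (.inj 8 (.split 12 1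
 (.inj 12 (.split 15 11
 (.inj 15 (.cyc 15 (.inj 14 (.octad 8412681 3719203 (.contra 3)))))
 (.split 15 17
 (.inj 15 (.octad 4299781 8536111 (.octad 39257 6447171 (.inj 3 (.contra 4)))))
 (.split 15 19
 (.inj 15 (.octad 4299781 3719203 (.contra 2)))
 (.split 15 20
 (.inj 15 (.octad 4299781 3719203 (.contra 2)))
 (.octad 580704 14762146 (.cyc 8 (.inj 16 (.octad 902657 15335473 (.contra 16))))))))))
 (.inj 12 (.split 15 11
 (.inj 15 (.cyc 15 (.inj 14 (.octad 551943 3719203 (.contra 1)))))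
 (.split 15 17
 (.inj 15 (.octad 175681 8536111 (.cyc 15 (.inj 23 (.octad 9347075 9347075 (.contra 19))))))
 (.split 15 19
 (.inj 15 (.octad 175681 3719203 (.contra 6)))
 (.split 15 20
 (.inj 15 (.octad 175681 3719203 (.contra 6)))
 (.octad 3189796 14762146 (.octad 7767041 15335473 (.inj 17 (.cyc 22 (.contra 19))))))))))))
 (.inj 8 (.split 12 1
 (.inj 12 (.split 15 11
 (.inj 15 (.cyc 15 (.inj 14 (.octad 8412681 3719203 (.contra 3)))))
 (.split 15 17
 (.inj 15 (.octad 4299781 8536111 (.octad 2422785 6447171 (.inj 21 (.cyc 11 (.contra 21))))))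
 (.split 15 19
 (.inj 15 (.octad 4299781 3719203 (.contra 2)))
 (.split 15 20
 (.inj 15 (.octad 4299781 3719203 (.contra 2)))
 (.octad 580704 14762146 (.cyc 13 (.inj 16 (.octad 902657 15335473 (.contra 16))))))))))
 (.inj 12 (.split 15 11
 (.inj 15 (.cyc 15 (.inj 14 (.octad 551943 3719203 (.contra 1)))))
 (.split 15 17
 (.inj 15 (.octad 175681 8536111 (.cyc 15 (.inj 23 (.octad 9347075 9347075 (.contra 19))))))
 (.split 15 19
 (.inj 15 (.octad 175681 3719203 (.contra 6)))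
 (.split 15 20
 (.inj 15 (.octad 175681 3719203 (.contra 6)))
 (.octad 3189796 14762146 (.octad 7767041 15335473 (.inj 17 (.cyc 22 (.contra 19))))))))))))))))
 (.split 11 15
 (.inj 11 (.octad 15777 689317 (.inj 8 (.contra 12))))
 (.split 11 17
 (.inj 11 (.octad 15777 689317 (.inj 8 (.contra 12))))
 (.split 11 19
 (.inj 11 (.octad 15777 689317 (.inj 8 (.contra 12))))
 (.split 11 20
 (.inj 11 (.octad 15777 11535529 (.inj 8 (.contra 12))))
 (.split 11 21
 (.inj 11 (.octad 15777 11535529 (.inj 8 (.contra 12))))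
 (.split 11 22
 (.inj 11 (.octad 15777 4523185 (.split 8 4
 (.inj 8 (.split 12 16
 (.inj 12 (.split 14 11
 (.inj 14 (.cyc 14 (.inj 22 (.octad 12222476 12222476 (.octad 5286147 6053905 (.inj 20 (.cyc 1 (.inj 18 (.cyc 15 (.inj 19 (.octad 9347075 9347075 (.contra 15))))))))))))
 (.split 14 15
 (.inj 14 (.octad 31554 5210132 (.inj 1 (.contra 6))))
 (.split 14 17
 (.inj 14 (.octad 31554 5210132 (.inj 1 (.contra 6))))
 (.split 14 19
 (.inj 14 (.octad 8546577 6053905 (.cyc 4 (.contra 18))))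
 (.octad 31554 16056344 (.inj 1 (.contra 6))))))))
 (.inj 12 (.split 14 11
 (.inj 14 (.cyc 14 (.inj 22 (.octad 12222476 12222476 (.octad 6429441 6053905 (.cyc 9 (.inj 16 (.octad 7221256 10305542 (.cyc 2 (.contra 2))))))))))
 (.split 14 15
 (.inj 14 (.octad 31554 5210132 (.inj 1 (.contra 6))))
 (.split 14 17
 (.inj 14 (.octad 31554 5210132 (.inj 1 (.contra 6))))
 (.split 14 19
 (.inj 14 (.octad 1661185 6053905 (.inj 20 (.cyc 13 (.contra 13)))))
 (.octad 31554 16056344 (.inj 1 (.contra 6))))))))))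
 (.split 8 16
 (.inj 8 (.split 12 4
 (.inj 12 (.split 14 11
 (.inj 14 (.cyc 14 (.inj 22 (.octad 12222476 12222476 (.octad 13121601 6053905 (.inj 19 (.cyc 6 (.inj 18 (.cyc 23 (.inj 20 (.octad 11575377 9347075 (.inj 15 (.cyc 12 (.inj 1 (.octad 15515712 1302533 (.contra 0))))))))))))))))
 (.split 14 15
 (.inj 14 (.octad 31554 5210132 (.inj 1 (.contra 6))))
 (.split 14 17
 (.inj 14 (.octad 31554 5210132 (.inj 1 (.contra 6))))
 (.split 14 19
 (.inj 14 (.octad 2422785 6053905 (.cyc 13 (.contra 13))))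
 (.octad 31554 16056344 (.inj 1 (.contra 6))))))))
 (.inj 12 (.split 14 11
 (.inj 14 (.cyc 14 (.inj 22 (.octad 12222476 12222476 (.octad 13121601 6053905 (.inj 19 (.cyc 6 (.inj 4 (.cyc 23 (.inj 20 (.octad 11575377 9347075 (.contra 4))))))))))))
 (.split 14 15
 (.inj 14 (.octad 31554 5210132 (.inj 1 (.contra 6))))
 (.split 14 17
 (.inj 14 (.octad 31554 5210132 (.inj 1 (.contra 6))))
 (.split 14 19
 (.inj 14 (.octad 2422785 6053905 (.cyc 12 (.contra 13))))
 (.octad 31554 16056344 (.inj 1 (.contra 6))))))))))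
 (.inj 8 (.split 12 4
 (.inj 12 (.split 14 11
 (.inj 14 (.cyc 14 (.inj 22 (.octad 12222476 12222476 (.octad 6429441 6053905 (.cyc 9 (.inj 16 (.octad 7479572 10305542 (.cyc 12 (.inj 1 (.octad 1737489 9347075 (.inj 15 (.octad 15762208 11952160 (.contra 5))))))))))))))
 (.split 14 15
 (.inj 14 (.octad 31554 5210132 (.inj 1 (.contra 6))))
 (.split 14 17
 (.inj 14 (.octad 31554 5210132 (.inj 1 (.contra 6))))
 (.split 14 19
 (.inj 14 (.octad 1661185 6053905 (.inj 20 (.cyc 13 (.contra 13)))))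
 (.octad 31554 16056344 (.inj 1 (.contra 6))))))))
 (.inj 12 (.split 14 11
 (.inj 14 (.cyc 14 (.inj 22 (.octad 12222476 12222476 (.octad 5286147 6053905 (.inj 20 (.cyc 1 (.inj 4 (.cyc 15 (.inj 19 (.octad 3719203 9347075 (.contra 4))))))))))))
 (.split 14 15
 (.inj 14 (.octad 31554 5210132 (.inj 1 (.contra 6))))
 (.split 14 17
 (.inj 14 (.octad 31554 5210132 (.inj 1 (.contra 6))))
 (.split 14 19
 (.inj 14 (.octad 8546577 6053905 (.cyc 4 (.contra 4))))
 (.octad 31554 16056344 (.inj 1 (.contra 6))))))))))))))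
 (.inj 11 (.octad 15777 11535529 (.inj 8 (.contra 12))))))))))))))))

theorem cert2_ok : check 2 (fun _ => false) cert2 dom2 = true := by decide +kernel

theorem cert3_ok : check 3 (fun _ => false) cert3 dom3 = true := by decide +kernel

theorem chainOK_base2 : chainOKg chkM11 tMask [] [5, 7] [lev0, lev1] = true := by
  decide +kernel

/-- `M11` is 2-fold transitive on the complementary dodecad -/
theorem exists_sends_base2 (c₁ c₂ : GolayPt) (hnd : [c₁, c₂].Nodup)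
    (h₁ : c₁ ∉ Spor.squareDodecad) (h₂ : c₂ ∉ Spor.squareDodecad) :
    ∃ h ∈ Spor.M11, h c₁ = gPt 5 ∧ h c₂ = gPt 7 := by
  obtain ⟨h, hM, hs⟩ := exists_sends_of_chainOKg chkM11_spec horb chainOK_base2 [c₁, c₂] rfl
    (by
      intro c hc
      simp only [List.mem_cons, List.not_mem_nil, or_false] at hc
      rcases hc with rfl | rfl
      · exact (not_mem_iff _).1 h₁
      · exact (not_mem_iff _).1 h₂) hnd
  refine ⟨h, hM, hs (c₁, 5) ?_, hs (c₂, 7) ?_⟩ <;> simp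

/-- the domain function for involutions -/
def domF2 (x : ℕ) : ℕ :=
  if x = 0 then 1 else if x = 5 then 2 ^ 7 else if sMask.testBit x then sMask else tMask ^^^ 2 ^ x

/-- the domain function for elements of order three -/
def domF3 (x : ℕ) : ℕ :=
  if x = 0 then 1 else if x = 5 then 2 ^ 7 else if x = 7 then 2 ^ 10
  else if sMask.testBit x then sMask else tMask ^^^ 2 ^ x

theorem dom2_eq : dom2 = (List.range 24).map domF2 := by decide +kernel

theorem dom3_eq : dom3 = (List.range 24).map domF3 := by decide +kernel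

theorem getD_map_range (f : ℕ → ℕ) (x : ℕ) (hx : x < 24) :
    ((List.range 24).map f).getD x 0 = f x := by
  rw [List.getD_eq_getElem _ _ (by simpa using hx), List.getElem_map, List.getElem_range]

theorem gPt_mem_iff (x : ℕ) (hx : x < 24) :
    gPt x ∈ Spor.squareDodecad ↔ sMask.testBit x = true := by
  rw [squareDodecad_eq, mem_setOf, gIdx_gPt x hx]

theorem sMask_or_tMask (x : ℕ) (hx : x < 24) (h : ¬ sMask.testBit x = true) :
    tMask.testBit x = true := by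
  rw [tMask_spec x hx]
  simpa using h

/-- the generic part of compatibility: values stay in the same dodecad, no fixed point in the
complementary one -/
theorem compat_generic {g : Equiv.Perm GolayPt} (hg : g ∈ Spor.M11)
    (hfp : ∀ x, x ∉ Spor.squareDodecad → g x ≠ x) (x : ℕ) (hx : x < 24) :
    (if sMask.testBit x then sMask else tMask ^^^ 2 ^ x).testBit (gIdx (g (gPt x))) = true := by
  split_ifs with hs
  · have : g (gPt x) ∈ Spor.squareDodecad :=
      (mem_iff_of_mem_M11 hg _).2 ((gPt_mem_iff x hx).2 hs)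
    rwa [squareDodecad_eq, mem_setOf] at this
  · have hnot : gPt x ∉ Spor.squareDodecad := fun h => hs ((gPt_mem_iff x hx).1 h)
    have h1 : g (gPt x) ∉ Spor.squareDodecad := fun h => hnot ((mem_iff_of_mem_M11 hg _).1 h)
    have h2 := (not_mem_iff _).1 h1
    have h3 : gIdx (g (gPt x)) ≠ x := by
      intro he
      apply hfp (gPt x) hnot
      have hgp : gPt (gIdx (g (gPt x))) = g (gPt x) := gPt_gIdx _
      rw [he] at hgp
      exact hgp.symm
    rw [Nat.testBit_xor, h2, Nat.testBit_two_pow]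
    simp [Ne.symm h3]

theorem gPt_zero : gPt 0 = (some 0 : GolayPt) := by decide

theorem compat_dom2 {g : Equiv.Perm GolayPt} (hg : g ∈ Spor.M11)
    (hfp : ∀ x, x ∉ Spor.squareDodecad → g x ≠ x) (h5 : g (gPt 5) = gPt 7) : Compat g dom2 := by
  intro x hx
  rw [dom2_eq, getD_map_range _ _ hx]
  unfold domF2
  split_ifs with h0 h5'
  · subst h0
    rw [gPt_zero, ((mem_M11_iff g).1 hg).2.2]
    decide
  · subst h5'
    rw [h5]
    decide
  · have := compat_generic hg hfp x hx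
    rw [if_pos ‹_›] at this
    exact this
  · have := compat_generic hg hfp x hx
    rw [if_neg ‹_›] at this
    exact this

theorem compat_dom3 {g : Equiv.Perm GolayPt} (hg : g ∈ Spor.M11)
    (hfp : ∀ x, x ∉ Spor.squareDodecad → g x ≠ x) (h5 : g (gPt 5) = gPt 7)
    (h7 : g (gPt 7) = gPt 10) : Compat g dom3 := by
  intro x hx
  rw [dom3_eq, getD_map_range _ _ hx]
  unfold domF3
  split_ifs with h0 h5' h7'
  · subst h0
    rw [gPt_zero, ((mem_M11_iff g).1 hg).2.2]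
    decide
  · subst h5'
    rw [h5]
    decide
  · subst h7'
    rw [h7]
    decide
  · have := compat_generic hg hfp x hx
    rw [if_pos ‹_›] at this
    exact this
  · have := compat_generic hg hfp x hx
    rw [if_neg ‹_›] at this
    exact this

theorem gPt5_not_mem : gPt 5 ∉ Spor.squareDodecad := by
  rw [not_mem_iff, gIdx_gPt 5 (by norm_num)]
  decide

/-- conjugating by an element of `M11` keeps the absence of fixed points -/
theorem conj_props {g h : Equiv.Perm GolayPt} (hg : g ∈ Spor.M11) (hh : h ∈ Spor.M11)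
    (hfp : ∀ x, x ∉ Spor.squareDodecad → g x ≠ x) :
    h * g * h⁻¹ ∈ Spor.M11 ∧ ∀ x, x ∉ Spor.squareDodecad → (h * g * h⁻¹) x ≠ x := by
  refine ⟨Spor.M11.mul_mem (Spor.M11.mul_mem hh hg) (Spor.M11.inv_mem hh), ?_⟩
  intro x hx hfix
  have hx' : h⁻¹ x ∉ Spor.squareDodecad := by
    intro hmem
    apply hx
    have := (mem_iff_of_mem_M11 hh (h⁻¹ x)).2 hmem
    rwa [← Equiv.Perm.mul_apply, mul_inv_cancel, Equiv.Perm.one_apply] at this
  apply hfp _ hx'
  rw [Equiv.Perm.mul_apply, Equiv.Perm.mul_apply] at hfix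
  rw [Equiv.Perm.eq_inv_iff_eq]
  exact hfix

theorem no_involution {g : Equiv.Perm GolayPt} (hg : g ∈ Spor.M11) (hg2 : g ^ 2 = 1)
    (hfp : ∀ x, x ∉ Spor.squareDodecad → g x ≠ x) : False := by
  have hy : g (gPt 5) ∉ Spor.squareDodecad :=
    fun h => gPt5_not_mem ((mem_iff_of_mem_M11 hg _).1 h)
  have hne : g (gPt 5) ≠ gPt 5 := hfp _ gPt5_not_mem
  obtain ⟨h, hh, h1, h2⟩ := exists_sends_base2 (gPt 5) (g (gPt 5))
    (by simp [Ne.symm hne]) gPt5_not_mem hy
  obtain ⟨hg', hfp'⟩ := conj_props hg hh hfp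
  have h5 : (h * g * h⁻¹) (gPt 5) = gPt 7 := by
    rw [Equiv.Perm.mul_apply, Equiv.Perm.mul_apply]
    have : h⁻¹ (gPt 5) = gPt 5 := by rw [Equiv.Perm.inv_eq_iff_eq]; exact h1.symm
    rw [this, h2]
  have hpow : (h * g * h⁻¹) ^ 2 = 1 := by
    rw [conj_pow, hg2, mul_one, mul_inv_cancel]
  obtain ⟨tab, htab, -⟩ := check_sound (fun _ => false) ((mem_M11_iff _).1 hg').1 hpow cert2 dom2
    cert2_ok (compat_dom2 hg' hfp' h5)
  exact Bool.false_ne_true htab

theorem no_order_three {g : Equiv.Perm GolayPt} (hg : g ∈ Spor.M11) (hg3 : g ^ 3 = 1)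
    (hfp : ∀ x, x ∉ Spor.squareDodecad → g x ≠ x) : False := by
  have hy : g (gPt 5) ∉ Spor.squareDodecad :=
    fun h => gPt5_not_mem ((mem_iff_of_mem_M11 hg _).1 h)
  have hz : g (g (gPt 5)) ∉ Spor.squareDodecad :=
    fun h => hy ((mem_iff_of_mem_M11 hg _).1 h)
  have hne1 : g (gPt 5) ≠ gPt 5 := hfp _ gPt5_not_mem
  have hne2 : g (g (gPt 5)) ≠ g (gPt 5) := hfp _ hy
  have hne3 : g (g (gPt 5)) ≠ gPt 5 := by
    intro he
    apply hne1
    have h3 : (g ^ 3) (gPt 5) = gPt 5 := by rw [hg3, Equiv.Perm.one_apply]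
    have h3' : g (g (g (gPt 5))) = gPt 5 := by
      rw [pow_succ, pow_succ, pow_one, Equiv.Perm.mul_apply, Equiv.Perm.mul_apply] at h3
      exact h3
    rw [he] at h3'
    exact h3'
  obtain ⟨h, hh, h1, h2, h3⟩ := exists_sends_base3 (gPt 5) (g (gPt 5)) (g (g (gPt 5)))
    (by simp [Ne.symm hne1, Ne.symm hne2, Ne.symm hne3]) gPt5_not_mem hy hz
  obtain ⟨hg', hfp'⟩ := conj_props hg hh hfp
  have h5 : (h * g * h⁻¹) (gPt 5) = gPt 7 := by
    rw [Equiv.Perm.mul_apply, Equiv.Perm.mul_apply]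
    have : h⁻¹ (gPt 5) = gPt 5 := by rw [Equiv.Perm.inv_eq_iff_eq]; exact h1.symm
    rw [this, h2]
  have h7 : (h * g * h⁻¹) (gPt 7) = gPt 10 := by
    rw [Equiv.Perm.mul_apply, Equiv.Perm.mul_apply]
    have : h⁻¹ (gPt 7) = g (gPt 5) := by rw [Equiv.Perm.inv_eq_iff_eq]; exact h2.symm
    rw [this, h3]
  have hpow : (h * g * h⁻¹) ^ 3 = 1 := by
    rw [conj_pow, hg3, mul_one, mul_inv_cancel]
  obtain ⟨tab, htab, -⟩ := check_sound (fun _ => false) ((mem_M11_iff _).1 hg').1 hpow cert3 dom3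
    cert3_ok (compat_dom3 hg' hfp' h5 h7)
  exact Bool.false_ne_true htab

theorem card_compl : Fintype.card {x : GolayPt // x ∉ Spor.squareDodecad} = 12 := by
  decide +kernel

theorem result (g : Equiv.Perm Cfsg.GolayPt) (hg : g ∈ Cfsg.Spor.M11) (hord : (orderOf g).Prime) :
    ∃ x : Cfsg.GolayPt, x ∉ Cfsg.Spor.squareDodecad ∧ g x = x := by
  by_contra hcon
  push Not at hcon
  have hfact : Fact (orderOf g).Prime := ⟨hord⟩
  have hpow : g ^ orderOf g = 1 := pow_orderOf_eq_one g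
  -- the restriction of `g` to the complementary dodecad
  have hinv : ∀ x, g x ∉ Spor.squareDodecad ↔ x ∉ Spor.squareDodecad :=
    fun x => not_congr (mem_iff_of_mem_M11 hg x)
  have hdvd : orderOf g ∣ 12 := by
    by_contra hnd
    rw [← card_compl] at hnd
    have hσ : (g.subtypePerm (p := fun x => x ∉ Spor.squareDodecad) hinv) ^ (orderOf g) ^ 1
        = 1 := by
      rw [pow_one, Equiv.Perm.subtypePerm_pow]
      simp only [hpow]
      rfl
    obtain ⟨a, ha⟩ := Equiv.Perm.exists_fixed_point_of_prime (hp := hfact) hnd hσ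
    apply hcon a.1 a.2
    have := congrArg Subtype.val ha
    simpa using this
  have h23 : orderOf g = 2 ∨ orderOf g = 3 := by
    have h12 : (12 : ℕ) = 2 ^ 2 * 3 := by norm_num
    rw [h12] at hdvd
    rcases (Nat.Prime.dvd_mul hord).1 hdvd with h | h
    · left
      exact (Nat.prime_dvd_prime_iff_eq hord Nat.prime_two).1 (hord.dvd_of_dvd_pow h)
    · right
      exact (Nat.prime_dvd_prime_iff_eq hord Nat.prime_three).1 h
  rcases h23 with h2 | h3
  · rw [h2] at hpow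
    exact no_involution hg hpow hcon
  · rw [h3] at hpow
    exact no_order_three hg hpow hcon

end Cfsg.Agent.S5522
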