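import Cfsg.Statements.S5529
import Cfsg.Agent.Helper27.M23TriSyl
import Cfsg.Agent.Helper27.M23TriData

set_option autoImplicit false
open Cfsg

namespace Cfsg.Agent.S5529

open Cfsg.Agent.Helper27 Cfsg.Agent.Helper27.ReeScott Cfsg.Agent.Helper27.M23Gen
  Cfsg.Agent.Helper27.M23TriData

theorem prime_cases (p : ℕ) (hp : p.Prime) (h : p ∣ 10200960) :
    p = 2 ∨ p = 3 ∨ p = 5 ∨ p = 7 ∨ p = 11 ∨ p = 23 := by
  have h' : p ∣ 2 ^ 7 * 3 ^ 2 * 5 * 7 * 11 * 23 := by
    have e : 2 ^ 7 * 3 ^ 2 * 5 * 7 * 11 * 23 = 10200960 := by norm_num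
    rw [e]
    exact h
  have key : ∀ a : ℕ, a.Prime → p ∣ a → p = a := fun a ha hpa =>
    (Nat.prime_dvd_prime_iff_eq hp ha).mp hpa
  rcases (Nat.Prime.dvd_mul hp).mp h' with h1 | h1
  · rcases (Nat.Prime.dvd_mul hp).mp h1 with h2 | h2
    · rcases (Nat.Prime.dvd_mul hp).mp h2 with h3 | h3
      · rcases (Nat.Prime.dvd_mul hp).mp h3 with h4 | h4
        · rcases (Nat.Prime.dvd_mul hp).mp h4 with h5 | h5
          · left
            exact key 2 (by norm_num) (hp.dvd_of_dvd_pow h5)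
          · right; left
            exact key 3 (by norm_num) (hp.dvd_of_dvd_pow h5)
        · right; right; left
          exact key 5 (by norm_num) h4
      · right; right; right; left
        exact key 7 (by norm_num) h3
    · right; right; right; right; left
      exact key 11 (by norm_num) h2
  · right; right; right; right; right
    exact key 23 (by norm_num) h1

theorem no_triple (p q r : ℕ) (x y z : Cfsg.Spor.M23) (hx : orderOf x = p) (hy : orderOf y = q)
    (hz : orderOf z = r) (hxyz : x * y * z = 1) (hgen : Subgroup.closure {x, y} = ⊤)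
    (hbad : (p = 2 ∧ q = 3) ∨ (p = 2 ∧ q = 5 ∧ r = 5) ∨ (p = 2 ∧ q = 5 ∧ r = 7) ∨
      (p = 3 ∧ q = 3 ∧ r ≤ 7))
    (hr : r.Prime) (hqr : q ≤ r) : False := by
  have hX : orderOf (x : Equiv.Perm GolayPt) = p := by rw [Subgroup.orderOf_coe, hx]
  have hY : orderOf (y : Equiv.Perm GolayPt) = q := by rw [Subgroup.orderOf_coe, hy]
  have hZ : orderOf (z : Equiv.Perm GolayPt) = r := by rw [Subgroup.orderOf_coe, hz]
  have hprod : (x : Equiv.Perm GolayPt) * y * z = 1 := congrArg Subtype.val hxyz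
  have hgen' : Subgroup.closure {(x : Equiv.Perm GolayPt), (y : Equiv.Perm GolayPt)} = M23p :=
    (closure_pair_eq_top_iff Cfsg.Spor.M23 x y).mp hgen
  have hb := cyc_bound x y z hprod hgen'
  have hzpos := cyc_pos (z : Equiv.Perm GolayPt)
  rcases hbad with ⟨rfl, rfl⟩ | ⟨rfl, rfl, rfl⟩ | ⟨rfl, rfl, rfl⟩ | ⟨rfl, rfl, hr7⟩
  · have h2 := cyc_ge_of_order2 x hX (supp2 x x.2 hX)
    have h3 := cyc_ge_of_order3 y hY (supp3 y y.2 hY)
    omega
  · have h2 := cyc_ge_of_order2 x hX (supp2 x x.2 hX)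
    have h5 := cyc_ge_of_order5 y hY
    have h5' := cyc_ge_of_order5 z hZ
    omega
  · have h2 := cyc_ge_of_order2 x hX (supp2 x x.2 hX)
    have h5 := cyc_ge_of_order5 y hY
    have h7 := cyc_ge_of_order7 z hZ
    omega
  · have h3 := cyc_ge_of_order3 x hX (supp3 x x.2 hX)
    have h3' := cyc_ge_of_order3 y hY (supp3 y y.2 hY)
    have hr3 : 3 ≤ r := hqr
    interval_cases r
    · have h3'' := cyc_ge_of_order3 z hZ (supp3 z z.2 hZ)
      omega
    · exact absurd hr (by norm_num)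
    · have h5 := cyc_ge_of_order5 z hZ
      omega
    · exact absurd hr (by norm_num)
    · have h7 := cyc_ge_of_order7 z hZ
      omega

/-- Generation of the Mathieu group M₂₃ (the stabiliser of a point in the Mathieu group M₂₄ acting on 24 points) by triples of prime orders. Let p ≤ q ≤ r be primes dividing |M₂₃| = 10200960 = 2⁷·3²·5·7·11·23, not both p and q equal to 2. Then M₂₃ contains elements x, y, z of orders p, q, r with xyz = 1 and ⟨x, y⟩ = M₂₃ if and only if (p, q, r) is none of: (2, 3, r) for any r, (2, 5, 5), (2, 5, 7), (3, 3, 3), (3, 3, 5), (3, 3, 7). -/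
theorem result (p q r : ℕ) (hp : p.Prime) (hq : q.Prime)
    (hr : r.Prime) (hpq : p ≤ q) (hqr : q ≤ r) (hp2 : ¬ (p = 2 ∧ q = 2))
    (hdvd : p ∣ 10200960 ∧ q ∣ 10200960 ∧ r ∣ 10200960) :
    (∃ x y z : Cfsg.Spor.M23, orderOf x = p ∧ orderOf y = q ∧ orderOf z = r ∧ x * y * z = 1 ∧
        Subgroup.closure {x, y} = ⊤) ↔
      ¬ ((p = 2 ∧ q = 3) ∨ (p = 2 ∧ q = 5 ∧ r = 5) ∨ (p = 2 ∧ q = 5 ∧ r = 7) ∨ (p = 3 ∧ q = 3 ∧ r ≤ 7)) := by
  constructor
  · rintro ⟨x, y, z, hx, hy, hz, hxyz, hgen⟩ hbad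
    exact no_triple p q r x y z hx hy hz hxyz hgen hbad hr hqr
  · intro hgood
    rcases prime_cases p hp hdvd.1 with rfl | rfl | rfl | rfl | rfl | rfl <;>
    rcases prime_cases q hq hdvd.2.1 with rfl | rfl | rfl | rfl | rfl | rfl <;>
    rcases prime_cases r hr hdvd.2.2 with rfl | rfl | rfl | rfl | rfl | rfl <;>
    first
    | (exfalso; omega)
    | exact ex_2_5_11
    | exact ex_2_5_23
    | exact ex_2_7_7
    | exact ex_2_7_11
    | exact ex_2_7_23
    | exact ex_2_11_11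
    | exact ex_2_11_23
    | exact ex_2_23_23
    | exact ex_3_3_11
    | exact ex_3_3_23
    | exact ex_3_5_5
    | exact ex_3_5_7
    | exact ex_3_5_11
    | exact ex_3_5_23
    | exact ex_3_7_7
    | exact ex_3_7_11
    | exact ex_3_7_23
    | exact ex_3_11_11
    | exact ex_3_11_23
    | exact ex_3_23_23
    | exact ex_5_5_5
    | exact ex_5_5_7
    | exact ex_5_5_11
    | exact ex_5_5_23
    | exact ex_5_7_7
    | exact ex_5_7_11
    | exact ex_5_7_23
    | exact ex_5_11_11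
    | exact ex_5_11_23
    | exact ex_5_23_23
    | exact ex_7_7_7
    | exact ex_7_7_11
    | exact ex_7_7_23
    | exact ex_7_11_11
    | exact ex_7_11_23
    | exact ex_7_23_23
    | exact ex_11_11_11
    | exact ex_11_11_23
    | exact ex_11_23_23
    | exact ex_23_23_23

end Cfsg.Agent.S5529
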