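import Cfsg.Statements.S5541

set_option autoImplicit false
open Cfsg

namespace Cfsg.Agent.S5541

section
variable {H : Type*} [Group H] {U : Type*} [AddCommGroup U] [Module ℝ U]

theorem rho_inv_apply (ρ : Representation ℝ H U) (g : H) (w : U) : ρ g (ρ g⁻¹ w) = w := by
  have : ρ g * ρ g⁻¹ = 1 := by rw [← map_mul, mul_inv_cancel, map_one]
  calc ρ g (ρ g⁻¹ w) = (ρ g * ρ g⁻¹) w := rfl
    _ = w := by rw [this]; rfl

/-- left-separation from irreducibility -/
theorem sep_of_irr (ρ : Representation ℝ H U)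
    (hirr : ∀ W : Submodule ℝ U, (∀ g : H, W.map (ρ g) ≤ W) → W = ⊥ ∨ W = ⊤)
    (B : LinearMap.BilinForm ℝ U) (hB0 : B ≠ 0)
    (hBi : ∀ (g : H) (u v : U), B (ρ g u) (ρ g v) = B u v) :
    ∀ u : U, (∀ v, B u v = 0) → u = 0 := by
  have hK : ∀ g : H, (LinearMap.ker B).map (ρ g) ≤ LinearMap.ker B := by
    intro g x hx
    obtain ⟨u, hu, rfl⟩ := Submodule.mem_map.1 hx
    rw [LinearMap.mem_ker] at hu ⊢
    ext v
    have h1 : B (ρ g u) v = B (ρ g u) (ρ g (ρ g⁻¹ v)) := by rw [rho_inv_apply]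
    rw [h1, hBi, hu]; rfl
  rcases hirr _ hK with h | h
  · intro u hu
    have : u ∈ LinearMap.ker B := by
      rw [LinearMap.mem_ker]; ext v; rw [hu v]; rfl
    rw [h] at this
    exact (Submodule.mem_bot ℝ).1 this
  · exfalso
    apply hB0
    ext u v
    have : u ∈ LinearMap.ker B := by rw [h]; exact Submodule.mem_top
    rw [LinearMap.mem_ker] at this
    rw [this]; rfl

theorem eq_of_sep (B : LinearMap.BilinForm ℝ U) (hsep : ∀ u : U, (∀ v, B u v = 0) → u = 0)
    (a b : U) (h : ∀ w, B a w = B b w) : a = b := by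
  have : a - b = 0 := by
    apply hsep
    intro v
    rw [map_sub, LinearMap.sub_apply, h v, sub_self]
  exact sub_eq_zero.1 this

/-- If `B (m u v) w = t u v w`, invariance of `t` gives equivariance of `m`. -/
theorem equivariant_of_invariant (ρ : Representation ℝ H U) (B : LinearMap.BilinForm ℝ U)
    (hsep : ∀ u : U, (∀ v, B u v = 0) → u = 0)
    (hBi : ∀ (g : H) (u v : U), B (ρ g u) (ρ g v) = B u v)
    (m : U →ₗ[ℝ] U →ₗ[ℝ] U) (t : U →ₗ[ℝ] U →ₗ[ℝ] U →ₗ[ℝ] ℝ)
    (hmt : ∀ u v w, B (m u v) w = t u v w)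
    (hti : ∀ (g : H) (u v w : U), t (ρ g u) (ρ g v) (ρ g w) = t u v w) :
    ∀ (g : H) (u v : U), m (ρ g u) (ρ g v) = ρ g (m u v) := by
  intro g u v
  apply eq_of_sep B hsep
  intro w
  have hw : w = ρ g (ρ g⁻¹ w) := (rho_inv_apply ρ g w).symm
  rw [hw, hmt, hti, hBi, hmt]

theorem invariant_of_equivariant (ρ : Representation ℝ H U) (B : LinearMap.BilinForm ℝ U)
    (hBi : ∀ (g : H) (u v : U), B (ρ g u) (ρ g v) = B u v)
    (m : U →ₗ[ℝ] U →ₗ[ℝ] U) (t : U →ₗ[ℝ] U →ₗ[ℝ] U →ₗ[ℝ] ℝ)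
    (hmt : ∀ u v w, B (m u v) w = t u v w)
    (hme : ∀ (g : H) (u v : U), m (ρ g u) (ρ g v) = ρ g (m u v)) :
    ∀ (g : H) (u v w : U), t (ρ g u) (ρ g v) (ρ g w) = t u v w := by
  intro g u v w
  rw [← hmt, hme, hBi, hmt]

end

theorem result {H : Type*} [Group H] {U : Type*} [AddCommGroup U] [Module ℝ U] [FiniteDimensional ℝ U] (ρ : Representation ℝ H U) (hirr : ∀ W : Submodule ℝ U, (∀ g : H, W.map (ρ g) ≤ W) → W = ⊥ ∨ W = ⊤) (B : LinearMap.BilinForm ℝ U) (hB0 : B ≠ 0) (hBs : ∀ u v, B u v = B v u) (hBi : ∀ (g : H) (u v : U), B (ρ g u) (ρ g v) = B u v) : (∃ m : U →ₗ[ℝ] U →ₗ[ℝ] U, m ≠ 0 ∧ (∀ u v, m u v = m v u) ∧ (∀ (g : H) (u v : U), m (ρ g u) (ρ g v) = ρ g (m u v)) ∧ ∀ m' : U →ₗ[ℝ] U →ₗ[ℝ] U, (∀ (g : H) (u v : U), m' (ρ g u) (ρ g v) = ρ g (m' u v)) → ∃ c : ℝ, m' = c • m) ↔ (∃ t : U →ₗ[ℝ] U →ₗ[ℝ] U →ₗ[ℝ] ℝ, t ≠ 0 ∧ (∀ u v w, t u v w = t v u w ∧ t u v w = t u w v) ∧ (∀ (g : H) (u v w : U), t (ρ g u) (ρ g v) (ρ g w) = t u v w) ∧ ∀ t' : U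 →ₗ[ℝ] U →ₗ[ℝ] U →ₗ[ℝ] ℝ, (∀ (g : H) (u v w : U), t' (ρ g u) (ρ g v) (ρ g w) = t' u v w) → ∃ c : ℝ, t' = c • t) := by
  have hsep := sep_of_irr ρ hirr B hB0 hBi
  have hnd : B.Nondegenerate := by
    refine ⟨hsep, ?_⟩
    intro y hy
    apply hsep
    intro v
    rw [hBs]; exact hy v
  -- the two transforms
  have hΨ : ∀ t : U →ₗ[ℝ] U →ₗ[ℝ] U →ₗ[ℝ] ℝ, ∀ u v w,
      B ((t.compr₂ (B.toDual hnd).symm.toLinearMap) u v) w = t u v w := by
    intro t u v w
    rw [LinearMap.compr₂_apply]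
    exact LinearMap.BilinForm.apply_toDual_symm_apply (hB := hnd) (t u v) w
  have hΦ : ∀ m : U →ₗ[ℝ] U →ₗ[ℝ] U, ∀ u v w, B (m u v) w = (m.compr₂ B) u v w := by
    intro m u v w
    rw [LinearMap.compr₂_apply]
  constructor
  · rintro ⟨m, hm0, hmc, hme, hmu⟩
    set t := m.compr₂ B with ht
    have hmt : ∀ u v w, B (m u v) w = t u v w := hΦ m
    have ht0 : t ≠ 0 := by
      intro h
      apply hm0
      ext u v
      apply eq_of_sep B hsep
      intro w
      rw [hmt, h]; simp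
    have hti := invariant_of_equivariant ρ B hBi m t hmt hme
    have htu : ∀ t' : U →ₗ[ℝ] U →ₗ[ℝ] U →ₗ[ℝ] ℝ, (∀ (g : H) (u v w : U), t' (ρ g u) (ρ g v) (ρ g w) = t' u v w) → ∃ c : ℝ, t' = c • t := by
      intro t' ht'
      obtain ⟨c, hc⟩ := hmu _ (equivariant_of_invariant ρ B hsep hBi _ t' (hΨ t') ht')
      refine ⟨c, ?_⟩
      ext u v w
      rw [← hΨ t', hc]
      simp only [LinearMap.smul_apply, map_smul, smul_eq_mul]
      rw [hmt]
    have h12 : ∀ u v w, t u v w = t v u w := by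
      intro u v w
      rw [← hmt, ← hmt, hmc]
    -- swap of the last two arguments
    obtain ⟨c, hc⟩ := htu ((LinearMap.lflip (R := ℝ) (M := U) (N := U) (P := ℝ)).comp t) (by
      intro g u v w
      simp only [LinearMap.comp_apply]
      exact hti g u w v)
    have key : ∀ u v w, t u w v = c * t u v w := by
      intro u v w
      have := congrArg (fun s => s u v w) hc
      simpa [LinearMap.lflip_apply] using this
    have hcc : c * c = 1 := by
      by_contra hne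
      apply ht0
      ext u v w
      have h1 := key u v w
      have h2 := key u w v
      rw [h1] at h2
      have h3 : (1 - c * c) * t u v w = 0 := by linarith
      rcases mul_eq_zero.1 h3 with h4 | h4
      · exfalso; apply hne; linarith
      · simpa using h4
    have hc1 : c = 1 ∨ c = -1 := by
      have : (c - 1) * (c + 1) = 0 := by ring_nf; linarith
      rcases mul_eq_zero.1 this with h | h
      · left; linarith
      · right; linarith
    have h23 : ∀ u v w, t u v w = t u w v := by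
      rcases hc1 with h | h
      · intro u v w
        rw [key u v w, h, one_mul]
      · exfalso
        apply ht0
        ext u v w
        have k1 := key u v w
        have k2 := key w u v
        have k3 := key v w u
        have s1 := h12 u w v
        have s2 := h12 w v u
        have s3 := h12 v u w
        rw [h] at k1 k2 k3
        have : t u v w = 0 := by linarith
        simpa using this
    exact ⟨t, ht0, fun u v w => ⟨h12 u v w, h23 u v w⟩, hti, htu⟩
  · rintro ⟨t, ht0, hts, hti, htu⟩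
    set m := t.compr₂ (B.toDual hnd).symm.toLinearMap with hm
    have hmt : ∀ u v w, B (m u v) w = t u v w := hΨ t
    refine ⟨m, ?_, ?_, equivariant_of_invariant ρ B hsep hBi m t hmt hti, ?_⟩
    · intro h
      apply ht0
      ext u v w
      rw [← hmt, h]; simp
    · intro u v
      apply eq_of_sep B hsep
      intro w
      rw [hmt, hmt, (hts u v w).1]
    · intro m' hm'
      obtain ⟨c, hc⟩ := htu _ (invariant_of_equivariant ρ B hBi m' _ (hΦ m') hm')
      refine ⟨c, ?_⟩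
      ext u v
      apply eq_of_sep B hsep
      intro w
      rw [hΦ m', hc]
      simp only [LinearMap.smul_apply, map_smul, smul_eq_mul]
      rw [hmt]

end Cfsg.Agent.S5541
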