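import Cfsg.Statements.S5543

set_option autoImplicit false
open Cfsg

namespace Cfsg.Agent.S5543

open Cfsg.Axial

/-- A vector that is a `1/4`-eigenvector and lies in the sum of the `1`- and `0`-eigenspaces is zero. -/
theorem eq_zero_of_mem {V : Type*} [AddCommGroup V] [Module ℝ V] (f : V →ₗ[ℝ] V) (w : V)
    (h4 : f w = (1 / 4 : ℝ) • w)
    (h10 : w ∈ Module.End.eigenspace f 1 ⊔ Module.End.eigenspace f 0) : w = 0 := by
  obtain ⟨w1, hw1, w0, hw0, rfl⟩ := Submodule.mem_sup.1 h10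
  rw [Module.End.mem_eigenspace_iff] at hw1 hw0
  rw [one_smul] at hw1
  rw [zero_smul] at hw0
  rw [map_add, hw1, hw0, add_zero, smul_add] at h4
  -- w1 = (1/4) w1 + (1/4) w0
  have h5 : (3 : ℝ) • w1 = w0 := by
    have : (4 : ℝ) • w1 = (4 : ℝ) • ((1 / 4 : ℝ) • w1 + (1 / 4 : ℝ) • w0) := by rw [← h4]
    rw [smul_add, smul_smul, smul_smul] at this
    norm_num at this
    have h6 : (3 : ℝ) • w1 = (4 : ℝ) • w1 - w1 := by
      rw [show (4 : ℝ) = 3 + 1 by norm_num, add_smul, one_smul, add_sub_cancel_right]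
    rw [h6, this, add_sub_cancel_left]
  have h7 : f ((3 : ℝ) • w1) = f w0 := by rw [h5]
  rw [map_smul, hw1, hw0] at h7
  have hw1z : w1 = 0 := by
    have : (3 : ℝ) ≠ 0 := by norm_num
    exact (smul_eq_zero.1 h7).resolve_left this
  rw [hw1z, smul_zero] at h5
  rw [hw1z, ← h5, add_zero]

theorem result {V : Type*} [AddCommGroup V] [Module ℝ V] [FiniteDimensional ℝ V] (mul : V →ₗ[ℝ] V →ₗ[ℝ] V) (B : LinearMap.BilinForm ℝ V) (hV : Cfsg.Axial.IsMajoranaAmbient mul B) (X : Subgroup (V ≃ₗ[ℝ] V)) (hX : ∀ x ∈ X, x * x = 1) (ax : (V ≃ₗ[ℝ] V) → V) (hax : ∀ x ∈ X, x ≠ 1 → Cfsg.Axial.IsMajoranaPair mul B x (ax x)) (h1 : ∀ x ∈ X, x ≠ 1 → B (ax x) (ax x) = 1) (h2A : ∀ x ∈ X, ∀ y ∈ X, x ≠ 1 → y ≠ 1 → x ≠ y → mul (ax x) (ax y) = (1 / 8 : ℝ) • (ax x + ax y - ax (x * y))) : Nat.card ↥X ≤ 4 := by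
  by_contra hcard
  push Not at hcard
  obtain ⟨hcomm, hBsymm, hBpos, hBassoc, -⟩ := hV
  -- X is abelian
  have hinv : ∀ x ∈ X, x⁻¹ = x := fun x hx => inv_eq_of_mul_eq_one_left (hX x hx)
  have hab : ∀ x ∈ X, ∀ y ∈ X, x * y = y * x := by
    intro x hx y hy
    have h := hinv (x * y) (X.mul_mem hx hy)
    rw [mul_inv_rev, hinv x hx, hinv y hy] at h
    exact h.symm
  -- idempotent
  have hidem : ∀ x ∈ X, x ≠ 1 → mul (ax x) (ax x) = ax x := fun x hx hx1 => (hax x hx hx1).2.2.1.1.2.1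
  -- inner products
  have hinner : ∀ s ∈ X, ∀ t ∈ X, s ≠ 1 → t ≠ 1 → s ≠ t → B (ax s) (ax t) = 1 / 8 := by
    intro s hs t ht hs1 ht1 hst
    have hst1 : s * t ≠ 1 := by
      intro h
      apply hst
      have := eq_inv_of_mul_eq_one_left h
      rw [hinv t ht] at this; exact this
    have hsst : s ≠ s * t := by
      intro h
      apply ht1
      have : s * 1 = s * t := by rw [mul_one]; exact h
      exact (mul_left_cancel this).symm
    have hsst' : s * (s * t) = t := by rw [← mul_assoc, hX s hs, one_mul]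
    have e1 := hBassoc (ax s) (ax s) (ax t)
    rw [hidem s hs hs1, h2A s hs t ht hs1 ht1 hst] at e1
    have e2 := hBassoc (ax s) (ax s) (ax (s * t))
    rw [hidem s hs hs1, h2A s hs (s * t) (X.mul_mem hs ht) hs1 hst1 hsst, hsst'] at e2
    simp only [map_smul, map_add, map_sub, smul_eq_mul, h1 s hs hs1] at e1 e2
    linarith
  -- eigenvectors
  have heig : ∀ x ∈ X, ∀ w ∈ X, x ≠ 1 → w ≠ 1 → x ≠ w →
      mul (ax x) (ax w - ax (x * w)) = (1 / 4 : ℝ) • (ax w - ax (x * w)) := by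
    intro x hx w hw hx1 hw1 hxw
    have hxw1 : x * w ≠ 1 := by
      intro h
      apply hxw
      have := eq_inv_of_mul_eq_one_left h
      rw [hinv w hw] at this; exact this
    have hxxw : x ≠ x * w := by
      intro h
      apply hw1
      have : x * 1 = x * w := by rw [mul_one]; exact h
      exact (mul_left_cancel this).symm
    have hxxw' : x * (x * w) = w := by rw [← mul_assoc, hX x hx, one_mul]
    rw [map_sub, h2A x hx w hw hx1 hw1 hxw, h2A x hx (x * w) (X.mul_mem hx hw) hx1 hxw1 hxxw, hxxw']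
    module
  -- get three independent elements
  have hfin : Finite ↥X := by
    apply Nat.finite_of_card_ne_zero
    omega
  have := Fintype.ofFinite ↥X
  have hcard' : 4 < Fintype.card ↥X := by rw [← Nat.card_eq_fintype_card]; exact hcard
  classical
  have hex : ∀ s : Finset ↥X, s.card ≤ 4 → ∃ a : ↥X, a ∉ s := by
    intro s hs
    by_contra hcon
    push Not at hcon
    have : s = Finset.univ := Finset.eq_univ_iff_forall.2 hcon
    rw [this, Finset.card_univ] at hs
    omega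
  obtain ⟨x, hx⟩ := hex {1} (by simp)
  obtain ⟨y, hy⟩ := hex {1, x} (le_trans (Finset.card_insert_le _ _) (by simp))
  obtain ⟨z, hz⟩ := hex {1, x, y, x * y} (by
    refine le_trans (Finset.card_insert_le _ _) ?_
    refine le_trans (Nat.succ_le_succ (Finset.card_insert_le _ _)) ?_
    refine le_trans (Nat.succ_le_succ (Nat.succ_le_succ (Finset.card_insert_le _ _))) ?_
    simp)
  simp only [Finset.mem_insert, Finset.mem_singleton, not_or] at hx hy hz
  obtain ⟨hy1, hyx⟩ := hy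
  obtain ⟨hz1, hzx, hzy, hzxy⟩ := hz
  obtain ⟨x, hxX⟩ := x
  obtain ⟨y, hyX⟩ := y
  obtain ⟨z, hzX⟩ := z
  have hx1 : x ≠ 1 := fun h => hx (Subtype.ext h)
  have hy1 : y ≠ 1 := fun h => hy1 (Subtype.ext h)
  have hyx : y ≠ x := fun h => hyx (Subtype.ext h)
  have hz1 : z ≠ 1 := fun h => hz1 (Subtype.ext h)
  have hzx : z ≠ x := fun h => hzx (Subtype.ext h)
  have hzy : z ≠ y := fun h => hzy (Subtype.ext h)
  have hzxy : z ≠ x * y := fun h => hzxy (Subtype.ext h)
  -- derived (in)equalities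
  have mul_ne_one : ∀ s ∈ X, ∀ t ∈ X, s ≠ t → s * t ≠ 1 := by
    intro s hs t ht hst h
    apply hst
    have := eq_inv_of_mul_eq_one_left h
    rw [hinv t ht] at this; exact this
  have hxyX := X.mul_mem hxX hyX
  have hxzX := X.mul_mem hxX hzX
  have hyzX := X.mul_mem hyX hzX
  have hxyzX := X.mul_mem hxX hyzX
  have hxy1 : x * y ≠ 1 := mul_ne_one x hxX y hyX hyx.symm
  have hxz1 : x * z ≠ 1 := mul_ne_one x hxX z hzX hzx.symm
  have hyz1 : y * z ≠ 1 := mul_ne_one y hyX z hzX hzy.symm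
  have hxyz1 : x * (y * z) ≠ 1 := by
    intro h
    apply hzxy
    -- x * y * z = 1 → z = (x*y)⁻¹ = x * y
    rw [← mul_assoc] at h
    have := eq_inv_of_mul_eq_one_right h
    rw [hinv (x * y) hxyX] at this; exact this
  have hyxz : y ≠ x * z := by
    intro h
    apply hzxy
    -- y = x * z → x * y = x * x * z = z
    rw [h, ← mul_assoc, hX x hxX, one_mul]
  have hxyz : x * y ≠ z := fun h => hzxy h.symm
  have hxyxz : x * y ≠ x * z := fun h => hzy (mul_left_cancel h).symm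
  have hxyz' : x ≠ y * z := by
    intro h
    apply hzxy
    -- x = y * z → x * y = y * z * y = z
    rw [h, mul_assoc, hab z hzX y hyX, ← mul_assoc, hX y hyX, one_mul]
  have hxxyz : x * (y * z) ≠ y * z := by
    intro h
    apply hx1
    have : x * (y * z) = 1 * (y * z) := by rw [one_mul]; exact h
    exact mul_right_cancel this
  -- group identities
  have g1 : y * (x * z) = x * (y * z) := by
    rw [← mul_assoc, hab y hyX x hxX, mul_assoc]
  have g2 : x * y * z = x * (y * z) := mul_assoc _ _ _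
  have g3 : x * y * (x * z) = y * z := by
    rw [hab x hxX y hyX, mul_assoc, ← mul_assoc x x z, hX x hxX, one_mul]
  -- product of the two 1/4-eigenvectors
  have hprod : mul (ax y - ax (x * y)) (ax z - ax (x * z)) =
      (1 / 4 : ℝ) • (ax (x * (y * z)) - ax (y * z)) := by
    simp only [map_sub, LinearMap.sub_apply]
    rw [h2A y hyX z hzX hy1 hz1 hzy.symm, h2A y hyX (x * z) hxzX hy1 hxz1 hyxz,
      h2A (x * y) hxyX z hzX hxy1 hz1 hxyz, h2A (x * y) hxyX (x * z) hxzX hxy1 hxz1 hxyxz,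
      g1, g2, g3]
    module
  -- fusion law
  have hfus := (hax x hxX hx1).2.2.1.1.2.2.2
  have hu : ax y - ax (x * y) ∈ eigen mul (ax x) (1 / 4) := by
    rw [eigen, Module.End.mem_eigenspace_iff]
    exact heig x hxX y hyX hx1 hy1 hyx.symm
  have hv : ax z - ax (x * z) ∈ eigen mul (ax x) (1 / 4) := by
    rw [eigen, Module.End.mem_eigenspace_iff]
    exact heig x hxX z hzX hx1 hz1 hzx.symm
  have hS : (1 / 4 : ℝ) ∈ majoranaSpectrum := by
    unfold majoranaSpectrum; simp
  have hmem := hfus (1 / 4) hS (1 / 4) hS _ hu _ hv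
  have hlaw : monsterLaw (1 / 4 : ℝ) (1 / 32) (1 / 4) (1 / 4) = {1, 0} := by
    unfold monsterLaw
    norm_num
  rw [hlaw, hprod] at hmem
  have hsum : eigenSum mul (ax x) {1, 0} = Module.End.eigenspace (mul (ax x)) 1 ⊔ Module.End.eigenspace (mul (ax x)) 0 := by
    unfold eigenSum eigen
    rw [iSup_insert, iSup_singleton]
  rw [hsum] at hmem
  have hw4 : mul (ax x) ((1 / 4 : ℝ) • (ax (x * (y * z)) - ax (y * z))) =
      (1 / 4 : ℝ) • ((1 / 4 : ℝ) • (ax (x * (y * z)) - ax (y * z))) := by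
    have := heig x hxX (y * z) hyzX hx1 hyz1 hxyz'
    rw [map_smul]
    congr 1
    have h2 : ax (x * (y * z)) - ax (y * z) = -(ax (y * z) - ax (x * (y * z))) := by abel
    rw [h2, map_neg, this, smul_neg]
  have hzero := eq_zero_of_mem (mul (ax x)) _ hw4 hmem
  have hzero' : ax (x * (y * z)) - ax (y * z) = 0 := by
    have : (1 / 4 : ℝ) ≠ 0 := by norm_num
    exact (smul_eq_zero.1 hzero).resolve_left this
  have heq : ax (x * (y * z)) = ax (y * z) := sub_eq_zero.1 hzero'
  have hB1 := hinner (x * (y * z)) hxyzX (y * z) hyzX hxyz1 hyz1 hxxyz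
  rw [heq, h1 (y * z) hyzX hyz1] at hB1
  norm_num at hB1

end Cfsg.Agent.S5543
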