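import Cfsg.Statements.S5548
import Cfsg.Agent.Helper92.PermTab
import Cfsg.Agent.Helper27.GolayCosets
import Cfsg.Agent.Helper27.Octads
import Cfsg.Agent.Helper7.M24Octad
import Cfsg.Agent.Helper7.Dodecad
import Cfsg.Agent.Helper26.M24Homog

set_option autoImplicit false
open Cfsg

namespace Cfsg.Agent.S5548

open Cfsg.Agent.Helper27 Cfsg.Agent.Helper7 Cfsg.Agent.Helper92
open scoped Pointwise

/-- invariance under the coordinate action of `M24` -/
def Inv (W : Submodule (ZMod 2) V) : Prop := ∀ σ ∈ M24, ∀ w ∈ W, permL σ w ∈ W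

theorem permL_mul (g h : Equiv.Perm GolayPt) (w : V) :
    permL (g * h) w = permL g (permL h w) := by
  funext p
  rfl

theorem permL_one (w : V) : permL 1 w = w := by
  funext p
  rfl

theorem permL_cancel' (g : Equiv.Perm GolayPt) (w : V) : permL g⁻¹ (permL g w) = w := by
  rw [← permL_mul, inv_mul_cancel, permL_one]

theorem permL_ones (g : Equiv.Perm GolayPt) : permL g (1 : V) = 1 := by
  funext p
  rfl

theorem eq_of_smul_eq {τ : Equiv.Perm GolayPt} {u v : V}
    (h : τ • support₂ u = support₂ v) : permL τ u = v := by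
  apply Cfsg.Agent.Helper7.support₂_injective
  rw [← smul_support₂, h]

theorem support₂_one_add (u : V) : support₂ (1 + u) = (support₂ u)ᶜ := by
  ext p
  rw [Finset.mem_compl, Cfsg.Agent.Helper7.mem_support₂, Cfsg.Agent.Helper7.mem_support₂,
    Pi.add_apply, Pi.one_apply]
  generalize u p = a
  revert a
  decide

theorem one_add_one_add (u : V) : 1 + (1 + u) = u := by
  rw [← add_assoc, CharTwo.add_self_eq_zero, zero_add]

/-! ### the sum over the pointwise stabiliser of an octad -/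

/-- a standard octad -/
def o0 : ℕ := 5279
/-- its complement -/
def o0c : ℕ := 16771936

/-- the 16 elements of the pointwise stabiliser of the octad, as tables -/
def tabs16 : List (List ℕ × List ℕ) := [([0, 1, 2, 3, 4, 5, 6, 7, 8, 9, 10, 11, 12, 13, 14, 15, 16, 17, 18, 19, 20, 21, 22, 23], [0, 1, 2, 3, 4, 5, 6, 7, 8, 9, 10, 11, 12, 13, 14, 15, 16, 17, 18, 19, 20, 21, 22, 23]),
  ([0, 1, 2, 3, 4, 6, 5, 7, 18, 14, 10, 23, 12, 15, 9, 13, 21, 22, 8, 20, 19, 16, 17, 11], [0, 1, 2, 3, 4, 6, 5, 7, 18, 14, 10, 23, 12, 15, 9, 13, 21, 22, 8, 20, 19, 16, 17, 11]),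
  ([0, 1, 2, 3, 4, 19, 20, 7, 14, 18, 10, 21, 12, 22, 8, 17, 23, 15, 9, 5, 6, 11, 13, 16], [0, 1, 2, 3, 4, 19, 20, 7, 14, 18, 10, 21, 12, 22, 8, 17, 23, 15, 9, 5, 6, 11, 13, 16]),
  ([0, 1, 2, 3, 4, 20, 19, 7, 9, 8, 10, 16, 12, 17, 18, 22, 11, 13, 14, 6, 5, 23, 15, 21], [0, 1, 2, 3, 4, 20, 19, 7, 9, 8, 10, 16, 12, 17, 18, 22, 11, 13, 14, 6, 5, 23, 15, 21]),
  ([0, 1, 2, 3, 4, 17, 22, 7, 16, 11, 10, 9, 12, 20, 23, 19, 8, 5, 21, 15, 13, 18, 6, 14], [0, 1, 2, 3, 4, 17, 22, 7, 16, 11, 10, 9, 12, 20, 23, 19, 8, 5, 21, 15, 13, 18, 6, 14]),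
  ([0, 1, 2, 3, 4, 22, 17, 7, 21, 23, 10, 14, 12, 19, 11, 20, 18, 6, 16, 13, 15, 8, 5, 9], [0, 1, 2, 3, 4, 22, 17, 7, 21, 23, 10, 14, 12, 19, 11, 20, 18, 6, 16, 13, 15, 8, 5, 9]),
  ([0, 1, 2, 3, 4, 15, 13, 7, 23, 21, 10, 18, 12, 6, 16, 5, 14, 19, 11, 17, 22, 9, 20, 8], [0, 1, 2, 3, 4, 15, 13, 7, 23, 21, 10, 18, 12, 6, 16, 5, 14, 19, 11, 17, 22, 9, 20, 8]),
  ([0, 1, 2, 3, 4, 13, 15, 7, 11, 16, 10, 8, 12, 5, 21, 6, 9, 20, 23, 22, 17, 14, 19, 18], [0, 1, 2, 3, 4, 13, 15, 7, 11, 16, 10, 8, 12, 5, 21, 6, 9, 20, 23, 22, 17, 14, 19, 18]),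
  ([0, 1, 2, 3, 4, 23, 11, 7, 15, 22, 10, 6, 12, 18, 17, 8, 19, 14, 13, 16, 21, 20, 9, 5], [0, 1, 2, 3, 4, 23, 11, 7, 15, 22, 10, 6, 12, 18, 17, 8, 19, 14, 13, 16, 21, 20, 9, 5]),
  ([0, 1, 2, 3, 4, 11, 23, 7, 13, 17, 10, 5, 12, 8, 22, 18, 20, 9, 15, 21, 16, 19, 14, 6], [0, 1, 2, 3, 4, 11, 23, 7, 13, 17, 10, 5, 12, 8, 22, 18, 20, 9, 15, 21, 16, 19, 14, 6]),
  ([0, 1, 2, 3, 4, 16, 21, 7, 17, 13, 10, 20, 12, 9, 15, 14, 5, 8, 22, 23, 11, 6, 18, 19], [0, 1, 2, 3, 4, 16, 21, 7, 17, 13, 10, 20, 12, 9, 15, 14, 5, 8, 22, 23, 11, 6, 18, 19]),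
  ([0, 1, 2, 3, 4, 21, 16, 7, 22, 15, 10, 19, 12, 14, 13, 9, 6, 18, 17, 11, 23, 5, 8, 20], [0, 1, 2, 3, 4, 21, 16, 7, 22, 15, 10, 19, 12, 14, 13, 9, 6, 18, 17, 11, 23, 5, 8, 20]),
  ([0, 1, 2, 3, 4, 14, 9, 7, 19, 6, 10, 22, 12, 21, 5, 16, 15, 23, 20, 8, 18, 13, 11, 17], [0, 1, 2, 3, 4, 14, 9, 7, 19, 6, 10, 22, 12, 21, 5, 16, 15, 23, 20, 8, 18, 13, 11, 17]),
  ([0, 1, 2, 3, 4, 9, 14, 7, 20, 5, 10, 17, 12, 16, 6, 21, 13, 11, 19, 18, 8, 15, 23, 22], [0, 1, 2, 3, 4, 9, 14, 7, 20, 5, 10, 17, 12, 16, 6, 21, 13, 11, 19, 18, 8, 15, 23, 22]),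
  ([0, 1, 2, 3, 4, 8, 18, 7, 5, 20, 10, 13, 12, 11, 19, 23, 17, 16, 6, 14, 9, 22, 21, 15], [0, 1, 2, 3, 4, 8, 18, 7, 5, 20, 10, 13, 12, 11, 19, 23, 17, 16, 6, 14, 9, 22, 21, 15]),
  ([0, 1, 2, 3, 4, 18, 8, 7, 6, 19, 10, 15, 12, 23, 20, 11, 22, 21, 5, 9, 14, 17, 16, 13], [0, 1, 2, 3, 4, 18, 8, 7, 6, 19, 10, 15, 12, 23, 20, 11, 22, 21, 5, 9, 14, 17, 16, 13])]

/-- the indices outside the octad -/
def cList : List ℕ := (List.range 24).filter fun i => !(o0.testBit i)

theorem lt_of_mem_cList {q : ℕ} (hq : q ∈ cList) : q < 24 := by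
  unfold cList at hq
  rw [List.mem_filter, List.mem_range] at hq
  exact hq.1

/-- the functional "sum of the coordinates outside the octad" -/
def lam (w : V) : ZMod 2 := (cList.map fun q => w (gPt q)).sum

theorem lam_add (a b : V) : lam (a + b) = lam a + lam b := by
  unfold lam
  rw [← List.sum_map_add]
  rfl

/-- `lam` on masks -/
def lamZ (x : ℕ) : ZMod 2 := (cList.map fun q => if x.testBit q then (1 : ZMod 2) else 0).sum

theorem lam_wordOf (x : ℕ) : lam (wordOf x) = lamZ x := by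
  unfold lam lamZ
  apply congrArg List.sum
  apply List.map_congr_left
  intro q hq
  rw [wordOf_apply, gIdx_gPt q (lt_of_mem_cList hq)]

/-- the code is orthogonal to the complement of the octad -/
theorem lam_code : ∀ c ∈ golayCode, lam c = 0 :=
  forall_golay (fun c => lam c = 0) (fun m => lamZ m == 0)
    (fun c _ h => by rw [lam_wordOf]; exact beq_iff_eq.1 h) (by decide +kernel)

def checkT : Bool :=
  tabs16.all (fun ts => isInvPair ts.1 ts.2 && checkM24 ts.2) &&
  (List.range 24).all (fun i =>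
    if o0.testBit i then
      (tabs16.map (fun ts => ts.2.getD i 0) == List.replicate 16 i) && !(o0c.testBit i)
    else (tabs16.map (fun ts => ts.2.getD i 0)).isPerm cList && o0c.testBit i)

theorem checkT_ok : checkT = true := by decide +kernel

theorem tabs16_ok {ts : List ℕ × List ℕ} (hts : ts ∈ tabs16) :
    isInvPair ts.1 ts.2 = true ∧ checkM24 ts.2 = true := by
  have h := checkT_ok
  unfold checkT at h
  rw [Bool.and_eq_true, List.all_eq_true] at h
  have := h.1 ts hts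
  rwa [Bool.and_eq_true] at this

/-- the sum of the images of a word under the 16 elements -/
def tsum (w : V) : V := (tabs16.map fun ts => permL (permOfTabs ts.1 ts.2) w).sum

theorem tsum_mem {W : Submodule (ZMod 2) V} (hW : Inv W) {w : V} (hw : w ∈ W) : tsum w ∈ W := by
  unfold tsum
  apply list_sum_mem
  intro x hx
  rw [List.mem_map] at hx
  obtain ⟨ts, hts, rfl⟩ := hx
  obtain ⟨h1, h2⟩ := tabs16_ok hts
  exact hW _ (permOfTabs_mem_M24 h1 h2) w hw

theorem tsum_apply (w : V) (i : ℕ) (hi : i < 24) :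
    tsum w (gPt i) = ((tabs16.map fun ts => ts.2.getD i 0).map fun q => w (gPt q)).sum := by
  unfold tsum
  rw [Pi.list_sum_apply, List.map_map, List.map_map]
  congr 1
  apply List.map_congr_left
  intro ts hts
  obtain ⟨h1, -⟩ := tabs16_ok hts
  simp only [Function.comp]
  rw [permL_apply, permOfTabs_symm_apply h1, tabFun, gIdx_gPt i hi]

theorem sixteen_nsmul : ∀ x : ZMod 2, 16 • x = 0 := by decide

theorem tsum_eq (w : V) : tsum w = lam w • wordOf o0c := by
  funext p
  rw [← gPt_gIdx p]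
  have hi : gIdx p < 24 := gIdx_lt p
  generalize gIdx p = i at hi
  rw [tsum_apply w i hi, Pi.smul_apply, wordOf_apply, gIdx_gPt i hi]
  have h := checkT_ok
  unfold checkT at h
  rw [Bool.and_eq_true, List.all_eq_true, List.all_eq_true] at h
  have hi' := h.2 i (List.mem_range.2 hi)
  by_cases ho : o0.testBit i = true
  · rw [if_pos ho, Bool.and_eq_true, beq_iff_eq] at hi'
    obtain ⟨hL, hc⟩ := hi'
    rw [hL, List.map_replicate, List.sum_replicate, sixteen_nsmul]
    have hc' : o0c.testBit i = false := by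
      revert hc
      cases o0c.testBit i <;> simp
    rw [hc']
    simp
  · rw [if_neg ho, Bool.and_eq_true] at hi'
    obtain ⟨hL, hc⟩ := hi'
    rw [List.isPerm_iff] at hL
    rw [(hL.map _).sum_eq, hc]
    unfold lam
    simp

/-! ### from a non-code word to the complement of the octad -/

def taus : List (List ℕ × List ℕ) := [([0, 1, 2, 3, 4, 5, 6, 7, 8, 9, 10, 11, 12, 13, 14, 15, 16, 17, 18, 19, 20, 21, 22, 23], [0, 1, 2, 3, 4, 5, 6, 7, 8, 9, 10, 11, 12, 13, 14, 15, 16, 17, 18, 19, 20, 21, 22, 23]),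
  ([1, 18, 22, 13, 3, 20, 0, 11, 8, 9, 14, 10, 23, 5, 17, 6, 2, 7, 15, 19, 4, 21, 12, 16], [6, 0, 16, 4, 20, 13, 15, 17, 8, 9, 11, 7, 22, 3, 10, 18, 23, 14, 1, 19, 5, 21, 2, 12]),
  ([11, 0, 6, 12, 7, 22, 18, 17, 1, 5, 2, 16, 14, 8, 13, 10, 20, 19, 15, 21, 4, 3, 9, 23], [1, 8, 10, 21, 20, 9, 2, 4, 13, 22, 15, 0, 3, 14, 12, 18, 11, 7, 6, 17, 16, 19, 5, 23]),
  ([1, 19, 23, 20, 18, 4, 6, 16, 10, 12, 2, 15, 14, 5, 11, 13, 21, 0, 7, 22, 9, 17, 8, 3], [17, 0, 10, 23, 5, 13, 6, 18, 22, 20, 8, 14, 9, 15, 12, 11, 7, 21, 4, 1, 3, 16, 19, 2]),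
  ([1, 6, 9, 3, 21, 8, 2, 14, 10, 0, 20, 11, 23, 5, 4, 16, 12, 7, 18, 15, 13, 17, 22, 19], [9, 0, 6, 3, 14, 13, 1, 17, 5, 2, 8, 11, 16, 20, 7, 19, 15, 21, 18, 23, 10, 4, 22, 12]),
  ([10, 5, 6, 3, 14, 7, 22, 18, 21, 0, 16, 17, 23, 19, 4, 8, 11, 13, 1, 9, 20, 2, 12, 15], [9, 18, 21, 3, 14, 1, 2, 5, 15, 19, 0, 16, 22, 17, 4, 23, 10, 11, 7, 13, 20, 8, 6, 12]),
  ([2, 19, 18, 11, 13, 10, 1, 4, 22, 17, 23, 7, 21, 15, 8, 12, 14, 16, 20, 9, 6, 0, 3, 5], [21, 6, 0, 22, 7, 23, 20, 11, 14, 19, 5, 3, 15, 4, 16, 13, 17, 9, 2, 1, 18, 12, 8, 10]),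
  ([21, 16, 8, 4, 20, 5, 15, 6, 19, 14, 9, 22, 12, 1, 13, 11, 17, 10, 2, 3, 18, 7, 0, 23], [22, 13, 18, 19, 3, 5, 7, 21, 2, 10, 17, 15, 12, 14, 9, 6, 1, 16, 20, 8, 4, 0, 11, 23]),
  ([3, 14, 1, 6, 16, 5, 23, 7, 12, 9, 13, 20, 2, 17, 8, 0, 18, 22, 11, 19, 4, 10, 21, 15], [15, 2, 12, 0, 20, 5, 3, 7, 14, 9, 21, 18, 8, 10, 1, 23, 4, 13, 16, 19, 11, 22, 17, 6]),
  ([10, 20, 23, 17, 16, 3, 6, 2, 7, 19, 5, 14, 22, 11, 1, 15, 13, 12, 9, 8, 4, 21, 0, 18], [22, 14, 7, 5, 20, 10, 6, 8, 19, 18, 0, 13, 17, 16, 11, 15, 4, 3, 23, 9, 1, 21, 12, 2]),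
  ([3, 0, 2, 5, 12, 1, 20, 19, 6, 4, 11, 15, 21, 13, 23, 18, 8, 17, 10, 7, 16, 9, 22, 14], [1, 5, 2, 0, 9, 3, 8, 19, 16, 21, 18, 10, 4, 13, 23, 11, 20, 17, 15, 7, 6, 12, 22, 14]),
  ([1, 9, 11, 22, 2, 21, 17, 3, 5, 19, 0, 4, 6, 16, 10, 7, 18, 14, 20, 8, 12, 23, 13, 15], [10, 0, 4, 7, 11, 8, 12, 15, 19, 1, 14, 2, 20, 22, 17, 23, 13, 6, 16, 9, 18, 5, 3, 21])]

def checkTau : Bool :=
  taus.all (fun ts => isInvPair ts.1 ts.2 && checkM24 ts.2) &&
  allRange (fun s => s == 0 || taus.any (fun ts => lamZ (pmask ts.2 (leaderAt s)) == 1)) 12 0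

theorem checkTau_ok : checkTau = true := by decide +kernel

/-- decomposition of a non-code word: code word plus a nonzero leader from the table -/
theorem leader_decomp {w : V} (hw : w ∉ golayCode) :
    ∃ s, s < 2 ^ 12 ∧ s ≠ 0 ∧ leaderAt s < 2 ^ 24 ∧ popc 24 (leaderAt s) ≤ 4 ∧
      ∃ c ∈ golayCode, w = c + wordOf (leaderAt s) := by
  have hmlt : maskOf w < 2 ^ 24 := maskOf_lt w
  obtain ⟨he1, he2, he3⟩ := leaderOf_spec hmlt
  have hlt := cosetRep_lt hmlt
  refine ⟨cosetRep (maskOf w) / 4096, ?_, ?_, he1, he2,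
    wordOf (maskOf w ^^^ leaderOf (maskOf w)),
    (wordOf_mem_golayCode_iff (xor_lt_two_pow_24 hmlt he1)).2 he3, ?_⟩
  · norm_num at hlt ⊢
    omega
  · intro h0
    apply hw
    rw [Cfsg.Agent.Helper27.mem_golayCode_iff]
    have hmod := cosetRep_mod (maskOf w)
    have hz : cosetRep (maskOf w) = 0 := by omega
    unfold cosetRep at hz
    unfold isCode
    rw [beq_iff_eq]
    exact Nat.xor_eq_zero_iff.1 hz
  · change w = _ + wordOf (leaderOf (maskOf w))
    rw [← wordOf_xor, Nat.xor_assoc, Nat.xor_self, Nat.xor_zero, wordOf_maskOf]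

theorem o0c_mem_of_not_code {W : Submodule (ZMod 2) V} (hW : Inv W) {w : V} (hw : w ∈ W)
    (hwC : w ∉ golayCode) : wordOf o0c ∈ W := by
  obtain ⟨s, hs, hs0, hlt, -, c, hc, hwc⟩ := leader_decomp hwC
  have h := checkTau_ok
  unfold checkTau at h
  rw [Bool.and_eq_true, List.all_eq_true] at h
  obtain ⟨hg, hall⟩ := h
  have hsel := forall_lt_of_allRange _ 12 hall s hs
  simp only [Bool.or_eq_true, beq_iff_eq, List.any_eq_true] at hsel
  rcases hsel with h0 | ⟨ts, hts, hlam⟩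
  · exact absurd h0 hs0
  have hts' := hg ts hts
  rw [Bool.and_eq_true] at hts'
  obtain ⟨hinv, hchk⟩ := hts'
  have hσ := permOfTabs_mem_M24 hinv hchk
  have hw' : permL (permOfTabs ts.1 ts.2) w ∈ W := hW _ hσ w hw
  have hl : lam (permL (permOfTabs ts.1 ts.2) w) = 1 := by
    rw [hwc, map_add, lam_add, lam_code _ (permL_mem_of_mem_M24 hσ hc), zero_add,
      permL_wordOf hinv, lam_wordOf, hlam]
  have := tsum_mem hW hw'
  rwa [tsum_eq, hl, one_smul] at this

/-! ### from the complement of the octad to the whole code -/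

theorem mem_of_weight16 {W : Submodule (ZMod 2) V} (hW : Inv W) (h0 : wordOf o0c ∈ W)
    {u : V} (hu : u ∈ golayCode) (h16 : hammingNorm u = 16) : u ∈ W := by
  have hcard : ∀ v : V, hammingNorm v = (support₂ v).card := fun _ => rfl
  have hoct : ∀ v : V, v ∈ golayCode → hammingNorm v = 16 → support₂ (1 + v) ∈ octads := by
    intro v hv hv16
    refine ⟨⟨1 + v, golayCode.add_mem one_mem_golayCode hv, rfl⟩, ?_⟩
    rw [support₂_one_add, Finset.card_compl, ← hcard, hv16]
    decide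
  have hc0 : wordOf o0c ∈ golayCode := by
    rw [wordOf_mem_golayCode_iff (by decide)]
    decide +kernel
  have h16' : hammingNorm (wordOf o0c) = 16 := by
    rw [hammingNorm_wordOf]
    decide +kernel
  obtain ⟨τ, hτ, hτo⟩ := exists_smul_octad_eq (hoct _ hc0 h16') (hoct _ hu h16)
  have e1 : permL τ (1 + wordOf o0c) = 1 + u := eq_of_smul_eq hτo
  rw [map_add, permL_ones] at e1
  have e2 : permL τ (wordOf o0c) = u := by
    have := congrArg (fun x => 1 + x) e1
    simp only [one_add_one_add] at this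
    exact this
  rw [← e2]
  exact hW τ hτ _ h0

/-- each basis word of the code is the sum of two words of weight 16 -/
def pairs16 : List (ℕ × ℕ) := [(8364534, 12120567), (14074367, 10433021), (15425791, 4182267), (14074367, 12120567), (14074367, 5108207), (1827807, 11371519), (16196511, 1827807), (15425791, 16101503), (15425791, 14074367), (14074367, 11371519), (15425791, 5944575), (14074367, 3500543)]

def ok16 (x : ℕ) : Bool := isCode x && (popc 24 x == 16) && decide (x < 2 ^ 24)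

theorem pairs16_ok : (pairs16.map (fun p => p.1 ^^^ p.2) == gBasis &&
    pairs16.all (fun p => ok16 p.1 && ok16 p.2)) = true := by decide +kernel

theorem wordOf_mem_of_ok16 {W : Submodule (ZMod 2) V} (hW : Inv W) (h0 : wordOf o0c ∈ W)
    {x : ℕ} (hx : ok16 x = true) : wordOf x ∈ W := by
  unfold ok16 at hx
  simp only [Bool.and_eq_true, beq_iff_eq, decide_eq_true_eq] at hx
  obtain ⟨⟨h1, h2⟩, h3⟩ := hx
  apply mem_of_weight16 hW h0 ((wordOf_mem_golayCode_iff h3).2 h1)
  rw [hammingNorm_wordOf, h2]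

theorem code_le_of_o0c_mem {W : Submodule (ZMod 2) V} (hW : Inv W) (h0 : wordOf o0c ∈ W) :
    golayCode ≤ W := by
  have h := pairs16_ok
  rw [Bool.and_eq_true, beq_iff_eq, List.all_eq_true] at h
  obtain ⟨hb, hok⟩ := h
  have hbasis : ∀ r ∈ gBasis, wordOf r ∈ W := by
    intro r hr
    rw [← hb, List.mem_map] at hr
    obtain ⟨p, hp, rfl⟩ := hr
    have := hok p hp
    rw [Bool.and_eq_true] at this
    rw [wordOf_xor]
    exact W.add_mem (wordOf_mem_of_ok16 hW h0 this.1) (wordOf_mem_of_ok16 hW h0 this.2)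
  intro c hc
  obtain ⟨k, -, rfl⟩ := exists_encode_of_mem hc
  exact wordOf_encodeWith_mem W gBasis hbasis k

/-! ### from a code word other than 0, 1 to the complement of the octad -/

def o2 : ℕ := 11952160
def o3 : ℕ := 4819776
def d1 : ℕ := 8101915
def d2 : ℕ := 8670075

theorem o0c_mem_of_code {W : Submodule (ZMod 2) V} (hW : Inv W) {u : V} (hu : u ∈ W)
    (huC : u ∈ golayCode) (hu0 : u ≠ 0) (hu1 : u ≠ 1) : wordOf o0c ∈ W := by
  have hcard : hammingNorm u = (support₂ u).card := rfl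
  rcases weight_mem u huC with h | h | h | h | h
  · exact absurd (hammingNorm_eq_zero.1 h) hu0
  · -- octad
    have hoct : support₂ u ∈ octads := ⟨⟨u, huC, rfl⟩, by rw [← hcard, h]⟩
    have key : ∀ x : ℕ, x < 2 ^ 24 → isCode x = true → popc 24 x = 8 → wordOf x ∈ W := by
      intro x hx h1 h2
      have hx' : setOf x ∈ octads := (setOf_mem_octads_iff hx).2 ⟨h1, h2⟩
      rw [← support₂_wordOf] at hx'
      obtain ⟨τ, hτ, hτo⟩ := exists_smul_octad_eq hoct hx'
      rw [← eq_of_smul_eq hτo]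
      exact hW τ hτ u hu
    have e : o0c = o2 ^^^ o3 := by decide
    rw [e, wordOf_xor]
    exact W.add_mem (key o2 (by decide) (by decide +kernel) (by decide +kernel))
      (key o3 (by decide) (by decide +kernel) (by decide +kernel))
  · -- dodecad
    have hdod : support₂ u ∈ dodecads := ⟨⟨u, huC, rfl⟩, by rw [← hcard, h]⟩
    have key : ∀ x : ℕ, x < 2 ^ 24 → isCode x = true → popc 24 x = 12 → wordOf x ∈ W := by
      intro x hx h1 h2
      have hx' : setOf x ∈ dodecads := (setOf_mem_dodecads_iff hx).2 ⟨h1, h2⟩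
      rw [← support₂_wordOf] at hx'
      obtain ⟨τ, hτo⟩ := exists_smul_dodecad_eq hdod hx'
      have hτo' : (τ : Equiv.Perm GolayPt) • support₂ u = support₂ (wordOf x) := hτo
      rw [← eq_of_smul_eq hτo']
      exact hW τ τ.2 u hu
    have e : o0c = d1 ^^^ d2 := by decide
    rw [e, wordOf_xor]
    exact W.add_mem (key d1 (by decide) (by decide +kernel) (by decide +kernel))
      (key d2 (by decide) (by decide +kernel) (by decide +kernel))
  · -- weight 16: the roles of `u` and the standard word can be exchanged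
    have hc0 : wordOf o0c ∈ golayCode := by
      rw [wordOf_mem_golayCode_iff (by decide)]
      decide +kernel
    have h16' : hammingNorm (wordOf o0c) = 16 := by
      rw [hammingNorm_wordOf]
      decide +kernel
    have hoct : ∀ v : V, v ∈ golayCode → hammingNorm v = 16 → support₂ (1 + v) ∈ octads := by
      intro v hv hv16
      refine ⟨⟨1 + v, golayCode.add_mem one_mem_golayCode hv, rfl⟩, ?_⟩
      rw [support₂_one_add, Finset.card_compl]
      have : hammingNorm v = (support₂ v).card := rfl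
      rw [← this, hv16]
      decide
    obtain ⟨τ, hτ, hτo⟩ := exists_smul_octad_eq (hoct _ huC h) (hoct _ hc0 h16')
    have e1 : permL τ (1 + u) = 1 + wordOf o0c := eq_of_smul_eq hτo
    rw [map_add, permL_ones] at e1
    have e2 : permL τ u = wordOf o0c := by
      have := congrArg (fun x => 1 + x) e1
      simp only [one_add_one_add] at this
      exact this
    rw [← e2]
    exact hW τ hτ u hu
  · -- all ones
    exfalso
    apply hu1
    have hs : support₂ u = Finset.univ := by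
      apply Finset.eq_univ_of_card
      rw [← hcard, h]
      decide
    apply Cfsg.Agent.Helper7.support₂_injective
    rw [hs]
    ext p
    rw [Cfsg.Agent.Helper7.mem_support₂]
    simp

/-! ### words of weight two -/

theorem permL_indWord {τ : Equiv.Perm GolayPt} {S S' : Finset GolayPt} (h : τ • S = S') :
    permL τ (indWord S) = indWord S' := by
  apply eq_of_smul_eq
  rw [support₂_indWord, support₂_indWord, h]

theorem symmDiff_swap_point {S : Finset GolayPt} {a b : GolayPt} (ha : a ∈ S) (hb : b ∉ S) :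
    symmDiff S (insert b (S.erase a)) = {a, b} := by
  ext x
  simp only [Finset.mem_symmDiff, Finset.mem_insert, Finset.mem_erase, Finset.mem_singleton]
  constructor
  · rintro (⟨h1, h2⟩ | ⟨h1, h2⟩)
    · left
      by_contra hxa
      exact h2 (Or.inr ⟨hxa, h1⟩)
    · rcases h1 with h1 | h1
      · right; exact h1
      · exact absurd h1.2 h2
  · rintro (rfl | rfl)
    · left
      refine ⟨ha, ?_⟩
      rintro (h | h)
      · exact hb (h ▸ ha)
      · exact h.1 rfl
    · right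
      exact ⟨Or.inl rfl, hb⟩

theorem pair_mem {W : Submodule (ZMod 2) V} (hW : Inv W) {e : ℕ} (he : wordOf e ∈ W)
    (hpos : popc 24 e ≠ 0) (hle : popc 24 e ≤ 4) (p q : GolayPt) (hpq : p ≠ q) :
    indWord ({p, q} : Finset GolayPt) ∈ W := by
  rw [← indWord_setOf] at he
  have hcard : (setOf e).card = popc 24 e := card_setOf e
  obtain ⟨a, ha⟩ : (setOf e).Nonempty := by
    rw [← Finset.card_pos, hcard]
    omega
  obtain ⟨b, hb⟩ : ∃ b, b ∉ setOf e := by
    by_contra hcon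
    push Not at hcon
    have : setOf e = Finset.univ := Finset.eq_univ_iff_forall.2 hcon
    rw [this, Finset.card_univ] at hcard
    have h24 : Fintype.card GolayPt = 24 := by decide
    omega
  have hS' : (insert b ((setOf e).erase a)).card = (setOf e).card := by
    rw [Finset.card_insert_of_notMem (fun h => hb (Finset.mem_of_mem_erase h)),
      Finset.card_erase_of_mem ha]
    have : 0 < (setOf e).card := Finset.card_pos.2 ⟨a, ha⟩
    omega
  obtain ⟨ρ, hρ, hρS⟩ := Cfsg.Agent.Helper26.exists_smul_eq_of_card (setOf e)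
    (insert b ((setOf e).erase a)) hS'.symm (by omega)
  have h1 : indWord (insert b ((setOf e).erase a)) ∈ W := by
    rw [← permL_indWord hρS]
    exact hW ρ hρ _ he
  have h2 : indWord ({a, b} : Finset GolayPt) ∈ W := by
    rw [← symmDiff_swap_point ha hb, indWord_symmDiff]
    exact W.add_mem he h1
  have hab : a ≠ b := fun h => hb (h ▸ ha)
  obtain ⟨ρ', hρ', hρS'⟩ := Cfsg.Agent.Helper26.exists_smul_eq_of_card ({a, b} : Finset GolayPt)
    {p, q} (by rw [Finset.card_pair hab, Finset.card_pair hpq])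
    (by rw [Finset.card_pair hab]; norm_num)
  rw [← permL_indWord hρS']
  exact hW ρ' hρ' _ h2

theorem word_eq_sum (w : V) : w = ∑ p, w p • indWord ({p} : Finset GolayPt) := by
  funext q
  rw [Finset.sum_apply]
  simp only [Pi.smul_apply, indWord, Finset.mem_singleton, smul_eq_mul, mul_ite, mul_one,
    mul_zero]
  rw [Finset.sum_ite_eq Finset.univ q (fun p => w p)]
  simp

theorem even_le {W : Submodule (ZMod 2) V}
    (hpair : ∀ p q : GolayPt, p ≠ q → indWord ({p, q} : Finset GolayPt) ∈ W)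
    {w : V} (hw : ∑ p, w p = 0) : w ∈ W := by
  have h2 : w = ∑ p, w p • (indWord ({p} : Finset GolayPt) + indWord ({none} : Finset GolayPt)) := by
    simp only [smul_add, Finset.sum_add_distrib]
    rw [← word_eq_sum, ← Finset.sum_smul, hw, zero_smul, add_zero]
  rw [h2]
  apply W.sum_mem
  intro p _
  apply W.smul_mem
  rw [← indWord_symmDiff]
  by_cases hp : p = none
  · rw [hp, symmDiff_self]
    change indWord ∅ ∈ W
    rw [indWord_empty]
    exact W.zero_mem
  · have hd : Disjoint ({p} : Finset GolayPt) {none} := by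
      rw [Finset.disjoint_singleton]
      exact hp
    rw [hd.symmDiff_eq_sup]
    have : ({p} : Finset GolayPt) ⊔ {none} = {p, none} := by
      ext x
      simp
    rw [this]
    exact hpair p none hp

/-! ### the classification -/

theorem result (W : Submodule (ZMod 2) (Cfsg.GolayPt → ZMod 2)) (hW : ∀ σ ∈ Cfsg.M24, ∀ w ∈ W, (fun p => w (σ.symm p)) ∈ W) : W = ⊥ ∨ W = Submodule.span (ZMod 2) {fun _ => (1 : ZMod 2)} ∨ W = Cfsg.golayCode ∨ (W : Set (Cfsg.GolayPt → ZMod 2)) = {w | ∑ p, w p = 0} ∨ W = ⊤ := by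
  have hInv : Inv W := hW
  by_cases hWC : W ≤ golayCode
  · by_cases h01 : ∀ w ∈ W, w = 0 ∨ w = 1
    · by_cases h1 : (1 : V) ∈ W
      · right; left
        apply le_antisymm
        · intro w hw
          rcases h01 w hw with rfl | rfl
          · exact Submodule.zero_mem _
          · exact Submodule.subset_span rfl
        · rw [Submodule.span_le]
          intro x hx
          rw [Set.mem_singleton_iff] at hx
          rw [hx]
          exact h1
      · left
        rw [eq_bot_iff]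
        intro w hw
        rcases h01 w hw with rfl | rfl
        · exact Submodule.zero_mem _
        · exact absurd hw h1
    · push Not at h01
      obtain ⟨u, hu, hu0, hu1⟩ := h01
      right; right; left
      exact le_antisymm hWC
        (code_le_of_o0c_mem hInv (o0c_mem_of_code hInv hu (hWC hu) hu0 hu1))
  · right; right; right
    rw [SetLike.not_le_iff_exists] at hWC
    obtain ⟨w, hw, hwC⟩ := hWC
    have h0 := o0c_mem_of_not_code hInv hw hwC
    have hC := code_le_of_o0c_mem hInv h0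
    obtain ⟨s, -, hs0, hlt, hle, c, hc, hwc⟩ := leader_decomp hwC
    have he : wordOf (leaderAt s) ∈ W := by
      have : wordOf (leaderAt s) = w + c := by
        rw [hwc, add_comm c, add_assoc, CharTwo.add_self_eq_zero, add_zero]
      rw [this]
      exact W.add_mem hw (hC hc)
    have hpos : popc 24 (leaderAt s) ≠ 0 := by
      intro hz
      apply hwC
      have : wordOf (leaderAt s) = 0 := by
        rw [← hammingNorm_eq_zero, hammingNorm_wordOf, hz]
      rw [hwc, this, add_zero]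
      exact hc
    have hpair := pair_mem hInv he hpos hle
    have heven : ∀ v : V, ∑ p, v p = 0 → v ∈ W := fun v hv => even_le hpair hv
    by_cases hodd : ∃ v ∈ W, ∑ p, v p ≠ 0
    · right
      obtain ⟨v, hv, hvs⟩ := hodd
      rw [eq_top_iff]
      intro x _
      by_cases hx : ∑ p, x p = 0
      · exact heven x hx
      · have hsum : ∑ p, (x + v) p = 0 := by
          simp only [Pi.add_apply, Finset.sum_add_distrib]
          have h2 : ∀ a b : ZMod 2, a ≠ 0 → b ≠ 0 → a + b = 0 := by decide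
          exact h2 _ _ hx hvs
        have : x = (x + v) + v := by
          rw [add_assoc, CharTwo.add_self_eq_zero, add_zero]
        rw [this]
        exact W.add_mem (heven _ hsum) hv
    · left
      push Not at hodd
      ext x
      simp only [SetLike.mem_coe, Set.mem_ofPred_eq]
      exact ⟨fun hx => hodd x hx, fun hx => heven x hx⟩

end Cfsg.Agent.S5548
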