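import Cfsg.Statements.S5549
import Cfsg.Agent.Helper27.GolayLinD1
import Cfsg.Agent.Helper27.GolayLinD2
import Cfsg.Agent.Helper27.GolayLinD3

set_option autoImplicit false
open Cfsg

namespace Cfsg.Agent.S5549

open Cfsg.Agent.Helper27 Cfsg.Agent.Helper7


/-- Let X be a group of linear automorphisms of the length-24 binary Golay code of the definitions that fix the all-ones word, containing the coordinate-permutation action of every element of the code's automorphism group (the Mathieu group of degree 24), and such that every element of X sends each codeword into its orbit under that Mathieu group up to adding the all-ones word (X has the same orbits as the Mathieu group on the code modulo the all-ones word). Then every element of X agrees, modulo the all-ones word, with the action of a single element of the Mathieu group: X induces exactly the Mathieu group on the code modulo the all-ones word. -/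
theorem result (X : Subgroup (↥Cfsg.golayCode ≃ₗ[ZMod 2] ↥Cfsg.golayCode)) (h1 : ∀ x ∈ X, ∀ e : ↥Cfsg.golayCode, (e : (Cfsg.GolayPt → ZMod 2)) = (fun _ => (1 : ZMod 2)) → x e = e) (hM : ∀ σ ∈ Cfsg.M24, ∃ x ∈ X, ∀ c : ↥Cfsg.golayCode, ((x c : ↥Cfsg.golayCode) : (Cfsg.GolayPt → ZMod 2)) = fun p => (c : (Cfsg.GolayPt → ZMod 2)) (σ.symm p)) (horb : ∀ x ∈ X, ∀ c : ↥Cfsg.golayCode, ∃ σ ∈ Cfsg.M24, ((x c : ↥Cfsg.golayCode) : (Cfsg.GolayPt → ZMod 2)) = (fun p => (c : (Cfsg.GolayPt → ZMod 2)) (σ.symm p)) ∨ ((x c : ↥Cfsg.golayCode) : (Cfsg.GolayPt → ZMod 2)) = (fun p => (c : (Cfsg.GolayPt → ZMod 2)) (σ.symm p)) + fun _ => (1 : ZMod 2)) (x : ↥Cfsg.golayCode ≃ₗ[ZMod 2] ↥Cfsg.golayCode) (hx : x ∈ X) : ∃ σ ∈ Cfsg.M24, ∀ c : ↥Cfsg.golayCode, ((x c : ↥Cfsg.golayCode) : (Cfsg.GolayPt → ZMod 2)) = (fun p => (c : (Cfsg.GolayPt → ZMod 2)) (σ.symm p)) ∨ ((x c : ↥Cfsg.golayCode) : (Cfsg.GolayPt → ZMod 2)) = (fun p => (c : (Cfsg.GolayPt → ZMod 2)) (σ.symm p)) + fun _ => (1 : ZMod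 2) := by
  have H : GlHyp X := ⟨h1, hM, horb⟩
  have P11 := glGood_final H [1024, 512, 256, 128, 64, 16, 2, 50, 4, 12, 1] glSel glFinalChk
  have P10 := glStage H [512, 256, 128, 64, 16, 2, 50, 4, 12, 1] 1024 glCons11 glCerts11 glCovLit11 glStageChk11 P11
  have P9 := glStage H [256, 128, 64, 16, 2, 50, 4, 12, 1] 512 glCons10 glCerts10 glCovLit10 glStageChk10 P10
  have P8 := glStage H [128, 64, 16, 2, 50, 4, 12, 1] 256 glCons9 glCerts9 glCovLit9 glStageChk9 P9
  have P7 := glStage H [64, 16, 2, 50, 4, 12, 1] 128 glCons8 glCerts8 glCovLit8 glStageChk8 P8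
  have P6 := glStage H [16, 2, 50, 4, 12, 1] 64 glCons7 glCerts7 glCovLit7 glStageChk7 P7
  have P5 := glStage H [2, 50, 4, 12, 1] 16 glCons6 glCerts6 glCovLit6 glStageChk6 P6
  have P4 := glStage H [50, 4, 12, 1] 2 glCons5 glCerts5 glCovLit5 glStageChk5 P5
  have P3 := glStage H [4, 12, 1] 50 glCons4 glCerts4 glCovLit4 glStageChk4 P4
  have P2 := glStage H [12, 1] 4 glCons3 glCerts3 glCovLit3 glStageChk3 P3
  have P1 := glStage H [1] 12 glCons2 glCerts2 glCovLit2 glStageChk2 P2
  have P0 := glStage H [] 1 glCons1 glCerts1 glCovLit1 glStageChk1 P1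
  exact P0 x hx (fun b hb => absurd hb List.not_mem_nil)

end Cfsg.Agent.S5549
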