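import Cfsg.Statements.S5550
import Cfsg.Agent.Helper92.PermTab
import Cfsg.Agent.Helper27.GolayCosets
import Cfsg.Agent.Helper27.Octads
import Cfsg.Agent.Helper7.M24Octad
import Cfsg.Agent.Helper7.Dodecad

set_option autoImplicit false
open Cfsg

namespace Cfsg.Agent.S5550

open Cfsg.Agent.Helper27 Cfsg.Agent.Helper7 Cfsg.Agent.Helper92
open scoped Pointwise

/-- the property to prove, for a fixed word `u` -/
def P (u : V) : Prop :=
  ∀ w : V, w ∉ golayCode → ∃ σ ∈ M24, permL σ u = u ∧ permL σ w - w ∉ golayCode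

theorem permL_mul (g h : Equiv.Perm GolayPt) (w : V) :
    permL (g * h) w = permL g (permL h w) := by
  funext p
  rfl

theorem permL_one (w : V) : permL 1 w = w := by
  funext p
  rfl

theorem permL_cancel (g : Equiv.Perm GolayPt) (w : V) : permL g (permL g⁻¹ w) = w := by
  rw [← permL_mul, mul_inv_cancel, permL_one]

theorem permL_cancel' (g : Equiv.Perm GolayPt) (w : V) : permL g⁻¹ (permL g w) = w := by
  rw [← permL_mul, inv_mul_cancel, permL_one]

theorem permL_ones (g : Equiv.Perm GolayPt) : permL g (1 : V) = 1 := by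
  funext p
  rfl

theorem transfer {τ : Equiv.Perm GolayPt} (hτ : τ ∈ M24) {u : V} (h : P u) : P (permL τ u) := by
  intro w hw
  have hτ' : τ⁻¹ ∈ M24 := M24.inv_mem hτ
  have hw' : permL τ⁻¹ w ∉ golayCode := by
    intro hmem
    apply hw
    have := permL_mem_of_mem_M24 hτ hmem
    rwa [permL_cancel] at this
  obtain ⟨σ, hσ, h1, h2⟩ := h _ hw'
  refine ⟨τ * σ * τ⁻¹, M24.mul_mem (M24.mul_mem hτ hσ) hτ', ?_, ?_⟩
  · rw [permL_mul, permL_mul, permL_cancel', h1]
  · intro hmem
    apply h2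
    have := permL_mem_of_mem_M24 hτ' hmem
    rw [map_sub, permL_mul, permL_mul, permL_cancel'] at this
    exact this

theorem char2_aux (a b c d w pw : V) (hw : w = c + d) (hpw : pw = a + b) :
    b + d = (pw - w) + (a + c) := by
  rw [hw, hpw, CharTwo.sub_eq_add]
  have hcc : c + c = 0 := CharTwo.add_self_eq_zero c
  have haa : a + a = 0 := CharTwo.add_self_eq_zero a
  have hre : a + b + (c + d) + (a + c) = (a + a) + (c + c) + (b + d) := by abel
  rw [hre, haa, hcc, zero_add, zero_add]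

/-- the permutation with inverse table `s` moves the word of mask `e` out of its coset -/
def good (s : List ℕ) (e : ℕ) : Bool := !(isCode (pmask s e ^^^ e))

/-- certificate check for a standard code word given by a mask -/
def checkStd (gens : List (List ℕ × List ℕ)) (u0 : ℕ) : Bool :=
  gens.all (fun ts => isInvPair ts.1 ts.2 && checkM24 ts.2 && (pmask ts.2 u0 == u0)) &&
  allRange (fun s => s == 0 || gens.any (fun ts => good ts.2 (leaderAt s))) 12 0

theorem P_of_checkStd {gens : List (List ℕ × List ℕ)} {u0 : ℕ} (h : checkStd gens u0 = true) :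
    P (wordOf u0) := by
  unfold checkStd at h
  rw [Bool.and_eq_true] at h
  obtain ⟨hg, hall⟩ := h
  rw [List.all_eq_true] at hg
  have hall' := forall_lt_of_allRange _ 12 hall
  intro w hw
  have hmlt : maskOf w < 2 ^ 24 := maskOf_lt w
  obtain ⟨he1, -, he3⟩ := leaderOf_spec hmlt
  have hlt := cosetRep_lt hmlt
  have hs : cosetRep (maskOf w) / 4096 < 2 ^ 12 := by
    norm_num at hlt ⊢
    omega
  have hs0 : cosetRep (maskOf w) / 4096 ≠ 0 := by
    intro h0
    apply hw
    rw [Cfsg.Agent.Helper27.mem_golayCode_iff]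
    have hmod := cosetRep_mod (maskOf w)
    have hz : cosetRep (maskOf w) = 0 := by omega
    unfold cosetRep at hz
    unfold isCode
    rw [beq_iff_eq]
    exact Nat.xor_eq_zero_iff.1 hz
  have hsel := hall' _ hs
  simp only [Bool.or_eq_true, beq_iff_eq, List.any_eq_true] at hsel
  rcases hsel with h0 | ⟨ts, hts, hgood⟩
  · exact absurd h0 hs0
  have hts' := hg ts hts
  simp only [Bool.and_eq_true, beq_iff_eq] at hts'
  obtain ⟨⟨hinv, hchk⟩, hfix⟩ := hts'
  have hσ := permOfTabs_mem_M24 hinv hchk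
  refine ⟨permOfTabs ts.1 ts.2, hσ, ?_, ?_⟩
  · rw [permL_wordOf hinv, hfix]
  · intro hmem
    change good ts.2 (leaderOf (maskOf w)) = true at hgood
    have hw_eq : w = wordOf (maskOf w ^^^ leaderOf (maskOf w)) + wordOf (leaderOf (maskOf w)) := by
      rw [← wordOf_xor, Nat.xor_assoc, Nat.xor_self, Nat.xor_zero, wordOf_maskOf]
    have hc : wordOf (maskOf w ^^^ leaderOf (maskOf w)) ∈ golayCode :=
      (wordOf_mem_golayCode_iff (xor_lt_two_pow_24 hmlt he1)).2 he3
    have hc' := permL_mem_of_mem_M24 hσ hc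
    have hpw : permL (permOfTabs ts.1 ts.2) w
        = permL (permOfTabs ts.1 ts.2) (wordOf (maskOf w ^^^ leaderOf (maskOf w)))
          + permL (permOfTabs ts.1 ts.2) (wordOf (leaderOf (maskOf w))) := by
      rw [← map_add]
      exact congrArg _ hw_eq
    have hsum : permL (permOfTabs ts.1 ts.2) (wordOf (leaderOf (maskOf w)))
        + wordOf (leaderOf (maskOf w)) ∈ golayCode := by
      rw [char2_aux _ _ _ _ _ _ hw_eq hpw]
      exact golayCode.add_mem hmem (golayCode.add_mem hc' hc)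
    rw [permL_wordOf hinv, ← wordOf_xor,
      wordOf_mem_golayCode_iff (xor_lt_two_pow_24 (pmask_lt _ _) he1)] at hsum
    unfold good at hgood
    rw [hsum] at hgood
    exact Bool.false_ne_true hgood

/-- a standard octad -/
def o0 : ℕ := 5279
/-- its complement -/
def o0c : ℕ := 16771936
/-- a standard dodecad -/
def d0m : ℕ := 340831

def gensM : List (List ℕ × List ℕ) := [([1, 2, 3, 4, 5, 6, 7, 8, 9, 10, 11, 12, 13, 14, 15, 16, 17, 18, 19, 20, 21, 22, 0, 23], [22, 0, 1, 2, 3, 4, 5, 6, 7, 8, 9, 10, 11, 12, 13, 14, 15, 16, 17, 18, 19, 20, 21, 23]), ([23, 22, 11, 15, 17, 9, 19, 13, 20, 5, 16, 2, 21, 7, 18, 3, 10, 4, 14, 6, 8, 12, 1, 0], [23, 22, 11, 15, 17, 9, 19, 13, 20, 5, 16, 2, 21, 7, 18, 3, 10, 4, 14, 6, 8, 12, 1, 0])]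
def gensO : List (List ℕ × List ℕ) := [([1, 4, 0, 10, 12, 11, 15, 3, 18, 22, 7, 19, 2, 17, 16, 21, 23, 8, 5, 14, 20, 13, 6, 9], [2, 0, 12, 7, 1, 18, 22, 10, 17, 23, 3, 5, 4, 21, 19, 6, 14, 13, 8, 11, 20, 15, 9, 16]), ([2, 4, 7, 3, 1, 20, 17, 12, 5, 15, 10, 14, 0, 18, 6, 23, 16, 11, 13, 19, 22, 9, 8, 21], [12, 4, 0, 3, 1, 8, 14, 2, 22, 21, 10, 17, 7, 18, 11, 9, 16, 6, 13, 19, 5, 23, 20, 15])]
def gensD : List (List ℕ × List ℕ) := [([9, 4, 6, 0, 13, 11, 2, 22, 1, 16, 5, 7, 8, 18, 21, 17, 12, 14, 3, 23, 10, 20, 15, 19], [3, 8, 6, 18, 1, 10, 2, 11, 12, 0, 20, 5, 16, 4, 17, 22, 9, 15, 13, 23, 21, 14, 7, 19]), ([18, 4, 12, 1, 8, 22, 0, 10, 9, 16, 5, 15, 6, 2, 7, 21, 3, 23, 13, 11, 14, 17, 20, 19], [6, 3, 13, 16, 1, 10, 12, 14, 4, 8, 7, 19, 2, 18, 20, 11, 9, 21, 0, 23, 22, 15, 5, 17])]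

theorem check_zero : checkStd gensM 0 = true := by decide +kernel
theorem check_ones : checkStd gensM onesMask = true := by decide +kernel
theorem check_o0 : checkStd gensO o0 = true := by decide +kernel
theorem check_o0c : checkStd gensO o0c = true := by decide +kernel
theorem check_d0 : checkStd gensD d0m = true := by decide +kernel

theorem o0_mem : setOf o0 ∈ octads := by
  rw [setOf_mem_octads_iff (by decide)]
  decide +kernel

theorem d0_mem : setOf d0m ∈ dodecads := by
  rw [setOf_mem_dodecads_iff (by decide)]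
  decide +kernel

theorem wordOf_o0c : wordOf o0c = 1 + wordOf o0 := by
  have : o0c = onesMask ^^^ o0 := by decide
  rw [this, wordOf_xor, wordOf_onesMask]

theorem eq_of_smul_eq {τ : Equiv.Perm GolayPt} {m : ℕ} {u : V}
    (h : τ • setOf m = support₂ u) : permL τ (wordOf m) = u := by
  apply Cfsg.Agent.Helper7.support₂_injective
  rw [← smul_support₂, support₂_wordOf, h]

theorem support₂_one_add (u : V) : support₂ (1 + u) = (support₂ u)ᶜ := by
  ext p
  rw [Finset.mem_compl, Cfsg.Agent.Helper7.mem_support₂, Cfsg.Agent.Helper7.mem_support₂,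
    Pi.add_apply, Pi.one_apply]
  generalize u p = a
  revert a
  decide

theorem one_add_one_add (u : V) : 1 + (1 + u) = u := by
  rw [← add_assoc, CharTwo.add_self_eq_zero, zero_add]

theorem result (u : (Cfsg.GolayPt → ZMod 2)) (hu : u ∈ Cfsg.golayCode) (w : (Cfsg.GolayPt → ZMod 2)) (hw : w ∉ Cfsg.golayCode) : ∃ σ ∈ Cfsg.M24, (fun p => u (σ.symm p)) = u ∧ (fun p => w (σ.symm p)) - w ∉ Cfsg.golayCode := by
  suffices hP : P u from hP w hw
  have hcard : hammingNorm u = (support₂ u).card := rfl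
  rcases weight_mem u hu with h | h | h | h | h
  · -- zero
    have : u = 0 := hammingNorm_eq_zero.1 h
    rw [this, ← wordOf_zero]
    exact P_of_checkStd check_zero
  · -- octad
    have hoct : support₂ u ∈ octads := ⟨⟨u, hu, rfl⟩, by rw [← hcard, h]⟩
    obtain ⟨τ, hτ, hτo⟩ := exists_smul_octad_eq o0_mem hoct
    rw [← eq_of_smul_eq hτo]
    exact transfer hτ (P_of_checkStd check_o0)
  · -- dodecad
    have hdod : support₂ u ∈ dodecads := ⟨⟨u, hu, rfl⟩, by rw [← hcard, h]⟩
    obtain ⟨τ, hτo⟩ := exists_smul_dodecad_eq d0_mem hdod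
    have hτo' : (τ : Equiv.Perm GolayPt) • setOf d0m = support₂ u := hτo
    rw [← eq_of_smul_eq hτo']
    exact transfer τ.2 (P_of_checkStd check_d0)
  · -- complement of an octad
    have hu' : 1 + u ∈ golayCode := golayCode.add_mem one_mem_golayCode hu
    have hoct : support₂ (1 + u) ∈ octads := by
      refine ⟨⟨1 + u, hu', rfl⟩, ?_⟩
      rw [support₂_one_add, Finset.card_compl, ← hcard, h]
      decide
    obtain ⟨τ, hτ, hτo⟩ := exists_smul_octad_eq o0_mem hoct
    have e1 := eq_of_smul_eq hτo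
    have e2 : permL τ (wordOf o0c) = u := by
      rw [wordOf_o0c, map_add, permL_ones, e1, one_add_one_add]
    rw [← e2]
    exact transfer hτ (P_of_checkStd check_o0c)
  · -- all ones
    have hs : support₂ u = Finset.univ := by
      apply Finset.eq_univ_of_card
      rw [← hcard, h]
      decide
    have : u = 1 := by
      apply Cfsg.Agent.Helper7.support₂_injective
      rw [hs]
      ext p
      rw [Cfsg.Agent.Helper7.mem_support₂]
      simp
    rw [this, ← wordOf_onesMask]
    exact P_of_checkStd check_ones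

end Cfsg.Agent.S5550
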