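-- Statement S5555: F*(G) = O_2(G), G/O_2(G) ≅ SU_3(2)' ⇒ O_2(G) has a complement.
-- Proof: commuting involutions of SU_3(2)' are equal (Helper89/SU3Two, from S0827 + S0279), so commuting members of D are
-- congruent modulo Q = O_2(G); then S5356 gives a Sylow 3-subgroup P normalized by d ∈ D with G = ⟨d⟩ P Q, and ⟨d⟩ P is a
-- complement.
import Cfsg.Statements.S5555
import Cfsg.Agent.Helper89.SU3Two
import Cfsg.Agent.S5356

set_option autoImplicit false
open Cfsg

namespace Cfsg.Agent.S5555

open Cfsg.Agent.Helper89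
open Cfsg.Agent.S5353 (class_conj class_trans notMem_center)

/-- If the involution `d` normalizes `P` then `⟨d⟩ P = P ∪ d P`. -/
theorem mem_or_mul_mem_of_mem_sup {G : Type*} [Group G] {d : G} (hdd : d * d = 1) {P : Subgroup G}
    (hdP : ∀ x ∈ P, d * x * d ∈ P) : ∀ g ∈ Subgroup.zpowers d ⊔ P, g ∈ P ∨ d * g ∈ P := by
  have hdinv : d⁻¹ = d := inv_eq_of_mul_eq_one_left hdd
  intro g hg
  rw [Subgroup.sup_eq_closure] at hg
  induction hg using Subgroup.closure_induction with
  | mem y hy =>
    rcases hy with hy | hy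
    · rcases eq_one_or_eq_of_mem_zpowers hdd hy with rfl | rfl
      · left; exact P.one_mem
      · right; rw [hdd]; exact P.one_mem
    · left; exact hy
  | one => left; exact P.one_mem
  | mul x y _ _ ihx ihy =>
    rcases ihx with hx | hx <;> rcases ihy with hy | hy
    · left; exact P.mul_mem hx hy
    · right
      have h1 := hdP _ hx
      have : d * (x * y) = (d * x * d) * (d * y) := by
        calc d * (x * y) = d * x * ((d * d) * y) := by rw [hdd, one_mul, mul_assoc]
          _ = (d * x * d) * (d * y) := by simp only [mul_assoc]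
      rw [this]
      exact P.mul_mem h1 hy
    · right
      rw [← mul_assoc]
      exact P.mul_mem hx hy
    · left
      have h1 := hdP _ hx
      have : x * y = (d * (d * x) * d) * (d * y) := by
        calc x * y = (d * d) * x * ((d * d) * y) := by rw [hdd, one_mul, one_mul]
          _ = (d * (d * x) * d) * (d * y) := by simp only [mul_assoc]
      rw [this]
      exact P.mul_mem h1 hy
  | inv x _ ih =>
    rcases ih with hx | hx
    · left; exact P.inv_mem hx
    · right
      have h1 := hdP _ (P.inv_mem hx)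
      have : d * x⁻¹ = d * (d * x)⁻¹ * d := by
        rw [mul_inv_rev, hdinv]
        calc d * x⁻¹ = d * x⁻¹ * (d * d) := by rw [hdd, mul_one]
          _ = d * (x⁻¹ * d) * d := by simp only [mul_assoc]
      rw [this]
      exact h1

/-- Let G be a finite group generated by a conjugacy class D of 3-transpositions, with trivial centre and with generalized Fitting subgroup F*(G) = O₂(G) (so the Fitting subgroup is O₂(G) too). If G/O₂(G) is isomorphic to the derived group of SU₃(2) (the group of order 54 generated by nine 3-transpositions), then O₂(G) has a complement in G. -/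
theorem result {G : Type*} [Group G] [Finite G] {D : Set G} (hD : Cfsg.IsThreeTranspositionClass D)
    (hZ : Subgroup.center G = ⊥) (hF : Cfsg.generalizedFittingSubgroup G = Cfsg.pCore 2 G)
    (hq : ∃ (F : Type) (_ : Field F) (_ : Fintype F), Fintype.card F = 4 ∧ Nonempty (G ⧸ Cfsg.pCore 2 G ≃* ↥(commutator ↥(Cfsg.SU 3 F 2)))) :
    ∃ K : Subgroup G, (Cfsg.pCore 2 G).IsComplement' K := by
  have hT := hD.1
  have hconj := class_conj hD
  have hgen := hD.2.2
  haveI hQn : (pCore 2 G).Normal := pCore_normal' 2
  have hQ2 : IsPGroup 2 (pCore 2 G) := Cfsg.Agent.Lib.isPGroup_pCore 2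
  obtain ⟨F, _, _, hF4, ⟨φ⟩⟩ := hq
  by_cases hex : ∃ a ∈ D, a ∈ pCore 2 G
  · -- `G = O_2(G)`
    obtain ⟨a, ha, haQ⟩ := hex
    have htop : pCore 2 G = ⊤ := by
      rw [eq_top_iff, ← hgen, Subgroup.closure_le]
      intro e he
      obtain ⟨g, rfl⟩ := class_trans hD a ha e he
      exact hQn.conj_mem a haQ g
    exact ⟨⊥, by rw [htop]; exact Subgroup.isComplement'_top_bot⟩
  · push Not at hex
    obtain ⟨d, hd, -⟩ := hD.2.1
    have hdd := sq_of_mem hT hd
    have hdinv : d⁻¹ = d := inv_eq_of_mul_eq_one_left hdd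
    -- at least two members
    have hD2 : ∃ a ∈ D, ∃ b ∈ D, a ≠ b := by
      by_contra hcon
      push Not at hcon
      apply hex d hd
      have hle : Subgroup.closure D ≤ Subgroup.zpowers d := by
        rw [Subgroup.closure_le]
        intro e he
        rw [hcon e he d hd]
        exact Subgroup.mem_zpowers d
      rw [hgen] at hle
      have hGp : IsPGroup 2 (⊤ : Subgroup G) := by
        intro x
        refine ⟨1, ?_⟩
        apply Subtype.ext
        have hx : (x : G) ∈ Subgroup.zpowers d := hle x.2
        rcases eq_one_or_eq_of_mem_zpowers hdd hx with h | h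
        · simp [h]
        · simp [h, pow_two, hdd]
      have : (⊤ : Subgroup G) ≤ pCore 2 G :=
        Cfsg.Agent.Lib.le_pCore inferInstance hGp
      exact this (Subgroup.mem_top d)
    -- commuting members of `D` are congruent modulo `O_2(G)`
    let π : G →* G ⧸ pCore 2 G := QuotientGroup.mk' (pCore 2 G)
    have hπ1 : ∀ x, π x = 1 ↔ x ∈ pCore 2 G := fun x => QuotientGroup.eq_one_iff x
    have hcomm : ∀ y ∈ D, Commute d y → d⁻¹ * y ∈ pCore 2 G := by
      intro y hy hc
      have hyy := sq_of_mem hT hy
      have hs : φ (π d) * φ (π d) = 1 := by rw [← map_mul, ← map_mul, hdd, map_one, map_one]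
      have ht : φ (π y) * φ (π y) = 1 := by rw [← map_mul, ← map_mul, hyy, map_one, map_one]
      have hs1 : φ (π d) ≠ 1 := by
        intro h
        rw [MulEquiv.map_eq_one_iff, hπ1] at h
        exact hex d hd h
      have ht1 : φ (π y) ≠ 1 := by
        intro h
        rw [MulEquiv.map_eq_one_iff, hπ1] at h
        exact hex y hy h
      have hst : Commute (φ (π d)) (φ (π y)) := by
        show φ (π d) * φ (π y) = φ (π y) * φ (π d)
        rw [← map_mul, ← map_mul, ← map_mul, ← map_mul, hc.eq]
      have := SU3Two.eq_of_commute_of_sq hF4 hs ht hs1 ht1 hst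
      have h2 : π d = π y := φ.injective this
      rw [← hπ1, map_mul, map_inv, h2, inv_mul_cancel]
    obtain ⟨hAB, -⟩ := Cfsg.Agent.S5349.result hD hD2 hd
    have hV : {y : G | y ∈ D ∧ Commute d y} = {v : G | v ∈ D ∧ ∀ e ∈ D, Commute v e ↔ Commute d e} := by
      rw [hAB]
      ext y
      constructor
      · rintro ⟨hy, hc⟩
        exact ⟨hy, hcomm y hy hc⟩
      · rintro ⟨hy, hmem⟩
        refine ⟨hy, ?_⟩
        have hmem' : d * y ∈ pCore 2 G := by rwa [hdinv] at hmem
        apply commute_of_mul_sq_eq_one hdd (sq_of_mem hT hy)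
        rcases hT.2 d hd y hy with h | h
        · exact h
        · obtain ⟨k, hk⟩ := hQ2 ⟨_, hmem'⟩
          have hk' : (d * y) ^ (2 ^ k) = 1 := by
            have := congrArg Subtype.val hk
            simpa using this
          rw [eq_one_of_pow_two_pow_of_pow_three hk' h, one_pow]
    obtain ⟨P, hdP, htop⟩ := Cfsg.Agent.S5356.result hD hD2 hd hV
    have hP3 : IsPGroup 3 (P : Subgroup G) := P.isPGroup'
    have hdP' : ∀ x ∈ (P : Subgroup G), d * x * d ∈ (P : Subgroup G) := by
      intro x hx
      have := (Subgroup.mem_set_normalizer_iff.mp hdP x).mp hx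
      rwa [hdinv] at this
    refine ⟨Subgroup.zpowers d ⊔ (P : Subgroup G), ?_⟩
    apply Subgroup.isComplement'_of_disjoint_and_mul_eq_univ
    · rw [Subgroup.disjoint_def]
      intro x hxQ hxK
      -- `x` is a 2-element
      obtain ⟨k, hk⟩ := hQ2 ⟨x, hxQ⟩
      have hk' : x ^ (2 ^ k) = 1 := by
        have := congrArg Subtype.val hk
        simpa using this
      have h3of : ∀ p ∈ (P : Subgroup G), ∃ j : ℕ, p ^ (3 ^ j) = 1 := by
        intro p hp
        obtain ⟨j, hj⟩ := hP3 ⟨p, hp⟩
        refine ⟨j, ?_⟩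
        have := congrArg Subtype.val hj
        simpa using this
      have hcop : ∀ (z : G ⧸ pCore 2 G) (i j : ℕ), z ^ (2 ^ i) = 1 → z ^ (3 ^ j) = 1 → z = 1 := by
        intro z i j h2 h3
        have hcop : Nat.Coprime (2 ^ i) (3 ^ j) := Nat.Coprime.pow _ _ (by decide)
        have := pow_gcd_eq_one.2 ⟨h2, h3⟩
        rwa [hcop, pow_one] at this
      rcases mem_or_mul_mem_of_mem_sup hdd hdP' x hxK with hxP | hxP
      · obtain ⟨j, hj⟩ := h3of x hxP
        have hcop : Nat.Coprime (2 ^ k) (3 ^ j) := Nat.Coprime.pow _ _ (by decide)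
        have := pow_gcd_eq_one.2 ⟨hk', hj⟩
        rwa [hcop, pow_one] at this
      · exfalso
        obtain ⟨j, hj⟩ := h3of _ hxP
        have h1 : π d = π (d * x) := by
          rw [map_mul, (hπ1 x).mpr hxQ, mul_one]
        have h2 : π d ^ (2 ^ 1) = 1 := by
          rw [pow_one, pow_two, ← map_mul, hdd, map_one]
        have h3 : π d ^ (3 ^ j) = 1 := by
          rw [h1, ← map_pow, hj, map_one]
        exact hex d hd ((hπ1 d).mp (hcop _ 1 j h2 h3))
    · rw [← Subgroup.normal_mul, ← Subgroup.coe_top]
      congr 1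
      rw [sup_comm]
      exact htop

end Cfsg.Agent.S5555
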