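-- Statement S5559: H = <E> (class of 3-transpositions), F*(H) = O_2(H), H/O_2(H) = O_{3,2}
--   ==> H/O_2(H) is S_3 or SU_3(2)' (order 54).
-- Proof (helper89, pieces by several seats): K = H/O_2(H) = P<d>, I = elements of P inverted by d;
-- on W = Q/Phi(Q) the 3-transposition property of H gives C_W(ab) <= C_W(b); hence no 3x3 is
-- inverted, and on a minimal submodule Omega_1(Z(P/N)) has order 3; the key lemma gives |I| <= 9.
import Cfsg.Statements.S5559
import Cfsg.Agent.Lib.Cores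
import Cfsg.Agent.S1265
import Cfsg.Agent.Helper50.E8Frat
import Cfsg.Agent.Helper89.ThreeTransp
import Cfsg.Agent.Helper89.TT59Mod
import Cfsg.Agent.Helper69.TT59ST
import Cfsg.Agent.Helper10.TT59NF
import Cfsg.Agent.Helper10.TT59LB
import Cfsg.Agent.Helper97.TT59S3
import Cfsg.Agent.Helper29.TT59SU

set_option autoImplicit false
open Cfsg

namespace Cfsg.Agent.S5559

open Cfsg.Agent.Helper89.TT59 Cfsg.Agent.Helper12.TT59 Cfsg.Agent.Helper69.TT59
  Cfsg.Agent.Helper10.TT59 Cfsg.Agent.Helper29.TT59 Cfsg.Agent.Helper97.TT59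

/-- Let H be a finite group generated by a conjugacy class E of 3-transpositions with at least two members, with F*(H) = O₂(H), and such that H/O₂(H) has a normal Sylow 3-subgroup of 2-power index (that is, H = O_{2,3,2}(H)). Then H/O₂(H) is isomorphic to the symmetric group of degree 3 or to the derived group of SU₃(2) (of order 54). -/
theorem result {H : Type*} [Group H] [Finite H] {E : Set H} (hE : Cfsg.IsThreeTranspositionClass E)
    (hE2 : ∃ a ∈ E, ∃ b ∈ E, a ≠ b) (hF : Cfsg.generalizedFittingSubgroup H = Cfsg.pCore 2 H)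
    (h232 : ∃ P : Sylow 3 (H ⧸ Cfsg.pCore 2 H), (P : Subgroup (H ⧸ Cfsg.pCore 2 H)).Normal ∧
      ∃ k : ℕ, (P : Subgroup (H ⧸ Cfsg.pCore 2 H)).index = 2 ^ k) :
    Nonempty (H ⧸ Cfsg.pCore 2 H ≃* Equiv.Perm (Fin 3)) ∨
      ∃ (F : Type) (_ : Field F) (_ : Fintype F), Fintype.card F = 4 ∧
        Nonempty (H ⧸ Cfsg.pCore 2 H ≃* ↥(commutator ↥(Cfsg.SU 3 F 2))) := by
  classical
  haveI hQn : (pCore 2 H).Normal := by
    have := Cfsg.Agent.Lib.pCore_characteristic (G := H) 2
    infer_instance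
  have hQ2 : IsPGroup 2 (pCore 2 H) := Cfsg.Agent.Lib.isPGroup_pCore 2
  have hCQ : Subgroup.centralizer (pCore 2 H : Set H) ≤ pCore 2 H := by
    have := Cfsg.Agent.S1265.result (G := H)
    rwa [hF] at this
  have hT := hE.1
  have hsq : ∀ a ∈ E, a * a = 1 := by
    intro a ha
    have := hT.1 a ha
    rw [← pow_two, ← this]
    exact pow_orderOf_eq_one a
  -- conjugation invariance and transitivity
  obtain ⟨d0, hd0, hEc⟩ := hE.2.1
  have hconj : ∀ g : H, ∀ e ∈ E, g * e * g⁻¹ ∈ E := by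
    intro g e he
    rw [hEc] at he ⊢
    have he' : IsConj d0 e := he
    show IsConj d0 (g * e * g⁻¹)
    exact he'.trans (isConj_iff.mpr ⟨g, rfl⟩)
  have htrans : ∀ a ∈ E, ∀ b ∈ E, ∃ g : H, g * a * g⁻¹ = b := by
    intro a ha b hb
    rw [hEc] at ha hb
    have ha' : IsConj d0 a := ha
    have hb' : IsConj d0 b := hb
    exact isConj_iff.mp (ha'.symm.trans hb')
  -- no member of `E` lies in `Q`
  have hEQ : ∀ a ∈ E, a ∉ pCore 2 H := by
    intro a ha haQ
    have htop : pCore 2 H = ⊤ := by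
      rw [eq_top_iff, ← hE.2.2, Subgroup.closure_le]
      intro e he
      obtain ⟨g, rfl⟩ := htrans a ha e he
      exact hQn.conj_mem a haQ g
    -- all members of `E` commute
    have hcomm : ∀ x ∈ E, ∀ y ∈ E, x * y = y * x := by
      intro x hx y hy
      have hxy : x * y ∈ pCore 2 H := by rw [htop]; exact Subgroup.mem_top _
      obtain ⟨k, hk⟩ := hQ2 ⟨_, hxy⟩
      have hk' : (x * y) ^ (2 ^ k) = 1 := by
        have := congrArg Subtype.val hk
        simpa using this
      have h2 : (x * y) ^ 2 = 1 := by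
        rcases hT.2 x hx y hy with h | h
        · exact h
        · have hcop : Nat.Coprime (2 ^ k) 3 := Nat.Coprime.pow_left _ (by decide)
          have := pow_gcd_eq_one.2 ⟨hk', h⟩
          rw [hcop, pow_one] at this
          rw [this, one_pow]
      exact (Cfsg.Agent.Helper89.commute_of_mul_sq_eq_one (hsq x hx) (hsq y hy) h2).eq
    obtain ⟨x, hx, y, hy, hxy⟩ := hE2
    apply hxy
    obtain ⟨g, rfl⟩ := htrans x hx y hy
    -- `g` is a product of members of `E`, all commuting with `x`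
    have hcent : ∀ g : H, g * x = x * g := by
      intro g
      have hg : g ∈ Subgroup.closure E := by rw [hE.2.2]; exact Subgroup.mem_top _
      have : g ∈ Subgroup.centralizer ({x} : Set H) := by
        refine (Subgroup.closure_le _).mpr ?_ hg
        intro e he
        rw [SetLike.mem_coe, Subgroup.mem_centralizer_iff]
        intro z hz
        rw [Set.mem_singleton_iff] at hz
        rw [hz]
        exact hcomm x hx e he
      rw [Subgroup.mem_centralizer_iff] at this
      exact (this x rfl).symm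
    rw [hcent g, mul_assoc, mul_inv_cancel, mul_one]
  -- the quotient
  let π : H →* H ⧸ pCore 2 H := QuotientGroup.mk' (pCore 2 H)
  have hπ : Function.Surjective π := QuotientGroup.mk'_surjective _
  have hπ1 : ∀ x, π x = 1 ↔ x ∈ pCore 2 H := fun x => QuotientGroup.eq_one_iff x
  have hD := class_map hE π hπ (fun a ha h => hEQ a ha ((hπ1 a).mp h))
  obtain ⟨P, hPn, hidx⟩ := h232
  haveI := hPn
  have hP3 : IsPGroup 3 (P : Subgroup (H ⧸ pCore 2 H)) := P.isPGroup'
  have hdD : π d0 ∈ π '' E := ⟨d0, hd0, rfl⟩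
  obtain ⟨hS, hDI⟩ := setup_of_class hD (P : Subgroup (H ⧸ pCore 2 H)) hP3 hidx hdD
  -- the module
  let ρH : H →* MulAut (↥(pCore 2 H) ⧸ frattini ↥(pCore 2 H)) :=
    Cfsg.Agent.Helper70.frattiniAct (pCore 2 H)
  have hρHQ : ∀ q ∈ pCore 2 H, ρH q = 1 := fun q hq =>
    Cfsg.Agent.Helper70.frattiniAct_eq_one_of_mem (pCore 2 H) hQ2 q hq
  let ρ : H ⧸ pCore 2 H →* MulAut (↥(pCore 2 H) ⧸ frattini ↥(pCore 2 H)) :=
    QuotientGroup.lift (pCore 2 H) ρH (fun q hq => hρHQ q hq)
  have hρπ : ∀ h : H, ρ (π h) = ρH h := fun h => rfl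
  have hWc : ∀ a b : ↥(pCore 2 H) ⧸ frattini ↥(pCore 2 H), a * b = b * a :=
    Cfsg.Agent.Helper70.frattiniQuot_comm hQ2
  have hW2 : ∀ w : ↥(pCore 2 H) ⧸ frattini ↥(pCore 2 H), w * w = 1 := by
    intro w
    have := Cfsg.Agent.Helper50.fq_pow hQ2 w
    rwa [pow_two] at this
  -- the key property
  have hstar : ∀ s ∈ Inv (P : Subgroup (H ⧸ pCore 2 H)) (π d0), s ≠ 1 →
      ∀ w : ↥(pCore 2 H) ⧸ frattini ↥(pCore 2 H), ρ s w = w → ρ (π d0) w = w := by
    intro s hs hs1 w hw
    have hds : π d0 * s ∈ π '' E := by rw [hDI]; exact ⟨s, hs, rfl⟩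
    obtain ⟨e, he, hes⟩ := hds
    have hs3 := hS.pow_three hs
    -- `π (e * d0) = s⁻¹`
    have hprod : π (e * d0) = s⁻¹ := by
      rw [map_mul, hes, mul_assoc, ← hs.2]
      simp only [mul_assoc]
    have hnotQ : e * d0 ∉ pCore 2 H := by
      intro h
      rw [← hπ1, hprod, inv_eq_one] at h
      exact hs1 h
    have hcube : (e * d0) ^ 3 = 1 := by
      rcases hT.2 e he d0 hd0 with h | h
      · exfalso
        have h2 : (s⁻¹) ^ 2 = 1 := by rw [← hprod, ← map_pow, h, map_one]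
        rw [inv_pow, inv_eq_one] at h2
        apply hs1
        have hcop : Nat.Coprime 2 3 := by decide
        have := pow_gcd_eq_one.2 ⟨h2, hs3⟩
        rwa [hcop, pow_one] at this
      · exact h
    have hw' : ρH (e * d0) w = w := by
      rw [← hρπ, hprod, map_inv]
      rw [MulAut.inv_apply, MulEquiv.symm_apply_eq]
      exact hw.symm
    have := star_frattini hE (pCore 2 H) hQ2 e d0 he hd0 hnotQ hcube w hw'
    rw [hρπ]
    exact this
  have hfaith : ∀ x ∈ (P : Subgroup (H ⧸ pCore 2 H)), ρ x = 1 → x = 1 := by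
    intro x hxP hx
    obtain ⟨h, rfl⟩ := hπ x
    rw [hρπ] at hx
    obtain ⟨k, hk⟩ := Cfsg.Agent.Helper70.exists_pow_eq_one_of_frattiniAct_eq_one (pCore 2 H) hQ2 hCQ
      h hx
    have h2 : (π h) ^ (2 ^ k) = 1 := by rw [← map_pow, hk, map_one]
    obtain ⟨j, hj⟩ := hP3 ⟨π h, hxP⟩
    have h3 : (π h) ^ (3 ^ j) = 1 := by
      have := congrArg Subtype.val hj
      simpa using this
    have hcop : Nat.Coprime (2 ^ k) (3 ^ j) := Nat.Coprime.pow _ _ (by decide)
    have := pow_gcd_eq_one.2 ⟨h2, h3⟩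
    rwa [hcop, pow_one] at this
  have hPbot : (P : Subgroup (H ⧸ pCore 2 H)) ≠ ⊥ := by
    intro hbot
    -- then `K` is a 2-group, so `H` is a 2-group, so `H = Q`
    obtain ⟨k, hk⟩ := hidx
    rw [hbot, Subgroup.index_bot] at hk
    have hK2 : IsPGroup 2 (H ⧸ pCore 2 H) := IsPGroup.of_card hk
    have hH2 : IsPGroup 2 H := by
      intro x
      obtain ⟨i, hi⟩ := hK2 (π x)
      have hxi : x ^ (2 ^ i) ∈ pCore 2 H := by rw [← hπ1, map_pow, hi]
      obtain ⟨j, hj⟩ := hQ2 ⟨_, hxi⟩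
      refine ⟨i + j, ?_⟩
      have := congrArg Subtype.val hj
      simp only [Subgroup.coe_pow, Subgroup.coe_one] at this
      rw [pow_add, pow_mul]
      exact this
    have htop : (⊤ : Subgroup H) ≤ pCore 2 H :=
      Cfsg.Agent.Lib.le_pCore inferInstance (hH2.to_subgroup ⊤)
    exact hEQ d0 hd0 (htop (Subgroup.mem_top _))
  obtain ⟨h9, hcomm⟩ := card_Inv_le_nine_of_module hWc hW2 ρ hD (P : Subgroup (H ⧸ pCore 2 H))
    hP3 hidx hdD hstar hfaith hPbot
  rcases structure_of_card_le_nine hS hPbot hcomm h9 with h6 | ⟨h54, y, z, hy, hz, hyz, hyz', hdy, hdz, hgen⟩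
  · left
    exact iso_perm_three hS h6
  · right
    obtain ⟨hc, y', z', d', hy', hz', hyz2, hyz2', hd', hdy', hdz', hgen'⟩ := su_three_two_derived
    refine ⟨Cfsg.Agent.Helper27.GF4, inferInstance, inferInstance, by decide, ?_⟩
    exact iso_of_relations y z (π d0) hy hz hyz hyz' hS.dd hdy hdz hgen h54
      y' z' d' hy' hz' hyz2 hyz2' hd' hdy' hdz' hgen' hc

end Cfsg.Agent.S5559
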