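import Cfsg.Statements.S5595
import Cfsg.Agent.Helper90.SymmOrth
import Cfsg.Agent.Helper90.PairSetting

set_option autoImplicit false
open Cfsg
open Cfsg.Agent.Helper90

namespace Cfsg.Agent.S5595

/-- Setting: `z` is an involution of the finite group `G`; for each element `x`, `Q x` denotes the largest normal 2-subgroup of the centralizer of `x`; `Q z` is extraspecial and contains its own centralizer in `G` (a large extraspecial 2-subgroup in this sense). Call the conjugates of `z` singular, and say that singular `x` is orthogonal to singular `y` when `x ∈ Q y`. Then orthogonality is symmetric: if a conjugate `x` of `z` lies in `Q z`, then `z` lies in `Q x`. -/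
theorem result {G : Type*} [Group G] [Finite G]
    (Q : G → Subgroup G)
    (hQ : ∀ x : G, Q x = (Cfsg.pCore 2 ↥(Subgroup.centralizer ({x} : Set G))).map (Subgroup.centralizer ({x} : Set G)).subtype)
    (z : G) (hz : orderOf z = 2) (hE : Cfsg.IsExtraspecial 2 ↥(Q z))
    (hC : Subgroup.centralizer ((Q z : Subgroup G) : Set G) ≤ Q z)
    (g : G) (hx : g * z * g⁻¹ ∈ Q z) : z ∈ Q (g * z * g⁻¹) := by
  classical
  have hzz : z * z = 1 := by rw [← pow_two, ← hz, pow_orderOf_eq_one]
  have hz1 : z ≠ 1 := by
    intro h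
    rw [h, orderOf_one] at hz
    norm_num at hz
  obtain ⟨hQzc, hzQz, hQzn, hQz2⟩ := pCore_centralizer_facts z hzz (Q z) (hQ z)
  obtain ⟨z', hE'⟩ := exists_extraData hE
  have hzcen : z ∈ (Subgroup.center ↥(Q z)).map (Q z).subtype :=
    (mem_center_map_iff _ z).mpr ⟨hzQz, fun q hq => hQzc q hq⟩
  have hz'z : z' = z := by
    rcases hE'.zall z hzcen with h | h
    · exact absurd h hz1
    · exact h.symm
  rw [hz'z] at hE'
  have hL2 : Subgroup.centralizer ((Q z : Subgroup G) : Set G) =
      (Subgroup.center ↥(Q z)).map (Q z).subtype := by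
    ext x
    rw [mem_center_map_iff]
    constructor
    · intro hx'
      exact ⟨hC hx', fun q hq => Subgroup.mem_centralizer_iff.mp hx' q hq⟩
    · rintro ⟨_, hx'⟩
      rw [Subgroup.mem_centralizer_iff]
      exact hx'
  have hL3 : Subgroup.centralizer (((Subgroup.center ↥(Q z)).map (Q z).subtype : Subgroup G) : Set G) ≤
      Subgroup.normalizer ((Q z : Subgroup G) : Set G) := by
    intro c hc
    apply hQzn
    exact (Subgroup.mem_centralizer_iff.mp hc z hzcen).symm
  have hmain : z ∈ (Q z).map (MulAut.conj g).toMonoidHom :=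
    z_mem_conj_of_conj_mem hE' hE hL2 hL3 g hx
  -- the conjugate of `Q z` lies in `Q (g z g⁻¹)`
  have hmemC : ∀ c : G, c ∈ Subgroup.centralizer ({g * z * g⁻¹} : Set G) ↔
      c * (g * z * g⁻¹) = (g * z * g⁻¹) * c := by
    intro c
    rw [Subgroup.mem_centralizer_iff]
    constructor
    · intro h; exact (h _ rfl).symm
    · intro h y hy
      rw [Set.mem_singleton_iff] at hy
      subst hy
      exact h.symm
  have hle0 : (Q z).map (MulAut.conj g).toMonoidHom ≤ Subgroup.centralizer ({g * z * g⁻¹} : Set G) := by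
    intro q hq
    rw [mem_map_conj_iff] at hq
    rw [hmemC]
    have h1 := hQzc _ hq
    calc q * (g * z * g⁻¹) = g * ((g⁻¹ * q * g) * z) * g⁻¹ := by group
      _ = g * (z * (g⁻¹ * q * g)) * g⁻¹ := by rw [h1]
      _ = g * z * g⁻¹ * q := by group
  have hnormal : (((Q z).map (MulAut.conj g).toMonoidHom).subgroupOf
      (Subgroup.centralizer ({g * z * g⁻¹} : Set G))).Normal := by
    constructor
    intro q hq c
    rw [Subgroup.mem_subgroupOf] at hq ⊢
    have hn := mem_normalizer_conj_of_comm hE' hL3 g ((hmemC _).mp c.2)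
    have := conj_mem_of_mem_normalizer hn hq
    simpa using this
  have hpg : IsPGroup 2 (((Q z).map (MulAut.conj g).toMonoidHom).subgroupOf
      (Subgroup.centralizer ({g * z * g⁻¹} : Set G))) := (hQz2.map _).comap_subtype
  have hle : ((Q z).map (MulAut.conj g).toMonoidHom).subgroupOf
      (Subgroup.centralizer ({g * z * g⁻¹} : Set G)) ≤
      Cfsg.pCore 2 ↥(Subgroup.centralizer ({g * z * g⁻¹} : Set G)) := le_sSup ⟨hnormal, hpg⟩
  rw [hQ (g * z * g⁻¹)]
  refine ⟨⟨z, hle0 hmain⟩, hle ?_, rfl⟩
  rw [Subgroup.mem_subgroupOf]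
  exact hmain

end Cfsg.Agent.S5595
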