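-- Statement S5596 (helper90; claimed from helper93's block).
import Cfsg.Statements.S5596
import Cfsg.Agent.Helper90.Singular2

set_option autoImplicit false
open Cfsg

namespace Cfsg.Agent.S5596

open Cfsg.Agent.Helper90

/-- Setting: `z` is an involution of the finite group `G`; for each element `x`, `Q x` is the largest normal 2-subgroup of the centralizer of `x`; `Q z` is extraspecial and contains its own centralizer in `G`. A subgroup `U` is singular when it is elementary abelian, every non-identity element of `U` is conjugate to `z`, and any two non-identity elements `u`, `v` of `U` are orthogonal (`v ∈ Q u`). Write `QU` for the intersection of the `Q u` and `LU` for the join of the `Q u` over the non-identity `u` in `U`. If `U` is singular of order `2 ^ n` with `n ≥ 2`, then `U ≤ QU ≤ LU`, `LU` normalizes `U`, and `LU` induces on `U` its full automorphism group (the general linear group of dimension `n` over the field with two elements): every automorphism of `U` is conjugation by some element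 of `LU`. -/
theorem result {G : Type*} [Group G] [Finite G]
    (Q : G → Subgroup G)
    (hQ : ∀ x : G, Q x = (Cfsg.pCore 2 ↥(Subgroup.centralizer ({x} : Set G))).map (Subgroup.centralizer ({x} : Set G)).subtype)
    (z : G) (hz : orderOf z = 2) (hE : Cfsg.IsExtraspecial 2 ↥(Q z))
    (hC : Subgroup.centralizer ((Q z : Subgroup G) : Set G) ≤ Q z)
    (U : Subgroup G) (hU2 : ∀ u ∈ U, u * u = 1)
    (hS : ∀ u ∈ U, u ≠ 1 → ∃ g : G, g * z * g⁻¹ = u)
    (hO : ∀ u ∈ U, ∀ v ∈ U, u ≠ 1 → v ≠ 1 → v ∈ Q u)
    (QU LU : Subgroup G) (hQU : QU = ⨅ u ∈ ((U : Set G) \ {1}), Q u) (hLU : LU = ⨆ u ∈ ((U : Set G) \ {1}), Q u)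
    (n : ℕ) (hn : 2 ≤ n) (hcard : Nat.card ↥U = 2 ^ n) :
    U ≤ QU ∧ QU ≤ LU ∧ LU ≤ Subgroup.normalizer (U : Set G) ∧
      ∀ φ : ↥U ≃* ↥U, ∃ g ∈ LU, ∀ u : ↥U, g * (u : G) * g⁻¹ = ((φ u : ↥U) : G) := by
  classical
  have hEu : ∀ u ∈ U, u ≠ 1 → ExtraData (Q u) u := by
    intro u hu hu1
    obtain ⟨g, hg⟩ := hS u hu hu1
    exact extraData_qfun Q hQ z hz hE hg
  have hUQ : ∀ u ∈ U, u ≠ 1 → U ≤ Q u := by
    intro u hu hu1 v hv
    by_cases hv1 : v = 1
    · rw [hv1]; exact Subgroup.one_mem _
    · exact hO u hu v hv hu1 hv1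
  have hQUle : ∀ u ∈ U, u ≠ 1 → QU ≤ Q u := by
    intro u hu hu1
    rw [hQU]
    exact iInf₂_le u ⟨hu, fun h => hu1 (Set.mem_singleton_iff.mp h)⟩
  have hleLU : ∀ u ∈ U, u ≠ 1 → Q u ≤ LU := by
    intro u hu hu1
    rw [hLU]
    exact le_iSup₂ (f := fun u (_ : u ∈ ((U : Set G) \ {1})) => Q u) u
      ⟨hu, fun h => hu1 (Set.mem_singleton_iff.mp h)⟩
  have hnorm : ∀ u ∈ U, u ≠ 1 → ∀ g ∈ Q u, g ∈ Subgroup.normalizer (U : Set G) := by
    intro u hu hu1 g hg
    apply mem_normalizer_of_conj_mem U g
    intro v hv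
    rcases (hEu u hu hu1).conj_eq_or (hUQ u hu hu1 hv) hg with h | h
    · rw [h]; exact hv
    · rw [h]; exact U.mul_mem hu hv
  have hUc : ∀ u ∈ U, ∀ v ∈ U, u * v = v * u := by
    intro u hu v hv
    by_cases hv1 : v = 1
    · rw [hv1]; group
    · exact (hEu v hv hv1).zc u (hUQ v hv hv1 hu)
  -- U is nontrivial
  obtain ⟨u0, hu0U, hu01⟩ : ∃ u ∈ U, u ≠ 1 := by
    by_contra hcon
    push_neg at hcon
    have hbot : U = ⊥ := by
      rw [eq_bot_iff]
      intro x hx
      rw [Subgroup.mem_bot]
      exact hcon x hx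
    rw [hbot, Subgroup.card_bot] at hcard
    have : 2 ^ n ≥ 2 ^ 2 := Nat.pow_le_pow_right (by norm_num) hn
    omega
  have hLN : LU ≤ Subgroup.normalizer (U : Set G) := by
    rw [hLU]
    refine iSup₂_le fun u hu => ?_
    exact fun g hg => hnorm u hu.1 (fun h => hu.2 (Set.mem_singleton_iff.mpr h)) g hg
  refine ⟨?_, ?_, hLN, ?_⟩
  · rw [hQU]
    refine le_iInf₂ fun u hu => ?_
    exact hUQ u hu.1 (fun h => hu.2 (Set.mem_singleton_iff.mpr h))
  · exact (hQUle u0 hu0U hu01).trans (hleLU u0 hu0U hu01)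
  -- automorphisms
  have main : ∀ m : ℕ, ∀ φ : ↥U ≃* ↥U, {u : ↥U | φ u ≠ u}.ncard ≤ m →
      ∃ g ∈ LU, ∀ u : ↥U, g * (u : G) * g⁻¹ = ((φ u : ↥U) : G) := by
    intro m
    induction m with
    | zero =>
      intro φ hφ
      have hempty : {u : ↥U | φ u ≠ u} = ∅ := by
        have := Nat.le_zero.mp hφ
        exact (Set.ncard_eq_zero (Set.toFinite _)).mp this
      refine ⟨1, LU.one_mem, fun u => ?_⟩
      have : φ u = u := by
        by_contra h
        have : u ∈ {u : ↥U | φ u ≠ u} := h
        rw [hempty] at this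
        exact this
      rw [this]; group
    | succ m ih =>
      intro φ hφ
      by_cases hne : ∃ v : ↥U, φ v ≠ v
      swap
      · push_neg at hne
        refine ⟨1, LU.one_mem, fun u => ?_⟩
        rw [hne u]; group
      obtain ⟨v, hv⟩ := hne
      -- w = φ(v) v
      set w : G := ((φ v : ↥U) : G) * (v : G) with hw
      have hwU : w ∈ U := U.mul_mem (φ v).2 v.2
      have hvv : (v : G) * (v : G) = 1 := hU2 _ v.2
      have hvinv : (v : G)⁻¹ = (v : G) := inv_eq_of_mul_eq_one_left hvv
      have hw1 : w ≠ 1 := by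
        intro h
        apply hv
        apply Subtype.ext
        have : ((φ v : ↥U) : G) = (v : G)⁻¹ := eq_inv_of_mul_eq_one_left h
        rw [this, hvinv]
      have hφv : ((φ v : ↥U) : G) = w * (v : G) := by
        rw [hw, mul_assoc, hvv, mul_one]
      -- the fixed subgroup
      set F0 : Subgroup G := (MonoidHom.eqLocus φ.toMonoidHom (MonoidHom.id ↥U)).map U.subtype with hF0
      have hF0mem : ∀ x : G, x ∈ F0 ↔ ∃ u : ↥U, φ u = u ∧ (u : G) = x := by
        intro x
        rw [hF0, Subgroup.mem_map]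
        constructor
        · rintro ⟨u, hu, rfl⟩
          exact ⟨u, hu, rfl⟩
        · rintro ⟨u, hu, rfl⟩
          exact ⟨u, hu, rfl⟩
      have hF0U : F0 ≤ U := by
        intro x hx
        obtain ⟨u, _, rfl⟩ := (hF0mem x).mp hx
        exact u.2
      set F1 : Subgroup G := adjoinTwo U F0 hU2 hUc w hwU with hF1
      have hF1U : F1 ≤ U := fun x hx => hx.1
      have hF0F1 : F0 ≤ F1 := fun x hx => ⟨hF0U hx, Or.inl hx⟩
      have hwF1 : w ∈ F1 := by
        refine ⟨hwU, Or.inr ?_⟩
        rw [hU2 w hwU]; exact F0.one_mem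
      have hvF1 : (v : G) ∉ F1 := by
        rintro ⟨_, h | h⟩
        · obtain ⟨u, hu, huv⟩ := (hF0mem _).mp h
          have : u = v := Subtype.ext huv
          rw [this] at hu
          exact hv hu
        · -- v * w = φ v
          have e : (v : G) * w = ((φ v : ↥U) : G) := by
            rw [hw, hUc _ v.2 _ (U.mul_mem (φ v).2 v.2), mul_assoc, hvv, mul_one]
          rw [e] at h
          obtain ⟨u, hu, huv⟩ := (hF0mem _).mp h
          have : u = φ v := Subtype.ext huv
          rw [this] at hu
          exact hv (φ.injective hu)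
      obtain ⟨H, hF1H, hHU, hvH, hHcos⟩ := exists_hyperplane hU2 hUc F1 hF1U v.2 hvF1
      have hwH : w ∈ H := hF1H hwF1
      -- the element c
      have hE' := hEu w hwU hw1
      set S : Finset G := (Set.toFinite (H : Set G)).toFinset with hSdef
      have hSmem : ∀ s, s ∈ S ↔ s ∈ H := by
        intro s
        rw [hSdef, Set.Finite.mem_toFinset]
        rfl
      have hcl : Subgroup.closure ((S : Set G) ∪ {w}) ≤ H := by
        rw [Subgroup.closure_le]
        intro y hy
        rcases hy with hy | hy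
        · exact (hSmem y).mp (Finset.mem_coe.mp hy)
        · rw [Set.mem_singleton_iff] at hy
          rw [hy]; exact hwH
      have hvQ : (v : G) ∈ Q w := hUQ w hwU hw1 v.2
      have hnot : ¬ (∀ c ∈ Q w, (∀ s ∈ S, c * s = s * c) → c * (v : G) = (v : G) * c) := by
        intro hall
        apply hvH
        apply hcl
        exact hE'.double_centralizer_finset S
          (fun s hs => hUQ w hwU hw1 (hHU ((hSmem s).mp hs))) (v : G) hvQ hall
      push_neg at hnot
      obtain ⟨c, hcQ, hcS, hcv⟩ := hnot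
      have hcH : ∀ s ∈ H, c * s * c⁻¹ = s := by
        intro s hs
        have := hcS s ((hSmem s).mpr hs)
        calc c * s * c⁻¹ = (s * c) * c⁻¹ := by rw [this]
          _ = s := by group
      have hcv' : c * (v : G) * c⁻¹ = w * (v : G) := by
        rcases hE'.conj_eq_or hvQ hcQ with h | h
        · exfalso
          apply hcv
          calc c * (v : G) = (c * (v : G) * c⁻¹) * c := by group
            _ = (v : G) * c := by rw [h]
        · exact h
      have hcN : c ∈ Subgroup.normalizer (U : Set G) := hnorm w hwU hw1 c hcQ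
      have hcLU : c ∈ LU := hleLU w hwU hw1 hcQ
      -- the new automorphism
      set φ' : ↥U ≃* ↥U := φ.trans (conjEquivOfNormalizer U c hcN) with hφ'
      have hφ'app : ∀ u : ↥U, ((φ' u : ↥U) : G) = c * ((φ u : ↥U) : G) * c⁻¹ := by
        intro u
        rfl
      have hsub : {u : ↥U | φ' u ≠ u} ⊂ {u : ↥U | φ u ≠ u} := by
        rw [Set.ssubset_iff_subset_ne]
        constructor
        · intro u hu hcon
          apply hu
          apply Subtype.ext
          rw [hφ'app, hcon]
          apply hcH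
          apply hF1H
          apply hF0F1
          exact (hF0mem _).mpr ⟨u, hcon, rfl⟩
        · intro heq
          have hvmem : v ∈ {u : ↥U | φ u ≠ u} := hv
          rw [← heq] at hvmem
          apply hvmem
          apply Subtype.ext
          rw [hφ'app, hφv]
          calc c * (w * (v : G)) * c⁻¹ = (c * w * c⁻¹) * (c * (v : G) * c⁻¹) := by group
            _ = w * (w * (v : G)) := by rw [hcH w hwH, hcv']
            _ = (w * w) * (v : G) := by group
            _ = (v : G) := by rw [hU2 w hwU, one_mul]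
      have hlt : {u : ↥U | φ' u ≠ u}.ncard < {u : ↥U | φ u ≠ u}.ncard :=
        Set.ncard_lt_ncard hsub (Set.toFinite _)
      obtain ⟨g', hg'LU, hg'⟩ := ih φ' (by omega)
      refine ⟨c⁻¹ * g', LU.mul_mem (LU.inv_mem hcLU) hg'LU, fun u => ?_⟩
      have h1 := hg' u
      rw [hφ'app] at h1
      calc c⁻¹ * g' * (u : G) * (c⁻¹ * g')⁻¹ = c⁻¹ * (g' * (u : G) * g'⁻¹) * c := by group
        _ = c⁻¹ * (c * ((φ u : ↥U) : G) * c⁻¹) * c := by rw [h1]
        _ = ((φ u : ↥U) : G) := by group
  intro φ
  exact main _ φ (le_refl _)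

end Cfsg.Agent.S5596
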