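-- Statement S5597 (helper90; claimed from helper93's block).
import Cfsg.Statements.S5597
import Cfsg.Agent.Helper90.Singular

set_option autoImplicit false
open Cfsg

namespace Cfsg.Agent.S5597

open Cfsg.Agent.Helper90

/-- Setting: `z` is an involution of the finite group `G`; for each element `x`, `Q x` is the largest normal 2-subgroup of the centralizer of `x`; `Q z` is extraspecial and contains its own centralizer in `G`. A subgroup `U` is singular when it is elementary abelian, every non-identity element of `U` is conjugate to `z`, and any two non-identity elements `u`, `v` of `U` are orthogonal (`v ∈ Q u`). Write `QU` for the intersection of the `Q u` and `LU` for the join of the `Q u` over the non-identity `u` in `U`. If `U` is a non-trivial singular subgroup, then `LU` acts trivially on `QU / U` (every commutator of an element of `LU` with an element of `QU` lies in `U`), and for every `x` in `QU` outside `U` the centralizer of `U` in `LU` permutes the coset `x U` transitively: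 each `x u` with `u ∈ U` is a conjugate of `x` by an element of `LU` centralizing `U`. -/
theorem result {G : Type*} [Group G] [Finite G]
    (Q : G → Subgroup G)
    (hQ : ∀ x : G, Q x = (Cfsg.pCore 2 ↥(Subgroup.centralizer ({x} : Set G))).map (Subgroup.centralizer ({x} : Set G)).subtype)
    (z : G) (hz : orderOf z = 2) (hE : Cfsg.IsExtraspecial 2 ↥(Q z))
    (hC : Subgroup.centralizer ((Q z : Subgroup G) : Set G) ≤ Q z)
    (U : Subgroup G) (hU2 : ∀ u ∈ U, u * u = 1)
    (hS : ∀ u ∈ U, u ≠ 1 → ∃ g : G, g * z * g⁻¹ = u)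
    (hO : ∀ u ∈ U, ∀ v ∈ U, u ≠ 1 → v ≠ 1 → v ∈ Q u)
    (QU LU : Subgroup G) (hQU : QU = ⨅ u ∈ ((U : Set G) \ {1}), Q u) (hLU : LU = ⨆ u ∈ ((U : Set G) \ {1}), Q u)
    (hU : U ≠ ⊥) :
    (∀ g ∈ LU, ∀ x ∈ QU, g * x * g⁻¹ * x⁻¹ ∈ U) ∧
      ∀ x ∈ QU, x ∉ U → ∀ u ∈ U, ∃ g ∈ LU ⊓ Subgroup.centralizer (U : Set G), g * x * g⁻¹ = x * u := by
  classical
  have hEu : ∀ u ∈ U, u ≠ 1 → ExtraData (Q u) u := by
    intro u hu hu1
    obtain ⟨g, hg⟩ := hS u hu hu1
    exact extraData_qfun Q hQ z hz hE hg
  have hUQ : ∀ u ∈ U, u ≠ 1 → U ≤ Q u := by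
    intro u hu hu1 v hv
    by_cases hv1 : v = 1
    · rw [hv1]; exact Subgroup.one_mem _
    · exact hO u hu v hv hu1 hv1
  have hQUle : ∀ u ∈ U, u ≠ 1 → QU ≤ Q u := by
    intro u hu hu1
    rw [hQU]
    exact iInf₂_le u ⟨hu, fun h => hu1 (Set.mem_singleton_iff.mp h)⟩
  have hleLU : ∀ u ∈ U, u ≠ 1 → Q u ≤ LU := by
    intro u hu hu1
    rw [hLU]
    exact le_iSup₂ (f := fun u (_ : u ∈ ((U : Set G) \ {1})) => Q u) u
      ⟨hu, fun h => hu1 (Set.mem_singleton_iff.mp h)⟩
  have hnorm : ∀ u ∈ U, u ≠ 1 → ∀ g ∈ Q u, g ∈ Subgroup.normalizer (U : Set G) := by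
    intro u hu hu1 g hg
    apply mem_normalizer_of_conj_mem U g
    intro v hv
    rcases (hEu u hu hu1).conj_eq_or (hUQ u hu hu1 hv) hg with h | h
    · rw [h]; exact hv
    · rw [h]; exact U.mul_mem hu hv
  constructor
  · -- the subgroup K
    let K : Subgroup G :=
      { carrier := {g | g ∈ Subgroup.normalizer (U : Set G) ∧ ∀ x ∈ QU, g * x * g⁻¹ * x⁻¹ ∈ U}
        one_mem' := by
          refine ⟨Subgroup.one_mem _, fun x _ => ?_⟩
          have : (1 : G) * x * 1⁻¹ * x⁻¹ = 1 := by group
          rw [this]; exact U.one_mem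
        mul_mem' := by
          rintro a b ⟨haN, ha⟩ ⟨hbN, hb⟩
          refine ⟨Subgroup.mul_mem _ haN hbN, fun x hx => ?_⟩
          have e : a * b * x * (a * b)⁻¹ * x⁻¹ =
              (a * (b * x * b⁻¹ * x⁻¹) * a⁻¹) * (a * x * a⁻¹ * x⁻¹) := by group
          rw [e]
          exact U.mul_mem (conj_mem_of_mem_normalizer haN (hb x hx)) (ha x hx)
        inv_mem' := by
          rintro a ⟨haN, ha⟩
          refine ⟨Subgroup.inv_mem _ haN, fun x hx => ?_⟩
          have e : a⁻¹ * x * a⁻¹⁻¹ * x⁻¹ = a⁻¹ * (a * x * a⁻¹ * x⁻¹)⁻¹ * a := by group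
          rw [e]
          exact inv_conj_mem_of_mem_normalizer haN (U.inv_mem (ha x hx)) }
    have hLK : LU ≤ K := by
      rw [hLU]
      refine iSup₂_le fun u hu => ?_
      have huU : u ∈ U := hu.1
      have hu1 : u ≠ 1 := fun h => hu.2 (Set.mem_singleton_iff.mpr h)
      intro g hg
      refine ⟨hnorm u huU hu1 g hg, fun x hx => ?_⟩
      rcases (hEu u huU hu1).comm g hg x (hQUle u huU hu1 hx) with h | h
      · rw [h]; exact U.one_mem
      · rw [h]; exact huU
    intro g hg x hx
    exact (hLK hg).2 x hx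
  · intro x hxQU hxU u hu
    by_cases hu1 : u = 1
    · refine ⟨1, Subgroup.one_mem _, ?_⟩
      rw [hu1]; group
    have hE' := hEu u hu hu1
    have hxQ : x ∈ Q u := hQUle u hu hu1 hxQU
    set S : Finset G := (Set.toFinite (U : Set G)).toFinset with hSdef
    have hSmem : ∀ s, s ∈ S ↔ s ∈ U := by
      intro s
      rw [hSdef, Set.Finite.mem_toFinset]
      rfl
    have hcl : Subgroup.closure ((S : Set G) ∪ {u}) ≤ U := by
      rw [Subgroup.closure_le]
      intro w hw
      rcases hw with hw | hw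
      · exact (hSmem w).mp (Finset.mem_coe.mp hw)
      · rw [Set.mem_singleton_iff] at hw
        rw [hw]; exact hu
    have hnot : ¬ (∀ c ∈ Q u, (∀ s ∈ S, c * s = s * c) → c * x = x * c) := by
      intro hall
      apply hxU
      apply hcl
      exact hE'.double_centralizer_finset S (fun s hs => hUQ u hu hu1 ((hSmem s).mp hs)) x hxQ hall
    push_neg at hnot
    obtain ⟨c, hcQ, hcS, hcx⟩ := hnot
    refine ⟨c, ⟨hleLU u hu hu1 hcQ, ?_⟩, ?_⟩
    · show c ∈ Subgroup.centralizer (U : Set G)
      rw [Subgroup.mem_centralizer_iff]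
      intro s hs
      exact (hcS s ((hSmem s).mpr hs)).symm
    · rcases hE'.conj_eq_or hxQ hcQ with h | h
      · exfalso
        apply hcx
        calc c * x = (c * x * c⁻¹) * c := by group
          _ = x * c := by rw [h]
      · rw [h]
        exact (hE'.zc x hxQ).symm

end Cfsg.Agent.S5597
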