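-- Statement S5598 (helper90; claimed from helper93's block).
import Cfsg.Statements.S5598
import Cfsg.Agent.Helper90.QFun

set_option autoImplicit false
open Cfsg

namespace Cfsg.Agent.S5598

open Cfsg.Agent.Helper90

/-- Setting: `z` is an involution of the finite group `G`; for each element `x`, `Q x` is the largest normal 2-subgroup of the centralizer of `x`; `Q z` is extraspecial and contains its own centralizer in `G`. A subgroup `U` is singular when it is elementary abelian, every non-identity element of `U` is conjugate to `z`, and any two non-identity elements `u`, `v` of `U` are orthogonal (`v ∈ Q u`). Write `QU` for the intersection of the `Q u` and `LU` for the join of the `Q u` over the non-identity `u` in `U`. If the singular subgroup `U` is generated by a set `T` of non-identity elements, then `QU` is already the intersection of the `Q t` over `t ∈ T`. -/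
theorem result {G : Type*} [Group G] [Finite G]
    (Q : G → Subgroup G)
    (hQ : ∀ x : G, Q x = (Cfsg.pCore 2 ↥(Subgroup.centralizer ({x} : Set G))).map (Subgroup.centralizer ({x} : Set G)).subtype)
    (z : G) (hz : orderOf z = 2) (hE : Cfsg.IsExtraspecial 2 ↥(Q z))
    (hC : Subgroup.centralizer ((Q z : Subgroup G) : Set G) ≤ Q z)
    (U : Subgroup G) (hU2 : ∀ u ∈ U, u * u = 1)
    (hS : ∀ u ∈ U, u ≠ 1 → ∃ g : G, g * z * g⁻¹ = u)
    (hO : ∀ u ∈ U, ∀ v ∈ U, u ≠ 1 → v ≠ 1 → v ∈ Q u)
    (QU LU : Subgroup G) (hQU : QU = ⨅ u ∈ ((U : Set G) \ {1}), Q u) (hLU : LU = ⨆ u ∈ ((U : Set G) \ {1}), Q u)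
    (T : Set G) (hT : Subgroup.closure T = U) (hT1 : (1 : G) ∉ T) :
    QU = ⨅ t ∈ T, Q t := by
  classical
  set W : Subgroup G := ⨅ t ∈ T, Q t with hW
  have hTU : ∀ t ∈ T, t ∈ U := by
    intro t ht
    rw [← hT]
    exact Subgroup.subset_closure ht
  have hWt : ∀ t ∈ T, W ≤ Q t := fun t ht => iInf₂_le t ht
  -- key: W ≤ Q u for all nonidentity u ∈ U
  have key : ∀ u : G, ∀ hu : u ∈ Subgroup.closure T, u ≠ 1 → W ≤ Q u := by
    intro u hu
    induction hu using Subgroup.closure_induction with
    | mem x hx => intro _; exact hWt x hx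
    | one => intro h; exact absurd rfl h
    | mul x y hx hy ihx ihy =>
      intro hxy
      have hxU : x ∈ U := by rw [← hT]; exact hx
      have hyU : y ∈ U := by rw [← hT]; exact hy
      by_cases hx1 : x = 1
      · rw [hx1, one_mul] at hxy ⊢
        exact ihy hxy
      by_cases hy1 : y = 1
      · rw [hy1, mul_one] at hxy ⊢
        exact ihx hxy
      have hne : y ≠ x := by
        intro h
        apply hxy
        rw [h]
        exact hU2 x hxU
      obtain ⟨g, hg⟩ := hS x hxU hx1
      have h1 := qfun_inf_le_mul Q hQ z hz hE hg (hO x hxU y hyU hx1 hy1) hy1 hne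
        (hO y hyU x hxU hy1 hx1)
      exact (le_inf (ihx hx1) (ihy hy1)).trans h1
    | inv x hx ihx =>
      intro hx1
      have hxU : x ∈ U := by rw [← hT]; exact hx
      have hinv : x⁻¹ = x := inv_eq_of_mul_eq_one_left (hU2 x hxU)
      rw [hinv] at hx1 ⊢
      exact ihx hx1
  apply le_antisymm
  · rw [hQU]
    refine le_iInf₂ fun t ht => ?_
    have htU : t ∈ ((U : Set G) \ {1}) := by
      refine ⟨hTU t ht, ?_⟩
      intro h
      rw [Set.mem_singleton_iff] at h
      exact hT1 (h ▸ ht)
    exact iInf₂_le t htU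
  · rw [hQU]
    refine le_iInf₂ fun u hu => ?_
    have huU : u ∈ U := hu.1
    have hu1 : u ≠ 1 := fun h => hu.2 (Set.mem_singleton_iff.mpr h)
    exact key u (by rw [hT]; exact huU) hu1

end Cfsg.Agent.S5598
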