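import Cfsg.Statements.S5599
import Cfsg.Agent.Helper93.M24Tables

set_option autoImplicit false
open scoped Pointwise
open Cfsg
open scoped Pointwise

namespace Cfsg.Agent.S5599

open Cfsg.Agent.Helper7 Cfsg.Agent.Helper93

/-- tables (with inverse tables) of elements of the two-point stabiliser whose fixed points are exactly
the extra point, `0` and `q`, for `q = 1, ..., 22` -/
def xs : List (List ℕ × List ℕ) := [
  ([0, 1, 16, 13, 19, 22, 7, 9, 14, 21, 20, 15, 6, 12, 4, 8, 5, 2, 11, 18, 17, 3, 10, 23], [0, 1, 17, 21, 14, 16, 12, 6, 15, 7, 22, 18, 13, 3, 8, 11, 2, 20, 19, 4, 10, 9, 5, 23]),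
  ([0, 5, 2, 12, 18, 7, 17, 14, 11, 8, 20, 4, 10, 15, 22, 19, 21, 9, 6, 3, 13, 1, 16, 23], [0, 21, 2, 19, 11, 1, 18, 5, 9, 17, 12, 8, 3, 20, 7, 13, 22, 6, 4, 15, 10, 16, 14, 23]),
  ([0, 6, 11, 3, 12, 21, 7, 8, 14, 10, 4, 16, 15, 22, 17, 5, 13, 18, 1, 20, 2, 9, 19, 23], [0, 18, 20, 3, 10, 15, 1, 6, 7, 21, 9, 2, 4, 16, 8, 12, 11, 14, 17, 22, 19, 5, 13, 23]),
  ([0, 18, 14, 15, 4, 3, 7, 5, 12, 2, 6, 22, 17, 10, 8, 13, 21, 20, 16, 11, 9, 19, 1, 23], [0, 22, 9, 5, 4, 7, 10, 6, 14, 20, 13, 19, 8, 15, 2, 3, 18, 12, 1, 21, 17, 16, 11, 23]),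
  ([0, 11, 14, 7, 13, 5, 10, 9, 1, 20, 22, 15, 16, 17, 19, 21, 8, 18, 6, 3, 2, 12, 4, 23], [0, 8, 20, 19, 22, 5, 18, 3, 16, 7, 6, 1, 21, 4, 2, 11, 12, 13, 17, 14, 9, 15, 10, 23]),
  ([0, 14, 22, 19, 15, 8, 6, 3, 20, 16, 17, 2, 11, 10, 9, 18, 13, 1, 21, 4, 12, 7, 5, 23], [0, 17, 11, 7, 19, 22, 6, 21, 5, 14, 13, 12, 20, 16, 1, 4, 9, 10, 15, 3, 8, 18, 2, 23]),
  ([0, 16, 21, 20, 18, 1, 4, 7, 9, 19, 14, 10, 6, 5, 17, 3, 15, 8, 22, 11, 13, 12, 2, 23], [0, 5, 22, 15, 6, 13, 12, 7, 17, 8, 11, 19, 21, 20, 10, 16, 1, 14, 4, 9, 3, 2, 18, 23]),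
  ([0, 7, 3, 6, 10, 14, 9, 16, 8, 13, 11, 12, 19, 20, 22, 2, 5, 4, 17, 18, 15, 1, 21, 23], [0, 21, 15, 2, 17, 16, 3, 1, 8, 6, 4, 10, 11, 9, 5, 20, 7, 18, 19, 12, 13, 22, 14, 23]),
  ([0, 21, 6, 13, 2, 20, 3, 11, 14, 9, 16, 12, 8, 19, 15, 22, 1, 4, 5, 17, 10, 18, 7, 23], [0, 16, 4, 6, 17, 18, 2, 22, 12, 9, 20, 7, 11, 3, 8, 14, 10, 19, 21, 13, 5, 1, 15, 23]),
  ([0, 17, 19, 9, 21, 11, 8, 3, 18, 20, 10, 15, 1, 5, 2, 6, 22, 16, 13, 7, 14, 12, 4, 23], [0, 12, 14, 7, 22, 13, 15, 19, 6, 3, 10, 5, 21, 18, 20, 11, 17, 1, 8, 2, 9, 4, 16, 23]),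
  ([0, 22, 13, 18, 15, 7, 2, 16, 19, 17, 3, 11, 6, 10, 21, 20, 14, 8, 12, 4, 9, 1, 5, 23], [0, 21, 6, 10, 19, 22, 12, 5, 17, 20, 13, 11, 18, 2, 16, 4, 7, 9, 3, 8, 15, 14, 1, 23]),
  ([0, 3, 7, 14, 5, 6, 13, 15, 19, 18, 16, 17, 12, 21, 22, 9, 20, 4, 8, 2, 1, 11, 10, 23], [0, 20, 19, 1, 17, 4, 5, 2, 18, 15, 22, 21, 12, 6, 3, 7, 10, 11, 9, 8, 16, 13, 14, 23]),
  ([0, 3, 15, 21, 11, 1, 14, 20, 19, 10, 16, 6, 9, 13, 22, 4, 7, 12, 5, 18, 17, 8, 2, 23], [0, 5, 22, 1, 15, 18, 11, 16, 21, 12, 9, 4, 17, 13, 6, 2, 10, 20, 19, 8, 7, 3, 14, 23]),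
  ([0, 11, 16, 1, 12, 6, 20, 13, 19, 5, 3, 2, 17, 4, 14, 22, 21, 15, 9, 18, 8, 10, 7, 23], [0, 3, 11, 10, 13, 9, 5, 22, 20, 18, 21, 1, 4, 7, 14, 17, 2, 12, 19, 8, 6, 16, 15, 23]),
  ([0, 20, 12, 22, 13, 4, 18, 21, 6, 11, 5, 3, 16, 1, 8, 15, 14, 10, 2, 9, 17, 19, 7, 23], [0, 13, 18, 11, 5, 10, 8, 22, 14, 19, 17, 9, 2, 4, 16, 15, 12, 20, 6, 21, 1, 7, 3, 23]),
  ([0, 7, 9, 20, 1, 11, 5, 22, 10, 15, 21, 13, 4, 3, 6, 17, 16, 8, 19, 12, 14, 2, 18, 23], [0, 4, 21, 13, 12, 6, 14, 1, 17, 2, 8, 5, 19, 11, 20, 9, 16, 15, 22, 18, 3, 10, 7, 23]),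
  ([0, 14, 4, 11, 19, 13, 10, 21, 3, 20, 9, 7, 6, 12, 8, 16, 2, 17, 22, 18, 5, 1, 15, 23], [0, 21, 16, 8, 2, 20, 12, 11, 14, 10, 6, 3, 13, 5, 1, 22, 15, 17, 19, 4, 9, 7, 18, 23]),
  ([0, 14, 17, 21, 5, 15, 20, 10, 22, 4, 11, 12, 16, 2, 7, 13, 1, 9, 18, 6, 8, 19, 3, 23], [0, 16, 13, 22, 9, 4, 19, 14, 20, 17, 7, 10, 11, 15, 1, 5, 12, 2, 18, 21, 6, 3, 8, 23]),
  ([0, 15, 11, 18, 1, 9, 21, 10, 2, 12, 5, 13, 3, 16, 4, 20, 6, 22, 7, 19, 17, 8, 14, 23], [0, 4, 8, 12, 14, 10, 16, 18, 21, 5, 7, 2, 9, 11, 22, 1, 13, 20, 3, 19, 15, 6, 17, 23]),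
  ([0, 2, 17, 8, 5, 22, 21, 12, 9, 18, 4, 19, 16, 3, 6, 7, 1, 15, 11, 13, 20, 10, 14, 23], [0, 16, 1, 13, 10, 4, 14, 15, 3, 8, 21, 18, 7, 19, 22, 17, 12, 2, 9, 11, 20, 6, 5, 23]),
  ([0, 12, 3, 18, 6, 4, 22, 1, 17, 11, 14, 7, 19, 16, 5, 9, 2, 13, 8, 15, 10, 21, 20, 23], [0, 7, 16, 2, 5, 14, 4, 11, 18, 15, 20, 9, 1, 17, 10, 19, 13, 8, 3, 12, 22, 21, 6, 23]),
  ([0, 6, 4, 18, 7, 16, 21, 13, 17, 2, 11, 12, 1, 3, 8, 5, 14, 19, 9, 15, 10, 20, 22, 23], [0, 12, 9, 13, 2, 15, 1, 4, 14, 18, 20, 10, 11, 7, 16, 19, 5, 8, 3, 17, 21, 6, 22, 23])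
]

/-- the entry `e` describes an element of `M22` whose fixed points are exactly `23`, `0` and `q` -/
def goodEntry (q : ℕ) (e : List ℕ × List ℕ) : Bool :=
  decide (ValidTables e.1 e.2) &&
  (gmasks.all fun x => enc (pullMask e.1 x % 4096) == pullMask e.1 x) &&
  ((List.range 24).all fun i => (e.1.getD i 0 == i) == (i == 23 || i == 0 || i == q))

theorem idx_eq_23 (p : GolayPt) : idx p = 23 ↔ p = none := by
  constructor
  · intro h
    exact idx_injective (h.trans rfl)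
  · rintro rfl; rfl

theorem idx_eq_0 (p : GolayPt) : idx p = 0 ↔ p = some 0 := by
  constructor
  · intro h
    exact idx_injective (h.trans rfl)
  · rintro rfl; rfl

theorem exists_of_goodEntry {q : ℕ} {e : List ℕ × List ℕ} (h : goodEntry q e = true) :
    ∃ x ∈ Spor.M22, ∀ p : GolayPt, x p = p ↔ (p = none ∨ p = some 0 ∨ idx p = q) := by
  unfold goodEntry at h
  rw [Bool.and_eq_true, Bool.and_eq_true, decide_eq_true_eq, List.all_eq_true, List.all_eq_true] at h
  obtain ⟨⟨hv, hc⟩, hf⟩ := h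
  have hfix : ∀ p : GolayPt, tablePerm e.1 e.2 hv p = p ↔ (p = none ∨ p = some 0 ∨ idx p = q) := by
    intro p
    have hp := hf (idx p) (List.mem_range.mpr (idx_lt p))
    rw [tablePerm_apply]
    have h1 : pt (e.1.getD (idx p) 0) = p ↔ e.1.getD (idx p) 0 = idx p := by
      constructor
      · intro h'
        have := congrArg idx h'
        rwa [idx_pt (hv.2 _ (idx_lt p)).1] at this
      · intro h'
        rw [h', pt_idx]
    rw [h1, ← idx_eq_23, ← idx_eq_0]
    have h2 : (e.1.getD (idx p) 0 == idx p) = (idx p == 23 || idx p == 0 || idx p == q) := by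
      simpa using hp
    constructor
    · intro h'
      have : (idx p == 23 || idx p == 0 || idx p == q) = true := by
        rw [← h2]; simpa using h'
      simpa [or_assoc] using this
    · intro h'
      have : (e.1.getD (idx p) 0 == idx p) = true := by
        rw [h2]; simpa [or_assoc] using h'
      simpa using this
  refine ⟨tablePerm e.1 e.2 hv, ⟨⟨?_, ?_⟩, ?_⟩, hfix⟩
  · apply tablePerm_mem_M24
    intro x hx
    have := hc x hx
    simpa using this
  · exact MulAction.mem_stabilizer_iff.mpr ((hfix none).mpr (Or.inl rfl))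
  · exact MulAction.mem_stabilizer_iff.mpr ((hfix (some 0)).mpr (Or.inr (Or.inl rfl)))

theorem allGood : ((List.range 22).all fun j => goodEntry (j + 1) (xs.getD j ([], []))) = true := by
  decide +kernel

/-- for every point other than the extra point and `0` some element of `M22` fixes exactly these three -/
theorem exists_three_fixed (q : GolayPt) (h1 : q ≠ none) (h2 : q ≠ some 0) :
    ∃ x ∈ Spor.M22, ∀ p : GolayPt, x p = p ↔ (p = none ∨ p = some 0 ∨ p = q) := by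
  have hq0 : idx q ≠ 0 := fun h => h2 ((idx_eq_0 q).mp h)
  have hq23 : idx q ≠ 23 := fun h => h1 ((idx_eq_23 q).mp h)
  have hlt := idx_lt q
  have hmem : idx q - 1 ∈ List.range 22 := List.mem_range.mpr (by omega)
  have hg := List.all_eq_true.mp allGood _ hmem
  have hsub : idx q - 1 + 1 = idx q := by omega
  rw [hsub] at hg
  obtain ⟨x, hx, hfix⟩ := exists_of_goodEntry hg
  refine ⟨x, hx, fun p => ?_⟩
  rw [hfix p]
  constructor
  · rintro (h | h | h)
    · exact Or.inl h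
    · exact Or.inr (Or.inl h)
    · exact Or.inr (Or.inr (idx_injective h))
  · rintro (h | h | h)
    · exact Or.inl h
    · exact Or.inr (Or.inl h)
    · exact Or.inr (Or.inr (by rw [h]))

/-- an element commuting with `M22` and swapping the two fixed points fixes everything else -/
theorem fixes_of_commute (c : Equiv.Perm GolayPt) (hcomm : ∀ x ∈ Spor.M22, c * x = x * c)
    (hc1 : c none = some 0) (hc2 : c (some 0) = none) (q : GolayPt) (h1 : q ≠ none) (h2 : q ≠ some 0) :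
    c q = q := by
  obtain ⟨x, hx, hfix⟩ := exists_three_fixed q h1 h2
  have hxq : x q = q := (hfix q).mpr (Or.inr (Or.inr rfl))
  have h := congrArg (fun f : Equiv.Perm GolayPt => f q) (hcomm x hx)
  simp only [Equiv.Perm.mul_apply, hxq] at h
  rcases (hfix (c q)).mp h.symm with h' | h' | h'
  · exact absurd (c.injective (h'.trans hc2.symm)) h2
  · exact absurd (c.injective (h'.trans hc1.symm)) h1
  · exact h'

theorem qr_zero_none : qrWord 0 none = 0 := rfl
theorem qr_zero_zero : qrWord 0 (some 0) = 1 := by decide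

/-- no element of `M24` swaps the extra point and `0` and fixes all other points -/
theorem not_swap_mem (c : Equiv.Perm GolayPt) (hc : c ∈ M24) (_hc1 : c none = some 0) (hc2 : c (some 0) = none)
    (hfix : ∀ q : GolayPt, q ≠ none → q ≠ some 0 → c q = q) : False := by
  set d : V := permL c (qrWord 0) + qrWord 0 with hd
  have hdmem : d ∈ golayCode :=
    golayCode.add_mem (permL_mem_of_mem_M24 hc (qrWord_mem 0)) (qrWord_mem 0)
  have hsymm : ∀ q : GolayPt, q ≠ none → q ≠ some 0 → c.symm q = q := by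
    intro q h1 h2
    rw [Equiv.symm_apply_eq, hfix q h1 h2]
  have hdnone : d none = 1 := by
    have : c.symm none = some 0 := by rw [Equiv.symm_apply_eq, hc2]
    simp only [hd, Pi.add_apply, permL_apply, this, qr_zero_zero, qr_zero_none, add_zero]
  have hd0 : d ≠ 0 := by
    intro h
    rw [h] at hdnone
    exact zero_ne_one hdnone
  have hsupp : support₂ d ⊆ {none, some 0} := by
    intro q hq
    rw [mem_support₂] at hq
    by_contra hq'
    simp only [Finset.mem_insert, Finset.mem_singleton, not_or] at hq'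
    apply hq
    simp only [hd, Pi.add_apply, permL_apply, hsymm q hq'.1 hq'.2]
    exact CharTwo.add_self_eq_zero _
  have h8 := golayCode_min_weight hdmem hd0
  have h2 := Finset.card_le_card hsupp
  have : ({none, some 0} : Finset GolayPt).card ≤ 2 := Finset.card_le_two
  omega


/-- In the automorphism group of the length-24 code, the two-point Mathieu group (permutations of the code's group fixing the extra point and the residue 0) has index 2 in the setwise stabiliser of that pair of points, and an element of the code's group interchanging the two points normalises the two-point group and induces on it, by conjugation, an automorphism that is not inner. -/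
theorem result (g : Equiv.Perm Cfsg.GolayPt) (hg : g ∈ Cfsg.M24) (h₁ : g none = some 0) (h₂ : g (some 0) = none) : Cfsg.Spor.M22.relIndex (Cfsg.M24 ⊓ MulAction.stabilizer (Equiv.Perm Cfsg.GolayPt) ({none, some 0} : Finset Cfsg.GolayPt)) = 2 ∧ (∀ x ∈ Cfsg.Spor.M22, g * x * g⁻¹ ∈ Cfsg.Spor.M22) ∧ ¬ ∃ h ∈ Cfsg.Spor.M22, ∀ x ∈ Cfsg.Spor.M22, g * x * g⁻¹ = h * x * h⁻¹ := by
  refine ⟨?_, ?_, ?_⟩
  · rw [Subgroup.relIndex_eq_two_iff_exists_notMem_and]
    have hset : ∀ b : Equiv.Perm GolayPt,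
        b ∈ MulAction.stabilizer (Equiv.Perm GolayPt) ({none, some 0} : Finset GolayPt) →
          (b none = none ∨ b none = some 0) ∧ (b (some 0) = none ∨ b (some 0) = some 0) := by
      intro b hb
      rw [MulAction.mem_stabilizer_iff] at hb
      constructor
      · have : b • (none : GolayPt) ∈ b • ({none, some 0} : Finset GolayPt) :=
          Finset.smul_mem_smul_finset (by simp)
        rw [hb] at this
        simpa using this
      · have : b • (some 0 : GolayPt) ∈ b • ({none, some 0} : Finset GolayPt) :=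
          Finset.smul_mem_smul_finset (by simp)
        rw [hb] at this
        simpa using this
    refine ⟨g, ⟨hg, ?_⟩, ?_, ?_⟩
    · refine MulAction.mem_stabilizer_iff.mpr ?_
      ext p
      rw [Finset.mem_smul_finset]
      constructor
      · rintro ⟨q, hq, rfl⟩
        simp only [Finset.mem_insert, Finset.mem_singleton] at hq ⊢
        rcases hq with rfl | rfl
        · right; exact h₁
        · left; exact h₂
      · intro hp
        simp only [Finset.mem_insert, Finset.mem_singleton] at hp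
        rcases hp with rfl | rfl
        · exact ⟨some 0, by simp, h₂⟩
        · exact ⟨none, by simp, h₁⟩
    · intro hmem
      have : g none = none := MulAction.mem_stabilizer_iff.mp hmem.1.2
      rw [h₁] at this
      exact absurd this (by simp)
    · intro b hb
      obtain ⟨hb1, hb2⟩ := hset b hb.2
      rcases hb1 with hb1 | hb1
      · right
        have hb0 : b (some 0) = some 0 := by
          rcases hb2 with hb2 | hb2
          · exact absurd (b.injective (hb2.trans hb1.symm)) (by simp)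
          · exact hb2
        exact ⟨⟨hb.1, MulAction.mem_stabilizer_iff.mpr hb1⟩, MulAction.mem_stabilizer_iff.mpr hb0⟩
      · left
        have hb0 : b (some 0) = none := by
          rcases hb2 with hb2 | hb2
          · exact hb2
          · exact absurd (b.injective (hb2.trans hb1.symm)) (by simp)
        refine ⟨⟨M24.mul_mem hb.1 hg, MulAction.mem_stabilizer_iff.mpr ?_⟩,
          MulAction.mem_stabilizer_iff.mpr ?_⟩
        · show (b * g) none = none
          rw [Equiv.Perm.mul_apply, h₁, hb0]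
        · show (b * g) (some 0) = some 0
          rw [Equiv.Perm.mul_apply, h₂, hb1]
  · intro x hx
    have hx1 : x none = none := MulAction.mem_stabilizer_iff.mp hx.1.2
    have hx0 : x (some 0) = some 0 := MulAction.mem_stabilizer_iff.mp hx.2
    have hg1 : g⁻¹ none = some 0 := by rw [Equiv.Perm.inv_eq_iff_eq, h₂]
    have hg0 : g⁻¹ (some 0) = none := by rw [Equiv.Perm.inv_eq_iff_eq, h₁]
    refine ⟨⟨M24.mul_mem (M24.mul_mem hg hx.1.1) (M24.inv_mem hg), MulAction.mem_stabilizer_iff.mpr ?_⟩,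
      MulAction.mem_stabilizer_iff.mpr ?_⟩
    · show (g * x * g⁻¹) none = none
      rw [Equiv.Perm.mul_apply, Equiv.Perm.mul_apply, hg1, hx0, h₂]
    · show (g * x * g⁻¹) (some 0) = some 0
      rw [Equiv.Perm.mul_apply, Equiv.Perm.mul_apply, hg0, hx1, h₁]
  · rintro ⟨h, hh, hconj⟩
    have hh1 : h none = none := MulAction.mem_stabilizer_iff.mp hh.1.2
    have hh0 : h (some 0) = some 0 := MulAction.mem_stabilizer_iff.mp hh.2
    have hi1 : h⁻¹ none = none := by rw [Equiv.Perm.inv_eq_iff_eq, hh1]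
    have hi0 : h⁻¹ (some 0) = some 0 := by rw [Equiv.Perm.inv_eq_iff_eq, hh0]
    have hcomm : ∀ x ∈ Spor.M22, (h⁻¹ * g) * x = x * (h⁻¹ * g) := by
      intro x hx
      have := hconj x hx
      calc h⁻¹ * g * x = h⁻¹ * (g * x * g⁻¹) * g := by group
        _ = h⁻¹ * (h * x * h⁻¹) * g := by rw [this]
        _ = x * (h⁻¹ * g) := by group
    have hc1 : (h⁻¹ * g) none = some 0 := by rw [Equiv.Perm.mul_apply, h₁, hi0]
    have hc2 : (h⁻¹ * g) (some 0) = none := by rw [Equiv.Perm.mul_apply, h₂, hi1]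
    exact not_swap_mem (h⁻¹ * g) (M24.mul_mem (M24.inv_mem hh.1.1) hg) hc1 hc2
      (fixes_of_commute (h⁻¹ * g) hcomm hc1 hc2)

end Cfsg.Agent.S5599
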