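import Cfsg.Statements.S5600
import Cfsg.Agent.Helper27.OctadConf
import Cfsg.Agent.Helper26.OctadStab
import Cfsg.Agent.Helper7.M24Stab

set_option autoImplicit false
open scoped Pointwise
open Cfsg

namespace Cfsg.Agent.S5600

open Cfsg.Agent.Helper27 Cfsg.Agent.Helper26 Cfsg.Agent.Helper92 Cfsg.Agent.Helper7
open MulAction

/-- the elements of `M24` fixing `E` pointwise -/
abbrev PF (E : Finset GolayPt) : Type :=
  {g : Equiv.Perm GolayPt // g ∈ M24 ∧ ∀ p ∈ E, g p = p}

theorem list_six {α : Type*} (l : List α) (h : l.length = 6) :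
    ∃ a b c d e x, l = [a, b, c, d, e, x] := by
  rcases l with _ | ⟨a, _ | ⟨b, _ | ⟨c, _ | ⟨d, _ | ⟨e, _ | ⟨x, _ | ⟨y, t⟩⟩⟩⟩⟩⟩⟩ <;>
    simp at h
  exact ⟨a, b, c, d, e, x, rfl⟩

/-- a 6-set as a duplicate-free list -/
theorem exists_list_six (E : Finset GolayPt) (hE : E.card = 6) :
    ∃ a b c d e x, [a, b, c, d, e, x].Nodup ∧ ∀ p, p ∈ E ↔ p ∈ [a, b, c, d, e, x] := by
  obtain ⟨a, b, c, d, e, x, hl⟩ := list_six E.toList (by rw [Finset.length_toList, hE])
  refine ⟨a, b, c, d, e, x, ?_, ?_⟩
  · rw [← hl]; exact Finset.nodup_toList E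
  · intro p
    rw [← hl, Finset.mem_toList]

/-- conjugation transports pointwise stabilisers -/
theorem card_PF_smul (E : Finset GolayPt) {h : Equiv.Perm GolayPt} (hh : h ∈ M24) :
    Nat.card (PF (h • E)) = Nat.card (PF E) := by
  apply Nat.card_congr
  refine
    { toFun := fun g => ⟨h⁻¹ * g.1 * h, M24.mul_mem (M24.mul_mem (M24.inv_mem hh) g.2.1) hh, ?_⟩
      invFun := fun g => ⟨h * g.1 * h⁻¹, M24.mul_mem (M24.mul_mem hh g.2.1) (M24.inv_mem hh), ?_⟩
      left_inv := ?_
      right_inv := ?_ }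
  · intro p hp
    have : h p ∈ h • E := (mem_smul_iff h p E).2 hp
    rw [Equiv.Perm.mul_apply, Equiv.Perm.mul_apply, g.2.2 _ this]
    simp
  · intro p hp
    obtain ⟨q, hq, rfl⟩ := Finset.mem_smul_finset.1 hp
    rw [Equiv.Perm.mul_apply, Equiv.Perm.mul_apply]
    have : h⁻¹ (h • q) = q := by simp
    rw [this, g.2.2 q hq]
    rfl
  · intro g
    apply Subtype.ext
    simp [mul_assoc]
  · intro g
    apply Subtype.ext
    simp [mul_assoc]

/-- the two base 6-sets -/
def E0in : Finset GolayPt := (base5 ++ [pt 7]).toFinset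
def E0out : Finset GolayPt := (base5 ++ [pt 5]).toFinset

def PF_out_equiv : PF E0out ≃ fixG M24 [5, 4, 3, 2, 1, 0] where
  toFun g := ⟨g.1, g.2.1, by
    intro i hi
    apply g.2.2
    simp only [List.mem_cons, List.not_mem_nil, or_false] at hi
    rcases hi with rfl | rfl | rfl | rfl | rfl | rfl <;> decide⟩
  invFun g := ⟨g.1, g.2.1, by
    intro p hp
    have : p ∈ [pt 0, pt 1, pt 2, pt 3, pt 4, pt 5] := by
      simpa [E0out, base5] using hp
    simp only [List.mem_cons, List.not_mem_nil, or_false] at this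
    rcases this with rfl | rfl | rfl | rfl | rfl | rfl
    · exact g.2.2 0 (by simp)
    · exact g.2.2 1 (by simp)
    · exact g.2.2 2 (by simp)
    · exact g.2.2 3 (by simp)
    · exact g.2.2 4 (by simp)
    · exact g.2.2 5 (by simp)⟩
  left_inv _ := rfl
  right_inv _ := rfl

theorem card_fixG6 : Nat.card (fixG M24 [5, 4, 3, 2, 1, 0]) = 3 := by
  have := card_fixG_m24 6
  have h1 : baseRev m24Levels 6 ++ [] = [5, 4, 3, 2, 1, 0] := by decide +kernel
  rw [h1] at this
  rw [this]
  decide +kernel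

theorem card_fixG5 : Nat.card (fixG M24 [4, 3, 2, 1, 0]) = 48 := by
  have := card_fixG_m24 5
  have h1 : baseRev m24Levels 5 ++ [] = [4, 3, 2, 1, 0] := by decide +kernel
  rw [h1] at this
  rw [this]
  decide +kernel

theorem card_PF_out : Nat.card (PF E0out) = 3 := by
  rw [Nat.card_congr PF_out_equiv, card_fixG6]

/-- elements fixing the base preserve the standard octad -/
theorem fixG5_smul {t : Equiv.Perm GolayPt} (ht : t ∈ fixG M24 [4, 3, 2, 1, 0]) :
    t • Helper27.setOf 5279 = Helper27.setOf 5279 := by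
  apply octad_eq_of_five setOf_5279_mem_octads (smul_mem_octads ht.1 setOf_5279_mem_octads)
    base5.toFinset
  · rw [List.toFinset_card_of_nodup base5_nodup]; decide
  · intro p hp
    exact base5_subset p (List.mem_toFinset.1 hp)
  · intro p hp
    rw [List.mem_toFinset] at hp
    have hfix : t p = p := by
      simp only [base5, List.mem_cons, List.not_mem_nil, or_false] at hp
      rcases hp with rfl | rfl | rfl | rfl | rfl
      · exact ht.2 0 (by simp)
      · exact ht.2 1 (by simp)
      · exact ht.2 2 (by simp)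
      · exact ht.2 3 (by simp)
      · exact ht.2 4 (by simp)
    rw [← hfix]
    exact (mem_smul_iff t p _).2 (base5_subset p hp)

theorem orbit_pt7 :
    orbit (fixG M24 [4, 3, 2, 1, 0]) (pt 7) = {pt 7, pt 10, pt 12} := by
  ext y
  constructor
  · rintro ⟨t, rfl⟩
    have ht := t.2
    have h1 : (t : Equiv.Perm GolayPt) (pt 7) ∈ Helper27.setOf 5279 := by
      have : (t : Equiv.Perm GolayPt) (pt 7) ∈ (t : Equiv.Perm GolayPt) • Helper27.setOf 5279 :=
        (mem_smul_iff _ _ _).2 (by decide)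
      rwa [fixG5_smul ht] at this
    have h2 : (t : Equiv.Perm GolayPt) (pt 7) ∉ base5 := by
      intro hmem
      have hfix : ∀ p ∈ base5, (t : Equiv.Perm GolayPt) p = p := by
        intro p hp
        simp only [base5, List.mem_cons, List.not_mem_nil, or_false] at hp
        rcases hp with rfl | rfl | rfl | rfl | rfl
        · exact ht.2 0 (by simp)
        · exact ht.2 1 (by simp)
        · exact ht.2 2 (by simp)
        · exact ht.2 3 (by simp)
        · exact ht.2 4 (by simp)
      have := hfix _ hmem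
      have h7 : (t : Equiv.Perm GolayPt) (pt 7) = pt 7 := (t : Equiv.Perm GolayPt).injective this
      rw [h7] at hmem
      revert hmem
      decide
    have key : ∀ p : GolayPt, p ∈ Helper27.setOf 5279 → p ∉ base5 →
        p = pt 7 ∨ p = pt 10 ∨ p = pt 12 := by decide
    have := key _ h1 h2
    show (t : Equiv.Perm GolayPt) (pt 7) ∈ ({pt 7, pt 10, pt 12} : Set GolayPt)
    simpa using this
  · intro hy
    simp only [Set.mem_insert_iff, Set.mem_singleton_iff] at hy
    have : ∃ q ∈ [7, 10, 12], y = pt q := by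
      rcases hy with rfl | rfl | rfl
      · exact ⟨7, by simp, rfl⟩
      · exact ⟨10, by simp, rfl⟩
      · exact ⟨12, by simp, rfl⟩
    obtain ⟨q, hq, rfl⟩ := this
    obtain ⟨t, ht, htq⟩ := fix5_trans_in q hq
    exact ⟨⟨t, ht⟩, htq⟩

def PF_in_equiv : PF E0in ≃ stabilizer (fixG M24 [4, 3, 2, 1, 0]) (pt 7) where
  toFun g := ⟨⟨g.1, g.2.1, by
    intro i hi
    apply g.2.2
    simp only [List.mem_cons, List.not_mem_nil, or_false] at hi
    rcases hi with rfl | rfl | rfl | rfl | rfl <;> decide⟩, by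
    rw [mem_stabilizer_iff]
    exact g.2.2 (pt 7) (by decide)⟩
  invFun g := ⟨g.1.1, g.1.2.1, by
    intro p hp
    have : p ∈ [pt 0, pt 1, pt 2, pt 3, pt 4, pt 7] := by
      simpa [E0in, base5] using hp
    simp only [List.mem_cons, List.not_mem_nil, or_false] at this
    rcases this with rfl | rfl | rfl | rfl | rfl | rfl
    · exact g.1.2.2 0 (by simp)
    · exact g.1.2.2 1 (by simp)
    · exact g.1.2.2 2 (by simp)
    · exact g.1.2.2 3 (by simp)
    · exact g.1.2.2 4 (by simp)
    · exact mem_stabilizer_iff.1 g.2⟩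
  left_inv _ := rfl
  right_inv _ := rfl

theorem card_PF_in : Nat.card (PF E0in) = 16 := by
  rw [Nat.card_congr PF_in_equiv]
  have h1 := Subgroup.card_mul_index (stabilizer (fixG M24 [4, 3, 2, 1, 0]) (pt 7))
  rw [index_stabilizer, orbit_pt7, card_fixG5] at h1
  have h3 : ({pt 7, pt 10, pt 12} : Set GolayPt).ncard = 3 := by
    rw [Set.ncard_eq_toFinset_card']
    decide
  rw [h3] at h1
  omega

theorem nodup_split {α : Type*} {a b c d e x : α} (h : [a, b, c, d, e, x].Nodup) :
    [a, b, c, d, e].Nodup ∧ x ∉ [a, b, c, d, e] := by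
  have e1 : [a, b, c, d, e, x] = [a, b, c, d, e] ++ [x] := rfl
  rw [e1, List.nodup_append] at h
  exact ⟨h.1, fun hm => h.2.2 x hm x (by simp) rfl⟩

theorem special_of_subset {E : Finset GolayPt} {a b c d e x : GolayPt}
    (hmem : ∀ p, p ∈ E ↔ p ∈ [a, b, c, d, e, x]) :
    (∃ o ∈ octads, (∀ p ∈ [a, b, c, d, e], p ∈ o) ∧ x ∈ o) ↔ ∃ o ∈ octads, E ⊆ o := by
  constructor
  · rintro ⟨o, ho, h1, h2⟩
    refine ⟨o, ho, fun p hp => ?_⟩
    have := (hmem p).1 hp
    simp only [List.mem_cons, List.not_mem_nil, or_false] at this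
    rcases this with rfl | rfl | rfl | rfl | rfl | rfl
    · exact h1 _ (by simp)
    · exact h1 _ (by simp)
    · exact h1 _ (by simp)
    · exact h1 _ (by simp)
    · exact h1 _ (by simp)
    · exact h2
  · rintro ⟨o, ho, hE⟩
    refine ⟨o, ho, fun p hp => hE ((hmem p).2 ?_), hE ((hmem x).2 (by simp))⟩
    simp only [List.mem_cons, List.not_mem_nil, or_false] at hp ⊢
    tauto

theorem smul_eq_of_map {E : Finset GolayPt} (hE : E.card = 6) {a b c d e x : GolayPt}
    (hmem : ∀ p, p ∈ E ↔ p ∈ [a, b, c, d, e, x]) {h : Equiv.Perm GolayPt} {y : GolayPt}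
    (hmap : [a, b, c, d, e].map (⇑h) = base5) (hx : h x = y) (hy : y ∉ base5) :
    h • E = (base5 ++ [y]).toFinset := by
  apply Finset.eq_of_subset_of_card_le
  · intro p hp
    obtain ⟨q, hq, rfl⟩ := Finset.mem_smul_finset.1 hp
    have hq' := (hmem q).1 hq
    rw [List.mem_toFinset, List.mem_append, ← hmap]
    have : q ∈ [a, b, c, d, e] ∨ q = x := by
      simp only [List.mem_cons, List.not_mem_nil, or_false] at hq' ⊢
      tauto
    rcases this with h1 | rfl
    · left
      exact List.mem_map.2 ⟨q, h1, rfl⟩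
    · right
      simp [← hx]
  · rw [Finset.card_smul_finset, hE, List.toFinset_card_of_nodup]
    · simp [base5]
    · rw [List.nodup_append]
      refine ⟨base5_nodup, List.nodup_singleton y, ?_⟩
      intro u hu v hv huv
      simp only [List.mem_singleton] at hv
      subst hv
      subst huv
      exact hy hu

theorem to_base_in {E : Finset GolayPt} (hE : E.card = 6) (hin : ∃ o ∈ octads, E ⊆ o) :
    ∃ h ∈ M24, h • E = E0in := by
  obtain ⟨a, b, c, d, e, x, hnd, hmem⟩ := exists_list_six E hE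
  obtain ⟨hnd5, hx⟩ := nodup_split hnd
  obtain ⟨h, hh, hmap, hhx⟩ := exists_map_six [a, b, c, d, e] base5 hnd5 base5_nodup rfl rfl
    x (pt 7) hx (by decide) (by
      rw [special_of_subset hmem]
      constructor
      · intro _
        exact ⟨_, setOf_5279_mem_octads, base5_subset, by decide⟩
      · intro _
        exact hin)
  exact ⟨h, hh, smul_eq_of_map hE hmem hmap hhx (by decide)⟩

theorem to_base_out {E : Finset GolayPt} (hE : E.card = 6) (hout : ¬ ∃ o ∈ octads, E ⊆ o) :
    ∃ h ∈ M24, h • E = E0out := by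
  obtain ⟨a, b, c, d, e, x, hnd, hmem⟩ := exists_list_six E hE
  obtain ⟨hnd5, hx⟩ := nodup_split hnd
  obtain ⟨h, hh, hmap, hhx⟩ := exists_map_six [a, b, c, d, e] base5 hnd5 base5_nodup rfl rfl
    x (pt 5) hx (by decide) (by
      rw [special_of_subset hmem, base5_special_iff]
      constructor
      · intro h'
        exact absurd h' hout
      · intro h'
        exfalso
        have hf : ¬ (Nat.testBit 5279 (idx (pt 5)) = true) := by decide
        exact hf h')
  exact ⟨h, hh, smul_eq_of_map hE hmem hmap hhx (by decide)⟩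

/-- every permutation of a 6-set is induced by `M24` -/
theorem induces_sym {E : Finset GolayPt} (hE : E.card = 6) (σ : Equiv.Perm ↥E) :
    ∃ g ∈ M24, ∀ p : ↥E, g p = σ p := by
  obtain ⟨a, b, c, d, e, x, hnd, hmem⟩ := exists_list_six E hE
  have hin : ∀ p ∈ [a, b, c, d, e, x], p ∈ E := fun p hp => (hmem p).2 hp
  -- the images
  let f : GolayPt → GolayPt := fun p => if hp : p ∈ E then (σ ⟨p, hp⟩ : GolayPt) else p
  have hf : ∀ p (hp : p ∈ E), f p = σ ⟨p, hp⟩ := fun p hp => dif_pos hp
  have hfinj : ∀ p ∈ E, ∀ q ∈ E, f p = f q → p = q := by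
    intro p hp q hq hpq
    rw [hf p hp, hf q hq] at hpq
    have := σ.injective (Subtype.ext hpq)
    exact congrArg Subtype.val this
  have hfE : ∀ p ∈ E, f p ∈ E := fun p hp => by rw [hf p hp]; exact (σ ⟨p, hp⟩).2
  have hndf : ([a, b, c, d, e, x].map f).Nodup := by
    apply List.Nodup.map_on _ hnd
    intro p hp q hq hpq
    exact hfinj p (hin p hp) q (hin q hq) hpq
  -- the image list covers `E`
  have hcover : ∀ p, p ∈ E ↔ p ∈ [a, b, c, d, e, x].map f := by
    intro p
    constructor
    · intro hp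
      obtain ⟨q, hq⟩ := σ.surjective ⟨p, hp⟩
      rw [List.mem_map]
      refine ⟨q.1, (hmem q.1).1 q.2, ?_⟩
      rw [hf q.1 q.2]
      exact congrArg Subtype.val hq
    · intro hp
      rw [List.mem_map] at hp
      obtain ⟨q, hq, rfl⟩ := hp
      exact hfE q (hin q hq)
  obtain ⟨hnd5, hx⟩ := nodup_split hnd
  obtain ⟨hnd5', hx'⟩ := nodup_split (a := f a) (b := f b) (c := f c) (d := f d) (e := f e)
    (x := f x) hndf
  obtain ⟨g, hg, hmap, hgx⟩ := exists_map_six [a, b, c, d, e] [f a, f b, f c, f d, f e]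
    hnd5 hnd5' rfl rfl x (f x) hx hx' (by
      rw [special_of_subset hmem, special_of_subset (E := E) (a := f a) (b := f b) (c := f c)
        (d := f d) (e := f e) (x := f x) hcover])
  refine ⟨g, hg, ?_⟩
  rintro ⟨p, hp⟩
  rw [← hf p hp]
  have hp' := (hmem p).1 hp
  simp only [List.map_cons, List.map_nil, List.cons.injEq, and_true] at hmap
  obtain ⟨h1, h2, h3, h4, h5⟩ := hmap
  simp only [List.mem_cons, List.not_mem_nil, or_false] at hp'
  rcases hp' with rfl | rfl | rfl | rfl | rfl | rfl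
  · exact h1
  · exact h2
  · exact h3
  · exact h4
  · exact h5
  · exact hgx

/-- restriction of the setwise stabiliser of `E` to `E` -/
def setRes (E : Finset GolayPt) : ↥(stabilizer M24 E) →* Equiv.Perm ↥E where
  toFun g := ((g : M24) : Equiv.Perm GolayPt).subtypePerm
    (mem_iff_of_smul_eq (mem_stabilizer_iff.1 g.2))
  map_one' := Equiv.ext fun _ => Subtype.ext rfl
  map_mul' _ _ := Equiv.ext fun _ => Subtype.ext rfl

theorem setRes_apply (E : Finset GolayPt) (g : ↥(stabilizer M24 E)) (x : ↥E) :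
    ((setRes E g x : ↥E) : GolayPt) = ((g : M24) : Equiv.Perm GolayPt) x := rfl

theorem setRes_surjective {E : Finset GolayPt} (hE : E.card = 6) :
    Function.Surjective (setRes E) := by
  intro σ
  obtain ⟨g, hg, hgσ⟩ := induces_sym hE σ
  have hstab : (⟨g, hg⟩ : M24) • E = E := by
    show g • E = E
    apply Finset.eq_of_subset_of_card_le
    · intro p hp
      obtain ⟨q, hq, rfl⟩ := Finset.mem_smul_finset.1 hp
      show g q ∈ E
      rw [hgσ ⟨q, hq⟩]
      exact (σ ⟨q, hq⟩).2
    · rw [Finset.card_smul_finset]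
  refine ⟨⟨⟨g, hg⟩, mem_stabilizer_iff.2 hstab⟩, ?_⟩
  apply Equiv.ext
  intro x
  apply Subtype.ext
  rw [setRes_apply]
  exact hgσ x

def kerEquivPF (E : Finset GolayPt) : ↥(setRes E).ker ≃ PF E where
  toFun g := ⟨((g.1 : M24) : Equiv.Perm GolayPt), (g.1 : M24).2, by
    intro p hp
    have h := (MonoidHom.mem_ker).1 g.2
    have := congrArg (fun e : Equiv.Perm ↥E => ((e ⟨p, hp⟩ : ↥E) : GolayPt)) h
    exact this⟩
  invFun g := ⟨⟨⟨g.1, g.2.1⟩, by
    rw [mem_stabilizer_iff]
    show g.1 • E = E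
    exact smul_eq_of_fixing g.2.2⟩, by
    rw [MonoidHom.mem_ker]
    exact Equiv.ext fun x => Subtype.ext (g.2.2 x.1 x.2)⟩
  left_inv _ := rfl
  right_inv _ := rfl

theorem card_stab_six {E : Finset GolayPt} (hE : E.card = 6) :
    Nat.card ↥(stabilizer M24 E) = 720 * Nat.card (PF E) := by
  rw [Subgroup.card_eq_card_quotient_mul_card_subgroup (setRes E).ker,
    Nat.card_congr (QuotientGroup.quotientKerEquivOfSurjective (setRes E)
      (setRes_surjective hE)).toEquiv, Nat.card_congr (kerEquivPF E), Nat.card_eq_fintype_card,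
    Fintype.card_perm, Fintype.card_coe, hE]
  rfl


/-- Although the group of the length-24 code is only 5-transitive on the 24 points, it induces the full symmetric group on every 6-element subset: every permutation of a 6-set E is the restriction of an element of the group mapping E to itself. The pointwise stabiliser of E has order 16 when E lies in an octad and order 3 otherwise; in the latter case the setwise stabiliser of E has order 2160. -/
theorem result (E : Finset Cfsg.GolayPt) (hE : E.card = 6) : (∀ σ : Equiv.Perm ↥E, ∃ g ∈ Cfsg.M24, ∀ p : ↥E, g p = σ p) ∧ ((∃ o ∈ Cfsg.octads, E ⊆ o) → Nat.card {g : Equiv.Perm Cfsg.GolayPt // g ∈ Cfsg.M24 ∧ ∀ p ∈ E, g p = p} = 16) ∧ ((¬ ∃ o ∈ Cfsg.octads, E ⊆ o) → Nat.card {g : Equiv.Perm Cfsg.GolayPt // g ∈ Cfsg.M24 ∧ ∀ p ∈ E, g p = p} = 3 ∧ Nat.card ↥(MulAction.stabilizer Cfsg.M24 E) = 2160) := by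
  refine ⟨induces_sym hE, ?_, ?_⟩
  · intro hin
    obtain ⟨h, hh, hhE⟩ := to_base_in hE hin
    have := card_PF_smul E hh
    rw [hhE, card_PF_in] at this
    exact this.symm
  · intro hout
    obtain ⟨h, hh, hhE⟩ := to_base_out hE hout
    have h3 := card_PF_smul E hh
    rw [hhE, card_PF_out] at h3
    refine ⟨h3.symm, ?_⟩
    rw [card_stab_six hE]
    show 720 * Nat.card (PF E) = 2160
    rw [← h3]

end Cfsg.Agent.S5600
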