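import Cfsg.Statements.S5601
import Cfsg.Agent.Helper92.M24Classes

set_option autoImplicit false
open scoped Pointwise
open Cfsg

namespace Cfsg.Agent.S5601

open Cfsg.Agent.Helper27 Cfsg.Agent.Helper7 Cfsg.Agent.Helper92

/-- the set of common fixed points of a subgroup of `M24` -/
def fixSet (X : Subgroup ↥M24) : Set GolayPt :=
  {p : GolayPt | ∀ x ∈ X, ((x : ↥M24) : Equiv.Perm GolayPt) p = p}

/-- a subgroup of order 3 is generated by an element of order 3 -/
theorem exists_gen {X : Subgroup ↥M24} (hX : Nat.card X = 3) :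
    ∃ x : ↥M24, x ≠ 1 ∧ x ^ 3 = 1 ∧ X = Subgroup.zpowers x := by
  haveI : Fact (Nat.Prime 3) := ⟨Nat.prime_three⟩
  haveI : Finite X := Nat.finite_of_card_ne_zero (by rw [hX]; norm_num)
  have hnt : Nontrivial X := by
    rw [← Finite.one_lt_card_iff_nontrivial, hX]
    norm_num
  obtain ⟨x', hx'⟩ := exists_ne (1 : X)
  have htop := zpowers_eq_top_of_prime_card hX hx'
  refine ⟨x', ?_, ?_, ?_⟩
  · intro h
    apply hx'
    exact Subtype.ext h
  · have h3 : x' ^ 3 = 1 := by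
      rw [← hX]
      exact pow_card_eq_one'
    have := congrArg Subtype.val h3
    simpa using this
  · apply le_antisymm
    · intro y hy
      have hmem : (⟨y, hy⟩ : X) ∈ Subgroup.zpowers x' := by
        rw [htop]
        exact Subgroup.mem_top _
      obtain ⟨n, hn⟩ := Subgroup.mem_zpowers_iff.1 hmem
      rw [Subgroup.mem_zpowers_iff]
      refine ⟨n, ?_⟩
      have := congrArg Subtype.val hn
      simpa using this
    · rw [Subgroup.zpowers_le]
      exact x'.2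

theorem fixSet_zpowers (x : ↥M24) :
    fixSet (Subgroup.zpowers x) = {p | (x : Equiv.Perm GolayPt) p = p} := by
  ext p
  unfold fixSet
  simp only [Set.mem_ofPred_eq]
  constructor
  · intro h
    exact h x (Subgroup.mem_zpowers x)
  · intro h y hy
    obtain ⟨n, rfl⟩ := Subgroup.mem_zpowers_iff.1 hy
    have : ((x ^ n : ↥M24) : Equiv.Perm GolayPt) = (x : Equiv.Perm GolayPt) ^ n := by
      simp
    rw [this]
    exact Equiv.Perm.zpow_apply_eq_self_of_apply_eq_self h n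

theorem ncard_fix (g : Equiv.Perm GolayPt) :
    {p | g p = p}.ncard = (Finset.univ.filter fun p => g p = p).card := by
  rw [← Set.ncard_coe_finset]
  congr 1
  ext p
  simp

theorem coe_ne_one {x : ↥M24} (h : x ≠ 1) : (x : Equiv.Perm GolayPt) ≠ 1 := by
  intro e
  apply h
  exact Subtype.ext e

theorem coe_pow_three {x : ↥M24} (h : x ^ 3 = 1) : (x : Equiv.Perm GolayPt) ^ 3 = 1 := by
  have := congrArg Subtype.val h
  simpa using this

theorem T3A_pow : T3A ^ 3 = 1 :=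
  (isTab_T3A.pow (by decide +kernel) 3).ext (by
    have : powTab t3A 3 = List.range 24 := by decide +kernel
    rw [this]
    exact isTab_one)

theorem T3B_pow : T3B ^ 3 = 1 :=
  (isTab_T3B.pow (by decide +kernel) 3).ext (by
    have : powTab t3B 3 = List.range 24 := by decide +kernel
    rw [this]
    exact isTab_one)

theorem T3A_ne : T3A ≠ 1 := by
  intro h
  have := card_fixed_T3A
  rw [h] at this
  simp at this

theorem T3B_ne : T3B ≠ 1 := by
  intro h
  have := card_fixed_T3B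
  rw [h] at this
  simp at this

theorem card_zpowers_three {x : ↥M24} (h1 : x ≠ 1) (h3 : x ^ 3 = 1) :
    Nat.card (Subgroup.zpowers x) = 3 := by
  rw [Nat.card_zpowers]
  exact orderOf_eq_prime h3 h1

theorem conj_zpowers (k x : ↥M24) :
    MulAut.conj k • Subgroup.zpowers x = Subgroup.zpowers (k * x * k⁻¹) := by
  change Subgroup.map (MulAut.conj k).toMonoidHom (Subgroup.zpowers x) = _
  rw [MonoidHom.map_zpowers]
  rfl

theorem exists_conj_eq {x y : ↥M24} {T : Equiv.Perm GolayPt}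
    (hx : ∃ k ∈ M24, k * (x : Equiv.Perm GolayPt) * k⁻¹ = T)
    (hy : ∃ k ∈ M24, k * (y : Equiv.Perm GolayPt) * k⁻¹ = T) :
    ∃ k : ↥M24, k * x * k⁻¹ = y := by
  obtain ⟨k1, hk1, e1⟩ := hx
  obtain ⟨k2, hk2, e2⟩ := hy
  refine ⟨⟨k2, hk2⟩⁻¹ * ⟨k1, hk1⟩, ?_⟩
  apply Subtype.ext
  simp only [Subgroup.coe_mul, Subgroup.coe_inv, mul_inv_rev, inv_inv]
  have : k2⁻¹ * k1 * ↑x * (k1⁻¹ * k2) = k2⁻¹ * (k1 * ↑x * k1⁻¹) * k2 := by group
  rw [this, e1, ← e2]
  group

/-- The group of the length-24 code has exactly two conjugacy classes of subgroups of order 3: a subgroup of order 3 fixes either exactly 6 of the 24 points or none of them, both cases occur, and two subgroups of order 3 with the same number of fixed points are conjugate. -/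
theorem result : (∀ X : Subgroup ↥Cfsg.M24, Nat.card X = 3 → {p : Cfsg.GolayPt | ∀ x ∈ X, ((x : ↥Cfsg.M24) : Equiv.Perm Cfsg.GolayPt) p = p}.ncard = 6 ∨ {p : Cfsg.GolayPt | ∀ x ∈ X, ((x : ↥Cfsg.M24) : Equiv.Perm Cfsg.GolayPt) p = p}.ncard = 0) ∧ (∃ X : Subgroup ↥Cfsg.M24, Nat.card X = 3 ∧ {p : Cfsg.GolayPt | ∀ x ∈ X, ((x : ↥Cfsg.M24) : Equiv.Perm Cfsg.GolayPt) p = p}.ncard = 6) ∧ (∃ X : Subgroup ↥Cfsg.M24, Nat.card X = 3 ∧ {p : Cfsg.GolayPt | ∀ x ∈ X, ((x : ↥Cfsg.M24) : Equiv.Perm Cfsg.GolayPt) p = p}.ncard = 0) ∧ ∀ X Y : Subgroup ↥Cfsg.M24, Nat.card X = 3 → Nat.card Y = 3 → {p : Cfsg.GolayPt | ∀ x ∈ X, ((x : ↥Cfsg.M24) : Equiv.Perm Cfsg.GolayPt) p = p}.ncard = {p : Cfsg.GolayPt | ∀ x ∈ Y, ((x : ↥Cfsg.M24) : Equiv.Perm Cfsg.GolayPt) p = p}.ncard → ∃ k : ↥Cfsg.M24, MulAut.conj k • X = Y := by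
  have hcases : ∀ X : Subgroup ↥M24, Nat.card X = 3 → ∃ x : ↥M24, x ≠ 1 ∧ x ^ 3 = 1 ∧
      X = Subgroup.zpowers x ∧
      fixSet X = {p | (x : Equiv.Perm GolayPt) p = p} := by
    intro X hX
    obtain ⟨x, h1, h3, rfl⟩ := exists_gen hX
    exact ⟨x, h1, h3, rfl, fixSet_zpowers x⟩
  refine ⟨?_, ?_, ?_, ?_⟩
  · intro X hX
    obtain ⟨x, h1, h3, -, hfix⟩ := hcases X hX
    change (fixSet X).ncard = 6 ∨ (fixSet X).ncard = 0
    rw [hfix, ncard_fix]
    exact order3_card_fixed x.2 (coe_pow_three h3) (coe_ne_one h1)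
  · have h1 : (⟨T3A, T3A_mem⟩ : ↥M24) ≠ 1 := fun h => T3A_ne (congrArg Subtype.val h)
    have h3 : (⟨T3A, T3A_mem⟩ : ↥M24) ^ 3 = 1 := Subtype.ext (by simpa using T3A_pow)
    refine ⟨Subgroup.zpowers ⟨T3A, T3A_mem⟩, card_zpowers_three h1 h3, ?_⟩
    change (fixSet _).ncard = 6
    rw [fixSet_zpowers, ncard_fix]
    exact card_fixed_T3A
  · have h1 : (⟨T3B, T3B_mem⟩ : ↥M24) ≠ 1 := fun h => T3B_ne (congrArg Subtype.val h)
    have h3 : (⟨T3B, T3B_mem⟩ : ↥M24) ^ 3 = 1 := Subtype.ext (by simpa using T3B_pow)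
    refine ⟨Subgroup.zpowers ⟨T3B, T3B_mem⟩, card_zpowers_three h1 h3, ?_⟩
    change (fixSet _).ncard = 0
    rw [fixSet_zpowers, ncard_fix]
    exact card_fixed_T3B
  · intro X Y hX hY hXY
    obtain ⟨x, hx1, hx3, rfl, hfx⟩ := hcases X hX
    obtain ⟨y, hy1, hy3, rfl, hfy⟩ := hcases Y hY
    change (fixSet _).ncard = (fixSet _).ncard at hXY
    rw [hfx, hfy, ncard_fix, ncard_fix] at hXY
    have key : ∃ k : ↥M24, k * x * k⁻¹ = y := by
      by_cases h0 : (Finset.univ.filter fun p => (x : Equiv.Perm GolayPt) p = p).card = 0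
      · exact exists_conj_eq
          (order3_conj_of_free x.2 (coe_pow_three hx3) (coe_ne_one hx1) h0)
          (order3_conj_of_free y.2 (coe_pow_three hy3) (coe_ne_one hy1) (by rw [← hXY]; exact h0))
      · exact exists_conj_eq
          (order3_conj_of_fixed x.2 (coe_pow_three hx3) (coe_ne_one hx1) h0)
          (order3_conj_of_fixed y.2 (coe_pow_three hy3) (coe_ne_one hy1) (by rw [← hXY]; exact h0))
    obtain ⟨k, hk⟩ := key
    exact ⟨k, by rw [conj_zpowers, hk]⟩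

end Cfsg.Agent.S5601
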