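import Cfsg.Agent.Helper93.ElemCounts
-- under Cfsg/Agent/.
import Cfsg.Statements.S5603
-- import your own Cfsg.Agent.* helpers here

set_option autoImplicit false
open scoped Pointwise
open Cfsg

namespace Cfsg.Agent.S5603

/-- A fixed-point-free element of order 3 of the group of the length-24 code maps to themselves exactly 7 sextets and exactly 15 trios. -/
theorem result (g : Equiv.Perm Cfsg.GolayPt) (hg : g ∈ Cfsg.M24) (h₃ : orderOf g = 3) (h₀ : ∀ p, g p ≠ p) : {S : Finset (Finset Cfsg.GolayPt) | S ∈ Cfsg.sextets ∧ g • S = S}.ncard = 7 ∧ {T : Finset (Finset Cfsg.GolayPt) | T ∈ Cfsg.trios ∧ g • T = T}.ncard = 15 := by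
  obtain ⟨k, hk, hkg⟩ := Cfsg.Agent.Helper93.conj_3B hg h₃ (Cfsg.Agent.Helper93.nfix_eq_zero h₀)
  refine ⟨?_, ?_⟩
  · rw [Cfsg.Agent.Helper93.count_sext (w := Cfsg.Agent.Helper93.e3B_w) (by decide) hk hkg]
    exact Cfsg.Agent.Helper93.cnt_3B_sext
  · rw [Cfsg.Agent.Helper93.count_trio (w := Cfsg.Agent.Helper93.e3B_w) (by decide) hk hkg]
    exact Cfsg.Agent.Helper93.cnt_3B_trio

end Cfsg.Agent.S5603
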