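import Cfsg.Statements.S5604
import Cfsg.Agent.Helper92.CentTools
import Cfsg.Agent.Helper92.NormTools
import Cfsg.Agent.Helper93.M24Cls
import Cfsg.Agent.Helper7.M24Chain

set_option autoImplicit false
open scoped Pointwise
open Cfsg

namespace Cfsg.Agent.S5604

open Cfsg.Agent.Helper27 Cfsg.Agent.Helper7 Cfsg.Agent.Helper93 Cfsg.Agent.Helper92

/-! ### the standard element of order 7 -/

def t7 : List ℕ := [1,16,4,3,6,2,14,21,22,12,0,8,5,10,9,15,7,17,19,11,18,13,23,20]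
def t7inv : List ℕ := [10,0,5,3,2,12,4,16,11,14,13,19,9,21,6,15,1,17,20,18,23,7,8,22]

theorem t7_pair : isInvPair t7 t7inv = true := by decide +kernel

/-- the standard element of order 7 -/
def T7 : Equiv.Perm GolayPt := permOfTabs t7 t7inv

theorem T7_mem : T7 ∈ M24 := permOfTabs_mem_M24 t7_pair (by decide +kernel)
theorem isTab_T7 : IsTab T7 t7 := isTab_permOfTabs t7_pair
theorem validTab_t7 : validTab t7 = true := (validTab_of_isInvPair t7_pair).1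
theorem isTab_T7_pow (j : ℕ) : IsTab (T7 ^ j) (powTab t7 j) := isTab_T7.pow validTab_t7 j

theorem T7_pow7 : T7 ^ 7 = 1 := by
  have h := isTab_T7_pow 7
  have e : powTab t7 7 = List.range 24 := by decide +kernel
  rw [e] at h
  exact h.ext isTab_one

theorem T7_ne_one : T7 ≠ 1 := permOfTabs_ne_one t7_pair 0 (by decide) (by decide)

/-- the standard element as an element of the group -/
def s7 : ↥M24 := ⟨T7, T7_mem⟩

theorem s7_ne_one : s7 ≠ 1 := fun h => T7_ne_one (congrArg Subtype.val h)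

theorem orderOf_s7 : orderOf s7 = 7 := by
  haveI : Fact (Nat.Prime 7) := ⟨by norm_num⟩
  exact orderOf_eq_prime (Subtype.ext (by simpa [s7] using T7_pow7)) s7_ne_one

/-- the standard subgroup of order 7 -/
def S0 : Subgroup ↥M24 := Subgroup.zpowers s7

theorem card_S0 : Nat.card S0 = 7 := by rw [S0, Nat.card_zpowers, orderOf_s7]

/-- normaliser and centraliser as subgroups of the symmetric group -/
def norm7 : Subgroup (Equiv.Perm GolayPt) :=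
  (Subgroup.normalizer (S0 : Set ↥M24)).map M24.subtype

def cent7 : Subgroup (Equiv.Perm GolayPt) :=
  (Subgroup.centralizer (S0 : Set ↥M24)).map M24.subtype

theorem norm7_le : norm7 ≤ M24 := by
  rintro g ⟨n, -, rfl⟩
  exact n.2

theorem cent7_le : cent7 ≤ M24 := by
  rintro g ⟨n, -, rfl⟩
  exact n.2

theorem card_norm7 : Nat.card norm7 = Nat.card (Subgroup.normalizer (S0 : Set ↥M24)) :=
  Subgroup.card_map_of_injective M24.subtype_injective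

theorem card_cent7 : Nat.card cent7 = Nat.card (Subgroup.centralizer (S0 : Set ↥M24)) :=
  Subgroup.card_map_of_injective M24.subtype_injective

/-- relations for an element conjugating `T7` to `T7 ^ j` -/
def relsJ (j : ℕ) : List (List ℕ × List ℕ) := [(t7, powTab t7 j)]

theorem rels_of_comm {g : Equiv.Perm GolayPt} {j : ℕ} (h : g * T7 = T7 ^ j * g) :
    ∀ r ∈ relsJ j, Rel g r.1 r.2 := by
  intro r hr
  simp only [relsJ, List.mem_singleton] at hr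
  subst hr
  exact rel_of_comm isTab_T7 (isTab_T7_pow j) h

theorem rels_of_mem_norm {g : Equiv.Perm GolayPt} (hg : g ∈ norm7) :
    ∃ j ∈ [1, 2, 3, 4, 5, 6], ∀ r ∈ relsJ j, Rel g r.1 r.2 := by
  obtain ⟨n, hn, rfl⟩ := hg
  obtain ⟨j, hj0, hj7, hj⟩ := exists_pow_of_mem_normalizer (by norm_num) orderOf_s7 s7_ne_one hn
  refine ⟨j, by interval_cases j <;> simp, rels_of_comm ?_⟩
  have := congrArg Subtype.val hj
  simpa [s7] using this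

theorem rels_of_mem_cent {g : Equiv.Perm GolayPt} (hg : g ∈ cent7) :
    ∀ r ∈ relsJ 1, Rel g r.1 r.2 := by
  obtain ⟨n, hn, rfl⟩ := hg
  apply rels_of_comm
  have h1 := (Subgroup.mem_centralizer_iff.1 hn) s7 (Subgroup.mem_zpowers s7)
  have := congrArg Subtype.val h1
  rw [pow_one]
  simpa [s7] using this.symm

/-! ### the invariant trio -/

def trio0 : List ℕ := [21116,2204803,14551296]

theorem trio0_mem : smL trio0 ∈ trios := smL_mem_trios (by decide +kernel)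

theorem trio0_lt : ∀ m ∈ trio0, m < 2 ^ 24 := by decide

/-- normaliser intersected with the stabiliser of the trio -/
def HK : Subgroup (Equiv.Perm GolayPt) :=
  norm7 ⊓ MulAction.stabilizer (Equiv.Perm GolayPt) (smL trio0)

/-! ### membership of table permutations -/

/-- the checks for one table with exponents `j`, `j'` -/
def tabOK (p : (List ℕ × List ℕ) × (ℕ × ℕ)) : Bool :=
  isInvPair p.1.1 p.1.2 && checkM24 p.1.2 && decide (p.1.1.length = 24) &&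
    (compTab p.1.1 t7 == compTab (powTab t7 p.2.1) p.1.1) &&
    (compTab p.1.2 t7 == compTab (powTab t7 p.2.2) p.1.2) && fixedFam p.1.1 trio0

theorem conj_of_tables {l linv : List ℕ} {j : ℕ} (h1 : isInvPair l linv = true)
    (h2 : checkM24 linv = true) (h4 : compTab l t7 = compTab (powTab t7 j) l) :
    (⟨permOfTabs l linv, permOfTabs_mem_M24 h1 h2⟩ : ↥M24) * s7 =
      s7 ^ j * ⟨permOfTabs l linv, permOfTabs_mem_M24 h1 h2⟩ := by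
  apply Subtype.ext
  have := mul_eq_mul_of_tables (isTab_permOfTabs h1) isTab_T7 (isTab_T7_pow j)
    (validTab_of_isInvPair h1).1 validTab_t7 h4
  simpa [s7] using this

theorem conj_inv_of_tables {l linv : List ℕ} {j : ℕ} (h1 : isInvPair l linv = true)
    (h2 : checkM24 linv = true) (h4 : compTab linv t7 = compTab (powTab t7 j) linv) :
    (⟨permOfTabs l linv, permOfTabs_mem_M24 h1 h2⟩ : ↥M24)⁻¹ * s7 =
      s7 ^ j * (⟨permOfTabs l linv, permOfTabs_mem_M24 h1 h2⟩ : ↥M24)⁻¹ := by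
  apply Subtype.ext
  have := mul_eq_mul_of_tables (isTab_permOfTabs_inv h1) isTab_T7 (isTab_T7_pow j)
    (validTab_of_isInvPair h1).2 validTab_t7 h4
  simpa [s7] using this

theorem tabled_of_ok {p : (List ℕ × List ℕ) × (ℕ × ℕ)} (h : tabOK p = true) :
    Tabled HK p.1.1 := by
  simp only [tabOK, Bool.and_eq_true, decide_eq_true_eq, beq_iff_eq] at h
  obtain ⟨⟨⟨⟨⟨h1, h2⟩, h3⟩, h4⟩, h5⟩, h6⟩ := h
  have hT := isTable_permOfTabs h1 h3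
  refine ⟨permOfTabs p.1.1 p.1.2, ⟨?_, ?_⟩, hT⟩
  · exact ⟨⟨permOfTabs p.1.1 p.1.2, permOfTabs_mem_M24 h1 h2⟩,
      mem_normalizer_zpowers (conj_of_tables h1 h2 h4) (conj_inv_of_tables h1 h2 h5), rfl⟩
  · show permOfTabs p.1.1 p.1.2 ∈ MulAction.stabilizer (Equiv.Perm GolayPt) (smL trio0)
    rw [MulAction.mem_stabilizer_iff]
    exact (fixedFam_iff hT trio0_lt).2 h6

/-- the checks for one table commuting with `T7` -/
def tabOKC (p : List ℕ × List ℕ) : Bool :=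
  isInvPair p.1 p.2 && checkM24 p.2 && decide (p.1.length = 24) &&
    (compTab p.1 t7 == compTab (powTab t7 1) p.1)

theorem tabledC_of_ok {p : List ℕ × List ℕ} (h : tabOKC p = true) : Tabled cent7 p.1 := by
  simp only [tabOKC, Bool.and_eq_true, decide_eq_true_eq, beq_iff_eq] at h
  obtain ⟨⟨⟨h1, h2⟩, h3⟩, h4⟩ := h
  have hT := isTable_permOfTabs h1 h3
  refine ⟨permOfTabs p.1 p.2, ?_, hT⟩
  refine ⟨⟨permOfTabs p.1 p.2, permOfTabs_mem_M24 h1 h2⟩, mem_centralizer_zpowers ?_, rfl⟩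
  have := conj_of_tables h1 h2 h4
  rwa [pow_one] at this

/-! ### the chain of the normaliser -/

def orbN0 : List ℕ := [0,1,2,4,5,6,7,8,9,10,11,12,13,14,16,18,19,20,21,22,23]

def tabsN0 : List ((List ℕ × List ℕ) × (ℕ × ℕ)) := [
  (([0,1,2,3,4,5,6,7,8,9,10,11,12,13,14,15,16,17,18,19,20,21,22,23], [0,1,2,3,4,5,6,7,8,9,10,11,12,13,14,15,16,17,18,19,20,21,22,23]), (1, 1)),
  (([1,16,4,3,6,2,14,21,22,12,0,8,5,10,9,15,7,17,19,11,18,13,23,20], [10,0,5,3,2,12,4,16,11,14,13,19,9,21,6,15,1,17,20,18,23,7,8,22]), (1, 1)),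
  (([2,4,1,15,16,0,7,14,18,13,5,20,10,12,21,3,6,17,22,23,8,9,19,11], [5,2,0,15,1,10,16,6,20,21,12,23,13,9,7,3,4,17,8,22,11,14,18,19]), (1, 1)),
  (([4,6,16,15,7,1,21,9,19,10,2,18,0,5,13,3,14,17,23,20,22,12,11,8], [12,5,10,15,0,13,1,4,23,7,9,22,21,14,16,3,2,17,11,8,19,6,20,18]), (1, 1)),
  (([5,2,0,15,1,10,16,6,20,21,12,23,13,9,7,3,4,17,8,22,11,14,18,19], [2,4,1,15,16,0,7,14,18,13,5,20,10,12,21,3,6,17,22,23,8,9,19,11]), (1, 1)),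
  (([6,14,7,15,21,16,13,12,11,0,4,19,1,2,10,3,9,17,20,18,23,5,8,22], [9,12,13,15,10,21,0,2,22,16,14,8,7,6,1,3,5,17,19,11,18,4,23,20]), (1, 1)),
  (([7,21,14,3,9,6,12,10,20,2,16,23,4,1,5,15,13,17,8,22,11,0,18,19], [21,13,9,3,12,14,5,0,18,4,7,20,6,16,2,15,10,17,22,23,8,1,19,11]), (1, 1)),
  (([8,22,0,15,1,10,16,20,6,21,11,4,13,19,7,17,23,3,5,2,12,18,14,9], [2,4,19,17,11,18,8,14,0,23,5,10,20,12,22,3,6,15,21,13,7,9,1,16]), (1, 1)),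
  (([9,12,13,15,10,21,0,2,22,16,14,8,7,6,1,3,5,17,19,11,18,4,23,20], [6,14,7,15,21,16,13,12,11,0,4,19,1,2,10,3,9,17,20,18,23,5,8,22]), (1, 1)),
  (([10,0,5,3,2,12,4,16,11,14,13,19,9,21,6,15,1,17,20,18,23,7,8,22], [1,16,4,3,6,2,14,21,22,12,0,8,5,10,9,15,7,17,19,11,18,13,23,20]), (1, 1)),
  (([11,8,10,15,0,13,1,23,4,7,19,2,21,18,16,17,22,3,12,5,9,20,6,14], [4,6,11,17,8,19,22,9,1,20,2,0,18,5,23,3,14,15,13,10,21,12,16,7]), (1, 1)),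
  (([12,5,10,15,0,13,1,4,23,7,9,22,21,14,16,3,2,17,11,8,19,6,20,18], [4,6,16,15,7,1,21,9,19,10,2,18,0,5,13,3,14,17,23,20,22,12,11,8]), (1, 1)),
  (([13,10,12,3,5,9,2,1,19,6,21,18,14,7,4,15,0,17,23,20,22,16,11,8], [16,7,6,3,14,4,9,13,23,5,1,22,2,0,12,15,21,17,11,8,19,10,20,18]), (1, 1)),
  (([14,9,21,15,13,7,10,5,8,1,6,11,16,4,0,3,12,17,18,19,20,2,22,23], [14,9,21,15,13,7,10,5,8,1,6,11,16,4,0,3,12,17,18,19,20,2,22,23]), (1, 1)),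
  (([16,7,6,3,14,4,9,13,23,5,1,22,2,0,12,15,21,17,11,8,19,10,20,18], [13,10,12,3,5,9,2,1,19,6,21,18,14,7,4,15,0,17,23,20,22,16,11,8]), (1, 1)),
  (([18,19,21,15,13,7,10,8,5,1,20,12,16,23,0,17,11,3,14,9,6,22,2,4], [14,9,22,17,23,8,20,5,7,19,6,16,11,4,18,3,12,15,0,1,10,2,21,13]), (1, 1)),
  (([19,11,13,15,10,21,0,22,2,16,18,5,7,20,1,17,8,3,9,12,14,23,4,6], [6,14,8,17,22,11,23,12,16,18,4,1,19,2,20,3,9,15,10,0,13,5,7,21]), (1, 1)),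
  (([20,18,7,15,21,16,13,11,12,0,23,9,1,22,10,17,19,3,6,14,4,8,5,2], [9,12,23,17,20,22,18,2,21,11,14,7,8,6,19,3,5,15,1,16,0,4,13,10]), (1, 1)),
  (([21,13,9,3,12,14,5,0,18,4,7,20,6,16,2,15,10,17,22,23,8,1,19,11], [7,21,14,3,9,6,12,10,20,2,16,23,4,1,5,15,13,17,8,22,11,0,18,19]), (1, 1)),
  (([22,23,1,15,16,0,7,18,14,13,8,6,10,11,21,17,20,3,2,4,5,19,9,12], [5,2,18,17,19,20,11,6,10,22,12,13,23,9,8,3,4,15,7,21,16,14,0,1]), (1, 1)),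
  (([23,20,16,15,7,1,21,19,9,10,22,14,0,8,13,17,18,3,4,6,2,11,12,5], [12,5,20,17,18,23,19,4,13,8,9,21,22,14,11,3,2,15,16,7,1,6,10,0]), (1, 1))]

def orbN1 : List ℕ := [2,9,11,12,19,22]

def tabsN1 : List ((List ℕ × List ℕ) × (ℕ × ℕ)) := [
  (([0,1,2,3,4,5,6,7,8,9,10,11,12,13,14,15,16,17,18,19,20,21,22,23], [0,1,2,3,4,5,6,7,8,9,10,11,12,13,14,15,16,17,18,19,20,21,22,23]), (1, 1)),
  (([0,16,9,3,5,6,4,10,20,12,13,22,2,7,14,15,21,17,18,11,23,1,19,8], [0,21,12,3,6,4,5,13,23,2,7,19,9,10,14,15,1,17,18,22,8,16,11,20]), (2, 4)),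
  (([0,21,11,17,20,23,8,13,4,22,7,9,19,10,18,15,1,3,14,2,5,16,12,6], [0,16,19,17,8,20,23,10,6,11,13,2,22,7,18,15,21,3,14,12,4,1,9,5]), (4, 2)),
  (([0,21,12,3,6,4,5,13,23,2,7,19,9,10,14,15,1,17,18,22,8,16,11,20], [0,16,9,3,5,6,4,10,20,12,13,22,2,7,14,15,21,17,18,11,23,1,19,8]), (4, 2)),
  (([0,16,19,17,8,20,23,10,6,11,13,2,22,7,18,15,21,3,14,12,4,1,9,5], [0,21,11,17,20,23,8,13,4,22,7,9,19,10,18,15,1,3,14,2,5,16,12,6]), (2, 4)),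
  (([0,1,22,17,23,8,20,7,5,19,10,12,11,13,18,15,16,3,14,9,6,21,2,4], [0,1,22,17,23,8,20,7,5,19,10,12,11,13,18,15,16,3,14,9,6,21,2,4]), (1, 1))]


def tabsN : List ((List ℕ × List ℕ) × (ℕ × ℕ)) := tabsN0 ++ tabsN1

theorem tabsN_ok : tabsN.all tabOK = true := by decide +kernel

def levelsN : List Level := [⟨0, orbN0, tabsN0.map (fun p => p.1.1)⟩, ⟨2, orbN1, tabsN1.map (fun p => p.1.1)⟩]

theorem tabled_levelsN : ∀ L ∈ levelsN, ∀ l ∈ L.T, Tabled HK l := by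
  intro L hL l hl
  simp only [levelsN, List.mem_cons, List.not_mem_nil, or_false] at hL
  have key : ∀ ts : List ((List ℕ × List ℕ) × (ℕ × ℕ)), (∀ p ∈ ts, p ∈ tabsN) →
      l ∈ ts.map (fun p => p.1.1) → Tabled HK l := by
    intro ts hts hl
    rw [List.mem_map] at hl
    obtain ⟨p, hp, rfl⟩ := hl
    exact tabled_of_ok ((List.all_eq_true.1 tabsN_ok) p (hts p hp))
  rcases hL with rfl | rfl
  · exact key tabsN0 (fun p hp => by simp [tabsN, hp]) hl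
  · exact key tabsN1 (fun p hp => by simp [tabsN, hp]) hl

theorem tabled_levelsN_norm : ∀ L ∈ levelsN, ∀ l ∈ L.T, Tabled norm7 l :=
  fun L hL l hl => (tabled_levelsN L hL l hl).mono inf_le_left

theorem tabled_levelsN_stab : ∀ L ∈ levelsN, ∀ l ∈ L.T,
    Tabled (MulAction.stabilizer (Equiv.Perm GolayPt) (smL trio0)) l :=
  fun L hL l hl => (tabled_levelsN L hL l hl).mono inf_le_right

theorem levelsN_chainOK : chainOK [] levelsN = true := by decide +kernel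

def FN0 : List ℕ := []
def BN0 : ℕ := 0

def FN1 : List ℕ := [0]
def BN1 : ℕ := 2

def FN2 : List ℕ := [2,0]

def certN0 : ℕ → Cert2
 | 1 =>
 (.split 0 3
 (.rel 0 0 (.rel 0 1 (.rel 0 16 (.rel 0 7 (.rel 0 21 (.rel 0 13 (.inj 0 (.contra 1))))))))
 (.split 0 15
 (.rel 0 0 (.rel 0 1 (.rel 0 16 (.rel 0 7 (.rel 0 21 (.rel 0 13 (.inj 0 (.contra 1))))))))
 (.rel 0 0 (.rel 0 1 (.rel 0 16 (.rel 0 7 (.rel 0 21 (.rel 0 13 (.inj 0 (.contra 1))))))))))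
 | 2 =>
 (.split 0 3
 (.rel 0 0 (.rel 0 1 (.rel 0 16 (.rel 0 7 (.rel 0 21 (.rel 0 13 (.inj 0 (.contra 1))))))))
 (.split 0 15
 (.rel 0 0 (.rel 0 1 (.rel 0 16 (.rel 0 7 (.rel 0 21 (.rel 0 13 (.inj 0 (.contra 1))))))))
 (.rel 0 0 (.rel 0 1 (.rel 0 16 (.rel 0 7 (.rel 0 21 (.rel 0 13 (.inj 0 (.contra 1))))))))))
 | 3 =>
 (.split 0 3
 (.rel 0 0 (.rel 0 1 (.rel 0 16 (.rel 0 7 (.rel 0 21 (.rel 0 13 (.inj 0 (.contra 1))))))))
 (.split 0 15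
 (.rel 0 0 (.rel 0 1 (.rel 0 16 (.rel 0 7 (.rel 0 21 (.rel 0 13 (.inj 0 (.contra 1))))))))
 (.rel 0 0 (.rel 0 1 (.rel 0 16 (.rel 0 7 (.rel 0 21 (.rel 0 13 (.inj 0 (.contra 1))))))))))
 | 4 =>
 (.split 0 3
 (.rel 0 0 (.rel 0 1 (.rel 0 16 (.rel 0 7 (.rel 0 21 (.rel 0 13 (.inj 0 (.contra 1))))))))
 (.split 0 15
 (.rel 0 0 (.rel 0 1 (.rel 0 16 (.rel 0 7 (.rel 0 21 (.rel 0 13 (.inj 0 (.contra 1))))))))
 (.rel 0 0 (.rel 0 1 (.rel 0 16 (.rel 0 7 (.rel 0 21 (.rel 0 13 (.inj 0 (.contra 1))))))))))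
 | 5 =>
 (.split 0 3
 (.rel 0 0 (.rel 0 1 (.rel 0 16 (.rel 0 7 (.rel 0 21 (.rel 0 13 (.inj 0 (.contra 1))))))))
 (.split 0 15
 (.rel 0 0 (.rel 0 1 (.rel 0 16 (.rel 0 7 (.rel 0 21 (.rel 0 13 (.inj 0 (.contra 1))))))))
 (.rel 0 0 (.rel 0 1 (.rel 0 16 (.rel 0 7 (.rel 0 21 (.rel 0 13 (.inj 0 (.contra 1))))))))))
 | 6 =>
 (.split 0 3
 (.rel 0 0 (.rel 0 1 (.rel 0 16 (.rel 0 7 (.rel 0 21 (.rel 0 13 (.inj 0 (.contra 1))))))))
 (.split 0 15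
 (.rel 0 0 (.rel 0 1 (.rel 0 16 (.rel 0 7 (.rel 0 21 (.rel 0 13 (.inj 0 (.contra 1))))))))
 (.rel 0 0 (.rel 0 1 (.rel 0 16 (.rel 0 7 (.rel 0 21 (.rel 0 13 (.inj 0 (.contra 1))))))))))
 | _ => .contra 0

def certN1 : ℕ → Cert2
 | 1 =>
 (.rel 0 0 (.rel 0 1 (.rel 0 16 (.rel 0 7 (.rel 0 21 (.rel 0 13 (.inj 0 (.inj 1 (.inj 7 (.inj 10 (.inj 13 (.inj 16 (.inj 21 (.octad 2204803 2204803 (.split 2 3
 (.rel 0 2 (.rel 0 4 (.rel 0 6 (.rel 0 14 (.rel 0 9 (.rel 0 12 (.inj 2 (.contra 4))))))))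
 (.split 2 4
 (.rel 0 2 (.rel 0 4 (.rel 0 6 (.rel 0 14 (.rel 0 9 (.rel 0 12 (.inj 2 (.inj 4 (.inj 5 (.inj 6 (.inj 9 (.inj 12 (.inj 14 (.octad 4563017 1302533 (.contra 5)))))))))))))))
 (.split 2 5
 (.rel 0 2 (.rel 0 4 (.rel 0 6 (.rel 0 14 (.rel 0 9 (.rel 0 12 (.inj 2 (.inj 4 (.inj 5 (.inj 6 (.inj 9 (.inj 12 (.inj 14 (.octad 2564625 1302533 (.contra 15)))))))))))))))
 (.split 2 6
 (.rel 0 2 (.rel 0 4 (.rel 0 6 (.rel 0 14 (.rel 0 9 (.rel 0 12 (.inj 2 (.inj 4 (.inj 5 (.inj 6 (.inj 9 (.inj 12 (.inj 14 (.octad 632881 1302533 (.contra 5)))))))))))))))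
 (.split 2 8
 (.rel 0 2 (.rel 0 4 (.rel 0 6 (.rel 0 14 (.rel 0 9 (.rel 0 12 (.inj 2 (.inj 4 (.inj 5 (.inj 6 (.inj 9 (.inj 12 (.inj 14 (.octad 57883 9347075 (.contra 4)))))))))))))))
 (.split 2 14
 (.rel 0 2 (.rel 0 4 (.rel 0 6 (.rel 0 14 (.rel 0 9 (.rel 0 12 (.inj 2 (.inj 4 (.inj 5 (.inj 6 (.inj 9 (.inj 12 (.inj 14 (.octad 1302533 1302533 (.contra 9)))))))))))))))
 (.split 2 17
 (.rel 0 2 (.rel 0 4 (.rel 0 6 (.rel 0 14 (.rel 0 9 (.rel 0 12 (.inj 2 (.contra 4))))))))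
 (.octad 2130606 11831426 (.split 2 18
 (.rel 0 2 (.rel 0 4 (.contra 6)))
 (.octad 371206 9543722 (.octad 6857221 11575377 (.octad 99029 14254209 (.octad 2183687 11731203 (.octad 11575377 6857221 (.split 2 20
 (.rel 0 2 (.contra 4))
 (.rel 0 2 (.contra 4)))))))))))))))))))))))))))))))
 | 2 =>
 (.rel 0 0 (.rel 0 1 (.rel 0 16 (.rel 0 7 (.rel 0 21 (.rel 0 13 (.inj 0 (.inj 1 (.inj 7 (.inj 10 (.inj 13 (.inj 16 (.inj 21 (.octad 2204803 2204803 (.split 2 3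
 (.rel 0 2 (.rel 0 4 (.rel 0 6 (.rel 0 14 (.rel 0 9 (.rel 0 12 (.inj 2 (.contra 4))))))))
 (.split 2 4
 (.rel 0 2 (.rel 0 4 (.rel 0 6 (.rel 0 14 (.rel 0 9 (.rel 0 12 (.inj 2 (.inj 4 (.inj 5 (.inj 6 (.inj 9 (.inj 12 (.inj 14 (.octad 57883 1302533 (.contra 9)))))))))))))))
 (.split 2 5
 (.rel 0 2 (.rel 0 4 (.rel 0 6 (.rel 0 14 (.rel 0 9 (.rel 0 12 (.inj 2 (.inj 4 (.inj 5 (.inj 6 (.inj 9 (.inj 12 (.inj 14 (.octad 2392899 1302533 (.contra 10)))))))))))))))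
 (.split 2 6
 (.rel 0 2 (.rel 0 4 (.rel 0 6 (.rel 0 14 (.rel 0 9 (.rel 0 12 (.inj 2 (.inj 4 (.inj 5 (.inj 6 (.inj 9 (.inj 12 (.inj 14 (.octad 4424227 1302533 (.contra 10)))))))))))))))
 (.split 2 8
 (.rel 0 2 (.rel 0 4 (.rel 0 6 (.rel 0 14 (.rel 0 9 (.rel 0 12 (.inj 2 (.inj 4 (.inj 5 (.inj 6 (.inj 9 (.inj 12 (.inj 14 (.octad 11575377 9347075 (.contra 5)))))))))))))))
 (.split 2 14
 (.rel 0 2 (.rel 0 4 (.rel 0 6 (.rel 0 14 (.rel 0 9 (.rel 0 12 (.inj 2 (.inj 4 (.inj 5 (.inj 6 (.inj 9 (.inj 12 (.inj 14 (.octad 459847 1302533 (.contra 15)))))))))))))))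
 (.split 2 17
 (.rel 0 2 (.rel 0 4 (.rel 0 6 (.rel 0 14 (.rel 0 9 (.rel 0 12 (.inj 2 (.contra 4))))))))
 (.octad 2207772 11831426 (.split 2 18
 (.rel 0 2 (.rel 0 4 (.rel 0 6 (.contra 14))))
 (.octad 2921478 9543722 (.octad 4299781 11575377 (.octad 45159 14254209 (.octad 2183687 11731203 (.octad 1148257 6857221 (.split 2 20
 (.rel 0 2 (.contra 4))
 (.rel 0 2 (.rel 0 4 (.contra 6))))))))))))))))))))))))))))))))
 | 3 =>
 (.rel 0 0 (.rel 0 1 (.rel 0 16 (.rel 0 7 (.rel 0 21 (.rel 0 13 (.inj 0 (.inj 1 (.inj 7 (.inj 10 (.inj 13 (.inj 16 (.inj 21 (.octad 2204803 2204803 (.split 2 3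
 (.rel 0 2 (.rel 0 4 (.rel 0 6 (.rel 0 14 (.rel 0 9 (.rel 0 12 (.inj 2 (.contra 4))))))))
 (.split 2 4
 (.rel 0 2 (.rel 0 4 (.rel 0 6 (.rel 0 14 (.rel 0 9 (.rel 0 12 (.inj 2 (.inj 4 (.inj 5 (.inj 6 (.inj 9 (.inj 12 (.inj 14 (.octad 3489985 1302533 (.contra 15)))))))))))))))
 (.split 2 5
 (.rel 0 2 (.rel 0 4 (.rel 0 6 (.rel 0 14 (.rel 0 9 (.rel 0 12 (.inj 2 (.inj 4 (.inj 5 (.inj 6 (.inj 9 (.inj 12 (.inj 14 (.octad 6326497 1302533 (.contra 6)))))))))))))))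
 (.split 2 6
 (.rel 0 2 (.rel 0 4 (.rel 0 6 (.rel 0 14 (.rel 0 9 (.rel 0 12 (.inj 2 (.inj 4 (.inj 5 (.inj 6 (.inj 9 (.inj 12 (.inj 14 (.octad 10666625 1302533 (.contra 12)))))))))))))))
 (.split 2 8
 (.rel 0 2 (.rel 0 4 (.rel 0 6 (.rel 0 14 (.rel 0 9 (.rel 0 12 (.inj 2 (.inj 4 (.inj 5 (.inj 6 (.inj 9 (.inj 12 (.inj 14 (.octad 3719203 9347075 (.contra 1)))))))))))))))
 (.split 2 14
 (.rel 0 2 (.rel 0 4 (.rel 0 6 (.rel 0 14 (.rel 0 9 (.rel 0 12 (.inj 2 (.inj 4 (.inj 5 (.inj 6 (.inj 9 (.inj 12 (.inj 14 (.octad 10846245 1302533 (.contra 7)))))))))))))))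
 (.split 2 17
 (.rel 0 2 (.rel 0 4 (.rel 0 6 (.rel 0 14 (.rel 0 9 (.rel 0 12 (.inj 2 (.contra 4))))))))
 (.octad 4367374 11831426 (.split 2 18
 (.rel 0 2 (.rel 0 4 (.contra 6)))
 (.octad 2531524 9543722 (.octad 7767041 11575377 (.contra 2))))))))))))))))))))))))))
 | 4 =>
 (.rel 0 0 (.rel 0 1 (.rel 0 16 (.rel 0 7 (.rel 0 21 (.rel 0 13 (.inj 0 (.inj 1 (.inj 7 (.inj 10 (.inj 13 (.inj 16 (.inj 21 (.octad 2204803 2204803 (.split 2 3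
 (.rel 0 2 (.rel 0 4 (.rel 0 6 (.rel 0 14 (.rel 0 9 (.rel 0 12 (.inj 2 (.contra 4))))))))
 (.split 2 4
 (.rel 0 2 (.rel 0 4 (.rel 0 6 (.rel 0 14 (.rel 0 9 (.rel 0 12 (.inj 2 (.inj 4 (.inj 5 (.inj 6 (.inj 9 (.inj 12 (.inj 14 (.octad 10666625 1302533 (.contra 12)))))))))))))))
 (.split 2 5
 (.rel 0 2 (.rel 0 4 (.rel 0 6 (.rel 0 14 (.rel 0 9 (.rel 0 12 (.inj 2 (.inj 4 (.inj 5 (.inj 6 (.inj 9 (.inj 12 (.inj 14 (.octad 11575377 1302533 (.contra 7)))))))))))))))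
 (.split 2 6
 (.rel 0 2 (.rel 0 4 (.rel 0 6 (.rel 0 14 (.rel 0 9 (.rel 0 12 (.inj 2 (.inj 4 (.inj 5 (.inj 6 (.inj 9 (.inj 12 (.inj 14 (.octad 3489985 1302533 (.contra 15)))))))))))))))
 (.split 2 8
 (.rel 0 2 (.rel 0 4 (.rel 0 6 (.rel 0 14 (.rel 0 9 (.rel 0 12 (.inj 2 (.inj 4 (.inj 5 (.inj 6 (.inj 9 (.inj 12 (.inj 14 (.octad 8773776 9347075 (.contra 0)))))))))))))))
 (.split 2 14
 (.rel 0 2 (.rel 0 4 (.rel 0 6 (.rel 0 14 (.rel 0 9 (.rel 0 12 (.inj 2 (.inj 4 (.inj 5 (.inj 6 (.inj 9 (.inj 12 (.inj 14 (.octad 2916505 1302533 (.contra 2)))))))))))))))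
 (.split 2 17
 (.rel 0 2 (.rel 0 4 (.rel 0 6 (.rel 0 14 (.rel 0 9 (.rel 0 12 (.inj 2 (.contra 4))))))))
 (.octad 115766 11831426 (.split 2 18
 (.rel 0 2 (.contra 4))
 (.octad 2738308 9543722 (.octad 4505735 11575377 (.octad 2147405 14254209 (.octad 2183687 11731203 (.octad 1212619 6857221 (.split 2 20
 (.rel 0 2 (.contra 4))
 (.rel 0 2 (.rel 0 4 (.contra 6))))))))))))))))))))))))))))))))
 | 5 =>
 (.rel 0 0 (.rel 0 1 (.rel 0 16 (.rel 0 7 (.rel 0 21 (.rel 0 13 (.inj 0 (.inj 1 (.inj 7 (.inj 10 (.inj 13 (.inj 16 (.inj 21 (.octad 2204803 2204803 (.split 2 3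
 (.rel 0 2 (.rel 0 4 (.rel 0 6 (.rel 0 14 (.rel 0 9 (.rel 0 12 (.inj 2 (.contra 4))))))))
 (.split 2 4
 (.rel 0 2 (.rel 0 4 (.rel 0 6 (.rel 0 14 (.rel 0 9 (.rel 0 12 (.inj 2 (.inj 4 (.inj 5 (.inj 6 (.inj 9 (.inj 12 (.inj 14 (.octad 4424227 1302533 (.contra 10)))))))))))))))
 (.split 2 5
 (.rel 0 2 (.rel 0 4 (.rel 0 6 (.rel 0 14 (.rel 0 9 (.rel 0 12 (.inj 2 (.inj 4 (.inj 5 (.inj 6 (.inj 9 (.inj 12 (.inj 14 (.octad 185603 1302533 (.octad 4470275 11100169 (.contra 9))))))))))))))))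
 (.split 2 6
 (.rel 0 2 (.rel 0 4 (.rel 0 6 (.rel 0 14 (.rel 0 9 (.rel 0 12 (.inj 2 (.inj 4 (.inj 5 (.inj 6 (.inj 9 (.inj 12 (.inj 14 (.octad 57883 1302533 (.contra 9)))))))))))))))
 (.split 2 8
 (.rel 0 2 (.rel 0 4 (.rel 0 6 (.rel 0 14 (.rel 0 9 (.rel 0 12 (.inj 2 (.inj 4 (.inj 5 (.inj 6 (.inj 9 (.inj 12 (.inj 14 (.octad 8421811 9347075 (.contra 12)))))))))))))))
 (.split 2 14
 (.rel 0 2 (.rel 0 4 (.rel 0 6 (.rel 0 14 (.rel 0 9 (.rel 0 12 (.inj 2 (.inj 4 (.inj 5 (.inj 6 (.inj 9 (.inj 12 (.inj 14 (.octad 9471495 1302533 (.contra 9)))))))))))))))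
 (.split 2 17
 (.rel 0 2 (.rel 0 4 (.rel 0 6 (.rel 0 14 (.rel 0 9 (.rel 0 12 (.inj 2 (.contra 4))))))))
 (.octad 4301220 11831426 (.split 2 18
 (.rel 0 2 (.contra 4))
 (.octad 36294 9543722 (.octad 10543366 11575377 (.contra 0))))))))))))))))))))))))))
 | 6 =>
 (.rel 0 0 (.rel 0 1 (.rel 0 16 (.rel 0 7 (.rel 0 21 (.rel 0 13 (.inj 0 (.inj 1 (.inj 7 (.inj 10 (.inj 13 (.inj 16 (.inj 21 (.octad 2204803 2204803 (.split 2 3
 (.rel 0 2 (.rel 0 4 (.rel 0 6 (.rel 0 14 (.rel 0 9 (.rel 0 12 (.inj 2 (.contra 4))))))))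
 (.split 2 4
 (.rel 0 2 (.rel 0 4 (.rel 0 6 (.rel 0 14 (.rel 0 9 (.rel 0 12 (.inj 2 (.inj 4 (.inj 5 (.inj 6 (.inj 9 (.inj 12 (.inj 14 (.octad 632881 1302533 (.contra 5)))))))))))))))
 (.split 2 5
 (.rel 0 2 (.rel 0 4 (.rel 0 6 (.rel 0 14 (.rel 0 9 (.rel 0 12 (.inj 2 (.inj 4 (.inj 5 (.inj 6 (.inj 9 (.inj 12 (.inj 14 (.octad 1302533 1302533 (.contra 2)))))))))))))))
 (.split 2 6
 (.rel 0 2 (.rel 0 4 (.rel 0 6 (.rel 0 14 (.rel 0 9 (.rel 0 12 (.inj 2 (.inj 4 (.inj 5 (.inj 6 (.inj 9 (.inj 12 (.inj 14 (.octad 4563017 1302533 (.contra 5)))))))))))))))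
 (.split 2 8
 (.rel 0 2 (.rel 0 4 (.rel 0 6 (.rel 0 14 (.rel 0 9 (.rel 0 12 (.inj 2 (.inj 4 (.inj 5 (.inj 6 (.inj 9 (.inj 12 (.inj 14 (.octad 2147405 9347075 (.contra 2)))))))))))))))
 (.split 2 14
 (.rel 0 2 (.rel 0 4 (.rel 0 6 (.rel 0 14 (.rel 0 9 (.rel 0 12 (.inj 2 (.inj 4 (.inj 5 (.inj 6 (.inj 9 (.inj 12 (.inj 14 (.octad 1302533 1302533 (.octad 864389 11100169 (.contra 12))))))))))))))))
 (.split 2 17
 (.rel 0 2 (.rel 0 4 (.rel 0 6 (.rel 0 14 (.rel 0 9 (.rel 0 12 (.inj 2 (.contra 4))))))))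
 (.octad 14714004 11831426 (.split 2 18
 (.rel 0 2 (.rel 0 4 (.contra 6)))
 (.octad 9020484 9543722 (.octad 10846245 11575377 (.contra 7))))))))))))))))))))))))))
 | _ => .contra 0

def certN2 : ℕ → Cert2
 | 1 =>
 (.rel 0 0 (.rel 0 1 (.rel 0 2 (.rel 0 4 (.rel 0 6 (.rel 0 14 (.rel 0 16 (.rel 0 7 (.rel 0 9 (.rel 0 12 (.rel 0 21 (.rel 0 13 (.inj 0 (.inj 1 (.inj 2 (.inj 4 (.inj 5 (.inj 6 (.inj 7 (.inj 9 (.inj 10 (.inj 12 (.inj 13 (.inj 14 (.inj 16 (.inj 21 (.octad 1302533 1302533 (.octad 11100169 11100169 (.octad 3416079 3416079 (.rel 0 18 (.rel 0 19 (.rel 0 11 (.rel 0 8 (.rel 0 22 (.octad 11952160 11952160 .done)))))))))))))))))))))))))))))))))))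
 | 2 =>
 (.rel 0 0 (.rel 0 1 (.rel 0 2 (.rel 0 4 (.rel 0 6 (.rel 0 14 (.rel 0 16 (.rel 0 7 (.rel 0 9 (.rel 0 12 (.rel 0 21 (.rel 0 13 (.inj 0 (.inj 1 (.inj 2 (.inj 4 (.inj 5 (.inj 6 (.inj 7 (.inj 9 (.inj 10 (.inj 12 (.inj 13 (.inj 14 (.inj 16 (.inj 21 (.octad 5279 1302533 (.contra 4))))))))))))))))))))))))))))
 | 3 =>
 (.rel 0 0 (.rel 0 1 (.rel 0 2 (.rel 0 4 (.rel 0 6 (.rel 0 14 (.rel 0 16 (.rel 0 7 (.rel 0 9 (.rel 0 12 (.rel 0 21 (.rel 0 13 (.inj 0 (.inj 1 (.inj 2 (.inj 4 (.inj 5 (.inj 6 (.inj 7 (.inj 9 (.inj 10 (.inj 12 (.inj 13 (.inj 14 (.inj 16 (.inj 21 (.octad 2121909 1302533 (.contra 5))))))))))))))))))))))))))))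
 | 4 =>
 (.rel 0 0 (.rel 0 1 (.rel 0 2 (.rel 0 4 (.rel 0 6 (.rel 0 14 (.rel 0 16 (.rel 0 7 (.rel 0 9 (.rel 0 12 (.rel 0 21 (.rel 0 13 (.inj 0 (.inj 1 (.inj 2 (.inj 4 (.inj 5 (.inj 6 (.inj 7 (.inj 9 (.inj 10 (.inj 12 (.inj 13 (.inj 14 (.inj 16 (.inj 21 (.octad 2121909 1302533 (.contra 4))))))))))))))))))))))))))))
 | 5 =>
 (.rel 0 0 (.rel 0 1 (.rel 0 2 (.rel 0 4 (.rel 0 6 (.rel 0 14 (.rel 0 16 (.rel 0 7 (.rel 0 9 (.rel 0 12 (.rel 0 21 (.rel 0 13 (.inj 0 (.inj 1 (.inj 2 (.inj 4 (.inj 5 (.inj 6 (.inj 7 (.inj 9 (.inj 10 (.inj 12 (.inj 13 (.inj 14 (.inj 16 (.inj 21 (.octad 459847 1302533 (.contra 16))))))))))))))))))))))))))))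
 | 6 =>
 (.rel 0 0 (.rel 0 1 (.rel 0 2 (.rel 0 4 (.rel 0 6 (.rel 0 14 (.rel 0 16 (.rel 0 7 (.rel 0 9 (.rel 0 12 (.rel 0 21 (.rel 0 13 (.inj 0 (.inj 1 (.inj 2 (.inj 4 (.inj 5 (.inj 6 (.inj 7 (.inj 9 (.inj 10 (.inj 12 (.inj 13 (.inj 14 (.inj 16 (.inj 21 (.octad 75309 1302533 (.contra 5))))))))))))))))))))))))))))
 | _ => .contra 0


theorem certsN0_ok : ([1, 2, 3, 4, 5, 6].all fun j =>
    check2 0 (relsJ j) (fun _ => false) (certN0 j) (boundDom FN0 BN0 orbN0)) = true := by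
  decide +kernel

theorem certsN1_ok : ([1, 2, 3, 4, 5, 6].all fun j =>
    check2 0 (relsJ j) (fun _ => false) (certN1 j) (boundDom FN1 BN1 orbN1)) = true := by
  decide +kernel

theorem certsN2_ok : ([1, 2, 3, 4, 5, 6].all fun j =>
    check2 0 (relsJ j) (fun tab => tab == List.range 24) (certN2 j) (fixDom FN2)) = true := by
  decide +kernel

theorem levelsN_bounds : Bounds norm7 [] levelsN := by
  simp only [levelsN, Bounds]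
  refine ⟨?_, ?_, ?_⟩
  · intro g hg
    obtain ⟨j, hj, hR⟩ := rels_of_mem_norm hg.1
    rw [idx_apply_pt_eq (by decide)]
    exact mem_orb_of_cert (norm7_le hg.1) hR (F := FN0) (by decide)
      (fixG_gPt hg (by decide)) (c := certN0 j) ((List.all_eq_true.1 certsN0_ok) j hj)
  · intro g hg
    obtain ⟨j, hj, hR⟩ := rels_of_mem_norm hg.1
    rw [idx_apply_pt_eq (by decide)]
    exact mem_orb_of_cert (norm7_le hg.1) hR (F := FN1) (by decide)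
      (fixG_gPt hg (by decide)) (c := certN1 j) ((List.all_eq_true.1 certsN1_ok) j hj)
  · intro g hg
    obtain ⟨j, hj, hR⟩ := rels_of_mem_norm hg.1
    exact eq_one_of_cert (norm7_le hg.1) hR (F := FN2) (by decide)
      (fixG_gPt hg (by decide)) (c := certN2 j) ((List.all_eq_true.1 certsN2_ok) j hj)

theorem card_norm7_eq : Nat.card norm7 = 126 := by
  have := chain_card tabled_levelsN_norm levelsN_chainOK levelsN_bounds
  rw [fixG_nil] at this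
  rw [this]
  decide +kernel

theorem norm7_le_stab : norm7 ≤ MulAction.stabilizer (Equiv.Perm GolayPt) (smL trio0) := by
  have := chain_le tabled_levelsN_norm levelsN_chainOK levelsN_bounds tabled_levelsN_stab
  rwa [fixG_nil] at this

/-! ### the chain of the centraliser -/

def orbC0 : List ℕ := [0,1,2,4,5,6,7,8,9,10,11,12,13,14,16,18,19,20,21,22,23]

def tabsC0 : List (List ℕ × List ℕ) := [
  ([0,1,2,3,4,5,6,7,8,9,10,11,12,13,14,15,16,17,18,19,20,21,22,23], [0,1,2,3,4,5,6,7,8,9,10,11,12,13,14,15,16,17,18,19,20,21,22,23]),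
  ([1,16,4,3,6,2,14,21,22,12,0,8,5,10,9,15,7,17,19,11,18,13,23,20], [10,0,5,3,2,12,4,16,11,14,13,19,9,21,6,15,1,17,20,18,23,7,8,22]),
  ([2,4,1,15,16,0,7,14,18,13,5,20,10,12,21,3,6,17,22,23,8,9,19,11], [5,2,0,15,1,10,16,6,20,21,12,23,13,9,7,3,4,17,8,22,11,14,18,19]),
  ([4,6,16,15,7,1,21,9,19,10,2,18,0,5,13,3,14,17,23,20,22,12,11,8], [12,5,10,15,0,13,1,4,23,7,9,22,21,14,16,3,2,17,11,8,19,6,20,18]),
  ([5,2,0,15,1,10,16,6,20,21,12,23,13,9,7,3,4,17,8,22,11,14,18,19], [2,4,1,15,16,0,7,14,18,13,5,20,10,12,21,3,6,17,22,23,8,9,19,11]),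
  ([6,14,7,15,21,16,13,12,11,0,4,19,1,2,10,3,9,17,20,18,23,5,8,22], [9,12,13,15,10,21,0,2,22,16,14,8,7,6,1,3,5,17,19,11,18,4,23,20]),
  ([7,21,14,3,9,6,12,10,20,2,16,23,4,1,5,15,13,17,8,22,11,0,18,19], [21,13,9,3,12,14,5,0,18,4,7,20,6,16,2,15,10,17,22,23,8,1,19,11]),
  ([8,22,0,15,1,10,16,20,6,21,11,4,13,19,7,17,23,3,5,2,12,18,14,9], [2,4,19,17,11,18,8,14,0,23,5,10,20,12,22,3,6,15,21,13,7,9,1,16]),
  ([9,12,13,15,10,21,0,2,22,16,14,8,7,6,1,3,5,17,19,11,18,4,23,20], [6,14,7,15,21,16,13,12,11,0,4,19,1,2,10,3,9,17,20,18,23,5,8,22]),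
  ([10,0,5,3,2,12,4,16,11,14,13,19,9,21,6,15,1,17,20,18,23,7,8,22], [1,16,4,3,6,2,14,21,22,12,0,8,5,10,9,15,7,17,19,11,18,13,23,20]),
  ([11,8,10,15,0,13,1,23,4,7,19,2,21,18,16,17,22,3,12,5,9,20,6,14], [4,6,11,17,8,19,22,9,1,20,2,0,18,5,23,3,14,15,13,10,21,12,16,7]),
  ([12,5,10,15,0,13,1,4,23,7,9,22,21,14,16,3,2,17,11,8,19,6,20,18], [4,6,16,15,7,1,21,9,19,10,2,18,0,5,13,3,14,17,23,20,22,12,11,8]),
  ([13,10,12,3,5,9,2,1,19,6,21,18,14,7,4,15,0,17,23,20,22,16,11,8], [16,7,6,3,14,4,9,13,23,5,1,22,2,0,12,15,21,17,11,8,19,10,20,18]),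
  ([14,9,21,15,13,7,10,5,8,1,6,11,16,4,0,3,12,17,18,19,20,2,22,23], [14,9,21,15,13,7,10,5,8,1,6,11,16,4,0,3,12,17,18,19,20,2,22,23]),
  ([16,7,6,3,14,4,9,13,23,5,1,22,2,0,12,15,21,17,11,8,19,10,20,18], [13,10,12,3,5,9,2,1,19,6,21,18,14,7,4,15,0,17,23,20,22,16,11,8]),
  ([18,19,21,15,13,7,10,8,5,1,20,12,16,23,0,17,11,3,14,9,6,22,2,4], [14,9,22,17,23,8,20,5,7,19,6,16,11,4,18,3,12,15,0,1,10,2,21,13]),
  ([19,11,13,15,10,21,0,22,2,16,18,5,7,20,1,17,8,3,9,12,14,23,4,6], [6,14,8,17,22,11,23,12,16,18,4,1,19,2,20,3,9,15,10,0,13,5,7,21]),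
  ([20,18,7,15,21,16,13,11,12,0,23,9,1,22,10,17,19,3,6,14,4,8,5,2], [9,12,23,17,20,22,18,2,21,11,14,7,8,6,19,3,5,15,1,16,0,4,13,10]),
  ([21,13,9,3,12,14,5,0,18,4,7,20,6,16,2,15,10,17,22,23,8,1,19,11], [7,21,14,3,9,6,12,10,20,2,16,23,4,1,5,15,13,17,8,22,11,0,18,19]),
  ([22,23,1,15,16,0,7,18,14,13,8,6,10,11,21,17,20,3,2,4,5,19,9,12], [5,2,18,17,19,20,11,6,10,22,12,13,23,9,8,3,4,15,7,21,16,14,0,1]),
  ([23,20,16,15,7,1,21,19,9,10,22,14,0,8,13,17,18,3,4,6,2,11,12,5], [12,5,20,17,18,23,19,4,13,8,9,21,22,14,11,3,2,15,16,7,1,6,10,0])]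

def orbC1 : List ℕ := [2,22]

def tabsC1 : List (List ℕ × List ℕ) := [
  ([0,1,2,3,4,5,6,7,8,9,10,11,12,13,14,15,16,17,18,19,20,21,22,23], [0,1,2,3,4,5,6,7,8,9,10,11,12,13,14,15,16,17,18,19,20,21,22,23]),
  ([0,1,22,17,23,8,20,7,5,19,10,12,11,13,18,15,16,3,14,9,6,21,2,4], [0,1,22,17,23,8,20,7,5,19,10,12,11,13,18,15,16,3,14,9,6,21,2,4])]


def tabsC : List (List ℕ × List ℕ) := tabsC0 ++ tabsC1

theorem tabsC_ok : tabsC.all tabOKC = true := by decide +kernel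

def levelsC : List Level := [⟨0, orbC0, tabsC0.map Prod.fst⟩, ⟨2, orbC1, tabsC1.map Prod.fst⟩]

theorem tabled_levelsC : ∀ L ∈ levelsC, ∀ l ∈ L.T, Tabled cent7 l := by
  intro L hL l hl
  simp only [levelsC, List.mem_cons, List.not_mem_nil, or_false] at hL
  have key : ∀ ts : List (List ℕ × List ℕ), (∀ p ∈ ts, p ∈ tabsC) →
      l ∈ ts.map Prod.fst → Tabled cent7 l := by
    intro ts hts hl
    rw [List.mem_map] at hl
    obtain ⟨p, hp, rfl⟩ := hl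
    exact tabledC_of_ok ((List.all_eq_true.1 tabsC_ok) p (hts p hp))
  rcases hL with rfl | rfl
  · exact key tabsC0 (fun p hp => by simp [tabsC, hp]) hl
  · exact key tabsC1 (fun p hp => by simp [tabsC, hp]) hl

theorem levelsC_chainOK : chainOK [] levelsC = true := by decide +kernel

def FC0 : List ℕ := []
def BC0 : ℕ := 0

def FC1 : List ℕ := [0]
def BC1 : ℕ := 2

def FC2 : List ℕ := [2,0]

def certC0 : Cert2 :=
 (.split 0 3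
 (.rel 0 0 (.rel 0 1 (.rel 0 16 (.rel 0 7 (.rel 0 21 (.rel 0 13 (.inj 0 (.contra 1))))))))
 (.split 0 15
 (.rel 0 0 (.rel 0 1 (.rel 0 16 (.rel 0 7 (.rel 0 21 (.rel 0 13 (.inj 0 (.contra 1))))))))
 (.rel 0 0 (.rel 0 1 (.rel 0 16 (.rel 0 7 (.rel 0 21 (.rel 0 13 (.inj 0 (.contra 1))))))))))

def certC1 : Cert2 :=
 (.rel 0 0 (.rel 0 1 (.rel 0 16 (.rel 0 7 (.rel 0 21 (.rel 0 13 (.inj 0 (.inj 1 (.inj 7 (.inj 10 (.inj 13 (.inj 16 (.inj 21 (.octad 2204803 2204803 (.split 2 3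
 (.rel 0 2 (.rel 0 4 (.rel 0 6 (.rel 0 14 (.rel 0 9 (.rel 0 12 (.inj 2 (.contra 4))))))))
 (.split 2 4
 (.rel 0 2 (.rel 0 4 (.rel 0 6 (.rel 0 14 (.rel 0 9 (.rel 0 12 (.inj 2 (.inj 4 (.inj 5 (.inj 6 (.inj 9 (.inj 12 (.inj 14 (.octad 4563017 1302533 (.contra 5)))))))))))))))
 (.split 2 5
 (.rel 0 2 (.rel 0 4 (.rel 0 6 (.rel 0 14 (.rel 0 9 (.rel 0 12 (.inj 2 (.inj 4 (.inj 5 (.inj 6 (.inj 9 (.inj 12 (.inj 14 (.octad 2564625 1302533 (.contra 15)))))))))))))))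
 (.split 2 6
 (.rel 0 2 (.rel 0 4 (.rel 0 6 (.rel 0 14 (.rel 0 9 (.rel 0 12 (.inj 2 (.inj 4 (.inj 5 (.inj 6 (.inj 9 (.inj 12 (.inj 14 (.octad 632881 1302533 (.contra 5)))))))))))))))
 (.split 2 8
 (.rel 0 2 (.rel 0 4 (.rel 0 6 (.rel 0 14 (.rel 0 9 (.rel 0 12 (.inj 2 (.inj 4 (.inj 5 (.inj 6 (.inj 9 (.inj 12 (.inj 14 (.octad 57883 9347075 (.contra 4)))))))))))))))
 (.split 2 9
 (.rel 0 2 (.rel 0 4 (.rel 0 6 (.rel 0 14 (.rel 0 9 (.rel 0 12 (.inj 2 (.inj 4 (.inj 5 (.inj 6 (.inj 9 (.inj 12 (.inj 14 (.octad 1302533 1302533 (.contra 2)))))))))))))))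
 (.split 2 11
 (.rel 0 2 (.rel 0 4 (.rel 0 6 (.rel 0 14 (.rel 0 9 (.rel 0 12 (.inj 2 (.inj 4 (.inj 5 (.inj 6 (.inj 9 (.inj 12 (.inj 14 (.octad 3719203 9347075 (.contra 12)))))))))))))))
 (.split 2 12
 (.rel 0 2 (.rel 0 4 (.rel 0 6 (.rel 0 14 (.rel 0 9 (.rel 0 12 (.inj 2 (.inj 4 (.inj 5 (.inj 6 (.inj 9 (.inj 12 (.inj 14 (.octad 4563017 1302533 (.contra 12)))))))))))))))
 (.split 2 14
 (.rel 0 2 (.rel 0 4 (.rel 0 6 (.rel 0 14 (.rel 0 9 (.rel 0 12 (.inj 2 (.inj 4 (.inj 5 (.inj 6 (.inj 9 (.inj 12 (.inj 14 (.octad 1302533 1302533 (.contra 9)))))))))))))))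
 (.split 2 17
 (.rel 0 2 (.rel 0 4 (.rel 0 6 (.rel 0 14 (.rel 0 9 (.rel 0 12 (.inj 2 (.contra 4))))))))
 (.split 2 18
 (.rel 0 2 (.rel 0 4 (.rel 0 6 (.rel 0 14 (.rel 0 9 (.rel 0 12 (.inj 2 (.inj 4 (.inj 5 (.inj 6 (.inj 9 (.inj 12 (.inj 14 (.octad 12656663 9347075 (.contra 12)))))))))))))))
 (.octad 99029 14254209 (.split 2 19
 (.rel 0 2 (.contra 4))
 (.octad 371206 9543722 (.octad 6857221 11575377 (.octad 2183687 11731203 (.octad 11575377 6857221 (.octad 2162811 7145475 (.split 2 20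
 (.rel 0 2 (.contra 4))
 (.rel 0 2 (.contra 4)))))))))))))))))))))))))))))))))))

def certC2 : Cert2 :=
 (.rel 0 0 (.rel 0 1 (.rel 0 2 (.rel 0 4 (.rel 0 6 (.rel 0 14 (.rel 0 16 (.rel 0 7 (.rel 0 9 (.rel 0 12 (.rel 0 21 (.rel 0 13 (.inj 0 (.inj 1 (.inj 2 (.inj 4 (.inj 5 (.inj 6 (.inj 7 (.inj 9 (.inj 10 (.inj 12 (.inj 13 (.inj 14 (.inj 16 (.inj 21 (.octad 1302533 1302533 (.octad 11100169 11100169 (.octad 3416079 3416079 (.rel 0 18 (.rel 0 19 (.rel 0 11 (.rel 0 8 (.rel 0 22 (.octad 11952160 11952160 .done)))))))))))))))))))))))))))))))))))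


theorem levelsC_bounds : Bounds cent7 [] levelsC := by
  simp only [levelsC, Bounds]
  refine ⟨?_, ?_, ?_⟩
  · intro g hg
    rw [idx_apply_pt_eq (by decide)]
    exact mem_orb_of_cert (cent7_le hg.1) (rels_of_mem_cent hg.1) (F := FC0) (by decide)
      (fixG_gPt hg (by decide)) (c := certC0) (by decide +kernel)
  · intro g hg
    rw [idx_apply_pt_eq (by decide)]
    exact mem_orb_of_cert (cent7_le hg.1) (rels_of_mem_cent hg.1) (F := FC1) (by decide)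
      (fixG_gPt hg (by decide)) (c := certC1) (by decide +kernel)
  · intro g hg
    exact eq_one_of_cert (cent7_le hg.1) (rels_of_mem_cent hg.1) (F := FC2) (by decide)
      (fixG_gPt hg (by decide)) (c := certC2) (by decide +kernel)

theorem card_cent7_eq : Nat.card cent7 = 42 := by
  have := chain_card tabled_levelsC levelsC_chainOK levelsC_bounds
  rw [fixG_nil] at this
  rw [this]
  decide +kernel

/-! ### two non-commuting elements of the centraliser -/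

def witA : List ℕ × List ℕ := ([0,1,22,17,23,8,20,7,5,19,10,12,11,13,18,15,16,3,14,9,6,21,2,4], [0,1,22,17,23,8,20,7,5,19,10,12,11,13,18,15,16,3,14,9,6,21,2,4])
def witB : List ℕ × List ℕ := ([2,4,1,15,16,0,7,14,18,13,5,20,10,12,21,3,6,17,22,23,8,9,19,11], [5,2,0,15,1,10,16,6,20,21,12,23,13,9,7,3,4,17,8,22,11,14,18,19])

theorem witA_ok : tabOKC witA = true := by decide +kernel
theorem witB_ok : tabOKC witB = true := by decide +kernel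

theorem exists_noncomm : ∃ x ∈ Subgroup.centralizer (S0 : Set ↥M24),
    ∃ y ∈ Subgroup.centralizer (S0 : Set ↥M24), x * y ≠ y * x := by
  have hA := witA_ok
  have hB := witB_ok
  simp only [tabOKC, Bool.and_eq_true, decide_eq_true_eq, beq_iff_eq] at hA hB
  obtain ⟨⟨⟨a1, a2⟩, a3⟩, a4⟩ := hA
  obtain ⟨⟨⟨b1, b2⟩, b3⟩, b4⟩ := hB
  have ca := conj_of_tables a1 a2 a4
  have cb := conj_of_tables b1 b2 b4
  rw [pow_one] at ca cb
  refine ⟨⟨permOfTabs witA.1 witA.2, permOfTabs_mem_M24 a1 a2⟩, mem_centralizer_zpowers ca,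
    ⟨permOfTabs witB.1 witB.2, permOfTabs_mem_M24 b1 b2⟩, mem_centralizer_zpowers cb, ?_⟩
  intro h
  have h1 := congrArg Subtype.val h
  simp only [Subgroup.coe_mul] at h1
  have hva := validTab_of_isInvPair a1
  have hvb := validTab_of_isInvPair b1
  have tab1 := (isTab_permOfTabs a1).mul (isTab_permOfTabs b1) hvb.1
  have tab2 := (isTab_permOfTabs b1).mul (isTab_permOfTabs a1) hva.1
  rw [h1] at tab1
  have e1 := tab1 0 (by decide)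
  have e2 := tab2 0 (by decide)
  rw [e1] at e2
  have e3 := gPt_injOn (by decide +kernel) (by decide +kernel) e2
  revert e3
  decide +kernel

/-! ### the statement -/

theorem fact7 : (Nat.card ↥M24).factorization 7 = 1 := by
  have hcard : Nat.card ↥M24 = 244823040 := card_M24
  rw [hcard]
  have hp : Nat.Prime 7 := by norm_num
  apply le_antisymm
  · by_contra hlt
    have h2 : 2 ≤ (244823040 : ℕ).factorization 7 := by omega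
    have := (hp.pow_dvd_iff_le_factorization (by norm_num)).2 h2
    revert this
    decide
  · exact (hp.pow_dvd_iff_le_factorization (by norm_num)).1 (by decide)

/-- For a subgroup S of order 7 of the group of the length-24 code (a Sylow 7-subgroup): the normaliser of S has order 126, the centraliser of S has order 42 and is non-abelian, and the whole normaliser leaves some trio invariant. (These are the orders of a Frobenius group of order 21 times a symmetric group of degree 3; the isomorphism type itself is not asserted here.) -/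
theorem result (S : Subgroup ↥Cfsg.M24) (hS : Nat.card S = 7) : Nat.card ↥(Subgroup.normalizer (S : Set ↥Cfsg.M24)) = 126 ∧ Nat.card ↥(Subgroup.centralizer (S : Set ↥Cfsg.M24)) = 42 ∧ (∃ x ∈ Subgroup.centralizer (S : Set ↥Cfsg.M24), ∃ y ∈ Subgroup.centralizer (S : Set ↥Cfsg.M24), x * y ≠ y * x) ∧ ∃ T ∈ Cfsg.trios, ∀ n ∈ Subgroup.normalizer (S : Set ↥Cfsg.M24), ((n : ↥Cfsg.M24) : Equiv.Perm Cfsg.GolayPt) • T = T := by
  haveI : Fact (Nat.Prime 7) := ⟨by norm_num⟩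
  let P : Sylow 7 ↥M24 := Sylow.ofCard S (by rw [hS, fact7, pow_one])
  let P0 : Sylow 7 ↥M24 := Sylow.ofCard S0 (by rw [card_S0, fact7, pow_one])
  obtain ⟨g, hg⟩ := MulAction.exists_smul_eq ↥M24 P P0
  have hmem : ∀ x, x ∈ S ↔ g * x * g⁻¹ ∈ S0 := by
    intro x
    have h1 : (P0 : Subgroup ↥M24) = MulAut.conj g • (P : Subgroup ↥M24) := by
      rw [← hg]; rfl
    have h2 : (P0 : Subgroup ↥M24) = S0 := rfl
    have h3 : (P : Subgroup ↥M24) = S := rfl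
    rw [← h2, h1, h3, Subgroup.mem_pointwise_smul_iff_inv_smul_mem]
    have e : (MulAut.conj g)⁻¹ • (g * x * g⁻¹) = x := by
      rw [← map_inv, MulAut.smul_def, MulAut.conj_apply]
      group
    rw [e]
  obtain ⟨hN, hC⟩ := conj_transport hmem
  refine ⟨?_, ?_, ?_, ?_⟩
  · rw [← card_norm7_eq, card_norm7]
    exact Nat.card_congr (conjEquiv g hN)
  · rw [← card_cent7_eq, card_cent7]
    exact Nat.card_congr (conjEquiv g hC)
  · obtain ⟨x0, hx0, y0, hy0, hxy⟩ := exists_noncomm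
    refine ⟨g⁻¹ * x0 * g, (hC _).2 ?_, g⁻¹ * y0 * g, (hC _).2 ?_, ?_⟩
    · have : g * (g⁻¹ * x0 * g) * g⁻¹ = x0 := by group
      rw [this]; exact hx0
    · have : g * (g⁻¹ * y0 * g) * g⁻¹ = y0 := by group
      rw [this]; exact hy0
    · intro h
      apply hxy
      calc x0 * y0 = g * ((g⁻¹ * x0 * g) * (g⁻¹ * y0 * g)) * g⁻¹ := by group
        _ = g * ((g⁻¹ * y0 * g) * (g⁻¹ * x0 * g)) * g⁻¹ := by rw [h]
        _ = y0 * x0 := by group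
  · refine ⟨((g⁻¹ : ↥M24) : Equiv.Perm GolayPt) • smL trio0,
      smul_mem_trios (g⁻¹ : ↥M24).2 trio0_mem, ?_⟩
    intro n hn
    have h1 : ((g * n * g⁻¹ : ↥M24) : Equiv.Perm GolayPt) ∈ norm7 :=
      ⟨g * n * g⁻¹, (hN n).1 hn, rfl⟩
    have h2 : ((g * n * g⁻¹ : ↥M24) : Equiv.Perm GolayPt) • smL trio0 = smL trio0 :=
      norm7_le_stab h1
    have h3 : ((n : ↥M24) : Equiv.Perm GolayPt) =
        ((g⁻¹ : ↥M24) : Equiv.Perm GolayPt) * ((g * n * g⁻¹ : ↥M24) : Equiv.Perm GolayPt) *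
          ((g : ↥M24) : Equiv.Perm GolayPt) := by
      simp only [Subgroup.coe_mul, Subgroup.coe_inv]
      group
    rw [h3, mul_smul, mul_smul]
    have h4 : ((g : ↥M24) : Equiv.Perm GolayPt) • ((g⁻¹ : ↥M24) : Equiv.Perm GolayPt) • smL trio0
        = smL trio0 := by
      rw [Subgroup.coe_inv, smul_inv_smul]
    rw [h4, h2]

end Cfsg.Agent.S5604
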