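import Cfsg.Statements.S5608
import Cfsg.Agent.Helper92.ConjNorm

set_option autoImplicit false
open Cfsg

namespace Cfsg.Agent.S5608

open Cfsg.Agent.Helper27 Cfsg.Agent.Helper7 Cfsg.Agent.Helper92

/-- the property of the table of an element `g` of order 6: fixed points of `g ^ 4`, `g ^ 3` -/
def Q6 (tab : List ℕ) : Bool :=
  validTab tab &&
    ((fixCount (powTab tab 4) == 6 && fixCount (powTab tab 3) == 8) ||
      (fixCount (powTab tab 4) == 0 && fixCount (powTab tab 3) == 0))

def presA : List (ℕ × ℕ) := [(23, 0), (0, 1), (1, 2), (2, 3)]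
def presB : List (ℕ × ℕ) := [(23, 0), (0, 23), (1, 2), (2, 3), (3, 1)]

def certA : Cert :=
(.inj 0 (.inj 1 (.inj 2 (.inj 23 (.split 3 4
 (.inj 3 (.cyc 23 (.inj 4 (.octad 9963547 12656663 (.octad 12656663 8536111 (.octad 9968772 4563017 (.octad 1869893 6365962 (.octad 3672838 5842956 (.split 5 7
 (.inj 5 (.octad 5770785 5709954 (.octad 13636881 9347075 (.octad 13703682 1302533 (.cyc 9 (.inj 6 (.octad 9537812 11100169 (.cyc 10 (.inj 17 .done)))))))))
 (.split 5 10
 (.inj 5 (.octad 1849378 6644740 (.octad 2634003 10305542 (.octad 11282452 11100169 (.octad 10557585 9347075 (.cyc 8 (.inj 6 (.cyc 7 (.inj 14 .done)))))))))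
 (.inj 5 (.octad 4343317 8963210 (.octad 8922769 9347075 (.octad 16262146 1302533 (.cyc 21 (.inj 6 (.octad 11669008 14254209 (.cyc 8 (.inj 15 .done)))))))))))))))))))
 (.split 3 5
 (.inj 3 (.cyc 23 (.inj 5 (.octad 8536111 8536111 (.split 14 14
 (.inj 14 (.split 4 4
 (.inj 4 (.octad 442481 13811730 (.octad 8421811 12656663 (.octad 9486564 11100169 (.contra 6)))))
 (.split 4 6
 (.inj 4 (.octad 8546577 6447171 (.octad 797449 6594610 (.octad 987906 5210132 (.octad 352547 10305542 (.contra 8))))))
 (.split 4 7
 (.inj 4 (.octad 2245426 13262980 (.octad 10832640 6053905 (.octad 855332 16056344 (.octad 15335473 9347075 (.contra 4))))))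
 (.split 4 8
 (.inj 4 (.octad 15335473 11731203 (.octad 8126628 16056344 (.octad 13911680 6053905 (.octad 8783649 9347075 (.octad 13811730 1302533 (.contra 4)))))))
 (.split 4 9
 (.inj 4 (.octad 1188915 15073798 (.octad 3189796 16056344 (.octad 1618953 6594610 (.octad 15335473 9347075 (.contra 4))))))
 (.split 4 10
 (.inj 4 (.octad 8966165 5325835 (.octad 1675812 16056344 (.octad 3246601 6594610 (.octad 15335473 9347075 (.contra 4))))))
 (.split 4 11
 (.inj 4 (.octad 8937586 15747077 (.octad 535268 16056344 (.octad 2296514 5210132 (.octad 10846245 9347075 (.contra 2))))))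
 (.split 4 12
 (.inj 4 (.octad 8541360 13062145 (.octad 668866 5210132 (.octad 2168036 16056344 (.octad 9347075 9347075 (.contra 1))))))
 (.split 4 13
 (.inj 4 (.octad 15335473 9347075 (.octad 13811730 1302533 (.octad 12861748 11100169 (.contra 22)))))
 (.split 4 15
 (.inj 4 (.octad 15335473 9347075 (.octad 13811730 1302533 (.octad 12861748 11100169 (.contra 4)))))
 (.split 4 16
 (.inj 4 (.octad 13811730 1302533 (.octad 4216883 10305542 (.octad 12861748 11100169 (.contra 22)))))
 (.split 4 18
 (.inj 4 (.octad 15335473 9347075 (.octad 4216883 10305542 (.octad 12861748 11100169 (.contra 4)))))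
 (.split 4 19
 (.inj 4 (.octad 15335473 9347075 (.octad 4216883 10305542 (.octad 12861748 11100169 (.contra 22)))))
 (.octad 8937586 15747077 (.split 4 20
 (.inj 4 (.octad 13811730 1302533 (.octad 4216883 10305542 (.octad 12861748 11100169 (.contra 4)))))
 (.octad 1065303 6832158 (.octad 10698836 6447171 (.contra 0)))))))))))))))))))
 (.inj 14 (.split 4 4
 (.inj 4 (.octad 442481 13811730 (.octad 8421811 12656663 (.octad 10619300 11100169 (.octad 3050016 15515712 (.octad 9193633 9347075 (.octad 8694112 14254209 (.octad 2890176 4038912 (.octad 3328320 8077824 (.octad 15515712 7767041 (.cyc 11 (.inj 10 .done))))))))))))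
 (.split 4 6
 (.inj 4 (.octad 8546577 6447171 (.octad 797449 6594610 (.octad 2908802 5210132 (.octad 2494627 10305542 (.octad 9193633 9347075 (.octad 11055264 14254209 (.octad 2890176 4038912 (.cyc 9 (.inj 16 (.octad 9204992 7767041 (.octad 6842656 14919680 .done))))))))))))
 (.split 4 7
 (.inj 4 (.octad 2245426 13262980 (.octad 11150144 6053905 (.octad 535268 16056344 (.octad 10506593 9347075 (.octad 11163650 1302533 (.cyc 4 (.contra 7))))))))
 (.split 4 8
 (.inj 4 (.octad 9519665 11731203 (.octad 1675812 16056344 (.octad 13276672 6053905 (.octad 12641313 9347075 (.octad 8611330 1302533 (.octad 5939296 15515712 (.octad 13443616 14254209 (.octad 8077824 8077824 (.octad 10021376 7767041 (.cyc 11 (.inj 7 .done))))))))))))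
 (.split 4 9
 (.inj 4 (.octad 4216883 15073798 (.octad 5249380 16056344 (.octad 5511305 6594610 (.octad 9193633 9347075 (.octad 9310308 11100169 (.octad 4921504 15515712 (.octad 13108704 14254209 (.octad 2890176 4038912 (.cyc 12 (.inj 9 (.octad 12638592 7767041 .done))))))))))))
 (.split 4 10
 (.inj 4 (.octad 9830549 5325835 (.octad 8126628 16056344 (.octad 7864649 6594610 (.octad 10506593 9347075 (.octad 9310308 11100169 (.octad 3806496 15515712 (.cyc 7 (.contra 6)))))))))
 (.split 4 11
 (.inj 4 (.octad 8849458 15747077 (.octad 855332 16056344 (.octad 2704706 5210132 (.octad 10506593 9347075 (.octad 11163650 1302533 (.octad 6750560 15515712 (.cyc 6 (.contra 19)))))))))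
 (.split 4 12
 (.inj 4 (.octad 8541360 13062145 (.octad 351362 5210132 (.octad 2168036 16056344 (.octad 9193633 9347075 (.octad 11163650 1302533 (.octad 1445088 15515712 (.octad 14949408 14254209 (.cyc 10 (.inj 13 (.octad 2890176 4038912 (.octad 2512448 8077824 .done))))))))))))
 (.split 4 13
 (.inj 4 (.octad 9519665 9347075 (.octad 13811730 1302533 (.octad 8561204 11100169 (.octad 12780432 6053905 (.octad 1256224 15515712 (.cyc 8 (.inj 18 (.octad 15762208 14254209 (.cyc 4 (.contra 13)))))))))))
 (.split 4 15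
 (.inj 4 (.octad 9519665 9347075 (.octad 13811730 1302533 (.octad 13829156 11100169 (.octad 9929280 6053905 (.octad 722544 15515712 (.cyc 6 (.contra 22))))))))
 (.split 4 16
 (.inj 4 (.octad 13811730 1302533 (.octad 1188915 10305542 (.octad 8561204 11100169 (.octad 9610624 6053905 (.octad 6432416 15515712 (.octad 13641904 14254209 (.cyc 11 (.inj 19 (.octad 5350928 4038912 (.octad 1204944 8077824 (.octad 13911680 7767041 .done))))))))))))
 (.split 4 18
 (.inj 4 (.octad 9519665 9347075 (.octad 1188915 10305542 (.octad 13829156 11100169 (.octad 10170384 6053905 (.octad 5640752 15515712 (.cyc 10 (.contra 4))))))))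
 (.split 4 19
 (.inj 4 (.octad 9519665 9347075 (.octad 1188915 10305542 (.octad 8561204 11100169 (.octad 11669008 6053905 (.octad 3375280 15515712 (.cyc 9 (.inj 22 (.octad 10560816 14254209 (.octad 5350928 4038912 (.contra 22)))))))))))
 (.octad 8849458 15747077 (.split 4 20
 (.inj 4 (.octad 13811730 1302533 (.octad 1188915 10305542 (.octad 13829156 11100169 (.octad 12985424 6053905 (.octad 504864 15515712 (.cyc 12 (.inj 21 (.octad 10257456 14254209 (.octad 5350928 4038912 (.octad 1525008 8077824 .done)))))))))))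
 (.octad 2263063 6832158 (.octad 8546577 6447171 (.octad 8407702 6488205 (.octad 4216883 15073798 (.octad 1722420 14828808 (.split 4 21
 (.inj 4 (.octad 8561204 11100169 (.octad 12641313 9347075 (.octad 8611330 1302533 (.cyc 8 (.inj 20 .done))))))
 (.inj 4 (.octad 10619300 11100169 (.octad 10506593 9347075 (.cyc 6 (.contra 7))))))))))))))))))))))))))))))))
 (.split 3 6
 (.inj 3 (.cyc 23 (.inj 6 (.octad 11010247 8536111 (.octad 4196943 8683614 (.octad 12594948 2916505 (.octad 13703682 304405 (.octad 12733024 12880401 (.split 4 12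
 (.inj 4 (.octad 2392899 10305542 (.octad 9440193 9347075 (.octad 11797828 11100169 (.cyc 11 (.inj 17 (.octad 15762208 6053905 (.cyc 8 (.inj 12 .done)))))))))
 (.split 4 16
 (.inj 4 (.octad 4860434 5210132 (.octad 13121601 9347075 (.octad 13373586 1302533 (.octad 8401364 11100169 (.octad 4536592 4038912 (.cyc 9 (.inj 5 .done))))))))
 (.inj 4 (.octad 12656663 3416079 (.octad 14747201 9347075 (.octad 11108882 1302533 (.cyc 9 (.inj 17 (.octad 13192208 6053905 (.cyc 8 (.inj 20 .done)))))))))))))))))))
 (.split 3 7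
 (.inj 3 (.cyc 23 (.inj 7 (.octad 11010247 8536111 (.octad 8716939 11010247 (.octad 8721940 7864649 (.octad 371206 2949708 (.octad 5571333 2664522 (.split 4 8
 (.inj 4 (.octad 12604486 5275709 (.octad 16262146 1302533 (.octad 14254209 9347075 (.cyc 10 (.inj 17 (.cyc 6 (.inj 18 .done))))))))
 (.split 4 20
 (.inj 4 (.octad 12656663 3416079 (.octad 14950785 9347075 (.octad 14682450 1302533 (.cyc 4 (.inj 17 (.octad 12985424 6053905 (.cyc 10 (.inj 5 .done)))))))))
 (.inj 4 (.octad 8421811 12656663 (.octad 9208708 11100169 (.octad 9998658 1302533 (.cyc 12 (.inj 17 (.octad 9440193 9347075 .done)))))))))))))))))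
 (.split 3 8
 (.inj 3 (.cyc 23 (.inj 8 (.octad 8657159 8536111 (.octad 8536111 622863 (.octad 9158944 14254209 (.octad 5390753 11108882 (.octad 2245426 9020484 (.split 4 6
 (.inj 4 (.octad 1722420 1687640 (.octad 657763 10305542 (.octad 10506593 9347075 (.octad 10619300 11100169 (.octad 12126304 6053905 (.cyc 11 (.inj 13 .done))))))))
 (.split 4 10
 (.inj 4 (.octad 15073798 663645 (.octad 8783649 9347075 (.cyc 22 (.inj 19 (.octad 8704546 1302533 (.octad 9589508 11100169 (.cyc 11 (.inj 6 .done)))))))))
 (.inj 4 (.octad 12656663 3416079 (.octad 8546577 9347075 (.octad 8849458 1302533 (.octad 8773776 6053905 (.octad 4645632 15515712 (.cyc 11 (.inj 10 .done))))))))))))))))))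
 (.split 3 9
 (.inj 3 (.cyc 23 (.inj 9 (.octad 9471495 8536111 (.octad 10486557 8716939 (.octad 2634003 2425238 (.octad 2425238 1410188 (.octad 2245426 12912836 (.split 4 7
 (.inj 4 (.octad 2392899 10305542 (.octad 10525252 11100169 (.octad 9440193 9347075 (.cyc 22 (.inj 5 (.octad 8694112 6053905 (.cyc 6 (.inj 17 .done)))))))))
 (.split 4 16
 (.inj 4 (.octad 8524371 12656663 (.octad 14156372 11100169 (.octad 14747201 9347075 (.cyc 10 (.inj 18 (.cyc 6 (.inj 14 .done))))))))
 (.inj 4 (.octad 12656663 3416079 (.octad 12880401 9347075 (.octad 12944642 1302533 (.cyc 22 (.inj 14 (.octad 13192208 6053905 (.cyc 6 (.inj 5 .done)))))))))))))))))))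
 (.split 3 10
 (.inj 3 (.cyc 23 (.inj 10 (.octad 9471495 8536111 (.octad 10554382 13370381 (.octad 7145475 4989254 (.octad 2173253 6062602 (.octad 10557585 7145475 (.split 4 11
 (.inj 4 (.octad 9968772 11100169 (.octad 11046145 9347075 (.octad 9998658 1302533 (.cyc 4 (.inj 5 (.octad 7409024 15515712 (.cyc 7 (.inj 17 .done)))))))))
 (.split 4 16
 (.inj 4 (.octad 3237906 5210132 (.octad 9776129 9347075 (.octad 9708306 1302533 (.octad 8721940 11100169 (.cyc 6 (.inj 19 (.cyc 7 (.inj 5 .done)))))))))
 (.inj 4 (.octad 12656663 3416079 (.octad 14747201 9347075 (.octad 12624578 1302533 (.cyc 12 (.inj 5 (.octad 14919680 6053905 (.cyc 6 (.inj 18 .done)))))))))))))))))))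
 (.split 3 11
 (.inj 3 (.cyc 23 (.inj 11 (.octad 8657159 8536111 (.octad 8431757 9963547 (.octad 2204803 1613974 (.octad 190626 14156372 (.octad 12624578 3736597 (.split 4 8
 (.inj 4 (.octad 12656663 622863 (.octad 9776129 9347075 (.octad 12944642 1302533 (.cyc 22 (.inj 17 (.octad 12594948 11100169 (.cyc 6 (.inj 5 .done)))))))))
 (.split 4 12
 (.inj 4 (.octad 9968772 9748745 (.octad 10491778 1302533 (.octad 11046145 9347075 (.cyc 9 (.inj 17 (.octad 10525252 11100169 (.cyc 6 (.inj 14 .done)))))))))
 (.inj 4 (.octad 12656663 3416079 (.octad 10557585 9347075 (.octad 10825794 1302533 (.cyc 22 (.inj 14 (.octad 6703248 15515712 (.cyc 8 (.inj 19 .done)))))))))))))))))))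
 (.split 3 12
 (.inj 3 (.cyc 23 (.inj 12 (.octad 8657159 8536111 (.octad 9506893 14716939 (.octad 1647171 7438406 (.octad 9503954 6857221 (.octad 1265762 14714004 (.split 4 9
 (.inj 4 (.octad 8688833 9347075 (.octad 9968772 11100169 (.octad 9178690 1302533 (.cyc 10 (.inj 17 (.octad 8490656 6053905 (.cyc 8 (.inj 21 .done)))))))))
 (.split 4 13
 (.inj 4 (.octad 12656663 3416079 (.octad 13636881 9347075 (.octad 9708306 1302533 (.cyc 10 (.inj 14 (.octad 12985424 6053905 (.cyc 8 (.inj 15 .done)))))))))
 (.inj 4 (.octad 3216208 15515712 (.octad 10557585 9347075 (.octad 8401364 11100169 (.cyc 10 (.inj 5 (.octad 12075408 6053905 (.cyc 8 (.inj 22 .done)))))))))))))))))))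
 (.split 3 13
 (.inj 3 (.cyc 23 (.inj 13 (.octad 8536111 3416079 (.octad 8398155 12656663 (.octad 4415544 11952160 (.octad 190626 11797828 (.octad 684577 11831426 (.split 4 5
 (.inj 4 (.octad 13303882 1302533 (.octad 11100169 9347075 (.octad 6842656 15515712 (.cyc 10 (.inj 15 (.octad 11150144 14254209 (.cyc 9 (.inj 18 .done)))))))))
 (.split 4 14
 (.inj 4 (.octad 9462812 11100169 (.octad 13771273 9347075 (.octad 1204944 15515712 (.octad 9451104 14254209 (.cyc 10 (.inj 11 (.cyc 9 (.inj 21 .done)))))))))
 (.inj 4 (.octad 8663097 9347075 (.octad 8474906 1302533 (.octad 504864 15515712 (.cyc 12 (.inj 21 (.octad 9204992 14254209 (.cyc 8 (.inj 11 .done)))))))))))))))))))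
 (.split 3 14
 (.inj 3 (.cyc 23 (.inj 14 (.octad 8536111 8536111 (.split 5 5
 (.inj 5 (.split 4 4
 (.inj 4 (.octad 3297305 13811730 (.octad 10765331 12656663 (.octad 13370381 11100169 (.contra 0)))))
 (.split 4 6
 (.inj 4 (.octad 8619033 6447171 (.octad 1148257 6594610 (.octad 5375810 5210132 (.octad 57883 10305542 (.contra 4))))))
 (.split 4 7
 (.inj 4 (.octad 150618 13262980 (.octad 13667400 6053905 (.octad 5817604 16056344 (.octad 10110017 9347075 (.contra 10))))))
 (.split 4 8
 (.inj 4 (.octad 8546577 11731203 (.octad 1337732 16056344 (.octad 10232008 6053905 (.octad 10110017 9347075 (.octad 10625178 1302533 (.contra 4)))))))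
 (.split 4 9
 (.inj 4 (.octad 737427 15073798 (.octad 2738308 16056344 (.octad 2687905 6594610 (.octad 10666625 9347075 (.contra 8))))))
 (.split 4 10
 (.inj 4 (.octad 10486557 5325835 (.octad 6308804 16056344 (.octad 6326497 6594610 (.octad 10666625 9347075 (.contra 9))))))
 (.split 4 11
 (.inj 4 (.octad 8474906 15747077 (.octad 381252 16056344 (.octad 4626498 5210132 (.octad 15747077 9347075 (.contra 2))))))
 (.split 4 12
 (.inj 4 (.octad 9323032 13062145 (.octad 987906 5210132 (.octad 5003780 16056344 (.octad 11731203 9347075 (.contra 1))))))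
 (.split 4 13
 (.inj 4 (.octad 8546577 9347075 (.octad 10625178 1302533 (.octad 9462812 11100169 (.contra 13)))))
 (.split 4 15
 (.inj 4 (.octad 8546577 9347075 (.octad 10625178 1302533 (.octad 9462812 11100169 (.contra 4)))))
 (.split 4 16
 (.inj 4 (.octad 10625178 1302533 (.octad 57883 10305542 (.octad 9462812 11100169 (.contra 13)))))
 (.split 4 18
 (.inj 4 (.octad 8546577 9347075 (.octad 57883 10305542 (.octad 9462812 11100169 (.contra 4)))))
 (.split 4 19
 (.inj 4 (.octad 8546577 9347075 (.octad 57883 10305542 (.octad 9462812 11100169 (.contra 13)))))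
 (.octad 8474906 15747077 (.split 4 20
 (.inj 4 (.octad 10625178 1302533 (.octad 57883 10305542 (.octad 9462812 11100169 (.contra 4)))))
 (.octad 5279 6832158 (.octad 8619033 6447171 (.contra 10)))))))))))))))))))
 (.inj 5 (.split 4 4
 (.inj 4 (.octad 542009 13811730 (.octad 10765331 12656663 (.octad 10768524 11100169 (.octad 1070536 15515712 (.octad 10506593 9347075 (.cyc 12 (.inj 16 (.octad 9204992 14254209 (.octad 2890176 4038912 (.octad 792232 8077824 (.octad 13108704 7767041 .done))))))))))))
 (.split 4 6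
 (.inj 4 (.octad 8663097 6447171 (.octad 1454401 6594610 (.octad 3154402 5210132 (.octad 2115979 10305542 (.octad 10506593 9347075 (.octad 10513600 14254209 (.octad 2890176 4038912 (.cyc 8 (.contra 18))))))))))
 (.split 4 7
 (.inj 4 (.octad 1327290 13262980 (.octad 10232008 6053905 (.octad 3698756 16056344 (.octad 9193633 9347075 (.octad 8394986 1302533 (.octad 3951624 15515712 (.octad 2890176 4038912 (.octad 3444840 8077824 (.octad 12126304 7767041 (.cyc 12 (.inj 22 .done))))))))))))
 (.split 4 8
 (.inj 4 (.octad 9519665 11731203 (.octad 1134148 16056344 (.octad 13667400 6053905 (.octad 12641313 9347075 (.octad 9543722 1302533 (.octad 4744776 15515712 (.octad 13721920 14254209 (.octad 5309160 8077824 (.cyc 11 (.inj 21 (.octad 9451104 7767041 .done))))))))))))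
 (.split 4 9
 (.inj 4 (.octad 4216883 15073798 (.octad 5003780 16056344 (.octad 6429441 6594610 (.octad 10506593 9347075 (.octad 8931660 11100169 (.octad 6379592 15515712 (.octad 15515712 14254209 (.octad 2890176 4038912 (.cyc 11 (.inj 13 (.octad 14949408 7767041 .done))))))))))))
 (.split 4 10
 (.inj 4 (.octad 10486557 5325835 (.octad 6308804 16056344 (.octad 5112513 6594610 (.octad 9193633 9347075 (.octad 8931660 11100169 (.octad 314056 15515712 (.cyc 7 (.inj 20 (.octad 11952160 14254209 (.contra 5)))))))))))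
 (.split 4 11
 (.inj 4 (.octad 8474906 15747077 (.octad 381252 16056344 (.octad 884962 5210132 (.octad 9193633 9347075 (.octad 8394986 1302533 (.octad 5063048 15515712 (.octad 8999616 14254209 (.cyc 9 (.inj 13 (.octad 2890176 4038912 (.octad 9769376 7767041 .done))))))))))))
 (.split 4 12
 (.inj 4 (.octad 10537016 13062145 (.octad 2201890 5210132 (.octad 2738308 16056344 (.octad 10506593 9347075 (.octad 8394986 1302533 (.cyc 11 (.inj 22 (.octad 2675464 15515712 (.octad 12638592 14254209 (.contra 22)))))))))))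
 (.split 4 13
 (.inj 4 (.octad 9519665 9347075 (.octad 12584506 1302533 (.octad 9462812 11100169 (.octad 16056344 6053905 (.octad 1405448 15515712 (.cyc 10 (.inj 19 (.octad 13911680 14254209 (.octad 5350928 4038912 (.octad 5514536 8077824 (.octad 290352 14919680 .done))))))))))))
 (.split 4 15
 (.inj 4 (.octad 9519665 9347075 (.octad 12584506 1302533 (.octad 12698124 11100169 (.octad 10028808 6053905 (.octad 1687640 15515712 (.octad 13192208 14254209 (.octad 5350928 4038912 (.cyc 9 (.inj 21 (.octad 10257456 7767041 (.octad 4768432 14919680 .done))))))))))))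
 (.split 4 16
 (.inj 4 (.octad 12584506 1302533 (.octad 57883 10305542 (.octad 9462812 11100169 (.octad 10790408 6053905 (.octad 7397512 15515712 (.cyc 9 (.contra 18))))))))
 (.split 4 18
 (.inj 4 (.octad 9519665 9347075 (.octad 57883 10305542 (.octad 12698124 11100169 (.cyc 13 (.contra 20))))))
 (.split 4 19
 (.inj 4 (.octad 9519665 9347075 (.octad 57883 10305542 (.octad 9462812 11100169 (.cyc 13 (.contra 16))))))
 (.octad 8474906 15747077 (.split 4 20
 (.inj 4 (.octad 12584506 1302533 (.octad 57883 10305542 (.octad 12698124 11100169 (.octad 13148440 6053905 (.octad 126216 15515712 (.octad 8439632 14254209 (.octad 5350928 4038912 (.cyc 4 (.contra 18))))))))))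
 (.octad 5279 6832158 (.octad 8663097 6447171 (.octad 11538486 6488205 (.octad 4216883 15073798 (.octad 21116 14828808 (.split 4 21
 (.inj 4 (.octad 9462812 11100169 (.octad 12641313 9347075 (.cyc 10 (.inj 6 (.octad 9543722 1302533 .done))))))
 (.inj 4 (.octad 10768524 11100169 (.octad 9193633 9347075 (.cyc 7 (.contra 16))))))))))))))))))))))))))))))))
 (.split 3 15
 (.inj 3 (.cyc 23 (.inj 15 (.octad 9471495 8536111 (.octad 622863 8683614 (.octad 8536111 622863 (.octad 14716939 9471495 (.octad 8683614 8431757 (.split 4 7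
 (.inj 4 (.octad 9963547 4505735 (.octad 8946281 9347075 (.cyc 10 (.inj 22 (.octad 11551306 1302533 (.octad 9486564 11100169 (.cyc 4 (.inj 16 .done)))))))))
 (.split 4 11
 (.inj 4 (.octad 806987 1613974 (.octad 9748745 9347075 (.octad 9835530 1302533 (.cyc 12 (.inj 7 (.octad 8834052 11100169 (.cyc 9 (.inj 22 .done)))))))))
 (.inj 4 (.octad 8619033 9347075 (.octad 12584506 1302533 (.octad 8561204 11100169 (.octad 12780432 6053905 (.cyc 7 (.inj 18 (.cyc 9 (.inj 21 .done)))))))))))))))))))
 (.split 3 16
 (.inj 3 (.cyc 23 (.inj 16 (.octad 8716939 12656663 (.octad 12656663 8536111 (.octad 8536111 622863 (.octad 9506893 8716939 (.octad 622863 10554382 (.split 4 5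
 (.inj 4 (.octad 12871690 1302533 (.octad 13062145 9347075 (.octad 8855820 11100169 (.octad 2322816 15515712 (.cyc 9 (.inj 6 (.cyc 10 (.inj 15 .done)))))))))
 (.split 4 14
 (.inj 4 (.octad 2162811 10305542 (.octad 8593633 9347075 (.octad 8978620 11100169 (.octad 722544 15515712 (.cyc 9 (.inj 20 (.cyc 10 (.inj 8 .done)))))))))
 (.inj 4 (.octad 346141 13303882 (.octad 9519665 9347075 (.octad 12584506 1302533 (.cyc 10 (.inj 19 (.octad 12698124 11100169 (.cyc 7 (.inj 6 .done)))))))))))))))))))
 (.split 3 17
 (.inj 3 (.cyc 23 (.inj 17 (.octad 8536111 8536111 (.split 5 5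
 (.inj 5 (.split 4 4
 (.inj 4 (.octad 3297305 13811730 (.octad 8524371 12656663 (.octad 10698836 11100169 (.contra 4)))))
 (.split 4 6
 (.inj 4 (.octad 12599513 6447171 (.octad 6326497 6594610 (.octad 2664522 5210132 (.octad 9347075 10305542 (.contra 14))))))
 (.split 4 7
 (.inj 4 (.octad 150618 13262980 (.octad 10513600 6053905 (.octad 2531524 16056344 (.octad 8619033 9347075 (.contra 4))))))
 (.split 4 8
 (.inj 4 (.octad 8619033 11731203 (.octad 2328324 16056344 (.octad 10832640 6053905 (.octad 10881097 9347075 (.octad 13303882 1302533 (.contra 14)))))))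
 (.split 4 9
 (.inj 4 (.octad 4587803 15073798 (.octad 4593028 16056344 (.octad 5017889 6594610 (.octad 9347075 9347075 (.contra 1))))))
 (.split 4 10
 (.inj 4 (.octad 8966165 5325835 (.octad 702724 16056344 (.octad 15777 6594610 (.octad 8619033 9347075 (.contra 4))))))
 (.split 4 11
 (.inj 4 (.octad 13811730 15747077 (.octad 5409412 16056344 (.octad 1060490 5210132 (.octad 13771273 9347075 (.contra 10))))))
 (.split 4 12
 (.inj 4 (.octad 9323032 13062145 (.octad 6062602 5210132 (.octad 1975812 16056344 (.octad 13009064 9347075 (.contra 0))))))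
 (.split 4 13
 (.inj 4 (.octad 8619033 9347075 (.octad 8474906 1302533 (.octad 10698836 11100169 (.contra 16)))))
 (.split 4 15
 (.inj 4 (.octad 8619033 9347075 (.octad 8474906 1302533 (.octad 10698836 11100169 (.contra 4)))))
 (.split 4 16
 (.inj 4 (.octad 8474906 1302533 (.octad 737427 10305542 (.octad 10698836 11100169 (.contra 16)))))
 (.split 4 18
 (.inj 4 (.octad 8619033 9347075 (.octad 737427 10305542 (.octad 10698836 11100169 (.contra 4)))))
 (.split 4 19
 (.inj 4 (.octad 8619033 9347075 (.octad 737427 10305542 (.octad 10698836 11100169 (.contra 16)))))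
 (.octad 13811730 15747077 (.split 4 20
 (.inj 4 (.octad 8474906 1302533 (.octad 737427 10305542 (.octad 10698836 11100169 (.contra 4)))))
 (.octad 1065303 6832158 (.octad 12599513 6447171 (.contra 6)))))))))))))))))))
 (.inj 5 (.split 4 4
 (.inj 4 (.octad 133817 13811730 (.octad 8524371 12656663 (.octad 9310308 11100169 (.octad 3050016 15515712 (.octad 10881097 9347075 (.octad 8796800 14254209 (.cyc 11 (.inj 20 (.octad 2890176 4038912 (.octad 792232 8077824 (.octad 15207048 7767041 .done))))))))))))
 (.split 4 6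
 (.inj 4 (.octad 8663097 6447171 (.octad 2422785 6594610 (.octad 2664522 5210132 (.octad 657763 10305542 (.octad 10881097 9347075 (.cyc 12 (.contra 19))))))))
 (.split 4 7
 (.inj 4 (.octad 692282 13262980 (.octad 11055264 6053905 (.octad 2531524 16056344 (.octad 9048457 9347075 (.octad 11272490 1302533 (.cyc 12 (.contra 18))))))))
 (.split 4 8
 (.inj 4 (.octad 8619033 11731203 (.octad 2328324 16056344 (.octad 15762208 6053905 (.octad 13771273 9347075 (.octad 9543722 1302533 (.octad 6432416 15515712 (.octad 14919680 14254209 (.octad 6915112 8077824 (.cyc 10 (.inj 18 (.octad 3351624 14919680 .done))))))))))))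
 (.split 4 9
 (.inj 4 (.octad 4587803 15073798 (.octad 4593028 16056344 (.octad 4476225 6594610 (.octad 10881097 9347075 (.octad 10619300 11100169 (.octad 6750560 15515712 (.octad 15864000 14254209 (.cyc 12 (.inj 15 (.octad 2890176 4038912 (.octad 12849992 7767041 .done))))))))))))
 (.split 4 10
 (.inj 4 (.octad 8391797 5325835 (.octad 6949956 16056344 (.octad 6837377 6594610 (.octad 9048457 9347075 (.octad 10619300 11100169 (.octad 3806496 15515712 (.octad 8592704 14254209 (.octad 2890176 4038912 (.octad 2101096 8077824 (.octad 2268296 14919680 .done)))))))))))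
 (.split 4 11
 (.inj 4 (.octad 8849458 15747077 (.octad 3610628 16056344 (.octad 3739786 5210132 (.octad 9048457 9347075 (.octad 11272490 1302533 (.cyc 12 (.contra 21))))))))
 (.split 4 12
 (.inj 4 (.octad 9568632 13062145 (.octad 1378634 5210132 (.octad 1769924 16056344 (.octad 10881097 9347075 (.octad 11272490 1302533 (.octad 1445088 15515712 (.octad 14551296 14254209 (.cyc 11 (.contra 21))))))))))
 (.split 4 13
 (.inj 4 (.octad 8619033 9347075 (.octad 12584506 1302533 (.octad 8561204 11100169 (.octad 12685424 6053905 (.octad 504864 15515712 (.cyc 9 (.contra 13))))))))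
 (.split 4 15
 (.inj 4 (.octad 8619033 9347075 (.octad 12584506 1302533 (.octad 13829156 11100169 (.octad 8490656 6053905 (.octad 3375280 15515712 (.octad 12780432 14254209 (.octad 5350928 4038912 (.cyc 10 (.contra 16))))))))))
 (.split 4 16
 (.inj 4 (.octad 12584506 1302533 (.octad 1188915 10305542 (.octad 8561204 11100169 (.octad 9451104 6053905 (.octad 5939296 15515712 (.cyc 9 (.contra 15))))))))
 (.split 4 18
 (.inj 4 (.octad 8619033 9347075 (.octad 1188915 10305542 (.octad 13829156 11100169 (.octad 10560816 6053905 (.octad 4361520 15515712 (.octad 9610624 14254209 (.octad 5350928 4038912 (.cyc 9 (.inj 18 (.octad 13148440 7767041 (.octad 5476616 14919680 .done))))))))))))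
 (.split 4 19
 (.inj 4 (.octad 8619033 9347075 (.octad 1188915 10305542 (.octad 8561204 11100169 (.octad 10257456 6053905 (.octad 722544 15515712 (.octad 10170384 14254209 (.octad 5350928 4038912 (.cyc 10 (.inj 8 (.octad 3678776 8077824 (.octad 762504 14919680 .done))))))))))))
 (.octad 8849458 15747077 (.split 4 20
 (.inj 4 (.octad 12584506 1302533 (.octad 1188915 10305542 (.octad 13829156 11100169 (.octad 13641904 6053905 (.cyc 11 (.contra 22)))))))
 (.octad 786999 6832158 (.octad 8663097 6447171 (.octad 8683614 6488205 (.octad 4587803 15073798 (.octad 2491452 14828808 (.split 4 21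
 (.inj 4 (.octad 8561204 11100169 (.octad 13771273 9347075 (.octad 9543722 1302533 (.octad 5350928 4038912 .done)))))
 (.inj 4 (.octad 9310308 11100169 (.octad 9048457 9347075 (.octad 8394986 1302533 (.octad 2890176 4038912 .done))))))))))))))))))))))))))))))))
 (.split 3 18
 (.inj 3 (.cyc 23 (.inj 18 (.octad 8536111 3416079 (.octad 416040 11952160 (.octad 11952160 11575377 (.octad 5129250 11608708 (.octad 442481 16262146 (.split 4 10
 (.inj 4 (.octad 45159 6832158 (.octad 11163650 1302533 (.octad 10881097 9347075 (.cyc 12 (.inj 16 (.octad 15515712 14254209 (.cyc 8 (.inj 7 .done)))))))))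
 (.split 4 19
 (.inj 4 (.octad 8663097 9347075 (.octad 12726562 1302533 (.octad 9568632 6053905 (.cyc 8 (.inj 16 (.octad 12985424 14254209 (.cyc 11 (.inj 7 .done)))))))))
 (.inj 4 (.octad 10765331 12656663 (.octad 9748745 9347075 (.octad 9456930 1302533 (.cyc 11 (.inj 16 (.octad 10257456 14254209 (.cyc 8 (.inj 9 .done)))))))))))))))))))
 (.split 3 19
 (.inj 3 (.cyc 23 (.inj 19 (.octad 11010247 8536111 (.octad 9963547 11010247 (.octad 8536111 622863 (.octad 8925710 13370381 (.octad 13370381 9963547 (.split 4 6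
 (.inj 4 (.octad 663645 13303882 (.octad 8946281 9347075 (.octad 10650722 1302533 (.octad 12222476 11100169 (.cyc 11 (.inj 22 (.cyc 9 (.inj 16 .done)))))))))
 (.split 4 7
 (.inj 4 (.octad 3672838 14688364 (.octad 9048457 9347075 (.octad 8798658 1302533 (.octad 8931660 11100169 (.cyc 11 (.inj 10 (.cyc 9 (.inj 15 .done)))))))))
 (.inj 4 (.octad 8978620 11100169 (.octad 11100169 9347075 (.octad 14762146 1302533 (.octad 12661896 6053905 (.cyc 6 (.inj 11 (.cyc 9 (.inj 8 .done)))))))))))))))))))
 (.split 3 20
 (.inj 3 (.cyc 23 (.inj 20 (.octad 8536111 3416079 (.octad 1230376 11952160 (.octad 11952160 14950785 (.octad 9963547 9471495 (.octad 1265762 11282452 (.split 4 9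
 (.inj 4 (.octad 9462812 13771273 (.octad 10110017 9347075 (.octad 8963210 1302533 (.cyc 6 (.inj 22 (.octad 8581192 6053905 (.cyc 7 (.inj 18 .done)))))))))
 (.split 4 10
 (.inj 4 (.octad 2627629 6062602 (.octad 9607201 9347075 (.octad 8555274 1302533 (.cyc 12 (.inj 22 (.octad 10687016 6053905 (.cyc 7 (.inj 13 .done)))))))))
 (.inj 4 (.octad 1245726 12222476 (.octad 12584506 1302533 (.octad 8733800 6053905 (.cyc 10 (.inj 19 (.octad 1525008 15515712 (.cyc 7 (.inj 21 .done)))))))))))))))))))
 (.split 3 21
 (.inj 3 (.cyc 23 (.inj 21 (.octad 8536111 3416079 (.octad 2769128 11952160 (.octad 14716939 11010247 (.octad 2313249 9708306 (.octad 11952160 9776129 (.split 4 12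
 (.inj 4 (.octad 8455014 5275709 (.octad 10666625 9347075 (.octad 10093218 1302533 (.cyc 6 (.inj 12 (.octad 1230376 4038912 (.cyc 10 (.inj 13 .done)))))))))
 (.split 4 15
 (.inj 4 (.octad 6832158 12222476 (.octad 8937586 1302533 (.octad 12733024 6053905 (.octad 6455896 15515712 (.cyc 8 (.inj 16 (.cyc 10 (.inj 18 .done)))))))))
 (.inj 4 (.octad 8541360 6053905 (.octad 2494627 10305542 (.octad 10506593 9347075 (.cyc 9 (.inj 16 (.octad 6295992 15515712 (.cyc 10 (.inj 20 .done)))))))))))))))))))
 (.split 3 22
 (.inj 3 (.cyc 23 (.inj 22 (.octad 14716939 12656663 (.octad 12656663 8536111 (.octad 4196943 13631886 (.octad 13631886 13370381 (.octad 8536111 4196943 (.split 4 5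
 (.inj 4 (.octad 4563017 13811730 (.octad 15274244 11100169 (.octad 14950785 9347075 (.cyc 6 (.inj 14 (.octad 12849992 14254209 (.cyc 9 (.inj 5 .done)))))))))
 (.split 4 14
 (.inj 4 (.octad 5279 6832158 (.octad 11108882 1302533 (.octad 14254209 9347075 (.cyc 9 (.inj 14 (.octad 5899416 15515712 (.cyc 7 (.inj 11 .done)))))))))
 (.inj 4 (.octad 5275709 13303882 (.octad 13636881 9347075 (.octad 8436754 1302533 (.cyc 7 (.inj 6 (.octad 13938692 11100169 (.cyc 9 (.inj 17 .done)))))))))))))))))))
 (.inj 3 (.cyc 0 (.contra 0))))))))))))))))))))))))))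

def certB : Cert :=
(.inj 0 (.inj 1 (.inj 2 (.inj 3 (.inj 23 (.octad 8536111 8536111 (.split 5 5
 (.inj 5 (.split 14 14
 (.inj 14 (.split 4 4
 (.inj 4 (.octad 3297305 13811730 (.octad 9963547 12656663 (.octad 15747077 11100169 (.contra 19)))))
 (.split 4 6
 (.inj 4 (.octad 9323032 6447171 (.octad 792232 6594610 (.octad 668866 5210132 (.octad 6447171 10305542 (.contra 3))))))
 (.split 4 7
 (.inj 4 (.octad 737427 13262980 (.octad 8999616 6053905 (.octad 530245 16056344 (.octad 6488205 9347075 (.contra 2))))))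
 (.split 4 8
 (.inj 4 (.octad 8619033 11731203 (.octad 4299781 16056344 (.octad 12638592 6053905 (.octad 9048457 9347075 (.octad 9347075 1302533 (.contra 0)))))))
 (.split 4 9
 (.inj 4 (.octad 4587803 15073798 (.octad 5571333 16056344 (.octad 5514536 6594610 (.octad 13771273 9347075 (.contra 9))))))
 (.split 4 10
 (.inj 4 (.octad 9462812 5325835 (.octad 5252293 16056344 (.octad 5309160 6594610 (.octad 13771273 9347075 (.contra 13))))))
 (.split 4 11
 (.inj 4 (.octad 10765331 15747077 (.octad 2363013 16056344 (.octad 2296514 5210132 (.octad 13303882 9347075 (.contra 0))))))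
 (.split 4 12
 (.inj 4 (.octad 8546577 13062145 (.octad 2501890 5210132 (.octad 2173253 16056344 (.octad 13370381 9347075 (.contra 2))))))
 (.split 4 13
 (.inj 4 (.octad 8619033 9347075 (.octad 13811730 1302533 (.octad 8966165 11100169 (.contra 15)))))
 (.split 4 15
 (.inj 4 (.octad 8619033 9347075 (.octad 13811730 1302533 (.octad 8966165 11100169 (.contra 4)))))
 (.split 4 16
 (.inj 4 (.octad 13811730 1302533 (.octad 57883 10305542 (.octad 8966165 11100169 (.contra 15)))))
 (.split 4 18
 (.inj 4 (.octad 8619033 9347075 (.octad 57883 10305542 (.octad 8966165 11100169 (.contra 4)))))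
 (.split 4 19
 (.inj 4 (.octad 8619033 9347075 (.octad 57883 10305542 (.octad 8966165 11100169 (.contra 15)))))
 (.octad 10765331 15747077 (.split 4 20
 (.inj 4 (.octad 13811730 1302533 (.octad 57883 10305542 (.octad 8966165 11100169 (.contra 4)))))
 (.octad 6832158 6832158 (.octad 10698836 6447171 (.contra 2)))))))))))))))))))
 (.inj 14 (.split 4 4
 (.inj 4 (.octad 3297305 13811730 (.octad 9963547 12656663 (.octad 9112069 11100169 (.octad 1250945 15515712 (.octad 8412681 9347075 (.cyc 9 (.inj 22 (.octad 12325377 14254209 (.octad 2702848 4038912 (.octad 11654144 7767041 (.cyc 12 (.inj 6 .done)))))))))))))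
 (.split 4 6
 (.inj 4 (.octad 9323032 6447171 (.octad 792232 6594610 (.octad 351362 5210132 (.octad 210955 10305542 (.octad 8412681 9347075 (.octad 9776129 14254209 (.cyc 9 (.inj 6 (.octad 2702848 4038912 (.octad 9204992 7767041 (.cyc 11 (.inj 15 .done)))))))))))))
 (.split 4 7
 (.inj 4 (.octad 737427 13262980 (.octad 11469952 6053905 (.octad 2363013 16056344 (.octad 11100169 9347075 (.octad 8611330 1302533 (.cyc 11 (.inj 22 (.octad 3811457 15515712 (.octad 2702848 4038912 (.octad 675712 8077824 (.cyc 12 (.inj 15 .done)))))))))))))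
 (.split 4 8
 (.inj 4 (.octad 12599513 11731203 (.octad 5252293 16056344 (.octad 9610624 6053905 (.octad 9748745 9347075 (.octad 8798658 1302533 (.octad 7767041 15515712 (.octad 8688833 14254209 (.cyc 12 (.inj 19 (.octad 4441280 8077824 (.cyc 10 (.inj 9 .done)))))))))))))
 (.split 4 9
 (.inj 4 (.octad 57883 15073798 (.octad 6857221 16056344 (.octad 4241960 6594610 (.octad 8412681 9347075 (.octad 10630149 11100169 (.cyc 11 (.inj 18 (.octad 175681 15515712 (.octad 11046145 14254209 (.octad 2702848 4038912 (.cyc 12 (.inj 7 .done)))))))))))))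
 (.split 4 10
 (.inj 4 (.octad 12720156 5325835 (.octad 4299781 16056344 (.octad 6915112 6594610 (.octad 11100169 9347075 (.octad 10630149 11100169 (.octad 4924673 15515712 (.octad 13121601 14254209 (.octad 2702848 4038912 (.octad 5405696 8077824 (.cyc 11 (.inj 7 .done))))))))))))
 (.split 4 11
 (.inj 4 (.octad 8524371 15747077 (.octad 530245 16056344 (.octad 2704706 5210132 (.octad 11100169 9347075 (.octad 8611330 1302533 (.octad 2854977 15515712 (.octad 14747201 14254209 (.cyc 10 (.inj 7 (.octad 2702848 4038912 (.octad 2512448 8077824 .done))))))))))))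
 (.split 4 12
 (.inj 4 (.octad 8546577 13062145 (.octad 31554 5210132 (.octad 2173253 16056344 (.octad 8412681 9347075 (.octad 8611330 1302533 (.octad 6429441 15515712 (.cyc 8 (.inj 19 (.octad 8499969 14254209 (.octad 2322816 8077824 (.octad 10832640 7767041 .done))))))))))))
 (.split 4 13
 (.inj 4 (.octad 12599513 9347075 (.octad 13811730 1302533 (.octad 9830549 11100169 (.octad 9078992 6053905 (.octad 5112513 15515712 (.cyc 7 (.inj 16 (.octad 5538256 4038912 (.octad 2019456 8077824 (.octad 15515712 7767041 (.cyc 12 (.inj 10 .done)))))))))))))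
 (.split 4 15
 (.inj 4 (.octad 12599513 9347075 (.octad 13811730 1302533 (.octad 12747077 11100169 (.octad 15864000 6053905 (.octad 2229713 15515712 (.octad 11575377 14254209 (.cyc 8 (.inj 18 (.octad 3328320 8077824 (.octad 12075408 7767041 (.octad 6406417 14919680 .done))))))))))))
 (.split 4 16
 (.inj 4 (.octad 13811730 1302533 (.octad 4587803 10305542 (.octad 9830549 11100169 (.octad 14551296 6053905 (.octad 493953 15515712 (.cyc 8 (.inj 6 (.octad 12880401 14254209 (.octad 6703248 8077824 (.octad 12638592 7767041 (.octad 1100945 14919680 .done))))))))))))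
 (.split 4 18
 (.inj 4 (.octad 12599513 9347075 (.octad 4587803 10305542 (.octad 12747077 11100169 (.octad 12985424 6053905 (.octad 4370577 15515712 (.octad 14950785 14254209 (.octad 5538256 4038912 (.cyc 10 (.inj 16 (.octad 4645632 8077824 (.octad 582081 14919680 .done))))))))))))
 (.split 4 19
 (.inj 4 (.octad 12599513 9347075 (.octad 4587803 10305542 (.octad 9830549 11100169 (.octad 12780432 6053905 (.octad 5441617 15515712 (.octad 9240913 14254209 (.octad 5538256 4038912 (.cyc 11 (.inj 21 (.octad 1525008 8077824 (.cyc 10 (.inj 13 .done)))))))))))))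
 (.octad 8524371 15747077 (.split 4 20
 (.inj 4 (.octad 13811730 1302533 (.octad 4587803 10305542 (.octad 12747077 11100169 (.octad 10916112 6053905 (.cyc 6 (.inj 13 (.octad 13636881 14254209 (.octad 5538256 4038912 (.octad 4870480 8077824 (.cyc 10 (.inj 11 .done))))))))))))
 (.octad 1245726 6832158 (.octad 9323032 6447171 (.octad 8407702 6488205 (.octad 57883 15073798 (.octad 4343317 14828808 (.split 4 21
 (.inj 4 (.octad 9830549 11100169 (.octad 9748745 9347075 (.cyc 8 (.inj 22 (.cyc 11 (.inj 12 .done)))))))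
 (.inj 4 (.octad 9112069 11100169 (.octad 11100169 9347075 (.cyc 11 (.inj 6 (.octad 2702848 4038912 .done))))))))))))))))))))))))))))))
 (.split 5 14
 (.inj 5 (.split 14 5
 (.inj 14 (.split 4 4
 (.inj 4 (.octad 133817 13811730 (.octad 9963547 12656663 (.octad 9969957 11100169 (.octad 15777 15515712 (.octad 9048457 9347075 (.octad 9440193 14254209 (.octad 5780352 4038912 (.cyc 11 (.inj 21 (.octad 1256224 8077824 (.octad 8796800 7767041 .done))))))))))))
 (.split 4 6
 (.inj 4 (.octad 9568632 6447171 (.octad 1070536 6594610 (.octad 668866 5210132 (.octad 4726955 10305542 (.octad 9048457 9347075 (.cyc 10 (.inj 21 (.octad 13121601 14254209 (.octad 5780352 4038912 (.octad 5939296 8077824 (.cyc 12 (.inj 16 .done)))))))))))))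
 (.split 4 7
 (.inj 4 (.octad 1188915 13262980 (.octad 9451104 6053905 (.octad 530245 16056344 (.octad 13771273 9347075 (.octad 12726562 1302533 (.octad 5770785 15515712 (.octad 5780352 4038912 (.cyc 11 (.inj 16 (.octad 3806496 8077824 (.cyc 12 (.inj 18 .done)))))))))))))
 (.split 4 8
 (.inj 4 (.octad 8619033 11731203 (.octad 4299781 16056344 (.octad 14949408 6053905 (.octad 10881097 9347075 (.octad 10650722 1302533 (.octad 334433 15515712 (.cyc 9 (.inj 13 (.octad 8688833 14254209 (.octad 8592704 7767041 (.cyc 12 (.inj 20 .done)))))))))))))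
 (.split 4 9
 (.inj 4 (.octad 4587803 15073798 (.octad 5571333 16056344 (.octad 5063048 6594610 (.octad 9048457 9347075 (.octad 12587685 11100169 (.octad 5017889 15515712 (.octad 12325377 14254209 (.cyc 8 (.inj 13 (.octad 14551296 7767041 (.octad 5112513 14919680 .done))))))))))))
 (.split 4 10
 (.inj 4 (.octad 8978620 5325835 (.octad 864389 16056344 (.octad 1405448 6594610 (.octad 13771273 9347075 (.octad 12587685 11100169 (.cyc 7 (.inj 15 (.octad 7417889 15515712 (.octad 5780352 4038912 (.octad 4921504 8077824 (.cyc 11 (.inj 10 .done)))))))))))))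
 (.split 4 11
 (.inj 4 (.octad 8421811 15747077 (.octad 3182981 16056344 (.octad 3322370 5210132 (.octad 13771273 9347075 (.octad 12726562 1302533 (.octad 1352353 15515712 (.octad 8499969 14254209 (.cyc 12 (.inj 11 (.octad 5780352 4038912 (.cyc 9 (.inj 6 .done)))))))))))))
 (.split 4 12
 (.inj 4 (.octad 15335473 13062145 (.octad 6979970 5210132 (.octad 6857221 16056344 (.octad 9048457 9347075 (.octad 12726562 1302533 (.cyc 8 (.inj 20 (.octad 2687905 15515712 (.octad 14950785 14254209 (.octad 6432416 8077824 (.cyc 10 (.inj 6 .done)))))))))))))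
 (.split 4 13
 (.inj 4 (.octad 8619033 9347075 (.octad 8849458 1302533 (.octad 8391797 11100169 (.octad 10257456 6053905 (.octad 1148257 15515712 (.cyc 11 (.inj 22 (.octad 9776129 14254209 (.octad 2460752 4038912 (.octad 1445088 8077824 (.cyc 10 (.inj 9 .done)))))))))))))
 (.split 4 15
 (.inj 4 (.octad 8619033 9347075 (.octad 8849458 1302533 (.octad 10846245 11100169 (.octad 8490656 6053905 (.octad 2135601 15515712 (.octad 12880401 14254209 (.cyc 9 (.inj 19 (.octad 2460752 4038912 (.octad 11669008 7767041 (.cyc 11 (.inj 13 .done)))))))))))))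
 (.split 4 16
 (.inj 4 (.octad 8849458 1302533 (.octad 2162811 10305542 (.octad 8391797 11100169 (.octad 12126304 6053905 (.octad 2892897 15515712 (.octad 9240913 14254209 (.octad 2460752 4038912 (.cyc 10 (.inj 7 (.octad 722544 8077824 (.octad 924689 14919680 .done))))))))))))
 (.split 4 18
 (.inj 4 (.octad 8619033 9347075 (.octad 2162811 10305542 (.octad 10846245 11100169 (.octad 12685424 6053905 (.octad 4523185 15515712 (.cyc 12 (.inj 19 (.octad 14747201 14254209 (.octad 2460752 4038912 (.octad 6750560 8077824 (.cyc 11 (.inj 20 .done)))))))))))))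
 (.split 4 19
 (.inj 4 (.octad 8619033 9347075 (.octad 2162811 10305542 (.octad 8391797 11100169 (.octad 10560816 6053905 (.octad 632881 15515712 (.cyc 8 (.inj 18 (.octad 11575377 14254209 (.octad 2242672 8077824 (.octad 14919680 7767041 (.octad 175681 14919680 .done))))))))))))
 (.octad 8421811 15747077 (.split 4 20
 (.inj 4 (.octad 8849458 1302533 (.octad 2162811 10305542 (.octad 10846245 11100169 (.octad 10748656 6053905 (.octad 6326497 15515712 (.octad 10557585 14254209 (.cyc 12 (.inj 13 (.octad 2460752 4038912 (.cyc 10 (.inj 19 .done))))))))))))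
 (.octad 10558 6832158 (.octad 9568632 6447171 (.octad 9045270 6488205 (.octad 4587803 15073798 (.octad 201013 14828808 (.split 4 21
 (.inj 4 (.octad 8391797 11100169 (.octad 10881097 9347075 (.cyc 20 (.inj 15 (.octad 2460752 4038912 .done))))))
 (.inj 4 (.octad 9969957 11100169 (.octad 13771273 9347075 (.cyc 11 (.inj 15 (.cyc 10 (.inj 16 .done)))))))))))))))))))))))))))))
 (.inj 14 (.split 4 4
 (.inj 4 (.octad 542009 13811730 (.octad 9963547 12656663 (.octad 9969957 11100169 (.contra 8)))))
 (.split 4 6
 (.inj 4 (.octad 10537016 6447171 (.octad 2268296 6594610 (.octad 351362 5210132 (.octad 2031657 10305542 (.contra 1))))))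
 (.split 4 7
 (.inj 4 (.octad 4216883 13262980 (.octad 14949408 6053905 (.octad 2363013 16056344 (.octad 12599513 9347075 (.contra 4))))))
 (.split 4 8
 (.inj 4 (.octad 12599513 11731203 (.octad 5252293 16056344 (.octad 9451104 6053905 (.octad 8412681 9347075 (.octad 8937586 1302533 (.contra 4)))))))
 (.split 4 9
 (.inj 4 (.octad 57883 15073798 (.octad 6857221 16056344 (.octad 762504 6594610 (.octad 11100169 9347075 (.contra 7))))))
 (.split 4 10
 (.inj 4 (.octad 8978620 5325835 (.octad 864389 16056344 (.octad 7221256 6594610 (.octad 11100169 9347075 (.contra 16))))))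
 (.split 4 11
 (.inj 4 (.octad 8421811 15747077 (.octad 3182981 16056344 (.octad 7622914 5210132 (.octad 12599513 9347075 (.contra 4))))))
 (.split 4 12
 (.inj 4 (.octad 9519665 13062145 (.octad 1164162 5210132 (.octad 5571333 16056344 (.octad 12599513 9347075 (.contra 4))))))
 (.split 4 13
 (.inj 4 (.octad 12599513 9347075 (.octad 8937586 1302533 (.octad 8391797 11100169 (.contra 6)))))
 (.split 4 15
 (.inj 4 (.octad 12599513 9347075 (.octad 8937586 1302533 (.octad 8391797 11100169 (.contra 4)))))
 (.split 4 16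
 (.inj 4 (.octad 8937586 1302533 (.octad 2162811 10305542 (.octad 8391797 11100169 (.contra 6)))))
 (.split 4 18
 (.inj 4 (.octad 12599513 9347075 (.octad 2162811 10305542 (.octad 8391797 11100169 (.contra 4)))))
 (.split 4 19
 (.inj 4 (.octad 12599513 9347075 (.octad 2162811 10305542 (.octad 8391797 11100169 (.contra 6)))))
 (.octad 8421811 15747077 (.split 4 20
 (.inj 4 (.octad 8937586 1302533 (.octad 2162811 10305542 (.octad 8391797 11100169 (.contra 4)))))
 (.octad 10558 6832158 (.octad 12861748 6447171 (.contra 2)))))))))))))))))))))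
 (.inj 5 (.split 14 5
 (.inj 14 (.split 4 4
 (.inj 4 (.octad 133817 13811730 (.octad 9963547 12656663 (.octad 12222476 11100169 (.contra 0)))))
 (.split 4 6
 (.inj 4 (.octad 9568632 6447171 (.octad 1070536 6594610 (.octad 5280930 5210132 (.octad 1212619 10305542 (.contra 6))))))
 (.split 4 7
 (.inj 4 (.octad 1188915 13262980 (.octad 9610624 6053905 (.octad 3182981 16056344 (.octad 12641313 9347075 (.contra 3))))))
 (.split 4 8
 (.inj 4 (.octad 8663097 11731203 (.octad 864389 16056344 (.octad 11469952 6053905 (.octad 11535529 9347075 (.octad 11952160 1302533 (.contra 1)))))))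
 (.split 4 9
 (.inj 4 (.octad 2162811 15073798 (.octad 2173253 16056344 (.octad 6379592 6594610 (.octad 12650793 9347075 (.contra 8))))))
 (.split 4 10
 (.inj 4 (.octad 12720156 5325835 (.octad 4299781 16056344 (.octad 126216 6594610 (.octad 9969957 9347075 (.contra 2))))))
 (.split 4 11
 (.inj 4 (.octad 8524371 15747077 (.octad 530245 16056344 (.octad 567074 5210132 (.octad 9543722 9347075 (.contra 0))))))
 (.split 4 12
 (.inj 4 (.octad 15335473 13062145 (.octad 6820450 5210132 (.octad 6857221 16056344 (.octad 8946281 9347075 (.contra 9))))))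
 (.split 4 13
 (.inj 4 (.octad 8663097 9347075 (.octad 8849458 1302533 (.octad 9830549 11100169 (.contra 18)))))
 (.split 4 15
 (.inj 4 (.octad 8663097 9347075 (.octad 8849458 1302533 (.octad 9830549 11100169 (.contra 4)))))
 (.split 4 16
 (.inj 4 (.octad 8849458 1302533 (.octad 4587803 10305542 (.octad 9830549 11100169 (.contra 18)))))
 (.split 4 18
 (.inj 4 (.octad 8663097 9347075 (.octad 4587803 10305542 (.octad 9830549 11100169 (.contra 4)))))
 (.split 4 19
 (.inj 4 (.octad 8663097 9347075 (.octad 4587803 10305542 (.octad 9830549 11100169 (.contra 18)))))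
 (.octad 8524371 15747077 (.split 4 20
 (.inj 4 (.octad 8849458 1302533 (.octad 4587803 10305542 (.octad 9830549 11100169 (.contra 4)))))
 (.octad 1245726 6832158 (.octad 9568632 6447171 (.contra 6)))))))))))))))))))
 (.inj 14 (.split 4 4
 (.inj 4 (.octad 542009 13811730 (.octad 9963547 12656663 (.octad 15747077 11100169 (.octad 6837377 15515712 (.octad 11535529 9347075 (.octad 11046145 14254209 (.octad 7409024 4038912 (.octad 6842656 8077824 (.cyc 11 (.inj 9 (.octad 13108704 7767041 .done))))))))))))
 (.split 4 6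
 (.inj 4 (.octad 10537016 6447171 (.octad 2268296 6594610 (.octad 5280930 5210132 (.octad 5325835 10305542 (.octad 11535529 9347075 (.cyc 7 (.inj 19 (.octad 7409024 4038912 (.octad 5621792 8077824 (.octad 8490656 7767041 (.octad 6326497 14919680 .done))))))))))))
 (.split 4 7
 (.inj 4 (.octad 4216883 13262980 (.octad 12638592 6053905 (.octad 3182981 16056344 (.octad 12650793 9347075 (.octad 14762146 1302533 (.octad 1661185 15515712 (.octad 7409024 4038912 (.octad 3168928 8077824 (.octad 9769376 7767041 (.octad 7417889 14919680 .done)))))))))))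
 (.split 4 8
 (.inj 4 (.octad 8663097 11731203 (.octad 864389 16056344 (.octad 8999616 6053905 (.octad 8946281 9347075 (.octad 8704546 1302533 (.octad 582081 15515712 (.octad 8688833 14254209 (.octad 4485344 8077824 (.cyc 10 (.inj 21 (.octad 1352353 14919680 .done))))))))))))
 (.split 4 9
 (.inj 4 (.octad 2162811 15073798 (.octad 2173253 16056344 (.octad 3351624 6594610 (.octad 11535529 9347075 (.octad 8471941 11100169 (.octad 3489985 15515712 (.cyc 8 (.inj 22 (.octad 9440193 14254209 (.cyc 10 (.inj 19 (.octad 1148257 14919680 .done)))))))))))))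
 (.split 4 10
 (.inj 4 (.octad 9462812 5325835 (.octad 5252293 16056344 (.octad 4336072 6594610 (.octad 12650793 9347075 (.octad 8471941 11100169 (.octad 4287105 15515712 (.cyc 9 (.inj 19 (.octad 9776129 14254209 (.cyc 8 (.inj 21 (.octad 15777 14919680 .done)))))))))))))
 (.split 4 11
 (.inj 4 (.octad 10765331 15747077 (.octad 2363013 16056344 (.octad 4459426 5210132 (.octad 12650793 9347075 (.octad 14762146 1302533 (.cyc 9 (.inj 15 (.octad 4476225 15515712 (.octad 14950785 14254209 (.octad 7409024 4038912 (.octad 14949408 7767041 .done))))))))))))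
 (.split 4 12
 (.inj 4 (.octad 9519665 13062145 (.octad 3474978 5210132 (.octad 5571333 16056344 (.octad 11535529 9347075 (.octad 14762146 1302533 (.cyc 9 (.inj 12 (.octad 3172097 15515712 (.octad 14747201 14254209 (.octad 7409024 4038912 (.octad 15762208 7767041 .done))))))))))))
 (.split 4 13
 (.inj 4 (.octad 8663097 9347075 (.octad 8937586 1302533 (.octad 8966165 11100169 (.octad 9721936 6053905 (.octad 2422785 15515712 (.octad 13121601 14254209 (.octad 832080 4038912 (.octad 580704 8077824 (.octad 8694112 7767041 (.octad 632881 14919680 .done)))))))))))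
 (.split 4 15
 (.inj 4 (.octad 8663097 9347075 (.octad 8937586 1302533 (.octad 8675909 11100169 (.octad 9204992 6053905 (.octad 283537 15515712 (.octad 9240913 14254209 (.octad 832080 4038912 (.octad 1852256 8077824 (.cyc 12 (.inj 21 (.octad 8919856 7767041 .done))))))))))))
 (.split 4 16
 (.inj 4 (.octad 8937586 1302533 (.octad 57883 10305542 (.octad 8966165 11100169 (.octad 10021376 6053905 (.octad 5296705 15515712 (.octad 11575377 14254209 (.octad 832080 4038912 (.octad 1110320 8077824 (.octad 9451104 7767041 (.octad 1577201 14919680 .done)))))))))))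
 (.split 4 18
 (.inj 4 (.octad 8663097 9347075 (.octad 57883 10305542 (.octad 8675909 11100169 (.octad 8773776 6053905 (.octad 95313 15515712 (.octad 8499969 14254209 (.cyc 8 (.inj 19 (.octad 2220640 8077824 (.cyc 10 (.inj 22 (.octad 334433 14919680 .done)))))))))))))
 (.split 4 19
 (.inj 4 (.octad 8663097 9347075 (.octad 57883 10305542 (.octad 8966165 11100169 (.octad 14709264 6053905 (.octad 6053905 15515712 (.octad 12880401 14254209 (.octad 832080 4038912 (.octad 4768432 8077824 (.cyc 11 (.inj 8 (.octad 13443616 7767041 .done))))))))))))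
 (.octad 10765331 15747077 (.split 4 20
 (.inj 4 (.octad 8937586 1302533 (.octad 57883 10305542 (.octad 8675909 11100169 (.octad 8439632 6053905 (.cyc 9 (.inj 11 (.octad 902657 15515712 (.octad 8922769 14254209 (.octad 832080 4038912 (.octad 10257456 7767041 .done)))))))))))
 (.octad 6832158 6832158 (.octad 10537016 6447171 (.octad 11538486 6488205 (.octad 2162811 15073798 (.octad 2121909 14828808 (.split 4 21
 (.inj 4 (.octad 8966165 11100169 (.octad 8946281 9347075 (.cyc 8 (.inj 13 (.octad 8704546 1302533 .done))))))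
 (.inj 4 (.octad 15747077 11100169 (.octad 12650793 9347075 (.cyc 8 (.inj 7 (.octad 9456930 1302533 .done))))))))))))))))))))))))))))))))))))))

theorem certA_ok : check 6 Q6 certA (mkDom presA 0) = true := by decide +kernel
theorem certB_ok : check 6 Q6 certB (mkDom presB 0) = true := by decide +kernel

theorem key {g : Equiv.Perm GolayPt} (hg : g ∈ M24) (hg6 : g ^ 6 = 1)
    (h3 : g ^ 3 ≠ 1) (h4 : g ^ 4 ≠ 1) :
    ∃ h ∈ M24, ∃ tab, Q6 tab = true ∧ IsTab (h * g * h⁻¹) tab := by
  have step : ∀ p : GolayPt, g ((g ^ 2) p) = (g ^ 3) p := fun p => by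
    rw [← Equiv.Perm.mul_apply, ← pow_succ']
  by_cases hA : ∃ q, (g ^ 2) q ≠ q ∧ (g ^ 3) q ≠ q
  · obtain ⟨q, n2, n3⟩ := hA
    have n1 : (g ^ 1) q ≠ q := by
      intro h
      apply n2
      rw [pow_one] at h
      rw [pow_two, Equiv.Perm.mul_apply, h, h]
    have n4 : (g ^ 4) q ≠ q := by
      intro h
      apply n2
      have : (g ^ 6) q = (g ^ 2) q := by
        have e : g ^ 6 = g ^ 2 * g ^ 4 := by rw [← pow_add]
        rw [e, Equiv.Perm.mul_apply, h]
      rw [hg6, Equiv.Perm.one_apply] at this
      exact this.symm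
    have hnd : [(g ^ 0) q, (g ^ 1) q, (g ^ 2) q, (g ^ 3) q, (g ^ 4) q].Nodup := by
      simp only [List.nodup_cons, List.mem_cons, List.not_mem_nil, or_false, not_or,
        List.nodup_nil, and_true, not_false_eq_true]
      refine ⟨⟨?_, ?_, ?_, ?_⟩, ⟨?_, ?_, ?_⟩, ⟨?_, ?_⟩, ?_⟩
      · exact fun e => n1 (pow_apply_eq_imp (i := 0) (j := 1) (by norm_num) e.symm)
      · exact fun e => n2 (pow_apply_eq_imp (i := 0) (j := 2) (by norm_num) e.symm)
      · exact fun e => n3 (pow_apply_eq_imp (i := 0) (j := 3) (by norm_num) e.symm)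
      · exact fun e => n4 (pow_apply_eq_imp (i := 0) (j := 4) (by norm_num) e.symm)
      · exact fun e => n1 (pow_apply_eq_imp (i := 1) (j := 2) (by norm_num) e.symm)
      · exact fun e => n2 (pow_apply_eq_imp (i := 1) (j := 3) (by norm_num) e.symm)
      · exact fun e => n3 (pow_apply_eq_imp (i := 1) (j := 4) (by norm_num) e.symm)
      · exact fun e => n1 (pow_apply_eq_imp (i := 2) (j := 3) (by norm_num) e.symm)
      · exact fun e => n2 (pow_apply_eq_imp (i := 2) (j := 4) (by norm_num) e.symm)
      · exact fun e => n1 (pow_apply_eq_imp (i := 3) (j := 4) (by norm_num) e.symm)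
    obtain ⟨h, hh, e0, e1, e2, e3, e4⟩ := exists_sends_base5 _ _ _ _ _ hnd
    have nxt : ∀ i : ℕ, g ((g ^ i) q) = (g ^ (i + 1)) q := fun i => by
      rw [← Equiv.Perm.mul_apply, ← pow_succ']
    have hcomp : Compat (h * g * h⁻¹) (mkDom presA 0) := by
      apply compat_mkDom
      · intro p hp
        simp only [presA, List.mem_cons, List.not_mem_nil, or_false] at hp
        rcases hp with rfl | rfl | rfl | rfl
        · exact ⟨by rw [← e0, conj_apply, nxt, e1], by norm_num⟩
        · exact ⟨by rw [← e1, conj_apply, nxt, e2], by norm_num⟩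
        · exact ⟨by rw [← e2, conj_apply, nxt, e3], by norm_num⟩
        · exact ⟨by rw [← e3, conj_apply, nxt, e4], by norm_num⟩
      · intro hm
        exact absurd hm (by norm_num)
      · intro hm
        exact absurd hm (by norm_num)
    obtain ⟨tab, hQ, htab⟩ := check_sound Q6 (conj_mem_M24 hh hg) (conj_pow_eq_one hg6)
      certA _ certA_ok hcomp
    exact ⟨h, hh, tab, hQ, htab⟩
  · push Not at hA
    -- a point moved by `g ^ 4` lies on a 3-cycle, a point moved by `g ^ 3` on a 2-cycle
    obtain ⟨c, hc⟩ : ∃ c, (g ^ 4) c ≠ c := by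
      by_contra hcon
      push Not at hcon
      exact h4 (Equiv.ext hcon)
    obtain ⟨a, ha⟩ : ∃ a, (g ^ 3) a ≠ a := by
      by_contra hcon
      push Not at hcon
      exact h3 (Equiv.ext hcon)
    have c2 : (g ^ 2) c ≠ c := by
      intro h
      apply hc
      have e : g ^ 4 = g ^ 2 * g ^ 2 := by rw [← pow_add]
      rw [e, Equiv.Perm.mul_apply, h, h]
    have c3 : (g ^ 3) c = c := hA c c2
    have a2 : (g ^ 2) a = a := by
      by_contra h
      exact ha (hA a h)
    have a1 : (g ^ 1) a ≠ a := by
      intro h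
      apply ha
      rw [pow_one] at h
      have e : g ^ 3 = g * g * g := by rw [pow_succ, pow_two]
      rw [e, Equiv.Perm.mul_apply, Equiv.Perm.mul_apply, h, h, h]
    have c1 : (g ^ 1) c ≠ c := by
      intro h
      apply c2
      rw [pow_one] at h
      rw [pow_two, Equiv.Perm.mul_apply, h, h]
    -- points fixed by `g ^ 3`
    have f3 : ∀ i : ℕ, (g ^ 3) ((g ^ i) c) = (g ^ i) c := fun i => by
      rw [← Equiv.Perm.mul_apply, ← pow_add, add_comm, pow_add, Equiv.Perm.mul_apply, c3]
    have m3 : ∀ i : ℕ, (g ^ 3) ((g ^ i) a) ≠ (g ^ i) a := fun i => by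
      rw [← Equiv.Perm.mul_apply, ← pow_add, add_comm, pow_add, Equiv.Perm.mul_apply]
      exact fun e => ha ((g ^ i).injective e)
    have cross : ∀ i j : ℕ, (g ^ i) a ≠ (g ^ j) c := fun i j e => by
      apply m3 i
      rw [e]
      exact f3 j
    have hnd : [(g ^ 0) a, (g ^ 1) a, (g ^ 0) c, (g ^ 1) c, (g ^ 2) c].Nodup := by
      simp only [List.nodup_cons, List.mem_cons, List.not_mem_nil, or_false, not_or,
        List.nodup_nil, and_true, not_false_eq_true]
      refine ⟨⟨?_, ?_, ?_, ?_⟩, ⟨?_, ?_, ?_⟩, ⟨?_, ?_⟩, ?_⟩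
      · exact fun e => a1 (pow_apply_eq_imp (i := 0) (j := 1) (by norm_num) e.symm)
      · exact cross 0 0
      · exact cross 0 1
      · exact cross 0 2
      · exact cross 1 0
      · exact cross 1 1
      · exact cross 1 2
      · exact fun e => c1 (pow_apply_eq_imp (i := 0) (j := 1) (by norm_num) e.symm)
      · exact fun e => c2 (pow_apply_eq_imp (i := 0) (j := 2) (by norm_num) e.symm)
      · exact fun e => c1 (pow_apply_eq_imp (i := 1) (j := 2) (by norm_num) e.symm)
    obtain ⟨h, hh, e0, e1, e2, e3, e4⟩ := exists_sends_base5 _ _ _ _ _ hnd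
    have nxt : ∀ (i : ℕ) (p : GolayPt), g ((g ^ i) p) = (g ^ (i + 1)) p := fun i p => by
      rw [← Equiv.Perm.mul_apply, ← pow_succ']
    have hcomp : Compat (h * g * h⁻¹) (mkDom presB 0) := by
      apply compat_mkDom
      · intro p hp
        simp only [presB, List.mem_cons, List.not_mem_nil, or_false] at hp
        rcases hp with rfl | rfl | rfl | rfl | rfl
        · exact ⟨by rw [← e0, conj_apply, nxt, e1], by norm_num⟩
        · refine ⟨?_, by norm_num⟩
          rw [← e1, conj_apply, nxt, a2]
          exact e0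
        · exact ⟨by rw [← e2, conj_apply, nxt, e3], by norm_num⟩
        · exact ⟨by rw [← e3, conj_apply, nxt, e4], by norm_num⟩
        · refine ⟨?_, by norm_num⟩
          rw [← e4, conj_apply, nxt, c3]
          exact e2
      · intro hm
        exact absurd hm (by norm_num)
      · intro hm
        exact absurd hm (by norm_num)
    obtain ⟨tab, hQ, htab⟩ := check_sound Q6 (conj_mem_M24 hh hg) (conj_pow_eq_one hg6)
      certB _ certB_ok hcomp
    exact ⟨h, hh, tab, hQ, htab⟩

theorem result (x s : Equiv.Perm Cfsg.GolayPt) (hx : x ∈ Cfsg.M24) (hs : s ∈ Cfsg.M24) (h₃ : orderOf x = 3) (h₂ : orderOf s = 2) (hc : Commute x s) : ((Finset.univ.filter fun p => x p = p).card = 6 ∧ (Finset.univ.filter fun p => s p = p).card = 8) ∨ ((Finset.univ.filter fun p => x p = p).card = 0 ∧ (Finset.univ.filter fun p => s p = p).card = 0) := by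
  have hx3 : x ^ 3 = 1 := by rw [← h₃]; exact pow_orderOf_eq_one x
  have hs2 : s ^ 2 = 1 := by rw [← h₂]; exact pow_orderOf_eq_one s
  have hx1 : x ≠ 1 := by
    intro h
    rw [h, orderOf_one] at h₃
    norm_num at h₃
  have hs1 : s ≠ 1 := by
    intro h
    rw [h, orderOf_one] at h₂
    norm_num at h₂
  have hg : x * s ∈ M24 := M24.mul_mem hx hs
  have e3 : (x * s) ^ 3 = s := by
    rw [hc.mul_pow, hx3, one_mul, pow_succ, hs2, one_mul]
  have e4 : (x * s) ^ 4 = x := by
    have : s ^ 4 = 1 := by
      have e : s ^ 4 = s ^ 2 * s ^ 2 := by rw [← pow_add]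
      rw [e, hs2, one_mul]
    rw [hc.mul_pow, this, mul_one, pow_succ, hx3, one_mul]
  have e6 : (x * s) ^ 6 = 1 := by
    have h1 : x ^ 6 = 1 := by
      have e : x ^ 6 = x ^ 3 * x ^ 3 := by rw [← pow_add]
      rw [e, hx3, one_mul]
    have h2 : s ^ 6 = 1 := by
      have e : s ^ 6 = s ^ 2 * s ^ 2 * s ^ 2 := by rw [← pow_add, ← pow_add]
      rw [e, hs2, one_mul, one_mul]
    rw [hc.mul_pow, h1, h2, one_mul]
  obtain ⟨h, hh, tab, hQ, htab⟩ := key hg e6 (by rw [e3]; exact hs1) (by rw [e4]; exact hx1)
  unfold Q6 at hQ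
  rw [Bool.and_eq_true] at hQ
  obtain ⟨hv, hQ⟩ := hQ
  have cnt : ∀ n : ℕ, (Finset.univ.filter fun p => ((x * s) ^ n) p = p).card
      = fixCount (powTab tab n) := by
    intro n
    rw [← card_fixed_conj h ((x * s) ^ n), ← conj_pow]
    exact (htab.pow hv n).card_fixed (validTab_powTab hv n)
  have c3 := cnt 3
  have c4 := cnt 4
  rw [e3] at c3
  rw [e4] at c4
  rw [c3, c4]
  simp only [Bool.or_eq_true, Bool.and_eq_true, beq_iff_eq] at hQ
  exact hQ

end Cfsg.Agent.S5608
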