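import Cfsg.Statements.S5610
import Cfsg.Agent.Helper93.GrpOct
import Cfsg.Agent.Helper93.Classes
import Cfsg.Agent.Helper93.Assemble

set_option autoImplicit false
open scoped Pointwise
open Cfsg

namespace Cfsg.Agent.S5610

/-- The stabiliser of an octad in the group of the length-24 code has exactly three orbits on the 3795 trios, of sizes 15, 420 and 3360, and exactly three orbits on the 1771 sextets, of sizes 35, 840 and 896. -/
theorem result (o : Finset Cfsg.GolayPt) (ho : o ∈ Cfsg.octads) : (∃ X₁ ∈ Cfsg.trios, ∃ X₂ ∈ Cfsg.trios, ∃ X₃ ∈ Cfsg.trios, (MulAction.orbit ↥(MulAction.stabilizer Cfsg.M24 o) X₁).ncard = 15 ∧ (MulAction.orbit ↥(MulAction.stabilizer Cfsg.M24 o) X₂).ncard = 420 ∧ (MulAction.orbit ↥(MulAction.stabilizer Cfsg.M24 o) X₃).ncard = 3360 ∧ Cfsg.trios = MulAction.orbit ↥(MulAction.stabilizer Cfsg.M24 o) X₁ ∪ MulAction.orbit ↥(MulAction.stabilizer Cfsg.M24 o) X₂ ∪ MulAction.orbit ↥(MulAction.stabilizer Cfsg.M24 o) X₃)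 ∧ (∃ Y₁ ∈ Cfsg.sextets, ∃ Y₂ ∈ Cfsg.sextets, ∃ Y₃ ∈ Cfsg.sextets, (MulAction.orbit ↥(MulAction.stabilizer Cfsg.M24 o) Y₁).ncard = 35 ∧ (MulAction.orbit ↥(MulAction.stabilizer Cfsg.M24 o) Y₂).ncard = 840 ∧ (MulAction.orbit ↥(MulAction.stabilizer Cfsg.M24 o) Y₃).ncard = 896 ∧ Cfsg.sextets = MulAction.orbit ↥(MulAction.stabilizer Cfsg.M24 o) Y₁ ∪ MulAction.orbit ↥(MulAction.stabilizer Cfsg.M24 o) Y₂ ∪ MulAction.orbit ↥(MulAction.stabilizer Cfsg.M24 o) Y₃) := by
  open Cfsg.Agent.Helper93 in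
  have hlab3 : ∀ {n OID : ℕ}, allB n (fun i => Nat.blt (getW 8 OID i) 3) = true → ∀ i < n,
      getW 8 OID i = 1 ∨ getW 8 OID i = 0 ∨ getW 8 OID i = 2 := by
    intro n OID h i hi
    have := allB_spec h i hi
    have h3 : getW 8 OID i < 3 := by simpa [Nat.blt_eq] using this
    omega
  open Cfsg.Agent.Helper93 in
  have hlab3' : ∀ {n OID : ℕ}, allB n (fun i => Nat.blt (getW 8 OID i) 3) = true → ∀ i < n,
      getW 8 OID i = 2 ∨ getW 8 OID i = 1 ∨ getW 8 OID i = 0 := by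
    intro n OID h i hi
    have := allB_spec h i hi
    have h3 : getW 8 OID i < 3 := by simpa [Nat.blt_eq] using this
    omega
  open Cfsg.Agent.Helper93 in
  have base1 : Decomp3 (encSet.dec (octArr.a 500)) Cfsg.trios 15 420 3360 :=
    decomp3_of_labels (encFam 3) ko_closure (A := trioArr) trios_eq (fun i hi => koTrio_orbit hi)
      (r₁ := 13) (r₂ := 0) (r₃ := 15) (by decide) (by decide) (by decide)
      (by decide +kernel) (by decide +kernel) (by decide +kernel)
      koTrio_ncard1 koTrio_ncard0 koTrio_ncard2 (hlab3 koTrio_labels)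
  open Cfsg.Agent.Helper93 in
  have base2 : Decomp3 (encSet.dec (octArr.a 500)) Cfsg.sextets 35 840 896 :=
    decomp3_of_labels (encFam 6) ko_closure (A := sextArr) sextets_eq (fun i hi => koSext_orbit hi)
      (r₁ := 18) (r₂ := 2) (r₃ := 0) (by decide) (by decide) (by decide)
      (by decide +kernel) (by decide +kernel) (by decide +kernel)
      koSext_ncard2 koSext_ncard1 koSext_ncard0 (hlab3' koSext_labels)
  open Cfsg.Agent.Helper93 in
  obtain ⟨i, hi, rfl⟩ : ∃ i < 759, o = encSet.dec (octArr.a i) := by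
    rw [octads_eq] at ho; exact ho
  open Cfsg.Agent.Helper93 in
  obtain ⟨h, hh, hho⟩ := oct_exists_smul (i := 500) (i' := i) (by decide) hi
  rw [← hho]
  exact ⟨base1.smul (fun g hg y hy => Cfsg.Agent.Helper93.smul_mem_trios hg hy) hh,
    base2.smul (fun g hg y hy => Cfsg.Agent.Helper93.smul_mem_sextets hg hy) hh⟩

end Cfsg.Agent.S5610
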