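import Cfsg.Statements.S5611
import Cfsg.Agent.Helper93.GrpSext
import Cfsg.Agent.Helper93.Classes
import Cfsg.Agent.Helper93.Assemble

set_option autoImplicit false
open scoped Pointwise
open Cfsg

namespace Cfsg.Agent.S5611

/-- The stabiliser of a sextet in the group of the length-24 code has exactly three orbits on the 759 octads, of sizes 15, 360 and 384, and exactly four orbits on the 3795 trios, of sizes 15, 180, 720 and 2880. -/
theorem result (S : Finset (Finset Cfsg.GolayPt)) (hS : S ∈ Cfsg.sextets) : (∃ X₁ ∈ Cfsg.octads, ∃ X₂ ∈ Cfsg.octads, ∃ X₃ ∈ Cfsg.octads, (MulAction.orbit ↥(MulAction.stabilizer Cfsg.M24 S) X₁).ncard = 15 ∧ (MulAction.orbit ↥(MulAction.stabilizer Cfsg.M24 S) X₂).ncard = 360 ∧ (MulAction.orbit ↥(MulAction.stabilizer Cfsg.M24 S) X₃).ncard = 384 ∧ Cfsg.octads = MulAction.orbit ↥(MulAction.stabilizer Cfsg.M24 S) X₁ ∪ MulAction.orbit ↥(MulAction.stabilizer Cfsg.M24 S) X₂ ∪ MulAction.orbit ↥(MulAction.stabilizer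 Cfsg.M24 S) X₃) ∧ (∃ Y₁ ∈ Cfsg.trios, ∃ Y₂ ∈ Cfsg.trios, ∃ Y₃ ∈ Cfsg.trios, ∃ Y₄ ∈ Cfsg.trios, (MulAction.orbit ↥(MulAction.stabilizer Cfsg.M24 S) Y₁).ncard = 15 ∧ (MulAction.orbit ↥(MulAction.stabilizer Cfsg.M24 S) Y₂).ncard = 180 ∧ (MulAction.orbit ↥(MulAction.stabilizer Cfsg.M24 S) Y₃).ncard = 720 ∧ (MulAction.orbit ↥(MulAction.stabilizer Cfsg.M24 S) Y₄).ncard = 2880 ∧ Cfsg.trios = MulAction.orbit ↥(MulAction.stabilizer Cfsg.M24 S) Y₁ ∪ MulAction.orbit ↥(MulAction.stabilizer Cfsg.M24 S) Y₂ ∪ MulAction.orbit ↥(MulAction.stabilizer Cfsg.M24 S) Y₃ ∪ MulAction.orbit ↥(MulAction.stabilizer Cfsg.M24 S) Y₄) := by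
  open Cfsg.Agent.Helper93 in
  have base1 : Decomp3 ((encFam 6).dec (sextArr.a 0)) Cfsg.octads 15 360 384 :=
    decomp3_of_labels encSet ks_closure (A := octArr) octads_eq (fun i hi => ksOct_orbit hi)
      (r₁ := 67) (r₂ := 1) (r₃ := 0) (by decide) (by decide) (by decide)
      (by decide +kernel) (by decide +kernel) (by decide +kernel)
      ksOct_ncard2 ksOct_ncard1 ksOct_ncard0 (fun i hi => by have := labels_lt ksOct_labels i hi; omega)
  open Cfsg.Agent.Helper93 in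
  have base2 : Decomp4 ((encFam 6).dec (sextArr.a 0)) Cfsg.trios 15 180 720 2880 :=
    decomp4_of_labels (encFam 3) ks_closure (A := trioArr) trios_eq (fun i hi => ksTrio_orbit hi)
      (r₁ := 331) (r₂ := 19) (r₃ := 15) (r₄ := 0) (by decide) (by decide) (by decide) (by decide)
      (by decide +kernel) (by decide +kernel) (by decide +kernel) (by decide +kernel)
      ksTrio_ncard3 ksTrio_ncard2 ksTrio_ncard1 ksTrio_ncard0 (fun i hi => by have := labels_lt ksTrio_labels i hi; omega)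
  open Cfsg.Agent.Helper93 in
  obtain ⟨i, hi, rfl⟩ : ∃ i < 1771, S = (encFam 6).dec (sextArr.a i) := by
    rw [sextets_eq] at hS; exact hS
  open Cfsg.Agent.Helper93 in
  obtain ⟨h, hh, hho⟩ := sext_exists_smul (i := 0) (i' := i) (by decide) hi
  rw [← hho]
  exact ⟨base1.smul (fun g hg y hy => Cfsg.Agent.Helper93.smul_mem_octads hg hy) hh,
    base2.smul (fun g hg y hy => Cfsg.Agent.Helper93.smul_mem_trios hg hy) hh⟩

end Cfsg.Agent.S5611
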