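import Cfsg.Statements.S5613
import Cfsg.Agent.Helper27.OctadConf
import Cfsg.Agent.Helper26.OctadOrbits
import Cfsg.Agent.Helper26.OctadStab

set_option autoImplicit false
open scoped Pointwise
open Cfsg

namespace Cfsg.Agent.S5613

open Cfsg.Agent.Helper27 Cfsg.Agent.Helper26 Cfsg.Agent.Helper92 Cfsg.Agent.Helper7
open MulAction

/-- counting on the base octad -/
theorem base_count (k : ℕ) :
    {o' | o' ∈ octads ∧ (Helper27.setOf 5279 ∩ o').card = k}.ncard =
      countRange (fun c => Nat.beq (popc 24 (encode c)) 8 &&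
        Nat.beq (popc 24 (Nat.land (encode c) 5279)) k) 12 0 := by
  apply ncard_octads_filter (fun o' => (Helper27.setOf 5279 ∩ o').card = k)
    (fun m => Nat.beq (popc 24 (Nat.land m 5279)) k)
  intro c _ _
  rw [popc_land_5279]
  constructor
  · intro h
    rw [h]; exact Nat.beq_refl k
  · intro h
    exact Nat.eq_of_beq_eq_true h

theorem base_count0 : countRange (fun c => Nat.beq (popc 24 (encode c)) 8 &&
    Nat.beq (popc 24 (Nat.land (encode c) 5279)) 0) 12 0 = 30 := by
  decide +kernel

theorem base_count4 : countRange (fun c => Nat.beq (popc 24 (encode c)) 8 &&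
    Nat.beq (popc 24 (Nat.land (encode c) 5279)) 4) 12 0 = 280 := by
  decide +kernel

theorem base_count2 : countRange (fun c => Nat.beq (popc 24 (encode c)) 8 &&
    Nat.beq (popc 24 (Nat.land (encode c) 5279)) 2) 12 0 = 448 := by
  decide +kernel

/-- the number of octads meeting a given octad in `k` points -/
theorem meet_count {o : Finset GolayPt} (ho : o ∈ octads) (k : ℕ) :
    {o' : Finset GolayPt | o' ∈ octads ∧ (o ∩ o').card = k}.ncard =
      countRange (fun c => Nat.beq (popc 24 (encode c)) 8 &&
        Nat.beq (popc 24 (Nat.land (encode c) 5279)) k) 12 0 := by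
  obtain ⟨a, ha, hao⟩ := exists_smul_octad_eq ho setOf_5279_mem_octads
  rw [← base_count k]
  apply ncard_eq_of_smul a
  intro s
  simp only [Set.mem_ofPred_eq]
  rw [smul_mem_octads_iff ha, ← hao, card_smul_inter]

/-- the orbit of `o'` under the stabiliser of `o` -/
theorem orbit_stab_eq {o o' : Finset GolayPt} (ho : o ∈ octads) (ho' : o' ∈ octads) :
    orbit (stabilizer M24 o) o' = {o'' | o'' ∈ octads ∧ (o ∩ o'').card = (o ∩ o').card} := by
  ext y
  constructor
  · rintro ⟨g, rfl⟩
    have hg : (g : M24) • o = o := g.2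
    refine ⟨smul_mem_octads (g : M24).2 ho', ?_⟩
    show (o ∩ ((g : M24) : Equiv.Perm GolayPt) • o').card = _
    have hg' : ((g : M24) : Equiv.Perm GolayPt) • o = o := hg
    have h3 := card_smul_inter ((g : M24) : Equiv.Perm GolayPt) o o'
    rw [hg'] at h3
    exact h3
  · rintro ⟨hy, hc⟩
    obtain ⟨g, hg, hgo, hgy⟩ := octad_stab_trans ho ho' hy hc.symm
    exact ⟨⟨⟨g, hg⟩, hgo⟩, hgy⟩

theorem card_stab_octad {o : Finset GolayPt} (ho : o ∈ octads) :
    Nat.card (stabilizer M24 o) = 322560 := by
  have h1 := Subgroup.card_mul_index (stabilizer M24 o)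
  rw [index_stabilizer, orbit_M24_octad ho, ncard_octads, card_M24] at h1
  omega

/-- orbit-stabiliser for the joint stabiliser -/
theorem card_joint_mul {o o' : Finset GolayPt} (ho : o ∈ octads) (ho' : o' ∈ octads) :
    Nat.card ↥(stabilizer M24 o ⊓ stabilizer M24 o') *
      {o'' : Finset GolayPt | o'' ∈ octads ∧ (o ∩ o'').card = (o ∩ o').card}.ncard = 322560 := by
  have h1 := Subgroup.card_mul_index (stabilizer (stabilizer M24 o) o')
  rw [index_stabilizer, orbit_stab_eq ho ho', card_stab_octad ho,
    stabilizer_subgroup_eq_subgroupOf (G := M24) (stabilizer M24 o) o',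
    Nat.card_congr (subgroupOfEquivInf _ _)] at h1
  exact h1


/-- In the group of the length-24 code, the joint stabiliser of two octads has order 10752, 1152 or 720 according as the octads meet in 0, 4 or 2 points. -/
theorem result (o o' : Finset Cfsg.GolayPt) (ho : o ∈ Cfsg.octads) (ho' : o' ∈ Cfsg.octads) : ((o ∩ o').card = 0 → Nat.card ↥(MulAction.stabilizer Cfsg.M24 o ⊓ MulAction.stabilizer Cfsg.M24 o') = 10752) ∧ ((o ∩ o').card = 4 → Nat.card ↥(MulAction.stabilizer Cfsg.M24 o ⊓ MulAction.stabilizer Cfsg.M24 o') = 1152) ∧ ((o ∩ o').card = 2 → Nat.card ↥(MulAction.stabilizer Cfsg.M24 o ⊓ MulAction.stabilizer Cfsg.M24 o') = 720) := by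
  have key := card_joint_mul ho ho'
  refine ⟨?_, ?_, ?_⟩
  · intro h
    rw [h, meet_count ho 0, base_count0] at key
    omega
  · intro h
    rw [h, meet_count ho 4, base_count4] at key
    omega
  · intro h
    rw [h, meet_count ho 2, base_count2] at key
    omega

end Cfsg.Agent.S5613
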