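import Cfsg.Statements.S5617
import Cfsg.Agent.Helper93.GrpDodPair
import Cfsg.Agent.Helper93.Dodecads
import Cfsg.Agent.Helper93.Assemble

set_option autoImplicit false
open scoped Pointwise
open Cfsg

namespace Cfsg.Agent.S5617

/-- The setwise stabiliser, in the group of the length-24 code, of a complementary pair of dodecads has exactly three orbits on the 1771 sextets, of sizes 396, 495 and 880. -/
theorem result (d : Finset Cfsg.GolayPt) (hd : d ∈ Cfsg.dodecads) : ∃ X₁ ∈ Cfsg.sextets, ∃ X₂ ∈ Cfsg.sextets, ∃ X₃ ∈ Cfsg.sextets, (MulAction.orbit ↥(MulAction.stabilizer Cfsg.M24 ({d, Finset.univ \ d} : Finset (Finset Cfsg.GolayPt))) X₁).ncard = 396 ∧ (MulAction.orbit ↥(MulAction.stabilizer Cfsg.M24 ({d, Finset.univ \ d} : Finset (Finset Cfsg.GolayPt))) X₂).ncard = 495 ∧ (MulAction.orbit ↥(MulAction.stabilizer Cfsg.M24 ({d, Finset.univ \ d} : Finset (Finset Cfsg.GolayPt))) X₃).ncard = 880 ∧ Cfsg.sextets = MulAction.orbit ↥(MulAction.stabilizer Cfsg.M24 ({d, Finset.univ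 \ d} : Finset (Finset Cfsg.GolayPt))) X₁ ∪ MulAction.orbit ↥(MulAction.stabilizer Cfsg.M24 ({d, Finset.univ \ d} : Finset (Finset Cfsg.GolayPt))) X₂ ∪ MulAction.orbit ↥(MulAction.stabilizer Cfsg.M24 ({d, Finset.univ \ d} : Finset (Finset Cfsg.GolayPt))) X₃ := by
  open Cfsg.Agent.Helper93 in
  have base : Decomp3 ((encFam 2).dec (dpArr.a 500)) Cfsg.sextets 396 495 880 :=
    decomp3_of_labels (encFam 6) kd_closure (A := sextArr) sextets_eq (fun i hi => kdSext_orbit hi)
      (r₁ := 1) (r₂ := 0) (r₃ := 3) (by decide) (by decide) (by decide)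
      (by decide +kernel) (by decide +kernel) (by decide +kernel)
      kdSext_ncard1 kdSext_ncard0 kdSext_ncard2
      (fun i hi => by have := labels_lt kdSext_labels i hi; omega)
  open Cfsg.Agent.Helper93 in
  obtain ⟨i, hi, rfl⟩ : ∃ i < 2576, d = encSet.dec (dodArr.a i) := by
    rw [dodecads_eq] at hd; exact hd
  open Cfsg.Agent.Helper93 in
  obtain ⟨h, hh, hho⟩ := dod_exists_smul (i := 787) (i' := i) (by decide) hi
  rw [← hho, ← Cfsg.Agent.Helper93.smul_pair, ← Cfsg.Agent.Helper93.dp500_eq]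
  exact base.smul (fun g hg y hy => Cfsg.Agent.Helper93.smul_mem_sextets hg hy) hh

end Cfsg.Agent.S5617
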