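import Cfsg.Statements.S5618
import Cfsg.Agent.Helper7.M12Sharp
import Cfsg.Agent.Helper7.M24Octad

set_option autoImplicit false
open scoped Pointwise
open Cfsg

namespace Cfsg.Agent.S5618

open Cfsg.Agent.Helper7
open MulAction

/-- five points of a set with at least five points, as an embedding -/
theorem exists_emb_five (s : Finset GolayPt) (h5 : 5 ≤ s.card) :
    ∃ x : Fin 5 ↪ GolayPt, (∀ i, x i ∈ s) ∧ ∀ t : Finset GolayPt, (∀ i, x i ∈ t) → 5 ≤ (s ∩ t).card := by
  obtain ⟨u, hus, hu5⟩ := Finset.exists_subset_card_eq h5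
  let e : Fin 5 ≃ u := (Finset.equivFinOfCardEq hu5).symm
  let x : Fin 5 ↪ GolayPt := e.toEmbedding.trans (Function.Embedding.subtype _)
  have hx : ∀ i, x i ∈ u := fun i => (e i).2
  refine ⟨x, fun i => hus (hx i), fun t ht => ?_⟩
  have hsub : u ⊆ s ∩ t := by
    intro p hp
    obtain ⟨i, hi⟩ := e.surjective ⟨p, hp⟩
    have hpx : p = x i := by
      show p = ((e i : u) : GolayPt)
      rw [hi]
    rw [Finset.mem_inter]
    exact ⟨hus hp, hpx ▸ ht i⟩
  rw [← hu5]
  exact Finset.card_le_card hsub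

/-- sharpness: an element of the dodecad stabiliser fixing five points of the dodecad is trivial -/
theorem eq_one_of_fix_five {d : Finset GolayPt} (hd : d ∈ dodecads) {g : M24}
    (hg : g ∈ stabilizer M24 d) (s : Finset GolayPt) (hs : s ⊆ d) (h5 : 5 ≤ s.card)
    (hfix : ∀ p ∈ s, (g : Equiv.Perm GolayPt) p = p) : g = 1 := by
  obtain ⟨x, hx, -⟩ := exists_emb_five s h5
  obtain ⟨g₀, -, huniq⟩ := dodecad_stab_sharp hd x x (fun i => hs (hx i)) (fun i => hs (hx i))
  have h1 := huniq ⟨g, hg⟩ (fun i => hfix _ (hx i))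
  have h2 := huniq 1 (fun i => rfl)
  have : (⟨g, hg⟩ : stabilizer M24 d) = 1 := h1.trans h2.symm
  exact congrArg Subtype.val this

theorem hexad_card {d C : Finset GolayPt} (hC : C ∈ hexadsOn d) : C.card = 6 := hC.1

theorem hexad_subset {d C : Finset GolayPt} (hC : C ∈ hexadsOn d) : C ⊆ d := by
  obtain ⟨-, o, -, rfl⟩ := hC
  exact Finset.inter_subset_right

theorem card_sdiff_hexad {d C : Finset GolayPt} (hd : d ∈ dodecads) (hC : C ∈ hexadsOn d) :
    (d \ C).card = 6 := by
  rw [Finset.card_sdiff_of_subset (hexad_subset hC), hexad_card hC]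
  have : d.card = 12 := by
    rw [Helper7.mem_dodecads_iff] at hd
    obtain ⟨w, -, rfl, h⟩ := hd
    exact h
  omega

/-- a permutation fixing all points but one is the identity -/
theorem perm_eq_one_of_fix_but_one {α : Type*} (f : Equiv.Perm α) (a : α) (h : ∀ b, b ≠ a → f b = b) :
    f = 1 := by
  apply Equiv.ext
  intro b
  by_cases hb : b = a
  · subst hb
    by_contra hne
    have h1 := h (f b) hne
    exact hne (f.injective h1)
  · exact h b hb

/-- restriction of the joint stabiliser to the hexad -/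
def hexRes (d C : Finset GolayPt) : ↥(stabilizer M24 d ⊓ stabilizer M24 C) →* Equiv.Perm ↥C where
  toFun g := ((g : M24) : Equiv.Perm GolayPt).subtypePerm (by
    intro x
    have h : ((g : M24) : Equiv.Perm GolayPt) • C = C :=
      mem_stabilizer_iff.1 (Subgroup.mem_inf.1 g.2).2
    have key : ((g : M24) : Equiv.Perm GolayPt) • x ∈ ((g : M24) : Equiv.Perm GolayPt) • C ↔ x ∈ C :=
      Finset.smul_mem_smul_finset_iff _
    rw [h] at key
    exact key)
  map_one' := Equiv.ext fun _ => Subtype.ext rfl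
  map_mul' _ _ := Equiv.ext fun _ => Subtype.ext rfl

theorem hexRes_apply (d C : Finset GolayPt) (g : ↥(stabilizer M24 d ⊓ stabilizer M24 C)) (x : ↥C) :
    ((hexRes d C g x : ↥C) : GolayPt) = ((g : M24) : Equiv.Perm GolayPt) x := rfl

theorem hexRes_injective {d C : Finset GolayPt} (hd : d ∈ dodecads) (hC : C ∈ hexadsOn d) :
    Function.Injective (hexRes d C) := by
  rw [injective_iff_map_eq_one]
  intro g hg
  apply Subtype.ext
  apply eq_one_of_fix_five hd (Subgroup.mem_inf.1 g.2).1 C (hexad_subset hC)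
    (by rw [hexad_card hC]; norm_num)
  intro p hp
  have := congrArg (fun e : Equiv.Perm ↥C => ((e ⟨p, hp⟩ : ↥C) : GolayPt)) hg
  exact this

theorem hexRes_surjective {d C : Finset GolayPt} (hd : d ∈ dodecads) (hC : C ∈ hexadsOn d) :
    Function.Surjective (hexRes d C) := by
  intro σ
  have hC6 := hexad_card hC
  have hCd := hexad_subset hC
  obtain ⟨-, o, ho, hoC⟩ := hC
  -- five points of `C`
  obtain ⟨u, huC, hu5⟩ := Finset.exists_subset_card_eq (show 5 ≤ C.card by rw [hC6]; norm_num)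
  let e : Fin 5 ≃ u := (Finset.equivFinOfCardEq hu5).symm
  let x : Fin 5 ↪ GolayPt := e.toEmbedding.trans (Function.Embedding.subtype _)
  have hxu : ∀ i, x i ∈ u := fun i => (e i).2
  have hxC : ∀ i, x i ∈ C := fun i => huC (hxu i)
  let y : Fin 5 ↪ GolayPt :=
    ⟨fun i => (σ ⟨x i, hxC i⟩ : GolayPt), by
      intro i j hij
      have h1 : σ ⟨x i, hxC i⟩ = σ ⟨x j, hxC j⟩ := Subtype.ext hij
      have h2 := σ.injective h1
      have h3 : x i = x j := congrArg (fun z : ↥C => (z : GolayPt)) h2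
      exact x.injective h3⟩
  have hyC : ∀ i, y i ∈ C := fun i => (σ ⟨x i, hxC i⟩).2
  obtain ⟨g, hgxy, -⟩ := dodecad_stab_sharp hd x y (fun i => hCd (hxC i)) (fun i => hCd (hyC i))
  -- `g` stabilises `C`
  have hgd : ((g : M24) : Equiv.Perm GolayPt) • d = d := mem_stabilizer_iff.1 g.2
  have hgo : ((g : M24) : Equiv.Perm GolayPt) • o = o := by
    apply octad_eq_of_five ho (smul_mem_octads (g : M24).2 ho) (Finset.univ.image y)
    · rw [Finset.card_image_of_injective _ y.injective]
      simp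
    · intro p hp
      obtain ⟨i, -, rfl⟩ := Finset.mem_image.1 hp
      have := hyC i
      rw [← hoC] at this
      exact (Finset.mem_inter.1 this).1
    · intro p hp
      obtain ⟨i, -, rfl⟩ := Finset.mem_image.1 hp
      rw [← hgxy i]
      have := hxC i
      rw [← hoC] at this
      exact Finset.smul_mem_smul_finset (Finset.mem_inter.1 this).1
  have hgC : ((g : M24) : Equiv.Perm GolayPt) • C = C := by
    rw [← hoC, Finset.smul_finset_inter, hgo, hgd]
  let g' : ↥(stabilizer M24 d ⊓ stabilizer M24 C) :=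
    ⟨g, Subgroup.mem_inf.2 ⟨g.2, mem_stabilizer_iff.2 hgC⟩⟩
  refine ⟨g', ?_⟩
  -- the sixth point
  have h1 : (C \ u).card = 1 := by
    rw [Finset.card_sdiff_of_subset huC, hC6, hu5]
  obtain ⟨a, ha⟩ := Finset.card_eq_one.1 h1
  have haC : a ∈ C := by
    have : a ∈ C \ u := by rw [ha]; simp
    exact (Finset.mem_sdiff.1 this).1
  have hfix : σ⁻¹ * hexRes d C g' = 1 := by
    apply perm_eq_one_of_fix_but_one _ ⟨a, haC⟩
    intro b hb
    have hbu : b.1 ∈ u := by
      by_contra hnu
      have : b.1 ∈ C \ u := Finset.mem_sdiff.2 ⟨b.2, hnu⟩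
      rw [ha, Finset.mem_singleton] at this
      exact hb (Subtype.ext this)
    obtain ⟨i, hi⟩ := e.surjective ⟨b.1, hbu⟩
    have hbx : b.1 = x i := by
      show b.1 = ((e i : u) : GolayPt)
      rw [hi]
    rw [Equiv.Perm.mul_apply, Equiv.Perm.inv_eq_iff_eq]
    apply Subtype.ext
    rw [hexRes_apply]
    show ((g : M24) : Equiv.Perm GolayPt) b.1 = (σ b : GolayPt)
    have hb' : b = ⟨x i, hxC i⟩ := Subtype.ext hbx
    rw [hb']
    exact hgxy i
  have := inv_mul_eq_one.1 hfix
  exact this.symm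


/-- For a dodecad d of the length-24 code and a hexad C on it (a 6-point intersection of d with an octad): the joint stabiliser of d and C in the code's group is isomorphic to the symmetric group of degree 6, and it acts faithfully both on the six points of C and on the six points of d outside C. -/
theorem result (d : Finset Cfsg.GolayPt) (hd : d ∈ Cfsg.dodecads) (C : Finset Cfsg.GolayPt) (hC : C ∈ Cfsg.hexadsOn d) : Nonempty (↥(MulAction.stabilizer Cfsg.M24 d ⊓ MulAction.stabilizer Cfsg.M24 C) ≃* Equiv.Perm (Fin 6)) ∧ (∀ g ∈ MulAction.stabilizer Cfsg.M24 d ⊓ MulAction.stabilizer Cfsg.M24 C, (∀ p ∈ C, ((g : ↥Cfsg.M24) : Equiv.Perm Cfsg.GolayPt) p = p) → g = 1) ∧ ∀ g ∈ MulAction.stabilizer Cfsg.M24 d ⊓ MulAction.stabilizer Cfsg.M24 C, (∀ p ∈ d \ C, ((g : ↥Cfsg.M24) : Equiv.Perm Cfsg.GolayPt) p = p) → g = 1 := by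
  refine ⟨?_, ?_, ?_⟩
  · have e1 := MulEquiv.ofBijective (hexRes d C) ⟨hexRes_injective hd hC, hexRes_surjective hd hC⟩
    have e2 : Equiv.Perm ↥C ≃* Equiv.Perm (Fin 6) :=
      (Finset.equivFinOfCardEq (hexad_card hC)).permCongrHom
    exact ⟨e1.trans e2⟩
  · intro g hg hfix
    exact eq_one_of_fix_five hd (Subgroup.mem_inf.1 hg).1 C (hexad_subset hC)
      (by rw [hexad_card hC]; norm_num) hfix
  · intro g hg hfix
    exact eq_one_of_fix_five hd (Subgroup.mem_inf.1 hg).1 (d \ C) Finset.sdiff_subset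
      (by rw [card_sdiff_hexad hd hC]; norm_num) hfix

end Cfsg.Agent.S5618
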