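import Cfsg.Statements.S5620
import Cfsg.Agent.Helper93.M24Tables

set_option autoImplicit false
open scoped Pointwise
open Cfsg
open scoped Pointwise

namespace Cfsg.Agent.S5620

open Cfsg.Agent.Helper7 Cfsg.Agent.Helper93

/-- conjugating a stabiliser of the shape `M24 ⊓ Stab D ⊓ Stab p` by an element of `M24` -/
theorem conj_smul_stab {k : Equiv.Perm GolayPt} (hk : k ∈ M24) (D : Finset GolayPt) (p : GolayPt) :
    MulAut.conj k • (M24 ⊓ MulAction.stabilizer (Equiv.Perm GolayPt) D ⊓
        MulAction.stabilizer (Equiv.Perm GolayPt) p) =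
      M24 ⊓ MulAction.stabilizer (Equiv.Perm GolayPt) (k • D) ⊓
        MulAction.stabilizer (Equiv.Perm GolayPt) (k • p) := by
  have hinj : Function.Injective (MulAut.conj k).toMonoidHom := (MulAut.conj k).injective
  rw [Subgroup.pointwise_smul_def]
  change Subgroup.map (MulAut.conj k).toMonoidHom _ = _
  rw [Subgroup.map_inf _ _ _ hinj, Subgroup.map_inf _ _ _ hinj,
    ← MulAction.stabilizer_smul_eq_stabilizer_map_conj k D,
    ← MulAction.stabilizer_smul_eq_stabilizer_map_conj k p,
    ← MulAction.stabilizer_smul_eq_stabilizer_map_conj k (supports (golayCode : Set (GolayPt → ZMod 2))),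
    MulAction.mem_stabilizer_iff.mp hk]


theorem smul_compl_eq_iff (x : Equiv.Perm GolayPt) (D : Finset GolayPt) :
    x • (Finset.univ \ D) = Finset.univ \ D ↔ x • D = D := by
  rw [Finset.smul_finset_sdiff, Finset.smul_finset_univ]
  constructor
  · intro h
    have := congrArg (fun s => Finset.univ \ s) h
    simpa [sdiff_sdiff_right_self] using this
  · intro h
    rw [h]

theorem stab_compl (D : Finset GolayPt) :
    MulAction.stabilizer (Equiv.Perm GolayPt) (Finset.univ \ D) =
      MulAction.stabilizer (Equiv.Perm GolayPt) D := by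
  ext x
  rw [MulAction.mem_stabilizer_iff, MulAction.mem_stabilizer_iff, smul_compl_eq_iff]

set_option maxRecDepth 100000 in
theorem projInv_smul_dodecad : projInv • Spor.squareDodecad = Finset.univ \ Spor.squareDodecad := by
  decide +kernel


def t1 : List ℕ := [0, 2, 4, 6, 8, 10, 12, 14, 16, 18, 20, 22, 1, 3, 5, 7, 9, 11, 13, 15, 17, 19, 21, 23]
def t1' : List ℕ := [0, 12, 1, 13, 2, 14, 3, 15, 4, 16, 5, 17, 6, 18, 7, 19, 8, 20, 9, 21, 10, 22, 11, 23]
def t2 : List ℕ := [1, 8, 0, 9, 12, 19, 16, 20, 6, 4, 5, 10, 3, 2, 22, 15, 18, 14, 13, 21, 7, 17, 11, 23]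
def t2' : List ℕ := [2, 0, 13, 12, 9, 10, 8, 20, 1, 3, 11, 22, 4, 18, 17, 15, 6, 21, 16, 5, 7, 19, 14, 23]

theorem valid1 : ValidTables t1 t1' := by decide +kernel
theorem valid2 : ValidTables t2 t2' := by decide +kernel

/-- `t ↦ 2 t` -/
def m1 : Equiv.Perm GolayPt := tablePerm t1 t1' valid1
/-- an element of the stabiliser of the dodecad of squares fixing the extra point and moving `0` -/
def m2 : Equiv.Perm GolayPt := tablePerm t2 t2' valid2

theorem m1_mem : m1 ∈ M24 := tablePerm_mem_M24 _ _ _ (by decide +kernel)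
theorem m2_mem : m2 ∈ M24 := tablePerm_mem_M24 _ _ _ (by decide +kernel)

set_option maxRecDepth 100000 in
theorem m1_dodecad : m1 • Spor.squareDodecad = Spor.squareDodecad := by decide +kernel
set_option maxRecDepth 100000 in
theorem m2_dodecad : m2 • Spor.squareDodecad = Spor.squareDodecad := by decide +kernel

theorem m1_none : m1 none = none := by decide +kernel
theorem m2_none : m2 none = none := by decide +kernel

set_option maxRecDepth 100000 in
theorem no_common_fixed : ∀ q ∈ Spor.squareDodecad, m1 q = q → m2 q = q → False := by decide +kernel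

theorem zero_mem_dodecad : (some 0 : GolayPt) ∈ Spor.squareDodecad := by decide +kernel

theorem M11_eq : Spor.M11 = M24 ⊓ MulAction.stabilizer (Equiv.Perm GolayPt) Spor.squareDodecad ⊓
    MulAction.stabilizer (Equiv.Perm GolayPt) (some 0 : GolayPt) := rfl


/-- Inside the stabiliser of the dodecad of squares (a Mathieu group of degree 12), the stabiliser of the residue 0 (a point of the dodecad) and the stabiliser of the extra point (a point outside the dodecad) are isomorphic but not conjugate; conjugation by a suitable element of the code's group that maps the dodecad of squares onto its complement carries the first onto the second. -/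
theorem result : Nonempty (↥(Cfsg.Spor.M12 ⊓ MulAction.stabilizer (Equiv.Perm Cfsg.GolayPt) (none : Cfsg.GolayPt)) ≃* ↥Cfsg.Spor.M11) ∧ (¬ ∃ k ∈ Cfsg.Spor.M12, MulAut.conj k • Cfsg.Spor.M11 = Cfsg.Spor.M12 ⊓ MulAction.stabilizer (Equiv.Perm Cfsg.GolayPt) (none : Cfsg.GolayPt)) ∧ ∃ g ∈ Cfsg.M24, g • Cfsg.Spor.squareDodecad = Finset.univ \ Cfsg.Spor.squareDodecad ∧ MulAut.conj g • Cfsg.Spor.M11 = Cfsg.Spor.M12 ⊓ MulAction.stabilizer (Equiv.Perm Cfsg.GolayPt) (none : Cfsg.GolayPt) := by
  have hconj : MulAut.conj projInv • Spor.M11 =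
      Spor.M12 ⊓ MulAction.stabilizer (Equiv.Perm GolayPt) (none : GolayPt) := by
    rw [M11_eq, conj_smul_stab projInv_mem_M24, projInv_smul_dodecad, stab_compl]
    rfl
  refine ⟨?_, ?_, projInv, projInv_mem_M24, projInv_smul_dodecad, hconj⟩
  · exact ⟨((Subgroup.equivSMul (MulAut.conj projInv) Spor.M11).trans
      (MulEquiv.subgroupCongr hconj)).symm⟩
  · rintro ⟨k, hk, hkeq⟩
    have hk24 : k ∈ M24 := hk.1
    have hkD : k • Spor.squareDodecad = Spor.squareDodecad := MulAction.mem_stabilizer_iff.mp hk.2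
    rw [M11_eq, conj_smul_stab hk24, hkD] at hkeq
    have hq : k (some 0) ∈ Spor.squareDodecad := by
      rw [← hkD]
      exact Finset.smul_mem_smul_finset zero_mem_dodecad
    have h1 : m1 ∈ Spor.M12 ⊓ MulAction.stabilizer (Equiv.Perm GolayPt) (none : GolayPt) :=
      ⟨⟨m1_mem, MulAction.mem_stabilizer_iff.mpr m1_dodecad⟩, MulAction.mem_stabilizer_iff.mpr m1_none⟩
    have h2 : m2 ∈ Spor.M12 ⊓ MulAction.stabilizer (Equiv.Perm GolayPt) (none : GolayPt) :=
      ⟨⟨m2_mem, MulAction.mem_stabilizer_iff.mpr m2_dodecad⟩, MulAction.mem_stabilizer_iff.mpr m2_none⟩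
    rw [← hkeq] at h1 h2
    exact no_common_fixed _ hq (MulAction.mem_stabilizer_iff.mp h1.2) (MulAction.mem_stabilizer_iff.mp h2.2)

end Cfsg.Agent.S5620
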