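import Cfsg.Statements.S5622
import Cfsg.Agent.Helper93.SelfDualCode

set_option autoImplicit false
open Cfsg

namespace Cfsg.Agent.S5622

/-- Let C be a self-dual binary code of length 24 with minimum weight at least 8 (a 12-dimensional subspace of the 24-dimensional space over the field with two elements, any two of whose words have dot product zero, with no non-zero word of weight below 8 — an abstract extended binary Golay code). Then the minimum weight of C is exactly 8, and the supports of the words of weight 8 (the octads) form a Steiner system S(5, 8, 24) on the 24 coordinates: every 5 coordinates lie in the support of exactly one word of weight 8. -/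
theorem result (C : Submodule (ZMod 2) (Fin 24 → ZMod 2)) (hdim : Module.finrank (ZMod 2) C = 12) (horth : ∀ v ∈ C, ∀ w ∈ C, ∑ i, v i * w i = 0) (hmin : ∀ w ∈ C, w ≠ 0 → 8 ≤ hammingNorm w) : (∃ w ∈ C, hammingNorm w = 8) ∧ Cfsg.IsSteinerSystem 5 8 (Cfsg.wordsOfWeight (C : Set (Fin 24 → ZMod 2)) 8) := by
  have hC := Cfsg.Agent.Helper93.IsGolayLike.mk hdim horth hmin
  have hsupp : ∀ c : Fin 24 → ZMod 2, Cfsg.support₂ c = Finset.univ.filter fun i => c i ≠ 0 := by
    intro c
    unfold Cfsg.support₂
    congr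
  have hwt : ∀ c : Fin 24 → ZMod 2, (Cfsg.support₂ c).card = hammingNorm c := by
    intro c
    rw [hsupp]
    rfl
  constructor
  · obtain ⟨S, -, hS⟩ := Finset.exists_subset_card_eq (s := (Finset.univ : Finset (Fin 24))) (n := 5) (by simp)
    obtain ⟨c, hc, h8, -⟩ := hC.exists_octad S hS
    exact ⟨c, hc, h8⟩
  · refine ⟨fun b hb => hb.2, fun s hs => ?_⟩
    obtain ⟨c, hc, h8, hsc⟩ := hC.exists_octad s hs
    refine ⟨Cfsg.support₂ c, ⟨⟨⟨c, hc, rfl⟩, by rw [hwt, h8]⟩, by rw [hsupp]; exact hsc⟩, ?_⟩
    rintro b ⟨⟨⟨c', hc', rfl⟩, hb8⟩, hsb⟩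
    rw [hwt] at hb8
    rw [hsupp] at hsb
    rw [hC.octad_unique hc' hc hb8 h8 s hs hsb hsc]

end Cfsg.Agent.S5622
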