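import Cfsg.Statements.S5632
import Cfsg.Agent.Helper93.Transvection

set_option autoImplicit false
open Cfsg

namespace Cfsg.Agent.S5632

/-- For a finite field F and subspaces 0 < W < U of F^n with dim W + dim U = n, the elements of SL_n(F) stabilising both W and U form a subgroup that is not maximal in SL_n(F): some subgroup lies strictly between it and SL_n(F). -/
theorem result {F : Type*} [Field F] [Fintype F] (n : ℕ) (W U : Submodule F (Fin n → F)) (hW0 : W ≠ ⊥) (hWU : W < U) (hdim : Module.finrank F W + Module.finrank F U = n) : ∃ K : Subgroup (Matrix.GeneralLinearGroup (Fin n) F), Cfsg.Geo.subspaceStabilizer W ⊓ Cfsg.Geo.subspaceStabilizer U ⊓ Cfsg.Geo.specialLinear (Fin n) F < K ∧ K < Cfsg.Geo.specialLinear (Fin n) F := by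
  have hU1 : U ≠ ⊤ := by
    rintro rfl
    have hpos : 0 < Module.finrank F W := Submodule.one_le_finrank_iff.mpr hW0
    rw [finrank_top, Module.finrank_fin_fun] at hdim
    omega
  have hW1 : W ≠ ⊤ := fun h => (lt_of_lt_of_le hWU le_top).ne h
  obtain ⟨u, huU, huW⟩ := SetLike.exists_of_lt hWU
  obtain ⟨v, hv⟩ : ∃ v, v ∉ U := by
    by_contra hall
    push Not at hall
    exact hU1 (eq_top_iff.mpr fun x _ => hall x)
  have hu : u ∉ W ⊔ Submodule.span F {v} := by
    rw [Submodule.mem_sup]
    rintro ⟨w, hw, y, hy, hsum⟩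
    obtain ⟨c, rfl⟩ := Submodule.mem_span_singleton.mp hy
    have hcv : c • v ∈ U := by
      have : c • v = u - w := by rw [← hsum]; abel
      rw [this]
      exact U.sub_mem huU (hWU.le hw)
    by_cases hc : c = 0
    · subst hc
      rw [zero_smul, add_zero] at hsum
      exact huW (hsum ▸ hw)
    · apply hv
      have : v = c⁻¹ • (c • v) := by rw [smul_smul, inv_mul_cancel₀ hc, one_smul]
      rw [this]
      exact U.smul_mem _ hcv
  obtain ⟨g, hgS, hgW, hgu⟩ := Cfsg.Agent.Helper93.exists_sl_stab_move W u v hu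
  obtain ⟨g', hg'S, hg'W⟩ := Cfsg.Agent.Helper93.exists_sl_not_stab W hW0 hW1
  refine ⟨Cfsg.Geo.subspaceStabilizer W ⊓ Cfsg.Geo.specialLinear (Fin n) F, ?_, ?_⟩
  · refine lt_of_le_of_ne (inf_le_inf_right _ inf_le_left) fun heq => ?_
    have hmem : g ∈ Cfsg.Geo.subspaceStabilizer W ⊓ Cfsg.Geo.specialLinear (Fin n) F := ⟨hgW, hgS⟩
    rw [← heq] at hmem
    have hgU : g ∈ Cfsg.Geo.subspaceStabilizer U := hmem.1.2
    have := ((Cfsg.Agent.Helper93.mem_subspaceStabilizer_iff U g).mp hgU u).mp huU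
    rw [hgu] at this
    exact hv ((U.add_mem_iff_right huU).mp this)
  · refine lt_of_le_of_ne inf_le_right fun heq => ?_
    have hmem : g' ∈ Cfsg.Geo.specialLinear (Fin n) F := hg'S
    rw [← heq] at hmem
    exact hg'W hmem.1

end Cfsg.Agent.S5632
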