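import Cfsg.Statements.S5633
import Cfsg.Agent.Helper93.Transvection

set_option autoImplicit false
open Cfsg

namespace Cfsg.Agent.S5633

/-- For a finite field F and complementary non-zero subspaces W ⊕ U = F^n with dim W < dim U, the elements of SL_n(F) stabilising both W and U form a subgroup that is not maximal in SL_n(F): some subgroup lies strictly between it and SL_n(F). -/
theorem result {F : Type*} [Field F] [Fintype F] (n : ℕ) (W U : Submodule F (Fin n → F)) (hW0 : W ≠ ⊥) (hWU : W ⊓ U = ⊥) (hWU' : W ⊔ U = ⊤) (hdim : Module.finrank F W < Module.finrank F U) : ∃ K : Subgroup (Matrix.GeneralLinearGroup (Fin n) F), Cfsg.Geo.subspaceStabilizer W ⊓ Cfsg.Geo.subspaceStabilizer U ⊓ Cfsg.Geo.specialLinear (Fin n) F < K ∧ K < Cfsg.Geo.specialLinear (Fin n) F := by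
  have hU0 : U ≠ ⊥ := by
    rintro rfl
    rw [finrank_bot] at hdim
    omega
  have hW1 : W ≠ ⊤ := by
    rintro rfl
    rw [top_inf_eq] at hWU
    exact hU0 hWU
  obtain ⟨u, huU, hu0⟩ := Submodule.exists_mem_ne_zero_of_ne_bot hU0
  obtain ⟨w, hwW, hw0⟩ := Submodule.exists_mem_ne_zero_of_ne_bot hW0
  have hdisj : ∀ x, x ∈ W → x ∈ U → x = 0 := by
    intro x hxW hxU
    have : x ∈ W ⊓ U := ⟨hxW, hxU⟩
    rw [hWU] at this
    exact (Submodule.mem_bot F).mp this
  have hu : u ∉ W ⊔ Submodule.span F {w} := by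
    have : W ⊔ Submodule.span F {w} = W :=
      sup_eq_left.mpr ((Submodule.span_singleton_le_iff_mem w W).mpr hwW)
    rw [this]
    exact fun h => hu0 (hdisj u h huU)
  obtain ⟨g, hgS, hgW, hgu⟩ := Cfsg.Agent.Helper93.exists_sl_stab_move W u w hu
  obtain ⟨g', hg'S, hg'W⟩ := Cfsg.Agent.Helper93.exists_sl_not_stab W hW0 hW1
  refine ⟨Cfsg.Geo.subspaceStabilizer W ⊓ Cfsg.Geo.specialLinear (Fin n) F, ?_, ?_⟩
  · refine lt_of_le_of_ne (inf_le_inf_right _ inf_le_left) fun heq => ?_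
    have hmem : g ∈ Cfsg.Geo.subspaceStabilizer W ⊓ Cfsg.Geo.specialLinear (Fin n) F := ⟨hgW, hgS⟩
    rw [← heq] at hmem
    have hgU : g ∈ Cfsg.Geo.subspaceStabilizer U := hmem.1.2
    have := ((Cfsg.Agent.Helper93.mem_subspaceStabilizer_iff U g).mp hgU u).mp huU
    rw [hgu] at this
    exact hw0 (hdisj w hwW ((U.add_mem_iff_right huU).mp this))
  · refine lt_of_le_of_ne inf_le_right fun heq => ?_
    have hmem : g' ∈ Cfsg.Geo.specialLinear (Fin n) F := hg'S
    rw [← heq] at hmem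
    exact hg'W hmem.1

end Cfsg.Agent.S5633
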