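import Cfsg.Statements.S5635
import Cfsg.Agent.Helper94.WeightCases

set_option autoImplicit false
open Cfsg

namespace Cfsg.Agent.S5635

/-- For a finite field F with q elements and n ≥ 13, let D be a decomposition of F^n into t ≥ 2 independent subspaces of equal dimension m spanning F^n, where m = 1 and q ≤ 4, or m = 2 and q = 2. Then the elements of SL_n(F) permuting the members of D form a subgroup that is not maximal: some subgroup lies strictly between it and SL_n(F). -/
theorem result {F : Type*} [Field F] [Fintype F] (n : ℕ) (hn : 13 ≤ n) {t : ℕ} (m : ℕ) (D : Fin t → Submodule F (Fin n → F)) (hD : Cfsg.Geo.IsMDecomposition m D) (h : (m = 1 ∧ Fintype.card F ≤ 4) ∨ (m = 2 ∧ Fintype.card F = 2)) : ∃ K : Subgroup (Matrix.GeneralLinearGroup (Fin n) F), Cfsg.Geo.decompositionStabilizer D ⊓ Cfsg.Geo.specialLinear (Fin n) F < K ∧ K < Cfsg.Geo.specialLinear (Fin n) F := by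
  have hcard := Cfsg.Agent.Helper94.card_eq_of_isMDecomposition hD
  rw [Fintype.card_fin] at hcard
  rcases h with ⟨rfl, hq⟩ | ⟨rfl, hq⟩
  · obtain ⟨t', rfl⟩ : ∃ t', t = 5 + t' := ⟨t - 5, by omega⟩
    have hq1 : 1 < Fintype.card F := Fintype.one_lt_card
    have hcases : Fintype.card F = 2 ∨ Fintype.card F = 3 ∨ Fintype.card F = 4 := by omega
    rcases hcases with h2 | h3 | h4
    · have h2' : (2 : F) = 0 := Cfsg.Agent.Helper94.F2_two h2
      refine Cfsg.Agent.Helper94.exists_between_m1 hD 1 one_ne_zero ?_ ?_ ?_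
      · intro x hx
        rcases Cfsg.Agent.Helper94.F2_cases h2 x with h | h
        · exact absurd h hx
        · rw [h, one_pow]
      · linear_combination (3 : F) * h2'
      · intro x₀ x₁ x₂ x₃
        linear_combination (2 * (x₀ + x₁ + x₂ + x₃)) * h2'
    · have h3' : (3 : F) = 0 := Cfsg.Agent.Helper94.F3_three h3
      refine Cfsg.Agent.Helper94.exists_between_m1 hD 2 two_ne_zero ?_ ?_ ?_
      · intro x hx
        rw [pow_two]
        exact Cfsg.Agent.Helper94.sq_eq_one_of_card_le_three (by omega) hx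
      · linear_combination (2 : F) * h3'
      · intro x₀ x₁ x₂ x₃
        linear_combination (2 * (x₀ + x₁ + x₂ + x₃) ^ 2) * h3'
    · have h2' : (2 : F) = 0 := Cfsg.Agent.Helper94.F4_two_eq_zero h4
      refine Cfsg.Agent.Helper94.exists_between_m1 hD 3 three_ne_zero ?_ ?_ ?_
      · intro x hx
        exact Cfsg.Agent.Helper94.F4_pow_three h4 hx
      · linear_combination (3 : F) * h2'
      · intro x₀ x₁ x₂ x₃
        linear_combination (5 * (x₀ + x₁ + x₂ + x₃) * (x₀ ^ 2 + x₁ ^ 2 + x₂ ^ 2 + x₃ ^ 2)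
          + 7 * (x₀ + x₁ + x₂ + x₃) * (x₀ * x₁ + x₀ * x₂ + x₀ * x₃ + x₁ * x₂ + x₁ * x₃ + x₂ * x₃)) * h2'
  · obtain ⟨t', rfl⟩ : ∃ t', t = 3 + t' := ⟨t - 3, by omega⟩
    exact Cfsg.Agent.Helper94.exists_between_m2 hq hD


end Cfsg.Agent.S5635
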