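import Cfsg.Statements.S5648
import Cfsg.Agent.Helper94.Decomp
import Cfsg.Agent.Helper94.Symp

set_option autoImplicit false
open Cfsg

namespace Cfsg.Agent.S5648

open Cfsg.Geo Cfsg.Agent.Helper94
open scoped Matrix

section
variable {F : Type*} [Field F] [Fintype F]

theorem F2_cases (hq : Fintype.card F = 2) (x : F) : x = 0 ∨ x = 1 := by
  classical
  by_contra hx
  simp only [not_or] at hx
  have h3 : ({0, 1, x} : Finset F).card = 3 := by
    rw [Finset.card_insert_of_notMem, Finset.card_insert_of_notMem, Finset.card_singleton]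
    · simpa using (fun h : (1 : F) = x => hx.2 h.symm)
    · simp only [Finset.mem_insert, Finset.mem_singleton, not_or]
      exact ⟨zero_ne_one, fun h => hx.1 h.symm⟩
  have := Finset.card_le_univ ({0, 1, x} : Finset F)
  rw [h3, hq] at this
  omega

theorem F2_add_self (hq : Fintype.card F = 2) (x : F) : x + x = 0 := by
  have h11 : (1 : F) + 1 = 0 := by
    rcases F2_cases hq ((1 : F) + 1) with h | h
    · exact h
    · exfalso
      have : (1 : F) = 0 := by
        have := congrArg (fun y => y - 1) h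
        simp at this
      exact one_ne_zero this
  calc x + x = x * (1 + 1) := by ring
    _ = 0 := by rw [h11, mul_zero]

variable {m : ℕ}

theorem vec_add_self (hq : Fintype.card F = 2) (v : Fin m ⊕ Fin m → F) : v + v = 0 := by
  ext j
  exact F2_add_self hq (v j)

/-- The indicator of being nonzero, valued in `F`. -/
noncomputable def ind (x : Fin m ⊕ Fin m → F) : F := by
  classical exact if x = 0 then 0 else 1

theorem ind_zero : ind (0 : Fin m ⊕ Fin m → F) = 0 := by simp [ind]

theorem ind_of_ne {x : Fin m ⊕ Fin m → F} (hx : x ≠ 0) : ind x = 1 := by simp [ind, hx]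

/-- Two distinct nonzero vectors of a nondegenerate plane over the field with two elements pair to 1. -/
theorem pair_eq_one (hq : Fintype.card F = 2) {W : Submodule F (Fin m ⊕ Fin m → F)}
    (hdim : Module.finrank F W = 2) (hW : IsNondegenerateOn (sympForm m F) W)
    {a b : Fin m ⊕ Fin m → F} (ha : a ∈ W) (hb : b ∈ W) (ha0 : a ≠ 0) (hb0 : b ≠ 0) (hab : a ≠ b) :
    sympForm m F a b = 1 := by
  rcases F2_cases hq (sympForm m F a b) with h0 | h1
  · exfalso
    -- a, b linearly independent
    have hli : LinearIndependent F ![a, b] := by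
      rw [LinearIndependent.pair_iff]
      intro s t hst
      rcases F2_cases hq s with hs | hs <;> rcases F2_cases hq t with ht | ht
      · exact ⟨hs, ht⟩
      · exfalso; apply hb0; simpa [hs, ht] using hst
      · exfalso; apply ha0; simpa [hs, ht] using hst
      · exfalso; apply hab
        rw [hs, ht, one_smul, one_smul] at hst
        have := congrArg (fun y => y + b) hst
        simp only [add_assoc, vec_add_self hq b, add_zero, zero_add] at this
        exact this
    have hspan : Submodule.span F {a, b} = W := by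
      apply Submodule.eq_of_le_of_finrank_eq
      · rw [Submodule.span_le]
        intro x hx
        rcases hx with rfl | rfl
        · exact ha
        · exact hb
      · have := finrank_span_eq_card hli
        have hrange : Set.range ![a, b] = {a, b} := by
          simp [Matrix.range_cons]
          exact Set.pair_comm b a
        rw [Fintype.card_fin, hrange] at this
        rw [hdim]
        exact this
    obtain ⟨⟨x, hxW, hx⟩, -⟩ := hW a ha ha0
    rw [← hspan, Submodule.mem_span_pair] at hxW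
    obtain ⟨α, β, rfl⟩ := hxW
    apply hx
    rw [sympForm_add_left, sympForm_smul_left, sympForm_smul_left, sympForm_self, sympForm_swap, h0]
    simp
  · exact h1

theorem ind_add (hq : Fintype.card F = 2) {W : Submodule F (Fin m ⊕ Fin m → F)}
    (hdim : Module.finrank F W = 2) (hW : IsNondegenerateOn (sympForm m F) W)
    {a b : Fin m ⊕ Fin m → F} (ha : a ∈ W) (hb : b ∈ W) :
    ind (a + b) = ind a + ind b + sympForm m F a b := by
  by_cases ha0 : a = 0
  · subst ha0; simp [ind_zero, sympForm_zero_left]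
  by_cases hb0 : b = 0
  · subst hb0; simp [ind_zero, sympForm_zero_right]
  by_cases hab : a = b
  · subst hab
    rw [vec_add_self hq, ind_zero, ind_of_ne ha0, sympForm_self, add_zero, F2_add_self hq]
  · have hne : a + b ≠ 0 := by
      intro h; apply hab
      have := congrArg (fun y => y + b) h
      simp only [add_assoc, vec_add_self hq b, add_zero, zero_add] at this
      exact this
    rw [ind_of_ne hne, ind_of_ne ha0, ind_of_ne hb0, pair_eq_one hq hdim hW ha hb ha0 hb0 hab]
    rw [F2_add_self hq, zero_add]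

variable {t : ℕ} {D : Fin t → Submodule F (Fin m ⊕ Fin m → F)}

/-- The number of nonzero components, modulo 2. -/
noncomputable def wt (h : DirectSum.IsInternal D) (v : Fin m ⊕ Fin m → F) : F :=
  ∑ i, ind (comp h i v)

theorem sympForm_eq_sum_comp (h : DirectSum.IsInternal D)
    (horth : ∀ i j, i ≠ j → AreOrthogonalFor (sympForm m F) (D i) (D j))
    (v w : Fin m ⊕ Fin m → F) :
    sympForm m F v w = ∑ i, sympForm m F (comp h i v) (comp h i w) := by
  conv_lhs => rw [← sum_comp h v, ← sum_comp h w]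
  rw [sympForm_sum_left]
  apply Finset.sum_congr rfl
  intro i _
  rw [sympForm_sum_right]
  rw [Finset.sum_eq_single i]
  · intro j _ hji
    exact horth i j hji.symm _ (comp_mem h i v) _ (comp_mem h j w)
  · intro hi
    exact absurd (Finset.mem_univ i) hi

theorem wt_add (hq : Fintype.card F = 2) (h : DirectSum.IsInternal D)
    (hD : IsNondegenerateMDecomposition (sympForm m F) 2 D) (v w : Fin m ⊕ Fin m → F) :
    wt h (v + w) = wt h v + wt h w + sympForm m F v w := by
  unfold wt
  rw [sympForm_eq_sum_comp h hD.orthogonal v w, ← Finset.sum_add_distrib, ← Finset.sum_add_distrib]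
  apply Finset.sum_congr rfl
  intro i _
  rw [comp_add]
  exact ind_add hq (hD.decomp.finrank_eq i) (hD.nondegenerate i) (comp_mem h i v) (comp_mem h i w)

theorem gl_mulVec_eq_zero_iff (g : Matrix.GeneralLinearGroup (Fin m ⊕ Fin m) F)
    (x : Fin m ⊕ Fin m → F) : (g : Matrix (Fin m ⊕ Fin m) (Fin m ⊕ Fin m) F) *ᵥ x = 0 ↔ x = 0 := by
  constructor
  · intro hx
    have := congrArg (fun y => ((g⁻¹ : Matrix.GeneralLinearGroup (Fin m ⊕ Fin m) F) : Matrix (Fin m ⊕ Fin m) (Fin m ⊕ Fin m) F) *ᵥ y) hx
    simp only [Matrix.mulVec_mulVec, Matrix.mulVec_zero] at this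
    rw [← Units.val_mul, inv_mul_cancel, Units.val_one, Matrix.one_mulVec] at this
    exact this
  · rintro rfl
    simp

theorem wt_of_mem_stab (h : DirectSum.IsInternal D) (g : Matrix.GeneralLinearGroup (Fin m ⊕ Fin m) F)
    (hg : g ∈ decompositionStabilizer D) (v : Fin m ⊕ Fin m → F) :
    wt h ((g : Matrix (Fin m ⊕ Fin m) (Fin m ⊕ Fin m) F) *ᵥ v) = wt h v := by
  obtain ⟨σ, hσ⟩ := hg
  unfold wt
  rw [← Equiv.sum_comp σ (fun j => ind (comp h j ((g : Matrix (Fin m ⊕ Fin m) (Fin m ⊕ Fin m) F) *ᵥ v)))]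
  apply Finset.sum_congr rfl
  intro i _
  rw [comp_mulVec_of_perm h (g : Matrix (Fin m ⊕ Fin m) (Fin m ⊕ Fin m) F) σ hσ i v]
  by_cases hx : comp h i v = 0
  · rw [hx, Matrix.mulVec_zero]
  · rw [ind_of_ne hx, ind_of_ne]
    rwa [Ne, gl_mulVec_eq_zero_iff]

theorem wt_of_mem (h : DirectSum.IsInternal D) {i : Fin t} {a : Fin m ⊕ Fin m → F} (ha : a ∈ D i)
    (ha0 : a ≠ 0) : wt h a = 1 := by
  unfold wt
  rw [Finset.sum_eq_single i]
  · rw [comp_of_mem_same h ha, ind_of_ne ha0]
  · intro j _ hji
    rw [comp_of_mem_ne h ha hji.symm, ind_zero]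
  · intro hi
    exact absurd (Finset.mem_univ i) hi

/-- The transvection `x ↦ x + f(x,u) u`. -/
theorem tv_mulVec (u x : Fin m ⊕ Fin m → F) :
    ((sympTv u 1 : Matrix.GeneralLinearGroup (Fin m ⊕ Fin m) F) :
      Matrix (Fin m ⊕ Fin m) (Fin m ⊕ Fin m) F) *ᵥ x = x + (sympForm m F x u) • u := by
  rw [sympTv_mulVec, one_mul]

theorem wt_tv_of_one (hq : Fintype.card F = 2) (h : DirectSum.IsInternal D)
    (hD : IsNondegenerateMDecomposition (sympForm m F) 2 D) {u : Fin m ⊕ Fin m → F}
    (hu : wt h u = 1) (x : Fin m ⊕ Fin m → F) :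
    wt h (((sympTv u 1 : Matrix.GeneralLinearGroup (Fin m ⊕ Fin m) F) :
      Matrix (Fin m ⊕ Fin m) (Fin m ⊕ Fin m) F) *ᵥ x) = wt h x := by
  rw [tv_mulVec]
  rcases F2_cases hq (sympForm m F x u) with h0 | h1
  · rw [h0, zero_smul, add_zero]
  · rw [h1, one_smul, wt_add hq h hD, hu, h1, add_assoc, F2_add_self hq, add_zero]

theorem wt_tv_of_zero (hq : Fintype.card F = 2) (h : DirectSum.IsInternal D)
    (hD : IsNondegenerateMDecomposition (sympForm m F) 2 D) {u : Fin m ⊕ Fin m → F}
    (hu : wt h u = 0) {x : Fin m ⊕ Fin m → F} (hx : sympForm m F x u = 1) :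
    wt h (((sympTv u 1 : Matrix.GeneralLinearGroup (Fin m ⊕ Fin m) F) :
      Matrix (Fin m ⊕ Fin m) (Fin m ⊕ Fin m) F) *ᵥ x) ≠ wt h x := by
  rw [tv_mulVec, hx, one_smul, wt_add hq h hD, hu, hx, add_zero]
  intro hcontra
  have : (1 : F) = 0 := by
    have := congrArg (fun y => y - wt h x) hcontra
    simpa using this
  exact one_ne_zero this

end

/-- Over the field with 2 elements and for m ≥ 7, let D be a decomposition of F^(2m) into t pairwise orthogonal non-degenerate 2-dimensional subspaces for the standard alternating form (t = m ≥ 2). Then the elements of Sp_2m(2) permuting the members of D form a subgroup that is not maximal: some subgroup lies strictly between it and Sp_2m(2). -/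
theorem result {F : Type*} [Field F] [Fintype F] (m : ℕ) (hm : 7 ≤ m) (hq : Fintype.card F = 2) {t : ℕ} (D : Fin t → Submodule F (Fin m ⊕ Fin m → F)) (hD : Cfsg.Geo.IsNondegenerateMDecomposition (Cfsg.sympForm m F) 2 D) : ∃ K : Subgroup (Matrix.GeneralLinearGroup (Fin m ⊕ Fin m) F), Cfsg.Geo.decompositionStabilizer D ⊓ Cfsg.spGL m F < K ∧ K < Cfsg.spGL m F := by
  have hI : DirectSum.IsInternal D := isInternal_of_isMDecomposition hD.decomp
  have ht : t = m := by
    have := card_eq_of_isMDecomposition hD.decomp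
    simp only [Fintype.card_sum, Fintype.card_fin] at this
    omega
  subst ht
  -- three distinct indices
  let i0 : Fin t := ⟨0, by omega⟩
  let i1 : Fin t := ⟨1, by omega⟩
  let i2 : Fin t := ⟨2, by omega⟩
  have h01 : i0 ≠ i1 := by simp [i0, i1, Fin.ext_iff]
  have h02 : i0 ≠ i2 := by simp [i0, i2, Fin.ext_iff]
  have h12 : i1 ≠ i2 := by simp [i1, i2, Fin.ext_iff]
  -- nonzero vectors in each member
  have hex : ∀ i, ∃ a ∈ D i, a ≠ 0 := by
    intro i
    apply Submodule.exists_mem_ne_zero_of_ne_bot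
    intro hbot
    have := hD.decomp.finrank_eq i
    rw [hbot, finrank_bot] at this
    omega
  obtain ⟨a0, ha0, ha0ne⟩ := hex i0
  obtain ⟨a1, ha1, ha1ne⟩ := hex i1
  obtain ⟨a2, ha2, ha2ne⟩ := hex i2
  obtain ⟨⟨b, hb, hb0⟩, -⟩ := hD.nondegenerate i0 a0 ha0 ha0ne
  have hb1 : sympForm t F b a0 = 1 := by
    rcases F2_cases hq (sympForm t F b a0) with h | h
    · exact absurd h hb0
    · exact h
  have hba1 : sympForm t F b a1 = 0 := hD.orthogonal i0 i1 h01 b hb a1 ha1
  have hba2 : sympForm t F b a2 = 0 := hD.orthogonal i0 i2 h02 b hb a2 ha2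
  have ha01 : sympForm t F a0 a1 = 0 := hD.orthogonal i0 i1 h01 a0 ha0 a1 ha1
  have ha02 : sympForm t F a0 a2 = 0 := hD.orthogonal i0 i2 h02 a0 ha0 a2 ha2
  have ha12 : sympForm t F a1 a2 = 0 := hD.orthogonal i1 i2 h12 a1 ha1 a2 ha2
  have hw01 : wt hI (a0 + a1) = 0 := by
    rw [wt_add hq hI hD, wt_of_mem hI ha0 ha0ne, wt_of_mem hI ha1 ha1ne, ha01, add_zero,
      F2_add_self hq]
  have hw012 : wt hI (a0 + a1 + a2) = 1 := by
    rw [wt_add hq hI hD, hw01, wt_of_mem hI ha2 ha2ne, sympForm_add_left, ha02, ha12]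
    simp
  refine ⟨spGL t F ⊓ isometryGroup F (wt hI), ?_, ?_⟩
  · rw [SetLike.lt_iff_le_and_exists]
    refine ⟨?_, sympTv (a0 + a1 + a2) 1, ⟨sympTv_mem_spGL _ _, ?_⟩, ?_⟩
    · intro g hg
      exact ⟨hg.2, fun u _ => wt_of_mem_stab hI g hg.1 u⟩
    · intro u _
      exact wt_tv_of_one hq hI hD hw012 u
    · rintro ⟨⟨σ, hσ⟩, -⟩
      -- the image of b lies in D (σ i0)
      have himg : ((sympTv (a0 + a1 + a2) 1 : Matrix.GeneralLinearGroup (Fin t ⊕ Fin t) F) :
          Matrix (Fin t ⊕ Fin t) (Fin t ⊕ Fin t) F) *ᵥ b ∈ D (σ i0) := by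
        rw [← hσ i0]
        exact ⟨b, hb, by simp [Matrix.toLin'_apply]⟩
      rw [tv_mulVec, sympForm_add_right, sympForm_add_right, hb1, hba1, hba2, add_zero, add_zero,
        one_smul] at himg
      have hc1 : comp hI i1 (b + (a0 + a1 + a2)) = a1 := by
        rw [comp_add, comp_add, comp_add, comp_of_mem_ne hI hb h01, comp_of_mem_ne hI ha0 h01,
          comp_of_mem_same hI ha1, comp_of_mem_ne hI ha2 h12.symm]
        simp
      have hc2 : comp hI i2 (b + (a0 + a1 + a2)) = a2 := by
        rw [comp_add, comp_add, comp_add, comp_of_mem_ne hI hb h02, comp_of_mem_ne hI ha0 h02,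
          comp_of_mem_ne hI ha1 h12, comp_of_mem_same hI ha2]
        simp
      have e1 : σ i0 = i1 := by
        by_contra hne
        apply ha1ne
        rw [← hc1, comp_of_mem_ne hI himg hne]
      have e2 : σ i0 = i2 := by
        by_contra hne
        apply ha2ne
        rw [← hc2, comp_of_mem_ne hI himg hne]
      exact h12 (e1.symm.trans e2)
  · rw [SetLike.lt_iff_le_and_exists]
    refine ⟨inf_le_left, sympTv (a0 + a1) 1, sympTv_mem_spGL _ _, ?_⟩
    rintro ⟨-, hiso⟩
    have hbx : sympForm t F b (a0 + a1) = 1 := by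
      rw [sympForm_add_right, hb1, hba1, add_zero]
    exact wt_tv_of_zero hq hI hD hw01 hbx (hiso b b)

end Cfsg.Agent.S5648
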