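import Cfsg.Statements.S5656
import Cfsg.Agent.Helper94.Decomp
import Cfsg.Agent.Helper94.Herm

set_option autoImplicit false
open Cfsg

namespace Cfsg.Agent.S5656

open Cfsg.Geo Cfsg.Agent.Helper94
open scoped Matrix

section
variable {F : Type*} [Field F] [Fintype F] {n : ℕ}

/-- (L1) In a nondegenerate plane, a vector orthogonal to a unit vector and isotropic is zero. -/
theorem eq_zero_of_orth_isotropic (hF : Fintype.card F = 4) {W : Submodule F (Fin n → F)}
    (hdim : Module.finrank F W = 2) (hW : IsNondegenerateOn (hermForm n F 2) W)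
    {u y : Fin n → F} (hu : u ∈ W) (hy : y ∈ W) (huu : hermForm n F 2 u u = 1)
    (hyu : hermForm n F 2 y u = 0) (hyy : hermForm n F 2 y y = 0) : y = 0 := by
  by_contra hy0
  have hli : LinearIndependent F ![u, y] := by
    rw [LinearIndependent.pair_iff]
    intro s t hst
    have h1 := congrArg (fun z => hermForm n F 2 z u) hst
    simp only [herm2_add_left, herm2_smul_left, huu, hyu, herm2_zero_left, mul_one, mul_zero,
      add_zero] at h1
    refine ⟨h1, ?_⟩
    rw [h1, zero_smul, zero_add] at hst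
    rcases smul_eq_zero.mp hst with h | h
    · exact h
    · exact absurd h hy0
  have hspan : Submodule.span F {u, y} = W := by
    apply Submodule.eq_of_le_of_finrank_eq
    · rw [Submodule.span_le]
      intro x hx
      rcases hx with rfl | rfl
      · exact hu
      · exact hy
    · have := finrank_span_eq_card hli
      have hrange : Set.range ![u, y] = {u, y} := by
        simp [Matrix.range_cons]
        exact Set.pair_comm y u
      rw [Fintype.card_fin, hrange] at this
      rw [hdim]
      exact this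
  obtain ⟨⟨x, hxW, hx⟩, -⟩ := hW y hy hy0
  rw [← hspan, Submodule.mem_span_pair] at hxW
  obtain ⟨α, β, rfl⟩ := hxW
  apply hx
  rw [herm2_add_left, herm2_smul_left, herm2_smul_left, hyy, herm2_swap_eq_zero hF hyu]
  simp

/-- (L2) A nondegenerate plane contains a unit vector. -/
theorem exists_unit (hF : Fintype.card F = 4) {W : Submodule F (Fin n → F)}
    (hdim : Module.finrank F W = 2) (hW : IsNondegenerateOn (hermForm n F 2) W) :
    ∃ u ∈ W, hermForm n F 2 u u = 1 := by
  have hne : W ≠ ⊥ := by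
    intro hbot
    rw [hbot, finrank_bot] at hdim
    omega
  obtain ⟨a, ha, ha0⟩ := Submodule.exists_mem_ne_zero_of_ne_bot hne
  obtain ⟨⟨x, hx, hxa⟩, -⟩ := hW a ha ha0
  by_cases haa : hermForm n F 2 a a = 0
  · by_cases hxx : hermForm n F 2 x x = 0
    · obtain ⟨l, hl0, hlc⟩ := F4_exists_ne hF (hermForm n F 2 x a)
      refine ⟨x + l • a, W.add_mem hx (W.smul_mem l ha), ?_⟩
      apply herm2_self_of_ne hF
      simp only [herm2_add_left, herm2_add_right hF, herm2_smul_left, herm2_smul_right, haa, hxx]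
      rw [herm2_swap hF x a]
      set c := hermForm n F 2 x a with hc
      have : l * c ^ 2 + l ^ 2 * c = l * c * (l + c) := by ring
      simp only [mul_zero, add_zero, zero_add]
      rw [this]
      refine mul_ne_zero (mul_ne_zero hl0 hxa) ?_
      intro h
      apply hlc
      have h2 := F4_add_self hF c
      have : l = l + c + c := by rw [add_assoc, h2, add_zero]
      rw [this, h, zero_add]
    · exact ⟨x, hx, herm2_self_of_ne hF hxx⟩
  · exact ⟨a, ha, herm2_self_of_ne hF haa⟩

/-- A unit-norm vector of a nondegenerate plane not orthogonal to a unit vector `u` is a multiple of `u`. -/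
theorem eq_smul_of_unit (hF : Fintype.card F = 4) {W : Submodule F (Fin n → F)}
    (hdim : Module.finrank F W = 2) (hW : IsNondegenerateOn (hermForm n F 2) W)
    {u x : Fin n → F} (hu : u ∈ W) (hx : x ∈ W) (huu : hermForm n F 2 u u = 1)
    (hxx : hermForm n F 2 x x ≠ 0) (hxu : hermForm n F 2 x u ≠ 0) :
    x = hermForm n F 2 x u • u := by
  set c := hermForm n F 2 x u with hc
  have hxx1 := herm2_self_of_ne hF hxx
  have hc3 : c ^ 3 = 1 := F4_pow_three hF hxu
  have hy : x + c • u = 0 := by
    apply eq_zero_of_orth_isotropic hF hdim hW hu (W.add_mem hx (W.smul_mem c hu)) huu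
    · rw [herm2_add_left, herm2_smul_left, huu, mul_one, ← hc, F4_add_self hF]
    · simp only [herm2_add_left, herm2_add_right hF, herm2_smul_left, herm2_smul_right, huu, hxx1]
      rw [herm2_swap hF x u, ← hc]
      have h2 := F4_two_eq_zero hF
      linear_combination 3 * hc3 + 2 * h2
  have h2 := F4_vec_add_self hF (c • u)
  calc x = x + (c • u + c • u) := by rw [h2, add_zero]
    _ = (x + c • u) + c • u := by rw [add_assoc]
    _ = c • u := by rw [hy, zero_add]

variable {t : ℕ}

/-- The non-isotropic vectors lying in some member of the decomposition. -/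
def frameSet (D : Fin t → Submodule F (Fin n → F)) : Set (Fin n → F) :=
  {v | ∃ i, v ∈ D i ∧ hermForm n F 2 v v ≠ 0}

variable {D : Fin t → Submodule F (Fin n → F)}

theorem stab_fwd {g : Matrix.GeneralLinearGroup (Fin n) F} (hg : g ∈ decompositionStabilizer D)
    (hgU : g ∈ GU n F 2) {v : Fin n → F} (hv : v ∈ frameSet D) :
    (g : Matrix (Fin n) (Fin n) F) *ᵥ v ∈ frameSet D := by
  obtain ⟨σ, hσ⟩ := hg
  obtain ⟨i, hvi, hvv⟩ := hv
  refine ⟨σ i, ?_, ?_⟩
  · rw [← hσ i]
    exact ⟨v, hvi, by simp [Matrix.toLin'_apply]⟩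
  · have := hgU v v
    simp only [Units.coeHom_apply] at this
    rw [this]
    exact hvv

theorem stab_mem {g : Matrix.GeneralLinearGroup (Fin n) F} (hg : g ∈ decompositionStabilizer D)
    (hgU : g ∈ GU n F 2) : g ∈ stabilizing (glToMat (Fin n) F) (frameSet D) := by
  intro v
  simp only [Units.coeHom_apply]
  constructor
  · exact stab_fwd hg hgU
  · intro hv
    have := stab_fwd (inv_mem hg) (inv_mem hgU) hv
    rw [Matrix.mulVec_mulVec, ← Units.val_mul, inv_mul_cancel, Units.val_one, Matrix.one_mulVec] at this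
    exact this

theorem tv_frame_aux (hF : Fintype.card F = 4)
    (hD : IsNondegenerateMDecomposition (hermForm n F 2) 2 D) {i0 i1 : Fin t} (h01 : i0 ≠ i1)
    {u0 u1 : Fin n → F} (hu0 : u0 ∈ D i0) (hu1 : u1 ∈ D i1)
    (h00 : hermForm n F 2 u0 u0 = 1) (h11 : hermForm n F 2 u1 u1 = 1)
    {x : Fin n → F} (hxi : x ∈ D i0) (hxx : hermForm n F 2 x x ≠ 0) :
    x + hermForm n F 2 x (u0 + u1) • (u0 + u1) ∈ frameSet D := by
  have hx1 : hermForm n F 2 x u1 = 0 := hD.orthogonal i0 i1 h01 x hxi u1 hu1
  rw [herm2_add_right hF, hx1, add_zero]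
  by_cases hc : hermForm n F 2 x u0 = 0
  · rw [hc, zero_smul, add_zero]
    exact ⟨i0, hxi, hxx⟩
  · have hxe := eq_smul_of_unit hF (hD.decomp.finrank_eq i0) (hD.nondegenerate i0) hu0 hxi h00 hxx hc
    set c := hermForm n F 2 x u0 with hcdef
    have : x + c • (u0 + u1) = c • u1 := by
      rw [smul_add, ← add_assoc]
      nth_rewrite 1 [hxe]
      rw [F4_vec_add_self hF, zero_add]
    rw [this]
    refine ⟨i1, (D i1).smul_mem c hu1, ?_⟩
    rw [herm2_smul_left, herm2_smul_right, h11, mul_one, ← pow_succ', F4_pow_three hF hc]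
    exact one_ne_zero

theorem tv_frame (hF : Fintype.card F = 4)
    (hD : IsNondegenerateMDecomposition (hermForm n F 2) 2 D) {i0 i1 : Fin t} (h01 : i0 ≠ i1)
    {u0 u1 : Fin n → F} (hu0 : u0 ∈ D i0) (hu1 : u1 ∈ D i1)
    (h00 : hermForm n F 2 u0 u0 = 1) (h11 : hermForm n F 2 u1 u1 = 1)
    {x : Fin n → F} (hx : x ∈ frameSet D) :
    x + hermForm n F 2 x (u0 + u1) • (u0 + u1) ∈ frameSet D := by
  obtain ⟨i, hxi, hxx⟩ := hx
  by_cases hi0 : i = i0
  · subst hi0
    exact tv_frame_aux hF hD h01 hu0 hu1 h00 h11 hxi hxx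
  · by_cases hi1 : i = i1
    · subst hi1
      rw [add_comm u0 u1]
      exact tv_frame_aux hF hD (Ne.symm h01) hu1 hu0 h11 h00 hxi hxx
    · have hx0 : hermForm n F 2 x u0 = 0 := hD.orthogonal i i0 hi0 x hxi u0 hu0
      have hx1 : hermForm n F 2 x u1 = 0 := hD.orthogonal i i1 hi1 x hxi u1 hu1
      rw [herm2_add_right hF, hx0, hx1, add_zero, zero_smul, add_zero]
      exact ⟨i, hxi, hxx⟩

end

/-- Let F be the field with 4 elements (q = 2) and n ≥ 13. Let D be a decomposition of F^n into t pairwise orthogonal 2-dimensional subspaces, each non-degenerate for the standard unitary form Σ u_i v_i². Then the elements of SU_n(2) permuting the members of D form a subgroup that is not maximal: some subgroup lies strictly between it and SU_n(2). -/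
theorem result {F : Type*} [Field F] [Fintype F] (n : ℕ) (hF : Fintype.card F = 4) (hn : 13 ≤ n) {t : ℕ} (D : Fin t → Submodule F (Fin n → F)) (hD : Cfsg.Geo.IsNondegenerateMDecomposition (Cfsg.hermForm n F 2) 2 D) : ∃ K : Subgroup (Matrix.GeneralLinearGroup (Fin n) F), Cfsg.Geo.decompositionStabilizer D ⊓ (Cfsg.GU n F 2 ⊓ Cfsg.Geo.specialLinear (Fin n) F) < K ∧ K < (Cfsg.GU n F 2 ⊓ Cfsg.Geo.specialLinear (Fin n) F) := by
  have hI : DirectSum.IsInternal D := isInternal_of_isMDecomposition hD.decomp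
  have ht : 7 ≤ t := by
    have := card_eq_of_isMDecomposition hD.decomp
    simp only [Fintype.card_fin] at this
    omega
  let i0 : Fin t := ⟨0, by omega⟩
  let i1 : Fin t := ⟨1, by omega⟩
  let i2 : Fin t := ⟨2, by omega⟩
  let i3 : Fin t := ⟨3, by omega⟩
  have h01 : i0 ≠ i1 := by simp [i0, i1, Fin.ext_iff]
  have h02 : i0 ≠ i2 := by simp [i0, i2, Fin.ext_iff]
  have h03 : i0 ≠ i3 := by simp [i0, i3, Fin.ext_iff]
  have h12 : i1 ≠ i2 := by simp [i1, i2, Fin.ext_iff]
  have h13 : i1 ≠ i3 := by simp [i1, i3, Fin.ext_iff]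
  have h23 : i2 ≠ i3 := by simp [i2, i3, Fin.ext_iff]
  obtain ⟨u0, hu0, h00⟩ := exists_unit hF (hD.decomp.finrank_eq i0) (hD.nondegenerate i0)
  obtain ⟨u1, hu1, h11⟩ := exists_unit hF (hD.decomp.finrank_eq i1) (hD.nondegenerate i1)
  obtain ⟨u2, hu2, h22⟩ := exists_unit hF (hD.decomp.finrank_eq i2) (hD.nondegenerate i2)
  obtain ⟨u3, hu3, h33⟩ := exists_unit hF (hD.decomp.finrank_eq i3) (hD.nondegenerate i3)
  have hne : ∀ {u : Fin n → F}, hermForm n F 2 u u = 1 → u ≠ 0 := by
    intro u hu h0
    rw [h0, herm2_zero_left] at hu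
    exact zero_ne_one hu
  have o := hD.orthogonal
  -- the first transvection vector
  have hv : hermForm n F 2 (u0 + u1) (u0 + u1) = 0 := by
    simp only [herm2_add_left, herm2_add_right hF, h00, h11, o i0 i1 h01 u0 hu0 u1 hu1,
      o i1 i0 (Ne.symm h01) u1 hu1 u0 hu0]
    rw [add_zero, zero_add, F4_add_self hF]
  -- the second transvection vector
  have hw : hermForm n F 2 (u0 + u1 + u2 + u3) (u0 + u1 + u2 + u3) = 0 := by
    simp only [herm2_add_left, herm2_add_right hF, h00, h11, h22, h33,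
      o i0 i1 h01 u0 hu0 u1 hu1, o i1 i0 (Ne.symm h01) u1 hu1 u0 hu0,
      o i0 i2 h02 u0 hu0 u2 hu2, o i2 i0 (Ne.symm h02) u2 hu2 u0 hu0,
      o i0 i3 h03 u0 hu0 u3 hu3, o i3 i0 (Ne.symm h03) u3 hu3 u0 hu0,
      o i1 i2 h12 u1 hu1 u2 hu2, o i2 i1 (Ne.symm h12) u2 hu2 u1 hu1,
      o i1 i3 h13 u1 hu1 u3 hu3, o i3 i1 (Ne.symm h13) u3 hu3 u1 hu1,
      o i2 i3 h23 u2 hu2 u3 hu3, o i3 i2 (Ne.symm h23) u3 hu3 u2 hu2]
    have h2 := F4_two_eq_zero hF
    linear_combination 2 * h2
  refine ⟨stabilizing (glToMat (Fin n) F) (frameSet D) ⊓ (GU n F 2 ⊓ specialLinear (Fin n) F), ?_, ?_⟩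
  · rw [SetLike.lt_iff_le_and_exists]
    refine ⟨?_, utv hF (u0 + u1) hv, ⟨?_, utv_mem_GU hF _ hv, utv_mem_specialLinear hF _ hv⟩, ?_⟩
    · intro g hg
      exact ⟨stab_mem hg.1 hg.2.1, hg.2⟩
    · -- the transvection stabilizes the frame set
      have hfwd : ∀ x, x ∈ frameSet D →
          ((utv hF (u0 + u1) hv : Matrix.GeneralLinearGroup (Fin n) F) : Matrix (Fin n) (Fin n) F) *ᵥ x
            ∈ frameSet D := by
        intro x hx
        rw [utv_mulVec]
        exact tv_frame hF hD h01 hu0 hu1 h00 h11 hx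
      intro x
      simp only [Units.coeHom_apply]
      refine ⟨hfwd x, fun hx => ?_⟩
      have := hfwd _ hx
      rw [Matrix.mulVec_mulVec, ← Units.val_mul, utv_mul_utv, Units.val_one, Matrix.one_mulVec] at this
      exact this
    · rintro ⟨⟨σ, hσ⟩, -⟩
      -- the image of `D i0` is `D i1`
      have himg : ∀ x ∈ D i0, ((utv hF (u0 + u1) hv : Matrix.GeneralLinearGroup (Fin n) F) :
          Matrix (Fin n) (Fin n) F) *ᵥ x ∈ D (σ i0) := by
        intro x hx
        rw [← hσ i0]
        exact ⟨x, hx, by simp [Matrix.toLin'_apply]⟩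
      have hs : σ i0 = i1 := by
        have h := himg u0 hu0
        rw [utv_mulVec, herm2_add_right hF, h00, o i0 i1 h01 u0 hu0 u1 hu1, add_zero, one_smul,
          ← add_assoc, F4_vec_add_self hF, zero_add] at h
        by_contra hcon
        apply hne h11
        rw [← comp_of_mem_same hI hu1, comp_of_mem_ne hI h hcon]
      rw [hs] at himg
      -- every element of `D i0` is a multiple of `u0`
      have hall : ∀ x ∈ D i0, x = hermForm n F 2 x u0 • u0 := by
        intro x hx
        have h := himg x hx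
        rw [utv_mulVec, herm2_add_right hF, o i0 i1 h01 x hx u1 hu1, add_zero] at h
        have hc := comp_of_mem_ne hI h (Ne.symm h01)
        rw [comp_add, smul_add, comp_add, comp_of_mem_same hI hx,
          comp_of_mem_same hI ((D i0).smul_mem _ hu0),
          comp_of_mem_ne hI ((D i1).smul_mem _ hu1) (Ne.symm h01), add_zero] at hc
        have h2 := F4_vec_add_self hF (hermForm n F 2 x u0 • u0)
        calc x = x + (hermForm n F 2 x u0 • u0 + hermForm n F 2 x u0 • u0) := by rw [h2, add_zero]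
          _ = (x + hermForm n F 2 x u0 • u0) + hermForm n F 2 x u0 • u0 := by rw [add_assoc]
          _ = hermForm n F 2 x u0 • u0 := by rw [hc, zero_add]
      -- contradiction with dimension two
      have hfr : 1 < Module.finrank F (D i0) := by rw [hD.decomp.finrank_eq i0]; omega
      have hu0' : (⟨u0, hu0⟩ : D i0) ≠ 0 := by
        intro h
        exact hne h00 (congrArg Subtype.val h)
      obtain ⟨y, hy⟩ := exists_linearIndependent_pair_of_one_lt_finrank hfr hu0'
      rw [LinearIndependent.pair_iff] at hy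
      have hyy := hall y.1 y.2
      have := hy (hermForm n F 2 y.1 u0) (-1) (by
        apply Subtype.ext
        simp only [Submodule.coe_add, Submodule.coe_smul, Submodule.coe_zero]
        rw [← hyy]
        simp)
      exact one_ne_zero (neg_eq_zero.mp this.2)
  · rw [SetLike.lt_iff_le_and_exists]
    refine ⟨inf_le_right, utv hF (u0 + u1 + u2 + u3) hw,
      ⟨utv_mem_GU hF _ hw, utv_mem_specialLinear hF _ hw⟩, ?_⟩
    rintro ⟨hst, -⟩
    have h0 : u0 ∈ frameSet D := ⟨i0, hu0, by rw [h00]; exact one_ne_zero⟩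
    have h1 := (hst u0).mp h0
    simp only [Units.coeHom_apply] at h1
    rw [utv_mulVec] at h1
    have hval : hermForm n F 2 u0 (u0 + u1 + u2 + u3) = 1 := by
      simp only [herm2_add_right hF, h00, o i0 i1 h01 u0 hu0 u1 hu1, o i0 i2 h02 u0 hu0 u2 hu2,
        o i0 i3 h03 u0 hu0 u3 hu3, add_zero]
    rw [hval, one_smul] at h1
    have hsum : u0 + (u0 + u1 + u2 + u3) = u1 + u2 + u3 := by
      rw [← add_assoc, ← add_assoc, ← add_assoc, F4_vec_add_self hF, zero_add]
    rw [hsum] at h1
    obtain ⟨j, hj, -⟩ := h1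
    have hc1 : comp hI i1 (u1 + u2 + u3) = u1 := by
      rw [comp_add, comp_add, comp_of_mem_same hI hu1, comp_of_mem_ne hI hu2 (Ne.symm h12),
        comp_of_mem_ne hI hu3 (Ne.symm h13)]
      simp
    have hc2 : comp hI i2 (u1 + u2 + u3) = u2 := by
      rw [comp_add, comp_add, comp_of_mem_ne hI hu1 h12, comp_of_mem_same hI hu2,
        comp_of_mem_ne hI hu3 (Ne.symm h23)]
      simp
    have e1 : j = i1 := by
      by_contra hcon
      apply hne h11
      rw [← hc1, comp_of_mem_ne hI hj hcon]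
    have e2 : j = i2 := by
      by_contra hcon
      apply hne h22
      rw [← hc2, comp_of_mem_ne hI hj hcon]
    exact h12 (e1.symm.trans e2)

end Cfsg.Agent.S5656
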