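import Mathlib
import Cfsg.Statements.S5677
import Cfsg.Agent.Helper45.OmDecL
import Cfsg.Agent.Helper5.OrthSimpleStd
import Cfsg.Agent.Helper5.PSL2
import Cfsg.Agent.Helper94.Decomp

set_option autoImplicit false
open Cfsg

namespace Cfsg.Agent.S5677

/-- Let F be a finite field of odd order q, m ≥ 6, Q the standard quadratic form on F^(2m+1) and Ω the commutator subgroup of its isometry group. Let D be a decomposition of F^(2m+1) into t ≥ 2 pairwise orthogonal, pairwise Q-isometric subspaces of equal dimension k > 1 on which the polar form is non-degenerate. Unless q = 3 and k = 3, the elements of Ω permuting the members of D form a maximal subgroup of Ω. -/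
theorem result {F : Type*} [Field F] [Fintype F] (hodd : Odd (Fintype.card F)) (m : ℕ) (hm : 6 ≤ m) {t : ℕ} (k : ℕ) (hk : 1 < k) (D : Fin t → Submodule F (Unit ⊕ (Fin m ⊕ Fin m) → F)) (hD : Cfsg.Geo.IsOrthogonalMDecomposition (Cfsg.quadFormOdd m F) k D) (hex : ¬ (Fintype.card F = 3 ∧ k = 3)) : Cfsg.Geo.IsMaximalIn (Cfsg.Geo.omegaGL (Cfsg.quadFormOdd m F)) (Cfsg.Geo.decompositionStabilizer D ⊓ Cfsg.Geo.omegaGL (Cfsg.quadFormOdd m F)) := by
  have h2 : (2 : F) ≠ 0 := Cfsg.Agent.Helper5.two_ne_zero_of_odd_card hodd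
  have hQ := Cfsg.Agent.Helper5.nondegenerate_oddForm (F := F) h2 m
  have hcard : Fintype.card (Unit ⊕ (Fin m ⊕ Fin m)) = 2 * m + 1 := by
    simp [Fintype.card_sum]; ring
  have htk := Cfsg.Agent.Helper94.card_eq_of_isMDecomposition hD.decomp.decomp
  rw [hcard] at htk
  have hkodd : Odd k := by
    rcases Nat.even_or_odd k with he | ho
    · exfalso
      obtain ⟨r, hr⟩ := he
      rw [hr] at htk
      have : t * (r + r) = 2 * (t * r) := by ring
      omega
    · exact ho
  have hcase : 5 ≤ k ∨ (k = 3 ∧ 5 ≤ Fintype.card F) := by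
    by_cases h5 : 5 ≤ k
    · exact Or.inl h5
    right
    obtain ⟨r, hr⟩ := hkodd
    have hk3 : k = 3 := by omega
    refine ⟨hk3, ?_⟩
    have h1 : 1 < Fintype.card F := Fintype.one_lt_card
    obtain ⟨s, hs⟩ := hodd
    have h3 : Fintype.card F ≠ 3 := fun h => hex ⟨h, hk3⟩
    omega
  exact Cfsg.Agent.Helper45.OmDec.dec_isMaximalIn_aux (Cfsg.Agent.Helper44.oddForm m F) hQ h2
    (by rw [hcard]; omega) k hcase D hD

end Cfsg.Agent.S5677
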