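import Cfsg.Statements.S5686
import Cfsg.Agent.Helper94.TwoFam6

set_option autoImplicit false
open Cfsg

namespace Cfsg.Agent.S5686

/-- Let F be a finite field with q elements, n ≥ 13 even, Q a non-degenerate quadratic form on F^n of plus type (some subspace of dimension n/2 is totally singular), and Ω the commutator subgroup of the isometry group of Q, viewed inside GL_n(F). The elements of Ω stabilising a subspace of dimension n/2 − 1 on which Q vanishes form a subgroup that is not maximal: some subgroup lies strictly between it and Ω. -/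
theorem result {F : Type*} [Field F] [Fintype F] {n : ℕ} (hn : 13 ≤ n) (heven : Even n) (Q : (Fin n → F) → F) (hQ : Cfsg.Geo.IsNondegenerateQuadraticForm Q) (hplus : Cfsg.Geo.IsPlusTypeOn Q ⊤) (W : Submodule F (Fin n → F)) (hW : Cfsg.Geo.IsTotallySingularQuad Q W) (hdim : 2 * (Module.finrank F W + 1) = n) : ∃ K : Subgroup (Matrix.GeneralLinearGroup (Fin n) F), Cfsg.Geo.subspaceStabilizer W ⊓ Cfsg.Geo.omegaGL Q < K ∧ K < Cfsg.Geo.omegaGL Q := by
  classical
  obtain ⟨k, hkdef⟩ : ∃ k : ℕ, k = Module.finrank F W + 1 := ⟨_, rfl⟩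
  have hk : 2 * k = n := by rw [hkdef]; exact hdim
  have hcard : Fintype.card (Fin n) = 2 * k := by rw [Fintype.card_fin, hk]
  have hWdim : Module.finrank F W + 1 = k := hkdef.symm
  have hW3 : 3 ≤ Module.finrank F W := by omega
  -- a maximal totally singular subspace
  obtain ⟨X, -, hXts, hXdim⟩ := hplus
  rw [finrank_top, Module.finrank_fintype_fun_eq_card, hcard] at hXdim
  have hX : Cfsg.Agent.Helper94.IsMTS Q k X := ⟨hXts, by omega⟩
  have hXperp : Cfsg.Agent.Helper94.qperp hQ X = X :=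
    Cfsg.Agent.Helper94.qperp_eq_self hQ hX.ts (by rw [hX.dim, hcard])
  -- a singular vector `z ∈ W^⊥ \ W`
  obtain ⟨z, hzX, hzW, hznW⟩ : ∃ z, z ∈ X ∧ z ∈ Cfsg.Agent.Helper94.qperp hQ W ∧ z ∉ W := by
    have h5 := Cfsg.Agent.Helper94.finrank_inf_qperp hQ X W
    rw [hXperp, hX.dim] at h5
    have hlt : X ⊓ W < X ⊓ Cfsg.Agent.Helper94.qperp hQ W := by
      apply lt_of_le_of_ne (inf_le_inf_left X (Cfsg.Agent.Helper94.ts_le_qperp hQ hW))
      intro h
      rw [← h] at h5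
      omega
    obtain ⟨z, hz, hzn⟩ := SetLike.exists_of_lt hlt
    exact ⟨z, hz.1, hz.2, fun h => hzn ⟨hz.1, h⟩⟩
  have hQz : Q z = 0 := hXts z hzX
  obtain ⟨U₁, hU₁def⟩ : ∃ U₁ : Submodule F (Fin n → F), U₁ = W ⊔ Submodule.span F {z} := ⟨_, rfl⟩
  have hU₁ts : Cfsg.Geo.IsTotallySingularQuad Q U₁ := by
    rw [hU₁def]; exact Cfsg.Agent.Helper94.ts_sup_span hQ hW hQz hzW
  have hWU₁ : W ≤ U₁ := by rw [hU₁def]; exact le_sup_left
  have hzU₁ : z ∈ U₁ := by
    rw [hU₁def]; exact Submodule.mem_sup_right (Submodule.mem_span_singleton_self z)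
  have hU₁dim : Module.finrank F U₁ = k := by
    have hlt : W < U₁ := lt_of_le_of_ne hWU₁ (fun h => hznW (by rw [h]; exact hzU₁))
    have h1 := Submodule.finrank_lt_finrank_of_lt hlt
    have h2 := Cfsg.Agent.Helper94.ts_finrank_le hQ hU₁ts
    omega
  have hU₁ : Cfsg.Agent.Helper94.IsMTS Q k U₁ := ⟨hU₁ts, hU₁dim⟩
  -- the triples
  obtain ⟨e', he'li, he'W⟩ := Cfsg.Agent.Helper94.exists_li_triple (A := W) hW3
  obtain ⟨e, hedef⟩ : ∃ e : Fin 3 → Fin n → F, e = ![e' 0, e' 1, z] := ⟨_, rfl⟩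
  have heli : LinearIndependent F e := by
    rw [hedef]; exact Cfsg.Agent.Helper94.li_triple_of_not_mem he'li he'W hznW
  have he0 : e 0 = e' 0 := by rw [hedef]; rfl
  have he1 : e 1 = e' 1 := by rw [hedef]; rfl
  have he2 : e 2 = z := by rw [hedef]; rfl
  have heU : ∀ i, e i ∈ U₁ := by
    intro i
    fin_cases i
    · show e 0 ∈ U₁
      rw [he0]; exact hWU₁ (he'W 0)
    · show e 1 ∈ U₁
      rw [he1]; exact hWU₁ (he'W 1)
    · show e 2 ∈ U₁
      rw [he2]; exact hzU₁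
  have hQe : ∀ i, Q (e i) = 0 := fun i => hU₁ts _ (heU i)
  have hee : ∀ i j, QuadraticMap.polar Q (e i) (e j) = 0 :=
    fun i j => Cfsg.Agent.Helper94.ts_polar hU₁ts (heU i) (heU j)
  obtain ⟨f, h⟩ := Cfsg.Agent.Helper94.exists_hypTriple_of_li hQ e heli hQe hee
  -- the intermediate subgroup
  refine ⟨Cfsg.Geo.subspaceStabilizer U₁ ⊓ Cfsg.Geo.omegaGL Q, ?_, ?_⟩
  · rw [SetLike.lt_iff_le_and_exists]
    refine ⟨?_, Cfsg.Agent.Helper94.gII hQ h, ?_, ?_⟩
    · rintro g ⟨hgW, hgO⟩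
      refine ⟨?_, hgO⟩
      have hgW' : Cfsg.Agent.Helper94.mapS g W = W :=
        Cfsg.Agent.Helper94.mapS_eq_of_mem_stabilizer hgW
      have hgiso : g ∈ Cfsg.isometryGroup F Q := Cfsg.Agent.Helper94.omegaGL_le_isometryGroup hgO
      have hgU : Cfsg.Agent.Helper94.IsMTS Q k (Cfsg.Agent.Helper94.mapS g U₁) :=
        Cfsg.Agent.Helper94.mapS_mts hgiso hU₁
      have hle : W ≤ U₁ ⊓ Cfsg.Agent.Helper94.mapS g U₁ := by
        apply le_inf hWU₁
        rw [← hgW']
        exact Cfsg.Agent.Helper94.mapS_mono g hWU₁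
      have h1 := Submodule.finrank_mono hle
      have h2 : Module.finrank F (U₁ ⊓ Cfsg.Agent.Helper94.mapS g U₁ : Submodule F (Fin n → F)) ≤ k := by
        rw [← hU₁dim]; exact Submodule.finrank_mono inf_le_left
      have hpar := Cfsg.Agent.Helper94.omega_parity hQ hcard hU₁ hgO
      have h3 : Module.finrank F (U₁ ⊓ Cfsg.Agent.Helper94.mapS g U₁ : Submodule F (Fin n → F)) = k := by
        omega
      have e1 : U₁ ⊓ Cfsg.Agent.Helper94.mapS g U₁ = U₁ :=
        Submodule.eq_of_le_of_finrank_eq inf_le_left (by rw [h3, hU₁dim])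
      have e2 : U₁ ⊓ Cfsg.Agent.Helper94.mapS g U₁ = Cfsg.Agent.Helper94.mapS g U₁ :=
        Submodule.eq_of_le_of_finrank_eq inf_le_right (by rw [h3, hgU.dim])
      exact Cfsg.Agent.Helper94.mem_stabilizer_of_mapS_eq (e2.symm.trans e1)
    · exact ⟨Cfsg.Agent.Helper94.mem_stabilizer_of_mapS_eq
        (Cfsg.Agent.Helper94.gII_mapS hQ h hU₁ts (heU 0) (heU 2)),
        Cfsg.Agent.Helper94.gII_mem hQ h⟩
    · rintro ⟨hst, -⟩
      have hmem : e 1 - e 2 ∈ W := by
        rw [← Cfsg.Agent.Helper94.gII_apply hQ h]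
        exact (hst (e 1)).1 (by rw [he1]; exact he'W 1)
      apply hznW
      have he1W : e 1 ∈ W := by rw [he1]; exact he'W 1
      have := W.sub_mem he1W hmem
      rwa [sub_sub_cancel, he2] at this
  · rw [SetLike.lt_iff_le_and_exists]
    refine ⟨inf_le_right, Cfsg.Agent.Helper94.gI hQ h.symm,
      Cfsg.Agent.Helper94.gI_mem hQ h.symm, ?_⟩
    rintro ⟨hst, -⟩
    have hmem : e 0 - f 2 ∈ U₁ := by
      rw [← Cfsg.Agent.Helper94.gI_apply hQ h.symm]
      exact (hst (e 0)).1 (heU 0)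
    have hf2 : f 2 ∈ U₁ := by
      have := U₁.sub_mem (heU 0) hmem
      rwa [sub_sub_cancel] at this
    have h1 := h.ef 2 2
    rw [Cfsg.Agent.Helper94.ts_polar hU₁ts (heU 2) hf2, if_pos rfl] at h1
    exact zero_ne_one h1


end Cfsg.Agent.S5686
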