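import Mathlib
import Cfsg.Statements.S5689
import Cfsg.Agent.Helper12.OmNdJ

set_option autoImplicit false
open Cfsg

namespace Cfsg.Agent.S5689

open Cfsg.Agent.Helper12.OmNd Cfsg.Agent.Helper45.OmegaParity in
/-- Let F be a finite field with q elements, n ≥ 13 even, Q a non-degenerate quadratic form on F^n of minus type (no subspace of dimension n/2 is totally singular), and Ω the commutator subgroup of the isometry group of Q, viewed inside GL_n(F). Let W be a non-zero proper subspace on which the polar form of Q is non-degenerate, not of odd dimension n/2. Exclude the case q ≤ 3 in which W, or its orthogonal complement, is a plane containing a line on which Q vanishes. Then the elements of Ω stabilising W form a maximal subgroup of Ω. -/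
theorem result {F : Type*} [Field F] [Fintype F] {n : ℕ} (hn : 13 ≤ n) (heven : Even n) (Q : (Fin n → F) → F) (hQ : Cfsg.Geo.IsNondegenerateQuadraticForm Q) (hminus : ¬ Cfsg.Geo.IsPlusTypeOn Q ⊤) (W : Submodule F (Fin n → F)) (hW0 : W ≠ ⊥) (hW1 : W ≠ ⊤) (hdim : ¬ (2 * Module.finrank F W = n ∧ Odd (Module.finrank F W))) (hW : Cfsg.Geo.IsNondegenerateOn (QuadraticMap.polar Q) W) (hex : ¬ (Fintype.card F ≤ 3 ∧ (∃ U : Submodule F (Fin n → F), Module.finrank F U = 2 ∧ Cfsg.Geo.IsNondegenerateOn (QuadraticMap.polar Q) U ∧ Cfsg.Geo.IsPlusTypeOn Q U ∧ (U = W ∨ (Cfsg.Geo.AreOrthogonalFor (QuadraticMap.polar Q) U W ∧ Module.finrank F U + Module.finrank F W = n))))) : Cfsg.Geo.IsMaximalIn (Cfsg.Geo.omegaGL Q) (Cfsg.Geo.subspaceStabilizer W ⊓ Cfsg.Geo.omegaGL Q) := by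
  obtain ⟨Q', hQcoe⟩ : ∃ Q' : QuadraticForm F (Fin n → F), ⇑Q' = Q := ⟨qfOfGeo Q hQ, rfl⟩
  subst hQcoe
  have hQn := nondeg_of_geo Q' hQ
  have hcard : Fintype.card (Fin n) = n := Fintype.card_fin n
  by_cases h : 2 * Module.finrank F W = n
  swap
  · exact nd_subspace_stab_isMaximalIn_geo hQn (by rw [hcard]; exact hn) W hW0 hW1 hW
      (by rw [hcard]; exact h) (by rw [hcard]; exact hex)
  have hevW : Even (Module.finrank F W) := by
    rw [← Nat.not_odd_iff_even]
    exact fun ho => hdim ⟨h, ho⟩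
  have hAS := orthSplit_orthogonal hQn W hW
  have hd := LinearMap.BilinForm.finrank_orthogonal hQn W
  rw [Module.finrank_fintype_fun_eq_card, hcard] at hd
  have hirr : IrrHyp Q' (LinearMap.BilinForm.orthogonal (QuadraticMap.polarBilin Q') W) := by
    apply irrHyp_of_not_plus_plane (hAS.ndOn_right hQn)
    rintro ⟨hc, h5, h6⟩
    refine hex ⟨hc, _, h5, geo_nd_of_ndOn (hAS.ndOn_right hQn), h6, Or.inr ⟨?_, ?_⟩⟩
    · intro u hu v hv
      rw [QuadraticMap.polar_comm]
      exact hAS.orth v hv u hu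
    · omega
  refine nd_stab_isMaximalIn_gen hQn (by rw [hcard]; omega) hAS (by omega) ?_ hirr ?_
    (Cfsg.Geo.subspaceStabilizer W) (fun g => mem_subspaceStabilizer_iff_stab Q' g W)
  · exact exists_ne_zero_of_finrank_pos _ (by omega)
  · intro g hg
    exact hminus (isPlusType_of_swap hQn hAS g hg hevW (by rw [hcard]; exact h))

end Cfsg.Agent.S5689
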