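import Cfsg.Statements.S5698
import Cfsg.Agent.Helper94.TwoFam6
import Cfsg.Agent.Helper94.Decomp

set_option autoImplicit false
open Cfsg

namespace Cfsg.Agent.S5698

/-- Let F be a finite field with q elements, n ≥ 13 even, Q a non-degenerate quadratic form on F^n of plus type (some subspace of dimension n/2 is totally singular), and Ω the commutator subgroup of the isometry group of Q, viewed inside GL_n(F). Suppose n/2 is odd and let D be a decomposition of F^n into two complementary subspaces of dimension n/2 on each of which Q vanishes. Then the elements of Ω preserving or interchanging the two subspaces form a subgroup that is not maximal: some subgroup lies strictly between it and Ω. -/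
theorem result {F : Type*} [Field F] [Fintype F] {n : ℕ} (hn : 13 ≤ n) (heven : Even n) (Q : (Fin n → F) → F) (hQ : Cfsg.Geo.IsNondegenerateQuadraticForm Q) (hplus : Cfsg.Geo.IsPlusTypeOn Q ⊤) (k : ℕ) (hk : 2 * k = n) (hko : Odd k) (D : Fin 2 → Submodule F (Fin n → F)) (hD : Cfsg.Geo.IsMDecomposition k D) (hts : ∀ i, Cfsg.Geo.IsTotallySingularQuad Q (D i)) : ∃ K : Subgroup (Matrix.GeneralLinearGroup (Fin n) F), Cfsg.Geo.decompositionStabilizer D ⊓ Cfsg.Geo.omegaGL Q < K ∧ K < Cfsg.Geo.omegaGL Q := by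
  classical
  have hcard : Fintype.card (Fin n) = 2 * k := by rw [Fintype.card_fin, hk]
  have hk3 : 3 ≤ k := by omega
  have hU0 : Cfsg.Agent.Helper94.IsMTS Q k (D 0) := ⟨hts 0, hD.finrank_eq 0⟩
  have hint := Cfsg.Agent.Helper94.isInternal_of_isMDecomposition hD
  have hdisj : ∀ x, x ∈ D 0 → x ∈ D 1 → x = 0 := by
    have hd : Disjoint (D 0) (D 1) := hD.indep.pairwiseDisjoint (by decide)
    exact fun x h0 h1 => Submodule.disjoint_def.mp hd x h0 h1
  -- the triples
  obtain ⟨e, heli, heD⟩ := Cfsg.Agent.Helper94.exists_li_triple (A := D 0)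
    (by rw [hD.finrank_eq 0]; exact hk3)
  have hQe : ∀ i, Q (e i) = 0 := fun i => hts 0 _ (heD i)
  have hee : ∀ i j, QuadraticMap.polar Q (e i) (e j) = 0 :=
    fun i j => Cfsg.Agent.Helper94.ts_polar (hts 0) (heD i) (heD j)
  obtain ⟨f₀, hf₀⟩ := Cfsg.Agent.Helper94.exists_hypTriple_of_li hQ e heli hQe hee
  obtain ⟨f, hfdef⟩ : ∃ f : Fin 3 → Fin n → F,
      f = fun j => Cfsg.Agent.Helper94.comp hint 1 (f₀ j) := ⟨_, rfl⟩
  have hfD : ∀ j, f j ∈ D 1 := by
    intro j
    rw [hfdef]
    exact Cfsg.Agent.Helper94.comp_mem hint 1 _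
  have hfeq : ∀ j, f j = f₀ j - Cfsg.Agent.Helper94.comp hint 0 (f₀ j) := by
    intro j
    have := Cfsg.Agent.Helper94.sum_comp hint (f₀ j)
    rw [Fin.sum_univ_two] at this
    rw [hfdef]
    rw [eq_sub_iff_add_eq, add_comm]
    exact this
  have h : Cfsg.Agent.Helper94.IsHypTriple Q e f := by
    refine ⟨hQe, fun j => hts 1 _ (hfD j), hee,
      fun i j => Cfsg.Agent.Helper94.ts_polar (hts 1) (hfD i) (hfD j), ?_⟩
    intro i j
    rw [hfeq j, Cfsg.Agent.Helper94.B_sub_right hQ, hf₀.ef,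
      Cfsg.Agent.Helper94.ts_polar (hts 0) (heD i) (Cfsg.Agent.Helper94.comp_mem hint 0 _), sub_zero]
  have hf0ne : ∀ j, f j ≠ 0 := by
    intro j hj
    have := h.ef j j
    rw [hj, Cfsg.Agent.Helper94.B_zero_right hQ, if_pos rfl] at this
    exact zero_ne_one this
  have he0ne : ∀ j, e j ≠ 0 := by
    intro j hj
    have := h.ef j j
    rw [hj, Cfsg.Agent.Helper94.B_zero_left hQ, if_pos rfl] at this
    exact zero_ne_one this
  -- the intermediate subgroup
  refine ⟨Cfsg.Geo.subspaceStabilizer (D 0) ⊓ Cfsg.Geo.omegaGL Q, ?_, ?_⟩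
  · rw [SetLike.lt_iff_le_and_exists]
    refine ⟨?_, Cfsg.Agent.Helper94.gI hQ h, ?_, ?_⟩
    · rintro g ⟨hgD, hgO⟩
      refine ⟨?_, hgO⟩
      obtain ⟨σ, hσ⟩ := hgD
      have h0 : Cfsg.Agent.Helper94.mapS g (D 0) = D (σ 0) := hσ 0
      have hcase : ∀ j : Fin 2, σ 0 = j → Cfsg.Agent.Helper94.mapS g (D 0) = D 0 := by
        intro j hj
        fin_cases j
        · rw [h0, hj]; rfl
        · exfalso
          have hpar := Cfsg.Agent.Helper94.omega_parity hQ hcard hU0 hgO
          have hbot : D 0 ⊓ Cfsg.Agent.Helper94.mapS g (D 0) = ⊥ := by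
            rw [h0, hj, eq_bot_iff]
            rintro x ⟨hx0, hx1⟩
            exact (Submodule.mem_bot F).2 (hdisj x hx0 hx1)
          rw [hbot, finrank_bot] at hpar
          obtain ⟨r, hr⟩ := hko
          omega
      exact Cfsg.Agent.Helper94.mem_stabilizer_of_mapS_eq (hcase (σ 0) rfl)
    · exact ⟨Cfsg.Agent.Helper94.mem_stabilizer_of_mapS_eq
        (Cfsg.Agent.Helper94.gI_mapS hQ h (hts 0) (heD 0) (heD 2)),
        Cfsg.Agent.Helper94.gI_mem hQ h⟩
    · rintro ⟨⟨σ, hσ⟩, -⟩
      have h1 : Cfsg.Agent.Helper94.mapS (Cfsg.Agent.Helper94.gI hQ h) (D 1) = D (σ 1) := hσ 1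
      have hmem : f 0 - e 2 ∈ D (σ 1) := by
        rw [← h1, ← Cfsg.Agent.Helper94.gI_apply hQ h]
        exact Cfsg.Agent.Helper94.mulVec_mem_mapS _ (hfD 0)
      have hcase : ∀ j : Fin 2, f 0 - e 2 ∉ D j := by
        intro j hj
        fin_cases j
        · have : f 0 ∈ D 0 := by
            have := (D 0).add_mem hj (heD 2)
            rwa [sub_add_cancel] at this
          exact hf0ne 0 (hdisj _ this (hfD 0))
        · have : e 2 ∈ D 1 := by
            have := (D 1).sub_mem (hfD 0) hj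
            rwa [sub_sub_cancel] at this
          exact he0ne 2 (hdisj _ (heD 2) this)
      exact hcase _ hmem
  · rw [SetLike.lt_iff_le_and_exists]
    refine ⟨inf_le_right, Cfsg.Agent.Helper94.gI hQ h.symm,
      Cfsg.Agent.Helper94.gI_mem hQ h.symm, ?_⟩
    rintro ⟨hst, -⟩
    have hmem : e 0 - f 2 ∈ D 0 := by
      rw [← Cfsg.Agent.Helper94.gI_apply hQ h.symm]
      exact (hst (e 0)).1 (heD 0)
    have : f 2 ∈ D 0 := by
      have := (D 0).sub_mem (heD 0) hmem
      rwa [sub_sub_cancel] at this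
    exact hf0ne 2 (hdisj _ this (hfD 2))


end Cfsg.Agent.S5698
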