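import Mathlib
import Cfsg.Statements.S5699
import Cfsg.Agent.Helper12.OmNdG

set_option autoImplicit false
open Cfsg

namespace Cfsg.Agent.S5699

open Cfsg.Agent.Helper12.OmNd Cfsg.Agent.Helper45.OmegaParity in
/-- Let F be a finite field with q elements, n ≥ 13 even, Q a non-degenerate quadratic form on F^n (of either type), and Ω the commutator subgroup of the isometry group of Q, viewed inside GL_n(F). Let D be a decomposition of F^n into two orthogonal subspaces of odd dimension n/2 on which the polar form is non-degenerate and which are not Q-isometric to each other. Then the elements of Ω permuting (necessarily fixing) the two subspaces form a maximal subgroup of Ω. -/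
theorem result {F : Type*} [Field F] [Fintype F] {n : ℕ} (hn : 13 ≤ n) (heven : Even n) (Q : (Fin n → F) → F) (hQ : Cfsg.Geo.IsNondegenerateQuadraticForm Q) (k : ℕ) (hk : 2 * k = n) (hko : Odd k) (D : Fin 2 → Submodule F (Fin n → F)) (hD : Cfsg.Geo.IsNondegenerateMDecomposition (QuadraticMap.polar Q) k D) (hni : ¬ Cfsg.Geo.AreIsometricFor Q (D 0) (D 1)) : Cfsg.Geo.IsMaximalIn (Cfsg.Geo.omegaGL Q) (Cfsg.Geo.decompositionStabilizer D ⊓ Cfsg.Geo.omegaGL Q) := by
  obtain ⟨Q', hQcoe⟩ : ∃ Q' : QuadraticForm F (Fin n → F), ⇑Q' = Q := ⟨qfOfGeo Q hQ, rfl⟩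
  subst hQcoe
  have hQn := nondeg_of_geo Q' hQ
  have hfr : ∀ i, Module.finrank F (D i) = k := hD.decomp.finrank_eq
  have h2 : (2 : F) ≠ 0 :=
    two_ne_zero_of_odd_nd (Q := Q') (D 0) (hD.nondegenerate 0) (by rw [hfr]; exact hko)
  have hsup : D 0 ⊔ D 1 = ⊤ := by
    rw [← hD.decomp.iSup_eq_top]
    apply le_antisymm
    · exact sup_le (le_iSup D 0) (le_iSup D 1)
    · apply iSup_le
      intro i
      fin_cases i
      · exact le_sup_left
      · exact le_sup_right
  have hAS : OrthSplit Q' (D 0) (D 1) := by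
    refine ⟨fun a ha s hs => hD.orthogonal 0 1 (by decide) a ha s hs, fun x => ?_⟩
    have hx : x ∈ D 0 ⊔ D 1 := by rw [hsup]; exact Submodule.mem_top
    obtain ⟨a, ha, s, hs, rfl⟩ := Submodule.mem_sup.1 hx
    exact ⟨a, ha, s, hs, rfl⟩
  have hk7 : 7 ≤ k := by omega
  have hcard : Fintype.card (Fin n) = n := Fintype.card_fin n
  have hnoswap : ∀ g : Cfsg.isometryGroup F ⇑Q', ¬ ∀ a ∈ D 0, lin Q' g a ∈ D 1 := by
    intro g hg
    exact hni (areIsometricFor_of_map (D 0) (D 1) g hg (by rw [hfr, hfr]))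
  refine nd_stab_isMaximalIn_aux (Q := Q') h2 hQn (by rw [hcard]; omega) hAS (by rw [hfr]; exact hk7)
    ?_ ?_ hnoswap (Cfsg.Geo.decompositionStabilizer D) ?_
  · obtain ⟨s, hs, hs0⟩ := exists_ne_zero_of_finrank_pos (D 1) (by rw [hfr]; omega)
    exact ⟨s, hs, hs0⟩
  · intro _ a ha b hb haQ hbQ hab hsp
    have hb0 : Q' b ≠ 0 := by rw [hbQ]; exact neg_ne_zero.2 haQ
    have := finrank_eq_two_of_pair h2 (D 1) ha hb haQ hb0 hab hsp
    rw [hfr] at this
    omega
  · intro g
    constructor
    · rintro ⟨σ, hσ⟩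
      have key : ∀ j : Fin 2, j = 0 ∨ j = 1 := by decide
      rcases key (σ 0) with h0 | h1
      · rw [mem_stab, lin_eq_toLin']
        have := hσ 0
        rwa [h0] at this
      · exfalso
        apply hnoswap g
        intro a ha
        have h3 := hσ 0
        rw [h1, ← lin_eq_toLin'] at h3
        rw [← h3]
        exact Submodule.mem_map_of_mem ha
    · intro hg
      have hg1 : g ∈ stab Q' (D 1) := by
        rw [← stab_eq_of_orthSplit hQn hAS]
        exact hg
      refine ⟨1, fun i => ?_⟩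
      rw [← lin_eq_toLin']
      fin_cases i
      · exact (mem_stab Q' (D 0) g).1 hg
      · exact (mem_stab Q' (D 1) g).1 hg1

end Cfsg.Agent.S5699
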