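import Cfsg.Statements.S5713
import Cfsg.Agent.Helper13.BabE
import Cfsg.Agent.Helper13.BabF

set_option autoImplicit false
open Cfsg

namespace Cfsg.Agent.S5713

open Cfsg.Agent.Helper13.Bab in
/-- The number of moved points plus the number of fixed points is the degree. -/
theorem card_moved_add_card_fixed {G Ω : Type*} [Group G] [MulAction G Ω] [Fintype Ω] (g : G)
    [DecidablePred fun z : Ω => g • z ≠ z] :
    (Finset.univ.filter (fun z : Ω => g • z ≠ z)).card + Nat.card (MulAction.fixedBy Ω g) =
      Fintype.card Ω := by
  classical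
  have h1 : Nat.card (MulAction.fixedBy Ω g) =
      (Finset.univ.filter (fun z : Ω => g • z = z)).card := by
    rw [Nat.card_eq_fintype_card, ← Fintype.card_subtype]
    exact Fintype.card_congr (Equiv.refl _)
  rw [h1, add_comm]
  have := Finset.card_filter_add_card_filter_not (s := (Finset.univ : Finset Ω))
    (fun z : Ω => g • z = z)
  rw [Finset.card_univ] at this
  convert this using 3

open Cfsg.Agent.Helper13.Bab in
/-- A classification-free minimal-degree bound. Let G be a finite group acting faithfully and primitively on a finite set Ω with n elements, and suppose that the image of G in the symmetric group on Ω does not contain the alternating group on Ω. Then every non-identity element of G moves at least (√n − 1)/2 points of Ω, that is, it fixes at most n − (√n − 1)/2 points. -/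
theorem result {G Ω : Type*} [Group G] [Finite G] [MulAction G Ω] [FaithfulSMul G Ω] [Fintype Ω] [DecidableEq Ω]
    (hprim : MulAction.IsPreprimitive G Ω)
    (hA : ¬ alternatingGroup Ω ≤ (MulAction.toPermHom G Ω).range)
    (g : G) (hg : g ≠ 1) :
    (Real.sqrt (Fintype.card Ω) - 1) / 2 ≤ (Fintype.card Ω : ℝ) - Nat.card (MulAction.fixedBy Ω g) := by
  have := hprim
  -- a moved point
  obtain ⟨a, ha⟩ : ∃ a : Ω, g • a ≠ a := by
    by_contra hcon
    push Not at hcon
    apply hg
    apply FaithfulSMul.eq_of_smul_eq_smul (α := Ω)
    intro z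
    rw [hcon z, one_smul]
  set s := (Finset.univ.filter (fun z : Ω => g • z ≠ z)).card with hs
  have hsum := card_moved_add_card_fixed (G := G) (Ω := Ω) g
  rw [← hs] at hsum
  -- the combinatorial bound
  have hmain : Fintype.card Ω ≤ (2 * s + 1) ^ 2 := by
    by_cases h2t : ∀ a b a' b' : Ω, a ≠ b → a' ≠ b' → SP G a b a' b'
    · have h1 := card_le_of_two_transitive (G := G) hprim hA h2t g a ha
      rw [← hs] at h1
      nlinarith
    · push Not at h2t
      have h1 := card_le_of_not_two_transitive (G := G) h2t (x := a) (y := g • a) (Ne.symm ha)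
      have h2 : dN G a (g • a) ≤ s := by
        have h3 := dN_le_moved (G := G) (u := a) (w := g • a) g rfl
        rw [hs]
        convert h3 using 2
        ext z
        simp only [Finset.mem_filter]
      have h3 : dN G a (g • a) ^ 2 ≤ s ^ 2 := Nat.pow_le_pow_left h2 2
      nlinarith
  -- conclusion over the reals
  have hreal : Real.sqrt (Fintype.card Ω) ≤ 2 * (s : ℝ) + 1 := by
    have h1 : ((Fintype.card Ω : ℕ) : ℝ) ≤ (2 * (s : ℝ) + 1) ^ 2 := by
      exact_mod_cast hmain
    calc Real.sqrt (Fintype.card Ω) ≤ Real.sqrt ((2 * (s : ℝ) + 1) ^ 2) := Real.sqrt_le_sqrt h1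
      _ = 2 * (s : ℝ) + 1 := Real.sqrt_sq (by positivity)
  have hcast : (Fintype.card Ω : ℝ) - Nat.card (MulAction.fixedBy Ω g) = (s : ℝ) := by
    have : ((s + Nat.card (MulAction.fixedBy Ω g) : ℕ) : ℝ) = (Fintype.card Ω : ℝ) := by
      rw [hsum]
    push_cast at this
    linarith
  rw [hcast]
  linarith

end Cfsg.Agent.S5713
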