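import Cfsg.Statements.S5728
-- import your own Cfsg.Agent.* helpers here

set_option autoImplicit false
open Cfsg

namespace Cfsg.Agent.S5728

lemma odd_of_mersenne (p s : ℕ) (hp : p.Prime) (hs : p = 2 ^ s - 1) : 2 ∣ p - 1 ∧ p + 1 = 2 ^ s := by
  have h1 : p + 1 = 2 ^ s := by
    have : 0 < 2 ^ s := pow_pos (by norm_num) s
    omega
  refine ⟨?_, h1⟩
  rcases hp.eq_two_or_odd' with h2 | h2
  · exfalso
    subst h2
    rcases s with _ | _ | s
    · simp at h1
    · simp at h1
    · rw [pow_succ, pow_succ] at h1; omega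
  · obtain ⟨k, hk⟩ := h2
    exact ⟨k, by omega⟩

/-- an element of `E` whose order is a prime dividing `p^2-1`, `p` Mersenne, lies in the prime field -/
lemma pow_eq_self_of_prime_order (p s : ℕ) [Fact p.Prime] (hs : p = 2 ^ s - 1)
    (a : GaloisField p 2) (ha0 : a ≠ 0) (ha1 : a ≠ 1) (r : ℕ) (hr : r.Prime) (har : a ^ r = 1) :
    a ^ p = a := by
  have hp : p.Prime := Fact.out
  obtain ⟨h2, hp1⟩ := odd_of_mersenne p s hp hs
  have hd : orderOf a ∣ r := orderOf_dvd_of_pow_eq_one har
  have hd1 : orderOf a ≠ 1 := by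
    intro h; exact ha1 (orderOf_eq_one_iff.mp h)
  have hdr : orderOf a = r := by
    rcases (Nat.dvd_prime hr).mp hd with h | h
    · exact absurd h hd1
    · exact h
  have : Fintype (GaloisField p 2) := Fintype.ofFinite _
  have hcard : Fintype.card (GaloisField p 2) = p ^ 2 := by
    rw [← Nat.card_eq_fintype_card, GaloisField.card p 2 (by norm_num)]
  have hpow : a ^ (p ^ 2 - 1) = 1 := by
    rw [← hcard]; exact FiniteField.pow_card_sub_one_eq_one a ha0
  have hrd : r ∣ p ^ 2 - 1 := by
    rw [← hdr]; exact orderOf_dvd_of_pow_eq_one hpow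
  have hfac : p ^ 2 - 1 = (p - 1) * 2 ^ s := by
    rw [← hp1]
    have : 1 ≤ p := hp.one_lt.le
    zify [this, Nat.one_le_pow 2 p hp.pos]
    ring
  rw [hfac] at hrd
  have hrp : r ∣ p - 1 := by
    rcases (Nat.Prime.dvd_mul hr).mp hrd with h | h
    · exact h
    · have := hr.dvd_of_dvd_pow h
      have hr2 : r = 2 := (Nat.prime_dvd_prime_iff_eq hr Nat.prime_two).mp this
      rw [hr2]; exact h2
  obtain ⟨k, hk⟩ := hrp
  have h3 : a ^ (p - 1) = 1 := by rw [hk, pow_mul, har, one_pow]
  calc a ^ p = a ^ (p - 1 + 1) := by congr 1; have := hp.one_lt; omega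
    _ = a := by rw [pow_succ, h3, one_mul]

lemma exists_zmod_of_pow_eq_self (p : ℕ) [Fact p.Prime] (a : GaloisField p 2) (h : a ^ p = a) :
    ∃ a₀ : ZMod p, algebraMap (ZMod p) (GaloisField p 2) a₀ = a := by
  have h1 : a ∈ (⊥ : Subfield (GaloisField p 2)) := (Subfield.mem_bot_iff_pow_eq_self _ p).mpr h
  rw [mem_bot_iff_intCast p] at h1
  obtain ⟨n, hn⟩ := h1
  exact ⟨(n : ZMod p), by rw [map_intCast, hn]⟩

/-- An elusive transitive action. Let p = 2^s − 1 be a prime and let F be the field with p² elements. Inside the group of affine maps x ↦ a·x + b of F (a ≠ 0), consider the subgroup of maps with both coefficients in the prime field. Then every element of prime order of the affine group is conjugate, within the affine group, to an element of that subgroup; equivalently, in the transitive action of the affine group on the cosets of that subgroup (of degree p(p + 1)) every element of prime order fixes a point. -/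
theorem result (p s : ℕ) [Fact p.Prime] (hs : p = 2 ^ s - 1)
    (g : Equiv.Perm (GaloisField p 2)) (hg : g ∈ Cfsg.affineGroup (GaloisField p 2)) (hord : (orderOf g).Prime) :
    ∃ x ∈ Cfsg.affineGroup (GaloisField p 2), ∃ a b : ZMod p, a ≠ 0 ∧
      ∀ y : GaloisField p 2, (x * g * x⁻¹) y = algebraMap (ZMod p) (GaloisField p 2) a * y + algebraMap (ZMod p) (GaloisField p 2) b := by
  obtain ⟨a, b, hab⟩ := hg
  by_cases ha : a = 1
  · -- translation
    subst ha
    have hb : b ≠ 0 := by
      rintro rfl
      have : g = 1 := by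
        ext y; simp [hab y]
      rw [this, orderOf_one] at hord
      exact Nat.not_prime_one hord
    refine ⟨Equiv.mulLeft₀ b⁻¹ (inv_ne_zero hb), ⟨Units.mk0 b⁻¹ (inv_ne_zero hb), 0, fun y => by simp⟩,
      1, 1, one_ne_zero, fun y => ?_⟩
    have hxinv : (Equiv.mulLeft₀ b⁻¹ (inv_ne_zero hb))⁻¹ y = b * y := by
      rw [Equiv.Perm.inv_def, Equiv.symm_apply_eq]
      simp [hb]
    rw [Equiv.Perm.mul_apply, Equiv.Perm.mul_apply, hxinv, hab]
    simp only [Units.val_one, one_mul, Equiv.mulLeft₀_apply, map_one]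
    field_simp
  · -- fixed point
    have ha1 : (a : GaloisField p 2) ≠ 1 := fun h => ha (Units.ext h)
    have h1a : (1 : GaloisField p 2) - a ≠ 0 := fun h => ha1 (sub_eq_zero.mp h).symm
    set y₀ : GaloisField p 2 := b / (1 - a) with hy₀
    have hfix : (a : GaloisField p 2) * y₀ + b = y₀ := by
      rw [hy₀]; field_simp; ring
    have hconj : ∀ y : GaloisField p 2, (Equiv.subRight y₀ * g * (Equiv.subRight y₀)⁻¹) y = (a : GaloisField p 2) * y := by
      intro y
      have hxinv : (Equiv.subRight y₀)⁻¹ y = y + y₀ := by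
        rw [Equiv.Perm.inv_def, Equiv.symm_apply_eq]
        simp
      rw [Equiv.Perm.mul_apply, Equiv.Perm.mul_apply, hxinv, hab]
      simp only [Equiv.subRight_apply]
      linear_combination hfix
    have hpowh : ∀ (k : ℕ) (y : GaloisField p 2),
        ((Equiv.subRight y₀ * g * (Equiv.subRight y₀)⁻¹) ^ k) y = (a : GaloisField p 2) ^ k * y := by
      intro k
      induction k with
      | zero => intro y; simp
      | succ k ih => intro y; rw [pow_succ, Equiv.Perm.mul_apply, hconj, ih, pow_succ]; ring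
    have har : (a : GaloisField p 2) ^ orderOf g = 1 := by
      have h1 := hpowh (orderOf g) 1
      rw [conj_pow, pow_orderOf_eq_one, mul_one, mul_inv_cancel] at h1
      simpa using h1.symm
    have hap := pow_eq_self_of_prime_order p s hs (a : GaloisField p 2) a.ne_zero ha1 (orderOf g) hord har
    obtain ⟨a₀, ha₀⟩ := exists_zmod_of_pow_eq_self p (a : GaloisField p 2) hap
    refine ⟨Equiv.subRight y₀, ⟨1, -y₀, fun y => by simp [sub_eq_add_neg]⟩, a₀, 0, ?_, fun y => ?_⟩
    · rintro rfl
      rw [map_zero] at ha₀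
      exact a.ne_zero ha₀.symm
    · rw [hconj, ha₀, map_zero, add_zero]

end Cfsg.Agent.S5728
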