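import Cfsg.Statements.S5747
-- import your own Cfsg.Agent.* helpers here

set_option autoImplicit false
open Cfsg

namespace Cfsg.Agent.S5747

section lists
variable {G Ω : Type*} [Group G] [MulAction G Ω]

/-- `g` fixes every entry of the list. -/
def Fix (g : G) (l : List Ω) : Prop := ∀ y ∈ l, g • y = y

lemma fix_nil (g : G) : Fix g ([] : List Ω) := fun _ h => by simp at h

lemma fix_append {g : G} {l m : List Ω} : Fix g (l ++ m) ↔ Fix g l ∧ Fix g m := by
  unfold Fix
  simp only [List.mem_append]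
  constructor
  · intro h; exact ⟨fun y hy => h y (Or.inl hy), fun y hy => h y (Or.inr hy)⟩
  · rintro ⟨h1, h2⟩ y (hy | hy)
    · exact h1 y hy
    · exact h2 y hy

lemma fix_singleton {g : G} {x : Ω} : Fix g [x] ↔ g • x = x := by
  unfold Fix; simp

lemma fix_cons {g : G} {x : Ω} {l : List Ω} : Fix g (x :: l) ↔ g • x = x ∧ Fix g l := by
  unfold Fix; simp

lemma fix_perm {g : G} {l l' : List Ω} (h : l.Perm l') : Fix g l ↔ Fix g l' := by
  unfold Fix
  constructor
  · intro hl y hy; exact hl y (h.mem_iff.mpr hy)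
  · intro hl y hy; exact hl y (h.mem_iff.mp hy)

/-- pointwise stabilizer of a list inside a subgroup -/
def stab (H : Subgroup G) (l : List Ω) : Subgroup G where
  carrier := {g | g ∈ H ∧ Fix g l}
  mul_mem' := by
    rintro a b ⟨ha, ha'⟩ ⟨hb, hb'⟩
    exact ⟨H.mul_mem ha hb, fun y hy => by rw [mul_smul, hb' y hy, ha' y hy]⟩
  one_mem' := ⟨H.one_mem, fun y _ => one_smul _ _⟩
  inv_mem' := by
    rintro a ⟨ha, ha'⟩
    exact ⟨H.inv_mem ha, fun y hy => by rw [inv_smul_eq_iff, ha' y hy]⟩

lemma mem_stab {H : Subgroup G} {l : List Ω} {g : G} : g ∈ stab H l ↔ g ∈ H ∧ Fix g l := Iff.rfl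

lemma stab_le (H : Subgroup G) (l : List Ω) : stab H l ≤ H := fun _ h => h.1

lemma stab_nil (H : Subgroup G) : stab H ([] : List Ω) = H := by
  ext g; rw [mem_stab]; exact ⟨fun h => h.1, fun h => ⟨h, fix_nil g⟩⟩

lemma stab_stab (H : Subgroup G) (l m : List Ω) : stab (stab H l) m = stab H (l ++ m) := by
  ext g
  simp only [mem_stab, fix_append]
  tauto

lemma stab_perm (H : Subgroup G) {l l' : List Ω} (h : l.Perm l') : stab H l = stab H l' := by
  ext g
  simp only [mem_stab, fix_perm h]

/-- irredundant lists relative to a subgroup -/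
def Irr (H : Subgroup G) (l : List Ω) : Prop :=
  ∀ (l₁ : List Ω) (x : Ω) (l₂ : List Ω), l = l₁ ++ x :: l₂ → ∃ g ∈ H, Fix g l₁ ∧ g • x ≠ x

lemma irr_nil (H : Subgroup G) : Irr H ([] : List Ω) := by
  intro l₁ x l₂ h
  simp at h

lemma irr_append {H : Subgroup G} {l m : List Ω} :
    Irr H (l ++ m) ↔ Irr H l ∧ Irr (stab H l) m := by
  constructor
  · intro h
    constructor
    · intro l₁ x l₂ hl
      exact h l₁ x (l₂ ++ m) (by rw [hl]; simp)
    · intro m₁ x m₂ hm
      obtain ⟨g, hgH, hfix, hmove⟩ := h (l ++ m₁) x m₂ (by rw [hm]; simp)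
      rw [fix_append] at hfix
      exact ⟨g, ⟨hgH, hfix.1⟩, hfix.2, hmove⟩
  · rintro ⟨h1, h2⟩ p x q hpq
    rcases List.append_eq_append_iff.mp hpq with ⟨a', hp, hm⟩ | ⟨c', hl, hc⟩
    · obtain ⟨g, hg, hfix, hmove⟩ := h2 a' x q hm
      exact ⟨g, hg.1, by rw [hp, fix_append]; exact ⟨hg.2, hfix⟩, hmove⟩
    · rcases c' with _ | ⟨c, c''⟩
      · simp only [List.nil_append] at hc
        simp only [List.append_nil] at hl
        obtain ⟨g, hg, _, hmove⟩ := h2 [] x q hc.symm
        exact ⟨g, hg.1, by rw [← hl]; exact hg.2, hmove⟩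
      · simp only [List.cons_append, List.cons.injEq] at hc
        obtain ⟨rfl, -⟩ := hc
        exact h1 p x c'' hl

lemma irr_singleton {H : Subgroup G} {x : Ω} : Irr H [x] ↔ ∃ g ∈ H, g • x ≠ x := by
  constructor
  · intro h
    obtain ⟨g, hg, _, hmove⟩ := h [] x [] rfl
    exact ⟨g, hg, hmove⟩
  · rintro ⟨g, hg, hmove⟩ l₁ y l₂ h
    rcases l₁ with _ | ⟨a, l₁⟩
    · simp only [List.nil_append, List.cons.injEq] at h
      obtain ⟨rfl, -⟩ := h
      exact ⟨g, hg, fix_nil g, hmove⟩
    · simp at h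

lemma irr_prefix {H : Subgroup G} {l m : List Ω} (h : Irr H (l ++ m)) : Irr H l :=
  (irr_append.mp h).1

/-- a base relative to `H` -/
def IsBase (H : Subgroup G) (l : List Ω) : Prop := ∀ g ∈ H, Fix g l → g = 1

lemma isBase_iff_stab {H : Subgroup G} {l : List Ω} : IsBase H l ↔ stab H l = ⊥ := by
  rw [Subgroup.eq_bot_iff_forall]
  constructor
  · intro h g hg; exact h g hg.1 hg.2
  · intro h g hg hfix; exact h g ⟨hg, hfix⟩

/-- reduction: drop redundant entries -/
lemma exists_reduction (H : Subgroup G) (l : List Ω) :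
    ∃ l' : List Ω, l'.Sublist l ∧ Irr H l' ∧ stab H l' = stab H l := by
  induction l using List.reverseRecOn with
  | nil => exact ⟨[], List.Sublist.refl _, irr_nil H, rfl⟩
  | append_singleton l₀ x ih =>
    obtain ⟨l₀', hsub, hirr, hstab⟩ := ih
    by_cases hx : ∀ g ∈ stab H l₀', g • x = x
    · refine ⟨l₀', hsub.trans (List.sublist_append_left _ _), hirr, ?_⟩
      rw [← stab_stab, ← hstab]
      ext g
      constructor
      · intro h; exact ⟨h, fix_singleton.mpr (hx g h)⟩
      · intro h; exact h.1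
    · push Not at hx
      obtain ⟨g, hg, hmove⟩ := hx
      refine ⟨l₀' ++ [x], List.Sublist.append hsub (List.Sublist.refl _), ?_, ?_⟩
      · rw [irr_append]
        exact ⟨hirr, irr_singleton.mpr ⟨g, hg, hmove⟩⟩
      · rw [← stab_stab, ← stab_stab, hstab]

/-- reordering property for a subgroup -/
def Reord (H : Subgroup G) : Prop := ∀ l l' : List Ω, l.Perm l' → Irr H l → Irr H l'

lemma reord_stab {H : Subgroup G} (hR : Reord (Ω := Ω) H) {l : List Ω} (hl : Irr H l) :
    Reord (Ω := Ω) (stab H l) := by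
  intro m m' hmm' hm
  have h1 : Irr H (l ++ m) := irr_append.mpr ⟨hl, hm⟩
  have h2 : Irr H (l ++ m') := hR _ _ (List.Perm.append_left l hmm') h1
  exact (irr_append.mp h2).2

/-- the case of a one-element list -/
lemma length_eq_one_of_stab_eq {K : Subgroup G} (hR : Reord (Ω := Ω) K) (a : Ω) (B : List Ω)
    (ha : Irr K [a]) (hB : Irr K B) (hst : stab K [a] = stab K B) : B.length = 1 := by
  obtain ⟨g₀, hg₀, hmove₀⟩ := irr_singleton.mp ha
  rcases B with _ | ⟨b1, B₁⟩
  · exfalso
    rw [stab_nil] at hst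
    have : g₀ ∈ stab K [a] := by rw [hst]; exact hg₀
    exact hmove₀ (fix_singleton.mp this.2)
  · have hb1 : Irr K [b1] := irr_prefix (l := [b1]) (m := B₁) hB
    by_cases hcase : ∀ g ∈ stab K [b1], g • a = a
    · -- then stab K [b1] = stab K B
      rcases B₁ with _ | ⟨b2, B₂⟩
      · rfl
      · exfalso
        obtain ⟨g, hg, hfix, hmove⟩ := hB [b1] b2 B₂ rfl
        have h1 : g ∈ stab K [b1] := ⟨hg, hfix⟩
        have h2 : g ∈ stab K [a] := ⟨hg, fix_singleton.mpr (hcase g h1)⟩
        rw [hst] at h2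
        exact hmove (h2.2 b2 (by simp))
    · exfalso
      push Not at hcase
      obtain ⟨g, hg, hmove⟩ := hcase
      have h1 : Irr K ([b1] ++ [a]) := irr_append.mpr ⟨hb1, irr_singleton.mpr ⟨g, hg, hmove⟩⟩
      have h2 : Irr K ([a] ++ [b1]) := hR _ _ List.perm_append_comm h1
      obtain ⟨g', hg', hmove'⟩ := irr_singleton.mp (irr_append.mp h2).2
      rw [hst] at hg'
      exact hmove' (hg'.2 b1 (by simp))

/-- main induction: two irredundant lists with the same stabilizer have the same length -/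
lemma length_eq_of_stab_eq : ∀ (n : ℕ) (H : Subgroup G), Reord (Ω := Ω) H → ∀ A B : List Ω,
    A.length = n → Irr H A → Irr H B → stab H A = stab H B → B.length = n := by
  intro n
  induction n with
  | zero =>
    intro H _ A B hA _ hB hst
    rw [List.length_eq_zero_iff] at hA
    subst hA
    rw [stab_nil] at hst
    rcases B with _ | ⟨b1, B₁⟩
    · rfl
    · exfalso
      obtain ⟨g, hg, _, hmove⟩ := hB [] b1 B₁ rfl
      rw [hst] at hg
      exact hmove (hg.2 b1 (by simp))
  | succ n ih =>
    intro H hR A B hA hAirr hBirr hst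
    rcases A with _ | ⟨a1, A'⟩
    · simp at hA
    have hA' : A'.length = n := by simpa using hA
    have hsplitA : Irr H ([a1] ++ A') := hAirr
    obtain ⟨ha1, hA'irr⟩ := irr_append.mp hsplitA
    -- reduce B relative to the stabilizer of a1
    obtain ⟨B', hsub, hB'irr, hB'st⟩ := exists_reduction (stab H [a1]) B
    have hstB : stab (stab H [a1]) B = stab H B := by
      rw [stab_stab]
      ext g
      simp only [mem_stab, List.singleton_append, fix_cons]
      constructor
      · rintro ⟨h1, _, h3⟩; exact ⟨h1, h3⟩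
      · rintro ⟨h1, h3⟩
        have : g ∈ stab H ([a1] ++ A') := by rw [show [a1] ++ A' = a1 :: A' from rfl, hst]; exact ⟨h1, h3⟩
        exact ⟨h1, this.2 a1 (by simp), h3⟩
    have hstA : stab (stab H [a1]) A' = stab H (a1 :: A') := by rw [stab_stab]; rfl
    have hlenB' : B'.length = n :=
      ih (stab H [a1]) (reord_stab hR ha1) A' B' hA' hA'irr hB'irr (by rw [hB'st, hstB, hstA, hst])
    -- a1 :: B' is irredundant, hence so is B' ++ [a1]
    have h1 : Irr H ([a1] ++ B') := irr_append.mpr ⟨ha1, hB'irr⟩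
    have h2 : Irr H (B' ++ [a1]) := hR _ _ List.perm_append_comm h1
    obtain ⟨B'', hperm⟩ := hsub.exists_perm_append
    have h3 : Irr H (B' ++ B'') := hR _ _ hperm hBirr
    have hB'H : Irr H B' := irr_prefix h3
    have hK := reord_stab hR hB'H
    have h4 : stab (stab H B') [a1] = stab (stab H B') B'' := by
      rw [stab_stab, stab_stab, ← stab_perm H hperm, ← hstB, ← hB'st, stab_stab,
        stab_perm H (List.perm_append_comm (l₁ := B') (l₂ := [a1]))]
    have h5 := length_eq_one_of_stab_eq hK a1 B'' (irr_append.mp h2).2 (irr_append.mp h3).2 h4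
    rw [hperm.length_eq, List.length_append, hlenB', h5]

lemma card_stab_lt [Finite G] {H K : Subgroup G} (h : H < K) : Nat.card H < Nat.card K := by
  have h1 : (H : Set G) ⊂ (K : Set G) := h
  have := Set.ncard_lt_ncard h1 (Set.toFinite _)
  rwa [← Nat.card_coe_set_eq, ← Nat.card_coe_set_eq] at this

/-- an irredundant list extends to an irredundant base when the action is faithful -/
lemma exists_extension [Finite G] (hfaith : ∀ g : G, (∀ x : Ω, g • x = x) → g = 1) :
    ∀ (k : ℕ) (l : List Ω), Nat.card (stab (⊤ : Subgroup G) l) = k → Irr (⊤ : Subgroup G) l →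
      ∃ m : List Ω, IsBase (⊤ : Subgroup G) (l ++ m) ∧ Irr (⊤ : Subgroup G) (l ++ m) := by
  intro k
  induction k using Nat.strong_induction_on with
  | _ k ih =>
    intro l hk hl
    by_cases hb : stab (⊤ : Subgroup G) l = ⊥
    · exact ⟨[], by rw [List.append_nil]; exact ⟨isBase_iff_stab.mpr hb, hl⟩⟩
    · obtain ⟨g, hg1⟩ := (Subgroup.ne_bot_iff_exists_ne_one).mp hb
      have hgm : (g : G) ∈ stab (⊤ : Subgroup G) l := g.2
      have hex : ∃ x : Ω, (g : G) • x ≠ x := by
        by_contra h
        push Not at h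
        exact hg1 (Subtype.ext (hfaith g h))
      obtain ⟨x, hx⟩ := hex
      have hirr : Irr (⊤ : Subgroup G) (l ++ [x]) :=
        irr_append.mpr ⟨hl, irr_singleton.mpr ⟨g, hgm, hx⟩⟩
      have hlt : stab (⊤ : Subgroup G) (l ++ [x]) < stab (⊤ : Subgroup G) l := by
        rw [← stab_stab]
        refine lt_of_le_of_ne (stab_le _ _) ?_
        intro heq
        have : (g : G) ∈ stab (stab (⊤ : Subgroup G) l) [x] := by rw [heq]; exact hgm
        exact hx (fix_singleton.mp this.2)
      have hcard : Nat.card (stab (⊤ : Subgroup G) (l ++ [x])) < k := hk ▸ card_stab_lt hlt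
      obtain ⟨m, hm1, hm2⟩ := ih _ hcard (l ++ [x]) rfl hirr
      exact ⟨x :: m, by simpa using hm1, by simpa using hm2⟩

/-- list form of: all irredundant bases have the same length -/
def SameLength (G Ω : Type*) [Group G] [MulAction G Ω] : Prop :=
  ∀ l l' : List Ω, IsBase (⊤ : Subgroup G) l → Irr (⊤ : Subgroup G) l →
    IsBase (⊤ : Subgroup G) l' → Irr (⊤ : Subgroup G) l' → l.length = l'.length

/-- list form of: reorderings of irredundant bases are irredundant bases -/
def ReordBase (G Ω : Type*) [Group G] [MulAction G Ω] : Prop :=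
  ∀ l l' : List Ω, l.Perm l' → IsBase (⊤ : Subgroup G) l → Irr (⊤ : Subgroup G) l →
    Irr (⊤ : Subgroup G) l'

lemma isBase_perm {H : Subgroup G} {l l' : List Ω} (h : l.Perm l') (hl : IsBase H l) : IsBase H l' := by
  rw [isBase_iff_stab] at hl ⊢
  rw [← stab_perm H h]; exact hl

theorem reordBase_of_sameLength (h : SameLength G Ω) : ReordBase G Ω := by
  intro l l' hperm hbase hirr
  have hbase' : IsBase (⊤ : Subgroup G) l' := isBase_perm hperm hbase
  obtain ⟨l'', hsub, hirr'', hst⟩ := exists_reduction (⊤ : Subgroup G) l'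
  have hbase'' : IsBase (⊤ : Subgroup G) l'' := by
    rw [isBase_iff_stab] at hbase' ⊢
    rw [hst]; exact hbase'
  have hlen : l''.length = l'.length := by
    rw [← h l l'' hbase hirr hbase'' hirr'', hperm.length_eq]
  have : l'' = l' := hsub.eq_of_length hlen
  rw [← this]; exact hirr''

theorem sameLength_of_reordBase [Finite G] (h : ReordBase G Ω) : SameLength G Ω := by
  intro l l' hbase hirr hbase' hirr'
  have hfaith : ∀ g : G, (∀ x : Ω, g • x = x) → g = 1 := by
    intro g hg
    exact hbase g (Subgroup.mem_top g) (fun y _ => hg y)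
  have hR : Reord (Ω := Ω) (⊤ : Subgroup G) := by
    intro m m' hmm' hm
    obtain ⟨e, he1, he2⟩ := exists_extension hfaith _ m rfl hm
    have := h (m ++ e) (m' ++ e) (List.Perm.append_right e hmm') he1 he2
    exact irr_prefix this
  have hst : stab (⊤ : Subgroup G) l = stab (⊤ : Subgroup G) l' := by
    rw [isBase_iff_stab.mp hbase, isBase_iff_stab.mp hbase']
  exact (length_eq_of_stab_eq l.length ⊤ hR l l' rfl hirr hirr' hst).symm

lemma irr_nodup {H : Subgroup G} {l : List Ω} (h : Irr H l) : l.Nodup := by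
  induction l using List.reverseRecOn with
  | nil => exact List.nodup_nil
  | append_singleton l₀ x ih =>
    obtain ⟨h1, h2⟩ := irr_append.mp h
    obtain ⟨g, hg, hmove⟩ := irr_singleton.mp h2
    rw [List.nodup_append]
    refine ⟨ih h1, List.nodup_singleton x, ?_⟩
    intro a ha b hb
    rw [List.mem_singleton] at hb
    subst hb
    rintro rfl
    exact hmove (hg.2 a ha)

lemma irr_iff_index (H : Subgroup G) (l : List Ω) :
    Irr H l ↔ ∀ (i : ℕ) (hi : i < l.length), ∃ g ∈ H,
      (∀ (j : ℕ) (hj : j < i), g • l[j]'(hj.trans hi) = l[j]'(hj.trans hi)) ∧ g • l[i] ≠ l[i] := by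
  constructor
  · intro h i hi
    have hsplit : l = l.take i ++ l[i] :: l.drop (i + 1) := by
      rw [← List.drop_eq_getElem_cons hi, List.take_append_drop]
    obtain ⟨g, hg, hfix, hmove⟩ := h _ _ _ hsplit
    refine ⟨g, hg, fun j hj => ?_, hmove⟩
    apply hfix
    rw [List.mem_take_iff_getElem]
    exact ⟨j, by omega, rfl⟩
  · intro h l₁ x l₂ hl
    have hi : l₁.length < l.length := by rw [hl]; simp
    obtain ⟨g, hg, hfix, hmove⟩ := h l₁.length hi
    have hx : l[l₁.length] = x := by
      subst hl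
      simp
    refine ⟨g, hg, ?_, by rwa [hx] at hmove⟩
    intro y hy
    obtain ⟨j, hj, rfl⟩ := List.mem_iff_getElem.mp hy
    have := hfix j hj
    have hlj : l[j]'(hj.trans hi) = l₁[j] := by
      subst hl
      rw [List.getElem_append_left hj]
    rwa [hlj] at this

lemma exists_perm_of_perm {α : Type*} {l l' : List α} (h : l.Perm l') (hnd : l.Nodup) :
    ∃ σ : Equiv.Perm (Fin l.length), List.ofFn (l.get ∘ σ) = l' := by
  classical
  have hnd' : l'.Nodup := h.nodup_iff.mp hnd
  let e : Fin l'.length ≃ Fin l.length :=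
    (List.Nodup.getEquiv l' hnd').trans
      ((Equiv.subtypeEquivRight (fun x => h.mem_iff.symm)).trans (List.Nodup.getEquiv l hnd).symm)
  have he : ∀ i, l.get (e i) = l'.get i := by
    intro i
    have := (List.Nodup.getEquiv l hnd).apply_symm_apply
      ((Equiv.subtypeEquivRight (fun x => h.mem_iff.symm)) ((List.Nodup.getEquiv l' hnd') i))
    exact congrArg Subtype.val this
  refine ⟨(finCongr h.length_eq).trans e, ?_⟩
  apply List.ext_get
  · simp [h.length_eq]
  · intro n h1 h2
    simp only [List.get_eq_getElem, List.getElem_ofFn, Function.comp_apply, Equiv.trans_apply]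
    have := he ⟨n, h2⟩
    simp only [List.get_eq_getElem] at this
    rw [← this]
    rfl


/-- the statement's notion of irredundant base, for `Fin`-indexed sequences -/
def IBfin (G : Type*) {Ω : Type*} [Group G] [MulAction G Ω] {t : ℕ} (f : Fin t → Ω) : Prop :=
  (∀ g : G, (∀ i : Fin t, g • f i = f i) → g = 1) ∧
    ∀ i : Fin t, ∃ g : G, (∀ j : Fin t, j < i → g • f j = f j) ∧ g • f i ≠ f i

lemma ibfin_iff {t : ℕ} (f : Fin t → Ω) :
    IBfin G f ↔ IsBase (⊤ : Subgroup G) (List.ofFn f) ∧ Irr (⊤ : Subgroup G) (List.ofFn f) := by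
  unfold IBfin
  apply and_congr
  · unfold IsBase Fix
    simp only [Subgroup.mem_top, forall_true_left, List.forall_mem_ofFn_iff]
  · rw [irr_iff_index]
    simp only [List.length_ofFn, List.getElem_ofFn, Subgroup.mem_top, true_and]
    constructor
    · intro h i hi
      obtain ⟨g, hfix, hmove⟩ := h ⟨i, hi⟩
      exact ⟨g, fun j hj => hfix ⟨j, hj.trans hi⟩ (by simpa using hj), hmove⟩
    · intro h i
      obtain ⟨g, hfix, hmove⟩ := h i.1 i.2
      exact ⟨g, fun j hj => hfix j.1 (by simpa using hj), hmove⟩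

end lists

/-- Let a finite group G act on a finite set Ω. An irredundant base is a sequence of points ω₁, …, ω_t whose pointwise stabiliser is trivial and in which each ω_i is moved by some element fixing ω₁, …, ω_{i−1}. Then all irredundant bases have the same length if and only if every reordering of an irredundant base is again an irredundant base. -/
theorem result {G Ω : Type*} [Group G] [Finite G] [MulAction G Ω] [Fintype Ω] :
    (∀ (t t' : ℕ) (f : Fin t → Ω) (f' : Fin t' → Ω), ((∀ g : G, (∀ i : Fin t, g • f i = f i) → g = 1) ∧ ∀ i : Fin t, ∃ g : G, (∀ j : Fin t, j < i → g • f j = f j) ∧ g • f i ≠ f i) → ((∀ g : G, (∀ i : Fin t', g • f' i = f' i) → g = 1) ∧ ∀ i : Fin t', ∃ g : G, (∀ j : Fin t', j < i → g • f' j = f' j) ∧ g • f' i ≠ f' i) → t = t') ↔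
    (∀ (t : ℕ) (f : Fin t → Ω) (σ : Equiv.Perm (Fin t)), ((∀ g : G, (∀ i : Fin t, g • f i = f i) → g = 1) ∧ ∀ i : Fin t, ∃ g : G, (∀ j : Fin t, j < i → g • f j = f j) ∧ g • f i ≠ f i) → ((∀ g : G, (∀ i : Fin t, g • (f ∘ σ) i = (f ∘ σ) i) → g = 1) ∧ ∀ i : Fin t, ∃ g : G, (∀ j : Fin t, j < i → g • (f ∘ σ) j = (f ∘ σ) j) ∧ g • (f ∘ σ) i ≠ (f ∘ σ) i)) := by
  constructor
  · intro hA
    have hSL : SameLength G Ω := by
      intro l l' hb hi hb' hi'
      exact hA l.length l'.length l.get l'.get
        ((ibfin_iff (G := G) l.get).mpr ⟨by rwa [List.ofFn_get], by rwa [List.ofFn_get]⟩)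
        ((ibfin_iff (G := G) l'.get).mpr ⟨by rwa [List.ofFn_get], by rwa [List.ofFn_get]⟩)
    have hRB := reordBase_of_sameLength hSL
    intro t f σ hf
    obtain ⟨hb, hi⟩ := (ibfin_iff (G := G) f).mp hf
    have hperm : (List.ofFn f).Perm (List.ofFn (f ∘ σ)) := (σ.ofFn_comp_perm f).symm
    exact (ibfin_iff (G := G) _).mpr ⟨isBase_perm hperm hb, hRB _ _ hperm hb hi⟩
  · intro hB
    have hRB : ReordBase G Ω := by
      intro l l' hperm hb hi
      obtain ⟨σ, hσ⟩ := exists_perm_of_perm hperm (irr_nodup hi)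
      have h1 : IBfin G l.get :=
        (ibfin_iff (G := G) l.get).mpr ⟨by rwa [List.ofFn_get], by rwa [List.ofFn_get]⟩
      have h2 := hB l.length l.get σ h1
      have h3 := (ibfin_iff (G := G) _).mp h2
      rw [hσ] at h3
      exact h3.2
    have hSL := sameLength_of_reordBase hRB
    intro t t' f f' hf hf'
    obtain ⟨hb, hi⟩ := (ibfin_iff (G := G) f).mp hf
    obtain ⟨hb', hi'⟩ := (ibfin_iff (G := G) f').mp hf'
    have := hSL _ _ hb hi hb' hi'
    simpa using this

end Cfsg.Agent.S5747
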