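import Cfsg.Statements.S5754

set_option autoImplicit false
open Cfsg

namespace Cfsg.Agent.S5754

section aux
variable {F V : Type*} [Field F] [AddCommGroup V] [Module F V]

lemma map_sub_smul (Q : QuadraticForm F V) (y v : V) (t : F) :
    Q (y - t • v) = Q y + t * t * Q v - t * QuadraticMap.polar Q y v := by
  have h1 : QuadraticMap.polar Q y ((-t) • v) = (-t) * QuadraticMap.polar Q y v := by
    rw [QuadraticMap.polar_smul_right]; rfl
  have h2 : Q ((-t) • v) = t * t * Q v := by
    rw [QuadraticMap.map_smul]; simp
  have h3 : Q (y + (-t) • v) = Q y + Q ((-t) • v) + QuadraticMap.polar Q y ((-t) • v) := by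
    unfold QuadraticMap.polar; ring
  have h4 : y - t • v = y + (-t) • v := by rw [neg_smul, sub_eq_add_neg]
  rw [h4, h3, h2, h1]; ring

lemma map_sub_eq (Q : QuadraticForm F V) (a b : V) :
    Q (a - b) = Q a + Q b - QuadraticMap.polar Q a b := by
  have := map_sub_smul Q a b 1
  simpa using this

lemma polar_isometry (Q : QuadraticForm F V) (φ : Q.IsometryEquiv Q) (a b : V) :
    QuadraticMap.polar Q (φ a) (φ b) = QuadraticMap.polar Q a b := by
  unfold QuadraticMap.polar
  rw [← map_add, QuadraticMap.IsometryEquiv.map_app, QuadraticMap.IsometryEquiv.map_app,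
    QuadraticMap.IsometryEquiv.map_app]

/-- the linear functional used for the reflection in `v`. -/
noncomputable def reflFun (Q : QuadraticForm F V) (v : V) : Module.Dual F V :=
  (Q v)⁻¹ • QuadraticMap.polarBilin Q v

lemma reflFun_apply (Q : QuadraticForm F V) (v y : V) :
    reflFun Q v y = (Q v)⁻¹ * QuadraticMap.polar Q v y := by
  simp [reflFun]

lemma reflFun_self (Q : QuadraticForm F V) (v : V) (hv : Q v ≠ 0) : reflFun Q v v = 2 := by
  rw [reflFun_apply, QuadraticMap.polar_self]
  simp only [nsmul_eq_mul, Nat.cast_ofNat]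
  field_simp

/-- the reflection in a non-singular vector, as an isometry. -/
noncomputable def refl (Q : QuadraticForm F V) (v : V) (hv : Q v ≠ 0) : Q.IsometryEquiv Q :=
  { Module.reflection (reflFun_self Q v hv) with
    map_app' := by
      intro y
      show Q (Module.reflection (reflFun_self Q v hv) y) = Q y
      rw [Module.reflection_apply, map_sub_smul, reflFun_apply, QuadraticMap.polar_comm Q y v]
      field_simp
      ring }

lemma refl_apply (Q : QuadraticForm F V) (v : V) (hv : Q v ≠ 0) (y : V) :
    refl Q v hv y = y - ((Q v)⁻¹ * QuadraticMap.polar Q v y) • v := by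
  show Module.reflection (reflFun_self Q v hv) y = _
  rw [Module.reflection_apply, reflFun_apply]

lemma exists_isometry (Q : QuadraticForm F V) (hQ : Q.Anisotropic) :
    ∀ (n : ℕ) (x x' : Fin n → V), (∀ i, Q (x i) = Q (x' i)) →
      (∀ i j, QuadraticMap.polar Q (x i) (x j) = QuadraticMap.polar Q (x' i) (x' j)) →
      ∃ φ : Q.IsometryEquiv Q, ∀ i, φ (x i) = x' i := by
  intro n
  induction n with
  | zero => intro x x' _ _; exact ⟨QuadraticMap.IsometryEquiv.refl Q, fun i => i.elim0⟩
  | succ n ih =>
    intro x x' hq hp
    obtain ⟨φ, hφ⟩ := ih (fun i => x i.castSucc) (fun i => x' i.castSucc)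
      (fun i => hq _) (fun i j => hp _ _)
    set y := φ (x (Fin.last n)) with hy
    set z := x' (Fin.last n) with hz
    by_cases hyz : y = z
    · refine ⟨φ, fun i => ?_⟩
      refine Fin.lastCases ?_ (fun i => ?_) i
      · exact hyz
      · exact hφ i
    · have hv : Q (y - z) ≠ 0 := by
        intro h0
        exact hyz (sub_eq_zero.mp (hQ _ h0))
      have hQy : Q y = Q z := by
        rw [hy, QuadraticMap.IsometryEquiv.map_app, hq]
      refine ⟨φ.trans (refl Q (y - z) hv), fun i => ?_⟩
      refine Fin.lastCases ?_ (fun i => ?_) i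
      · show refl Q (y - z) hv (φ (x (Fin.last n))) = z
        rw [← hy, refl_apply]
        have h1 : QuadraticMap.polar Q (y - z) y = Q (y - z) := by
          rw [QuadraticMap.polar_sub_left, QuadraticMap.polar_self, map_sub_eq, hQy,
            QuadraticMap.polar_comm Q z y]
          simp only [nsmul_eq_mul, Nat.cast_ofNat]
          ring
        rw [h1, inv_mul_cancel₀ hv, one_smul]
        abel
      · show refl Q (y - z) hv (φ (x i.castSucc)) = x' i.castSucc
        rw [hφ i, refl_apply]
        have h1 : QuadraticMap.polar Q (y - z) (x' i.castSucc) = 0 := by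
          rw [QuadraticMap.polar_sub_left, ← hφ i, hy, polar_isometry, hφ i, hz, hp]
          simp
        rw [h1]
        simp

end aux

/-- Let V be a finite-dimensional vector space over a finite field F carrying an anisotropic quadratic form Q (Q(v) = 0 only for v = 0). Then the group of all maps v ↦ φ(v) + c, with φ an isometry of Q and c ∈ V, acts on V as a binary permutation group: given n ≥ 2 and two n-tuples u, u' of vectors such that every pair of corresponding entries of u is carried to that of u' by such a map, one such map carries u to u'. -/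
theorem result {F V : Type*} [Field F] [Finite F] [AddCommGroup V] [Module F V] [Module.Finite F V]
    (Q : QuadraticForm F V) (hQ : Q.Anisotropic) (n : ℕ) (hn : 2 ≤ n) (u u' : Fin n → V)
    (h2 : ∀ i j : Fin n, i ≠ j → ∃ (φ : Q.IsometryEquiv Q) (c : V), φ (u i) + c = u' i ∧ φ (u j) + c = u' j) :
    ∃ (φ : Q.IsometryEquiv Q) (c : V), ∀ i, φ (u i) + c = u' i := by
  have hd : ∀ i j : Fin n, Q (u i - u j) = Q (u' i - u' j) := by
    intro i j
    by_cases hij : i = j
    · subst hij; simp
    · obtain ⟨φ, c, h1, h2'⟩ := h2 i j hij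
      rw [← h1, ← h2', add_sub_add_right_eq_sub, ← map_sub, QuadraticMap.IsometryEquiv.map_app]
  let i0 : Fin n := ⟨0, by omega⟩
  have hq : ∀ i, Q (u i - u i0) = Q (u' i - u' i0) := fun i => hd i i0
  have hp : ∀ i j, QuadraticMap.polar Q (u i - u i0) (u j - u i0) =
      QuadraticMap.polar Q (u' i - u' i0) (u' j - u' i0) := by
    intro i j
    have e1 := map_sub_eq Q (u i - u i0) (u j - u i0)
    have e2 := map_sub_eq Q (u' i - u' i0) (u' j - u' i0)
    rw [sub_sub_sub_cancel_right] at e1 e2
    rw [hd i j, hq i, hq j] at e1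
    rw [e1] at e2
    exact sub_right_injective e2
  obtain ⟨φ, hφ⟩ := exists_isometry Q hQ n (fun i => u i - u i0) (fun i => u' i - u' i0) hq hp
  refine ⟨φ, u' i0 - φ (u i0), fun i => ?_⟩
  have := hφ i
  simp only [map_sub] at this
  have h : u' i = φ (u i) - φ (u i0) + u' i0 := by rw [this]; abel
  rw [h]
  abel

end Cfsg.Agent.S5754
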