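import Cfsg.Statements.S5763
-- import your own Cfsg.Agent.* helpers here

set_option autoImplicit false
open Cfsg

namespace Cfsg.Agent.S5763

/-! The Sylow 2-subgroup of `S_8` is the automorphism group of a binary tree on 8 leaves: the
permutations commuting with the pairing `pr` and preserving the two blocks `bl`.  We show that this
group `P` is a 2-group, that any two conjugates of it meet non-trivially (a finite check, cut
down by normalising the conjugating element with right multiplication by `P`), and deduce the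
statement from Sylow's theorems. -/

/-- partner map `i ↦ i xor 1` -/
def pr : Fin 8 → Fin 8 := ![1,0,3,2,5,4,7,6]
/-- `i ↦ i xor 2` -/
def pr2 : Fin 8 → Fin 8 := ![2,3,0,1,6,7,4,5]
/-- block map -/
def bl : Fin 8 → Bool := ![false,false,false,false,true,true,true,true]

/-- the function preserves the tree structure -/
def InP (f : Fin 8 → Fin 8) : Prop :=
  (∀ i, f (pr i) = pr (f i)) ∧ (∀ i, bl (f (pr2 i)) = bl (f i))

instance instDecInP (f : Fin 8 → Fin 8) : Decidable (InP f) := by unfold InP; infer_instance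

theorem sameBlock : ∀ i j : Fin 8, bl i = bl j → (j = i ∨ j = pr i ∨ j = pr2 i ∨ j = pr (pr2 i)) := by
  decide

theorem bl_pr : ∀ i : Fin 8, bl (pr i) = bl i := by decide

theorem InP.bl_eq {f : Fin 8 → Fin 8} (hf : InP f) {i j : Fin 8} (h : bl i = bl j) :
    bl (f i) = bl (f j) := by
  rcases sameBlock i j h with rfl | rfl | rfl | rfl
  · rfl
  · rw [hf.1, bl_pr]
  · rw [hf.2]
  · rw [hf.1, bl_pr, hf.2]

theorem InP.comp {f g : Fin 8 → Fin 8} (hf : InP f) (hg : InP g) : InP (f ∘ g) := by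
  refine ⟨fun i => ?_, fun i => ?_⟩
  · simp only [Function.comp_apply, hg.1, hf.1]
  · simp only [Function.comp_apply]
    exact hf.bl_eq (hg.2 i)

theorem InP_id : InP (id : Fin 8 → Fin 8) := by decide

/-- the tree automorphisms as a submonoid -/
def PM : Submonoid (Equiv.Perm (Fin 8)) where
  carrier := {σ | InP ⇑σ}
  mul_mem' {a b} ha hb := by
    show InP ⇑(a * b)
    rw [Equiv.Perm.coe_mul]
    exact InP.comp ha hb
  one_mem' := by
    show InP ⇑(1 : Equiv.Perm (Fin 8))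
    rw [Equiv.Perm.coe_one]
    exact InP_id

/-- the tree automorphisms as a subgroup -/
def P : Subgroup (Equiv.Perm (Fin 8)) where
  toSubmonoid := PM
  inv_mem' {a} ha := by
    have h1 : a⁻¹ = a ^ (orderOf a - 1) := by
      apply inv_eq_of_mul_eq_one_right
      rw [← pow_succ', Nat.sub_add_cancel (orderOf_pos a), pow_orderOf_eq_one]
    show a⁻¹ ∈ PM
    rw [h1]
    exact pow_mem ha _

theorem mem_P {σ : Equiv.Perm (Fin 8)} : σ ∈ P ↔ InP ⇑σ := Iff.rfl

/-! ### `P` is a 2-group -/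

theorem key8 : ∀ a b c d : Fin 8, bl b = bl a → bl d = bl c →
    Function.Injective ![a, pr a, b, pr b, c, pr c, d, pr d] →
    ∀ i, ![a, pr a, b, pr b, c, pr c, d, pr d] (![a, pr a, b, pr b, c, pr c, d, pr d]
      (![a, pr a, b, pr b, c, pr c, d, pr d] (![a, pr a, b, pr b, c, pr c, d, pr d]
      (![a, pr a, b, pr b, c, pr c, d, pr d] (![a, pr a, b, pr b, c, pr c, d, pr d]
      (![a, pr a, b, pr b, c, pr c, d, pr d] (![a, pr a, b, pr b, c, pr c, d, pr d] i))))))) = i := by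
  decide +kernel

theorem coe_eq_of_mem {σ : Equiv.Perm (Fin 8)} (h : σ ∈ P) :
    ⇑σ = ![σ 0, pr (σ 0), σ 2, pr (σ 2), σ 4, pr (σ 4), σ 6, pr (σ 6)] := by
  funext i
  fin_cases i
  · rfl
  · exact h.1 0
  · rfl
  · exact h.1 2
  · rfl
  · exact h.1 4
  · rfl
  · exact h.1 6

theorem pow8_of_mem {σ : Equiv.Perm (Fin 8)} (h : σ ∈ P) : σ ^ 8 = 1 := by
  have hc := coe_eq_of_mem h
  have hinj : Function.Injective ![σ 0, pr (σ 0), σ 2, pr (σ 2), σ 4, pr (σ 4), σ 6, pr (σ 6)] := by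
    rw [← hc]; exact σ.injective
  have hk := key8 (σ 0) (σ 2) (σ 4) (σ 6) (h.2 0) (h.2 4) hinj
  rw [← hc] at hk
  ext i
  have : (σ ^ 8) i = σ (σ (σ (σ (σ (σ (σ (σ i))))))) := by
    simp only [pow_succ, pow_zero, one_mul, Equiv.Perm.mul_apply]
  rw [this, hk]
  rfl

theorem P_isPGroup : IsPGroup 2 P := by
  intro g
  refine ⟨3, ?_⟩
  apply Subtype.ext
  have := pow8_of_mem g.2
  simpa using this

/-! ### Two conjugates of `P` meet non-trivially -/

/-- `P` meets its conjugate by `y` non-trivially -/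
def Good (y : Equiv.Perm (Fin 8)) : Prop :=
  ∃ c ∈ P, c ≠ 1 ∧ y * c * y⁻¹ ∈ P

theorem good_of_mul (y q : Equiv.Perm (Fin 8)) (hq : q ∈ P) (h : Good (y * q)) : Good y := by
  obtain ⟨c, hc, hc1, hc2⟩ := h
  refine ⟨q * c * q⁻¹, P.mul_mem (P.mul_mem hq hc) (P.inv_mem hq), ?_, ?_⟩
  · intro h1
    apply hc1
    have : c = q⁻¹ * (q * c * q⁻¹) * q := by group
    rw [this, h1]; group
  · have : y * (q * c * q⁻¹) * y⁻¹ = y * q * c * (y * q)⁻¹ := by group
    rw [this]; exact hc2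

/-- inverse of the tuple by search -/
def inv8 (a0 a1 a2 a3 a4 a5 a6 _a7 : Fin 8) (j : Fin 8) : Fin 8 :=
  if j = a0 then 0 else if j = a1 then 1 else if j = a2 then 2 else if j = a3 then 3
  else if j = a4 then 4 else if j = a5 then 5 else if j = a6 then 6 else 7

/-- candidate involutions in `P` -/
def cands : List (Fin 8 → Fin 8) := [
  ![1,0,2,3,4,5,6,7], ![0,1,3,2,4,5,6,7], ![0,1,2,3,5,4,6,7], ![0,1,2,3,4,5,7,6],
  ![1,0,3,2,4,5,6,7],
  ![1,0,3,2,5,4,7,6], ![1,0,3,2,6,7,4,5], ![1,0,3,2,7,6,5,4],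
  ![2,3,0,1,5,4,7,6], ![2,3,0,1,6,7,4,5], ![2,3,0,1,7,6,5,4],
  ![3,2,1,0,5,4,7,6], ![3,2,1,0,6,7,4,5], ![3,2,1,0,7,6,5,4],
  ![4,5,6,7,0,1,2,3], ![5,4,6,7,1,0,2,3], ![4,5,7,6,0,1,3,2], ![5,4,7,6,1,0,3,2],
  ![6,7,4,5,2,3,0,1], ![7,6,4,5,2,3,1,0], ![6,7,5,4,3,2,0,1], ![7,6,5,4,3,2,1,0]]

/-- a candidate is a non-identity involution preserving the tree -/
def CandOK (f : Fin 8 → Fin 8) : Prop := (∀ i, f (f i) = i) ∧ InP f ∧ ∃ i, f i ≠ i

instance instDecCandOK (f : Fin 8 → Fin 8) : Decidable (CandOK f) := by unfold CandOK; infer_instance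

theorem cands_ok : ∀ f ∈ cands, CandOK f :=
  @of_decide_eq_true _ (List.decidableBAll CandOK cands) (by decide +kernel)

def Leaf (a0 a1 a2 a3 a4 a5 a6 a7 : Fin 8) : Prop :=
  ∃ f ∈ cands, InP (fun i => ![a0,a1,a2,a3,a4,a5,a6,a7] (f (inv8 a0 a1 a2 a3 a4 a5 a6 a7 i)))

instance instDecLeaf (a0 a1 a2 a3 a4 a5 a6 a7 : Fin 8) : Decidable (Leaf a0 a1 a2 a3 a4 a5 a6 a7) := by
  unfold Leaf; infer_instance

def L7 (a0 a1 a2 a3 a4 a5 a6 : Fin 8) : Prop :=
    ∀ a7, a6 < a7 → a7 ≠ a1 → a7 ≠ a2 → a7 ≠ a3 → a7 ≠ a5 → Leaf a0 a1 a2 a3 a4 a5 a6 a7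
instance instDecL7 (a0 a1 a2 a3 a4 a5 a6 : Fin 8) : Decidable (L7 a0 a1 a2 a3 a4 a5 a6) := by
  unfold L7; infer_instance
def L6 (a0 a1 a2 a3 a4 a5 : Fin 8) : Prop :=
    ∀ a6, a4 < a6 → a6 ≠ a1 → a6 ≠ a2 → a6 ≠ a3 → a6 ≠ a5 → L7 a0 a1 a2 a3 a4 a5 a6
instance instDecL6 (a0 a1 a2 a3 a4 a5 : Fin 8) : Decidable (L6 a0 a1 a2 a3 a4 a5) := by
  unfold L6; infer_instance
def L5 (a0 a1 a2 a3 a4 : Fin 8) : Prop :=
    ∀ a5, a4 < a5 → a5 ≠ a1 → a5 ≠ a2 → a5 ≠ a3 → L6 a0 a1 a2 a3 a4 a5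
instance instDecL5 (a0 a1 a2 a3 a4 : Fin 8) : Decidable (L5 a0 a1 a2 a3 a4) := by
  unfold L5; infer_instance
def L4 (a0 a1 a2 a3 : Fin 8) : Prop :=
    ∀ a4, a0 < a4 → a4 ≠ a1 → a4 ≠ a2 → a4 ≠ a3 → L5 a0 a1 a2 a3 a4
instance instDecL4 (a0 a1 a2 a3 : Fin 8) : Decidable (L4 a0 a1 a2 a3) := by
  unfold L4; infer_instance
def L3 (a0 a1 a2 : Fin 8) : Prop :=
    ∀ a3, a2 < a3 → a3 ≠ a1 → L4 a0 a1 a2 a3
instance instDecL3 (a0 a1 a2 : Fin 8) : Decidable (L3 a0 a1 a2) := by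
  unfold L3; infer_instance
def L2 (a0 a1 : Fin 8) : Prop :=
    ∀ a2, a0 < a2 → a2 ≠ a1 → L3 a0 a1 a2
instance instDecL2 (a0 a1 : Fin 8) : Decidable (L2 a0 a1) := by
  unfold L2; infer_instance

theorem key : ∀ a0 a1 : Fin 8, a0 < a1 → L2 a0 a1 := by
  decide +kernel

/-! ### Bridging the finite check to permutations -/

theorem coe_eq_vec (y : Equiv.Perm (Fin 8)) : ⇑y = ![y 0, y 1, y 2, y 3, y 4, y 5, y 6, y 7] := by
  funext i
  fin_cases i <;> rfl

theorem inv8_eq (y : Equiv.Perm (Fin 8)) :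
    inv8 (y 0) (y 1) (y 2) (y 3) (y 4) (y 5) (y 6) (y 7) = ⇑y⁻¹ := by
  funext j
  obtain ⟨m, rfl⟩ := y.surjective j
  rw [show y⁻¹ (y m) = m from y.symm_apply_apply m]
  unfold inv8
  simp only [EmbeddingLike.apply_eq_iff_eq]
  fin_cases m <;> decide

theorem good_of_normal (y : Equiv.Perm (Fin 8)) (h01 : y 0 < y 1) (h23 : y 2 < y 3) (h45 : y 4 < y 5)
    (h67 : y 6 < y 7) (h02 : y 0 < y 2) (h46 : y 4 < y 6) (h04 : y 0 < y 4) : Good y := by
  have hne : ∀ {i j : Fin 8}, i ≠ j → y i ≠ y j := fun h => y.injective.ne h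
  obtain ⟨f, hf, hP⟩ := key (y 0) (y 1) h01 (y 2) h02 (hne (by decide)) (y 3) h23 (hne (by decide))
    (y 4) h04 (hne (by decide)) (hne (by decide)) (hne (by decide))
    (y 5) h45 (hne (by decide)) (hne (by decide)) (hne (by decide))
    (y 6) h46 (hne (by decide)) (hne (by decide)) (hne (by decide)) (hne (by decide))
    (y 7) h67 (hne (by decide)) (hne (by decide)) (hne (by decide)) (hne (by decide))
  rw [← coe_eq_vec, inv8_eq] at hP
  obtain ⟨hinv, hfP, i, hi⟩ := cands_ok f hf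
  refine ⟨Function.Involutive.toPerm f hinv, hfP, ?_, hP⟩
  intro h1
  apply hi
  have := congrArg (fun c : Equiv.Perm (Fin 8) => c i) h1
  exact this

/-! ### Normalising by right multiplication with elements of `P` -/

def t01 : Equiv.Perm (Fin 8) := Function.Involutive.toPerm ![1,0,2,3,4,5,6,7] (by unfold Function.Involutive; decide)
def t23 : Equiv.Perm (Fin 8) := Function.Involutive.toPerm ![0,1,3,2,4,5,6,7] (by unfold Function.Involutive; decide)
def t45 : Equiv.Perm (Fin 8) := Function.Involutive.toPerm ![0,1,2,3,5,4,6,7] (by unfold Function.Involutive; decide)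
def t67 : Equiv.Perm (Fin 8) := Function.Involutive.toPerm ![0,1,2,3,4,5,7,6] (by unfold Function.Involutive; decide)
def u03 : Equiv.Perm (Fin 8) := Function.Involutive.toPerm ![2,3,0,1,4,5,6,7] (by unfold Function.Involutive; decide)
def u47 : Equiv.Perm (Fin 8) := Function.Involutive.toPerm ![0,1,2,3,6,7,4,5] (by unfold Function.Involutive; decide)
def w07 : Equiv.Perm (Fin 8) := Function.Involutive.toPerm ![4,5,6,7,0,1,2,3] (by unfold Function.Involutive; decide)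

theorem t01_mem : t01 ∈ P := by show InP _; decide
theorem t23_mem : t23 ∈ P := by show InP _; decide
theorem t45_mem : t45 ∈ P := by show InP _; decide
theorem t67_mem : t67 ∈ P := by show InP _; decide
theorem u03_mem : u03 ∈ P := by show InP _; decide
theorem u47_mem : u47 ∈ P := by show InP _; decide
theorem w07_mem : w07 ∈ P := by show InP _; decide

theorem lt_swap (y : Equiv.Perm (Fin 8)) {i j : Fin 8} (hij : i ≠ j) (h : ¬ y i < y j) : y j < y i :=
  lt_of_le_of_ne (not_lt.mp h) (y.injective.ne hij.symm)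

theorem good6 (y : Equiv.Perm (Fin 8)) (h01 : y 0 < y 1) (h23 : y 2 < y 3) (h45 : y 4 < y 5)
    (h67 : y 6 < y 7) (h02 : y 0 < y 2) (h46 : y 4 < y 6) : Good y := by
  by_cases h04 : y 0 < y 4
  · exact good_of_normal y h01 h23 h45 h67 h02 h46 h04
  · exact good_of_mul y w07 w07_mem
      (good_of_normal (y * w07) h45 h67 h01 h23 h46 h02 (lt_swap y (by decide) h04))

theorem good5 (y : Equiv.Perm (Fin 8)) (h01 : y 0 < y 1) (h23 : y 2 < y 3) (h45 : y 4 < y 5)
    (h67 : y 6 < y 7) (h02 : y 0 < y 2) : Good y := by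
  by_cases h46 : y 4 < y 6
  · exact good6 y h01 h23 h45 h67 h02 h46
  · exact good_of_mul y u47 u47_mem
      (good6 (y * u47) h01 h23 h67 h45 h02 (lt_swap y (by decide) h46))

theorem good4 (y : Equiv.Perm (Fin 8)) (h01 : y 0 < y 1) (h23 : y 2 < y 3) (h45 : y 4 < y 5)
    (h67 : y 6 < y 7) : Good y := by
  by_cases h02 : y 0 < y 2
  · exact good5 y h01 h23 h45 h67 h02
  · exact good_of_mul y u03 u03_mem
      (good5 (y * u03) h23 h01 h45 h67 (lt_swap y (by decide) h02))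

theorem good3 (y : Equiv.Perm (Fin 8)) (h01 : y 0 < y 1) (h23 : y 2 < y 3) (h45 : y 4 < y 5) :
    Good y := by
  by_cases h67 : y 6 < y 7
  · exact good4 y h01 h23 h45 h67
  · exact good_of_mul y t67 t67_mem
      (good4 (y * t67) h01 h23 h45 (lt_swap y (by decide) h67))

theorem good2 (y : Equiv.Perm (Fin 8)) (h01 : y 0 < y 1) (h23 : y 2 < y 3) : Good y := by
  by_cases h45 : y 4 < y 5
  · exact good3 y h01 h23 h45
  · exact good_of_mul y t45 t45_mem
      (good3 (y * t45) h01 h23 (lt_swap y (by decide) h45))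

theorem good1 (y : Equiv.Perm (Fin 8)) (h01 : y 0 < y 1) : Good y := by
  by_cases h23 : y 2 < y 3
  · exact good2 y h01 h23
  · exact good_of_mul y t23 t23_mem
      (good2 (y * t23) h01 (lt_swap y (by decide) h23))

theorem good_all (y : Equiv.Perm (Fin 8)) : Good y := by
  by_cases h01 : y 0 < y 1
  · exact good1 y h01
  · exact good_of_mul y t01 t01_mem
      (good1 (y * t01) (lt_swap y (by decide) h01))

open scoped Pointwise in
theorem conj_mem_of_smul_eq {Q H : Sylow 2 (Equiv.Perm (Fin 8))} {g : Equiv.Perm (Fin 8)}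
    (hg : g • Q = H) (hPQ : P ≤ Q) :
    ∀ c ∈ P, g * c * g⁻¹ ∈ (H : Subgroup (Equiv.Perm (Fin 8))) := by
  intro c hc
  rw [← hg, Sylow.smul_def, Sylow.pointwise_smul_def]
  have : MulAut.conj g • c ∈ MulAut.conj g • (Q : Subgroup (Equiv.Perm (Fin 8))) :=
    Subgroup.smul_mem_pointwise_smul _ _ _ (hPQ hc)
  simpa [MulAut.smul_def] using this

/-- In the symmetric group on 8 letters any two Sylow 2-subgroups have non-trivial intersection: for a Sylow 2-subgroup H and every element x, H ∩ xHx⁻¹ ≠ 1. -/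
theorem result (H : Sylow 2 (Equiv.Perm (Fin 8))) (x : Equiv.Perm (Fin 8)) :
    (H : Subgroup (Equiv.Perm (Fin 8))) ⊓ (H : Subgroup (Equiv.Perm (Fin 8))).map (MulAut.conj x).toMonoidHom ≠ ⊥ := by
  obtain ⟨Q, hPQ⟩ := P_isPGroup.exists_le_sylow
  obtain ⟨g, hg⟩ := MulAction.exists_smul_eq (Equiv.Perm (Fin 8)) Q H
  -- elements `g * c * g⁻¹` with `c ∈ P` lie in `H`
  have hmem := conj_mem_of_smul_eq hg hPQ
  obtain ⟨c, hc, hc1, hc2⟩ := good_all (g⁻¹ * x⁻¹ * g)
  intro hbot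
  have h1 : g * c * g⁻¹ ∈ (H : Subgroup (Equiv.Perm (Fin 8))) := hmem c hc
  have h2 : g * c * g⁻¹ ∈ (H : Subgroup (Equiv.Perm (Fin 8))).map (MulAut.conj x).toMonoidHom := by
    refine Subgroup.mem_map.mpr ⟨g * (g⁻¹ * x⁻¹ * g * c * (g⁻¹ * x⁻¹ * g)⁻¹) * g⁻¹, hmem _ hc2, ?_⟩
    simp only [MulEquiv.coe_toMonoidHom, MulAut.conj_apply]
    group
  have h3 : g * c * g⁻¹ ∈ (⊥ : Subgroup (Equiv.Perm (Fin 8))) := hbot ▸ Subgroup.mem_inf.mpr ⟨h1, h2⟩
  rw [Subgroup.mem_bot] at h3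
  apply hc1
  have : c = g⁻¹ * (g * c * g⁻¹) * g := by group
  rw [this, h3]; group

end Cfsg.Agent.S5763
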