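-- Statement S5876 (row 5876): fixed-point spaces in primitive soluble linear groups.
import Cfsg.Statements.S5876
import Cfsg.Agent.Helper97.PrimSolvable

set_option autoImplicit false
open Cfsg

namespace Cfsg.Agent.S5876

open Cfsg.Agent.Helper97

/-- Fixed-point spaces in primitive soluble linear groups. Let F be a finite field and G a soluble subgroup of GL_n(F) that acts irreducibly on F^n and primitively (G preserves no decomposition of F^n into two or more independent subspaces of equal dimension). Then every non-identity element g of G has fixed-point space {v : g v = v} of dimension at most 3n/4. -/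
theorem result {F : Type*} [Field F] [Fintype F] {n : ℕ} (G : Subgroup (Matrix.GeneralLinearGroup (Fin n) F)) (hsol : IsSolvable G) (hirr : Cfsg.Geo.ActsIrreducibly (Cfsg.Geo.matrixSet G)) (hprim : ∀ (m t : ℕ) (D : Fin t → Submodule F (Fin n → F)), 2 ≤ t → Cfsg.Geo.IsMDecomposition m D → ¬ G ≤ Cfsg.Geo.decompositionStabilizer D) (g : Matrix.GeneralLinearGroup (Fin n) F) (hg : g ∈ G) (hg1 : g ≠ 1) :
    4 * Module.finrank F (Module.End.eigenspace (Matrix.toLin' (g : Matrix (Fin n) (Fin n) F)) 1) ≤ 3 * n := by
  classical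
  have hn : n ≠ 0 := by
    rintro rfl
    apply hg1
    apply Units.ext
    exact Subsingleton.elim _ _
  haveI : NeZero n := ⟨hn⟩
  haveI : Nontrivial (Fin n → F) := inferInstance
  let φ : Matrix.GeneralLinearGroup (Fin n) F ≃* (Module.End F (Fin n → F))ˣ :=
    Matrix.GeneralLinearGroup.toLin
  let G' : Subgroup (Module.End F (Fin n → F))ˣ := G.map φ.toMonoidHom
  have hcoe : ∀ a : Matrix.GeneralLinearGroup (Fin n) F,
      ((φ a : (Module.End F (Fin n → F))ˣ) : Module.End F (Fin n → F)) =
        Matrix.toLin' (a : Matrix (Fin n) (Fin n) F) := by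
    intro a
    rw [Matrix.toLin'_apply']
    rfl
  let ψ : G ≃* G' := G.equivMapOfInjective φ.toMonoidHom φ.injective
  haveI : Finite G' := Finite.of_equiv G ψ.toEquiv
  haveI : Group.IsSolvable G := hsol
  haveI : Group.IsSolvable G' := Group.isSolvable_of_surjective (f := ψ.toMonoidHom) ψ.surjective
  have hirr' : UnitsIrreducible G' := by
    intro W hW
    apply hirr W
    rintro s ⟨a, ha, rfl⟩
    have := hW (φ a) ⟨a, ha, rfl⟩
    rwa [hcoe] at this
  have hprim' : UnitsPrimitive G' := by
    intro m t D ht hm hfin hind hsup hstab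
    apply hprim m t D ht ⟨ht, hm, hfin, hind, hsup⟩
    intro a ha
    obtain ⟨σ, hσ⟩ := hstab (φ a) ⟨a, ha, rfl⟩
    exact ⟨σ, fun i => by rw [← hcoe]; exact hσ i⟩
  have hφg : φ g ≠ 1 := by
    intro h
    apply hg1
    exact φ.injective (h.trans (map_one φ).symm)
  have := four_mul_finrank_fixed_le_of_primitive_solvable G' hirr' hprim' (φ g) ⟨g, hg, rfl⟩ hφg
  rw [hcoe, Module.finrank_fin_fun] at this
  exact this

end Cfsg.Agent.S5876
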