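import Cfsg.Statements.S5885
import Cfsg.Agent.Helper98.SecondMax

set_option autoImplicit false
open Cfsg

namespace Cfsg.Agent.S5885

open MulAction

/-- Let n be an odd positive integer such that every primitive permutation group of degree n contains the alternating group (so the symmetric and alternating groups are the only primitive groups of degree n). Let G be a finite group, M a maximal subgroup of G of index n, and H a maximal subgroup of M. Then H is a second maximal subgroup of G: H is maximal in every maximal subgroup K of G containing H. -/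
theorem result {G : Type*} [Group G]
    [Finite G] (n : ℕ) (hodd : Odd n)
    (hA : ∀ P : Subgroup (Equiv.Perm (Fin n)), MulAction.IsPreprimitive P (Fin n) → alternatingGroup (Fin n) ≤ P)
    (M : Subgroup G) (hM : IsCoatom M) (hn : M.index = n) (H : Subgroup G) (hHM : H ≤ M)
    (hmax : IsCoatom (H.subgroupOf M)) (K : Subgroup G) (hK : IsCoatom K) (hHK : H ≤ K) :
    IsCoatom (H.subgroupOf K) := by
  classical
  have hcard : Nat.card (G ⧸ M) = n := by rw [← hn, Subgroup.index_eq_card]
  have hstab : stabilizer G ((1 : G) : G ⧸ M) = M := MulAction.stabilizer_quotient M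
  let e : (G ⧸ M) ≃ Fin n := Finite.equivFinOfCardEq hcard
  let φ : G →* Equiv.Perm (Fin n) := e.permCongrHom.toMonoidHom.comp (MulAction.toPermHom G (G ⧸ M))
  have hφ : ∀ (g : G) (x : G ⧸ M), φ g (e x) = e (g • x) := by
    intro g x
    simp [φ, Equiv.permCongrHom]
  -- nontriviality of the coset space
  haveI : Nontrivial (G ⧸ M) := by
    rw [← Finite.one_lt_card_iff_nontrivial, hcard, ← hn]
    have h1 : M.index ≠ 1 := fun h => hM.1 (Subgroup.index_eq_one.mp h)
    have h0 : M.index ≠ 0 := Subgroup.index_ne_zero_of_finite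
    omega
  -- G acts primitively on the cosets
  haveI hprim : IsPreprimitive G (G ⧸ M) := by
    rw [← isCoatom_stabilizer_iff_preprimitive G ((1 : G) : G ⧸ M), hstab]
    exact hM
  -- the image in Perm (Fin n) is primitive
  have hPprim : IsPreprimitive φ.range (Fin n) := by
    let f : (G ⧸ M) →ₑ[φ.rangeRestrict] Fin n :=
      { toFun := e
        map_smul' := by
          intro g x
          show e (g • x) = (φ g) (e x)
          rw [hφ] }
    exact IsPreprimitive.of_surjective (f := f) e.surjective
  have hAlt := hA φ.range hPprim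
  -- the three-cycle hypothesis
  have h3 : ∀ a b c : G ⧸ M, a ≠ b → b ≠ c → a ≠ c →
      ∃ g : G, g • a = b ∧ g • b = c ∧ ∀ w, w ≠ a → w ≠ b → w ≠ c → g • w = w := by
    intro a b c hab hbc hac
    have hσ : (Equiv.swap (e a) (e c) * Equiv.swap (e a) (e b)) ∈ alternatingGroup (Fin n) :=
      (Equiv.Perm.isThreeCycle_swap_mul_swap_same (e.injective.ne hac) (e.injective.ne hab)
        (e.injective.ne hbc.symm)).mem_alternatingGroup
    obtain ⟨g, hg⟩ := hAlt hσ
    have key : ∀ x, g • x = e.symm ((Equiv.swap (e a) (e c) * Equiv.swap (e a) (e b)) (e x)) := by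
      intro x
      rw [← hg, hφ, Equiv.symm_apply_apply]
    refine ⟨g, ?_, ?_, ?_⟩
    · rw [key, Equiv.symm_apply_eq]
      simp [Equiv.swap_apply_of_ne_of_ne (e.injective.ne hab.symm) (e.injective.ne hbc)]
    · rw [key, Equiv.symm_apply_eq]
      simp
    · intro w hwa hwb hwc
      rw [key, Equiv.symm_apply_eq]
      simp [Equiv.swap_apply_of_ne_of_ne (e.injective.ne hwa) (e.injective.ne hwb),
        Equiv.swap_apply_of_ne_of_ne (e.injective.ne hwa) (e.injective.ne hwc)]
  have hoddΩ : Odd (Nat.card (G ⧸ M)) := hcard ▸ hodd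
  have := Helper98.second_max_of_three_cycles (G := G) (Ω := G ⧸ M) hoddΩ h3 ((1 : G) : G ⧸ M) H K
  rw [hstab] at this
  exact this hM hHM hmax hK hHK

end Cfsg.Agent.S5885
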