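import Cfsg.Statements.S5887
import Cfsg.Agent.Helper94.SubfieldC

set_option autoImplicit false
open Cfsg

namespace Cfsg.Agent.S5887

/-- Let F be a finite field, n a positive integer and r a composite number (r > 1, not prime) that divides n with r < n. Let K be a subalgebra of the algebra of n × n matrices over F which is a field of degree r over F (commutative, every non-zero element invertible, of dimension r over F). Then the normaliser N of K in GL_n(F) (a group of type ΓL_{n/r}(F_{q^r})) is not a maximal subgroup of GL_n(F), and N ∩ SL_n(F) is not a maximal subgroup of SL_n(F): both lie properly inside the normaliser of an intermediate subfield of prime degree over F. -/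
theorem result {F : Type*} [Field F]
    [Fintype F] (n r : ℕ) (hr1 : 1 < r) (hrp : ¬ r.Prime) (hrn : r ∣ n) (hlt : r < n)
    (K : Subalgebra F (Matrix (Fin n) (Fin n) F)) (hK : Cfsg.Geo.IsFieldSubalgebra r K) :
    ¬ IsCoatom (Cfsg.Geo.subalgebraNormalizer K) ∧
      ¬ Cfsg.Geo.IsMaximalIn (Cfsg.Geo.specialLinear (Fin n) F)
        (Cfsg.Geo.subalgebraNormalizer K ⊓ Cfsg.Geo.specialLinear (Fin n) F) := by
  classical
  -- a proper factorisation of `r`
  obtain ⟨s, hsdvd, hs2, hsr⟩ := Nat.exists_dvd_of_not_prime2 (by omega) hrp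
  obtain ⟨t, ht⟩ := hsdvd
  have ht1 : 1 < t := by
    by_contra hle
    push Not at hle
    have : s * t ≤ s * 1 := Nat.mul_le_mul_left s hle
    omega
  obtain ⟨d, hd⟩ := hrn
  have hd2 : 2 ≤ d := by
    by_contra hle
    push Not at hle
    have : r * d ≤ r * 1 := Nat.mul_le_mul_left r (by omega)
    omega
  have h2r : 2 * r ≤ Fintype.card (Fin n) := by
    rw [Fintype.card_fin, hd]
    have : r * 2 ≤ r * d := Nat.mul_le_mul_left r hd2
    omega
  have h3 : 3 ≤ Fintype.card (Fin n) := by omega
  haveI : Nonempty (Fin n) := Fintype.card_pos_iff.mp (by omega)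
  obtain ⟨a, θ, haS, hans, hθK, hθ⟩ :=
    Cfsg.Agent.Helper94.exists_powFixed_elements hK (q := Fintype.card F) rfl s t (by omega) ht1 ht
  obtain ⟨g₁, hg₁SL, hg₁M, hg₁N⟩ :=
    Cfsg.Agent.Helper94.exists_commuting_not_normalizing hK (q := Fintype.card F) rfl s h2r hθK hθ
  obtain ⟨g₂, hg₂SL, hg₂M⟩ :=
    Cfsg.Agent.Helper94.exists_transvection_not_mem hK h3
      (S := Cfsg.Agent.Helper94.powFixed K (Fintype.card F ^ s)) (fun x hx => hx.1) haS hans
  have hle := Cfsg.Agent.Helper94.subalgebraNormalizer_le_setNormalizer K (Fintype.card F ^ s)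
  constructor
  · intro hco
    have hlt' : Cfsg.Geo.subalgebraNormalizer K
        < Cfsg.Agent.Helper94.setNormalizer (Cfsg.Agent.Helper94.powFixed K (Fintype.card F ^ s)) := by
      rw [SetLike.lt_iff_le_and_exists]
      exact ⟨hle, g₁, hg₁M, hg₁N⟩
    have htop := hco.2 _ hlt'
    apply hg₂M
    rw [htop]
    exact Subgroup.mem_top _
  · rintro ⟨-, hmax⟩
    rcases hmax (Cfsg.Agent.Helper94.setNormalizer (Cfsg.Agent.Helper94.powFixed K (Fintype.card F ^ s))
        ⊓ Cfsg.Geo.specialLinear (Fin n) F) (inf_le_inf_right _ hle) inf_le_right with h | h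
    · apply hg₁N
      have : g₁ ∈ Cfsg.Agent.Helper94.setNormalizer (Cfsg.Agent.Helper94.powFixed K (Fintype.card F ^ s))
          ⊓ Cfsg.Geo.specialLinear (Fin n) F := ⟨hg₁M, hg₁SL⟩
      rw [h] at this
      exact this.1
    · apply hg₂M
      have : g₂ ∈ Cfsg.Geo.specialLinear (Fin n) F := hg₂SL
      rw [← h] at this
      exact this.1


end Cfsg.Agent.S5887
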