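import Cfsg.Statements.S5893
import Cfsg.Agent.Helper41.MaxEven
import Cfsg.Agent.Helper46.DkRational

set_option autoImplicit false
open Cfsg

namespace Cfsg.Agent.S5893

open Cfsg.Agent.Helper41.DkR Cfsg.Agent.Helper46.Dk

theorem charP_two_of_even {F : Type*} [Field F] [Fintype F] (heven : Even (Fintype.card F)) :
    CharP F 2 := by
  have h2 := Cfsg.Agent.Helper5.two_eq_zero_of_even_card heven
  obtain ⟨p, hp, hc⟩ := exists_char_prime F
  have : ((2 : ℕ) : F) = 0 := by exact_mod_cast h2
  have hdvd := (CharP.cast_eq_zero_iff F p 2).1 this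
  rcases (Nat.dvd_prime Nat.prime_two).1 hdvd with h | h
  · exact absurd h hp.out.one_lt.ne'
  · rw [h] at hc; exact hc

/-- an index two subgroup `⟨a⟩` of `M` gives the normality hypothesis -/
theorem conj_mem_of_index_two {G : Type*} [Group G] (M : Subgroup G) [Finite M] (a : M) (n : ℕ)
    (hn : orderOf a = n) (hn0 : n ≠ 0) (hcard : Nat.card M = 2 * n) :
    ∀ m ∈ M, m * (a : G) * m⁻¹ ∈ Subgroup.zpowers (a : G) := by
  have hidx : (Subgroup.zpowers a).index = 2 := by
    have h1 := (Subgroup.zpowers a).card_mul_index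
    rw [Nat.card_zpowers, hn, hcard] at h1
    have : n * (Subgroup.zpowers a).index = n * 2 := by rw [h1, mul_comm]
    exact Nat.eq_of_mul_eq_mul_left (Nat.pos_of_ne_zero hn0) this
  haveI : (Subgroup.zpowers a).Normal := Subgroup.normal_of_index_eq_two hidx
  intro m hm
  have h2 : (⟨m, hm⟩ : M) * a * (⟨m, hm⟩ : M)⁻¹ ∈ Subgroup.zpowers a :=
    Subgroup.Normal.conj_mem inferInstance a (Subgroup.mem_zpowers a) _
  obtain ⟨i, hi⟩ := Subgroup.mem_zpowers_iff.1 h2
  rw [Subgroup.mem_zpowers_iff]
  refine ⟨i, ?_⟩
  have := congrArg Subtype.val hi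
  simpa using this

set_option maxHeartbeats 800000 in
/-- Let F be a finite field of even order q ≥ 4 and let M be a maximal subgroup of PSL₂(F) (= SL₂(F) = PGL₂(F)). Then one of the following holds: |M| = q(q − 1) (the stabiliser of a point of the projective line, elementary abelian of order q extended by a cyclic group of order q − 1); M is dihedral of order 2(q − 1); M is dihedral of order 2(q + 1); or q = q₀^r for a prime r with q₀ ≠ 2 and M ≅ PSL₂(F₀) with |F₀| = q₀. -/
theorem result {F : Type*} [Field F] [Fintype F]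
    (heven : Even (Fintype.card F)) (h4 : 4 ≤ Fintype.card F) (M : Subgroup (Matrix.ProjectiveSpecialLinearGroup (Fin 2) F)) (hM : IsCoatom M) :
    Nat.card M = Fintype.card F * (Fintype.card F - 1) ∨
    Nonempty (M ≃* DihedralGroup (Fintype.card F - 1)) ∨
    Nonempty (M ≃* DihedralGroup (Fintype.card F + 1)) ∨
    (∃ (F₀ : Type) (_ : Field F₀) (_ : Fintype F₀) (r : ℕ), r.Prime ∧ Fintype.card F₀ ≠ 2 ∧
        Fintype.card F = Fintype.card F₀ ^ r ∧ Nonempty (M ≃* Matrix.ProjectiveSpecialLinearGroup (Fin 2) F₀)) := by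
  classical
  haveI := charP_two_of_even heven
  have h12 := twelve_le h4
  -- the dihedral conclusion from a normal cyclic subgroup of index two
  have hdih : ∀ (a : M) (n : ℕ), orderOf a = n → 3 ≤ n → Odd n → Nat.card M = 2 * n →
      Nonempty (M ≃* DihedralGroup (Fintype.card F - 1)) ∨
        Nonempty (M ≃* DihedralGroup (Fintype.card F + 1)) := by
    intro a n hn hn3 hodd hcard
    have hnorm := conj_mem_of_index_two M a n hn (by omega) hcard
    have hn' : orderOf (a : Matrix.ProjectiveSpecialLinearGroup (Fin 2) F) = n := by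
      rw [Subgroup.orderOf_coe, hn]
    obtain ⟨hq, ⟨e⟩⟩ := dihedral_of_coatom h4 M hM a a.2 n hn' hn3 hodd hnorm hcard
    rcases hq with h | h
    · left; rw [← h]; exact ⟨e⟩
    · right; rw [← h]; exact ⟨e⟩
  rcases dickson_list_char_two M with hc | ⟨n, a, hn, hn2, ⟨e⟩⟩ | hB | hfr
  · exact absurd hc (fun h => not_isCyclic_of_coatom h4 M hM h)
  · -- dihedral
    have hcard : Nat.card M = 2 * n := by
      rw [Nat.card_congr e.toEquiv, DihedralGroup.nat_card]
    have hodd : Odd n := Nat.not_even_iff_odd.1 (fun h => hn2 (even_iff_two_dvd.1 h))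
    by_cases h1 : n = 1
    · exfalso
      have hp : IsPGroup 2 M := IsPGroup.of_card (n := 1) (by rw [hcard, h1, pow_one])
      have := card_of_isPGroup_of_coatom M hM hp
      omega
    · have hn3 : 3 ≤ n := by
        obtain ⟨t, ht⟩ := hodd
        omega
      right
      rcases hdih a n hn hn3 hodd hcard with h | h
      · exact Or.inl h
      · exact Or.inr (Or.inl h)
  · left
    exact card_of_borelType M hM hB
  · -- subfield type
    obtain ⟨K, j, r, hKcard, hj0, hr, hq, ⟨e⟩⟩ := subfield_maximal_char_two M hM hfr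
    haveI : Finite K := Nat.finite_of_card_ne_zero (by rw [hKcard]; positivity)
    haveI : Fintype K := Fintype.ofFinite K
    have hKcard' : Fintype.card K = 2 ^ j := by rw [← Nat.card_eq_fintype_card, hKcard]
    have hKeven : Even (Fintype.card K) := by
      rw [hKcard']; exact (Nat.even_pow.2 ⟨even_two, hj0⟩)
    have hMcard : Nat.card M = Fintype.card K * (Fintype.card K ^ 2 - 1) := by
      rw [Nat.card_congr e.toEquiv, Cfsg.Agent.Helper41.card_PSL2_of_even hKeven]
    by_cases hj1 : j = 1
    · -- `K` has two elements: `M` has order six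
      right
      rw [hKcard', hj1] at hMcard
      have hM6 : Nat.card M = 2 * 3 := by rw [hMcard]; norm_num
      haveI : Fact (Nat.Prime 3) := ⟨Nat.prime_three⟩
      obtain ⟨a, ha⟩ := exists_prime_orderOf_dvd_card' (G := M) 3 (by rw [hM6]; norm_num)
      rcases hdih a 3 ha (le_refl 3) (by decide) hM6 with h | h
      · exact Or.inl h
      · exact Or.inr (Or.inl h)
    · right; right; right
      letI : Fintype (Shrink.{0} K) := Fintype.ofEquiv K (equivShrink.{0} K)
      have hcard' : Fintype.card (Shrink.{0} K) = Fintype.card K :=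
        Fintype.card_congr (equivShrink.{0} K).symm
      let e' : K ≃+* Shrink.{0} K := (Shrink.ringEquiv.{0} K).symm
      obtain ⟨e2⟩ := Cfsg.Agent.Helper46.nonempty_psl_congr e'
      refine ⟨Shrink.{0} K, inferInstance, inferInstance, r, hr, ?_, ?_, ⟨e.trans e2⟩⟩
      · rw [hcard', hKcard']
        intro h
        have : j = 1 := Nat.pow_right_injective (le_refl 2) (show 2 ^ j = 2 ^ 1 by rw [h, pow_one])
        exact hj1 this
      · rw [hcard', hKcard', hq, pow_mul]

end Cfsg.Agent.S5893
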