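import Cfsg.Statements.S5904

set_option autoImplicit false
open Cfsg

namespace Cfsg.Agent.S5904

open scoped Pointwise

/-- The stabilizer of the unordered pair `{O, Oᶜ}`. -/
def pairStab {Ω : Type*} (O : Set Ω) : Subgroup (Equiv.Perm Ω) where
  carrier := {g | g • O = O ∨ g • O = Oᶜ}
  one_mem' := Or.inl (one_smul _ _)
  mul_mem' := by
    rintro a b (ha | ha) (hb | hb)
    · left; rw [mul_smul, hb, ha]
    · right; rw [mul_smul, hb, Set.smul_set_compl, ha]
    · right; rw [mul_smul, hb, ha]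
    · left; rw [mul_smul, hb, Set.smul_set_compl, ha, compl_compl]
  inv_mem' := by
    rintro a (ha | ha)
    · left
      rw [inv_smul_eq_iff, ha]
    · right
      rw [inv_smul_eq_iff, Set.smul_set_compl, ha, compl_compl]

/-- Let Ω be a finite set with more than two elements and O ⊆ Ω a subset with exactly as many elements as its complement. Then the setwise stabilizer of O in the symmetric group on Ω is not a maximal subgroup (it is properly contained in the stabilizer of the partition {O, Ω ∖ O}, which is proper). -/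
theorem result {Ω : Type*} [Fintype Ω] [DecidableEq Ω] (hΩ : 2 < Fintype.card Ω)
    (O : Set Ω) (hO : Nat.card O = Nat.card ↥Oᶜ) :
    ¬ IsCoatom (MulAction.stabilizer (Equiv.Perm Ω) O) := by
  classical
  intro hco
  -- cardinalities
  have hsum : Nat.card O + Nat.card ↥Oᶜ = Fintype.card Ω := by
    rw [Nat.card_coe_set_eq, Nat.card_coe_set_eq, Set.ncard_add_ncard_compl, Nat.card_eq_fintype_card]
  have hO2 : 2 ≤ Nat.card O := by omega
  have hOc1 : 1 ≤ Nat.card ↥Oᶜ := by omega
  -- two distinct points in O, one point outside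
  rw [Nat.card_coe_set_eq] at hO2 hOc1
  obtain ⟨x, hx, x', hx', hxx'⟩ := (Set.one_lt_ncard (Set.toFinite O)).mp hO2
  obtain ⟨y, hy⟩ := (Set.ncard_pos (Set.toFinite Oᶜ)).mp hOc1
  -- S ≤ T
  have hle : MulAction.stabilizer (Equiv.Perm Ω) O ≤ pairStab O := fun g hg => Or.inl hg
  -- an element swapping O and Oᶜ
  obtain ⟨e⟩ := (Finite.card_eq (α := O) (β := ↥Oᶜ)).mp hO
  let f : Ω → Ω := fun z => if h : z ∈ O then (e ⟨z, h⟩ : Ω) else (e.symm ⟨z, h⟩ : Ω)
  have hfO : ∀ z, z ∈ O → f z ∉ O := by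
    intro z hz
    simp only [f, dif_pos hz]
    exact (e ⟨z, hz⟩).2
  have hfOc : ∀ z, z ∉ O → f z ∈ O := by
    intro z hz
    simp only [f, dif_neg hz]
    exact (e.symm ⟨z, hz⟩).2
  have hf : Function.Involutive f := by
    intro z
    by_cases hz : z ∈ O
    · have h1 : f z ∉ O := hfO z hz
      have e1 : f z = (e ⟨z, hz⟩ : Ω) := by simp only [f, dif_pos hz]
      have e2 : f (f z) = (e.symm ⟨f z, h1⟩ : Ω) := by
        show (if h : f z ∈ O then (e ⟨f z, h⟩ : Ω) else (e.symm ⟨f z, h⟩ : Ω)) = _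
        rw [dif_neg h1]
      rw [e2]
      have : (⟨f z, h1⟩ : ↥Oᶜ) = e ⟨z, hz⟩ := Subtype.ext e1
      rw [this, Equiv.symm_apply_apply]
    · have h1 : f z ∈ O := hfOc z hz
      have e1 : f z = (e.symm ⟨z, hz⟩ : Ω) := by simp only [f, dif_neg hz]
      have e2 : f (f z) = (e ⟨f z, h1⟩ : Ω) := by
        show (if h : f z ∈ O then (e ⟨f z, h⟩ : Ω) else (e.symm ⟨f z, h⟩ : Ω)) = _
        rw [dif_pos h1]
      rw [e2]
      have : (⟨f z, h1⟩ : ↥O) = e.symm ⟨z, hz⟩ := Subtype.ext e1
      rw [this, Equiv.apply_symm_apply]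
  let g : Equiv.Perm Ω := hf.toPerm
  have hgO : g • O = Oᶜ := by
    ext z
    constructor
    · rintro ⟨w, hw, rfl⟩
      exact hfO w hw
    · intro hz
      exact ⟨f z, hfOc z hz, hf z⟩
  have hgT : g ∈ pairStab O := Or.inr hgO
  have hgS : g ∉ MulAction.stabilizer (Equiv.Perm Ω) O := by
    intro h
    have h' : g • O = O := h
    rw [hgO] at h'
    have : x ∈ Oᶜ := by rw [h']; exact hx
    exact this hx
  have hlt : MulAction.stabilizer (Equiv.Perm Ω) O < pairStab O :=
    lt_of_le_of_ne hle (fun h => hgS (h ▸ hgT))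
  have htop := hco.2 _ hlt
  -- but swap x y is not in T
  have hxy : x ≠ y := fun h => hy (h ▸ hx)
  have hx'y : x' ≠ y := fun h => hy (h ▸ hx')
  have hmem : Equiv.swap x y ∈ pairStab O := htop ▸ Subgroup.mem_top _
  rcases hmem with h | h
  · have : y ∈ Equiv.swap x y • O := ⟨x, hx, Equiv.swap_apply_left x y⟩
    rw [h] at this
    exact hy this
  · have : x' ∈ Equiv.swap x y • O := ⟨x', hx', Equiv.swap_apply_of_ne_of_ne hxx'.symm hx'y⟩
    rw [h] at this
    exact this hx'

end Cfsg.Agent.S5904
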