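import Cfsg.Statements.S5894
import Cfsg.Agent.Helper98.Maximal
import Cfsg.Agent.S5904

set_option autoImplicit false
open Cfsg

namespace Cfsg.Agent.S5894

open MulAction Equiv
open scoped Pointwise

/-- For every m ≥ 2 the symmetric group on 2m letters has a maximal subgroup M of index 2m together with a maximal subgroup H of M that is not second maximal: some maximal subgroup K of the symmetric group contains H without H being maximal in K. (One may take M the stabiliser of a letter, H ≅ S_m × S_{m−1} inside it, and K ≅ S_m ≀ S₂ the stabiliser of a partition into two m-sets, with H < S_m × S_m < K.) So the prime-index hypothesis in the second-maximality criterion cannot be relaxed to any even index ≥ 4. -/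
theorem result (m : ℕ) (hm : 2 ≤ m) :
    ∃ M H K : Subgroup (Equiv.Perm (Fin (2 * m))), IsCoatom M ∧ M.index = 2 * m ∧ H ≤ M ∧ IsCoatom (H.subgroupOf M) ∧
      IsCoatom K ∧ H ≤ K ∧ ¬ IsCoatom (H.subgroupOf K) := by
  classical
  -- the data
  let α : Fin (2 * m) := ⟨2 * m - 1, by omega⟩
  let β : Fin (2 * m) := ⟨m, by omega⟩
  let γ : Fin (2 * m) := ⟨0, by omega⟩
  let O : Set (Fin (2 * m)) := {x | x.val < m}
  have hαO : α ∉ O := by
    show ¬ (2 * m - 1 < m); omega
  have hβO : β ∉ O := by
    show ¬ (m < m); omega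
  have hγO : γ ∈ O := by
    show 0 < m; omega
  have hαβ : α ≠ β := by
    intro h
    have := congrArg Fin.val h
    simp only [α, β] at this
    omega
  -- cardinalities
  have hcardO : Nat.card O = m := by
    have e : O ≃ Fin m :=
      { toFun := fun x => ⟨x.1.val, x.2⟩
        invFun := fun i => ⟨⟨i.val, by omega⟩, i.2⟩
        left_inv := fun x => by ext; rfl
        right_inv := fun i => by ext; rfl }
    rw [Nat.card_congr e, Nat.card_eq_fintype_card, Fintype.card_fin]
  have hsum : Nat.card O + Nat.card ↥Oᶜ = 2 * m := by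
    rw [Nat.card_coe_set_eq, Nat.card_coe_set_eq, Set.ncard_add_ncard_compl, Nat.card_eq_fintype_card,
      Fintype.card_fin]
  have hcardOc : Nat.card ↥Oᶜ = m := by omega
  -- the point stabilizer
  let M : Subgroup (Perm (Fin (2 * m))) := stabilizer (Perm (Fin (2 * m))) α
  have hMco : IsCoatom M := by
    have := Equiv.Perm.isCoatom_stabilizer (α := Fin (2 * m)) (s := {α}) (Set.singleton_nonempty α)
      ⟨β, fun h => hαβ (Set.mem_singleton_iff.mp h).symm⟩
      (by rw [Set.ncard_singleton, Nat.card_eq_fintype_card, Fintype.card_fin]; omega)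
    rwa [stabilizer_singleton] at this
  have hMidx : M.index = 2 * m := by
    show (stabilizer (Perm (Fin (2 * m))) α).index = 2 * m
    rw [index_stabilizer_of_transitive, Nat.card_eq_fintype_card, Fintype.card_fin]
  -- the embedding of the symmetric group on the other points
  let p : Fin (2 * m) → Prop := fun x => x ≠ α
  let ι : Perm (Subtype p) →* Perm (Fin (2 * m)) := Perm.ofSubtype
  have hι : Function.Injective ι := Perm.ofSubtype_injective
  have hrange : ι.range = M := by
    ext f
    constructor
    · rintro ⟨σ, rfl⟩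
      show (Perm.ofSubtype σ) α = α
      exact Perm.ofSubtype_apply_of_not_mem σ (fun h : α ≠ α => h rfl)
    · intro hf
      have hfα : f α = α := hf
      have h₁ : ∀ x, p (f x) ↔ p x := by
        intro x
        show f x ≠ α ↔ x ≠ α
        rw [not_iff_not]
        constructor
        · intro h
          apply f.injective
          rw [h, hfα]
        · intro h
          rw [h, hfα]
      have h₂ : ∀ x, f x ≠ x → p x := by
        intro x hx hxα
        apply hx
        rw [hxα, hfα]
      exact ⟨Perm.subtypePerm f h₁, Perm.ofSubtype_subtypePerm h₁ h₂⟩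
  -- the m-subset of the remaining points
  let O' : Set (Subtype p) := {x | x.1.val < m}
  have hcardsub : Nat.card (Subtype p) + 1 = 2 * m := by
    rw [Nat.card_eq_fintype_card, Fintype.card_subtype_compl, Fintype.card_fin,
      Fintype.card_subtype_eq]
    omega
  have hco' : IsCoatom (stabilizer (Perm (Subtype p)) O') := by
    apply Equiv.Perm.isCoatom_stabilizer
    · exact ⟨⟨γ, fun h => hαO (h ▸ hγO)⟩, hγO⟩
    · exact ⟨⟨β, fun h => hαβ h.symm⟩, hβO⟩
    · omega
  let H : Subgroup (Perm (Fin (2 * m))) := (stabilizer (Perm (Subtype p)) O').map ι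
  have hHM : H ≤ M := hrange ▸ Subgroup.map_le_range ι _
  have hHmax : IsCoatom (H.subgroupOf M) := by
    have := Helper98.isCoatom_map_subgroupOf_range ι hι _ hco'
    rw [hrange] at this
    exact this
  -- the stabilizer of O
  let S : Subgroup (Perm (Fin (2 * m))) := stabilizer (Perm (Fin (2 * m))) O
  have hHS : H ≤ S := by
    rintro _ ⟨σ, hσ, rfl⟩
    show ι σ ∈ stabilizer (Perm (Fin (2 * m))) O
    rw [mem_stabilizer_set_iff_smul_set_subset (Set.toFinite O)]
    rintro _ ⟨x, hx, rfl⟩
    have hxα : x ≠ α := fun h => hαO (h ▸ hx)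
    have hσ' : σ • O' = O' := hσ
    have h1 : σ ⟨x, hxα⟩ ∈ O' := by
      rw [← hσ']
      exact ⟨⟨x, hxα⟩, hx, rfl⟩
    show (Perm.ofSubtype σ) x ∈ O
    rw [Perm.ofSubtype_apply_of_mem σ hxα]
    exact h1
  have hSnotco : ¬ IsCoatom S :=
    S5904.result (Ω := Fin (2 * m)) (by rw [Fintype.card_fin]; omega) O (by rw [hcardO, hcardOc])
  have hSαβ : swap α β ∈ S := by
    show swap α β ∈ stabilizer (Perm (Fin (2 * m))) O
    rw [mem_stabilizer_set_iff_smul_set_subset (Set.toFinite O)]
    rintro _ ⟨x, hx, rfl⟩
    have hxα : x ≠ α := fun h => hαO (h ▸ hx)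
    have hxβ : x ≠ β := fun h => hβO (h ▸ hx)
    show swap α β x ∈ O
    rw [swap_apply_of_ne_of_ne hxα hxβ]
    exact hx
  have hSne : S ≠ ⊤ := by
    intro h
    have h1 : swap β γ ∈ S := h ▸ Subgroup.mem_top _
    have h2 : swap β γ • O = O := h1
    have : β ∈ swap β γ • O := ⟨γ, hγO, swap_apply_right β γ⟩
    rw [h2] at this
    exact hβO this
  obtain ⟨K, hK, hSK⟩ := (eq_top_or_exists_le_coatom S).resolve_left hSne
  refine ⟨M, H, K, hMco, hMidx, hHM, hHmax, hK, hHS.trans hSK, ?_⟩
  rw [Helper98.isCoatom_subgroupOf_iff (hHS.trans hSK)]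
  rintro ⟨-, hmax⟩
  rcases hmax S hHS hSK with h | h
  · -- S = H would force swap α β ∈ M
    have h1 : swap α β ∈ M := hHM (h ▸ hSαβ)
    have h2 : swap α β α = α := h1
    rw [swap_apply_left] at h2
    exact hαβ h2.symm
  · exact hSnotco (h ▸ hK)

end Cfsg.Agent.S5894
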