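import Cfsg.Statements.S5895
import Cfsg.Agent.Helper98.Affine

set_option autoImplicit false
open Cfsg

namespace Cfsg.Agent.S5895

open Helper98 MulAction
open scoped LinearAlgebra.Projectivization

/-- For every prime p and every d ≥ 2 there is a finite group G with a maximal subgroup M of index p^d and a maximal subgroup H of M that is not second maximal in G: some maximal subgroup K of G contains H without H being maximal in K. (One may take G the affine group V ⋊ GL(V) of V = 𝔽_p^d, M = GL(V), H the stabiliser in M of a line W of V, and K = V ⋊ H, with H < W ⋊ H < K.) So the prime-index hypothesis in the second-maximality criterion cannot be relaxed to prime-power index. -/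
theorem result (p d : ℕ) (hp : p.Prime)
    (hd : 2 ≤ d) :
    ∃ (G : Type) (_ : Group G) (_ : Finite G) (M H K : Subgroup G), IsCoatom M ∧ M.index = p ^ d ∧ H ≤ M ∧
      IsCoatom (H.subgroupOf M) ∧ IsCoatom K ∧ H ≤ K ∧ ¬ IsCoatom (H.subgroupOf K) := by
  classical
  haveI : Fact p.Prime := ⟨hp⟩
  let F := ZMod p
  let V := Vec p d
  let G := V ≃ᵃ[F] V
  let G₀ := V ≃ₗ[F] V
  haveI hfin : Finite G := Finite.of_injective (fun g : G => (g : V → V)) (fun a b h => AffineEquiv.coeFn_injective h)
  let φ : G₀ →* G := linToAff p d
  let lam : G →* G₀ := AffineEquiv.linearHom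
  -- basis vectors
  let i0 : Fin d := ⟨0, by omega⟩
  let i1 : Fin d := ⟨1, by omega⟩
  have hi01 : i0 ≠ i1 := by
    intro h
    have := congrArg Fin.val h
    simp [i0, i1] at this
  let v : V := Pi.single i0 1
  let u : V := Pi.single i1 1
  have hv : v ≠ 0 := by
    intro h
    have h1 : v i0 = (0 : V) i0 := congrFun h i0
    rw [show v i0 = 1 from Pi.single_eq_same i0 1, Pi.zero_apply] at h1
    exact one_ne_zero h1
  have hu : u ≠ 0 := by
    intro h
    have h1 : u i1 = (0 : V) i1 := congrFun h i1
    rw [show u i1 = 1 from Pi.single_eq_same i1 1, Pi.zero_apply] at h1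
    exact one_ne_zero h1
  let W : Submodule F V := Submodule.span F {v}
  have hvW : v ∈ W := Submodule.mem_span_singleton_self v
  have huW : u ∉ W := by
    intro h
    obtain ⟨t, ht⟩ := Submodule.mem_span_singleton.mp h
    have h1 : (t • v) i1 = u i1 := congrFun ht i1
    rw [Pi.smul_apply, show v i1 = 0 from Pi.single_eq_of_ne hi01.symm 1,
      show u i1 = 1 from Pi.single_eq_same i1 1, smul_zero] at h1
    exact zero_ne_one h1
  -- the point of projective space
  let l : ℙ F V := Projectivization.mk F v hv
  haveI : Nontrivial (ℙ F V) := by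
    refine ⟨⟨l, Projectivization.mk F u hu, ?_⟩⟩
    intro h
    rw [Projectivization.mk_eq_mk_iff] at h
    obtain ⟨a, ha⟩ := h
    apply huW
    rw [Submodule.mem_span_singleton]
    refine ⟨((a⁻¹ : Fˣ) : F), ?_⟩
    rw [← ha]
    simp [Units.smul_def, smul_smul]
  haveI hprim : IsPreprimitive G₀ (ℙ F V) :=
    isPreprimitive_of_is_two_pretransitive (Projectivization.linearEquiv_is_two_pretransitive F V)
  haveI : IsPretransitive G₀ (ℙ F V) := hprim.toIsPretransitive
  let C : Subgroup G₀ := stabilizer G₀ l
  have hCco : IsCoatom C := (isCoatom_stabilizer_iff_preprimitive G₀ l).mpr hprim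
  -- elements of C preserve W
  have hCW : ∀ c ∈ C, ∀ x ∈ W, c x ∈ W := by
    intro c hc x hx
    have h1 : c • l = l := hc
    rw [Projectivization.smul_mk, Projectivization.mk_eq_mk_iff] at h1
    obtain ⟨a, ha⟩ := h1
    obtain ⟨t, rfl⟩ := Submodule.mem_span_singleton.mp hx
    rw [map_smul]
    apply W.smul_mem
    have : c v = ((a : Fˣ) : F) • v := by
      have h2 : c • v = c v := rfl
      rw [← h2, ← ha]
      simp [Units.smul_def]
    rw [this]
    exact W.smul_mem _ hvW
  -- the subgroups
  let M : Subgroup G := φ.range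
  let H : Subgroup G := C.map φ
  let K : Subgroup G := C.comap lam
  have hMmem : ∀ g : G, g ∈ M ↔ g 0 = 0 := mem_range_linToAff p d
  -- transitivity of linear maps on nonzero vectors
  have htrans : ∀ w y : V, w ≠ 0 → y ≠ 0 → ∃ c : G₀, c w = y := by
    intro w y hw hy
    obtain ⟨c₁, hc₁⟩ := exists_smul_eq G₀ (Projectivization.mk F w hw) (Projectivization.mk F y hy)
    rw [Projectivization.smul_mk, Projectivization.mk_eq_mk_iff] at hc₁
    obtain ⟨a, ha⟩ := hc₁
    refine ⟨LinearEquiv.smulOfUnit a⁻¹ * c₁, ?_⟩
    have h2 : c₁ • w = c₁ w := rfl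
    show a⁻¹ • c₁ w = y
    rw [← h2, ← ha]
    simp [Units.smul_def, smul_smul]
  -- M is maximal
  have hMco : IsCoatom M := by
    constructor
    · intro h
      have : AffineEquiv.constVAdd F V v ∈ M := h ▸ Subgroup.mem_top _
      rw [hMmem, AffineEquiv.constVAdd_apply, vadd_eq_add, add_zero] at this
      exact hv this
    · intro L hL
      obtain ⟨g, hgL, hgM⟩ : ∃ g, g ∈ L ∧ g ∉ M := by
        by_contra hcon
        push Not at hcon
        exact lt_irrefl _ (lt_of_lt_of_le hL hcon)
      rw [hMmem] at hgM
      rw [eq_top_iff]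
      intro h _
      by_cases hh0 : h 0 = 0
      · exact hL.le ((hMmem h).mpr hh0)
      · obtain ⟨c, hc⟩ := htrans (g 0) (h 0) hgM hh0
        have hk : (φ c * g)⁻¹ * h ∈ M := by
          rw [hMmem]
          show (φ c * g).symm (h 0) = 0
          rw [AffineEquiv.symm_apply_eq]
          show h 0 = c (g 0)
          rw [hc]
        have hφcL : φ c ∈ L := hL.le ⟨c, rfl⟩
        have : h = (φ c * g) * ((φ c * g)⁻¹ * h) := by group
        rw [this]
        exact L.mul_mem (L.mul_mem hφcL hgL) (hL.le hk)
  -- the index of M
  have hMidx : M.index = p ^ d := by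
    letI : MulAction G V :=
      { smul := fun g x => g x
        one_smul := fun x => rfl
        mul_smul := fun g h x => rfl }
    haveI : IsPretransitive G V := by
      refine ⟨fun x y => ⟨AffineEquiv.constVAdd F V (y - x), ?_⟩⟩
      show (y - x) +ᵥ x = y
      simp
    have hstab : stabilizer G (0 : V) = M := by
      ext g
      rw [hMmem]
      rfl
    rw [← hstab, index_stabilizer_of_transitive, Nat.card_fun, Nat.card_zmod, Nat.card_fin]
  have hHM : H ≤ M := Subgroup.map_le_range φ C
  have hHmax : IsCoatom (H.subgroupOf M) :=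
    isCoatom_map_subgroupOf_range φ (linToAff_injective p d) C hCco
  have hKco : IsCoatom K := isCoatom_comap_of_surjective lam (linearHom_surjective p d) C hCco
  have hHK : H ≤ K := by
    rintro _ ⟨c, hc, rfl⟩
    exact hc
  -- the stabilizer of the line W as a set
  let L : Subgroup G :=
    { carrier := {g | ∀ x, x ∈ W ↔ g x ∈ W}
      one_mem' := fun x => Iff.rfl
      mul_mem' := by
        intro a b ha hb x
        exact (hb x).trans (ha (b x))
      inv_mem' := by
        intro a ha x
        have := ha (a⁻¹ x)
        rw [this]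
        show x ∈ W ↔ a (a.symm x) ∈ W
        rw [AffineEquiv.apply_symm_apply] }
  have hHL : H ≤ L := by
    rintro _ ⟨c, hc, rfl⟩ x
    constructor
    · exact hCW c hc x
    · intro hx
      have := hCW c⁻¹ (C.inv_mem hc) _ hx
      have h2 : c⁻¹ (c x) = x := c.symm_apply_apply x
      show x ∈ W
      rw [← h2]
      exact this
  have hLK : L ≤ K := by
    intro g hg
    show lam g ∈ stabilizer G₀ l
    rw [mem_stabilizer_iff]
    show g.linear • l = l
    rw [Projectivization.smul_mk, Projectivization.mk_eq_mk_iff]
    have h0 : g 0 ∈ W := (hg 0).mp W.zero_mem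
    have h1 : g v ∈ W := (hg v).mp hvW
    have h2 : g.linear v ∈ W := by
      have := apply_eq_linear_add p d g v
      have h3 : g.linear v = g v - g 0 := by rw [this]; abel
      rw [h3]
      exact W.sub_mem h1 h0
    obtain ⟨t, ht⟩ := Submodule.mem_span_singleton.mp h2
    have ht0 : t ≠ 0 := by
      intro h
      rw [h, zero_smul] at ht
      have : g.linear v = g.linear 0 := by rw [← ht, map_zero]
      exact hv (g.linear.injective this)
    refine ⟨Units.mk0 t ht0, ?_⟩
    have h4 : g.linear • v = g.linear v := rfl
    rw [h4, ← ht]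
    simp [Units.smul_def]
  have hHneL : L ≠ H := by
    intro h
    have hmem : AffineEquiv.constVAdd F V v ∈ L := by
      intro x
      show x ∈ W ↔ v +ᵥ x ∈ W
      rw [vadd_eq_add]
      constructor
      · intro hx; exact W.add_mem hvW hx
      · intro hx
        have := W.sub_mem hx hvW
        simpa using this
    rw [h] at hmem
    have := (hMmem _).mp (hHM hmem)
    rw [AffineEquiv.constVAdd_apply, vadd_eq_add, add_zero] at this
    exact hv this
  have hLneK : L ≠ K := by
    intro h
    have hmem : AffineEquiv.constVAdd F V u ∈ K := by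
      show lam (AffineEquiv.constVAdd F V u) ∈ C
      have : lam (AffineEquiv.constVAdd F V u) = 1 := rfl
      rw [this]
      exact C.one_mem
    rw [← h] at hmem
    have := (hmem 0).mp W.zero_mem
    rw [AffineEquiv.constVAdd_apply, vadd_eq_add, add_zero] at this
    exact huW this
  refine ⟨G, inferInstance, hfin, M, H, K, hMco, hMidx, hHM, hHmax, hKco, hHK, ?_⟩
  rw [isCoatom_subgroupOf_iff hHK]
  rintro ⟨-, hmax⟩
  rcases hmax L hHL hLK with h | h
  · exact hHneL h
  · exact hLneK h

end Cfsg.Agent.S5895
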