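import Cfsg.Statements.S5896
import Cfsg.Agent.Helper60.Tower

set_option autoImplicit false
open Cfsg

namespace Cfsg.Agent.S5896

open Cfsg.Agent.Helper60.Tower in
theorem step {G : Type} [Group G] [Finite G] (H : Subgroup G) (perf : commutator G = ⊤)
    (hco : IsCoatom H) (hsol : Group.IsSolvable H) (d : ℕ) (hd : derivedSeries H d ≠ ⊥) :
    ∃ (G' : Type) (_ : Group G') (_ : Finite G') (H' : Subgroup G'), commutator G' = ⊤ ∧
      IsCoatom H' ∧ Group.IsSolvable H' ∧ derivedSeries H' (d + 1) ≠ ⊥ := by
  classical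
  have := Fintype.ofFinite G
  obtain ⟨p, hp1, hp⟩ := Nat.exists_infinite_primes (Fintype.card G + 3)
  have : Fact p.Prime := ⟨hp⟩
  have hpG : ¬ p ∣ Fintype.card G :=
    Nat.not_dvd_of_pos_of_lt Fintype.card_pos (by omega)
  have hp2 : p ≠ 2 := by omega
  refine ⟨TExt G (SumZero G p), inferInstance, ?_, TH (SumZero G p) H,
    ext_perfect perf (hVG hpG), th_coatom hco, th_solvable, th_derived d hd (hquad hpG hp2)⟩
  exact Finite.of_equiv _ SemidirectProduct.equivProd.symm

/-- Finite perfect groups have solvable maximal subgroups of unbounded derived length: for every d there is a finite perfect group G (equal to its commutator subgroup) with a solvable maximal subgroup H whose derived length exceeds d, i.e. the d-th term of the derived series of H is non-trivial. (Take the derived subgroup of a wreath product S ≀ A₅ with S solvable of large derived length, and H the preimage of a maximal subgroup of A₅.) -/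
theorem result (d : ℕ) :
    ∃ (G : Type) (_ : Group G) (_ : Finite G) (H : Subgroup G), commutator G = ⊤ ∧ IsCoatom H ∧ Group.IsSolvable H ∧
      derivedSeries H d ≠ ⊥ := by
  induction d with
  | zero =>
    refine ⟨Cfsg.Agent.Helper60.Tower.A5, inferInstance, inferInstance,
      Cfsg.Agent.Helper60.Tower.H0, Cfsg.Agent.Helper60.Tower.a5_perfect,
      Cfsg.Agent.Helper60.Tower.h0_coatom, Cfsg.Agent.Helper60.Tower.h0_solvable, ?_⟩
    rw [derivedSeries_zero]
    intro h
    let σ : Equiv.Perm (Fin 5) := Equiv.swap 1 2 * Equiv.swap 2 3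
    have hσ : σ ∈ alternatingGroup (Fin 5) := by
      rw [Equiv.Perm.mem_alternatingGroup]; decide
    have hσ0 : (⟨σ, hσ⟩ : Cfsg.Agent.Helper60.Tower.A5) ∈ Cfsg.Agent.Helper60.Tower.H0 := by
      rw [MulAction.mem_stabilizer_iff]
      show σ 0 = 0
      decide
    have h2 : (⟨⟨σ, hσ⟩, hσ0⟩ : ↥Cfsg.Agent.Helper60.Tower.H0) ∈
        (⊤ : Subgroup ↥Cfsg.Agent.Helper60.Tower.H0) := Subgroup.mem_top _
    rw [h, Subgroup.mem_bot] at h2
    have h3 : σ = 1 := congrArg (fun x : ↥Cfsg.Agent.Helper60.Tower.H0 => (x.1.1 : Equiv.Perm (Fin 5))) h2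
    revert h3
    decide
  | succ d ih =>
    obtain ⟨G, hG, hF, H, h1, h2, h3, h4⟩ := ih
    exact step H h1 h2 h3 d h4

end Cfsg.Agent.S5896
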