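import Cfsg.Statements.S5902
import Cfsg.Agent.S5901

set_option autoImplicit false
open Cfsg

namespace Cfsg.Agent.S5902

/-- Complements in `Subgroup X` give relative complements below `X`. -/
theorem interval_of_complemented {G : Type*} [Group G] (X : Subgroup G)
    (hK : ComplementedLattice (Subgroup X)) (Y : Subgroup G) (hYX : Y ≤ X) :
    ∃ C : Subgroup G, ⊥ ≤ C ∧ C ≤ X ∧ Y ⊔ C = X ∧ Y ⊓ C = ⊥ := by
  obtain ⟨C', hC'⟩ := hK.exists_isCompl (Y.subgroupOf X)
  refine ⟨C'.map X.subtype, bot_le, Subgroup.map_subtype_le C', ?_, ?_⟩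
  · have h := hC'.sup_eq_top
    have h2 := congrArg (Subgroup.map X.subtype) h
    rw [Subgroup.map_sup, Subgroup.map_subgroupOf_eq_of_le hYX, ← MonoidHom.range_eq_map,
      Subgroup.range_subtype] at h2
    exact h2
  · have h := hC'.inf_eq_bot
    have h2 := congrArg (Subgroup.map X.subtype) h
    rw [Subgroup.map_inf _ _ _ X.subtype_injective, Subgroup.map_subgroupOf_eq_of_le hYX,
      Subgroup.map_bot] at h2
    exact h2

/-- The first part, for all `H` not in the core. -/
theorem part_one {G : Type*} [Group G] [Finite G] (X M : Subgroup G)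
    (hK : ComplementedLattice (Subgroup X))
    (hM : IsCoatom M) (hXM : X ≤ M) (huniq : ∀ M' : Subgroup G, IsCoatom M' → X ≤ M' → M' = M)
    (H : Subgroup G) (hH : ¬ H ≤ M.normalCore) : ∃ C : Subgroup G, H ⊔ C = ⊤ ∧ H ⊓ C = ⊥ := by
  -- find a conjugate of H not inside M
  obtain ⟨a, haH, b, hb⟩ : ∃ a ∈ H, ∃ b : G, b * a * b⁻¹ ∉ M := by
    by_contra hcon
    push Not at hcon
    exact hH (fun a ha b => hcon a ha b)
  let φ : G →* G := (MulAut.conj b).toMonoidHom
  let φi : G →* G := (MulAut.conj b⁻¹).toMonoidHom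
  have hφφi : ∀ K : Subgroup G, (K.map φ).map φi = K := by
    intro K
    rw [Subgroup.map_map]
    have : φi.comp φ = MonoidHom.id G := by
      ext x
      simp [φ, φi, MulAut.conj_apply, mul_assoc]
    rw [this, Subgroup.map_id]
  have hφi_inj : Function.Injective φi := (MulAut.conj b⁻¹).injective
  have hφi_surj : Function.Surjective φi := (MulAut.conj b⁻¹).surjective
  have hH' : ¬ H.map φ ≤ M := by
    intro h
    apply hb
    apply h
    exact ⟨a, haH, by simp [φ, MulAut.conj_apply]⟩
  have hXtop : X ≠ ⊤ := fun h => hM.1 (top_le_iff.mp (h ▸ hXM))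
  obtain ⟨C', hC1, hC2⟩ := S5901.result (⊥ : Subgroup G) X M bot_le hXtop
    (fun Y _ hYX => interval_of_complemented X hK Y hYX) hM hXM huniq (H.map φ) hH' (inf_bot_eq _)
  refine ⟨C'.map φi, ?_, ?_⟩
  · have := congrArg (Subgroup.map φi) hC1
    rw [Subgroup.map_sup, hφφi, Subgroup.map_top_of_surjective φi hφi_surj] at this
    exact this
  · have := congrArg (Subgroup.map φi) hC2
    rw [Subgroup.map_inf _ _ _ hφi_inj, hφφi, Subgroup.map_bot] at this
    exact this

/-- Let G be a finite group, X a subgroup whose own subgroup lattice is complemented, and suppose X lies in exactly one maximal subgroup M of G. Then every subgroup H of G not contained in the normal core of M has a complement in the subgroup lattice of G (some C with H ⊔ C = G and H ⊓ C = 1); in particular the subgroup lattice of G modulo the normal core of M is complemented. -/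
theorem result {G : Type*} [Group G] [Finite G] (X M : Subgroup G)
    (hK : ComplementedLattice (Subgroup X))
    (hM : IsCoatom M) (hXM : X ≤ M) (huniq : ∀ M' : Subgroup G, IsCoatom M' → X ≤ M' → M' = M) :
    (∀ H : Subgroup G, ¬ H ≤ M.normalCore → ∃ C : Subgroup G, H ⊔ C = ⊤ ∧ H ⊓ C = ⊥) ∧
    ComplementedLattice (Subgroup (G ⧸ M.normalCore)) := by
  refine ⟨part_one X M hK hM hXM huniq, ⟨fun Hbar => ?_⟩⟩
  by_cases hbot : Hbar = ⊥
  · exact ⟨⊤, hbot ▸ isCompl_bot_top⟩
  set N := M.normalCore with hN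
  let π : G →* G ⧸ N := QuotientGroup.mk' N
  have hπ : Function.Surjective π := QuotientGroup.mk'_surjective N
  have hmap : (Hbar.comap π).map π = Hbar := Subgroup.map_comap_eq_self_of_surjective hπ Hbar
  have hnle : ¬ Hbar.comap π ≤ N := by
    intro h
    apply hbot
    rw [← hmap, eq_bot_iff]
    rintro _ ⟨x, hx, rfl⟩
    rw [Subgroup.mem_bot]
    exact (QuotientGroup.eq_one_iff x).mpr (h hx)
  obtain ⟨C, hC1, hC2⟩ := part_one X M hK hM hXM huniq (Hbar.comap π) hnle
  refine ⟨C.map π, ?_⟩
  rw [isCompl_iff, disjoint_iff, codisjoint_iff]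
  constructor
  · rw [eq_bot_iff]
    rintro _ ⟨hx1, ⟨c, hc, rfl⟩⟩
    have : c ∈ Hbar.comap π ⊓ C := ⟨hx1, hc⟩
    rw [hC2, Subgroup.mem_bot] at this
    rw [this, map_one]
    exact Subgroup.one_mem _
  · have := congrArg (Subgroup.map π) hC1
    rw [Subgroup.map_sup, hmap, Subgroup.map_top_of_surjective π hπ] at this
    exact this

end Cfsg.Agent.S5902
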