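import Cfsg.Statements.S5903
import Cfsg.Agent.S5901

set_option autoImplicit false
open Cfsg

namespace Cfsg.Agent.S5903

/-- A complemented quotient `X ⧸ N` makes the interval `[N, X]` complemented. -/
theorem interval_of_quotient {G : Type*} [Group G] (X N : Subgroup G) (hNX : N ≤ X)
    [(N.subgroupOf X).Normal] (hK : ComplementedLattice (Subgroup (X ⧸ N.subgroupOf X)))
    (Y : Subgroup G) (hNY : N ≤ Y) (hYX : Y ≤ X) :
    ∃ C : Subgroup G, N ≤ C ∧ C ≤ X ∧ Y ⊔ C = X ∧ Y ⊓ C = N := by
  let π : X →* X ⧸ N.subgroupOf X := QuotientGroup.mk' (N.subgroupOf X)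
  have hπ : Function.Surjective π := QuotientGroup.mk'_surjective _
  have hker : π.ker = N.subgroupOf X := QuotientGroup.ker_mk' _
  obtain ⟨Cbar, hC⟩ := hK.exists_isCompl ((Y.subgroupOf X).map π)
  have hYcomap : ((Y.subgroupOf X).map π).comap π = Y.subgroupOf X := by
    rw [Subgroup.comap_map_eq, hker, sup_eq_left]
    exact Subgroup.subgroupOf_mono X hNY
  have hNC : N.subgroupOf X ≤ Cbar.comap π := by
    intro x hx
    show π x ∈ Cbar
    have : π x = 1 := (QuotientGroup.eq_one_iff x).mpr hx
    rw [this]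
    exact Cbar.one_mem
  refine ⟨(Cbar.comap π).map X.subtype, ?_, Subgroup.map_subtype_le _, ?_, ?_⟩
  · have := Subgroup.map_mono (f := X.subtype) hNC
    rwa [Subgroup.map_subgroupOf_eq_of_le hNX] at this
  · have h1 : Y.subgroupOf X ⊔ Cbar.comap π = ⊤ := by
      rw [← hYcomap, Subgroup.comap_sup_eq _ _ _ hπ, hC.sup_eq_top, Subgroup.comap_top]
    have h2 := congrArg (Subgroup.map X.subtype) h1
    rw [Subgroup.map_sup, Subgroup.map_subgroupOf_eq_of_le hYX, ← MonoidHom.range_eq_map,
      Subgroup.range_subtype] at h2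
    exact h2
  · have h1 : Y.subgroupOf X ⊓ Cbar.comap π = N.subgroupOf X := by
      rw [← hYcomap, ← Subgroup.comap_inf, hC.inf_eq_bot]
      exact (MonoidHom.comap_bot π).trans hker
    have h2 := congrArg (Subgroup.map X.subtype) h1
    rw [Subgroup.map_inf _ _ _ X.subtype_injective, Subgroup.map_subgroupOf_eq_of_le hYX,
      Subgroup.map_subgroupOf_eq_of_le hNX] at h2
    exact h2

/-- Let G be a finite simple group, X a subgroup lying in exactly one maximal subgroup M of G, and N a subgroup of prime order with N ≤ X that is central in M. If the subgroup lattice of X/N is complemented, then the subgroup lattice of G is complemented. -/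
theorem result {G : Type*} [Group G] [Finite G] [IsSimpleGroup G] (X M N : Subgroup G)
    (hM : IsCoatom M) (hXM : X ≤ M) (huniq : ∀ M' : Subgroup G, IsCoatom M' → X ≤ M' → M' = M)
    (hNX : N ≤ X) (hN : (Nat.card N).Prime) (hcen : ∀ n ∈ N, ∀ m ∈ M, m * n = n * m)
    [(N.subgroupOf X).Normal] (hK : ComplementedLattice (Subgroup (X ⧸ N.subgroupOf X))) :
    ComplementedLattice (Subgroup G) := by
  classical
  haveI : Fact (Nat.card N).Prime := ⟨hN⟩
  let cj : G → (G →* G) := fun g => (MulAut.conj g).toMonoidHom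
  have hcj : ∀ g x, cj g x = g * x * g⁻¹ := fun g x => rfl
  have hNbot : N ≠ ⊥ := by
    intro h
    have : Nat.card N = 1 := by rw [h]; exact Subgroup.card_bot
    rw [this] at hN
    exact Nat.not_prime_one hN
  -- the core of M is trivial
  have hcore : M.normalCore = ⊥ := by
    rcases (M.normalCore_normal).eq_bot_or_eq_top with h | h
    · exact h
    · exact absurd (top_le_iff.mp (h ▸ M.normalCore_le)) hM.1
  refine ⟨fun H => ?_⟩
  by_cases hbot : H = ⊥
  · exact ⟨⊤, hbot ▸ isCompl_bot_top⟩
  by_cases htop : H = ⊤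
  · exact ⟨⊥, htop ▸ isCompl_top_bot⟩
  -- key claim: a good conjugate
  obtain ⟨b, hb1, hb2⟩ : ∃ b : G, ¬ H.map (cj b) ≤ M ∧ H.map (cj b) ⊓ N = ⊥ := by
    by_contra hcon
    push Not at hcon
    have hdich : ∀ g : G, H ≤ M.map (cj g) ∨ N.map (cj g) ≤ H := by
      intro g
      by_cases h1 : H.map (cj g⁻¹) ≤ M
      · left
        intro x hx
        refine ⟨g⁻¹ * x * g, ?_, ?_⟩
        · have := h1 ⟨x, hx, rfl⟩
          simpa [hcj] using this
        · simp [hcj, mul_assoc]
      · right
        have h2 := hcon g⁻¹ h1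
        have h3 : N ≤ H.map (cj g⁻¹) := by
          rcases ((H.map (cj g⁻¹)).subgroupOf N).eq_bot_or_eq_top_of_prime_card with h | h
          · exact absurd (disjoint_iff.mp (Subgroup.subgroupOf_eq_bot.mp h)) h2
          · exact Subgroup.subgroupOf_eq_top.mp h
        rintro _ ⟨n, hn, rfl⟩
        obtain ⟨h, hh, hhn⟩ := h3 hn
        rw [← hhn]
        simpa [hcj, mul_assoc] using hh
    let S₁ : Set G := {g | N.map (cj g) ≤ H}
    let H₁ : Subgroup G := ⨆ g ∈ S₁, N.map (cj g)
    have hH₁H : H₁ ≤ H := iSup₂_le fun g hg => hg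
    have hnorm : ∀ g : G, N.map (cj g) ≤ Subgroup.normalizer (H₁ : Set G) := by
      intro g
      by_cases hg : g ∈ S₁
      · exact (le_iSup₂ (f := fun g (_ : g ∈ S₁) => N.map (cj g)) g hg).trans Subgroup.le_normalizer
      · have hHM : H ≤ M.map (cj g) := (hdich g).resolve_right hg
        rintro _ ⟨n, hn, rfl⟩
        have hcomm : ∀ h ∈ H, cj g n * h = h * cj g n := by
          intro h hh
          obtain ⟨m, hm, rfl⟩ := hHM hh
          rw [← map_mul, ← map_mul, hcen n hn m hm]
        rw [Subgroup.mem_set_normalizer_iff]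
        intro h
        constructor
        · intro hh
          rw [hcomm h (hH₁H hh), mul_inv_cancel_right]
          exact hh
        · intro hh
          have e : h = (cj g n)⁻¹ * ((cj g n * h * (cj g n)⁻¹) * cj g n) := by group
          rw [e, ← hcomm _ (hH₁H hh), inv_mul_cancel_left]
          exact hh
    have hncl : Subgroup.normalClosure (N : Set G) ≤ Subgroup.normalizer (H₁ : Set G) := by
      rw [Subgroup.normalClosure, Subgroup.closure_le]
      intro c hc
      rw [Group.mem_conjugatesOfSet_iff] at hc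
      obtain ⟨n, hn, hnc⟩ := hc
      rw [isConj_iff] at hnc
      obtain ⟨g, rfl⟩ := hnc
      exact hnorm g ⟨n, hn, rfl⟩
    have hncltop : Subgroup.normalClosure (N : Set G) = ⊤ := by
      rcases (Subgroup.normalClosure_normal (s := (N : Set G))).eq_bot_or_eq_top with h | h
      · exact absurd (le_bot_iff.mp (h ▸ Subgroup.le_normalClosure)) hNbot
      · exact h
    have hH₁normal : H₁.Normal := by
      rw [← Subgroup.normalizer_eq_top_iff]
      exact top_le_iff.mp (hncltop ▸ hncl)
    rcases hH₁normal.eq_bot_or_eq_top with h | h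
    · -- then S₁ is empty and H is in the core
      have hS₁ : ∀ g, g ∉ S₁ := by
        intro g hg
        have h1 : N.map (cj g) ≤ H₁ := le_iSup₂ (f := fun g (_ : g ∈ S₁) => N.map (cj g)) g hg
        rw [h, le_bot_iff] at h1
        exact hNbot ((Subgroup.map_eq_bot_iff_of_injective N (MulAut.conj g).injective).mp h1)
      apply hbot
      rw [eq_bot_iff, ← hcore]
      intro x hx c
      obtain ⟨m, hm, hmx⟩ := (hdich c⁻¹).resolve_right (hS₁ c⁻¹) hx
      rw [← hmx]
      simpa [hcj, mul_assoc] using hm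
    · exact htop (top_le_iff.mp (h ▸ hH₁H))
  -- apply the interval lemma to the conjugate and conjugate back
  let φ : G →* G := cj b
  let φi : G →* G := cj b⁻¹
  have hφφi : ∀ K : Subgroup G, (K.map φ).map φi = K := by
    intro K
    rw [Subgroup.map_map]
    have : φi.comp φ = MonoidHom.id G := by
      ext x
      simp [φ, φi, hcj, mul_assoc]
    rw [this, Subgroup.map_id]
  have hφi_inj : Function.Injective φi := (MulAut.conj b⁻¹).injective
  have hφi_surj : Function.Surjective φi := (MulAut.conj b⁻¹).surjective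
  have hXtop : X ≠ ⊤ := fun h => hM.1 (top_le_iff.mp (h ▸ hXM))
  obtain ⟨C', hC1, hC2⟩ := S5901.result N X M hNX hXtop
    (fun Y hNY hYX => interval_of_quotient X N hNX hK Y hNY hYX) hM hXM huniq (H.map φ) hb1 hb2
  refine ⟨C'.map φi, ?_⟩
  rw [isCompl_iff, disjoint_iff, codisjoint_iff]
  constructor
  · have := congrArg (Subgroup.map φi) hC2
    rw [Subgroup.map_inf _ _ _ hφi_inj, hφφi, Subgroup.map_bot] at this
    exact this
  · have := congrArg (Subgroup.map φi) hC1
    rw [Subgroup.map_sup, hφφi, Subgroup.map_top_of_surjective φi hφi_surj] at this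
    exact this

end Cfsg.Agent.S5903
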