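import Cfsg.Statements.S5909
import Cfsg.Agent.Helper98.WreathAlt
import Cfsg.Agent.Helper98.WreathCard

set_option autoImplicit false
open Cfsg

namespace Cfsg.Agent.S5909

open Helper98 Equiv Equiv.Perm
open Cfsg.Agent.S2119 (cyc cyc_apply_mid)

/-- The alternating group of degree 6 has no subgroup of index 3 or 5. -/
theorem no_small_index {Ω : Type*} [Fintype Ω] [DecidableEq Ω] (hΩ : Fintype.card Ω = 6)
    (L : Subgroup (Perm Ω)) (hLA : L ≤ alternatingGroup Ω)
    (hcard : Nat.card L = 72 ∨ Nat.card L = 120) : False := by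
  haveI : Nontrivial Ω := Fintype.one_lt_card_iff_nontrivial.mp (by omega)
  have hA : Nat.card (alternatingGroup Ω) = 360 := by
    have h := two_mul_nat_card_alternatingGroup (α := Ω)
    rw [Nat.card_perm, Nat.card_eq_fintype_card (α := Ω), hΩ] at h
    have : Nat.factorial 6 = 720 := by decide
    omega
  have hsimple : IsSimpleGroup (alternatingGroup Ω) :=
    alternatingGroup.isSimpleGroup (by rw [Nat.card_eq_fintype_card, hΩ]; norm_num)
  set L' : Subgroup (alternatingGroup Ω) := L.subgroupOf (alternatingGroup Ω) with hL'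
  have hL'card : Nat.card L' = Nat.card L :=
    Nat.card_congr (Subgroup.subgroupOfEquivOfLe hLA).toEquiv
  have hidx := Subgroup.index_mul_card L'
  rw [hL'card, hA] at hidx
  have hk : L'.index = 5 ∨ L'.index = 3 := by
    rcases hcard with h | h <;> rw [h] at hidx <;> omega
  have hNidx : L'.normalCore.index ∣ (L'.index).factorial := by
    rw [Subgroup.normalCore_eq_ker, Subgroup.index_ker, Subgroup.index_eq_card, ← Nat.card_perm]
    exact Subgroup.card_subgroup_dvd_card _
  rcases hsimple.eq_bot_or_eq_top_of_normal _ (Subgroup.normalCore_normal L') with hbot | htop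
  · rw [hbot, Subgroup.index_bot, hA] at hNidx
    rcases hk with h | h <;> rw [h] at hNidx <;> revert hNidx <;> decide
  · have : L' = ⊤ := top_le_iff.mp (htop ▸ Subgroup.normalCore_le L')
    rw [this, Subgroup.index_top] at hk
    omega

theorem arith_key (a b cW cA cL : ℕ) (ha2 : a = 2) (hb23 : b = 2 ∨ b = 3)
    (hW : 2 * cW = a.factorial ^ b * b.factorial) (hA : 2 * cA = (a * b).factorial)
    (hd1 : cW ∣ cL) (hd2 : cL ∣ cA) (hne : cL ≠ cW)
    (hno : (cL = 72 ∨ cL = 120) → b = 3 → False) : cL = cA := by
  subst ha2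
  rcases hb23 with hb | hb
  · subst hb
    have e1 : cW = 4 := by
      have : Nat.factorial 2 ^ 2 * Nat.factorial 2 = 8 := by decide
      omega
    have e2 : cA = 12 := by
      have : Nat.factorial (2 * 2) = 24 := by decide
      omega
    subst e1 e2
    obtain ⟨m, rfl⟩ := hd1
    have hm3 : m ∣ 3 := Nat.dvd_of_mul_dvd_mul_left (by norm_num) (show 4 * m ∣ 4 * 3 from hd2)
    have := Nat.le_of_dvd (by norm_num) hm3
    interval_cases m <;> simp_all
  · subst hb
    have e1 : cW = 24 := by
      have : Nat.factorial 2 ^ 3 * Nat.factorial 3 = 48 := by decide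
      omega
    have e2 : cA = 360 := by
      have : Nat.factorial (2 * 3) = 720 := by decide
      omega
    subst e1 e2
    obtain ⟨m, rfl⟩ := hd1
    have hm15 : m ∣ 15 :=
      Nat.dvd_of_mul_dvd_mul_left (by norm_num) (show 24 * m ∣ 24 * 15 from hd2)
    have hmle := Nat.le_of_dvd (by norm_num) hm15
    interval_cases m <;> simp_all

/-- Let Ω be a finite set whose size is not 8, and f : Ω → Fin b a labelling with b ≥ 2 whose fibres all have the same size a ≥ 2 (a partition into b blocks of size a). Then the even permutations preserving the partition — the intersection of the imprimitive wreath product S_a ≀ S_b with the alternating group — form a maximal subgroup of the alternating group on Ω. -/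
theorem result {Ω : Type*} [Fintype Ω] [DecidableEq Ω] (h8 : Fintype.card Ω ≠ 8) (a b : ℕ) (ha : 2 ≤ a) (hb : 2 ≤ b)
    (f : Ω → Fin b) (hf : ∀ i : Fin b, Nat.card {x : Ω // f x = i} = a) :
    IsCoatom ((Subgroup.closure {g : Equiv.Perm Ω | ∀ x y : Ω, f x = f y ↔ f (g x) = f (g y)} ⊓ alternatingGroup Ω).subgroupOf (alternatingGroup Ω)) := by
  classical
  rw [closure_partSet]
  have hcardΩ : Fintype.card Ω = a * b := by
    rw [Fintype.card_congr (fibreEquiv f hf), Fintype.card_prod, Fintype.card_fin, Fintype.card_fin,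
      mul_comm]
  haveI : Nontrivial Ω := Fintype.one_lt_card_iff_nontrivial.mp (by rw [hcardΩ]; nlinarith)
  have hfibre : ∀ i : Fin b, ∃ x x' : Ω, x ≠ x' ∧ f x = i ∧ f x' = i := by
    intro i
    obtain ⟨x, hx, -⟩ := exists_mem_fibre_notMem f hf i ∅ (by rw [Finset.card_empty]; omega)
    obtain ⟨x', hx', hT⟩ := exists_mem_fibre_notMem f hf i {x}
      (by rw [Finset.card_singleton]; omega)
    exact ⟨x, x', fun h => hT (by rw [h]; simp), hx, hx'⟩
  rw [isCoatom_subgroupOf_iff inf_le_right]
  constructor
  · intro h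
    obtain ⟨x, x', hxx', hx, hx'⟩ := hfibre ⟨0, by omega⟩
    obtain ⟨y, _, _, hy, _⟩ := hfibre ⟨1, by omega⟩
    have h01 : (⟨0, by omega⟩ : Fin b) ≠ ⟨1, by omega⟩ := by
      intro h; simpa using congrArg Fin.val h
    have hxy : x ≠ y := fun h => h01 (by rw [← hx, h, hy])
    have hx'y : x' ≠ y := fun h => h01 (by rw [← hx', h, hy])
    have hc : cyc x x' y ∈ alternatingGroup Ω := cyc_mem_alternatingGroup hxx' hx'y hxy
    rw [← h] at hc
    have := (hc.1 x x').mp (hx.trans hx'.symm)
    have e1 : cyc x x' y x = x' := by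
      simp only [cyc, Perm.mul_apply]
      rw [swap_apply_of_ne_of_ne hxx' hxy, swap_apply_left]
    rw [e1, cyc_apply_mid hxy hx'y, hx', hy] at this
    exact h01 this
  · intro L hWL hLA
    by_cases hLW : L ≤ partStab f
    · left
      exact le_antisymm (le_inf hLW hLA) hWL
    · right
      obtain ⟨g, hgL, hgP⟩ : ∃ g, g ∈ L ∧ g ∉ partStab f := by
        by_contra h
        push Not at h
        exact hLW h
      obtain ⟨g, hgL, x, y, hxy, hgxy⟩ : ∃ g, g ∈ L ∧ ∃ x y, f x = f y ∧ f (g x) ≠ f (g y) := by
        rw [mem_partStab] at hgP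
        push Not at hgP
        obtain ⟨x, y, h⟩ := hgP
        rcases h with ⟨h1, h2⟩ | ⟨h1, h2⟩
        · exact ⟨g, hgL, x, y, h1, h2⟩
        · refine ⟨g⁻¹, L.inv_mem hgL, g x, g y, h2, ?_⟩
          simpa using h1
      apply le_antisymm hLA
      by_cases ha3 : 3 ≤ a
      · obtain ⟨p, p', r, h1, h2, h3, h4⟩ :=
          exists_cyc_mem_of_three_le ha3 f hf L hWL hgL hxy hgxy
        exact alternatingGroup_le_of_cyc_mem f hf L hWL h1 h2 h3 h4
      by_cases hb5 : 5 ≤ b
      · obtain ⟨p, p', r, h1, h2, h3, h4⟩ :=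
          exists_cyc_mem_of_five_le ha hb5 f hf L hWL hgL hxy hgxy
        exact alternatingGroup_le_of_cyc_mem f hf L hWL h1 h2 h3 h4
      -- the small cases, by counting
      have ha2 : a = 2 := by omega
      have hb23 : b = 2 ∨ b = 3 := by
        have : b ≠ 4 := by
          intro h4
          apply h8
          rw [hcardΩ, ha2, h4]
        omega
      have hxney : x ≠ y := fun h => hgxy (by rw [h])
      have hW := card_partStab (by omega : 1 ≤ a) f hf
      have hW2 := two_mul_card_inf_alternatingGroup (partStab f)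
        ⟨swap x y, swap_mem_partStab f hxy, Perm.sign_swap hxney⟩
      have hA2 := two_mul_nat_card_alternatingGroup (α := Ω)
      rw [Nat.card_perm, Nat.card_eq_fintype_card (α := Ω), hcardΩ] at hA2
      have hd1 : Nat.card ↥(partStab f ⊓ alternatingGroup Ω) ∣ Nat.card L :=
        Subgroup.card_dvd_of_le hWL
      have hd2 : Nat.card L ∣ Nat.card (alternatingGroup Ω) := Subgroup.card_dvd_of_le hLA
      have hne : Nat.card L ≠ Nat.card ↥(partStab f ⊓ alternatingGroup Ω) := by
        intro h
        have := Subgroup.eq_of_le_of_card_ge hWL (le_of_eq h)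
        apply hgxy
        have hg : g ∈ partStab f ⊓ alternatingGroup Ω := this ▸ hgL
        exact (hg.1 x y).mp hxy
      have hW' : 2 * Nat.card ↥(partStab f ⊓ alternatingGroup Ω) = a.factorial ^ b * b.factorial := by
        rw [hW2, hW]
      have hno : (Nat.card L = 72 ∨ Nat.card L = 120) → b = 3 → False := by
        intro h hb3
        exact no_small_index (by rw [hcardΩ, ha2, hb3]) L hLA h
      have hfin : Nat.card L = Nat.card (alternatingGroup Ω) :=
        arith_key a b _ _ _ ha2 hb23 hW' hA2 hd1 hd2 hne hno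
      exact (Subgroup.eq_of_le_of_card_ge hLA (le_of_eq hfin.symm)).symm.le

end Cfsg.Agent.S5909
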