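import Cfsg.Statements.S5910
import Cfsg.Agent.Helper98.AGL32

set_option autoImplicit false
open Cfsg

namespace Cfsg.Agent.S5910

open Equiv Helper98

/-- Let Ω be a set with 8 elements and f : Ω → Fin 4 a labelling whose four fibres all have size 2 (a partition of the 8 points into 4 pairs). Then the group of even permutations preserving this partition, (S₂ ≀ S₄) ∩ A₈, is not a maximal subgroup of the alternating group A₈ (it lies in a subgroup isomorphic to the affine group AGL₃(2)). -/
theorem result {Ω : Type*} [Fintype Ω] [DecidableEq Ω] (h8 : Fintype.card Ω = 8)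
    (f : Ω → Fin 4) (hf : ∀ i : Fin 4, Nat.card {x : Ω // f x = i} = 2) :
    ¬ IsCoatom ((Subgroup.closure {g : Equiv.Perm Ω | ∀ x y : Ω, f x = f y ↔ f (g x) = f (g y)} ⊓ alternatingGroup Ω).subgroupOf (alternatingGroup Ω)) := by
  classical
  rw [closure_partSet]
  let E : Ω ≃ X8 := fibreEquiv f hf
  have hE : ∀ x, (E x).1 = f x := fibreEquiv_fst f hf
  let ψ : Perm Ω ≃* Perm X8 := E.permCongrHom
  have hψ : ∀ (g : Perm Ω) (y : X8), ψ g y = E (g (E.symm y)) := fun g y => rfl
  have hψsymm : ∀ (g : Perm X8) (x : Ω), ψ.symm g x = E.symm (g (E x)) := fun g x => rfl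
  have hpart : ∀ g : Perm Ω, g ∈ partStab f ↔ ψ g ∈ partStab (Prod.fst : X8 → Fin 4) := by
    intro g
    constructor
    · intro hg x y
      rw [hψ, hψ, hE, hE]
      have := hg (E.symm x) (E.symm y)
      rw [← hE, ← hE, E.apply_symm_apply, E.apply_symm_apply] at this
      exact this
    · intro hg x y
      have := hg (E x) (E y)
      rw [hψ, hψ, hE, hE, hE, hE, E.symm_apply_apply, E.symm_apply_apply] at this
      exact this
  have hsign : ∀ g : Perm Ω, Perm.sign (ψ g) = Perm.sign g := fun g => Perm.sign_permCongr E g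
  -- the intermediate subgroup
  let L : Subgroup (Perm Ω) := affStab.comap ψ.toMonoidHom ⊓ alternatingGroup Ω
  have hWL : partStab f ⊓ alternatingGroup Ω ≤ L := by
    rintro g ⟨hgW, hgA⟩
    refine ⟨?_, hgA⟩
    show ψ g ∈ affStab
    apply mem_affStab_of_even _ ((hpart g).mp hgW)
    rw [hsign]
    exact Perm.mem_alternatingGroup.mp hgA
  have hLA : L ≤ alternatingGroup Ω := inf_le_right
  -- L is bigger than W⁺
  have hL1 : L ≠ partStab f ⊓ alternatingGroup Ω := by
    intro h
    have hmem : ψ.symm hX8 ∈ L := by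
      refine ⟨?_, ?_⟩
      · show ψ (ψ.symm hX8) ∈ affStab
        rw [MulEquiv.apply_symm_apply]
        exact hX8_aff
      · show ψ.symm hX8 ∈ alternatingGroup Ω
        rw [Perm.mem_alternatingGroup, ← hsign, MulEquiv.apply_symm_apply]
        exact hX8_sign
    rw [h] at hmem
    have := (hpart _).mp hmem.1
    rw [MulEquiv.apply_symm_apply] at this
    exact hX8_not this
  -- L is smaller than the alternating group
  have hL2 : L ≠ alternatingGroup Ω := by
    intro h
    have hmem : ψ.symm cX8 ∈ alternatingGroup Ω := by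
      rw [Perm.mem_alternatingGroup, ← hsign, MulEquiv.apply_symm_apply]
      exact cX8_sign
    rw [← h] at hmem
    have : ψ (ψ.symm cX8) ∈ affStab := hmem.1
    rw [MulEquiv.apply_symm_apply] at this
    exact cX8_not this
  rw [isCoatom_subgroupOf_iff inf_le_right]
  rintro ⟨-, hmax⟩
  rcases hmax L hWL hLA with h | h
  · exact hL1 h
  · exact hL2 h

end Cfsg.Agent.S5910
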