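import Cfsg.Statements.S5911
import Cfsg.Agent.Helper96.AutSym

set_option autoImplicit false
open Cfsg

namespace Cfsg.Agent.S5911


open Equiv Equiv.Perm Cfsg.Agent.Helper96

section

variable {Ω : Type*} [Fintype Ω] [DecidableEq Ω]

/-- the case `card Ω ≥ 5` -/
theorem large (h5 : 5 ≤ Fintype.card Ω) (h6 : Fintype.card Ω ≠ 6)
    (H : Subgroup (Equiv.Perm Ω)) (hH : H.index = Fintype.card Ω) :
    ∃ x : Ω, H = MulAction.stabilizer (Equiv.Perm Ω) x := by
  classical
  haveI : Fintype (Perm Ω ⧸ H) := Fintype.ofFinite _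
  apply exists_eq_stabilizer_of_isSwap h5 H hH
  intro σ hσ
  let φ : Perm Ω ≃* Perm (Perm Ω ⧸ H) :=
    MulEquiv.ofBijective _ (toPermHom_quotient_bijective h5 H hH)
  have hcard : Fintype.card Ω = Fintype.card (Perm Ω ⧸ H) := by
    rw [← hH, Subgroup.index_eq_card, Nat.card_eq_fintype_card]
  rcases cycleType_map_swap φ hcard hσ with h | ⟨h, _⟩
  · exact h
  · exact absurd h h6

/-- the case `card Ω ≤ 2` -/
theorem tiny (h2 : Fintype.card Ω = 1 ∨ Fintype.card Ω = 2)
    (H : Subgroup (Equiv.Perm Ω)) (hH : H.index = Fintype.card Ω) :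
    ∃ x : Ω, H = MulAction.stabilizer (Equiv.Perm Ω) x := by
  have hpos : 0 < Fintype.card Ω := by omega
  obtain ⟨x⟩ := Fintype.card_pos_iff.mp hpos
  refine ⟨x, ?_⟩
  have hG : Nat.card (Perm Ω) = Fintype.card Ω := by
    rw [Nat.card_eq_fintype_card, Fintype.card_perm]
    rcases h2 with h | h <;> rw [h] <;> rfl
  have key : ∀ K : Subgroup (Perm Ω), K.index = Fintype.card Ω → K = ⊥ := by
    intro K hK
    apply Subgroup.eq_bot_of_card_eq
    have h1 := K.card_mul_index
    rw [hK, hG] at h1
    exact Nat.eq_of_mul_eq_mul_right hpos (by rw [h1, one_mul])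
  rw [key H hH, key _ (index_stabilizer_perm x)]

/-- the case `card Ω = p + 1` with `p ∈ {2, 3}` -/
theorem small (p : ℕ) [hp : Fact p.Prime] (hn : Fintype.card Ω = p + 1)
    (H : Subgroup (Equiv.Perm Ω)) (hH : H.index = Fintype.card Ω)
    (m : ℕ) (hm : m ≤ 2) (hcard : Nat.card H = p * m) :
    ∃ x : Ω, H = MulAction.stabilizer (Equiv.Perm Ω) x := by
  have hp2 := hp.out.two_le
  have hm0 : m ≠ 0 := by
    rintro rfl
    rw [mul_zero] at hcard
    exact Nat.card_pos.ne' hcard
  -- an element of order `p`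
  obtain ⟨c', hc'⟩ := exists_prime_orderOf_dvd_card' (G := H) p (by rw [hcard]; exact dvd_mul_right _ _)
  -- `zpowers c'` is normal in `H`
  have hnorm : (Subgroup.zpowers c').Normal := by
    have h1 := (Subgroup.zpowers c').card_mul_index
    rw [Nat.card_zpowers, hc', hcard] at h1
    have h2 : (Subgroup.zpowers c').index = m := Nat.eq_of_mul_eq_mul_left (by omega) h1
    have h3 : m = 1 ∨ m = 2 := by omega
    rcases h3 with h3 | h3
    · rw [h3, Subgroup.index_eq_one] at h2
      rw [h2]; infer_instance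
    · rw [h3] at h2
      exact Subgroup.normal_of_index_eq_two h2
  set c : Perm Ω := (c' : Perm Ω) with hc
  have hco : orderOf c = p := by rw [hc, Subgroup.orderOf_coe, hc']
  -- `c` has exactly one fixed point
  obtain ⟨k, hk⟩ := cycleType_prime_order (σ := c) (by rw [hco]; exact hp.out)
  rw [hco] at hk
  have hk0 : k = 0 := by
    have := sum_cycleType_le c
    rw [hk, Multiset.sum_replicate, smul_eq_mul, hn] at this
    by_contra hk0
    have : 2 * p ≤ (k + 1) * p := Nat.mul_le_mul_right p (by omega)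
    omega
  have hsupp : c.support.card = p := by
    rw [← sum_cycleType, hk, hk0]; simp
  have hfix : (c.support)ᶜ.card = 1 := by
    rw [Finset.card_compl, hsupp, hn]; omega
  obtain ⟨d, hd⟩ := Finset.card_eq_one.mp hfix
  have hd1 : c d = d := by
    have : d ∈ (c.support)ᶜ := by rw [hd]; exact Finset.mem_singleton_self d
    rwa [Finset.mem_compl, Perm.notMem_support] at this
  have hd2 : ∀ y, c y = y → y = d := by
    intro y hy
    have : y ∈ (c.support)ᶜ := by rwa [Finset.mem_compl, Perm.notMem_support]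
    rwa [hd, Finset.mem_singleton] at this
  refine ⟨d, eq_stabilizer_of_le H d ?_ hH⟩
  intro h hh
  rw [MulAction.mem_stabilizer_iff]
  -- `h⁻¹ c h` is a power of `c`
  have h1 : (⟨h, hh⟩ : H)⁻¹ * c' * (⟨h, hh⟩ : H)⁻¹⁻¹ ∈ Subgroup.zpowers c' :=
    hnorm.conj_mem c' (Subgroup.mem_zpowers c') _
  obtain ⟨j, hj⟩ := Subgroup.mem_zpowers_iff.mp h1
  have h2 : c ^ j = h⁻¹ * c * h := by
    have := congrArg (fun x : H => (x : Perm Ω)) hj
    simpa using this
  have h3 : (c ^ j) d = d := zpow_apply_eq_self_of_apply_eq_self hd1 j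
  rw [h2] at h3
  have h4 : c (h d) = h d := by
    have := congrArg h h3
    simpa using this
  exact hd2 _ h4

end

/-- Let Ω be a finite set whose size n is not 6. Then every subgroup of the symmetric group on Ω of index n is the stabilizer of a point. -/
theorem result {Ω : Type*} [Fintype Ω] [DecidableEq Ω] (h6 : Fintype.card Ω ≠ 6)
    (H : Subgroup (Equiv.Perm Ω)) (hH : H.index = Fintype.card Ω) :
    ∃ x : Ω, H = MulAction.stabilizer (Equiv.Perm Ω) x := by
  have hG : Nat.card H * H.index = (Fintype.card Ω).factorial := by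
    rw [H.card_mul_index, Nat.card_eq_fintype_card, Fintype.card_perm]
  rcases Nat.lt_or_ge (Fintype.card Ω) 5 with h5 | h5
  · interval_cases hn : Fintype.card Ω
    · exact absurd hH Subgroup.index_ne_zero_of_finite
    · exact tiny (Or.inl hn) H (by rw [hH, hn])
    · exact tiny (Or.inr hn) H (by rw [hH, hn])
    · haveI : Fact (Nat.Prime 2) := ⟨Nat.prime_two⟩
      refine small 2 hn H (by rw [hH, hn]) 1 (by norm_num) ?_
      rw [hH] at hG
      have : Nat.card H * 3 = 2 * 3 := hG
      omega
    · haveI : Fact (Nat.Prime 3) := ⟨Nat.prime_three⟩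
      refine small 3 hn H (by rw [hH, hn]) 2 (by norm_num) ?_
      rw [hH] at hG
      have : Nat.card H * 4 = 6 * 4 := hG
      omega
  · exact large h5 h6 H hH

end Cfsg.Agent.S5911
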