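import Cfsg.Statements.S5912
import Cfsg.Agent.Helper96.SymSix

set_option autoImplicit false
open Cfsg

namespace Cfsg.Agent.S5912

/-- The symmetric group on a 6-element set Ω has exactly two conjugacy classes of subgroups of index 6: there are two non-conjugate subgroups of index 6 (a point stabilizer and a transitive subgroup isomorphic to S₅), and every subgroup of index 6 is conjugate to one of them. -/
theorem result {Ω : Type*} [Fintype Ω] [DecidableEq Ω] (h6 : Fintype.card Ω = 6) :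
    ∃ H₁ H₂ : Subgroup (Equiv.Perm Ω), H₁.index = 6 ∧ H₂.index = 6 ∧
      (¬ ∃ g : Equiv.Perm Ω, Subgroup.map (MulAut.conj g).toMonoidHom H₁ = H₂) ∧
      ∀ H : Subgroup (Equiv.Perm Ω), H.index = 6 →
        ∃ g : Equiv.Perm Ω, Subgroup.map (MulAut.conj g).toMonoidHom H₁ = H ∨ Subgroup.map (MulAut.conj g).toMonoidHom H₂ = H := by
  obtain ⟨H0, hH0, hns0⟩ := Cfsg.Agent.Helper96.exists_exotic_subgroup h6
  obtain ⟨x0⟩ : Nonempty Ω := Fintype.card_pos_iff.mp (by omega)
  refine ⟨MulAction.stabilizer (Equiv.Perm Ω) x0, H0, ?_, hH0, ?_, ?_⟩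
  · rw [Cfsg.Agent.Helper96.index_stabilizer_perm, h6]
  · rintro ⟨g, hg⟩
    rw [← MulAction.stabilizer_smul_eq_stabilizer_map_conj] at hg
    exact hns0 (g • x0) hg.symm
  · intro H hH
    by_cases hs : ∃ a : Ω, H = MulAction.stabilizer (Equiv.Perm Ω) a
    · obtain ⟨a, rfl⟩ := hs
      obtain ⟨g, hg⟩ := MulAction.exists_smul_eq (Equiv.Perm Ω) x0 a
      exact ⟨g, Or.inl (by rw [← MulAction.stabilizer_smul_eq_stabilizer_map_conj, hg])⟩
    · push Not at hs
      obtain ⟨g, hg⟩ :=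
        Cfsg.Agent.Helper96.exists_conj_of_not_stabilizer h6 H H0 hH hH0 hs hns0
      exact ⟨g, Or.inr hg.symm⟩

end Cfsg.Agent.S5912
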