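import Cfsg.Statements.S5914
import Cfsg.Agent.S0721
-- import your own Cfsg.Agent.* helpers here

set_option autoImplicit false
open Cfsg

namespace Cfsg.Agent.S5914

/-! ### Forward direction: a characteristically simple group is a minimal normal subgroup of its holomorph -/

section forward

variable {G : Type*} [Group G]

theorem forward [Finite G] [Nontrivial G]
    (h : ∀ H : Subgroup G, H.Characteristic → H = ⊥ ∨ H = ⊤) :
    ∃ (S : Type) (_ : Group S) (_ : IsSimpleGroup S) (n : ℕ), 1 ≤ n ∧ Nonempty (G ≃* (Fin n → S)) := by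
  let Hol := G ⋊[MonoidHom.id (MulAut G)] MulAut G
  let il : G →* Hol := SemidirectProduct.inl
  have hil : Function.Injective il := SemidirectProduct.inl_injective
  let N : Subgroup Hol := il.range
  have : Finite Hol := Finite.of_equiv _ SemidirectProduct.equivProd.symm
  have : N.Normal := by
    have : N = (SemidirectProduct.rightHom : Hol →* MulAut G).ker :=
      SemidirectProduct.range_inl_eq_ker_rightHom
    rw [this]; infer_instance
  have hN : N ≠ ⊥ := by
    intro hbot
    obtain ⟨g, hg⟩ := exists_ne (1 : G)
    have : il g ∈ N := ⟨g, rfl⟩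
    rw [hbot, Subgroup.mem_bot] at this
    exact hg (hil (this.trans (map_one il).symm))
  have hmin : ∀ M : Subgroup Hol, M.Normal → M ≤ N → M = ⊥ ∨ M = N := by
    intro M hM hMN
    have hchar : (M.comap il).Characteristic := by
      rw [Subgroup.characteristic_iff_le_comap]
      intro φ g hg
      rw [Subgroup.mem_comap] at hg ⊢
      have h1 : il (φ g) = SemidirectProduct.inr φ * il g * (SemidirectProduct.inr φ)⁻¹ := by
        have := SemidirectProduct.inl_aut (φ := MonoidHom.id (MulAut G)) φ g
        simpa [il] using this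
      show il (φ g) ∈ M
      rw [h1]
      exact hM.conj_mem _ hg _
    rcases h _ hchar with hK | hK
    · left
      rw [eq_bot_iff]
      intro x hx
      obtain ⟨g, rfl⟩ := hMN hx
      have : g ∈ M.comap il := hx
      rw [hK, Subgroup.mem_bot] at this
      rw [this, map_one]; exact Subgroup.one_mem _
    · right
      apply le_antisymm hMN
      rintro _ ⟨g, rfl⟩
      have : g ∈ M.comap il := by rw [hK]; trivial
      exact this
  obtain ⟨T, hTg, m, hT, hm, ⟨e⟩⟩ := Cfsg.Agent.S0721.result N hN hmin
  let e0 : G ≃* N := MonoidHom.ofInjective hil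
  exact ⟨T, hTg, hT, m, hm, ⟨e0.trans e⟩⟩

end forward

/-! ### Backward direction: a direct power of a simple group is characteristically simple -/

section backward

variable {S : Type*} [Group S] {n : ℕ}

/-- the automorphism of `S^n` swapping two coordinates -/
def swapAut (i j : Fin n) : (Fin n → S) ≃* (Fin n → S) where
  toFun f := f ∘ Equiv.swap i j
  invFun f := f ∘ Equiv.swap i j
  left_inv f := by ext x; simp
  right_inv f := by ext x; simp
  map_mul' _ _ := rfl

theorem swapAut_mulSingle (i j : Fin n) (s : S) :
    swapAut i j (Pi.mulSingle i s : Fin n → S) = (Pi.mulSingle j s : Fin n → S) := by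
  ext x
  show (Pi.mulSingle i s : Fin n → S) (Equiv.swap i j x) = (Pi.mulSingle j s : Fin n → S) x
  by_cases hx : x = j
  · subst hx; simp
  · rw [Pi.mulSingle_eq_of_ne hx]
    apply Pi.mulSingle_eq_of_ne
    intro h
    apply hx
    have := congrArg (Equiv.swap i j) h
    simpa using this

/-- in the abelian case: add coordinate `i` to coordinate `j` -/
def transvAut (hc : ∀ a b : S, a * b = b * a) (i j : Fin n) (hij : j ≠ i) :
    (Fin n → S) ≃* (Fin n → S) where
  toFun f := f * Pi.mulSingle j (f i)
  invFun f := f * Pi.mulSingle j (f i)⁻¹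
  left_inv f := by
    ext x
    simp only [Pi.mul_apply, Pi.mulSingle_eq_of_ne hij.symm, mul_one]
    by_cases hx : x = j
    · subst hx; simp
    · simp [Pi.mulSingle_eq_of_ne hx]
  right_inv f := by
    ext x
    simp only [Pi.mul_apply, Pi.mulSingle_eq_of_ne hij.symm, mul_one]
    by_cases hx : x = j
    · subst hx; simp
    · simp [Pi.mulSingle_eq_of_ne hx]
  map_mul' f g := by
    ext x
    simp only [Pi.mul_apply]
    by_cases hx : x = j
    · subst hx
      simp only [Pi.mulSingle_eq_same]
      have hcomm : g x * f i = f i * g x := hc _ _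
      calc f x * g x * (f i * g i) = f x * (g x * f i) * g i := by group
        _ = f x * (f i * g x) * g i := by rw [hcomm]
        _ = f x * f i * (g x * g i) := by group
    · simp [Pi.mulSingle_eq_of_ne hx]

theorem char_eq_top [IsSimpleGroup S] (K : Subgroup (Fin n → S)) (hK : K.Characteristic)
    (hne : K ≠ ⊥) : K = ⊤ := by
  have hKn : K.Normal := Subgroup.normal_of_characteristic K
  have hfix : ∀ (φ : (Fin n → S) ≃* (Fin n → S)) (x : Fin n → S), x ∈ K → φ x ∈ K := by
    intro φ x hx
    have := Subgroup.characteristic_iff_le_comap.mp hK φ hx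
    exact this
  rw [Subgroup.ne_bot_iff_exists_ne_one] at hne
  obtain ⟨⟨k, hkK⟩, hk1'⟩ := hne
  have hk1 : k ≠ 1 := fun h => hk1' (Subtype.ext h)
  obtain ⟨i, hi⟩ : ∃ i, k i ≠ 1 := by
    by_contra hcon
    push_neg at hcon
    exact hk1 (funext hcon)
  -- step 3: some coordinate subgroup meets K non-trivially
  have step3 : ∃ j, ∃ s : S, s ≠ 1 ∧ Pi.mulSingle j s ∈ K := by
    by_cases hc : ∀ a b : S, a * b = b * a
    · by_cases hj : ∃ j, j ≠ i
      · obtain ⟨j, hji⟩ := hj
        refine ⟨j, k i, hi, ?_⟩
        have h1 : transvAut hc i j hji k ∈ K := hfix _ k hkK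
        have h2 : k⁻¹ * transvAut hc i j hji k ∈ K := K.mul_mem (K.inv_mem hkK) h1
        have h3 : k⁻¹ * transvAut hc i j hji k = Pi.mulSingle j (k i) := by
          show k⁻¹ * (k * Pi.mulSingle j (k i)) = _
          rw [inv_mul_cancel_left]
        rwa [h3] at h2
      · push_neg at hj
        refine ⟨i, k i, hi, ?_⟩
        have : Pi.mulSingle i (k i) = k := by
          ext x
          rw [hj x]; simp
        rwa [this]
    · -- non-abelian: the centre of `S` is trivial
      have hcen : Subgroup.center S = ⊥ := by
        rcases IsSimpleGroup.eq_bot_or_eq_top_of_normal (Subgroup.center S) inferInstance with h | h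
        · exact h
        · exfalso
          apply hc
          intro a b
          have hb : b ∈ Subgroup.center S := by rw [h]; trivial
          exact (Subgroup.mem_center_iff.mp hb a)
      have : ∃ s : S, s * k i ≠ k i * s := by
        by_contra hcon
        push_neg at hcon
        have : k i ∈ Subgroup.center S := Subgroup.mem_center_iff.mpr hcon
        rw [hcen, Subgroup.mem_bot] at this
        exact hi this
      obtain ⟨s, hs⟩ := this
      refine ⟨i, s * k i * s⁻¹ * (k i)⁻¹, ?_, ?_⟩
      · intro h
        apply hs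
        have := mul_inv_eq_one.mp h
        rw [mul_inv_eq_iff_eq_mul] at this
        exact this
      · have h1 : Pi.mulSingle i s * k * (Pi.mulSingle i s)⁻¹ ∈ K := hKn.conj_mem k hkK _
        have h2 : Pi.mulSingle i s * k * (Pi.mulSingle i s)⁻¹ * k⁻¹ ∈ K := K.mul_mem h1 (K.inv_mem hkK)
        have h3 : Pi.mulSingle i s * k * (Pi.mulSingle i s)⁻¹ * k⁻¹
            = Pi.mulSingle i (s * k i * s⁻¹ * (k i)⁻¹) := by
          ext x
          by_cases hx : x = i
          · subst hx; simp
          · simp [Pi.mulSingle_eq_of_ne hx]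
        rwa [h3] at h2
  obtain ⟨j, s, hs1, hsK⟩ := step3
  -- step 4
  have step4 : ∀ t : S, Pi.mulSingle j t ∈ K := by
    have hnorm : (K.comap (MonoidHom.mulSingle (fun _ : Fin n => S) j)).Normal := hKn.comap _
    rcases IsSimpleGroup.eq_bot_or_eq_top_of_normal _ hnorm with h | h
    · exfalso
      have : s ∈ K.comap (MonoidHom.mulSingle (fun _ : Fin n => S) j) := hsK
      rw [h, Subgroup.mem_bot] at this
      exact hs1 this
    · intro t
      have : t ∈ K.comap (MonoidHom.mulSingle (fun _ : Fin n => S) j) := by rw [h]; trivial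
      exact this
  -- step 5
  have step5 : ∀ (l : Fin n) (t : S), Pi.mulSingle l t ∈ K := by
    intro l t
    have := hfix (swapAut j l) _ (step4 t)
    rwa [swapAut_mulSingle] at this
  rw [eq_top_iff]
  intro x _
  exact Subgroup.pi_mem_of_mulSingle_mem x (fun l => step5 l (x l))

end backward

theorem backward {G : Type*} [Group G] {S : Type*} [Group S] [IsSimpleGroup S] {n : ℕ}
    (e : G ≃* (Fin n → S)) (H : Subgroup G) (hH : H.Characteristic) : H = ⊥ ∨ H = ⊤ := by
  by_cases hb : H = ⊥
  · exact Or.inl hb
  right
  have hchar : (H.map e.toMonoidHom).Characteristic := by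
    rw [Subgroup.characteristic_iff_le_comap]
    intro ψ x hx
    obtain ⟨g, hg, rfl⟩ := hx
    rw [Subgroup.mem_comap]
    let φ : G ≃* G := e.trans (ψ.trans e.symm)
    have hφ : φ g ∈ H := Subgroup.characteristic_iff_le_comap.mp hH φ hg
    refine ⟨φ g, hφ, ?_⟩
    simp [φ]
  have hne : H.map e.toMonoidHom ≠ ⊥ := by
    intro h0
    apply hb
    rwa [Subgroup.map_eq_bot_iff_of_injective _ e.injective] at h0
  have htop := char_eq_top _ hchar hne
  rw [eq_top_iff]
  intro g _
  have : e g ∈ H.map e.toMonoidHom := by rw [htop]; trivial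
  obtain ⟨g', hg', hgg⟩ := this
  have : g' = g := e.injective hgg
  rwa [this] at hg'

/-- A non-trivial finite group G is characteristically simple (its only characteristic subgroups are 1 and G) if and only if G is isomorphic to a direct power S^n (n ≥ 1) of some simple group S (possibly cyclic of prime order). -/
theorem result {G : Type*} [Group G] [Finite G] [Nontrivial G] :
    (∀ H : Subgroup G, H.Characteristic → H = ⊥ ∨ H = ⊤) ↔
    ∃ (S : Type) (_ : Group S) (_ : IsSimpleGroup S) (n : ℕ), 1 ≤ n ∧ Nonempty (G ≃* (Fin n → S)) := by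
  constructor
  · exact forward
  · rintro ⟨S, hS, hsimple, n, -, ⟨e⟩⟩ H hH
    exact backward e H hH

end Cfsg.Agent.S5914
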