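import Cfsg.Statements.S5944

set_option autoImplicit false
open Cfsg

namespace Cfsg.Agent.S5944

/-- For n ≠ 4, every proper subgroup of the symmetric group S_n other than the alternating group A_n has index at least n. -/
theorem result (n : ℕ) (hn : n ≠ 4) (H : Subgroup (Equiv.Perm (Fin n))) (hH : H ≠ ⊤) (hA : H ≠ alternatingGroup (Fin n)) : n ≤ H.index := by
  by_contra hlt
  rw [not_le] at hlt
  have h0 : H.index ≠ 0 := Subgroup.index_ne_zero_of_finite
  have h1 : H.index ≠ 1 := fun h => hH (Subgroup.index_eq_one.mp h)
  have h2 : H.index ≠ 2 := fun h => hA (Equiv.Perm.eq_alternatingGroup_of_index_eq_two h)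
  have hn5 : 5 ≤ n := by omega
  have hsimple : IsSimpleGroup (alternatingGroup (Fin n)) :=
    alternatingGroup.isSimpleGroup (by simpa using hn5)
  have hNH : H.normalCore ≤ H := Subgroup.normalCore_le H
  have hNidx : H.normalCore.index ∣ (H.index).factorial := by
    rw [Subgroup.normalCore_eq_ker, Subgroup.index_ker, Subgroup.index_eq_card, ← Nat.card_perm]
    exact Subgroup.card_subgroup_dvd_card _
  have hNn : H.normalCore.Normal := Subgroup.normalCore_normal H
  have hN'n : (H.normalCore.subgroupOf (alternatingGroup (Fin n))).Normal := inferInstance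
  have : Nontrivial (Fin n) := Fin.nontrivial_iff_two_le.mpr (by omega)
  rcases hsimple.eq_bot_or_eq_top_of_normal _ hN'n with hbot | htop
  · rw [Subgroup.subgroupOf_eq_bot] at hbot
    have hcard : Nat.card H.normalCore ∣ 2 := by
      have h3 := Subgroup.relIndex_dvd_index_of_normal (alternatingGroup (Fin n)) H.normalCore
      rw [alternatingGroup.index_eq_two, ← Subgroup.inf_relIndex_right, inf_comm,
        hbot.eq_bot, Subgroup.relIndex_bot_left] at h3
      exact h3
    have hcard2 : Nat.card H.normalCore ≤ 2 := Nat.le_of_dvd (by norm_num) hcard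
    have hmul := Subgroup.index_mul_card H.normalCore
    rw [Nat.card_perm, Nat.card_fin] at hmul
    have hle1 : H.normalCore.index ≤ (H.index).factorial :=
      Nat.le_of_dvd (Nat.factorial_pos _) hNidx
    have hle2 : (H.index).factorial ≤ (n - 1).factorial :=
      Nat.factorial_le (by omega)
    have hfac : n.factorial = n * (n - 1).factorial := by
      obtain ⟨m, rfl⟩ : ∃ m, n = m + 1 := ⟨n - 1, by omega⟩
      simp [Nat.factorial_succ]
    have hpos : 0 < (n - 1).factorial := Nat.factorial_pos _
    have : n * (n - 1).factorial ≤ (n - 1).factorial * 2 := by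
      rw [← hfac, ← hmul]
      exact Nat.mul_le_mul (hle1.trans hle2) hcard2
    nlinarith
  · have hle : alternatingGroup (Fin n) ≤ H.normalCore := Subgroup.subgroupOf_eq_top.mp htop
    have h3 : H.index ∣ (alternatingGroup (Fin n)).index := Subgroup.index_dvd_of_le (hle.trans hNH)
    rw [alternatingGroup.index_eq_two] at h3
    have := Nat.le_of_dvd (by norm_num) h3
    omega

end Cfsg.Agent.S5944
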