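import Cfsg.Statements.S5947

set_option autoImplicit false
open Cfsg

namespace Cfsg.Agent.S5947

open Module Polynomial

set_option linter.unusedSectionVars false
set_option linter.unusedVariables false
set_option linter.style.haveILetI false

universe u v

section General
variable {F : Type u} [Field F] {V : Type v} [AddCommGroup V] [Module F V]


/-- restriction of a subgroup of units of End to an invariant submodule -/
noncomputable def restrictHom (U : Subgroup (Module.End F V)ˣ) (W : Submodule F V)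
    (hW : ∀ u ∈ U, ∀ w ∈ W, (u : Module.End F V) w ∈ W) : U →* (Module.End F W)ˣ :=
  MonoidHom.toHomUnits
    { toFun := fun u => ((u.1 : (Module.End F V)ˣ) : Module.End F V).restrict (hW u.1 u.2)
      map_one' := by ext; simp
      map_mul' := fun a b => by ext; simp }

theorem restrictHom_apply (U : Subgroup (Module.End F V)ˣ) (W : Submodule F V)
    (hW : ∀ u ∈ U, ∀ w ∈ W, (u : Module.End F V) w ∈ W) (u : U) (w : W) :
    (((restrictHom U W hW u : (Module.End F W)ˣ) : Module.End F W) w : V) =
      ((u.1 : (Module.End F V)ˣ) : Module.End F V) w := by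
  simp [restrictHom, MonoidHom.toHomUnits]

theorem unit_apply_ne_zero (u : (Module.End F V)ˣ) (v : V) (hv : v ≠ 0) : (u : Module.End F V) v ≠ 0 := by
  intro h
  apply hv
  have h2 : ((u⁻¹ : (Module.End F V)ˣ) : Module.End F V) ((u : Module.End F V) v) = v := by
    rw [← Module.End.mul_apply, Units.inv_mul, Module.End.one_apply]
  rw [h, map_zero] at h2
  exact h2.symm

/-- orbit map -/
def orbitMap (U : Subgroup (Module.End F V)ˣ) (v : V) (hv : v ≠ 0) : U → {x : V // x ≠ 0} :=
  fun u => ⟨((u.1 : (Module.End F V)ˣ) : Module.End F V) v, unit_apply_ne_zero u.1 v hv⟩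

theorem orbitMap_injective (U : Subgroup (Module.End F V)ˣ) (v : V) (hv : v ≠ 0)
    (hfree : ∀ u ∈ U, (u : Module.End F V) v = v → u = 1) : Function.Injective (orbitMap U v hv) := by
  intro a b hab
  have hab' : ((a.1 : (Module.End F V)ˣ) : Module.End F V) v = ((b.1 : (Module.End F V)ˣ) : Module.End F V) v :=
    congrArg Subtype.val hab
  have h3 : ((b.1⁻¹ * a.1 : (Module.End F V)ˣ) : Module.End F V) v = v := by
    rw [Units.val_mul, Module.End.mul_apply, hab', ← Module.End.mul_apply, Units.inv_mul, Module.End.one_apply]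
  have h4 := hfree (b.1⁻¹ * a.1) (U.mul_mem (U.inv_mem b.2) a.2) h3
  have : a.1 = b.1 := by
    have := congrArg (fun x => b.1 * x) h4
    simpa using this
  exact Subtype.ext this

theorem card_nonzero [Finite V] : Nat.card {x : V // x ≠ 0} = Nat.card V - 1 := by
  classical
  have := Fintype.ofFinite V
  rw [Nat.card_eq_fintype_card, Nat.card_eq_fintype_card, Fintype.card_subtype_compl, Fintype.card_subtype_eq]

theorem card_le_of_free [Finite V] (U : Subgroup (Module.End F V)ˣ) (v : V) (hv : v ≠ 0)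
    (hfree : ∀ u ∈ U, (u : Module.End F V) v = v → u = 1) : Nat.card U + 1 ≤ Nat.card V := by
  have h1 := Nat.card_le_card_of_injective _ (orbitMap_injective U v hv hfree)
  rw [card_nonzero] at h1
  have h3 : 0 < Nat.card V := Nat.card_pos
  omega

theorem trans_of_free [Finite V] (U : Subgroup (Module.End F V)ˣ) (v : V) (hv : v ≠ 0)
    (hfree : ∀ u ∈ U, (u : Module.End F V) v = v → u = 1) (hcard : Nat.card U = Nat.card V - 1) :
    ∀ x : V, x ≠ 0 → ∃ u ∈ U, (u : Module.End F V) v = x := by
  have hbij := (orbitMap_injective U v hv hfree).bijective_of_nat_card_le (by rw [card_nonzero, hcard])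
  intro x hx
  obtain ⟨u, hu⟩ := hbij.2 ⟨x, hx⟩
  exact ⟨u.1, u.2, congrArg Subtype.val hu⟩

theorem isCoprime_geom (m : ℕ) (hm : (m : F) ≠ 0) :
    IsCoprime (X - C (1 : F)) (∑ i ∈ Finset.range m, (X : F[X]) ^ i) := by
  rw [(irreducible_X_sub_C (1 : F)).coprime_iff_not_dvd, Polynomial.dvd_iff_isRoot]
  simp [IsRoot, eval_finsetSum, hm]

theorem isCompl_of_pow_eq_one (g : Module.End F V) (m : ℕ) (hm : (m : F) ≠ 0) (hg : g ^ m = 1) :
    IsCompl (LinearMap.ker (aeval g (X - C (1 : F)))) (LinearMap.ker (aeval g (∑ i ∈ Finset.range m, (X : F[X]) ^ i))) := by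
  have hco := isCoprime_geom (F := F) m hm
  refine ⟨disjoint_ker_aeval_of_isCoprime g hco, ?_⟩
  rw [codisjoint_iff, sup_ker_aeval_eq_ker_aeval_mul_of_coprime g hco]
  have : (X - C (1 : F)) * (∑ i ∈ Finset.range m, (X : F[X]) ^ i) = X ^ m - 1 := by
    rw [C_1, mul_comm, geom_sum_mul]
  rw [this]
  simp [hg]

theorem ker_aeval_invariant (g u : Module.End F V) (hc : Commute u g) (P : F[X]) (w : V)
    (hw : w ∈ LinearMap.ker (aeval g P)) : u w ∈ LinearMap.ker (aeval g P) := by
  have h : Commute u (aeval g P) := by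
    clear hw
    induction P using Polynomial.induction_on' with
    | add p q hp hq => rw [map_add]; exact hp.add_right hq
    | monomial n a =>
      rw [aeval_monomial]
      exact (Algebra.commute_algebraMap_right _ _).mul_right (hc.pow_right n)
  rw [LinearMap.mem_ker] at hw ⊢
  have := congrArg (fun e : Module.End F V => e w) h.eq
  simp only [Module.End.mul_apply] at this
  rw [← this, hw, map_zero]

/-- The statement `P m` of the induction. -/
def Bound (F : Type u) [Field F] (p m : ℕ) : Prop :=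
  ∀ (W : Type v) [AddCommGroup W] [Module F W] [Module.Finite F W] (U : Subgroup (Module.End F W)ˣ),
    finrank F W = m → 1 ≤ m → (∀ a ∈ U, ∀ b ∈ U, a * b = b * a) → (Nat.card U).Coprime p →
    Nat.card U + 1 ≤ Nat.card F ^ m

theorem card_le_mul_of_isCompl [Finite F] (U : Subgroup (Module.End F V)ˣ) [Module.Finite F V]
    (W W' : Submodule F V) (hc : IsCompl W W')
    (hW : ∀ u ∈ U, ∀ w ∈ W, (u : Module.End F V) w ∈ W)
    (hW' : ∀ u ∈ U, ∀ w ∈ W', (u : Module.End F V) w ∈ W') :
    Nat.card U ≤ Nat.card (restrictHom U W hW).range * Nat.card (restrictHom U W' hW').range := by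
  have : Finite V := Module.finite_of_finite F
  have : Finite (Module.End F V) := Module.finite_of_finite F
  rw [← Nat.card_prod]
  have : Finite (Module.End F W)ˣ := by
    have : Finite (Module.End F W) := Module.finite_of_finite F
    infer_instance
  have : Finite (Module.End F W')ˣ := by
    have : Finite (Module.End F W') := Module.finite_of_finite F
    infer_instance
  refine Nat.card_le_card_of_injective
    (fun u : U => ((⟨restrictHom U W hW u, ⟨u, rfl⟩⟩, ⟨restrictHom U W' hW' u, ⟨u, rfl⟩⟩) :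
      (restrictHom U W hW).range × (restrictHom U W' hW').range)) ?_
  intro a b hab
  have h1 : restrictHom U W hW a = restrictHom U W hW b := congrArg (fun x => (x.1 : (Module.End F W)ˣ)) hab
  have h2 : restrictHom U W' hW' a = restrictHom U W' hW' b := congrArg (fun x => (x.2 : (Module.End F W')ˣ)) hab
  apply Subtype.ext
  apply Units.ext
  apply LinearMap.ext
  intro x
  have hx : x ∈ W ⊔ W' := by rw [hc.sup_eq_top]; trivial
  obtain ⟨w, hw, w', hw', rfl⟩ := Submodule.mem_sup.mp hx
  rw [map_add, map_add]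
  congr 1
  · have := restrictHom_apply U W hW a ⟨w, hw⟩
    rw [← this, h1, restrictHom_apply]
  · have := restrictHom_apply U W' hW' a ⟨w', hw'⟩
    rw [← this, h2, restrictHom_apply]

theorem range_bound [Finite F] (p : ℕ) (U : Subgroup (Module.End F V)ˣ) [Module.Finite F V]
    (hcomm : ∀ a ∈ U, ∀ b ∈ U, a * b = b * a) (hcop : (Nat.card U).Coprime p)
    (W : Submodule F V) (hW : ∀ u ∈ U, ∀ w ∈ W, (u : Module.End F V) w ∈ W)
    (m : ℕ) (hm : finrank F W = m) (hm1 : 1 ≤ m) (hB : Bound.{u, v} F p m) :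
    Nat.card (restrictHom U W hW).range + 1 ≤ Nat.card F ^ m := by
  have : Finite (Module.End F V) := Module.finite_of_finite F
  refine hB W (restrictHom U W hW).range hm hm1 ?_ ?_
  · rintro _ ⟨a, rfl⟩ _ ⟨b, rfl⟩
    rw [← map_mul, ← map_mul]
    congr 1
    exact Subtype.ext (hcomm a.1 a.2 b.1 b.2)
  · exact Nat.Coprime.coprime_dvd_left (Subgroup.card_range_dvd _) hcop

theorem bound_step [Finite F] (p : ℕ) [CharP F p] (n : ℕ) (IH : ∀ m < n, Bound.{u, v} F p m)
    [Module.Finite F V] (hVn : finrank F V = n) (U : Subgroup (Module.End F V)ˣ)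
    (hcomm : ∀ a ∈ U, ∀ b ∈ U, a * b = b * a) (hcop : (Nat.card U).Coprime p)
    (g : (Module.End F V)ˣ) (hgU : g ∈ U) (hg1 : g ≠ 1) (v : V) (hv : v ≠ 0)
    (hgv : (g : Module.End F V) v = v) :
    ∃ a b : ℕ, 1 ≤ a ∧ 1 ≤ b ∧ a + b = n ∧ Nat.card U + 1 ≤ (Nat.card F ^ a - 1) * (Nat.card F ^ b - 1) + 1 := by
  have hfinE : Finite (Module.End F V) := Module.finite_of_finite F
  set m := orderOf g with hm
  have hmU : m ∣ Nat.card U := by
    have : orderOf (⟨g, hgU⟩ : U) = m := by
      rw [hm]; exact Subgroup.orderOf_mk g hgU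
    rw [← this]
    exact orderOf_dvd_natCard _
  have hmF : (m : F) ≠ 0 := by
    intro h0
    rw [CharP.cast_eq_zero_iff F p] at h0
    have h1 : p ∣ Nat.gcd (Nat.card U) p := Nat.dvd_gcd (h0.trans hmU) dvd_rfl
    rw [hcop] at h1
    have hp : p.Prime := by
      rcases CharP.char_is_prime_or_zero F p with h | h
      · exact h
      · exfalso
        have : Fintype F := Fintype.ofFinite F
        have := CharP.char_ne_zero_of_finite F p
        exact this h
    exact hp.one_lt.ne' (Nat.dvd_one.mp h1)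
  have hgm : (g : Module.End F V) ^ m = 1 := by
    rw [← Units.val_pow_eq_pow_val, hm, pow_orderOf_eq_one, Units.val_one]
  have hc := isCompl_of_pow_eq_one (g : Module.End F V) m hmF hgm
  set W := LinearMap.ker (aeval (g : Module.End F V) (X - C (1 : F))) with hWdef
  set W' := LinearMap.ker (aeval (g : Module.End F V) (∑ i ∈ Finset.range m, (X : F[X]) ^ i)) with hW'def
  have hW : ∀ u ∈ U, ∀ w ∈ W, (u : Module.End F V) w ∈ W := fun u hu w hw =>
    ker_aeval_invariant _ _ (by
      have := hcomm u hu g hgU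
      exact congrArg Units.val this) _ w hw
  have hW' : ∀ u ∈ U, ∀ w ∈ W', (u : Module.End F V) w ∈ W' := fun u hu w hw =>
    ker_aeval_invariant _ _ (by
      have := hcomm u hu g hgU
      exact congrArg Units.val this) _ w hw
  have hvW : v ∈ W := by
    rw [hWdef, LinearMap.mem_ker]
    simp [hgv]
  have hWbot : W ≠ ⊥ := fun h => hv (by rw [h] at hvW; exact (Submodule.mem_bot F).mp hvW)
  have hWtop : W ≠ ⊤ := by
    intro h
    apply hg1
    apply Units.ext
    apply LinearMap.ext
    intro x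
    have hx : x ∈ W := by rw [h]; trivial
    rw [hWdef, LinearMap.mem_ker] at hx
    simp at hx
    rw [Units.val_one, Module.End.one_apply]
    exact sub_eq_zero.mp hx
  have hdim := Submodule.finrank_add_eq_of_isCompl hc
  rw [hVn] at hdim
  have ha1 : 1 ≤ finrank F W := by
    rw [Nat.one_le_iff_ne_zero, Ne, Submodule.finrank_eq_zero]
    exact hWbot
  have hb1 : 1 ≤ finrank F W' := by
    rw [Nat.one_le_iff_ne_zero, Ne, Submodule.finrank_eq_zero]
    intro h
    apply hWtop
    have := hc.sup_eq_top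
    rw [h, sup_bot_eq] at this
    exact this
  refine ⟨finrank F W, finrank F W', ha1, hb1, hdim, ?_⟩
  have h1 := range_bound p U hcomm hcop W hW _ rfl ha1 (IH _ (by omega))
  have h2 := range_bound p U hcomm hcop W' hW' _ rfl hb1 (IH _ (by omega))
  have h3 := card_le_mul_of_isCompl U W W' hc hW hW'
  have h4 : Nat.card (restrictHom U W hW).range ≤ Nat.card F ^ finrank F W - 1 := by omega
  have h5 : Nat.card (restrictHom U W' hW').range ≤ Nat.card F ^ finrank F W' - 1 := by omega
  have := Nat.mul_le_mul h4 h5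
  omega

theorem arith1 (x y : ℕ) (hx : 1 ≤ x) (hy : 1 ≤ y) : (x - 1) * (y - 1) + 1 ≤ x * y := by
  obtain ⟨x', rfl⟩ : ∃ x', x = x' + 1 := ⟨x - 1, by omega⟩
  obtain ⟨y', rfl⟩ : ∃ y', y = y' + 1 := ⟨y - 1, by omega⟩
  simp only [Nat.add_sub_cancel]
  nlinarith

theorem arith2 (x y : ℕ) (hx : 2 ≤ x) (hy : 2 ≤ y) : (x - 1) * (y - 1) + 1 < x * y - 1 + 1 := by
  obtain ⟨x', rfl⟩ : ∃ x', x = x' + 2 := ⟨x - 2, by omega⟩
  obtain ⟨y', rfl⟩ : ∃ y', y = y' + 2 := ⟨y - 2, by omega⟩
  have h1 : x' + 2 - 1 = x' + 1 := by omega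
  have h2 : y' + 2 - 1 = y' + 1 := by omega
  have h3 : 1 ≤ (x' + 2) * (y' + 2) := by nlinarith
  rw [h1, h2, Nat.sub_add_cancel h3]
  nlinarith

theorem bound_all [Finite F] (p : ℕ) [CharP F p] : ∀ n, Bound.{u, v} F p n := by
  intro n
  induction n using Nat.strong_induction_on with
  | _ n IH =>
    intro W _ _ _ U hWn hn1 hcomm hcop
    by_cases hfree : ∀ u ∈ U, ∀ v : W, v ≠ 0 → (u : Module.End F W) v = v → u = 1
    · have : Nontrivial W := finrank_pos_iff.mp (by rw [hWn]; omega)
      obtain ⟨v, hv⟩ := exists_ne (0 : W)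
      have : Finite W := Module.finite_of_finite F
      have h1 := card_le_of_free U v hv (fun u hu => hfree u hu v hv)
      rw [Module.natCard_eq_pow_finrank (K := F) (V := W), hWn] at h1
      exact h1
    · push Not at hfree
      obtain ⟨g, hgU, v, hv, hgv, hg1⟩ := hfree
      obtain ⟨a, b, ha, hb, hab, h⟩ := bound_step p n IH hWn U hcomm hcop g hgU hg1 v hv hgv
      have hq : 1 ≤ Nat.card F := Nat.card_pos
      have := arith1 (Nat.card F ^ a) (Nat.card F ^ b) (Nat.one_le_pow _ _ hq) (Nat.one_le_pow _ _ hq)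
      rw [← pow_add, hab] at this
      omega

theorem free_of_card [Finite F] (p : ℕ) [CharP F p] (n : ℕ)
    [Module.Finite F V] (hVn : finrank F V = n) (U : Subgroup (Module.End F V)ˣ)
    (hcomm : ∀ a ∈ U, ∀ b ∈ U, a * b = b * a) (hcard : Nat.card U = Nat.card F ^ n - 1)
    (hp : p.Prime) (hn : 1 ≤ n)
    (g : (Module.End F V)ˣ) (hgU : g ∈ U) (v : V) (hv : v ≠ 0)
    (hgv : (g : Module.End F V) v = v) : g = 1 := by
  by_contra hg1
  have hpq : p ∣ Nat.card F := by
    have : Fintype F := Fintype.ofFinite F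
    rw [Nat.card_eq_fintype_card]
    rw [← CharP.cast_eq_zero_iff F p]
    exact Nat.cast_card_eq_zero F
  have hq2 : 2 ≤ Nat.card F := le_trans hp.two_le (Nat.le_of_dvd Nat.card_pos hpq)
  have hcop : (Nat.card U).Coprime p := by
    rw [hcard, Nat.coprime_comm, Nat.Prime.coprime_iff_not_dvd hp]
    intro h
    have h1 : p ∣ Nat.card F ^ n := dvd_pow hpq (by omega)
    have h2 : 1 ≤ Nat.card F ^ n := Nat.one_le_pow _ _ (by omega)
    have h3 : p ∣ Nat.card F ^ n - (Nat.card F ^ n - 1) := Nat.dvd_sub h1 h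
    have h4 : Nat.card F ^ n - (Nat.card F ^ n - 1) = 1 := by omega
    rw [h4] at h3
    exact hp.one_lt.ne' (Nat.dvd_one.mp h3)
  obtain ⟨a, b, ha, hb, hab, h⟩ := bound_step p n (fun m _ => bound_all p m) hVn U hcomm hcop g hgU hg1 v hv hgv
  have h2a : 2 ≤ Nat.card F ^ a := le_trans hq2 (Nat.le_self_pow (by omega) _)
  have h2b : 2 ≤ Nat.card F ^ b := le_trans hq2 (Nat.le_self_pow (by omega) _)
  have := arith2 _ _ h2a h2b
  rw [← pow_add, hab] at this
  omega

end General

section Singer
variable {F : Type u} {K : Type v} [Field F] [Field K] [Algebra F K]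


/-- centralizer algebra -/
def cent (U : Subgroup (Module.End F K)ˣ) : Subalgebra F (Module.End F K) :=
  Subalgebra.centralizer F ((fun u : (Module.End F K)ˣ => (u : Module.End F K)) '' (U : Set (Module.End F K)ˣ))

theorem mem_cent_iff (U : Subgroup (Module.End F K)ˣ) (a : Module.End F K) :
    a ∈ cent U ↔ ∀ u ∈ U, (u : Module.End F K) * a = a * (u : Module.End F K) := by
  unfold cent
  rw [Subalgebra.mem_centralizer_iff]
  constructor
  · intro h u hu
    exact h _ ⟨u, hu, rfl⟩
  · rintro h _ ⟨u, hu, rfl⟩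
    exact h u hu

variable (U : Subgroup (Module.End F K)ˣ) (hcomm : ∀ a ∈ U, ∀ b ∈ U, a * b = b * a)
  (htrans : ∀ x : K, x ≠ 0 → ∃ u ∈ U, (u : Module.End F K) 1 = x)


include hcomm in
theorem unit_mem_cent (u : (Module.End F K)ˣ) (hu : u ∈ U) : (u : Module.End F K) ∈ cent U := by
  rw [mem_cent_iff]
  intro w hw
  have := hcomm w hw u hu
  exact congrArg Units.val this

include htrans in
theorem eq_zero_of_apply_one (a : Module.End F K) (ha : a ∈ cent U) (h1 : a 1 = 0) : a = 0 := by
  apply LinearMap.ext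
  intro x
  by_cases hx : x = 0
  · rw [hx, map_zero, map_zero]
  · obtain ⟨u, hu, rfl⟩ := htrans x hx
    have h := (mem_cent_iff U a).mp ha u hu
    have h2 := LinearMap.congr_fun h (1 : K)
    rw [Module.End.mul_apply, Module.End.mul_apply] at h2
    rw [← h2, h1, map_zero, LinearMap.zero_apply]

include hcomm htrans in
theorem exists_unit_of_ne_zero (a : Module.End F K) (ha : a ∈ cent U) (h0 : a ≠ 0) :
    ∃ u ∈ U, (u : Module.End F K) = a := by
  have h1 : a 1 ≠ 0 := fun h => h0 (eq_zero_of_apply_one U htrans a ha h)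
  obtain ⟨u, hu, hu1⟩ := htrans _ h1
  refine ⟨u, hu, ?_⟩
  have hmem : a - (u : Module.End F K) ∈ cent U := (cent U).sub_mem ha (unit_mem_cent U hcomm u hu)
  have := eq_zero_of_apply_one U htrans _ hmem (by rw [LinearMap.sub_apply, hu1, sub_self])
  exact (sub_eq_zero.mp this).symm

include hcomm htrans in
theorem cent_isField : IsField (cent U) := by
  refine ⟨⟨0, 1, ?_⟩, ?_, ?_⟩
  · intro h
    have h2 : ((0 : cent U) : Module.End F K) (1 : K) = ((1 : cent U) : Module.End F K) 1 := by rw [h]
    simp at h2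
  · intro a b
    by_cases ha : a = 0
    · rw [ha, zero_mul, mul_zero]
    by_cases hb : b = 0
    · rw [hb, zero_mul, mul_zero]
    obtain ⟨u, hu, hua⟩ := exists_unit_of_ne_zero U hcomm htrans a.1 a.2 (fun h => ha (Subtype.ext h))
    obtain ⟨w, hw, hwb⟩ := exists_unit_of_ne_zero U hcomm htrans b.1 b.2 (fun h => hb (Subtype.ext h))
    apply Subtype.ext
    rw [Subalgebra.coe_mul, Subalgebra.coe_mul, ← hua, ← hwb, ← Units.val_mul, ← Units.val_mul, hcomm u hu w hw]
  · intro a ha
    obtain ⟨u, hu, hua⟩ := exists_unit_of_ne_zero U hcomm htrans a.1 a.2 (fun h => ha (Subtype.ext h))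
    refine ⟨⟨((u⁻¹ : (Module.End F K)ˣ) : Module.End F K), unit_mem_cent U hcomm _ (U.inv_mem hu)⟩, ?_⟩
    apply Subtype.ext
    rw [Subalgebra.coe_mul, Subalgebra.coe_one, ← hua]
    exact Units.mul_inv u

/-- evaluation at 1 -/
def ev : cent U →ₗ[F] K where
  toFun a := (a : Module.End F K) 1
  map_add' a b := by simp
  map_smul' c a := by simp

include hcomm htrans in
theorem ev_bijective : Function.Bijective (ev U) := by
  constructor
  · have := @LinearMap.ker_eq_bot F F (cent U) K _ _ _ _ _ _ (RingHom.id F) (ev U)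
    refine this.mp ?_
    rw [LinearMap.ker_eq_bot']
    intro a ha
    exact Subtype.ext (eq_zero_of_apply_one U htrans a.1 a.2 ha)
  · intro x
    by_cases hx : x = 0
    · exact ⟨0, by rw [hx, map_zero]⟩
    · obtain ⟨u, hu, hu1⟩ := htrans x hx
      exact ⟨⟨u, unit_mem_cent U hcomm u hu⟩, hu1⟩

include hcomm htrans in
theorem exists_algEquiv [Finite K] : ∃ ψ : cent U →ₐ[F] K, Function.Bijective ψ := by
  have hfield := cent_isField U hcomm htrans
  letI : Field (cent U) := hfield.toField
  have : Fintype K := Fintype.ofFinite K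
  have : Finite (cent U) := Finite.of_injective _ (ev_bijective U hcomm htrans).1
  have : Fintype (cent U) := Fintype.ofFinite _
  have hcard : Fintype.card (cent U) = Fintype.card K :=
    Fintype.card_of_bijective (ev_bijective U hcomm htrans)
  have h1 : IsSplittingField F (cent U) (X ^ Fintype.card K - X) := by
    rw [← hcard]
    exact FiniteField.isSplittingField_sub (cent U) F
  have h2 : IsSplittingField F K (X ^ Fintype.card K - X) := FiniteField.isSplittingField_sub K F
  let ψ : cent U ≃ₐ[F] K := (IsSplittingField.algEquiv (cent U) (X ^ Fintype.card K - X : F[X])).trans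
    (IsSplittingField.algEquiv K (X ^ Fintype.card K - X : F[X])).symm
  exact ⟨ψ.toAlgHom, ψ.bijective⟩

include hcomm htrans in
theorem conj_eq_singer [Finite K] :
    ∃ g : (Module.End F K)ˣ, U.map (MulAut.conj g).toMonoidHom =
      (Units.map ((Algebra.lmul F K : K →ₐ[F] Module.End F K) : K →* Module.End F K)).range := by
  obtain ⟨ψ, hψ⟩ := exists_algEquiv U hcomm htrans
  have hev := ev_bijective U hcomm htrans
  let e : cent U ≃ₗ[F] K := LinearEquiv.ofBijective (ev U) hev
  let ψ' : cent U ≃ₗ[F] K := LinearEquiv.ofBijective ψ.toLinearMap hψ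
  let g : K ≃ₗ[F] K := e.symm.trans ψ'
  have he : ∀ a : cent U, e a = (a : Module.End F K) 1 := fun a => rfl
  have hψ' : ∀ a : cent U, ψ' a = ψ a := fun a => rfl
  have key : ∀ (a : cent U) (x : K), g ((a : Module.End F K) x) = ψ a * g x := by
    intro a x
    obtain ⟨b, rfl⟩ := e.surjective x
    have h1 : (a : Module.End F K) (e b) = e (a * b) := by
      rw [he, he, Subalgebra.coe_mul, Module.End.mul_apply]
    rw [h1]
    change ψ' (e.symm (e (a * b))) = ψ a * ψ' (e.symm (e b))
    rw [LinearEquiv.symm_apply_apply, LinearEquiv.symm_apply_apply, hψ', hψ', map_mul]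
  let G : (Module.End F K)ˣ := LinearMap.GeneralLinearGroup.ofLinearEquiv g
  have hG : ∀ x, (G : Module.End F K) x = g x := fun x => rfl
  have hGinv : ∀ x, ((G⁻¹ : (Module.End F K)ˣ) : Module.End F K) x = g.symm x := fun x => rfl
  have key2 : ∀ (u : (Module.End F K)ˣ) (hu : u ∈ U) (k : Kˣ), ψ ⟨u, unit_mem_cent U hcomm u hu⟩ = k →
      (MulAut.conj G).toMonoidHom u =
      Units.map ((Algebra.lmul F K : K →ₐ[F] Module.End F K) : K →* Module.End F K) k := by
    intro u hu k hk
    apply Units.ext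
    apply LinearMap.ext
    intro y
    have := key ⟨u, unit_mem_cent U hcomm u hu⟩ (g.symm y)
    rw [LinearEquiv.apply_symm_apply, hk] at this
    simp only [MulEquiv.toMonoidHom_eq_coe, MonoidHom.coe_coe, MulAut.conj_apply, Units.val_mul,
      Module.End.mul_apply, hG, hGinv]
    rw [this]
    simp
  refine ⟨G, le_antisymm ?_ ?_⟩
  · rintro _ ⟨u, hu, rfl⟩
    have hne : ψ ⟨u, unit_mem_cent U hcomm u hu⟩ ≠ 0 := by
      intro h
      have h2 := hψ.1 (h.trans (map_zero ψ).symm)
      have h3 : (u : Module.End F K) = 0 := congrArg Subtype.val h2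
      exact u.ne_zero h3
    exact ⟨Units.mk0 _ hne, (key2 u hu (Units.mk0 _ hne) rfl).symm⟩
  · rintro _ ⟨k, rfl⟩
    obtain ⟨a, ha⟩ := hψ.2 (k : K)
    have ha0 : (a : Module.End F K) ≠ 0 := by
      intro h
      have : a = 0 := Subtype.ext h
      rw [this, map_zero] at ha
      exact k.ne_zero ha.symm
    obtain ⟨u, hu, hua⟩ := exists_unit_of_ne_zero U hcomm htrans a.1 a.2 ha0
    refine ⟨u, hu, ?_⟩
    refine key2 u hu k ?_
    rw [← ha]
    congr 1
    exact Subtype.ext hua

end Singer


/-- Let F ⊆ K be finite fields with |F| = q and [K : F] = n ≥ 2, regard K as an n-dimensional F-vector space, and let M ≤ GL_F(K) be the Singer group of multiplications by non-zero elements of K (cyclic of order q^n − 1). Assume (n, q) ≠ (6, 2), and that it is not the case that n = 2 with q a prime such that q + 1 is a power of 2. Then every abelian subgroup of GL_F(K) of order q^n − 1 is conjugate to M. -/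
theorem result {F K : Type*} [Field F] [Fintype F] [Field K] [Fintype K] [Algebra F K] (n : ℕ) (hn : 2 ≤ n) (hdim : Module.finrank F K = n)
    (hex1 : ¬ (n = 6 ∧ Fintype.card F = 2))
    (hex2 : ¬ (n = 2 ∧ (Fintype.card F).Prime ∧ ∃ a : ℕ, Fintype.card F + 1 = 2 ^ a))
    (U : Subgroup (Module.End F K)ˣ) (hU : IsMulCommutative U) (hcard : Nat.card U = Fintype.card K - 1) :
    ∃ g : (Module.End F K)ˣ, U.map (MulAut.conj g).toMonoidHom = (Units.map ((Algebra.lmul F K : K →ₐ[F] Module.End F K) : K →* Module.End F K)).range := by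
  have hcomm : ∀ a ∈ U, ∀ b ∈ U, a * b = b * a := by
    intro a ha b hb
    have := hU.is_comm.comm (⟨a, ha⟩ : U) ⟨b, hb⟩
    exact congrArg Subtype.val this
  have hcharp : CharP F (ringChar F) := ringChar.charP F
  have hp : (ringChar F).Prime := CharP.char_is_prime F (ringChar F)
  have hfin : Module.Finite F K := Module.Finite.of_finite
  have hcardK : Nat.card K = Nat.card F ^ n := by
    rw [Module.natCard_eq_pow_finrank (K := F) (V := K), hdim]
  have hcard' : Nat.card U = Nat.card F ^ n - 1 := by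
    rw [hcard, ← hcardK, Nat.card_eq_fintype_card]
  have hfree : ∀ g ∈ U, ∀ v : K, v ≠ 0 → (g : Module.End F K) v = v → g = 1 :=
    fun g hg v hv hgv => free_of_card (ringChar F) n hdim U hcomm hcard' hp (by omega) g hg v hv hgv
  have htrans : ∀ x : K, x ≠ 0 → ∃ u ∈ U, (u : Module.End F K) 1 = x :=
    trans_of_free U 1 one_ne_zero (fun u hu h => hfree u hu 1 one_ne_zero h)
      (by rw [hcard, Nat.card_eq_fintype_card])
  exact conj_eq_singer U hcomm htrans

end Cfsg.Agent.S5947
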