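import Cfsg.Statements.S5952

set_option autoImplicit false
open Cfsg

namespace Cfsg.Agent.S5952

open Module

set_option linter.unusedSectionVars false
set_option linter.unusedVariables false

variable {F V : Type*} [Field F] [AddCommGroup V] [Module F V] [FiniteDimensional F V]

theorem exists_le_finrank (C : Submodule F V) (r : ℕ) (hr : r ≤ finrank F C) :
    ∃ C' : Submodule F V, C' ≤ C ∧ finrank F C' = r := by
  let b := Module.finBasis F C
  have hli : LinearIndependent F (fun i : Fin r => (b (Fin.castLE hr i) : V)) := by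
    have h1 : LinearIndependent F (fun i : Fin r => b (Fin.castLE hr i)) :=
      b.linearIndependent.comp _ (Fin.castLE_injective hr)
    exact h1.map' C.subtype (Submodule.ker_subtype C)
  refine ⟨Submodule.span F (Set.range (fun i : Fin r => (b (Fin.castLE hr i) : V))), ?_, ?_⟩
  · rw [Submodule.span_le]
    rintro _ ⟨i, rfl⟩
    exact (b (Fin.castLE hr i)).2
  · rw [finrank_span_eq_card hli, Fintype.card_fin]

/-- The two-subspace step. -/
theorem two_step (f : V →ₗ[F] V) (T N W : Submodule F V) (hT : T.map f ≤ T)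
    (hW : W.map f ≤ W) (hTN : Disjoint T N)
    (hirr : ∀ X : Submodule F V, X ≤ N → X.map f ≤ X → X = ⊥ ∨ X = N) (hN : N.map f ≤ N)
    (hWle : W ≤ T ⊔ N) :
    finrank F W = finrank F ↥(W ⊓ T) ∨ finrank F W = finrank F ↥(W ⊓ T) + finrank F N := by
  set X : Submodule F V := (W ⊔ T) ⊓ N with hX
  have hXN : X ≤ N := inf_le_right
  have hXinv : X.map f ≤ X := by
    rw [hX]
    refine le_inf ?_ ?_
    · calc ((W ⊔ T) ⊓ N).map f ≤ (W ⊔ T).map f := Submodule.map_mono inf_le_left
        _ = W.map f ⊔ T.map f := Submodule.map_sup _ _ _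
        _ ≤ W ⊔ T := sup_le_sup hW hT
    · exact (Submodule.map_mono inf_le_right).trans hN
  have hsup : W ⊔ T = T ⊔ X := by
    rw [hX, inf_comm, ← sup_inf_assoc_of_le N (le_sup_right : T ≤ W ⊔ T)]
    exact (inf_eq_right.mpr (sup_le hWle le_sup_left)).symm
  have hTX : T ⊓ X = ⊥ := by
    rw [eq_bot_iff]
    calc T ⊓ X ≤ T ⊓ N := inf_le_inf_left _ hXN
      _ = ⊥ := hTN.eq_bot
  have h1 := Submodule.finrank_sup_add_finrank_inf_eq W T
  have h2 := Submodule.finrank_sup_add_finrank_inf_eq T X
  rw [hTX, finrank_bot, add_zero, ← hsup] at h2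
  have h3 : finrank F W = finrank F ↥(W ⊓ T) + finrank F X := by omega
  rcases hirr X hXN hXinv with h | h
  · left
    rw [h3, h, finrank_bot, add_zero]
  · right
    rw [h3, h]

/-- The partial sums. -/
def T {s : ℕ} (U : Fin s → Submodule F V) (C' : Submodule F V) (k : ℕ) : Submodule F V :=
  C' ⊔ ⨆ j : Fin s, ⨆ (_ : (j : ℕ) < k), U j

theorem T_zero {s : ℕ} (U : Fin s → Submodule F V) (C' : Submodule F V) : T U C' 0 = C' := by
  unfold T
  simp

theorem T_succ {s : ℕ} (U : Fin s → Submodule F V) (C' : Submodule F V) (k : ℕ) (hk : k < s) :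
    T U C' (k + 1) = T U C' k ⊔ U ⟨k, hk⟩ := by
  unfold T
  rw [sup_assoc]
  congr 1
  apply le_antisymm
  · refine iSup₂_le fun j hj => ?_
    rcases Nat.lt_succ_iff_lt_or_eq.mp hj with h | h
    · exact le_sup_of_le_left (le_iSup₂_of_le j h le_rfl)
    · have : j = ⟨k, hk⟩ := Fin.ext h
      rw [this]
      exact le_sup_right
  · refine sup_le (iSup₂_le fun j hj => le_iSup₂_of_le j (Nat.lt_succ_of_lt hj) le_rfl) ?_
    exact le_iSup₂_of_le (⟨k, hk⟩ : Fin s) (Nat.lt_succ_self k) le_rfl

theorem T_mono {s : ℕ} (U : Fin s → Submodule F V) (C' : Submodule F V) (k : ℕ) (hk : k < s) :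
    T U C' k ≤ T U C' (k + 1) := by
  rw [T_succ U C' k hk]
  exact le_sup_left

theorem T_inv {s : ℕ} (f : V →ₗ[F] V) (U : Fin s → Submodule F V) (hUinv : ∀ j, (U j).map f ≤ U j)
    (C' : Submodule F V) (hC' : C'.map f ≤ C') (k : ℕ) : (T U C' k).map f ≤ T U C' k := by
  unfold T
  rw [Submodule.map_sup]
  refine sup_le_sup hC' ?_
  rw [Submodule.map_iSup]
  refine iSup_mono fun j => ?_
  rw [Submodule.map_iSup]
  exact iSup_mono fun _ => hUinv j

theorem T_disjoint {s : ℕ} (f : V →ₗ[F] V) (U : Fin s → Submodule F V)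
    (hind : iSupIndep (fun o : Option (Fin s) => o.elim (Module.End.eigenspace f 1) U))
    (C' : Submodule F V) (hC' : C' ≤ Module.End.eigenspace f 1) (k : ℕ) (hk : k < s) :
    Disjoint (T U C' k) (U ⟨k, hk⟩) := by
  have h := hind (some ⟨k, hk⟩)
  refine (h.mono_right ?_).symm
  unfold T
  refine sup_le ?_ (iSup₂_le fun j hj => ?_)
  · exact le_iSup₂_of_le (none : Option (Fin s)) (by simp) hC'
  · refine le_iSup₂_of_le (some j) ?_ le_rfl
    intro h
    have : j = ⟨k, hk⟩ := Option.some_injective _ h
    rw [this] at hj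
    exact lt_irrefl _ hj

theorem T_top {s : ℕ} (f : V →ₗ[F] V) (U : Fin s → Submodule F V)
    (htop : iSup (fun o : Option (Fin s) => o.elim (Module.End.eigenspace f 1) U) = ⊤) :
    T U (Module.End.eigenspace f 1) s = ⊤ := by
  rw [eq_top_iff, ← htop]
  refine iSup_le fun o => ?_
  unfold T
  cases o with
  | none => exact le_sup_left
  | some j => exact le_sup_of_le_right (le_iSup₂_of_le j j.2 le_rfl)

theorem T_finrank {s a : ℕ} (f : V →ₗ[F] V) (U : Fin s → Submodule F V)
    (hUdim : ∀ j, Module.finrank F ↥(U j) = a)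
    (hind : iSupIndep (fun o : Option (Fin s) => o.elim (Module.End.eigenspace f 1) U))
    (C' : Submodule F V) (hC' : C' ≤ Module.End.eigenspace f 1) (k : ℕ) (hk : k ≤ s) :
    finrank F ↥(T U C' k) = finrank F C' + k * a := by
  induction k with
  | zero => rw [T_zero, Nat.zero_mul, add_zero]
  | succ k ih =>
    have hk' : k < s := hk
    rw [T_succ U C' k hk']
    have h := Submodule.finrank_sup_add_finrank_inf_eq (T U C' k) (U ⟨k, hk'⟩)
    rw [(T_disjoint f U hind C' hC' k hk').eq_bot, finrank_bot, add_zero, ih hk'.le, hUdim] at h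
    rw [h]
    ring

theorem eig_inv (f : V →ₗ[F] V) (C' : Submodule F V) (hC' : C' ≤ Module.End.eigenspace f 1) :
    C'.map f ≤ C' := by
  rintro _ ⟨x, hx, rfl⟩
  have := hC' hx
  rw [Module.End.mem_eigenspace_iff, one_smul] at this
  rw [this]
  exact hx

/-- Which dimensions of invariant subspaces a semisimple linear map has. Let `V` be a finite-dimensional vector space over a field `F` and `f` an invertible semisimple linear map of `V`. Suppose `V` is the internal direct sum of the fixed space `C_V(f)` (the eigenspace for 1) and subspaces `U_1, …, U_s`, each `f`-invariant of dimension `a ≥ 1` on which `f` acts irreducibly (no `f`-invariant subspaces other than 0 and `U_j`). Let `0 < m < dim V` and `ℓ = m mod a`. Then `f` leaves some `m`-dimensional subspace invariant if and only if `dim C_V(f) ≥ m`, or `a ≤ m` and `dim C_V(f) ≥ ℓ`. -/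
theorem result {F V : Type*} [Field F] [AddCommGroup V] [Module F V]
    [FiniteDimensional F V] (f : V →ₗ[F] V) (hf : Function.Bijective f) (hss : Module.End.IsSemisimple f)
    {s a : ℕ} (ha : 1 ≤ a) (U : Fin s → Submodule F V)
    (hUinv : ∀ j, (U j).map f ≤ U j) (hUdim : ∀ j, Module.finrank F ↥(U j) = a)
    (hUirr : ∀ j, ∀ W : Submodule F V, W ≤ U j → W.map f ≤ W → W = ⊥ ∨ W = U j)
    (hdec : DirectSum.IsInternal (fun o : Option (Fin s) => o.elim (Module.End.eigenspace f 1) U))
    (m : ℕ) (hm : 0 < m) (hmV : m < Module.finrank F V) :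
    (∃ W : Submodule F V, Module.finrank F ↥W = m ∧ W.map f ≤ W) ↔
    (m ≤ Module.finrank F ↥(Module.End.eigenspace f 1) ∨
      (a ≤ m ∧ m % a ≤ Module.finrank F ↥(Module.End.eigenspace f 1))) := by
  obtain ⟨hind, htop⟩ := (DirectSum.isInternal_submodule_iff_iSupIndep_and_iSup_eq_top _).mp hdec
  set C := Module.End.eigenspace f 1 with hC
  have hCinv : C.map f ≤ C := eig_inv f C le_rfl
  have hVdim : finrank F V = finrank F C + s * a := by
    have h := T_finrank f U hUdim hind C le_rfl s le_rfl
    rw [T_top f U htop, finrank_top] at h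
    exact h
  constructor
  · rintro ⟨W, hWm, hWinv⟩
    have key : ∀ k : ℕ, k ≤ s → ∃ j : ℕ, finrank F ↥(W ⊓ T U C k) = finrank F ↥(W ⊓ C) + j * a := by
      intro k
      induction k with
      | zero =>
        intro _
        exact ⟨0, by rw [T_zero, Nat.zero_mul, add_zero]⟩
      | succ k ih =>
        intro hk
        have hk' : k < s := hk
        obtain ⟨j, hj⟩ := ih hk'.le
        have hW'inv : (W ⊓ T U C (k + 1)).map f ≤ W ⊓ T U C (k + 1) := by
          refine le_inf ((Submodule.map_mono inf_le_left).trans hWinv) ?_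
          exact (Submodule.map_mono inf_le_right).trans (T_inv f U hUinv C hCinv (k + 1))
        have h := two_step f (T U C k) (U ⟨k, hk'⟩) (W ⊓ T U C (k + 1)) (T_inv f U hUinv C hCinv k)
          hW'inv (T_disjoint f U hind C le_rfl k hk') (hUirr _) (hUinv _)
          (by rw [← T_succ U C k hk']; exact inf_le_right)
        have heq : W ⊓ T U C (k + 1) ⊓ T U C k = W ⊓ T U C k := by
          rw [inf_assoc, inf_eq_right.mpr (T_mono U C k hk')]
        rw [heq, hUdim] at h
        rcases h with h | h
        · exact ⟨j, by rw [h, hj]⟩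
        · exact ⟨j + 1, by rw [h, hj]; ring⟩
    obtain ⟨j, hj⟩ := key s le_rfl
    rw [T_top f U htop, inf_top_eq, hWm] at hj
    have hi : finrank F ↥(W ⊓ C) ≤ finrank F C := Submodule.finrank_mono inf_le_right
    rcases Nat.eq_zero_or_pos j with h0 | hpos
    · left
      rw [hj, h0]
      simpa using hi
    · right
      constructor
      · rw [hj]
        calc a = 1 * a := (one_mul a).symm
          _ ≤ j * a := Nat.mul_le_mul_right a hpos
          _ ≤ _ := Nat.le_add_left _ _
      · rw [hj, Nat.add_mul_mod_self_right]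
        exact (Nat.mod_le _ _).trans hi
  · intro h
    have hr : ∃ k r : ℕ, k ≤ s ∧ r ≤ finrank F C ∧ m = r + k * a := by
      rcases h with h | ⟨h1, h2⟩
      · exact ⟨0, m, Nat.zero_le _, h, by simp⟩
      · by_cases hks : m / a ≤ s
        · exact ⟨m / a, m % a, hks, h2, by rw [mul_comm]; exact (Nat.mod_add_div m a).symm⟩
        · refine ⟨s, m - s * a, le_rfl, ?_, ?_⟩
          · omega
          · have : s * a ≤ m := by
              have h3 : s ≤ m / a := by omega
              calc s * a ≤ (m / a) * a := Nat.mul_le_mul_right a h3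
                _ ≤ m := Nat.div_mul_le_self m a
            omega
    obtain ⟨k, r, hk, hr, hmeq⟩ := hr
    obtain ⟨C', hC'le, hC'dim⟩ := exists_le_finrank C r hr
    refine ⟨T U C' k, ?_, T_inv f U hUinv C' (eig_inv f C' hC'le) k⟩
    rw [T_finrank f U hUdim hind C' hC'le k hk, hC'dim, hmeq]

end Cfsg.Agent.S5952
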