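import Cfsg.Statements.S5953
import Cfsg.Agent.Helper94.Uh.R2
import Cfsg.Agent.Helper94.Uh.Z
import Cfsg.Agent.Helper94.Uh.P_CNT
import Cfsg.Agent.Helper94.Uh.P_I2
import Cfsg.Agent.Helper94.Uh.P_I3
import Cfsg.Agent.Helper94.Uh.P_Z3

set_option autoImplicit false
open scoped MatrixGroups
open Cfsg

namespace Cfsg.Agent.S5953

open Cfsg.Agent.Helper94.Uh

theorem lhs_iff_uhyp {F : Type*} [Field F] (n q m r : ℕ) :
    (∀ x : Matrix.SpecialLinearGroup (Fin n) F, x ∈ Cfsg.SU n F q →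
      (∃ z : F, ((x ^ r : Matrix.SpecialLinearGroup (Fin n) F) : Matrix (Fin n) (Fin n) F) = z • (1 : Matrix (Fin n) (Fin n) F)) →
      (∀ z : F, (x : Matrix (Fin n) (Fin n) F) ≠ z • (1 : Matrix (Fin n) (Fin n) F)) →
      ∃ W : Submodule F (Fin n → F), Module.finrank F ↥W = m ∧ (∀ u ∈ W, ∀ v ∈ W, Cfsg.hermForm n F q u v = 0) ∧
        W.map (Matrix.toLin' (x : Matrix (Fin n) (Fin n) F)) ≤ W) ↔ UHyp F n q m r := by
  constructor
  · intro H A hA hdet hz hns
    have key : ∀ x : Matrix.SpecialLinearGroup (Fin n) F, (x : Matrix (Fin n) (Fin n) F) = A →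
        GoodU n q m A := by
      intro x hxA
      have hx : x ∈ Cfsg.SU n F q := by
        intro u v
        have := hA u v
        rw [← hxA] at this
        exact this
      obtain ⟨z, hz⟩ := hz
      have := H x hx ⟨z, by rw [Matrix.SpecialLinearGroup.coe_pow, hxA]; exact hz⟩
        (by rw [hxA]; exact hns)
      rw [hxA] at this
      exact this
    exact key ⟨A, hdet⟩ rfl
  · intro H x hx hz hns
    have hA : IsUM n q (x : Matrix (Fin n) (Fin n) F) := by
      intro u v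
      exact hx u v
    obtain ⟨z, hz⟩ := hz
    rw [Matrix.SpecialLinearGroup.coe_pow] at hz
    exact H (x : Matrix (Fin n) (Fin n) F) hA x.2 ⟨z, hz⟩ hns

theorem result {F : Type*} [Field F] [Fintype F] {p : ℕ} [Fact p.Prime] [CharP F p] {q : ℕ} (hq : Fintype.card F = q ^ 2)
    (n m : ℕ) (hn : 3 ≤ n) (hT : (n, q) ≠ (3, 2)) (hm : 1 ≤ m) (hmn : 2 * m ≤ n)
    (r : ℕ) [Fact r.Prime]
    (hrΩ : r ∣ Nat.card {W : Submodule F (Fin n → F) // Module.finrank F ↥W = m ∧ (∀ u ∈ W, ∀ v ∈ W, Cfsg.hermForm n F q u v = 0)})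
    (i b c : ℕ) (hi : i = orderOf (q : ZMod r)) (hb : b = if Even i then i / 2 else i)
    (hc : c = if i % 4 = 0 then i else if i % 4 = 2 then i / 2 else 2 * i) :
    (∀ x : Matrix.SpecialLinearGroup (Fin n) F, x ∈ Cfsg.SU n F q →
      (∃ z : F, ((x ^ r : Matrix.SpecialLinearGroup (Fin n) F) : Matrix (Fin n) (Fin n) F) = z • (1 : Matrix (Fin n) (Fin n) F)) →
      (∀ z : F, (x : Matrix (Fin n) (Fin n) F) ≠ z • (1 : Matrix (Fin n) (Fin n) F)) →
      ∃ W : Submodule F (Fin n → F), Module.finrank F ↥W = m ∧ (∀ u ∈ W, ∀ v ∈ W, Cfsg.hermForm n F q u v = 0) ∧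
        W.map (Matrix.toLin' (x : Matrix (Fin n) (Fin n) F)) ≤ W) ↔
    ((r = 2 ∧ p ≠ 2 ∧ (2 * m < n ∨ padicValNat 2 (q + 1) ≤ padicValNat 2 n)) ∨
     (r ≠ p ∧ 2 < r ∧ b ≤ m ∧ 2 * (m % b) ≤ n % c ∧
       (i % 4 ≠ 2 ∨ (i % 4 = 2 ∧ (r - 1) / b + 2 * (m / b) ≤ n / b ∧
         (2 < i ∨ (i = 2 ∧ (r ∣ m ∨ padicValNat r n ≤ padicValNat r (q + 1)))))))) := by
  rw [lhs_iff_uhyp]
  have hr : r.Prime := Fact.out
  have hp : p.Prime := Fact.out
  by_cases hrp : r = p
  · -- the characteristic does not divide the number of totally isotropic `m`-spaces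
    exfalso
    subst hrp
    exact char_not_dvd_card_uti hq m hmn r hrΩ
  by_cases hr2 : r = 2
  · -- `r = 2`
    subst hr2
    have hp2 : p ≠ 2 := fun h => hrp h.symm
    constructor
    · intro H
      left
      exact ⟨rfl, hp2, cond_two hq hp2 (by omega) hm hmn H⟩
    · rintro (⟨-, -, hcnd⟩ | ⟨-, h22, -⟩)
      · intro A hA hdet hz hns
        obtain ⟨z, hz⟩ := hz
        exact good_two hq hp2 (by omega) hmn hcnd hA hdet hz
      · omega
  -- `r` odd
  have hr3 : 2 < r := lt_of_le_of_ne hr.two_le (Ne.symm hr2)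
  have hbE : b = orderOf ((Fintype.card F : ℕ) : ZMod r) := by
    rw [hq]; exact b_eq hi hb
  have hcE : c = ublock q r b := c_eq hi hb hc
  have hsdE : SD q r ↔ i % 4 = 2 := by
    unfold SD; rw [hi]
  by_cases hrq : r ∣ q + 1
  · -- `i = 2`
    have hi2 : i = 2 := by rw [hi]; exact (orderOf_eq_two_iff hr hr2).mpr hrq
    obtain ⟨hb1, hsd⟩ := two_case hr hr2 hrq
    have hb1' : b = 1 := by rw [hbE, hq]; exact hb1
    have hc1 : c = 1 := by
      rw [hcE, hb1', ublock_sd hsd]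
    constructor
    · intro H
      right
      refine ⟨hrp, hr3, by omega, by rw [hb1', hc1, Nat.mod_one, Nat.mod_one], Or.inr ⟨by omega, ?_, Or.inr ⟨hi2, ?_⟩⟩⟩
      · rw [hb1', Nat.div_one, Nat.div_one, Nat.div_one]
        exact cond_two_of_uprop hq r hrp hr2 hrq hn hm hmn H.uprop
      · exact cond_nonpower hq r hrp hr2 hrq hm hmn H
    · rintro (⟨h2, -, -⟩ | ⟨-, -, -, -, hcnd⟩)
      · exact absurd h2 hr2
      · rcases hcnd with hcnd | ⟨-, hcnd, hcnd2⟩
        · omega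
        · rw [hb1', Nat.div_one, Nat.div_one, Nat.div_one] at hcnd
          have hcc : r ∣ m ∨ padicValNat r n ≤ padicValNat r (q + 1) := by
            rcases hcnd2 with h | ⟨-, h⟩
            · omega
            · exact h
          intro A hA hdet hz hns
          exact good_of_dvd hq r hrp hr2 hrq (by omega) hmn hcnd hcc hA hdet hz
  · -- `i ≠ 2`
    have hi2 : i ≠ 2 := by
      rw [hi]; exact fun h => hrq ((orderOf_eq_two_iff hr hr2).mp h)
    rw [uhyp_iff_uprop hq r hrq (by omega : 0 < n)]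
    constructor
    · intro H
      right
      obtain ⟨h1, h2, h3⟩ := cond_of_uprop hq r hrp hr2 hrq hm hmn H hrΩ
      rw [← hbE] at h1 h2 h3
      rw [← hcE] at h2
      refine ⟨hrp, hr3, h1, h2, ?_⟩
      by_cases h4 : i % 4 = 2
      · right
        refine ⟨h4, ?_, Or.inl (by omega)⟩
        rcases h3 with h3 | h3
        · exact absurd (hsdE.mpr h4) h3
        · exact h3
      · left; exact h4
    · rintro (⟨h2, -, -⟩ | ⟨-, -, h1, h2, hcnd⟩)
      · exact absurd h2 hr2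
      · intro A hA hdet hAr hns
        apply good_of_cond hq r hrp hr2 hA hAr m hmn
        · rw [← hbE, ← hcE]; exact h2
        · rw [← hbE]
          rcases hcnd with hcnd | ⟨-, hcnd, -⟩
          · left
            rw [hsdE]; exact hcnd
          · right; exact hcnd

end Cfsg.Agent.S5953
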