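import Cfsg.Statements.S5954
import Cfsg.Agent.Helper99.UNdB
import Cfsg.Agent.Helper45.GUBasic

set_option autoImplicit false
open scoped MatrixGroups
open Cfsg

namespace Cfsg.Agent.S5954

open Cfsg.Agent.Helper99.UNd Cfsg.Agent.Helper99.UNdGlue Cfsg.Agent.Helper99.UNdA Cfsg.Agent.Helper99.UNdB

/-- Elements of prime order of PSU_n(q) with no fixed nondegenerate `m`-space. Here `T = PSU_n(q)` (`n ≥ 3`, `(n, q) ≠ (3, 2)`), realised through the matrices of determinant 1 over the field `F` with `q²` elements preserving the Hermitian form `h(u, v) = Σ u_i v_i^q`; an element of `T` of prime order `r` is such a matrix `x` with `x^r` scalar and `x` not scalar. For `r ≠ p` let `i` be the multiplicative order of `q` modulo `r`, `b = i/2` for `i` even and `b = i` for `i` odd, `c = i, i/2, 2i` according as `i ≡ 0, 2 (mod 4)` or `i` odd, and write `k = n mod c`, `ℓ = m mod b`, `ℓ' = m mod c`, `n' = ⌊n/b⌋`, `m' = ⌊m/b⌋`, `s = (r−1)/b`; `(a)_r` is the `r`-part of `a`. Let `1 ≤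 m < n/2` and let `r` be a prime dividing the number of nondegenerate `m`-spaces. Then every element of `T` of order `r` fixes a nondegenerate `m`-space if and only if one of: (i) `r = p > 2` and every partition of `n` into parts of size at most `p` contains (as a sub-multiset) a partition of `m`; (ii) `r = p = 2` and (`n` is odd or `m` is even); (iii) `r = 2 ≠ p` and (`n` is odd, or `m` is even, or `(q+1)_2 ≥ (n)_2` and `q ≡ 3 (mod 4)`); (iv) `r ≠ p`, `r > 2`, and either `i ≠ 2`, `c ≤ m` and `k ≥ ℓ'`, or `i = 2` and (`r ∣ m` or `(q+1)_r ≥ (n)_r`). -/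
theorem result {F : Type*} [Field F] [Fintype F] {p : ℕ} [Fact p.Prime] [CharP F p] {q : ℕ} (hq : Fintype.card F = q ^ 2)
    (n m : ℕ) (hn : 3 ≤ n) (hT : (n, q) ≠ (3, 2)) (hm : 1 ≤ m) (hmn : 2 * m < n)
    (r : ℕ) [Fact r.Prime]
    (hrΩ : r ∣ Nat.card {W : Submodule F (Fin n → F) // Module.finrank F ↥W = m ∧ (∀ u ∈ W, u ≠ 0 → ∃ v ∈ W, Cfsg.hermForm n F q u v ≠ 0)})
    (i b c : ℕ) (hi : i = orderOf (q : ZMod r)) (hb : b = if Even i then i / 2 else i)
    (hc : c = if i % 4 = 0 then i else if i % 4 = 2 then i / 2 else 2 * i) :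
    (∀ x : Matrix.SpecialLinearGroup (Fin n) F, x ∈ Cfsg.SU n F q →
      (∃ z : F, ((x ^ r : Matrix.SpecialLinearGroup (Fin n) F) : Matrix (Fin n) (Fin n) F) = z • (1 : Matrix (Fin n) (Fin n) F)) →
      (∀ z : F, (x : Matrix (Fin n) (Fin n) F) ≠ z • (1 : Matrix (Fin n) (Fin n) F)) →
      ∃ W : Submodule F (Fin n → F), Module.finrank F ↥W = m ∧ (∀ u ∈ W, u ≠ 0 → ∃ v ∈ W, Cfsg.hermForm n F q u v ≠ 0) ∧
        W.map (Matrix.toLin' (x : Matrix (Fin n) (Fin n) F)) ≤ W) ↔
    ((r = p ∧ 2 < p ∧ (∀ μ : Multiset ℕ, (∀ a ∈ μ, 0 < a ∧ a ≤ p) → μ.sum = n → ∃ ν : Multiset ℕ, ν ≤ μ ∧ ν.sum = m)) ∨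
     (r = p ∧ p = 2 ∧ (Odd n ∨ Even m)) ∨
     (r = 2 ∧ p ≠ 2 ∧ (Odd n ∨ Even m ∨ (padicValNat 2 n ≤ padicValNat 2 (q + 1) ∧ q % 4 = 3))) ∨
     (r ≠ p ∧ 2 < r ∧ ((i ≠ 2 ∧ c ≤ m ∧ m % c ≤ n % c) ∨ (i = 2 ∧ (r ∣ m ∨ padicValNat r n ≤ padicValNat r (q + 1)))))) := by
  classical
  have hp : p.Prime := Fact.out
  have hr : r.Prime := Fact.out
  obtain ⟨bar, hbar⟩ := Cfsg.Agent.Helper45.GU.exists_bar hq
  have hn1 : 1 ≤ n := by omega
  have hmn' : m ≤ n := by omega
  rw [Cfsg.Agent.Helper99.UNdB.allFix_iff]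
  have hc' : c = cOf i := hc
  have hpq : p ∣ q := Cfsg.Agent.Helper99.UNdB.char_dvd_q p hq
  constructor
  · intro H
    by_cases hrp : r = p
    · by_cases hp2 : p = 2
      · right; left
        refine ⟨hrp, hp2, ?_⟩
        have h1 : AllFix F n q m p := hrp ▸ H
        have h2 := partCond_of_allFix p hq hmn' h1
        rw [hp2] at h2
        exact (partCond_two_iff hmn').mp h2
      · left
        refine ⟨hrp, lt_of_le_of_ne hp.two_le (Ne.symm hp2), ?_⟩
        have h1 : AllFix F n q m p := hrp ▸ H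
        exact partCond_of_allFix p hq hmn' h1
    · by_cases hr2 : r = 2
      · right; right; left
        have hp2 : p ≠ 2 := fun h => hrp (hr2.trans h.symm)
        refine ⟨hr2, hp2, ?_⟩
        have h1 : AllFix F n q m 2 := hr2 ▸ H
        exact cond_of_allFix_two p hq bar hbar hp2 hn1 hmn' h1
      · right; right; right
        refine ⟨hrp, lt_of_le_of_ne hr.two_le (Ne.symm hr2), ?_⟩
        by_cases hi2 : i = 2
        · right
          refine ⟨hi2, ?_⟩
          exact cond_i2_of_allFix p hq bar hbar r hr hr2 hrp (hi ▸ hi2) hn1 hmn' H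
        · left
          obtain ⟨j, hj1, hj2, hj3⟩ := exists_dvd_of_dvd_card p hq hmn' r hr hrp hrΩ
          have hrq : ¬ r ∣ q := by
            intro hd
            obtain ⟨p', e, hp', hch', hq'⟩ := Cfsg.Agent.Helper13.exists_char_pow_of_card_eq_sq hq
            have hpp : p' = p := CharP.eq F hch' ‹CharP F p›
            rw [hq', hpp] at hd
            exact hrp ((Nat.prime_dvd_prime_iff_eq hr hp).mp (hr.dvd_of_dvd_pow hd))
          have hcj : cOf i ∣ j := by
            have := cOf_dvd_of_dvd hr hr2 hrq j hj3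
            rwa [← hi] at this
          have hjpos : 0 < j := by omega
          have hcn : cOf i ≤ n := le_trans (Nat.le_of_dvd hjpos hcj) hj2
          have hmod := mod_le_of_allFix p hq bar hbar r hr hr2 hrp i hi hi2 hmn' hcn H
          rw [hc']
          refine ⟨hi2, ?_, hmod⟩
          obtain ⟨t, ht⟩ := hcj
          have hcpos : 0 < cOf i := by
            rcases Nat.eq_zero_or_pos (cOf i) with h0 | h0
            · rw [h0, zero_mul] at ht; omega
            · exact h0
          have h3 : n % cOf i = (n - j) % cOf i := by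
            conv_lhs => rw [show n = cOf i * t + (n - j) by omega]
            exact Nat.mul_add_mod _ _ _
          have h4 : (n - j) % cOf i ≤ n - j := Nat.mod_le _ _
          by_contra hlt
          push Not at hlt
          have h5 : m % cOf i = m := Nat.mod_eq_of_lt hlt
          omega
  · rintro (⟨hrp, -, hpart⟩ | ⟨hrp, hp2, hcond⟩ | ⟨hr2, hp2, hcond⟩ | ⟨hrp, hr2, hcond⟩)
    · rw [hrp]
      exact allFix_of_partCond p hq hn1 hmn' hpart
    · rw [hrp]
      apply allFix_of_partCond p hq hn1 hmn'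
      rw [hp2]
      exact (partCond_two_iff hmn').mpr hcond
    · rw [hr2]
      exact allFix_two_of_cond p hq bar hbar hp2 hn1 hmn' hcond
    · have hr2' : r ≠ 2 := by omega
      rcases hcond with ⟨hi2, -, hmod⟩ | ⟨hi2, hcond⟩
      · rw [hc'] at hmod
        exact allFix_of_mod_le p hq bar hbar r hr hr2' hrp i hi hi2 hn1 hmn' hmod
      · exact allFix_of_cond_i2 p hq bar hbar r hr hr2' hrp (hi ▸ hi2) hn1 hmn' hcond

end Cfsg.Agent.S5954
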