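import Cfsg.Statements.S5955
import Cfsg.Agent.Helper94.TiI
import Cfsg.Agent.Helper94.TiJ

set_option autoImplicit false
open scoped MatrixGroups
open Cfsg

namespace Cfsg.Agent.S5955

open Cfsg.Agent.Helper94.Ti

/-- Elements of prime order of PSp_n(q) with no fixed totally isotropic `m`-space. Here `T = PSp_n(q)` with `n = 2d ≥ 4`, `(n, q) ≠ (4, 2)`, realised through the symplectic matrices over the field `F` with `q` elements (preserving the standard alternating form); an element of `T` of prime order `r` is such a matrix `x` with `x^r` scalar and `x` not scalar. For `r ≠ p` let `i` be the multiplicative order of `q` modulo `r`, `c = i` for `i` even and `c = 2i` for `i` odd, and write `k = n mod c`, `ℓ = m mod i`, `ℓ' = m mod c`, `n' = ⌊n/i⌋`, `m' = ⌊m/i⌋`, `t = (r−1)/i`. Let `1 ≤ m ≤ n/2` and let `r` be a prime dividing the number of totally isotropic `m`-spaces. Then every element of `T` of order `r` fixes a totally isotropic `m`-space if and only if either (i) `r = 2 ≠ p` and (`m`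 is even or `q ≡ 1 (mod 4)`); or (ii) `r ≠ p`, `r > 2`, `i ≤ m`, `k ≥ 2ℓ`, and (`i` is odd or `n' − 2m' ≥ t`). -/
theorem result {F : Type*} [Field F] [Fintype F] {p : ℕ} [Fact p.Prime] [CharP F p] {q : ℕ} (hq : Fintype.card F = q)
    (d m : ℕ) (hd : 2 ≤ d) (hT : (d, q) ≠ (2, 2)) (hm : 1 ≤ m) (hmd : m ≤ d)
    (r : ℕ) [Fact r.Prime]
    (hrΩ : r ∣ Nat.card {W : Submodule F (Fin d ⊕ Fin d → F) // Module.finrank F ↥W = m ∧ (∀ u ∈ W, ∀ v ∈ W, Cfsg.sympForm d F u v = 0)})
    (i c : ℕ) (hi : i = orderOf (q : ZMod r)) (hc : c = if Even i then i else 2 * i) :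
    (∀ x : ↥(Matrix.symplecticGroup (Fin d) F),
      (∃ z : F, ((x ^ r : ↥(Matrix.symplecticGroup (Fin d) F)) : Matrix (Fin d ⊕ Fin d) (Fin d ⊕ Fin d) F) = z • (1 : Matrix (Fin d ⊕ Fin d) (Fin d ⊕ Fin d) F)) →
      (∀ z : F, (x : Matrix (Fin d ⊕ Fin d) (Fin d ⊕ Fin d) F) ≠ z • (1 : Matrix (Fin d ⊕ Fin d) (Fin d ⊕ Fin d) F)) →
      ∃ W : Submodule F (Fin d ⊕ Fin d → F), Module.finrank F ↥W = m ∧ (∀ u ∈ W, ∀ v ∈ W, Cfsg.sympForm d F u v = 0) ∧
        W.map (Matrix.toLin' (x : Matrix (Fin d ⊕ Fin d) (Fin d ⊕ Fin d) F)) ≤ W) ↔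
    ((r = 2 ∧ p ≠ 2 ∧ (Even m ∨ q % 4 = 1)) ∨
     (r ≠ p ∧ 2 < r ∧ i ≤ m ∧ 2 * (m % i) ≤ (2 * d) % c ∧ (Odd i ∨ (r - 1) / i + 2 * (m / i) ≤ (2 * d) / i))) := by
  classical
  subst hq
  subst hi
  have hc' : c = Cfsg.Agent.Helper99.SpStruct.blockSize (orderOf ((Fintype.card F : ℕ) : ZMod r)) :=
    hc
  subst hc'
  have hr : r.Prime := Fact.out
  have hp : p.Prime := Fact.out
  have hd1 : 1 ≤ d := by omega
  -- scalars in Sp square to one
  have hsq : ∀ (x : ↥(Matrix.symplecticGroup (Fin d) F)) (z : F),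
      (x : Matrix (Fin d ⊕ Fin d) (Fin d ⊕ Fin d) F) =
        z • (1 : Matrix (Fin d ⊕ Fin d) (Fin d ⊕ Fin d) F) → z * z = 1 := by
    intro x z hz
    have hne : (Pi.single (Sum.inl ⟨0, hd1⟩) 1 : Fin d ⊕ Fin d → F) ≠ 0 := by
      intro h
      have := congrFun h (Sum.inl ⟨0, hd1⟩)
      simp at this
    obtain ⟨w, hw⟩ := Cfsg.Agent.Helper13.sympForm_nondeg_left hne
    have h1 := (Cfsg.Agent.Helper13.mem_symplecticGroup_iff_preserves _).mp x.2
      w (Pi.single (Sum.inl ⟨0, hd1⟩) 1)
    rw [hz, Matrix.smul_mulVec, Matrix.smul_mulVec, Matrix.one_mulVec, Matrix.one_mulVec,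
      Cfsg.Agent.Helper13.sympForm_smul_left, Cfsg.Agent.Helper13.sympForm_smul_right,
      ← mul_assoc] at h1
    have h2 : (z * z - 1) * Cfsg.sympForm d F w (Pi.single (Sum.inl ⟨0, hd1⟩) 1) = 0 := by
      rw [sub_mul, one_mul, h1, sub_self]
    rcases mul_eq_zero.mp h2 with h | h
    · exact sub_eq_zero.mp h
    · exact absurd h hw
  -- the characteristic does not divide the number of totally isotropic m-spaces
  have hNp : ¬ p ∣ Nat.card {W : Submodule F (Fin d ⊕ Fin d → F) // Module.finrank F ↥W = m ∧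
      (∀ u ∈ W, ∀ v ∈ W, Cfsg.sympForm d F u v = 0)} := by
    have e : {W : Submodule F (Fin d ⊕ Fin d → F) // Module.finrank F ↥W = m ∧
        IsTi (Cfsg.Agent.S0776.omega d F) W} ≃
        {W : Submodule F (Fin d ⊕ Fin d → F) // Module.finrank F ↥W = m ∧
        (∀ u ∈ W, ∀ v ∈ W, Cfsg.sympForm d F u v = 0)} :=
      Equiv.subtypeEquivRight (fun W => by
        unfold IsTi
        simp only [Cfsg.Agent.S0776.omega_apply])
    rw [← Nat.card_congr e]
    exact char_not_dvd_card_ti (Cfsg.Agent.S0776.omega d F) (Cfsg.Agent.S0776.omega_isAlt d)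
      (Cfsg.Agent.S0776.omega_nondegenerate d) m
      (by rw [Cfsg.Agent.Helper99.SpMain.finrank_space]; omega) p
  constructor
  · intro H
    by_cases hrp : r = p
    · exfalso
      rw [hrp] at hrΩ
      exact hNp hrΩ
    by_cases hr2 : r = 2
    · left
      have hp2 : p ≠ 2 := fun h => hrp (hr2.trans h.symm)
      refine ⟨hr2, hp2, ?_⟩
      by_contra hcon
      push Not at hcon
      obtain ⟨hmodd, hq1⟩ := hcon
      have hchar : ringChar F ≠ 2 := by rw [ringChar.eq F p]; exact hp2
      have hqodd := FiniteField.odd_card_of_char_ne_two hchar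
      have hq3 : Fintype.card F % 4 = 3 := by omega
      have hnsq : ¬ IsSquare (-1 : F) := by
        rw [FiniteField.isSquare_neg_one_iff]
        push Not
        exact hq3
      have hJ2 : (Matrix.J (Fin d) F) ^ 2 = (-1 : F) • (1 : Matrix (Fin d ⊕ Fin d) (Fin d ⊕ Fin d) F) := by
        rw [pow_two, Matrix.J_squared, neg_smul, one_smul]
      obtain ⟨W, hW1, -, hW3⟩ := H (SymplecticGroup.symJ (Fin d) F)
        ⟨-1, by
          rw [hr2, SubmonoidClass.coe_pow, SymplecticGroup.coe_J]
          exact hJ2⟩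
        (by
          intro z hz
          rw [SymplecticGroup.coe_J] at hz
          have h1 := congrFun (congrFun hz (Sum.inl ⟨0, hd1⟩)) (Sum.inr ⟨0, hd1⟩)
          simp [Matrix.J, Matrix.fromBlocks] at h1)
      have hy : (Matrix.toLin' (Matrix.J (Fin d) F)) ^ 2 =
          (-1 : F) • (1 : Module.End F (Fin d ⊕ Fin d → F)) := by
        rw [← Matrix.toLin'_pow, hJ2, map_smul, Matrix.toLin'_one]
        rfl
      have := even_finrank_of_sq_neg_one hnsq hy (W := W) hW3
      rw [hW1] at this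
      exact hmodd this
    · right
      have hr3 : 2 < r := by
        have := hr.two_le
        omega
      have hodd : Odd r := hr.odd_of_ne_two hr2
      obtain ⟨mm, hmm⟩ := hodd
      have HP : TiProp F d m r := by
        intro x hxr hx1
        have h1 : ∃ z : F, ((x ^ r : ↥(Matrix.symplecticGroup (Fin d) F)) :
            Matrix (Fin d ⊕ Fin d) (Fin d ⊕ Fin d) F) =
            z • (1 : Matrix (Fin d ⊕ Fin d) (Fin d ⊕ Fin d) F) := ⟨1, by rw [hxr, one_smul]; rfl⟩
        have h2 : ∀ z : F, (x : Matrix (Fin d ⊕ Fin d) (Fin d ⊕ Fin d) F) ≠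
            z • (1 : Matrix (Fin d ⊕ Fin d) (Fin d ⊕ Fin d) F) := by
          intro z hz
          have hzz := hsq x z hz
          have hxr' : (x : Matrix (Fin d ⊕ Fin d) (Fin d ⊕ Fin d) F) ^ r = 1 := by
            have := congrArg Subtype.val hxr
            rwa [SubmonoidClass.coe_pow] at this
          rw [hz, smul_pow, one_pow] at hxr'
          have hzr : z ^ r = 1 := by
            have := congrFun (congrFun hxr' (Sum.inl ⟨0, hd1⟩)) (Sum.inl ⟨0, hd1⟩)
            simpa using this
          have hz1 : z = 1 := by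
            rw [hmm, pow_succ, pow_mul, pow_two, hzz, one_pow, one_mul] at hzr
            exact hzr
          apply hx1
          apply Subtype.ext
          rw [hz, hz1, one_smul]
          rfl
        exact H x h1 h2
      obtain ⟨h1, h2, h3⟩ := cond_of_tiProp r hrp hr2 hm hmd HP hrΩ
      exact ⟨hrp, hr3, h1, h2, h3⟩
  · rintro (⟨hr2, hp2, hcond⟩ | ⟨hrp, hr3, -, h2l, hcond⟩) x ⟨z, hz⟩ -
    · -- r = 2
      subst hr2
      have hzz : z * z = 1 := hsq (x ^ 2) z hz
      set X := Matrix.toLin' (x : Matrix (Fin d ⊕ Fin d) (Fin d ⊕ Fin d) F) with hX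
      have hX2 : X ^ 2 = z • (1 : Module.End F (Fin d ⊕ Fin d → F)) := by
        rw [hX, ← Matrix.toLin'_pow, ← SubmonoidClass.coe_pow, hz, map_smul, Matrix.toLin'_one]
        rfl
      have h4 : ((4 : ℕ) : F) ≠ 0 := by
        intro h0
        rw [CharP.cast_eq_zero_iff F p 4] at h0
        have h1 : p ∣ 2 ^ 2 := by norm_num; exact h0
        have h2 := hp.dvd_of_dvd_pow h1
        exact hp2 ((Nat.prime_dvd_prime_iff_eq hp Nat.prime_two).mp h2)
      have hset : IsoSetup (Cfsg.Agent.S0776.omega d F) X 4 :=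
        { alt := Cfsg.Agent.S0776.omega_isAlt d
          nondeg := Cfsg.Agent.S0776.omega_nondegenerate d
          isom := fun u v => by
            rw [Cfsg.Agent.S0776.omega_apply, Cfsg.Agent.S0776.omega_apply]
            exact Cfsg.Agent.Helper99.SpMain.toLin_isom x u v
          ne_zero := h4
          pow_eq := by
            have : (4 : ℕ) = 2 * 2 := rfl
            rw [this, pow_mul, hX2, smul_pow, one_pow, pow_two, hzz, one_smul] }
      have hm2 : 2 * m ≤ Module.finrank F (Fin d ⊕ Fin d → F) := by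
        rw [Cfsg.Agent.Helper99.SpMain.finrank_space]; omega
      by_cases hzsq : IsSquare z
      · obtain ⟨lam, hlam⟩ := hzsq
        obtain ⟨W, hW1, hW2, hW3⟩ := exists_ti_of_sq hset lam (by rw [← hlam]; exact hX2) m hm2
        exact ⟨W, hW1, orth_self_iff_stmt.mp hW2, hW3⟩
      · have hz1 : z = -1 := by
          have h0 : (z - 1) * (z + 1) = 0 := by
            calc (z - 1) * (z + 1) = z * z - 1 := by ring
              _ = 0 := by rw [hzz, sub_self]
          rcases mul_eq_zero.mp h0 with h | h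
          · exfalso
            apply hzsq
            rw [sub_eq_zero.mp h]
            exact ⟨1, (one_mul 1).symm⟩
          · exact eq_neg_of_add_eq_zero_left h
        have hme : Even m := by
          rcases hcond with h | h
          · exact h
          · exfalso
            rw [hz1, FiniteField.isSquare_neg_one_iff] at hzsq
            push Not at hzsq
            omega
        obtain ⟨W, hW1, hW2, hW3⟩ := exists_ti_of_nonsq hset z hzsq hX2 m hme hm2
        exact ⟨W, hW1, orth_self_iff_stmt.mp hW2, hW3⟩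
    · -- r odd
      have hr2 : r ≠ 2 := by omega
      have hodd : Odd r := hr.odd_of_ne_two hr2
      obtain ⟨mm, hmm⟩ := hodd
      have hzz : z * z = 1 := hsq (x ^ r) z hz
      set X := Matrix.toLin' (x : Matrix (Fin d ⊕ Fin d) (Fin d ⊕ Fin d) F) with hX
      have hXr : X ^ r = z • (1 : Module.End F (Fin d ⊕ Fin d → F)) := by
        rw [hX, ← Matrix.toLin'_pow, ← SubmonoidClass.coe_pow, hz, map_smul, Matrix.toLin'_one]
        rfl
      have hy : (z • X) ^ r = 1 := by
        rw [smul_pow, hXr, smul_smul, ← pow_succ, hmm]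
        have : 2 * mm + 1 + 1 = 2 * (mm + 1) := by ring
        rw [this, pow_mul, pow_two, hzz, one_pow, one_smul]
      have hiso : ∀ u v, Cfsg.sympForm d F ((z • X) u) ((z • X) v) = Cfsg.sympForm d F u v := by
        intro u v
        rw [LinearMap.smul_apply, LinearMap.smul_apply, Cfsg.Agent.Helper13.sympForm_smul_left,
          Cfsg.Agent.Helper13.sympForm_smul_right, ← mul_assoc, hzz, one_mul]
        exact Cfsg.Agent.Helper99.SpMain.toLin_isom x u v
      obtain ⟨W, hW1, hW2, hW3⟩ := ti_of_cond r hrp hr2 (z • X) hiso hy m hmd h2l hcond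
      refine ⟨W, hW1, hW2, ?_⟩
      rintro _ ⟨v, hv, rfl⟩
      have h1 : (z • X) v ∈ W := hW3.apply_mem hv
      have h2 : X v = z • (z • X) v := by
        rw [LinearMap.smul_apply, smul_smul, hzz, one_smul]
      rw [h2]
      exact Submodule.smul_mem _ _ h1


end Cfsg.Agent.S5955
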