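import Cfsg.Statements.S5956
import Cfsg.Agent.Helper99.SpNdL

set_option autoImplicit false
open scoped MatrixGroups
open Cfsg

namespace Cfsg.Agent.S5956

/-- Elements of prime order of PSp_n(q) with no fixed nondegenerate `m`-space. Here `T = PSp_n(q)` with `n = 2d ≥ 4`, `(n, q) ≠ (4, 2)`, realised through the symplectic matrices over the field `F` with `q` elements (preserving the standard alternating form); an element of `T` of prime order `r` is such a matrix `x` with `x^r` scalar and `x` not scalar. For `r ≠ p` let `i` be the multiplicative order of `q` modulo `r`, `c = i` for `i` even and `c = 2i` for `i` odd, and write `k = n mod c`, `ℓ = m mod i`, `ℓ' = m mod c`, `n' = ⌊n/i⌋`, `m' = ⌊m/i⌋`, `t = (r−1)/i`. Let `m` be even with `2 ≤ m < n/2` and let `r` be a prime dividing the number of nondegenerate `m`-spaces. Then every element of `T` of order `r` fixes a nondegenerate `m`-space if and only if one of: (i) `r = p > 2` and every partition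 of `n` into parts of size at most `p` in which every odd part has even multiplicity contains (as a sub-multiset) a partition of `m` in which every odd part has even multiplicity; (ii) `r = p = 2` and (`n ≡ 2 (mod 4)` or `m ≡ 0 (mod 4)`); (iii) `r = 2 ≠ p`; (iv) `r ≠ p`, `r > 2`, `c ≤ m` and `k ≥ ℓ'`. -/
theorem result {F : Type*} [Field F] [Fintype F] {p : ℕ} [Fact p.Prime] [CharP F p] {q : ℕ} (hq : Fintype.card F = q)
    (d m : ℕ) (hd : 2 ≤ d) (hT : (d, q) ≠ (2, 2)) (hm : 2 ≤ m) (hme : Even m) (hmd : m < d)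
    (r : ℕ) [Fact r.Prime]
    (hrΩ : r ∣ Nat.card {W : Submodule F (Fin d ⊕ Fin d → F) // Module.finrank F ↥W = m ∧ (∀ u ∈ W, u ≠ 0 → ∃ v ∈ W, Cfsg.sympForm d F u v ≠ 0)})
    (i c : ℕ) (hi : i = orderOf (q : ZMod r)) (hc : c = if Even i then i else 2 * i) :
    (∀ x : ↥(Matrix.symplecticGroup (Fin d) F),
      (∃ z : F, ((x ^ r : ↥(Matrix.symplecticGroup (Fin d) F)) : Matrix (Fin d ⊕ Fin d) (Fin d ⊕ Fin d) F) = z • (1 : Matrix (Fin d ⊕ Fin d) (Fin d ⊕ Fin d) F)) →
      (∀ z : F, (x : Matrix (Fin d ⊕ Fin d) (Fin d ⊕ Fin d) F) ≠ z • (1 : Matrix (Fin d ⊕ Fin d) (Fin d ⊕ Fin d) F)) →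
      ∃ W : Submodule F (Fin d ⊕ Fin d → F), Module.finrank F ↥W = m ∧ (∀ u ∈ W, u ≠ 0 → ∃ v ∈ W, Cfsg.sympForm d F u v ≠ 0) ∧
        W.map (Matrix.toLin' (x : Matrix (Fin d ⊕ Fin d) (Fin d ⊕ Fin d) F)) ≤ W) ↔
    ((r = p ∧ 2 < p ∧ (∀ μ : Multiset ℕ, (∀ a ∈ μ, 0 < a ∧ a ≤ p) → (∀ a : ℕ, Odd a → Even (μ.count a)) → μ.sum = 2 * d →
        ∃ ν : Multiset ℕ, ν ≤ μ ∧ ν.sum = m ∧ ∀ a : ℕ, Odd a → Even (ν.count a))) ∨
     (r = p ∧ p = 2 ∧ ((2 * d) % 4 = 2 ∨ m % 4 = 0)) ∨
     (r = 2 ∧ p ≠ 2) ∨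
     (r ≠ p ∧ 2 < r ∧ c ≤ m ∧ m % c ≤ (2 * d) % c)) := by
  classical
  have hp : p.Prime := Fact.out
  have hr : r.Prime := Fact.out
  have hd1 : 1 ≤ d := by omega
  have hm2d : m ≤ 2 * d := by omega
  subst hq
  have hcdef : c = Cfsg.Agent.Helper99.SpStruct.blockSize
      (orderOf ((Fintype.card F : ℕ) : ZMod r)) := by
    rw [hc, hi]
    rfl
  constructor
  · intro P
    by_cases hrp : r = p
    · subst hrp
      by_cases hr2 : r = 2
      · right; left
        subst hr2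
        exact ⟨rfl, rfl, Cfsg.Agent.Helper99.SpNdM.cond_char_two hd1 m P⟩
      · left
        have hr3 : 2 < r := by
          have := hr.two_le
          omega
        exact ⟨rfl, hr3, fun μ h1 h2 h3 =>
          Cfsg.Agent.Helper99.SpNdM.partition_of_fixes m hme hm2d P μ h1 h2 h3⟩
    · by_cases hr2 : r = 2
      · right; right; left
        exact ⟨hr2, fun h => hrp (by rw [hr2, h])⟩
      · right; right; right
        have hr3 : 2 < r := by
          have := hr.two_le
          omega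
        obtain ⟨h1, h2⟩ := Cfsg.Agent.Helper99.SpNdM.cond_of_semisimple (F := F) (p := p) hd1 r hrp
          hr2 m hme hm2d hrΩ P
        rw [← hcdef] at h1 h2
        exact ⟨hrp, hr3, h1, h2⟩
  · rintro (⟨hrp, hp2, H⟩ | ⟨hrp, hp2, hcond⟩ | ⟨hr2, hp2⟩ | ⟨hrp, hr2, hcm, hmod⟩)
    · subst hrp
      rintro x ⟨z, hz⟩ _
      exact Cfsg.Agent.Helper99.SpNdM.fixes_of_unip (by omega) hd1 m H x z hz
    · subst hrp
      subst hp2
      rintro x ⟨z, hz⟩ _
      exact Cfsg.Agent.Helper99.SpNdM.fixes_char_two hd1 m hme hm2d hcond x z hz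
    · subst hr2
      have h2 : (2 : F) ≠ 0 := by
        intro h
        have h1 : ((2 : ℕ) : F) = 0 := by exact_mod_cast h
        rw [CharP.cast_eq_zero_iff F p] at h1
        exact hp2 ((Nat.prime_dvd_prime_iff_eq hp Nat.prime_two).mp h1)
      rintro x ⟨z, hz⟩ _
      exact Cfsg.Agent.Helper99.SpNdM.fixes_of_sq h2 hd1 m hme hm2d x z hz
    · rw [hcdef] at hmod
      rintro x ⟨z, hz⟩ _
      exact Cfsg.Agent.Helper99.SpNdM.fixes_of_semisimple (F := F) (p := p) hd1 r hrp (by omega) m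
        hme hm2d hmod x z hz

end Cfsg.Agent.S5956
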