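import Cfsg.Statements.S5958
import Cfsg.Agent.Helper99.RMain

set_option autoImplicit false
open scoped MatrixGroups
open Cfsg

namespace Cfsg.Agent.S5958

/-- Elements of odd prime order of PSL_n(q) and imprimitive subgroups. Here `T = PSL_n(F)` for a field `F` with `q = p^f` elements (`n ≥ 2`, `(n, q) ≠ (2, 2), (2, 3)`), `n = a·t` with `t ≥ 2`, and Ω is the set of direct-sum decompositions of `F^n` into `t` subspaces of dimension `a` (unordered; their number is the number of ordered ones divided by `t!`), whose stabilizers are the imprimitive subgroups of type GL_a(q) ≀ S_t (maximal except in some small cases; maximality is not assumed); an element of `T` of prime order `r` (a matrix `x` of determinant 1 with `x^r` scalar, `x` not scalar) fixes a point of Ω when it permutes the summands of some such decomposition. Let `r ≠ p` be an odd prime dividing the number of such decompositions, let `c` be the multiplicative order of `q` modulo `r`, and write `k = n mod c`, `ℓ = a mod c`. Then every element of `T` of order `r` stabilizes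 such a decomposition if and only if either `a = 1`, `c = r − 1 > 1` and `n ≤ k·r`, or `c ≤ a` and `k = t·ℓ`. -/
theorem result {F : Type*} [Field F] [Fintype F] {p : ℕ} [Fact p.Prime] [CharP F p] {q : ℕ} (hq : Fintype.card F = q)
    (n a t : ℕ) (hn : 2 ≤ n) (hT : (n, q) ≠ (2, 2) ∧ (n, q) ≠ (2, 3)) (hat : n = a * t) (ha : 1 ≤ a) (ht : 2 ≤ t)
    (r : ℕ) [Fact r.Prime] (hr2 : r ≠ 2) (hrp : r ≠ p) (hΩ : r ∣ Nat.card {D : Fin t → Submodule F (Fin n → F) // Cfsg.Geo.IsMDecomposition a D} / Nat.factorial t)
    (c : ℕ) (hc : c = orderOf (q : ZMod r)) :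
    (∀ x : Matrix.SpecialLinearGroup (Fin n) F,
      (∃ z : F, ((x ^ r : Matrix.SpecialLinearGroup (Fin n) F) : Matrix (Fin n) (Fin n) F) = z • (1 : Matrix (Fin n) (Fin n) F)) →
      (∀ z : F, (x : Matrix (Fin n) (Fin n) F) ≠ z • (1 : Matrix (Fin n) (Fin n) F)) →
      ∃ D : Fin t → Submodule F (Fin n → F), Cfsg.Geo.IsMDecomposition a D ∧
        ∃ σ : Equiv.Perm (Fin t), ∀ j, (D j).map (Matrix.toLin' (x : Matrix (Fin n) (Fin n) F)) = D (σ j)) ↔
    ((a = 1 ∧ 1 < c ∧ c = r - 1 ∧ n ≤ (n % c) * r) ∨ (c ≤ a ∧ n % c = t * (a % c))) := by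
  classical
  subst hq
  subst hc
  have ha' : 0 < a := ha
  constructor
  · intro H
    have HP : Cfsg.Agent.Helper99.RMain.DecompProp F n a t r := by
      intro y hdet hy hns
      let x : Matrix.SpecialLinearGroup (Fin n) F :=
        ⟨LinearMap.toMatrix' y, by rw [LinearMap.det_toMatrix']; exact hdet⟩
      have hx : (x : Matrix (Fin n) (Fin n) F) = LinearMap.toMatrix' y := rfl
      have hlin : Matrix.toLin' (x : Matrix (Fin n) (Fin n) F) = y := by
        rw [hx, Matrix.toLin'_toMatrix']
      have h1 : ∃ z : F, ((x ^ r : Matrix.SpecialLinearGroup (Fin n) F) :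
          Matrix (Fin n) (Fin n) F) = z • (1 : Matrix (Fin n) (Fin n) F) := by
        refine ⟨1, ?_⟩
        apply Matrix.toLin'.injective
        rw [Matrix.SpecialLinearGroup.coe_pow, Matrix.toLin'_pow, hlin, hy, one_smul,
          Matrix.toLin'_one]
        rfl
      have h2 : ∀ z : F, (x : Matrix (Fin n) (Fin n) F) ≠ z • (1 : Matrix (Fin n) (Fin n) F) := by
        intro z hz
        apply hns z
        rw [← hlin, hz, map_smul, Matrix.toLin'_one]
        rfl
      obtain ⟨D, hD, σ, hσ⟩ := H x h1 h2
      exact ⟨D, hD, σ, by rwa [hlin] at hσ⟩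
    exact Cfsg.Agent.Helper99.RMain.cond_of_prop r hrp hr2 HP hat ha' ht
      (fun _ => Cfsg.Agent.Helper99.RCount.order_le_of_dvd hat ha' ht r hrp hΩ)
  · rintro hcond x ⟨z, hz⟩ -
    have hinj := Cfsg.Agent.S5957.toLin_injective n x
    have hXr : (Matrix.toLin' (x : Matrix (Fin n) (Fin n) F)) ^ r =
        z • (1 : Module.End F (Fin n → F)) := by
      rw [← Matrix.toLin'_pow, ← Matrix.SpecialLinearGroup.coe_pow, hz, map_smul,
        Matrix.toLin'_one]
      rfl
    have hz0 : z ≠ 0 := by
      intro h0
      have hd : ((x ^ r : Matrix.SpecialLinearGroup (Fin n) F) :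
          Matrix (Fin n) (Fin n) F).det = 1 := Matrix.SpecialLinearGroup.det_coe _
      have : NeZero n := ⟨by omega⟩
      rw [hz, h0, zero_smul, Matrix.det_zero] at hd
      exact zero_ne_one hd
    by_cases hpow : ∃ l : F, l ^ r = z
    · obtain ⟨l, rfl⟩ := hpow
      have hl : l ≠ 0 := by
        rintro rfl
        apply hz0
        exact zero_pow (Nat.Prime.ne_zero Fact.out)
      rcases hcond with ⟨ha1, hc1, hceq, hle⟩ | ⟨hca, hk⟩
      · subst ha1
        rw [one_mul] at hat
        subst hat
        have hr : r.Prime := Fact.out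
        exact Cfsg.Agent.Helper99.RMain.decomp_of_casei r hrp _ hinj l hl hXr hn
          (by have := hr.two_le; omega) hle
      · exact Cfsg.Agent.Helper99.RMain.decomp_of_caseii r hrp _ hinj l hl hXr hat ha' ht hk
    · push Not at hpow
      exact Cfsg.Agent.Helper99.RMain.decomp_of_irr r hrp _ hinj z hz0 hXr hpow hat ha' ht

end Cfsg.Agent.S5958
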