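import Mathlib
import Cfsg.Statements.S5960
import Cfsg.Agent.S5957
import Cfsg.Agent.Helper99.LagrAtoms
import Cfsg.Agent.Helper99.SympBilin
import Cfsg.Agent.Helper99.HypFam

set_option autoImplicit false
open scoped MatrixGroups
open Cfsg

namespace Cfsg.Agent.S5960

open Cfsg.Agent.Helper99 Module LinearMap

section Abstract
variable {F V : Type*} [Field F] [AddCommGroup V] [Module F V]

/-- the standard involution on the index type -/
def tauPQ (P Q : Type) : (P × Fin 2) ⊕ Q → (P × Fin 2) ⊕ Q :=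
  Sum.map (Prod.map _root_.id (Equiv.swap 0 1)) _root_.id

/-- hyperbolic family with standard index type -/
def HypFam (B : LinearMap.BilinForm F V) (X : V →ₗ[F] V) (M : Submodule F V) : Prop :=
  ∃ (P Q : Type) (_ : Fintype P) (_ : Fintype Q) (g : ((P × Fin 2) ⊕ Q) × Fin 2 → V),
    HypFamG B X (tauPQ P Q) g M

theorem hypFam_bot (B : LinearMap.BilinForm F V) (X : V →ₗ[F] V) : HypFam B X ⊥ := by
  refine ⟨Empty, Empty, inferInstance, inferInstance, fun _ => 0, ?_, ?_, ?_⟩
  · rw [eq_bot_iff, Submodule.span_le]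
    rintro _ ⟨_, rfl⟩
    exact Submodule.zero_mem _
  · rintro ⟨(⟨p, _⟩ | q), _⟩
    · exact p.elim
    · exact q.elim
  · rintro (⟨p, _⟩ | q)
    · exact p.elim
    · exact q.elim

theorem hypFam_add (B : LinearMap.BilinForm F V) (hB : B.IsRefl) (X : V →ₗ[F] V)
    (M₁ M₂ : Submodule F V) (h₁ : HypFam B X M₁) (h₂ : HypFam B X M₂)
    (horth : ∀ u ∈ M₁, ∀ v ∈ M₂, B u v = 0) (_hd : Disjoint M₁ M₂) : HypFam B X (M₁ ⊔ M₂) := by
  obtain ⟨P₁, Q₁, _, _, g₁, hg₁⟩ := h₁
  obtain ⟨P₂, Q₂, _, _, g₂, hg₂⟩ := h₂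
  refine ⟨P₁ ⊕ P₂, Q₁ ⊕ Q₂, inferInstance, inferInstance, _,
    (HypFamG.sum hB hg₁ hg₂ horth).reindex (Cfsg.Agent.S5957.regroup P₁ Q₁ P₂ Q₂) ?_⟩
  rintro ((⟨p, ε⟩ | q) | (⟨p, ε⟩ | q)) <;> rfl

theorem hypFam_of_plane (B : LinearMap.BilinForm F V) (hB : B.IsAlt) (X : V →ₗ[F] V) (v w : V)
    (hvw : B v w ≠ 0) (hXv : X v ∈ Submodule.span F {v, w}) (hXw : X w ∈ Submodule.span F {v, w}) :
    Submodule.span F {v, w} ≠ ⊥ ∧ Submodule.span F {v, w} ∈ Module.End.invtSubmodule X ∧
    Disjoint (Submodule.span F {v, w}) (B.orthogonal (Submodule.span F {v, w})) ∧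
    HypFam B X (Submodule.span F {v, w}) := by
  have h := hypFam_plane B hB X v w hvw hXv hXw
  refine ⟨h.ne_bot (), h.invt, h.nondeg, Empty, Unit, inferInstance, inferInstance, _,
    h.reindex (Equiv.emptySum (Empty × Fin 2) Unit).symm ?_⟩
  intro i
  rfl

theorem hypFam_of_swap (B : LinearMap.BilinForm F V) (hB : B.IsAlt) (X : V →ₗ[F] V)
    (hXB : ∀ u v, B (X u) (X v) = B u v) (hXX : ∀ v, X (X v) = v) (e f : V)
    (hef : B e f ≠ 0) (h1 : B e (X e) = 0) (h2 : B f (X f) = 0) (h3 : B (X e) f = 0) :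
    ∃ C : Submodule F V, C ≤ Submodule.span F {e, f, X e, X f} ∧
    C ≠ ⊥ ∧ C ∈ Module.End.invtSubmodule X ∧ Disjoint C (B.orthogonal C) ∧ HypFam B X C := by
  have h := hypFam_swap B hB X hXB hXX e f hef h1 h2 h3
  refine ⟨_, ?_, h.ne_bot 0, h.invt, h.nondeg, Unit, Empty, inferInstance, inferInstance, _,
    h.reindex ((Equiv.punitProd (Fin 2)).symm.trans (Equiv.sumEmpty (Unit × Fin 2) Empty).symm) ?_⟩
  · rw [Submodule.span_le]
    rintro _ ⟨⟨i, ε⟩, rfl⟩
    apply Submodule.subset_span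
    fin_cases i <;> fin_cases ε <;> simp
  · intro i
    rfl

theorem exists_dual_vec (B : LinearMap.BilinForm F V) (hB : B.IsAlt) {M : Submodule F V}
    (hMnd : Disjoint M (B.orthogonal M)) {e₁ e₂ : V} (he₁ : e₁ ∈ M) (he₂ : e₂ ∈ M)
    (h : ∀ c : F, e₁ ≠ c • e₂) : ∃ f ∈ M, B e₁ f ≠ 0 ∧ B e₂ f = 0 := by
  by_contra hcon
  push Not at hcon
  have hcon' : ∀ f ∈ M, B e₂ f = 0 → B e₁ f = 0 := by
    intro f hf h0
    by_contra hne
    exact hcon f hf hne h0
  have hzero : ∀ {w : V}, w ∈ M → (∀ n ∈ M, B w n = 0) → w = 0 := by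
    intro w hw hwn
    rw [Submodule.disjoint_def] at hMnd
    apply hMnd w hw
    rw [LinearMap.BilinForm.mem_orthogonal_iff]
    intro n hn
    rw [← hB.neg_eq, hwn n hn, neg_zero]
  by_cases he₂0 : e₂ = 0
  · have : e₁ = 0 := by
      apply hzero he₁
      intro n hn
      apply hcon' n hn
      rw [he₂0, map_zero, LinearMap.zero_apply]
    apply h 0
    rw [this, zero_smul]
  · obtain ⟨f₀, hf₀M, hf₀⟩ := exists_pairing_ne_zero B hMnd he₂ he₂0
    have hf₀' : B e₂ f₀ ≠ 0 := by
      rw [← hB.neg_eq]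
      exact neg_ne_zero.mpr hf₀
    apply h (B e₁ f₀ / B e₂ f₀)
    rw [← sub_eq_zero]
    apply hzero (M.sub_mem he₁ (M.smul_mem _ he₂))
    intro n hn
    have hn' : n - (B e₂ n / B e₂ f₀) • f₀ ∈ M := M.sub_mem hn (M.smul_mem _ hf₀M)
    have h1 := hcon' _ hn' (by
      rw [map_sub, map_smul, smul_eq_mul, div_mul_cancel₀ _ hf₀', sub_self])
    rw [map_sub, map_smul, smul_eq_mul, sub_eq_zero] at h1
    rw [map_sub, LinearMap.sub_apply, map_smul, LinearMap.smul_apply, smul_eq_mul, h1]
    field_simp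
    ring

theorem mem_of_PC_left {X : V →ₗ[F] V} {U W : Submodule F V} {v : V} (hv : v ∈ U) (h : U.map X ≤ W) :
    X v ∈ W := h (Submodule.mem_map_of_mem hv)

theorem exists_hyp_atom (B : LinearMap.BilinForm F V) (hB : B.IsAlt) (X : V →ₗ[F] V)
    (hXB : ∀ u v, B (X u) (X v) = B u v) (z : F) (hz : z = 1 ∨ z = -1)
    (hXX : ∀ v, X (X v) = z • v) (M : Submodule F V) (hMinv : M ∈ Module.End.invtSubmodule X)
    (hMnd : Disjoint M (B.orthogonal M)) (hbot : M ≠ ⊥) :
    ∃ C : Submodule F V, C ≤ M ∧ C ≠ ⊥ ∧ C ∈ Module.End.invtSubmodule X ∧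
      Disjoint C (B.orthogonal C) ∧ HypFam B X C := by
  have hMinv' := hMinv
  rw [Module.End.mem_invtSubmodule] at hMinv'
  have hpair_le : ∀ {v w : V}, v ∈ M → w ∈ M → Submodule.span F {v, w} ≤ M := by
    intro v w hv hw
    rw [Submodule.span_le]
    rintro _ (rfl | rfl)
    · exact hv
    · exact hw
  have hplane : ∀ v ∈ M, ∀ w ∈ M, B v w ≠ 0 → X v ∈ Submodule.span F {v, w} →
      X w ∈ Submodule.span F {v, w} → ∃ C : Submodule F V, C ≤ M ∧ C ≠ ⊥ ∧
      C ∈ Module.End.invtSubmodule X ∧ Disjoint C (B.orthogonal C) ∧ HypFam B X C := by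
    intro v hv w hw hvw hXv hXw
    obtain ⟨h1, h2, h3, h4⟩ := hypFam_of_plane B hB X v w hvw hXv hXw
    exact ⟨_, hpair_le hv hw, h1, h2, h3, h4⟩
  have hsv : ∀ v w : V, Submodule.span F {v} ≤ Submodule.span F {v, w} := fun v w =>
    Submodule.span_mono (by intro x hx; exact Or.inl hx)
  have hsw : ∀ v w : V, Submodule.span F {w} ≤ Submodule.span F {v, w} := fun v w =>
    Submodule.span_mono (by intro x hx; exact Or.inr hx)
  by_cases h2 : (2 : F) = 0
  · -- characteristic 2
    have hz1 : z = 1 := by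
      rcases hz with rfl | rfl
      · rfl
      · rw [neg_eq_iff_add_eq_zero, one_add_one_eq_two, h2]
    have hXX' : ∀ v, X (X v) = v := by
      intro v; rw [hXX, hz1, one_smul]
    by_cases hex : ∃ v ∈ M, B v (X v) ≠ 0
    · obtain ⟨v, hvM, hv⟩ := hex
      refine hplane v hvM (X v) (hMinv' hvM) hv ?_ ?_
      · exact Submodule.subset_span (Or.inr rfl)
      · rw [hXX']
        exact Submodule.subset_span (Or.inl rfl)
    · push Not at hex
      by_cases hid : ∀ v ∈ M, X v = v
      · obtain ⟨m, hmM, hm0⟩ := Submodule.exists_mem_ne_zero_of_ne_bot hbot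
        obtain ⟨n, hnM, hn⟩ := exists_pairing_ne_zero B hMnd hmM hm0
        refine hplane n hnM m hmM hn ?_ ?_
        · rw [hid n hnM]
          exact Submodule.subset_span (Or.inl rfl)
        · rw [hid m hmM]
          exact Submodule.subset_span (Or.inr rfl)
      · push Not at hid
        obtain ⟨e, heM, he⟩ := hid
        have hXeM : X e ∈ M := hMinv' heM
        have hindep : ∀ c : F, e ≠ c • X e := by
          intro c hc
          have h1 : X e = c • e := by
            have := congrArg X hc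
            rw [map_smul, hXX'] at this
            exact this
          have h3 : e = (c * c) • e := by
            conv_lhs => rw [hc, h1, smul_smul]
          have he0 : e ≠ 0 := by
            rintro rfl
            exact he (map_zero X)
          have h4 : (c * c - 1) • e = 0 := by
            rw [sub_smul, one_smul, ← h3, sub_self]
          rcases smul_eq_zero.mp h4 with h5 | h5
          · have h6 : (c + 1) * (c + 1) = 0 := by
              have : (c + 1) * (c + 1) = (c * c - 1) + 2 * (c + 1) := by ring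
              rw [this, h5, h2]; ring
            have h7 : c + 1 = 0 := by
              rcases mul_eq_zero.mp h6 with h | h <;> exact h
            have h8 : c = 1 := by
              have : c = -1 := eq_neg_of_add_eq_zero_left h7
              rw [this, neg_eq_iff_add_eq_zero, one_add_one_eq_two, h2]
            apply he
            rw [h1, h8, one_smul]
          · exact he0 h5
        obtain ⟨f, hfM, hef, hXef⟩ := exists_dual_vec B hB hMnd heM hXeM hindep
        obtain ⟨C, hC1, hC2, hC3, hC4, hC5⟩ := hypFam_of_swap B hB X hXB hXX' e f hef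
          (hex e heM) (hex f hfM) hXef
        refine ⟨C, hC1.trans ?_, hC2, hC3, hC4, hC5⟩
        rw [Submodule.span_le]
        rintro _ (rfl | rfl | rfl | rfl)
        · exact heM
        · exact hfM
        · exact hXeM
        · exact hMinv' hfM
  · rcases hz with rfl | rfl
    · obtain ⟨v, hvM, w, hwM, hvw, hpc⟩ := atom_fixed B hB h2 X hXB (by simpa using hXX) M hMinv hMnd hbot
      unfold PC at hpc
      simp only [Bool.false_eq_true, if_false] at hpc
      refine hplane v hvM w hwM hvw ?_ ?_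
      · exact hsv v w (mem_of_PC_left (Submodule.mem_span_singleton_self v) hpc.1)
      · exact hsw v w (mem_of_PC_left (Submodule.mem_span_singleton_self w) hpc.2)
    · obtain ⟨v, hvM, w, hwM, hvw, hpc⟩ := atom_swap B hB h2 X hXB (by simpa using hXX) M hMinv hMnd hbot
      unfold PC at hpc
      simp only [if_true] at hpc
      refine hplane v hvM w hwM hvw ?_ ?_
      · exact hsw v w (mem_of_PC_left (Submodule.mem_span_singleton_self v) hpc.1)
      · exact hsv v w (mem_of_PC_left (Submodule.mem_span_singleton_self w) hpc.2)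

end Abstract

section Final
variable {F V : Type*} [Field F] [AddCommGroup V] [Module F V]

open Cfsg.Agent.S5957 in
theorem blk_map_gen [FiniteDimensional F V] {ι : Type*} [Fintype ι] [DecidableEq ι] (Bs : Basis ι F V) {t : ℕ}
    (c : ι → Fin t) (x : V →ₗ[F] V) (hx : Function.Injective x)
    (σ : Equiv.Perm (Fin t)) {a : ℕ} (hc : ∀ j, Fintype.card {i // c i = j} = a)
    (hB : ∀ i, x (Bs i) ∈ blk Bs c (σ (c i))) (j : Fin t) :
    (blk Bs c j).map x = blk Bs c (σ j) := by
  have hle : (blk Bs c j).map x ≤ blk Bs c (σ j) := by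
    rw [Submodule.map_le_iff_le_comap]
    unfold blk
    rw [Submodule.span_le]
    rintro _ ⟨i, hi, rfl⟩
    rw [Set.mem_ofPred_eq] at hi
    rw [SetLike.mem_coe, Submodule.mem_comap]
    have := hB i
    rw [hi] at this
    exact this
  apply Submodule.eq_of_le_of_finrank_eq hle
  rw [blk_finrank, hc, ← hc j, ← blk_finrank Bs c j]
  exact (LinearEquiv.finrank_eq (Submodule.equivMapOfInjective x hx (blk Bs c j))).symm

open Cfsg.Agent.S5957 in
theorem exists_decomp [FiniteDimensional F V] (B : LinearMap.BilinForm F V) (hB : B.IsAlt)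
    (hnd : Disjoint (⊤ : Submodule F V) (B.orthogonal ⊤))
    (X : V →ₗ[F] V) (hXB : ∀ u v, B (X u) (X v) = B u v) (z : F) (hz : z = 1 ∨ z = -1)
    (hXX : ∀ v, X (X v) = z • v) (a₂ t : ℕ) (ha₂ : 0 < a₂) (hdim : finrank F V = 2 * a₂ * t) :
    ∃ D : Fin t → Submodule F V, (∀ j, finrank F (D j) = 2 * a₂) ∧ iSupIndep D ∧ iSup D = ⊤ ∧
      (∀ j, ∀ u ∈ D j, u ≠ 0 → ∃ v ∈ D j, B u v ≠ 0) ∧
      (∀ j j', j ≠ j' → ∀ u ∈ D j, ∀ v ∈ D j', B u v = 0) ∧
      ∃ σ : Equiv.Perm (Fin t), ∀ j, (D j).map X = D (σ j) := by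
  classical
  have hz0 : z ≠ 0 := by
    rcases hz with rfl | rfl
    · exact one_ne_zero
    · exact neg_ne_zero.mpr one_ne_zero
  have hinj : Function.Injective X := by
    intro u v huv
    have := congrArg X huv
    rw [hXX, hXX] at this
    exact smul_right_injective V hz0 this
  obtain ⟨P, Q, _, _, g, hg⟩ := orth_induction B hB.isRefl X z hz0 hXB hXX (HypFam B X)
    (hypFam_bot B X) (hypFam_add B hB.isRefl X) (exists_hyp_atom B hB X hXB z hz hXX) ⊤
    (Module.End.invtSubmodule.top_mem _) hnd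
  let Bs : Basis (((P × Fin 2) ⊕ Q) × Fin 2) F V :=
    Basis.mk hg.linearIndependent (by rw [hg.span_eq])
  have hBs : ∀ i, Bs i = g i := by
    intro i
    simp [Bs]
  have hcard : 2 * Fintype.card P + Fintype.card Q = a₂ * t := by
    have h1 := Module.finrank_eq_card_basis Bs
    rw [hdim, Fintype.card_prod, Fintype.card_sum, Fintype.card_prod, Fintype.card_fin] at h1
    have : 2 * (a₂ * t) = 2 * (2 * Fintype.card P + Fintype.card Q) := by
      rw [← mul_assoc, h1]; ring
    omega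
  obtain ⟨c, σ, hc, hcP, hcQ⟩ := comb (P := P) (Q := Q) (a := a₂) (t := t) ha₂ hcard
  have hcτ : ∀ i, c (tauPQ P Q i) = σ (c i) := by
    rintro (⟨p, ε⟩ | q)
    · exact hcP p ε
    · exact hcQ q
  let c' : ((P × Fin 2) ⊕ Q) × Fin 2 → Fin t := fun a => c a.1
  have hc' : ∀ j, Fintype.card {a // c' a = j} = 2 * a₂ := by
    intro j
    have h1 : Fintype.card {a // c' a = j} = Fintype.card ({i // c i = j} × Fin 2) := by
      apply Fintype.card_congr
      exact ⟨fun a => (⟨a.1.1, a.2⟩, a.1.2), fun b => ⟨(b.1.1, b.2), b.1.2⟩,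
        fun a => rfl, fun b => rfl⟩
    rw [h1, Fintype.card_prod, Fintype.card_fin, hc j, mul_comm]
  have hmemblk : ∀ a : ((P × Fin 2) ⊕ Q) × Fin 2, g a ∈ blk Bs c' (c' a) := by
    intro a
    apply Submodule.subset_span
    exact ⟨a, rfl, hBs a⟩
  refine ⟨blk Bs c', fun j => by rw [blk_finrank, hc'], blk_indep Bs c', blk_iSup Bs c', ?_, ?_, σ, ?_⟩
  · -- nondegenerate blocks
    intro j u hu hu0
    have hsupp : ((Bs.repr u).support : Set _) ⊆ {a | c' a = j} := Bs.mem_span_image.mp hu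
    have hex : ∃ a, Bs.repr u a ≠ 0 := by
      by_contra hcon
      push Not at hcon
      apply hu0
      have : Bs.repr u = 0 := by
        ext a
        exact hcon a
      exact (LinearEquiv.map_eq_zero_iff _).mp this
    obtain ⟨a, ha⟩ := hex
    have haj : c' a = j := hsupp (Finsupp.mem_support_iff.mpr ha)
    refine ⟨g (partner a), ?_, ?_⟩
    · have := hmemblk (partner a)
      have h2 : c' (partner a) = j := haj
      rwa [h2] at this
    · have hsum : u = ∑ b, (Bs.repr u b) • g b := by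
        conv_lhs => rw [← Bs.sum_repr u]
        exact Finset.sum_congr rfl (fun b _ => by rw [hBs])
      rw [hsum, hg.right_sum, partner_partner]
      exact mul_ne_zero ha (hg.gram_partner a)
  · -- orthogonal blocks
    intro j j' hjj' u hu v hv
    have h1 : blk Bs c' j' ≤ B.orthogonal (blk Bs c' j) := by
      unfold blk
      rw [Submodule.span_le]
      rintro _ ⟨b, hb, rfl⟩
      rw [Set.mem_ofPred_eq] at hb
      rw [SetLike.mem_coe, LinearMap.BilinForm.mem_orthogonal_iff]
      intro n hn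
      have h2 : Submodule.span F (Bs '' {i | c' i = j}) ≤ LinearMap.ker (B.flip (Bs b)) := by
        rw [Submodule.span_le]
        rintro _ ⟨a, ha, rfl⟩
        rw [Set.mem_ofPred_eq] at ha
        rw [SetLike.mem_coe, LinearMap.mem_ker, LinearMap.BilinForm.flip_apply, hBs, hBs]
        apply hg.gram_zero
        intro hbp
        apply hjj'
        rw [← ha, ← hb, hbp]
        rfl
      have := h2 hn
      rwa [LinearMap.mem_ker, LinearMap.BilinForm.flip_apply] at this
    have := h1 hv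
    rw [LinearMap.BilinForm.mem_orthogonal_iff] at this
    exact this u hu
  · -- permuted
    apply blk_map_gen Bs c' X hinj σ hc'
    rintro ⟨i, ε⟩
    rw [hBs]
    have h1 := hg.xcond i ε
    have h2 : Submodule.span F {g (tauPQ P Q i, 0), g (tauPQ P Q i, 1)} ≤ blk Bs c' (σ (c i)) := by
      rw [Submodule.span_le]
      rintro _ (rfl | rfl)
      · have := hmemblk (tauPQ P Q i, 0)
        have h3 : c' (tauPQ P Q i, 0) = σ (c i) := hcτ i
        rwa [h3] at this
      · have := hmemblk (tauPQ P Q i, 1)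
        have h3 : c' (tauPQ P Q i, 1) = σ (c i) := hcτ i
        rwa [h3] at this
    exact h2 h1

end Final

/-- Involutions of PSp_n(q) and imprimitive subgroups. Here `T = PSp_n(q)`, `n = 2d ≥ 4`, `(n, q) ≠ (4, 2)`, realised through the symplectic matrices over the field `F` with `q` elements and the standard alternating form; `n = a·t` with `a` even and `t ≥ 2`, and Ω is the (nonempty) set of orthogonal decompositions of `F^n` into `t` nondegenerate subspaces of dimension `a` (unordered; counted as ordered ones divided by `t!`), whose stabilizers are the imprimitive subgroups of type Sp_a(q) ≀ S_t (maximality is not assumed); an element of `T` of prime order `r` (a symplectic matrix `x` with `x^r` scalar, `x` not scalar) fixes a point of Ω when it permutes the summands of some such decomposition. If the number of such decompositions is even, then every involution of `T` stabilizes one of them (the action is 2-elusive). -/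
theorem result {F : Type*} [Field F] [Fintype F] {p : ℕ} [Fact p.Prime] [CharP F p] {q : ℕ} (hq : Fintype.card F = q)
    (d : ℕ) (hd : 2 ≤ d) (hT : (d, q) ≠ (2, 2))
    (a t : ℕ) (hat : 2 * d = a * t) (ha : 2 ≤ a) (hae : Even a) (ht : 2 ≤ t) (hΩ : 2 ∣ Nat.card {D : Fin t → Submodule F (Fin d ⊕ Fin d → F) // (Cfsg.Geo.IsMDecomposition a D ∧ (∀ j, ∀ u ∈ D j, u ≠ 0 → ∃ v ∈ D j, Cfsg.sympForm d F u v ≠ 0) ∧
          (∀ j j', j ≠ j' → ∀ u ∈ D j, ∀ v ∈ D j', Cfsg.sympForm d F u v = 0))} / Nat.factorial t)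
    (x : ↥(Matrix.symplecticGroup (Fin d) F))
    (hx1 : ∃ z : F, ((x ^ 2 : ↥(Matrix.symplecticGroup (Fin d) F)) : Matrix (Fin d ⊕ Fin d) (Fin d ⊕ Fin d) F) = z • (1 : Matrix (Fin d ⊕ Fin d) (Fin d ⊕ Fin d) F))
    (hx2 : ∀ z : F, (x : Matrix (Fin d ⊕ Fin d) (Fin d ⊕ Fin d) F) ≠ z • (1 : Matrix (Fin d ⊕ Fin d) (Fin d ⊕ Fin d) F)) :
    ∃ D : Fin t → Submodule F (Fin d ⊕ Fin d → F), (Cfsg.Geo.IsMDecomposition a D ∧ (∀ j, ∀ u ∈ D j, u ≠ 0 → ∃ v ∈ D j, Cfsg.sympForm d F u v ≠ 0) ∧
          (∀ j j', j ≠ j' → ∀ u ∈ D j, ∀ v ∈ D j', Cfsg.sympForm d F u v = 0)) ∧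
        ∃ σ : Equiv.Perm (Fin t), ∀ j, (D j).map (Matrix.toLin' (x : Matrix (Fin d ⊕ Fin d) (Fin d ⊕ Fin d) F)) = D (σ j) := by
  obtain ⟨z, hz⟩ := hx1
  obtain ⟨hXX, hz1⟩ := symp_sq_scalar (by omega) x z hz
  obtain ⟨a₂, ha₂⟩ := hae
  have hdim : Module.finrank F (Fin d ⊕ Fin d → F) = 2 * a₂ * t := by
    rw [Module.finrank_fintype_fun_eq_card, Fintype.card_sum, Fintype.card_fin]
    rw [ha₂] at hat
    have : (a₂ + a₂) * t = 2 * a₂ * t := by ring
    omega
  obtain ⟨D, hfr, hind, hsup, hnd, horth, σ, hσ⟩ := exists_decomp (sympBilin d F) sympBilin_isAlt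
    sympBilin_nondeg (Matrix.toLin' (x : Matrix (Fin d ⊕ Fin d) (Fin d ⊕ Fin d) F))
    (sympBilin_toLin x) z hz1 hXX a₂ t (by omega) hdim
  refine ⟨D, ⟨⟨ht, by omega, fun j => by rw [hfr j, ha₂]; ring, hind, hsup⟩, ?_, ?_⟩, σ, hσ⟩
  · intro j u hu hu0
    exact hnd j u hu hu0
  · intro j j' hjj' u hu v hv
    exact horth j j' hjj' u hu v hv

end Cfsg.Agent.S5960
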