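import Cfsg.Statements.S5961
import Cfsg.Agent.Helper99.SpMain

set_option autoImplicit false
open scoped MatrixGroups
open Cfsg

namespace Cfsg.Agent.S5961

/-- Elements of odd prime order of PSp_n(q) and imprimitive subgroups. Here `T = PSp_n(q)`, `n = 2d ≥ 4`, `(n, q) ≠ (4, 2)`, realised through the symplectic matrices over the field `F` with `q` elements and the standard alternating form; `n = a·t` with `a` even and `t ≥ 2`, and Ω is the (nonempty) set of orthogonal decompositions of `F^n` into `t` nondegenerate subspaces of dimension `a` (unordered; counted as ordered ones divided by `t!`), whose stabilizers are the imprimitive subgroups of type Sp_a(q) ≀ S_t (maximality is not assumed); an element of `T` of prime order `r` (a symplectic matrix `x` with `x^r` scalar, `x` not scalar) fixes a point of Ω when it permutes the summands of some such decomposition. Let `r ≠ p` be an odd prime dividing the number of such decompositions, let `i` be the multiplicative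 order of `q` modulo `r`, `c = i` if `i` is even and `c = 2i` if `i` is odd, and write `k = n mod c`, `ℓ = a mod c`. Then every element of `T` of order `r` stabilizes such a decomposition if and only if `c ≤ a` and `k = t·ℓ`. -/
theorem result {F : Type*} [Field F] [Fintype F] {p : ℕ} [Fact p.Prime] [CharP F p] {q : ℕ} (hq : Fintype.card F = q)
    (d : ℕ) (hd : 2 ≤ d) (hT : (d, q) ≠ (2, 2))
    (a t : ℕ) (hat : 2 * d = a * t) (ha : 2 ≤ a) (hae : Even a) (ht : 2 ≤ t)
    (r : ℕ) [Fact r.Prime] (hr2 : r ≠ 2) (hrp : r ≠ p) (hΩ : r ∣ Nat.card {D : Fin t → Submodule F (Fin d ⊕ Fin d → F) // (Cfsg.Geo.IsMDecomposition a D ∧ (∀ j, ∀ u ∈ D j, u ≠ 0 → ∃ v ∈ D j, Cfsg.sympForm d F u v ≠ 0) ∧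
          (∀ j j', j ≠ j' → ∀ u ∈ D j, ∀ v ∈ D j', Cfsg.sympForm d F u v = 0))} / Nat.factorial t)
    (i c : ℕ) (hi : i = orderOf (q : ZMod r)) (hc : c = if Even i then i else 2 * i) :
    (∀ x : ↥(Matrix.symplecticGroup (Fin d) F),
      (∃ z : F, ((x ^ r : ↥(Matrix.symplecticGroup (Fin d) F)) : Matrix (Fin d ⊕ Fin d) (Fin d ⊕ Fin d) F) = z • (1 : Matrix (Fin d ⊕ Fin d) (Fin d ⊕ Fin d) F)) →
      (∀ z : F, (x : Matrix (Fin d ⊕ Fin d) (Fin d ⊕ Fin d) F) ≠ z • (1 : Matrix (Fin d ⊕ Fin d) (Fin d ⊕ Fin d) F)) →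
      ∃ D : Fin t → Submodule F (Fin d ⊕ Fin d → F), (Cfsg.Geo.IsMDecomposition a D ∧ (∀ j, ∀ u ∈ D j, u ≠ 0 → ∃ v ∈ D j, Cfsg.sympForm d F u v ≠ 0) ∧
          (∀ j j', j ≠ j' → ∀ u ∈ D j, ∀ v ∈ D j', Cfsg.sympForm d F u v = 0)) ∧
        ∃ σ : Equiv.Perm (Fin t), ∀ j, (D j).map (Matrix.toLin' (x : Matrix (Fin d ⊕ Fin d) (Fin d ⊕ Fin d) F)) = D (σ j)) ↔
    (c ≤ a ∧ (2 * d) % c = t * (a % c)) := by
  classical
  subst hq
  subst hi
  have hc' : c = Cfsg.Agent.Helper99.SpStruct.blockSize (orderOf ((Fintype.card F : ℕ) : ZMod r)) :=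
    hc
  subst hc'
  have hr : r.Prime := Fact.out
  have hodd : Odd r := hr.odd_of_ne_two hr2
  obtain ⟨m, hm⟩ := hodd
  have hd1 : 1 ≤ d := by omega
  -- scalars in Sp square to one
  have hsq : ∀ (x : ↥(Matrix.symplecticGroup (Fin d) F)) (z : F),
      (x : Matrix (Fin d ⊕ Fin d) (Fin d ⊕ Fin d) F) =
        z • (1 : Matrix (Fin d ⊕ Fin d) (Fin d ⊕ Fin d) F) → z * z = 1 := by
    intro x z hz
    have hne : (Pi.single (Sum.inl ⟨0, hd1⟩) 1 : Fin d ⊕ Fin d → F) ≠ 0 := by
      intro h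
      have := congrFun h (Sum.inl ⟨0, hd1⟩)
      simp at this
    obtain ⟨w, hw⟩ := Cfsg.Agent.Helper13.sympForm_nondeg_left hne
    have h1 := (Cfsg.Agent.Helper13.mem_symplecticGroup_iff_preserves _).mp x.2
      w (Pi.single (Sum.inl ⟨0, hd1⟩) 1)
    rw [hz, Matrix.smul_mulVec, Matrix.smul_mulVec, Matrix.one_mulVec, Matrix.one_mulVec,
      Cfsg.Agent.Helper13.sympForm_smul_left, Cfsg.Agent.Helper13.sympForm_smul_right,
      ← mul_assoc] at h1
    have h2 : (z * z - 1) * Cfsg.sympForm d F w (Pi.single (Sum.inl ⟨0, hd1⟩) 1) = 0 := by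
      rw [sub_mul, one_mul, h1, sub_self]
    rcases mul_eq_zero.mp h2 with h | h
    · exact sub_eq_zero.mp h
    · exact absurd h hw
  have ha2 : ∃ h : ℕ, a = 2 * h := by
    obtain ⟨h, hh⟩ := hae
    exact ⟨h, by omega⟩
  obtain ⟨h, ha2⟩ := ha2
  have hdth : d = t * h := by
    have : 2 * d = 2 * (t * h) := by rw [hat, ha2]; ring
    omega
  constructor
  · intro H
    have HP : Cfsg.Agent.Helper99.SpMain.SpDecompProp F d a t r := by
      intro x hxr hx1
      have h1 : ∃ z : F, ((x ^ r : ↥(Matrix.symplecticGroup (Fin d) F)) :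
          Matrix (Fin d ⊕ Fin d) (Fin d ⊕ Fin d) F) =
          z • (1 : Matrix (Fin d ⊕ Fin d) (Fin d ⊕ Fin d) F) := ⟨1, by rw [hxr, one_smul]; rfl⟩
      have h2 : ∀ z : F, (x : Matrix (Fin d ⊕ Fin d) (Fin d ⊕ Fin d) F) ≠
          z • (1 : Matrix (Fin d ⊕ Fin d) (Fin d ⊕ Fin d) F) := by
        intro z hz
        have hzz := hsq x z hz
        have hxr' : (x : Matrix (Fin d ⊕ Fin d) (Fin d ⊕ Fin d) F) ^ r = 1 := by
          have := congrArg Subtype.val hxr
          rwa [SubmonoidClass.coe_pow] at this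
        rw [hz, smul_pow, one_pow] at hxr'
        have hzr : z ^ r = 1 := by
          have := congrFun (congrFun hxr' (Sum.inl ⟨0, hd1⟩)) (Sum.inl ⟨0, hd1⟩)
          simpa using this
        have hz1 : z = 1 := by
          rw [hm, pow_succ, pow_mul, pow_two, hzz, one_pow, one_mul] at hzr
          exact hzr
        apply hx1
        apply Subtype.ext
        rw [hz, hz1, one_smul]
        rfl
      obtain ⟨D, hD, σ, hσ⟩ := H x h1 h2
      exact ⟨D, hD, σ, hσ⟩
    obtain ⟨D₀⟩ := Cfsg.Agent.Helper99.SpMain.nonempty_orthDec (F := F) (d := d) r hrp hr2 hat ha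
      hae ht
    exact Cfsg.Agent.Helper99.SpMain.cond_of_prop_sp r hrp hr2 HP hat ha ht
      (fun _ => Cfsg.Agent.Helper99.SpCount.blockSize_le_of_dvd ha2 hdth r hrp D₀ hΩ)
  · rintro ⟨-, hk⟩ x ⟨z, hz⟩ -
    have hzz : z * z = 1 := hsq (x ^ r) z hz
    set X := Matrix.toLin' (x : Matrix (Fin d ⊕ Fin d) (Fin d ⊕ Fin d) F) with hX
    have hXr : X ^ r = z • (1 : Module.End F (Fin d ⊕ Fin d → F)) := by
      rw [hX, ← Matrix.toLin'_pow, ← SubmonoidClass.coe_pow, hz, map_smul, Matrix.toLin'_one]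
      rfl
    have hy : (z • X) ^ r = 1 := by
      rw [smul_pow, hXr, smul_smul, ← pow_succ, hm]
      have : 2 * m + 1 + 1 = 2 * (m + 1) := by ring
      rw [this, pow_mul, pow_two, hzz, one_pow, one_smul]
    have hiso : ∀ u v, Cfsg.sympForm d F ((z • X) u) ((z • X) v) = Cfsg.sympForm d F u v := by
      intro u v
      rw [LinearMap.smul_apply, LinearMap.smul_apply, Cfsg.Agent.Helper13.sympForm_smul_left,
        Cfsg.Agent.Helper13.sympForm_smul_right, ← mul_assoc, hzz, one_mul]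
      exact Cfsg.Agent.Helper99.SpMain.toLin_isom x u v
    obtain ⟨D, hD, hinv⟩ := Cfsg.Agent.Helper99.SpMain.decomp_of_cond r hrp hr2 (z • X) hiso hy hat
      ha hae ht hk
    refine ⟨D, hD, 1, fun j => ?_⟩
    rw [Equiv.Perm.one_apply]
    have hinj : Function.Injective X := (Cfsg.Agent.Helper99.SpCount.spEquiv x).injective
    apply Submodule.eq_of_le_of_finrank_eq
    · rintro _ ⟨v, hv, rfl⟩
      have h1 : (z • X) v ∈ D j := (hinv j).apply_mem hv
      have h2 : X v = z • (z • X) v := by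
        rw [LinearMap.smul_apply, smul_smul, hzz, one_smul]
      rw [h2]
      exact Submodule.smul_mem _ _ h1
    · exact (LinearEquiv.finrank_eq (Submodule.equivMapOfInjective X hinj (D j))).symm

end Cfsg.Agent.S5961
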