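import Cfsg.Statements.S5963
import Cfsg.Agent.Helper43.LagrD
import Cfsg.Agent.Helper43.LagrE
import Cfsg.Agent.Helper43.SpPrimeC
import Cfsg.Agent.Helper5.SpCard

set_option autoImplicit false
open scoped MatrixGroups
open Cfsg

namespace Cfsg.Agent.S5963

/-- Derangements of odd prime order of PSp_n(q), q odd, on pairs of complementary totally isotropic subspaces. Here `T = PSp_n(q)`, `n = 2d ≥ 4`, `q` odd, realised through the symplectic matrices over the field `F` with `q` elements; Ω is the set of unordered pairs `{U, W}` of complementary totally isotropic `d`-spaces (`F^n = U ⊕ W`), whose stabilizers are the subgroups of type GL_d(q).2 (maximal except in some small cases; maximality is not assumed); an element of `T` of prime order `r` (a symplectic matrix `x` with `x^r` scalar, `x` not scalar) fixes such a pair when it fixes or interchanges `U` and `W`. For every odd prime `r ≠ p` dividing the number of such pairs, some element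 of `T` of order `r` fixes no such pair (the action is never `r`-elusive for odd `r ≠ p`). -/
theorem result {F : Type*} [Field F] [Fintype F] {p : ℕ} [Fact p.Prime] [CharP F p] {q : ℕ} (hq : Fintype.card F = q)
    (d : ℕ) (hd : 2 ≤ d) (hT : (d, q) ≠ (2, 2)) (hodd : Odd q)
    (r : ℕ) [Fact r.Prime] (hr2 : r ≠ 2) (hrp : r ≠ p) (hΩ : r ∣ Nat.card {P : Submodule F (Fin d ⊕ Fin d → F) × Submodule F (Fin d ⊕ Fin d → F) // IsCompl P.1 P.2 ∧ (∀ u ∈ P.1, ∀ v ∈ P.1, Cfsg.sympForm d F u v = 0) ∧ (∀ u ∈ P.2, ∀ v ∈ P.2, Cfsg.sympForm d F u v = 0)} / 2) :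
    ∃ x : ↥(Matrix.symplecticGroup (Fin d) F),
      (∃ z : F, ((x ^ r : ↥(Matrix.symplecticGroup (Fin d) F)) : Matrix (Fin d ⊕ Fin d) (Fin d ⊕ Fin d) F) = z • (1 : Matrix (Fin d ⊕ Fin d) (Fin d ⊕ Fin d) F)) ∧
      (∀ z : F, (x : Matrix (Fin d ⊕ Fin d) (Fin d ⊕ Fin d) F) ≠ z • (1 : Matrix (Fin d ⊕ Fin d) (Fin d ⊕ Fin d) F)) ∧
      ¬ (∃ U W : Submodule F (Fin d ⊕ Fin d → F), IsCompl U W ∧ (∀ u ∈ U, ∀ v ∈ U, Cfsg.sympForm d F u v = 0) ∧ (∀ u ∈ W, ∀ v ∈ W, Cfsg.sympForm d F u v = 0) ∧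
        ((U.map (Matrix.toLin' (x : Matrix (Fin d ⊕ Fin d) (Fin d ⊕ Fin d) F)) = U ∧ W.map (Matrix.toLin' (x : Matrix (Fin d ⊕ Fin d) (Fin d ⊕ Fin d) F)) = W) ∨
         (U.map (Matrix.toLin' (x : Matrix (Fin d ⊕ Fin d) (Fin d ⊕ Fin d) F)) = W ∧ W.map (Matrix.toLin' (x : Matrix (Fin d ⊕ Fin d) (Fin d ⊕ Fin d) F)) = U))) := by
  classical
  have hp : p.Prime := Fact.out
  have hr : r.Prime := Fact.out
  have hq2 : 2 ≤ q := by rw [← hq]; exact Fintype.one_lt_card
  -- r does not divide q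
  have hrq : ¬ r ∣ q := by
    intro h
    obtain ⟨f, -, hcard⟩ := FiniteField.card F p
    rw [← hq, hcard] at h
    exact hrp ((Nat.prime_dvd_prime_iff_eq hr hp).mp (hr.dvd_of_dvd_pow h))
  -- the count
  have hN := Cfsg.Agent.Helper43.Lagr.card_pairs_mul (F := F) (d := d)
  rw [Matrix.card_GL_field, Cfsg.Agent.Helper5.card_sp, hq] at hN
  have hd1 : 1 ≤ d := by omega
  have h2N := Cfsg.Agent.Helper43.Lagr.even_of_card_eq hodd hq2 hd1 hN
  have hrN : r ∣ Nat.card {P : Submodule F (Fin d ⊕ Fin d → F) × Submodule F (Fin d ⊕ Fin d → F) //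
      IsCompl P.1 P.2 ∧ Cfsg.Agent.Helper43.Lagr.TI P.1 ∧ Cfsg.Agent.Helper43.Lagr.TI P.2} := by
    obtain ⟨k, hk⟩ := h2N
    have hΩ' : r ∣ Nat.card {P : Submodule F (Fin d ⊕ Fin d → F) × Submodule F (Fin d ⊕ Fin d → F) //
      IsCompl P.1 P.2 ∧ Cfsg.Agent.Helper43.Lagr.TI P.1 ∧ Cfsg.Agent.Helper43.Lagr.TI P.2} / 2 := hΩ
    rw [hk] at hΩ' ⊢
    rw [Nat.mul_div_cancel_left k (by norm_num)] at hΩ'
    exact Dvd.dvd.mul_left hΩ' 2
  obtain ⟨i, hi1, hid, hri⟩ := Cfsg.Agent.Helper43.Lagr.exists_dvd_pow_add_one hq2 hr hrq hN hrN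
  obtain ⟨heven, hepos, hele⟩ := Cfsg.Agent.Helper43.Lagr.orderOf_even_of_dvd hr hr2 hi1 hri
  set e := orderOf (q : ZMod r) with he
  have he2 : 2 ≤ e := by
    obtain ⟨k, hk⟩ := heven
    omega
  have hed : e ≤ 2 * d := by omega
  -- the polynomial
  obtain ⟨P, hPm, hPi, hPdvd, hPdeg⟩ :=
    Cfsg.Agent.Helper43.Lagr.exists_factor_cyclotomic p hq r hr hrp
  rw [← he] at hPdeg
  have hL1 : (Polynomial.X - 1 : Polynomial F) = Polynomial.X - Polynomial.C 1 := by rw [map_one]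
  have hLm : (Polynomial.X - 1 : Polynomial F).Monic := Cfsg.Agent.Helper43.Lagr.X_sub_one_monic
  have hLi : Irreducible (Polynomial.X - 1 : Polynomial F) :=
    Cfsg.Agent.Helper43.Lagr.X_sub_one_irreducible
  have hLd : (Polynomial.X - 1 : Polynomial F).natDegree = 1 := by
    rw [hL1]; exact Polynomial.natDegree_X_sub_C 1
  have hLdvd : (Polynomial.X - 1 : Polynomial F) ∣ Polynomial.X ^ r - 1 := by
    rw [← Polynomial.cyclotomic_prime_mul_X_sub_one F r]
    exact dvd_mul_left _ _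
  have hP1 : P ≠ Polynomial.X - 1 := by
    intro h
    rw [h, hLd] at hPdeg
    omega
  have hPnd : ¬ P ∣ Polynomial.X - 1 := by
    intro h
    exact hP1 (Polynomial.eq_of_monic_of_associated hPm hLm (hPi.associated_of_dvd hLi h))
  set k := 2 * d - e with hk
  set f : Polynomial F := P * (Polynomial.X - 1) ^ k with hf
  have hfm : f.Monic := hPm.mul (hLm.pow k)
  have hfd : f.natDegree = 2 * d := by
    rw [hf, (hPm.natDegree_mul (hLm.pow k)), hLm.natDegree_pow, hLd, hPdeg]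
    omega
  have hfac : ∀ Q : Polynomial F, Q.Monic → Irreducible Q → Q ∣ f →
      Q ∣ (Polynomial.X ^ r - 1 : Polynomial F) := by
    intro Q hQm hQi hQ
    rcases hQi.prime.dvd_or_dvd hQ with h | h
    · exact h.trans hPdvd
    · exact (hQi.prime.dvd_of_dvd_pow h).trans hLdvd
  have hfne : f ≠ (Polynomial.X - 1) ^ (2 * d) := by
    intro h
    have : P ∣ (Polynomial.X - 1) ^ (2 * d) := by
      rw [← h, hf]; exact dvd_mul_right _ _
    exact hPnd (hPi.prime.dvd_of_dvd_pow this)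
  have hpp : Cfsg.Agent.Helper43.SS.PrimePred (2 * d) r f := ⟨hfm, hfd, hfac, hfne⟩
  have hfrev : f.reverse = f :=
    Cfsg.Agent.Helper43.SpPrime.reverse_eq_of_even p hq d r e hr hrp he heven hepos hpp
  have hsp : Cfsg.Agent.Helper43.SpPrime.SpPrimePred d r f := ⟨hfm, hfd, hfrev, hfac, hfne⟩
  obtain ⟨x, hxord, hxch⟩ :=
    Cfsg.Agent.Helper43.Lagr.exists_prime_order_charpoly p d r hr hrp f hsp
  -- star P = P
  have hPs : Cfsg.Agent.Helper43.SpPrime.star P = P := by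
    have h1 := Cfsg.Agent.Helper43.SpPrime.star_eq_self_of_reverse hfm hfrev
    rw [hf, Cfsg.Agent.Helper43.SpPrime.star_mul, Cfsg.Agent.Helper43.SpPrime.star_pow,
      Cfsg.Agent.Helper43.SpPrime.star_X_sub_one] at h1
    exact mul_right_cancel₀ (pow_ne_zero k hLm.ne_zero) h1
  have hxr : x ^ r = 1 := by rw [← hxord]; exact pow_orderOf_eq_one x
  refine ⟨x, ⟨1, ?_⟩, ?_, ?_⟩
  · rw [hxr, one_smul]; rfl
  · intro z hz
    have hsf : Squarefree (Polynomial.X - Polynomial.C z : Polynomial F) :=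
      (Polynomial.irreducible_X_sub_C z).squarefree
    have haev : Polynomial.aeval (x : Matrix (Fin d ⊕ Fin d) (Fin d ⊕ Fin d) F)
        (Polynomial.X - Polynomial.C z : Polynomial F) = 0 := by
      rw [map_sub, Polynomial.aeval_X, Polynomial.aeval_C, Algebra.algebraMap_eq_smul_one, hz,
        sub_self]
    have hPx : P ∣ (x : Matrix (Fin d ⊕ Fin d) (Fin d ⊕ Fin d) F).charpoly := by
      rw [hxch, hf]; exact dvd_mul_right _ _
    have := Cfsg.Agent.Helper43.SpPrime.dvd_of_dvd_charpoly_gen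
      (x : Matrix (Fin d ⊕ Fin d) (Fin d ⊕ Fin d) F) _ hsf haev P hPm hPi hPx
    have hle := Polynomial.natDegree_le_of_dvd this (Polynomial.X_sub_C_ne_zero z)
    rw [Polynomial.natDegree_X_sub_C, hPdeg] at hle
    omega
  · rintro ⟨U, W, hc, hU, hW, h | h⟩
    · rw [← Cfsg.Agent.Helper43.Lagr.smul_eq_map, ← Cfsg.Agent.Helper43.Lagr.smul_eq_map] at h
      exact Cfsg.Agent.Helper43.Lagr.no_fixed_pair x P hPm hPi hP1 hPs k hxch hc hU hW h.1 h.2
    · rw [← Cfsg.Agent.Helper43.Lagr.smul_eq_map, ← Cfsg.Agent.Helper43.Lagr.smul_eq_map] at h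
      have hrodd : Odd r := hr.odd_of_ne_two hr2
      exact Cfsg.Agent.Helper43.Lagr.no_swapped_pair x r hrodd hxr (by omega) hc h.1 h.2

end Cfsg.Agent.S5963
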