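import Cfsg.Statements.S5964
import Cfsg.Agent.Helper13.SubInvF

set_option autoImplicit false
open Cfsg

namespace Cfsg.Agent.S5964

open Cfsg.Agent.Helper13.SubInv in
/-- Involutions of PSL_n(q) and subfield subgroups. Here `T = PSL_n(F)` for a field `F` with `q = p^f` elements (`n ≥ 2`, `(n, q) ≠ (2, 2), (2, 3)`), `F₀` is the subfield with `q₀` elements where `q = q₀^k` for a prime `k`, and `H` is the subgroup of matrices of determinant 1 lying in the subfield group of `F₀` (invertible matrices over `F₀` times scalars) — a maximal subgroup of type GL_n(q₀) (the case `n = 2`, `q₀ = 2` is excluded); Ω is the set of `T`-conjugates of `H` (cosets of `H`), so an element of `T` of prime order `r` (a matrix `x` of determinant 1 with `x^r` scalar, `x` not scalar) fixes a point of Ω when some conjugate of `x` by a matrix of determinant 1 lies in `H`. Suppose the index of `H` is even. Then every involution of `T` is conjugate in `T` into `H` if and only if either `q` is even, or `k = 2` and `(n)_2 ≤ (q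 − 1)_2`. (For `q` odd and `k` odd the index of `H` is odd, so that case does not arise.) -/
theorem result {F : Type*} [Field F] [Fintype F] {p : ℕ} [Fact p.Prime] [CharP F p] {q : ℕ} (hq : Fintype.card F = q)
    (n : ℕ) (hn : 2 ≤ n) (hT : (n, q) ≠ (2, 2) ∧ (n, q) ≠ (2, 3))
    (F₀ : Subfield F) (k q₀ : ℕ) (hk : k.Prime) (hF₀ : Nat.card ↥F₀ = q₀) (hqk : q = q₀ ^ k) (hC5 : ¬ (n = 2 ∧ q₀ = 2)) (hΩ : 2 ∣ ((Cfsg.Geo.subfieldSubgroup F₀ 1).comap (Matrix.SpecialLinearGroup.toGL : Matrix.SpecialLinearGroup (Fin n) F →* GL (Fin n) F)).index) :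
    (∀ x : Matrix.SpecialLinearGroup (Fin n) F,
      (∃ z : F, ((x ^ 2 : Matrix.SpecialLinearGroup (Fin n) F) : Matrix (Fin n) (Fin n) F) = z • (1 : Matrix (Fin n) (Fin n) F)) →
      (∀ z : F, (x : Matrix (Fin n) (Fin n) F) ≠ z • (1 : Matrix (Fin n) (Fin n) F)) →
      ∃ P : Matrix.SpecialLinearGroup (Fin n) F, P⁻¹ * x * P ∈ ((Cfsg.Geo.subfieldSubgroup F₀ 1).comap (Matrix.SpecialLinearGroup.toGL : Matrix.SpecialLinearGroup (Fin n) F →* GL (Fin n) F))) ↔
    (Odd q → (k = 2 ∧ padicValNat 2 n ≤ padicValNat 2 (q - 1))) := by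
  classical
  have hn0 : 0 < n := by omega
  subst hq
  -- characteristic two iff `q` even
  have h2_of_odd : Odd (Fintype.card F) → (2 : F) ≠ 0 := by
    intro hodd h2
    have : CharP F 2 := CharTwo.of_one_ne_zero_of_two_eq_zero one_ne_zero h2
    have hrc : ringChar F = 2 := ringChar.eq F 2
    have := FiniteField.even_card_of_char_two hrc
    rw [Nat.odd_iff] at hodd
    omega
  have h2_of_even : ¬ Odd (Fintype.card F) → (2 : F) = 0 := by
    intro hodd
    rw [Nat.not_odd_iff] at hodd
    have hrc : ringChar F = 2 := FiniteField.even_card_iff_char_two.mpr hodd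
    have : CharP F 2 := by rw [← hrc]; exact ringChar.charP F
    exact CharTwo.two_eq_zero
  constructor
  · intro hall hodd
    have h2 : (2 : F) ≠ 0 := h2_of_odd hodd
    have hq₀odd : Odd q₀ := by
      rw [hqk, Nat.odd_pow_iff hk.ne_zero] at hodd
      exact hodd
    have hk2 : k = 2 := by
      by_contra hk2
      have hkodd : Odd k := hk.odd_of_ne_two hk2
      exact index_odd hn0 F₀ k q₀ hkodd hq₀odd hF₀ hqk hΩ
    refine ⟨hk2, ?_⟩
    by_contra hv
    have h2n : 2 ∣ n := dvd_of_one_le_padicValNat (by omega)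
    obtain ⟨d, rfl⟩ := h2n
    have hd : 0 < d := by omega
    obtain ⟨z, hz, hzd⟩ := exists_nonsquare_pow h2 d hd hv
    obtain ⟨x, hx⟩ := exists_quad_sl d z hzd
    have hxns : ∀ c : F, (x : Matrix (Fin (2 * d)) (Fin (2 * d)) F) ≠
        c • (1 : Matrix (Fin (2 * d)) (Fin (2 * d)) F) := by
      intro c hc
      have h3 : ((x ^ 2 : Matrix.SpecialLinearGroup (Fin (2 * d)) F) :
          Matrix (Fin (2 * d)) (Fin (2 * d)) F) =
          (c * c) • (1 : Matrix (Fin (2 * d)) (Fin (2 * d)) F) := by
        rw [pow_two, Matrix.SpecialLinearGroup.coe_mul, hc, Matrix.smul_mul, Matrix.mul_smul,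
          mul_one, smul_smul]
      rw [hx] at h3
      have h4 := congrFun (congrFun h3 ⟨0, hn0⟩) ⟨0, hn0⟩
      rw [Matrix.smul_apply, Matrix.smul_apply, Matrix.one_apply_eq, smul_eq_mul, smul_eq_mul,
        mul_one, mul_one] at h4
      exact hz c h4.symm
    obtain ⟨P, hP⟩ := hall x ⟨z, hx⟩ hxns
    exact not_conj_of_nonsquare h2 F₀ q₀ hF₀ (by rw [hqk, hk2]) hn0 x z hz hx P hP
  · intro hcond x hx _
    obtain ⟨z, hz⟩ := hx
    by_cases hodd : Odd (Fintype.card F)
    · obtain ⟨hk2, hv⟩ := hcond hodd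
      have h2 : (2 : F) ≠ 0 := h2_of_odd hodd
      by_cases hsq : ∃ w : F, w * w = z
      · obtain ⟨w, rfl⟩ := hsq
        exact conj_square_odd h2 F₀ hn0 x w hz
      · push Not at hsq
        exfalso
        obtain ⟨d, hd, hzd⟩ := det_of_nonsquare x z hsq hz
        have hq₀odd : Odd q₀ := by
          rw [hqk, Nat.odd_pow_iff hk.ne_zero] at hodd
          exact hodd
        have h4 : 4 ∣ Fintype.card F - 1 := by
          rw [hqk, hk2]
          obtain ⟨t, rfl⟩ := hq₀odd
          refine ⟨t * (t + 1), ?_⟩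
          have : (2 * t + 1) ^ 2 = 4 * (t * (t + 1)) + 1 := by ring
          rw [this, Nat.add_sub_cancel]
        have hd0 : 0 < d := by omega
        have hv' : padicValNat 2 (2 * d) ≤ padicValNat 2 (Fintype.card F - 1) := by
          have : 2 * d = n := by omega
          rw [this]; exact hv
        exact nonsquare_contra h2 h4 d hd0 hv' z hsq hzd
    · have h2 : (2 : F) = 0 := h2_of_even hodd
      exact conj_char_two h2 F₀ hn0 x z hz

end Cfsg.Agent.S5964
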