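import Cfsg.Statements.S5967
import Cfsg.Agent.Helper43.SpTwoD
import Cfsg.Agent.Helper43.SpTwoE

set_option autoImplicit false
open scoped MatrixGroups
open Cfsg

namespace Cfsg.Agent.S5967

/-- Involutions of PSL_n(q) and the symplectic-type subgroups. Here `T = PSL_n(F)` for a field `F` with `q` elements, `n ≥ 4` even, `f` is a nondegenerate alternating form on `F^n`, and `H` is the subgroup of matrices of determinant 1 preserving `f` up to a scalar — a maximal subgroup of type Sp_n(q); Ω is the set of `T`-conjugates of `H` (cosets of `H`), so an element of `T` of prime order `r` (a matrix `x` of determinant 1 with `x^r` scalar, `x` not scalar) fixes a point of Ω when some conjugate of `x` by a matrix of determinant 1 preserves `f` up to a scalar. Suppose the index of `H` is even. Then every involution of `T` is conjugate in `T` into `H` if and only if `(q − 1)_2 ≤ (n)_2`. -/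
theorem result {F : Type*} [Field F] [Fintype F] {p : ℕ} [Fact p.Prime] [CharP F p] {q : ℕ} (hq : Fintype.card F = q)
    (n : ℕ) (hn : 4 ≤ n) (he : Even n) (f : (Fin n → F) → (Fin n → F) → F) (hf : Cfsg.Geo.IsSymplecticForm f)
    (hΩ : 2 ∣ ((Cfsg.Geo.similarityGroup f).comap (Matrix.SpecialLinearGroup.toGL : Matrix.SpecialLinearGroup (Fin n) F →* GL (Fin n) F)).index) :
    (∀ x : Matrix.SpecialLinearGroup (Fin n) F,
      (∃ z : F, ((x ^ 2 : Matrix.SpecialLinearGroup (Fin n) F) : Matrix (Fin n) (Fin n) F) = z • (1 : Matrix (Fin n) (Fin n) F)) →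
      (∀ z : F, (x : Matrix (Fin n) (Fin n) F) ≠ z • (1 : Matrix (Fin n) (Fin n) F)) →
      ∃ P : Matrix.SpecialLinearGroup (Fin n) F, P⁻¹ * x * P ∈ ((Cfsg.Geo.similarityGroup f).comap (Matrix.SpecialLinearGroup.toGL : Matrix.SpecialLinearGroup (Fin n) F →* GL (Fin n) F))) ↔
    padicValNat 2 (q - 1) ≤ padicValNat 2 n := by
  classical
  obtain ⟨m, hnm⟩ := he
  have hn0 : 0 < n := by omega
  constructor
  · -- an involution with no conjugate in the subgroup
    intro hall
    by_contra hlt
    rw [not_le] at hlt
    obtain ⟨x, hx2, hxns, hx⟩ := Cfsg.Agent.Helper43.SpDer.exists_invol_not_sim hq (by omega) hlt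
    obtain ⟨P, hP⟩ := hall x hx2 hxns
    exact Cfsg.Agent.Helper43.SpDer.not_conj_mem_of_forall hf x hx P hP
  · rintro hv x ⟨z, hz⟩ hns
    have hz' : (x : Matrix (Fin n) (Fin n) F) * (x : Matrix (Fin n) (Fin n) F)
        = z • (1 : Matrix (Fin n) (Fin n) F) := by
      rw [← pow_two, ← Matrix.SpecialLinearGroup.coe_pow]
      exact hz
    by_cases hp2 : p = 2
    · subst hp2
      exact Cfsg.Agent.Helper43.SpDer.good_char_two hn0 hnm hf x z hz' hns
    · by_cases hsq : IsSquare z
      · obtain ⟨w, hw⟩ := hsq
        have hw0 : w ≠ 0 := by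
          rintro rfl
          rw [mul_zero] at hw
          rw [hw, zero_smul] at hz'
          have hne : Nonempty (Fin n) := ⟨⟨0, hn0⟩⟩
          have := congrArg Matrix.det hz'
          rw [Matrix.det_mul, x.2, one_mul, Matrix.det_zero] at this
          exact one_ne_zero this
        rw [hw] at hz'
        exact Cfsg.Agent.Helper43.SpDer.good_square_odd p hp2 hq hn0 hnm hf hv x w hw0 hz'
      · exact Cfsg.Agent.Helper43.SpDer.good_nonsquare p hp2 hn0 hnm hf x z hz' hsq

end Cfsg.Agent.S5967
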