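import Cfsg.Statements.S5968
import Cfsg.Agent.Helper43.SpDerB
import Cfsg.Agent.Helper43.SpDerC
import Cfsg.Agent.Helper43.SpDerD
import Cfsg.Agent.Helper43.SpDerF

set_option autoImplicit false
open scoped MatrixGroups
open Cfsg

namespace Cfsg.Agent.S5968

/-- Derangements of odd prime order of PSL_n(q) on the cosets of a symplectic-type subgroup. Here `T = PSL_n(F)` for a field `F` with `q` elements, `n ≥ 4` even, `f` is a nondegenerate alternating form on `F^n`, and `H` is the subgroup of matrices of determinant 1 preserving `f` up to a scalar — a maximal subgroup of type Sp_n(q); Ω is the set of `T`-conjugates of `H` (cosets of `H`), so an element of `T` of prime order `r` (a matrix `x` of determinant 1 with `x^r` scalar, `x` not scalar) fixes a point of Ω when some conjugate of `x` by a matrix of determinant 1 preserves `f` up to a scalar. For every odd prime `r` dividing the index of `H`, with `(n, r) ≠ (6, 3)`, there is an element of `T` of order `r` with no conjugate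 in `H`. (For `n = 6`, `r = 3` this can fail: when `(q − 1)_3 = 3` every element of order 3 is conjugate into `H`.) -/
theorem result {F : Type*} [Field F] [Fintype F] {p : ℕ} [Fact p.Prime] [CharP F p] {q : ℕ} (hq : Fintype.card F = q)
    (n : ℕ) (hn : 4 ≤ n) (he : Even n) (f : (Fin n → F) → (Fin n → F) → F) (hf : Cfsg.Geo.IsSymplecticForm f)
    (r : ℕ) [Fact r.Prime] (hr2 : r ≠ 2) (hgap : ¬ (n = 6 ∧ r = 3)) (hΩ : r ∣ ((Cfsg.Geo.similarityGroup f).comap (Matrix.SpecialLinearGroup.toGL : Matrix.SpecialLinearGroup (Fin n) F →* GL (Fin n) F)).index) :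
    ∃ x : Matrix.SpecialLinearGroup (Fin n) F,
      (∃ z : F, ((x ^ r : Matrix.SpecialLinearGroup (Fin n) F) : Matrix (Fin n) (Fin n) F) = z • (1 : Matrix (Fin n) (Fin n) F)) ∧
      (∀ z : F, (x : Matrix (Fin n) (Fin n) F) ≠ z • (1 : Matrix (Fin n) (Fin n) F)) ∧
      ∀ P : Matrix.SpecialLinearGroup (Fin n) F, P⁻¹ * x * P ∉ ((Cfsg.Geo.similarityGroup f).comap (Matrix.SpecialLinearGroup.toGL : Matrix.SpecialLinearGroup (Fin n) F →* GL (Fin n) F)) := by
  classical
  have hp : p.Prime := Fact.out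
  have hr : r.Prime := Fact.out
  have hq2 : 2 ≤ q := by rw [← hq]; exact Fintype.one_lt_card
  have hq1 : 1 ≤ q := by omega
  -- it suffices to find an element which is a similarity of no symplectic form
  suffices hmain : ∃ x : Matrix.SpecialLinearGroup (Fin n) F,
      (x : Matrix (Fin n) (Fin n) F) ^ r = 1 ∧
      (∀ z : F, (x : Matrix (Fin n) (Fin n) F) ≠ z • (1 : Matrix (Fin n) (Fin n) F)) ∧
      ∀ f' : (Fin n → F) → (Fin n → F) → F, Cfsg.Geo.IsSymplecticForm f' → ∀ c : F,
        ¬ Cfsg.Agent.Helper43.SpDer.SimWith f' (x : Matrix (Fin n) (Fin n) F) c by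
    obtain ⟨x, hxr, hxz, hx⟩ := hmain
    refine ⟨x, ⟨1, ?_⟩, hxz, fun P => Cfsg.Agent.Helper43.SpDer.not_conj_mem_of_forall hf x hx P⟩
    rw [Matrix.SpecialLinearGroup.coe_pow, hxr, one_smul]
  by_cases hrp : r = p
  · -- the unipotent element
    subst hrp
    have hn3 : 3 ≤ n := by omega
    have hp3 : 3 ≤ r := by
      have := hr.two_le
      omega
    refine ⟨⟨1 + Cfsg.Agent.Helper43.SpDer.nilN F hn3,
      Cfsg.Agent.Helper43.SpDer.det_one_add_nilN hn3 r hp3⟩,
      Cfsg.Agent.Helper43.SpDer.one_add_nilN_pow hn3 r hp3,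
      Cfsg.Agent.Helper43.SpDer.one_add_nilN_ne_smul hn3, ?_⟩
    intro f' hf' c
    exact Cfsg.Agent.Helper43.SpDer.unip_not_sim hn3 r hp3 f' hf' c
  · -- semisimple elements
    obtain ⟨m, hnm⟩ := he
    have hm1 : 1 ≤ m := by omega
    have hrq : ¬ r ∣ q := by
      intro h
      obtain ⟨f₁, -, hcard⟩ := FiniteField.card F p
      rw [← hq, hcard] at h
      exact hrp ((Nat.prime_dvd_prime_iff_eq hr hp).mp (hr.dvd_of_dvd_pow h))
    obtain ⟨k, hk, hHk⟩ := Cfsg.Agent.Helper43.SpDer.exists_index_dvd hf hnm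
    have hrk : r ∣ k := hΩ.trans hHk
    haveI : Nonempty (Fin n) := ⟨⟨0, by omega⟩⟩
    have hGL := Cfsg.Agent.Helper5.card_GL_eq_card_SL_mul (n := Fin n) (F := F)
    rw [Matrix.card_GL_field, hq] at hGL
    have hsp := Cfsg.Agent.Helper5.card_sp (F := F) m
    rw [hq] at hsp
    have key : k * (q ^ (m ^ 2) * ∏ i ∈ Finset.range m, (q ^ (2 * (i + 1)) - 1)) * (q - 1)
        = ∏ i : Fin (m + m), (q ^ (m + m) - q ^ (i : ℕ)) := by
      rw [← hsp, hk, ← hGL]
      subst hnm
      rfl
    rcases Cfsg.Agent.Helper43.SpDer.dvd_or_exists_dvd_pow_sub_one hq2 hm1 hr key hrk with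
      h | ⟨j, hj, hrj⟩
    · exact absurd h hrq
    · obtain ⟨hodd, hle⟩ := Cfsg.Agent.Helper43.SpDer.orderOf_odd_of_dvd hr hq1 hrj
      have hen : orderOf (q : ZMod r) ≤ n := by omega
      by_cases he1 : orderOf (q : ZMod r) = 1
      · -- r divides q - 1
        have hrq1 : r ∣ q - 1 := by
          rw [orderOf_eq_one_iff] at he1
          rw [← ZMod.natCast_eq_zero_iff, Nat.cast_sub hq1, he1]
          simp
        exact Cfsg.Agent.Helper43.SpDer.exists_diag_not_sim hq hn ⟨m, hnm⟩ r hr hr2 hrq1 hgap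
      · have he3 : 3 ≤ orderOf (q : ZMod r) := by
          obtain ⟨t, ht⟩ := hodd
          omega
        exact Cfsg.Agent.Helper43.SpDer.exists_ss_not_sim p hq hnm r hr hr2 hrp hodd he3 hen

end Cfsg.Agent.S5968
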