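import Cfsg.Statements.S5972
import Cfsg.Agent.Helper94.TsI
import Cfsg.Agent.Helper94.TsK

set_option autoImplicit false
open scoped MatrixGroups
open Cfsg

namespace Cfsg.Agent.S5972

open Cfsg.Agent.Helper94.Ts Cfsg.Agent.Helper94.Ti Cfsg.Agent.Helper99.SpStruct

/-- Elements of prime order of Ω_n(q), n = 2d+1 ≥ 7, q odd, with no fixed totally singular `m`-space. Here `T = Ω_n(q)` is realised as the commutator subgroup of the isometry group of the quadratic form `x₀² + Σ xᵢyᵢ` over the field `F` with `q` elements (it has trivial centre, so its elements of prime order `r` are used directly); let `1 ≤ m ≤ d` and let `r` be a prime dividing the number of totally singular `m`-spaces. For `r ≠ p` let `i` be the multiplicative order of `q` modulo `r`, `c = i` for `i` even and `c = 2i` for `i` odd, and write `k = n mod c`, `ℓ = m mod i`, `n' = ⌊n/i⌋`, `m' = ⌊m/i⌋`, `t = (r−1)/i`. Then every element of `T` of order `r` fixes some totally singular `m`-space if and only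 if either (i) `r = 2` and (`m < (n−1)/2` or `q ≡ 1 (mod 4)`); or (ii) `r ≠ p` is odd, `i ≤ m`, `k > 2ℓ`, and (`i` is odd or `n' − 2m' ≥ t`). -/
theorem result {F : Type*} [Field F] [Fintype F] {p : ℕ} [Fact p.Prime] [CharP F p] {q : ℕ} (hq : Fintype.card F = q) (hqodd : Odd q)
    (d m : ℕ) (hd : 3 ≤ d) (hm : 1 ≤ m) (hmd : m ≤ d)
    (r : ℕ) [Fact r.Prime]
    (hrΩ : r ∣ Nat.card {W : Submodule F (Unit ⊕ (Fin d ⊕ Fin d) → F) // Module.finrank F ↥W = m ∧ (∀ w ∈ W, Cfsg.quadFormOdd d F w = 0)})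
    (i c : ℕ) (hi : i = orderOf (q : ZMod r)) (hc : c = if Even i then i else 2 * i) :
    (∀ x : GL (Unit ⊕ (Fin d ⊕ Fin d)) F, x ∈ Cfsg.Geo.omegaGL (Cfsg.quadFormOdd d F) → orderOf x = r →
      ∃ W : Submodule F (Unit ⊕ (Fin d ⊕ Fin d) → F), Module.finrank F ↥W = m ∧ (∀ w ∈ W, Cfsg.quadFormOdd d F w = 0) ∧
        W.map (Matrix.toLin' (x : Matrix (Unit ⊕ (Fin d ⊕ Fin d)) (Unit ⊕ (Fin d ⊕ Fin d)) F)) ≤ W) ↔
    ((r = 2 ∧ (m < d ∨ q % 4 = 1)) ∨
     (r ≠ p ∧ 2 < r ∧ i ≤ m ∧ 2 * (m % i) < (2 * d + 1) % c ∧ (Odd i ∨ (r - 1) / i + 2 * (m / i) ≤ (2 * d + 1) / i))) := by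
  classical
  subst hq
  have hr : r.Prime := Fact.out
  have h2 : (2 : F) ≠ 0 := by
    intro h
    haveI : CharP F 2 := CharTwo.of_one_ne_zero_of_two_eq_zero one_ne_zero h
    obtain ⟨n, -, hn⟩ := FiniteField.card F 2
    rw [hn] at hqodd
    have : Even (2 ^ (n : ℕ)) := (Nat.even_pow' n.pos.ne').mpr even_two
    exact (Nat.not_odd_iff_even.mpr this) hqodd
  have hcb : c = blockSize i := by rw [hc]; rfl
  have hq4 : Fintype.card F % 4 = 1 ∨ Fintype.card F % 4 = 3 := by
    obtain ⟨k, hk⟩ := hqodd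
    omega
  -- reformulation of the hypothesis
  have hequiv : (∀ x : GL (Unit ⊕ (Fin d ⊕ Fin d)) F, x ∈ Cfsg.Geo.omegaGL (Cfsg.quadFormOdd d F) →
      orderOf x = r →
      ∃ W : Submodule F (Unit ⊕ (Fin d ⊕ Fin d) → F), Module.finrank F ↥W = m ∧
        (∀ w ∈ W, Cfsg.quadFormOdd d F w = 0) ∧
        W.map (Matrix.toLin' (x : Matrix (Unit ⊕ (Fin d ⊕ Fin d)) (Unit ⊕ (Fin d ⊕ Fin d)) F)) ≤ W) ↔
      TsProp F d m r := by
    constructor
    · intro H y hyΩ hyord
      exact H (y : GL (Unit ⊕ (Fin d ⊕ Fin d)) F) (Subgroup.mem_map.mpr ⟨y, hyΩ, rfl⟩)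
        (by rw [Subgroup.orderOf_coe]; exact hyord)
    · intro H x hx hxord
      obtain ⟨y, hyΩ, rfl⟩ := Subgroup.mem_map.mp hx
      exact H y hyΩ (by rw [← hxord]; exact (Subgroup.orderOf_coe y).symm)
  rw [hequiv]
  constructor
  · intro HT
    by_cases hr2 : r = 2
    · left
      refine ⟨hr2, ?_⟩
      by_contra hcon
      push Not at hcon
      obtain ⟨hmd', hq1⟩ := hcon
      have hmeq : m = d := by omega
      have hns : ¬ IsSquare (-1 : F) := by
        rw [FiniteField.isSquare_neg_one_iff]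
        push Not
        rcases hq4 with h | h
        · exact absurd h hq1
        · exact h
      obtain ⟨g, hgΩ, hord, hno⟩ := exists_invol_no_ts (F := F) (d := d) h2 (by omega) hns
      obtain ⟨W, hW1, hW2, hW3⟩ := HT g hgΩ (hord.trans hr2.symm)
      exact hno W (hW1.trans hmeq) hW2 hW3
    · right
      have hrp : r ≠ p := by
        intro hrp
        subst hrp
        have hΩ' : r ∣ Nat.card {W : Submodule F (Unit ⊕ (Fin d ⊕ Fin d) → F) //
            Module.finrank F ↥W = m ∧ IsTi (oB d F) W} := by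
          have e : {W : Submodule F (Unit ⊕ (Fin d ⊕ Fin d) → F) // Module.finrank F ↥W = m ∧
              IsTi (oB d F) W} ≃ {W : Submodule F (Unit ⊕ (Fin d ⊕ Fin d) → F) //
              Module.finrank F ↥W = m ∧ (∀ w ∈ W, Cfsg.quadFormOdd d F w = 0)} :=
            Equiv.subtypeEquivRight (fun W => by rw [isTi_iff_q h2])
          rw [Nat.card_congr e]
          exact hrΩ
        exact char_not_dvd_card_ts (oB d F) oB_symm h2 (oB_nondeg h2) finrank_oV m hmd r hΩ'
      have hr3 : 2 < r := lt_of_le_of_ne hr.two_le (Ne.symm hr2)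
      obtain ⟨h1, h3, h4⟩ := cond_of_tsProp h2 r hrp hr2 hm hmd HT hrΩ
      rw [← hi] at h1 h3 h4
      rw [← hcb] at h3
      exact ⟨hrp, hr3, h1, by omega, h4⟩
  · rintro (⟨hr2, hcase⟩ | ⟨hrp, hr2lt, him, h2l, hcond⟩)
    · intro g hgΩ hgord
      have hgg : g * g = 1 := by
        have := pow_orderOf_eq_one g
        rwa [hgord, hr2, pow_two] at this
      have hcase' : m < d ∨ IsSquare (-1 : F) := by
        rcases hcase with h | h
        · exact Or.inl h
        · right
          rw [FiniteField.isSquare_neg_one_iff]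
          omega
      exact ts_of_invol h2 hmd hcase' g hgΩ hgg
    · intro g hgΩ hgord
      have hr2 : r ≠ 2 := by omega
      have hgr : g ^ r = 1 := by rw [← hgord]; exact pow_orderOf_eq_one g
      rw [hi] at h2l hcond
      rw [hcb, hi] at h2l
      exact ts_of_cond h2 r hrp hr2 _ (toLin_iso g) (toLin_pow_eq_one' g hgr) m hmd
        (by omega) hcond


end Cfsg.Agent.S5972
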