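import Cfsg.Statements.S5974
import Cfsg.Agent.Helper99.QSpMain
-- import your own Cfsg.Agent.* helpers here

set_option autoImplicit false
open scoped MatrixGroups
open Cfsg

namespace Cfsg.Agent.S5974

open Module Cfsg.Agent.Helper99.SpStruct Cfsg.Agent.Helper99.QSp Cfsg.Agent.Helper99.QSpMain
open Cfsg.Agent.Helper99.QSpGlue Cfsg.Agent.Helper44

/-- Elements of prime order of PΩ⁺_n(q), n = 2d ≥ 8, with no fixed nondegenerate hyperbolic `m`-space. Here `T = PΩ⁺_n(q)` is realised through `Ω⁺_n(q)`, the commutator subgroup of the isometry group of `Q = Σ xᵢyᵢ` over the field `F` with `q` elements; an element of `T` of prime order `r` is an element `x` of `Ω⁺_n(q)` with `x^r` scalar and `x` not scalar. A hyperbolic `m`-space is a subspace `W` of even dimension `m` on which the polar form of `Q` is nondegenerate and which contains a totally singular subspace of dimension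 `m/2`. Let `m` be even with `2 ≤ m < n/2`, and let `r` be a prime dividing the number of hyperbolic `m`-spaces, with `r = 2` or `r ≠ p`. For `r ≠ p` let `i` be the multiplicative order of `q` modulo `r`, `c = i` for `i` even and `c = 2i` for `i` odd, and write `k = n mod c`, `ℓ' = m mod c`. Then every element of `T` of order `r` fixes some hyperbolic `m`-space if and only if one of: (i) `r = 2` and (`n ≡ 2 (mod 4)`, or `m ≡ 0 (mod 4)`, or `q ≡ 1 (mod 4)`); (ii) `r ≠ p` odd, `i` odd, `c ≤ m` and `k ≥ ℓ'`; (iii) `r ≠ p` odd, `i` even, and either `k = 0` and (`n/i` odd, or `ℓ' = 0` and `m/i` even), or `i ≤ m` and (`k > ℓ' > 0`, or `k = ℓ' > 0` and `(n + m − 2k)/i` even, or `k > ℓ' = 0` and `m/i` even). -/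
theorem result {F : Type*} [Field F] [Fintype F] {p : ℕ} [Fact p.Prime] [CharP F p] {q : ℕ} (hq : Fintype.card F = q)
    (d m : ℕ) (hd : 4 ≤ d) (hm : 2 ≤ m) (hme : Even m) (hmd : m < d)
    (r : ℕ) [Fact r.Prime] (hr : r = 2 ∨ r ≠ p)
    (hrΩ : r ∣ Nat.card {W : Submodule F (Fin d ⊕ Fin d → F) // (Module.finrank F ↥W = m ∧ (∀ u ∈ W, u ≠ 0 → ∃ v ∈ W, QuadraticMap.polar (Cfsg.quadFormPlus d F) u v ≠ 0) ∧
          ∃ U : Submodule F (Fin d ⊕ Fin d → F), U ≤ W ∧ 2 * Module.finrank F ↥U = m ∧ ∀ u ∈ U, Cfsg.quadFormPlus d F u = 0)})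
    (i c : ℕ) (hi : i = orderOf (q : ZMod r)) (hc : c = if Even i then i else 2 * i) :
    (∀ x : GL (Fin d ⊕ Fin d) F, x ∈ Cfsg.Geo.omegaGL (Cfsg.quadFormPlus d F) →
      (∃ z : F, ((x ^ r : GL (Fin d ⊕ Fin d) F) : Matrix (Fin d ⊕ Fin d) (Fin d ⊕ Fin d) F) = z • (1 : Matrix (Fin d ⊕ Fin d) (Fin d ⊕ Fin d) F)) →
      (∀ z : F, (x : Matrix (Fin d ⊕ Fin d) (Fin d ⊕ Fin d) F) ≠ z • (1 : Matrix (Fin d ⊕ Fin d) (Fin d ⊕ Fin d) F)) →
      ∃ W : Submodule F (Fin d ⊕ Fin d → F), (Module.finrank F ↥W = m ∧ (∀ u ∈ W, u ≠ 0 → ∃ v ∈ W, QuadraticMap.polar (Cfsg.quadFormPlus d F) u v ≠ 0) ∧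
          ∃ U : Submodule F (Fin d ⊕ Fin d → F), U ≤ W ∧ 2 * Module.finrank F ↥U = m ∧ ∀ u ∈ U, Cfsg.quadFormPlus d F u = 0) ∧
        W.map (Matrix.toLin' (x : Matrix (Fin d ⊕ Fin d) (Fin d ⊕ Fin d) F)) ≤ W) ↔
    ((r = 2 ∧ ((2 * d) % 4 = 2 ∨ m % 4 = 0 ∨ q % 4 = 1)) ∨
     (r ≠ p ∧ 2 < r ∧ Odd i ∧ c ≤ m ∧ m % c ≤ (2 * d) % c) ∨
     (r ≠ p ∧ 2 < r ∧ Even i ∧
       (((2 * d) % c = 0 ∧ (Odd ((2 * d) / i) ∨ (m % c = 0 ∧ Even (m / i)))) ∨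
        (i ≤ m ∧ ((m % c < (2 * d) % c ∧ 0 < m % c) ∨
                  ((2 * d) % c = m % c ∧ 0 < m % c ∧ Even ((2 * d + m - 2 * ((2 * d) % c)) / i)) ∨
                  (0 < (2 * d) % c ∧ m % c = 0 ∧ Even (m / i))))))) := by
  classical
  subst hq
  obtain ⟨e, he⟩ := hme
  have hm2 : m = 2 * e := by omega
  subst hm2
  have hr' : r.Prime := Fact.out
  -- the statement in our language
  have hL : (∀ x : GL (Fin d ⊕ Fin d) F, x ∈ Cfsg.Geo.omegaGL (Cfsg.quadFormPlus d F) →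
      (∃ z : F, ((x ^ r : GL (Fin d ⊕ Fin d) F) : Matrix (Fin d ⊕ Fin d) (Fin d ⊕ Fin d) F) = z • (1 : Matrix (Fin d ⊕ Fin d) (Fin d ⊕ Fin d) F)) →
      (∀ z : F, (x : Matrix (Fin d ⊕ Fin d) (Fin d ⊕ Fin d) F) ≠ z • (1 : Matrix (Fin d ⊕ Fin d) (Fin d ⊕ Fin d) F)) →
      ∃ W : Submodule F (Fin d ⊕ Fin d → F), (Module.finrank F ↥W = 2 * e ∧ (∀ u ∈ W, u ≠ 0 → ∃ v ∈ W, QuadraticMap.polar (Cfsg.quadFormPlus d F) u v ≠ 0) ∧
          ∃ U : Submodule F (Fin d ⊕ Fin d → F), U ≤ W ∧ 2 * Module.finrank F ↥U = 2 * e ∧ ∀ u ∈ U, Cfsg.quadFormPlus d F u = 0) ∧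
        W.map (Matrix.toLin' (x : Matrix (Fin d ⊕ Fin d) (Fin d ⊕ Fin d) F)) ≤ W) ↔
      (∀ x : GL (Fin d ⊕ Fin d) F, x ∈ Cfsg.Geo.omegaGL (Cfsg.quadFormPlus d F) →
      (∃ z : F, ((x ^ r : GL (Fin d ⊕ Fin d) F) : Matrix (Fin d ⊕ Fin d) (Fin d ⊕ Fin d) F) = z • (1 : Matrix (Fin d ⊕ Fin d) (Fin d ⊕ Fin d) F)) →
      (∀ z : F, (x : Matrix (Fin d ⊕ Fin d) (Fin d ⊕ Fin d) F) ≠ z • (1 : Matrix (Fin d ⊕ Fin d) (Fin d ⊕ Fin d) F)) →
      Good F d (2 * e) (x : Matrix (Fin d ⊕ Fin d) (Fin d ⊕ Fin d) F)) :=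
    forall_congr' fun x => imp_congr_right fun _ => imp_congr_right fun _ =>
      imp_congr_right fun _ => good_iff_stmt _
  rw [hL]
  by_cases hr2 : r = 2
  · subst hr2
    have hR : ((2 = 2 ∧ ((2 * d) % 4 = 2 ∨ (2 * e) % 4 = 0 ∨ Fintype.card F % 4 = 1)) ∨
        (2 ≠ p ∧ 2 < 2 ∧ Odd i ∧ c ≤ 2 * e ∧ (2 * e) % c ≤ (2 * d) % c) ∨
        (2 ≠ p ∧ 2 < 2 ∧ Even i ∧
          (((2 * d) % c = 0 ∧ (Odd ((2 * d) / i) ∨ ((2 * e) % c = 0 ∧ Even ((2 * e) / i)))) ∨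
          (i ≤ 2 * e ∧ (((2 * e) % c < (2 * d) % c ∧ 0 < (2 * e) % c) ∨
            ((2 * d) % c = (2 * e) % c ∧ 0 < (2 * e) % c ∧ Even ((2 * d + 2 * e - 2 * ((2 * d) % c)) / i)) ∨
            (0 < (2 * d) % c ∧ (2 * e) % c = 0 ∧ Even ((2 * e) / i))))))) ↔
        ((2 * d) % 4 = 2 ∨ (2 * e) % 4 = 0 ∨ Fintype.card F % 4 = 1) := by
      constructor
      · rintro (⟨-, h⟩ | ⟨-, h, -⟩ | ⟨-, h, -⟩)
        · exact h
        · omega
        · omega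
      · intro h
        exact Or.inl ⟨rfl, h⟩
    rw [hR]
    by_cases h2F : (2 : F) = 0
    · exact two_iff_char_two h2F hd (by omega) (by omega)
    · exact two_iff_odd_char h2F hd (by omega) (by omega)
  · have hrp : r ≠ p := hr.resolve_left hr2
    have hr3 : 2 < r := lt_of_le_of_ne hr'.two_le (Ne.symm hr2)
    have hcb : c = blockSize i := by rw [hc]; rfl
    subst hi
    subst hcb
    have hΩ' : r ∣ Nat.card {W : Submodule F (Fin d ⊕ Fin d → F) // Module.finrank F ↥W = 2 * e ∧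
        Nd (pB (plusForm d F)) W ∧ Hyp (plusForm d F) W} := by
      rw [Nat.card_congr (Equiv.subtypeEquivRight (fun W => by
        show (Module.finrank F ↥W = 2 * e ∧ Nd (pB (plusForm d F)) W ∧ Hyp (plusForm d F) W) ↔
          (Module.finrank F ↥W = 2 * e ∧ (∀ u ∈ W, u ≠ 0 → ∃ v ∈ W, QuadraticMap.polar (Cfsg.quadFormPlus d F) u v ≠ 0) ∧
          ∃ U : Submodule F (Fin d ⊕ Fin d → F), U ≤ W ∧ 2 * Module.finrank F ↥U = 2 * e ∧ ∀ u ∈ U, Cfsg.quadFormPlus d F u = 0)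
        constructor
        · rintro ⟨h1, h2, h3⟩
          exact ⟨h1, nd_iff_stmt.mp h2, (hyp_iff_stmt h1).mp h3⟩
        · rintro ⟨h1, h2, h3⟩
          exact ⟨h1, nd_iff_stmt.mpr h2, (hyp_iff_stmt h1).mpr h3⟩))]
      exact hrΩ
    rw [odd_iff hd r hrp hr2 (by omega) (by omega) hΩ']
    constructor
    · rintro (⟨h1, h2, h3⟩ | ⟨h1, h2⟩)
      · exact Or.inr (Or.inl ⟨hrp, hr3, h1, h2, h3⟩)
      · exact Or.inr (Or.inr ⟨hrp, hr3, h1, h2⟩)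
    · rintro (⟨h, -⟩ | ⟨-, -, h1, h2, h3⟩ | ⟨-, -, h1, h2⟩)
      · exact absurd h hr2
      · exact Or.inl ⟨h1, h2, h3⟩
      · exact Or.inr ⟨h1, h2⟩

end Cfsg.Agent.S5974
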