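import Cfsg.Statements.S5981
import Cfsg.Agent.Helper44.QSimDefs
import Cfsg.Agent.Helper44.QSimIdx
import Cfsg.Agent.Helper44.QSimTwoA
import Cfsg.Agent.Helper44.QSimTwoB
import Cfsg.Agent.Helper44.QSimEx
import Cfsg.Agent.Helper45.NonsingMax2
import Cfsg.Agent.Helper29.QSimU
import Cfsg.Agent.Helper29.QSimDGa
import Cfsg.Agent.Helper29.QSimDGb
import Cfsg.Agent.Helper40.QSimDGc
import Cfsg.Agent.Helper65.QSimIDXa
import Cfsg.Agent.Helper93.QSimSSodd
import Cfsg.Agent.Helper93.QSimSSeven

set_option autoImplicit false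
open scoped MatrixGroups
open Cfsg

namespace Cfsg.Agent.S5981

open Matrix Cfsg.Geo QuadraticMap Cfsg.Agent.Helper44.QType Cfsg.Agent.Helper44.QSim

/-- Elements of prime order of PSL_n(q), q odd, and the subgroups of orthogonal type. Here `T = PSL_n(F)` for a field `F` with `q` elements, `q` odd, `n ≥ 3`; `Q` is a non-degenerate quadratic form on `F^n` (of either type when `n` is even) and `H` is the subgroup of matrices of determinant 1 that preserve `Q` up to a scalar — a subgroup of type O^ε_n(q) (maximality is not assumed); Ω is the set of cosets of `H` in `T`, so an element of `T` of prime order `r` (a matrix `x` of determinant 1 with `x^r` scalar, `x` not scalar) fixes a point of Ω exactly when some conjugate of `x` by a matrix of determinant 1 preserves `Q` up to a scalar. Let `r` be a prime dividing the index of `H`, with `(n, r) ≠ (6, 3)`. Then every element of `T` of order `r` fixes a point of Ω if and only if `r = 2`, or `r ∈ {3, 5}`, `n = r` and `(q − 1)_r = r` (the `r`-part of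 `q − 1` is exactly `r`). The case `(n, r) = (6, 3)` is not covered by this statement. -/
theorem result {F : Type*} [Field F] [Fintype F] {p : ℕ} [Fact p.Prime] [CharP F p] {q : ℕ} (hq : Fintype.card F = q)
    (hodd : Odd q) (n : ℕ) (hn : 3 ≤ n) (Q : (Fin n → F) → F) (hQ : Cfsg.Geo.IsNondegenerateQuadraticForm Q)
    (r : ℕ) [Fact r.Prime] (hgap : ¬ (n = 6 ∧ r = 3))
    (hΩ : r ∣ (Cfsg.Geo.quadSimilarityGroup Q).relIndex (Cfsg.Geo.specialLinear (Fin n) F)) :
    (∀ x ∈ Cfsg.Geo.specialLinear (Fin n) F, (∃ z : F, ((x ^ r : GL (Fin n) F) : Matrix (Fin n) (Fin n) F) = z • (1 : Matrix (Fin n) (Fin n) F)) →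
      (∀ z : F, (x : Matrix (Fin n) (Fin n) F) ≠ z • (1 : Matrix (Fin n) (Fin n) F)) →
      ∃ g ∈ Cfsg.Geo.specialLinear (Fin n) F, g⁻¹ * x * g ∈ Cfsg.Geo.quadSimilarityGroup Q) ↔
    (r = 2 ∨ ((r = 3 ∨ r = 5) ∧ n = r ∧ padicValNat r (q - 1) = 1)) := by
  classical
  have hr : r.Prime := Fact.out
  have hp : p.Prime := Fact.out
  have hq2 : 2 ≤ q := two_le_card' hq
  have hp2 : p ≠ 2 := by
    rintro rfl
    obtain ⟨k, -, hk⟩ := FiniteField.card F 2
    rw [hq] at hk
    rw [hk] at hodd
    exact (Nat.not_even_iff_odd.mpr hodd) ((Nat.even_pow' k.ne_zero).mpr even_two)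
  have hq1 : q - 1 ≠ 0 := by omega
  obtain ⟨Qb, rfl⟩ : ∃ Qb : QuadraticForm F (Fin n → F), ⇑Qb = Q :=
    ⟨Cfsg.Agent.Helper45.OmegaParity.qfOfGeo Q hQ, rfl⟩
  have hQnd := Cfsg.Agent.Helper45.OmegaParity.nondeg_of_geo Qb hQ
  constructor
  · intro hall
    by_contra hRHS
    rw [not_or] at hRHS
    obtain ⟨hr2, hRHS⟩ := hRHS
    have key : ∀ x : GL (Fin n) F, IsPrimeElt r x →
        (∀ g : GL (Fin n) F, g⁻¹ * x * g ∉ quadSimilarityGroup (⇑Qb)) → False := by
      intro x hx hno
      obtain ⟨g, -, hg⟩ := hall x hx.1 hx.2.1 hx.2.2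
      exact hno g hg
    by_cases hrp : r = p
    · subst hrp
      obtain ⟨x, hx, hns⟩ :=
        Cfsg.Agent.Helper29.QSim.exists_unipotent_noSim (F := F) (n := n) r hp2 (by omega)
      exact key x hx (not_conj_mem_of_noSim Qb hQnd x hns)
    by_cases hrq : r ∣ q - 1
    · by_cases hr3 : r = 3
      · by_cases hn3 : n = 3
        · by_cases h9 : r ^ 2 ∣ q - 1
          · obtain ⟨x, hx, hns⟩ :=
              Cfsg.Agent.Helper40.QSim.exists_diag_noSim_sq hq hn r hr hr2 (by omega) h9
            exact key x hx (not_conj_mem_of_noSim Qb hQnd x hns)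
          · exact hRHS ⟨Or.inl hr3, by omega, padicVal_eq_one hq1 hrq h9⟩
        · have hn6 : n ≠ 6 := fun h => hgap ⟨h, hr3⟩
          subst hr3
          obtain ⟨x, hx, hns⟩ :=
            Cfsg.Agent.Helper29.QSim.exists_diag_noSim_three hq (by omega) hn6 hrq
          exact key x hx (not_conj_mem_of_noSim Qb hQnd x hns)
      · have hr5 : 5 ≤ r := by
          have h2 := hr.two_le
          by_contra hlt
          have h4 : r = 4 := by omega
          rw [h4] at hr
          exact absurd hr (by decide)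
        by_cases h55 : n = 5 ∧ r = 5
        · by_cases h25 : r ^ 2 ∣ q - 1
          · obtain ⟨x, hx, hns⟩ :=
              Cfsg.Agent.Helper40.QSim.exists_diag_noSim_sq hq hn r hr hr2 (by omega) h25
            exact key x hx (not_conj_mem_of_noSim Qb hQnd x hns)
          · exact hRHS ⟨Or.inr h55.2, by omega, padicVal_eq_one hq1 hrq h25⟩
        · obtain ⟨x, hx, hns⟩ :=
            Cfsg.Agent.Helper29.QSim.exists_diag_noSim_ge_five hq hn r hr hr5 hrq h55
          exact key x hx (not_conj_mem_of_noSim Qb hQnd x hns)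
    · have hrq' : ¬ r ∣ q := not_dvd_card p hq hr hrp
      have he1 : orderOf (q : ZMod r) ≠ 1 := orderOf_cast_ne_one (by omega) hrq
      have he0 : 0 < orderOf (q : ZMod r) := orderOf_cast_pos hr hrq'
      rcases Nat.even_or_odd (orderOf (q : ZMod r)) with hev | hod
      · obtain ⟨m, ε, hnm, hm1, hε, hT, hpow⟩ := type_of_index p hq hodd hn Qb hQnd r hr hrp hev hΩ
        obtain ⟨x, hx, hns⟩ := Cfsg.Agent.Helper93.QSim.exists_fpf_noSimT (F := F) p hq hnm hm1 r
          hr hr2 hrp hrq hε hpow
        exact key x hx (not_conj_mem_of_noSimT Qb hQnd hT x hns)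
      · have he3 : 3 ≤ orderOf (q : ZMod r) := by
          rcases hod with ⟨k, hk⟩
          omega
        have hen := Cfsg.Agent.Helper65.QSim.orderOf_le_of_dvd_index p hq
          (quadSimilarityGroup (⇑Qb)) r hr hrp hΩ
        obtain ⟨x, hx, hns⟩ := Cfsg.Agent.Helper93.QSim.exists_ss_noSim_odd (F := F) p hp2 hq r
          hr hr2 hrp hod he3 hen
        exact key x hx (not_conj_mem_of_noSim Qb hQnd x hns)
  · rintro (h2 | ⟨h35, hnr, hv⟩) x hx ⟨z, hz⟩ hns
    · subst h2
      have hxx : (x : Matrix (Fin n) (Fin n) F) * (x : Matrix (Fin n) (Fin n) F)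
          = z • (1 : Matrix (Fin n) (Fin n) F) := by
        rw [← hz, pow_two, Units.val_mul]
      by_cases hsq : IsSquare z
      · obtain ⟨w, hw⟩ := hsq
        have hw0 : w ≠ 0 := by
          rintro rfl
          rw [mul_zero] at hw
          rw [hw, zero_smul] at hxx
          have hdet : (x : Matrix (Fin n) (Fin n) F).det = 1 := (mem_specialLinear_iff x).mp hx
          have hdd := congrArg Matrix.det hxx
          haveI hne : Nonempty (Fin n) := ⟨⟨0, by omega⟩⟩
          rw [Matrix.det_mul, hdet, one_mul, Matrix.det_zero] at hdd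
          exact one_ne_zero hdd
        rw [hw] at hxx
        exact good_square p hp2 Qb hQnd x hx w hw0 hxx
      · exact good_nonsquare p hp2 Qb hQnd x hx z hsq hxx
    · exact good_exceptional p hp2 hq Qb hQnd r hr h35 hnr hv x ⟨hx, ⟨z, hz⟩, hns⟩

end Cfsg.Agent.S5981
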