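import Cfsg.Statements.S5983
import Cfsg.Agent.Helper43.SpOrthG

set_option autoImplicit false
open scoped MatrixGroups
open Cfsg

namespace Cfsg.Agent.S5983

/-- Elements of prime order of PSp_n(q), q even, and the subgroups of orthogonal type. Here `T = Sp_{2d}(F)` for a field `F` of characteristic 2 with `q` elements (`d ≥ 2`, `(d, q) ≠ (2, 2)`), realised as the invertible matrices preserving the standard alternating form; `Q` is a non-degenerate quadratic form on `F^{2d}` whose polar form is that alternating form, and `H` is the subgroup of `T` preserving `Q` up to a scalar (equivalently preserving `Q`) — a subgroup of type O^±_{2d}(q) (maximality is not assumed); `Q` is of plus type when `F^{2d}` contains a `d`-dimensional subspace on which `Q` vanishes, of minus type otherwise. Ω is the set of cosets of `H` in `T`, so an element of `T` of prime order `r` (`x ∈ T` with `x^r` scalar, `x` not scalar) fixes a point of Ω exactly when some `T`-conjugate of `x` preserves `Q`. Let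 `r` be a prime dividing the index of `H`. Then every element of `T` of order `r` fixes a point of Ω if and only if `r = 2` and either `Q` is of plus type or `d` is odd. -/
theorem result {F : Type*} [Field F] [Fintype F] {p : ℕ} [Fact p.Prime] [CharP F p] {q : ℕ} (hq : Fintype.card F = q)
    (hp : p = 2) (d : ℕ) (hd : 2 ≤ d) (hT : (d, q) ≠ (2, 2)) (Q : (Fin d ⊕ Fin d → F) → F) (hQ : Cfsg.Geo.IsNondegenerateQuadraticForm Q)
    (hQf : ∀ u v, QuadraticMap.polar Q u v = Cfsg.sympForm d F u v)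
    (r : ℕ) [Fact r.Prime]
    (hΩ : r ∣ (Cfsg.Geo.quadSimilarityGroup Q).relIndex (Cfsg.spGL d F)) :
    (∀ x ∈ Cfsg.spGL d F, (∃ z : F, ((x ^ r : GL (Fin d ⊕ Fin d) F) : Matrix (Fin d ⊕ Fin d) (Fin d ⊕ Fin d) F) = z • (1 : Matrix (Fin d ⊕ Fin d) (Fin d ⊕ Fin d) F)) →
      (∀ z : F, (x : Matrix (Fin d ⊕ Fin d) (Fin d ⊕ Fin d) F) ≠ z • (1 : Matrix (Fin d ⊕ Fin d) (Fin d ⊕ Fin d) F)) →
      ∃ g ∈ Cfsg.spGL d F, g⁻¹ * x * g ∈ Cfsg.Geo.quadSimilarityGroup Q) ↔
    (r = 2 ∧ (Cfsg.Geo.IsPlusTypeOn Q ⊤ ∨ Odd d)) := by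
  classical
  subst hp
  obtain ⟨k, rfl⟩ : ∃ k, d = k + 1 := ⟨d - 1, by omega⟩
  have hr : r.Prime := Fact.out
  have hd1 : 1 ≤ k + 1 := by omega
  constructor
  · intro hall
    have hr2 : r = 2 := by
      by_contra hr2
      obtain ⟨x, hx, hxr, hxns, hxder⟩ :=
        Cfsg.Agent.Helper43.SpOrth.exists_derangement_odd hq hQ hQf r hr hr2 hΩ
      obtain ⟨g, hg, hmem⟩ := hall x hx ⟨1, by rw [hxr, Units.val_one, one_smul]⟩ hxns
      exact hxder g hg hmem
    refine ⟨hr2, ?_⟩
    subst hr2
    by_contra hcon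
    push Not at hcon
    obtain ⟨hnp, hnodd⟩ := hcon
    rcases Cfsg.Agent.Helper43.SpOrth.exists_std hQ with ⟨C, hC⟩ | ⟨ζ, hζ, C, hC⟩
    · exact hnp (Cfsg.Agent.Helper43.SpOrth.isPlusTypeOn_of_plus C hC)
    · have hkodd : Odd k := by
        rcases Nat.even_or_odd k with h | h
        · exact absurd (Even.add_one h) hnodd
        · exact h
      obtain ⟨x, hx, hxx, hxns, hxder⟩ :=
        Cfsg.Agent.Helper43.SpOrth.exists_invol_not_conj hkodd hQ hQf 1 ζ
          (Cfsg.Agent.Helper43.SpOrth.aniso_of_irred ζ hζ) C hC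
      obtain ⟨g, hg, hmem⟩ := hall x hx ⟨1, by rw [pow_two, hxx, Units.val_one, one_smul]⟩ hxns
      exact hxder g hg hmem
  · rintro ⟨rfl, htype⟩ x hx ⟨z, hz⟩ hxns
    have hx2mem : x ^ 2 ∈ Cfsg.spGL (k + 1) F := pow_mem hx 2
    have hz1 : z = 1 := Cfsg.Agent.Helper43.SpOrth.scalar_eq_one_of_mem_symp hd1 z (by
      rw [← hz]
      exact (Cfsg.Agent.Helper43.SpOrth.mem_spGL_iff_mem_symp _).mp hx2mem)
    have hxx : x * x = 1 := by
      apply Units.ext
      rw [← pow_two, hz, hz1, one_smul]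
      rfl
    have hx1 : x ≠ 1 := by
      intro h
      apply hxns 1
      rw [h, one_smul]
      rfl
    rcases Cfsg.Agent.Helper43.SpOrth.exists_std hQ with ⟨C, hC⟩ | ⟨ζ, hζ, C, hC⟩
    · exact Cfsg.Agent.Helper43.SpOrth.invol_conj_mem_plus hQf C hC x hx hxx hx1
    · have hkev : Even k := by
        rcases htype with h | h
        · exact absurd h (Cfsg.Agent.Helper43.SpOrth.not_isPlusTypeOn_of_minus 1 ζ
            (Cfsg.Agent.Helper43.SpOrth.aniso_of_irred ζ hζ) C hC)
        · rcases Nat.even_or_odd k with h' | h'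
          · exact h'
          · exfalso
            have := Odd.add_one h'
            exact (Nat.not_even_iff_odd.mpr h) this
      exact Cfsg.Agent.Helper43.SpOrth.invol_conj_mem_minus hkev hQf ζ C hC x hx hxx hx1

end Cfsg.Agent.S5983
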