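import Cfsg.Statements.S5984
import Cfsg.Agent.Helper59.PolarM
import Cfsg.Agent.Helper59.PolarJ
import Cfsg.Agent.Helper59.PolarH
import Cfsg.Agent.Helper59.PolarN

set_option autoImplicit false
open scoped MatrixGroups
open Cfsg

namespace Cfsg.Agent.S5984

/-- Elements of prime order of PSU_n(q) and the stabilizers of pairs of complementary totally singular subspaces. Here `T = PSU_n(q)` is realised through `SU_n(q)`, the matrices of determinant 1 over the field `F` with `q²` elements preserving the hermitian form `Σ uᵢ vᵢ^q`, with `n ≥ 4` even; `D` is a pair of complementary subspaces of dimension `n/2` on each of which the form vanishes identically, and `H` is the subgroup of `SU_n(q)` fixing or interchanging the two members — a subgroup of type GL_{n/2}(q²).2 (maximality is not assumed). Ω is the set of cosets of `H`, so an element of `T` of prime order `r` (`x ∈ SU_n(q)` with `x^r` scalar, `x` not scalar) fixes a point of Ω exactly when some `SU_n(q)`-conjugate of `x`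 lies in `H`. Let `r` be a prime dividing the index of `H`. Then every element of `T` of order `r` fixes a point of Ω if and only if `r = 2`, `q` is odd and `(q + 1)_2 ≤ (n)_2` (2-parts). -/
theorem result {F : Type*} [Field F] [Fintype F] {p : ℕ} [Fact p.Prime] [CharP F p] {q : ℕ} (hq : Fintype.card F = q ^ 2)
    (n : ℕ) (hn : 4 ≤ n) (he : Even n) (D : Fin 2 → Submodule F (Fin n → F)) (hD : Cfsg.Geo.IsMDecomposition (n / 2) D)
    (hDs : ∀ i, Cfsg.Geo.IsTotallySingularFor (Cfsg.hermForm n F q) (D i))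
    (r : ℕ) [Fact r.Prime]
    (hΩ : r ∣ (Cfsg.Geo.decompositionStabilizer D).relIndex (Cfsg.GU n F q ⊓ Cfsg.Geo.specialLinear (Fin n) F)) :
    (∀ x ∈ Cfsg.GU n F q ⊓ Cfsg.Geo.specialLinear (Fin n) F, (∃ z : F, ((x ^ r : GL (Fin n) F) : Matrix (Fin n) (Fin n) F) = z • (1 : Matrix (Fin n) (Fin n) F)) →
      (∀ z : F, (x : Matrix (Fin n) (Fin n) F) ≠ z • (1 : Matrix (Fin n) (Fin n) F)) →
      ∃ g ∈ Cfsg.GU n F q ⊓ Cfsg.Geo.specialLinear (Fin n) F, g⁻¹ * x * g ∈ Cfsg.Geo.decompositionStabilizer D) ↔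
    (r = 2 ∧ Odd q ∧ padicValNat 2 (q + 1) ≤ padicValNat 2 n) := by
  classical
  have hq2 := Cfsg.Agent.Helper13.two_le_of_card_eq_sq hq
  set k := n / 2 with hk
  have h2k : 2 * k = n := by
    obtain ⟨t, ht⟩ := he
    omega
  have hk2 : 2 ≤ k := by omega
  have hL : Cfsg.Agent.Helper13.LagPair q (D 0) (D 1) k :=
    Cfsg.Agent.Helper59.Polar.lagPair_of_decomp D hD hDs
  have hrp : r.Prime := Fact.out
  have hpp : p.Prime := Fact.out
  -- derangement principle
  have hder : ∀ x : GL (Fin n) F, x ∈ Cfsg.GU n F q ⊓ Cfsg.Geo.specialLinear (Fin n) F →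
      (∃ z : F, ((x ^ r : GL (Fin n) F) : Matrix (Fin n) (Fin n) F) =
        z • (1 : Matrix (Fin n) (Fin n) F)) →
      (∀ z : F, (x : Matrix (Fin n) (Fin n) F) ≠ z • (1 : Matrix (Fin n) (Fin n) F)) →
      (∀ U W : Submodule F (Fin n → F), Cfsg.Agent.Helper13.LagPair q U W k →
        ¬ (Cfsg.Agent.Helper59.Polar.Pres (x : Matrix (Fin n) (Fin n) F) U W ∨
          Cfsg.Agent.Helper59.Polar.Swp (x : Matrix (Fin n) (Fin n) F) U W)) →
      (∀ x ∈ Cfsg.GU n F q ⊓ Cfsg.Geo.specialLinear (Fin n) F,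
        (∃ z : F, ((x ^ r : GL (Fin n) F) : Matrix (Fin n) (Fin n) F) =
          z • (1 : Matrix (Fin n) (Fin n) F)) →
        (∀ z : F, (x : Matrix (Fin n) (Fin n) F) ≠ z • (1 : Matrix (Fin n) (Fin n) F)) →
        ∃ g ∈ Cfsg.GU n F q ⊓ Cfsg.Geo.specialLinear (Fin n) F,
          g⁻¹ * x * g ∈ Cfsg.Geo.decompositionStabilizer D) → False := by
    intro x hxK hxr hxns hno H
    obtain ⟨g, hgK, hg⟩ := H x hxK hxr hxns
    obtain ⟨U, W, hLUW, hor⟩ := Cfsg.Agent.Helper59.Polar.exists_pair_of_conj_mem D hL x g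
      (Subgroup.mem_inf.mp hgK).1 hg
    exact hno U W hLUW hor
  constructor
  · intro H
    -- `r ≠ p`
    have hrp' : r ≠ p := by
      intro hrpeq
      obtain ⟨x, hxK, hxp, hxns, hno⟩ :=
        Cfsg.Agent.Helper59.Polar.exists_der_transvection hq (p := p) (by omega : 2 ≤ n) hk2
      exact hder x hxK ⟨1, by rw [hrpeq, hxp, Units.val_one, one_smul]⟩ hxns hno H
    have hrq : ¬ r ∣ q := by
      intro h
      obtain ⟨a, -, ha⟩ := FiniteField.card F p
      have h1 : r ∣ p ^ (a : ℕ) := by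
        rw [← ha, hq]
        exact Dvd.dvd.mul_left h _ |>.trans (by rw [pow_two])
      exact hrp' ((Nat.prime_dvd_prime_iff_eq hrp hpp).mp (hrp.dvd_of_dvd_pow h1))
    -- the index
    have hdvd := dvd_trans hΩ
      (Cfsg.Agent.Helper59.Polar.relIndex_dvd hq (by omega : 1 ≤ k) D hL)
    obtain ⟨l, hl, hrl⟩ : ∃ l ∈ Finset.range k, r ∣ q ^ (2 * l + 1) + 1 := by
      rcases (Nat.Prime.dvd_mul hrp).mp hdvd with h | h
      · exact absurd (hrp.dvd_of_dvd_pow h) hrq
      · exact (Prime.dvd_finsetProd_iff hrp.prime _).mp h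
    have hl' := Finset.mem_range.mp hl
    have hjodd : Odd (2 * l + 1) := ⟨l, rfl⟩
    -- `r = 2`
    have hr2 : r = 2 := by
      by_contra hr2
      obtain ⟨e, heodd, hej, hord⟩ :=
        Cfsg.Agent.Helper59.Polar.exists_odd_half_order r hr2 q (2 * l + 1) hjodd hrl
      have hele : e ≤ 2 * l + 1 := Nat.le_of_dvd (by omega) hej
      have hen : e < n := by omega
      by_cases he1 : e = 1
      · have hrq1 : r ∣ q + 1 := by
          rw [he1, mul_one] at hord
          have h1 : (q : ZMod r) ^ 2 = 1 := by rw [← hord]; exact pow_orderOf_eq_one _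
          have h3 : (q : ZMod r) ≠ 1 := by
            intro h
            rw [h, orderOf_one] at hord
            omega
          have h4 : ((q : ZMod r) - 1) * ((q : ZMod r) + 1) = 0 := by linear_combination h1
          rcases mul_eq_zero.mp h4 with h | h
          · exact absurd (sub_eq_zero.mp h) h3
          · rw [← ZMod.natCast_eq_zero_iff]
            push_cast
            exact h
        obtain ⟨x, hxK, hxr, hxns, hno⟩ := Cfsg.Agent.Helper59.Polar.exists_der_diag hq
          (by omega : 2 ≤ n) (k := k) r hrp hr2 hrq1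
        exact hder x hxK ⟨1, by rw [hxr, Units.val_one, one_smul]⟩ hxns hno H
      · have he3 : 3 ≤ e := by
          obtain ⟨t, ht⟩ := heodd
          omega
        obtain ⟨x, hxK, hxr, hxns, hno⟩ := Cfsg.Agent.Helper59.Polar.exists_der_odd hq r hr2
          heodd he3 hen hord (k := k)
        exact hder x hxK ⟨1, by rw [hxr, Units.val_one, one_smul]⟩ hxns hno H
    have hqodd : Odd q := by
      rw [← Nat.not_even_iff_odd]
      intro hev
      have hev' : Even (q ^ (2 * l + 1)) := Nat.even_pow.mpr ⟨hev, by omega⟩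
      obtain ⟨t, ht⟩ := hev'
      rw [hr2] at hrl
      obtain ⟨s, hs⟩ := hrl
      omega
    have h2F := Cfsg.Agent.Helper59.Polar.two_ne_zero_of_odd hq hqodd
    refine ⟨hr2, hqodd, ?_⟩
    by_contra hlt
    push Not at hlt
    obtain ⟨x, hxK, hx2, hxns, hno⟩ := Cfsg.Agent.Helper59.Polar.exists_der_refl hq h2F
      (by omega : 2 ≤ n) hk2 hlt
    exact hder x hxK (by rw [hr2]; exact hx2) hxns hno H
  · rintro ⟨hr2, hqodd, hv⟩ x hxK ⟨z, hz⟩ hxns
    have h2F := Cfsg.Agent.Helper59.Polar.two_ne_zero_of_odd hq hqodd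
    rw [hr2, Units.val_pow_eq_pow_val, pow_two] at hz
    have hXU : Cfsg.Agent.Helper13.IsU q (x : Matrix (Fin n) (Fin n) F) :=
      (Cfsg.Agent.Helper13.mem_GU_iff x).mp (Subgroup.mem_inf.mp hxK).1
    have hXdet : (x : Matrix (Fin n) (Fin n) F).det = 1 :=
      (Cfsg.Agent.Helper13.mem_specialLinear_iff x).mp (Subgroup.mem_inf.mp hxK).2
    obtain ⟨U, W, hLUW, hP⟩ := Cfsg.Agent.Helper59.Polar.exists_pres_pair hq h2F hqodd h2k
      (by omega) hv (x : Matrix (Fin n) (Fin n) F) hXU hXdet z hz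
    exact Cfsg.Agent.Helper59.Polar.conj_mem_decompStab hq (by omega : 1 ≤ k) D hD.finrank_eq hL x
      hLUW hP

end Cfsg.Agent.S5984
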