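import Cfsg.Statements.S5985
import Cfsg.Agent.Helper94.OrD4

set_option autoImplicit false
open scoped MatrixGroups
open Cfsg

namespace Cfsg.Agent.S5985

open Cfsg.Agent.Helper94.OrC Cfsg.Agent.Helper94.OrD Matrix Module

/-- Elements of prime order of Ω⁺_n(q), q even, with no fixed nonsingular 1-space. Here `T = PΩ⁺_n(F)`, `n = 2d ≥ 8`, realised through `Ω⁺_n(q)`, the commutator subgroup of the isometry group of `Q = Σ xᵢyᵢ` over the field `F` with `q` elements; an element of `T` of prime order `r` is an element `x` of `Ω⁺_n(q)` with `x^r` scalar and `x` not scalar; `q` is even (so the centre is trivial). Let Ω be the set of 1-dimensional subspaces spanned by a vector `v` with `Q(v) ≠ 0`, and let `r` be a prime dividing their number. Then every element of `T` of order `r` fixes some nonsingular 1-space if and only if `r = 2` and `n ≡ 2 (mod 4)` (that is, `d` is odd). -/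
theorem result {F : Type*} [Field F] [Fintype F] {p : ℕ} [Fact p.Prime] [CharP F p] {q : ℕ} (hq : Fintype.card F = q)
    (hp : p = 2) (d : ℕ) (hd : 4 ≤ d) (r : ℕ) [Fact r.Prime]
    (hrΩ : r ∣ Nat.card {W : Submodule F (Fin d ⊕ Fin d → F) // Module.finrank F ↥W = 1 ∧ ∃ v ∈ W, Cfsg.quadFormPlus d F v ≠ 0}) :
    (∀ x : GL (Fin d ⊕ Fin d) F, x ∈ Cfsg.Geo.omegaGL (Cfsg.quadFormPlus d F) →
      (∃ z : F, ((x ^ r : GL (Fin d ⊕ Fin d) F) : Matrix (Fin d ⊕ Fin d) (Fin d ⊕ Fin d) F) = z • (1 : Matrix (Fin d ⊕ Fin d) (Fin d ⊕ Fin d) F)) →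
      (∀ z : F, (x : Matrix (Fin d ⊕ Fin d) (Fin d ⊕ Fin d) F) ≠ z • (1 : Matrix (Fin d ⊕ Fin d) (Fin d ⊕ Fin d) F)) →
      ∃ W : Submodule F (Fin d ⊕ Fin d → F), (Module.finrank F ↥W = 1 ∧ ∃ v ∈ W, Cfsg.quadFormPlus d F v ≠ 0) ∧ W.map (Matrix.toLin' (x : Matrix (Fin d ⊕ Fin d) (Fin d ⊕ Fin d) F)) ≤ W) ↔ (r = 2 ∧ Odd d) := by
  classical
  subst hp
  have h2d : Fintype.card F ≠ 2 ∨ d ≠ 2 := Or.inr (by omega)
  have hrp : r.Prime := Fact.out
  constructor
  · intro hall
    by_contra hcon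
    by_cases hr2 : r = 2
    · -- `d` even: the involution of type `a_d`
      have hdev : Even d := by
        rw [← Nat.not_odd_iff_even]
        intro hodd
        exact hcon ⟨hr2, hodd⟩
      obtain ⟨k, hk⟩ := hdev
      have hdk : d = 2 * k := by omega
      have hk1 : 1 ≤ k := by omega
      obtain ⟨W, ⟨hW1, v, hvW, hQv⟩, hinv⟩ := hall
        ((x0 F d k : ↥(Cfsg.isometryGroup F (Cfsg.quadFormPlus d F))) : GL (Fin d ⊕ Fin d) F)
        (Subgroup.mem_map.mpr ⟨x0 F d k, x0_mem_Omega h2d (by omega), rfl⟩)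
        ⟨1, by
          rw [hr2, one_smul, pow_two, ← Units.val_one]
          exact congrArg Units.val (congrArg Subtype.val (x0_mul_self (F := F) (m := d) k))⟩
        (fun z => T0_not_scalar hk1 (by omega) z)
      have hfix := fixed_of_invariant_line (x0 F d k) W hW1 hvW hQv hinv
      exact hQv (x0_fixed_singular hdk v hfix)
    · -- `r` odd
      have hrodd : Odd r := hrp.odd_of_ne_two hr2
      have hdvd := dvd_pow_sub_one_of_dvd_card hrp hr2 hrΩ
      obtain ⟨B, B', h1, h2, hBr, hB1, hP⟩ := exists_matrix_order (F := F) d (by omega) r hrp hdvd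
      have hpow := diagGL_pow_eq_one B B' h1 h2 hBr
      obtain ⟨W, ⟨hW1, hns⟩, hinv⟩ := hall (diagGL B B' h1 h2)
        (Subgroup.mem_map.mpr ⟨diagIso B B' h1 h2,
          mem_Omega_of_odd_order h2d _ hrodd (Subtype.ext hpow), rfl⟩)
        ⟨1, by rw [hpow, one_smul, Units.val_one]⟩
        (fun z => diagGL_not_scalar B B' h1 h2 (by omega) hB1 z)
      exact diagGL_no_invariant_line B B' h1 h2 hP W hW1 hns hinv
  · rintro ⟨hr2, hodd⟩ x hxΩ ⟨z, hz⟩ hxns
    obtain ⟨g, hgΩ, rfl⟩ := Subgroup.mem_map.mp hxΩ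
    -- `g` is an involution
    obtain ⟨v₀, hv₀⟩ := exists_quadFormPlus_ne_zero (F := F) (d := d) (by omega)
    have hz1 : z = 1 := by
      have h1 : Cfsg.quadFormPlus d F (((((Cfsg.isometryGroup F (Cfsg.quadFormPlus d F)).subtype g) ^ r :
          GL (Fin d ⊕ Fin d) F) : Matrix (Fin d ⊕ Fin d) (Fin d ⊕ Fin d) F) *ᵥ v₀)
          = Cfsg.quadFormPlus d F v₀ := by
        have := Cfsg.Agent.Helper44.isometryGroup_apply (g ^ r) v₀
        exact this
      rw [hz, Matrix.smul_mulVec, Matrix.one_mulVec, quadFormPlus_smul] at h1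
      have h3 : z ^ 2 = 1 := by
        have : (z ^ 2 - 1) * Cfsg.quadFormPlus d F v₀ = 0 := by linear_combination h1
        exact sub_eq_zero.mp ((mul_eq_zero.mp this).resolve_right hv₀)
      exact sq_eq_one_char_two h3
    have hg2 : g * g = 1 := by
      apply Subtype.ext
      apply Units.ext
      have : ((((Cfsg.isometryGroup F (Cfsg.quadFormPlus d F)).subtype g) ^ r :
          GL (Fin d ⊕ Fin d) F) : Matrix (Fin d ⊕ Fin d) (Fin d ⊕ Fin d) F) = 1 := by
        rw [hz, hz1, one_smul]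
      rw [hr2, pow_two] at this
      exact this
    obtain ⟨u, hQu, hfix⟩ := exists_fixed_nonsingular_of_odd h2d hodd g hgΩ hg2
    have hu0 : u ≠ 0 := by
      rintro rfl
      apply hQu
      unfold Cfsg.quadFormPlus
      simp
    refine ⟨Submodule.span F {u}, ⟨finrank_span_singleton hu0, u, Submodule.mem_span_singleton_self _, hQu⟩, ?_⟩
    rw [Submodule.map_span, Set.image_singleton, Submodule.span_singleton_le_iff_mem, Matrix.toLin'_apply]
    have : ((((Cfsg.isometryGroup F (Cfsg.quadFormPlus d F)).subtype g) : GL (Fin d ⊕ Fin d) F) :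
        Matrix (Fin d ⊕ Fin d) (Fin d ⊕ Fin d) F) *ᵥ u = u := hfix
    rw [this]
    exact Submodule.mem_span_singleton_self _


end Cfsg.Agent.S5985
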