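import Cfsg.Statements.S5986
import Cfsg.Agent.Helper94.OrE3
import Cfsg.Agent.Helper45.OmegaInvol

set_option autoImplicit false
open scoped MatrixGroups
open Cfsg

namespace Cfsg.Agent.S5986

open Cfsg.Agent.Helper94.OrD Cfsg.Agent.Helper94.OrE Matrix Module Cfsg.Agent.Helper44
open Cfsg.Agent.Helper44.QType Cfsg.Agent.Helper45.OmegaParity

/-- Elements of prime order of Ω⁻_n(q), q even, with no fixed nonsingular 1-space. Here `T = PΩ⁻_n(F)`, `n = 2d ≥ 8`, realised through `Ω⁻_n(q)`, the commutator subgroup of the isometry group of `Q = Σ_{i<d−1} xᵢyᵢ + z₁² + a z₁z₂ + b z₂²` with `z₁² + a z₁z₂ + b z₂²` anisotropic, over the field `F` with `q` elements; an element of `T` of prime order `r` is an element `x` of `Ω⁻_n(q)` with `x^r` scalar and `x` not scalar; `q` is even (so the centre is trivial). Let Ω be the set of 1-dimensional subspaces spanned by a vector `v` with `Q(v) ≠ 0`, and let `r` be a prime dividing their number. Then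 every element of `T` of order `r` fixes some nonsingular 1-space if and only if `r = 2`. -/
theorem result {F : Type*} [Field F] [Fintype F] {p : ℕ} [Fact p.Prime] [CharP F p] {q : ℕ} (hq : Fintype.card F = q)
    (hp : p = 2) (d : ℕ) (hd : 4 ≤ d) (a b : F) (hab : ∀ x y : F, x ^ 2 + a * x * y + b * y ^ 2 = 0 → x = 0 ∧ y = 0) (r : ℕ) [Fact r.Prime]
    (hrΩ : r ∣ Nat.card {W : Submodule F ((Fin (d - 1) ⊕ Fin (d - 1)) ⊕ Fin 2 → F) // Module.finrank F ↥W = 1 ∧ ∃ v ∈ W, Cfsg.quadFormMinus (d - 1) F a b v ≠ 0}) :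
    (∀ x : GL ((Fin (d - 1) ⊕ Fin (d - 1)) ⊕ Fin 2) F, x ∈ Cfsg.Geo.omegaGL (Cfsg.quadFormMinus (d - 1) F a b) →
      (∃ z : F, ((x ^ r : GL ((Fin (d - 1) ⊕ Fin (d - 1)) ⊕ Fin 2) F) : Matrix ((Fin (d - 1) ⊕ Fin (d - 1)) ⊕ Fin 2) ((Fin (d - 1) ⊕ Fin (d - 1)) ⊕ Fin 2) F) = z • (1 : Matrix ((Fin (d - 1) ⊕ Fin (d - 1)) ⊕ Fin 2) ((Fin (d - 1) ⊕ Fin (d - 1)) ⊕ Fin 2) F)) →
      (∀ z : F, (x : Matrix ((Fin (d - 1) ⊕ Fin (d - 1)) ⊕ Fin 2) ((Fin (d - 1) ⊕ Fin (d - 1)) ⊕ Fin 2) F) ≠ z • (1 : Matrix ((Fin (d - 1) ⊕ Fin (d - 1)) ⊕ Fin 2) ((Fin (d - 1) ⊕ Fin (d - 1)) ⊕ Fin 2) F)) →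
      ∃ W : Submodule F ((Fin (d - 1) ⊕ Fin (d - 1)) ⊕ Fin 2 → F), (Module.finrank F ↥W = 1 ∧ ∃ v ∈ W, Cfsg.quadFormMinus (d - 1) F a b v ≠ 0) ∧ W.map (Matrix.toLin' (x : Matrix ((Fin (d - 1) ⊕ Fin (d - 1)) ⊕ Fin 2) ((Fin (d - 1) ⊕ Fin (d - 1)) ⊕ Fin 2) F)) ≤ W) ↔ r = 2 := by
  classical
  subst hp
  have hrp : r.Prime := Fact.out
  have hd1 : d - 1 + 1 = d := by omega
  have hQ := nondegenerate_minusForm (F := F) (d - 1) a b (disc_ne_zero_of_aniso a b hab)
  have hι : Fintype.card ((Fin (d - 1) ⊕ Fin (d - 1)) ⊕ Fin 2) = 2 * d := by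
    rw [Fintype.card_sum, Fintype.card_sum, Fintype.card_fin, Fintype.card_fin]
    omega
  have h4 : Fintype.card F ≠ 2 ∨ Fintype.card ((Fin (d - 1) ⊕ Fin (d - 1)) ⊕ Fin 2) ≠ 4 := by
    right
    rw [hι]
    omega
  have hT : HasType (⇑(minusForm (d - 1) F a b)) d (-1) := by
    have := hasType_minus (F := F) (d - 1) a b hab
    rwa [hd1] at this
  have hv₁ : minusForm (d - 1) F a b (Pi.single (Sum.inr 0) 1) ≠ 0 := by
    show Cfsg.quadFormMinus (d - 1) F a b (Pi.single (Sum.inr 0) 1) ≠ 0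
    rw [quadFormMinus_single]
    exact one_ne_zero
  constructor
  · intro hall
    by_contra hr2
    have hrodd : Odd r := hrp.odd_of_ne_two hr2
    have hdvd := dvd_of_dvd_card_lines (minusForm (d - 1) F a b) (by omega) hι hT hrp hr2 hrΩ
    obtain ⟨y, hy, hfpf⟩ := exists_fpf_isometry (minusForm (d - 1) F a b) hQ (by omega) hι hT hrp hr2 hdvd
    have hyr : y ^ r = 1 := by rw [← hy]; exact pow_orderOf_eq_one y
    obtain ⟨W, ⟨hW1, v, hvW, hQv⟩, hinv⟩ := hall (y : GL ((Fin (d - 1) ⊕ Fin (d - 1)) ⊕ Fin 2) F)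
      (Subgroup.mem_map.mpr ⟨y, mem_Omega_of_odd_order_aux (minusForm (d - 1) F a b) hQ h4 y hrodd hyr, rfl⟩)
      ⟨1, by
        have h1 := congrArg (fun z : ↥(Cfsg.isometryGroup F ⇑(minusForm (d - 1) F a b)) =>
          (z : GL ((Fin (d - 1) ⊕ Fin (d - 1)) ⊕ Fin 2) F)) hyr
        rw [one_smul]
        have h2 : ((y : GL ((Fin (d - 1) ⊕ Fin (d - 1)) ⊕ Fin 2) F) ^ r) = 1 := h1
        rw [h2, Units.val_one]⟩
      (by
        intro z hz
        -- a scalar isometry fixes the nonsingular vector `e`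
        have hfix := Cfsg.Agent.Helper94.OrE.fixed_of_invariant_line (minusForm (d - 1) F a b) y
          (Submodule.span F {Pi.single (Sum.inr 0) 1})
          (finrank_span_singleton (by
            intro h0
            rw [h0, map_zero] at hv₁
            exact hv₁ rfl))
          (Submodule.mem_span_singleton_self _) hv₁ (by
            rw [Submodule.map_span, Set.image_singleton, Submodule.span_singleton_le_iff_mem,
              Matrix.toLin'_apply, hz, Matrix.smul_mulVec, Matrix.one_mulVec]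
            exact Submodule.smul_mem _ z (Submodule.mem_span_singleton_self _))
        have h0 := hfpf _ hfix
        rw [h0, map_zero] at hv₁
        exact hv₁ rfl)
    have hfix := Cfsg.Agent.Helper94.OrE.fixed_of_invariant_line (minusForm (d - 1) F a b) y W hW1 hvW hQv hinv
    have h0 := hfpf v hfix
    rw [h0] at hQv
    apply hQv
    unfold Cfsg.quadFormMinus
    simp
  · intro hr2 x hxΩ hxr hxns
    obtain ⟨z, hz⟩ := hxr
    obtain ⟨g, hgΩ, rfl⟩ := Subgroup.mem_map.mp hxΩ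
    have hz1 : z = 1 := by
      have h1 : minusForm (d - 1) F a b
          (((((Cfsg.isometryGroup F (Cfsg.quadFormMinus (d - 1) F a b)).subtype g) ^ r :
          GL ((Fin (d - 1) ⊕ Fin (d - 1)) ⊕ Fin 2) F) :
          Matrix ((Fin (d - 1) ⊕ Fin (d - 1)) ⊕ Fin 2) ((Fin (d - 1) ⊕ Fin (d - 1)) ⊕ Fin 2) F) *ᵥ
            (Pi.single (Sum.inr 0) 1))
          = minusForm (d - 1) F a b (Pi.single (Sum.inr 0) 1) := by
        have := Cfsg.Agent.Helper44.isometryGroup_apply (g ^ r) (Pi.single (Sum.inr 0) (1 : F))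
        exact this
      rw [hz, Matrix.smul_mulVec, Matrix.one_mulVec, Q_smul_sq] at h1
      have h3 : z ^ 2 = 1 := by
        have : (z ^ 2 - 1) * minusForm (d - 1) F a b (Pi.single (Sum.inr 0) 1) = 0 := by
          linear_combination h1
        exact sub_eq_zero.mp ((mul_eq_zero.mp this).resolve_right hv₁)
      exact sq_eq_one_char_two h3
    have hg2 : g * g = 1 := by
      apply Subtype.ext
      apply Units.ext
      have : ((((Cfsg.isometryGroup F (Cfsg.quadFormMinus (d - 1) F a b)).subtype g) ^ r :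
          GL ((Fin (d - 1) ⊕ Fin (d - 1)) ⊕ Fin 2) F) :
          Matrix ((Fin (d - 1) ⊕ Fin (d - 1)) ⊕ Fin 2) ((Fin (d - 1) ⊕ Fin (d - 1)) ⊕ Fin 2) F) = 1 := by
        rw [hz, hz1, one_smul]
      rw [hr2, pow_two] at this
      exact this
    obtain ⟨u, hQu, hfix⟩ := exists_nonsingular_fixed (minusForm (d - 1) F a b) g hg2 (by
      intro W hW
      have := minus_ts_finrank_le (d - 1) a b hab W hW
      rw [hι]
      omega)
    have hu0 : u ≠ 0 := by
      rintro rfl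
      rw [map_zero] at hQu
      exact hQu rfl
    refine ⟨Submodule.span F {u}, ⟨finrank_span_singleton hu0, u, Submodule.mem_span_singleton_self _, hQu⟩, ?_⟩
    rw [Submodule.map_span, Set.image_singleton, Submodule.span_singleton_le_iff_mem, Matrix.toLin'_apply]
    have : ((((Cfsg.isometryGroup F (Cfsg.quadFormMinus (d - 1) F a b)).subtype g) :
        GL ((Fin (d - 1) ⊕ Fin (d - 1)) ⊕ Fin 2) F) :
        Matrix ((Fin (d - 1) ⊕ Fin (d - 1)) ⊕ Fin 2) ((Fin (d - 1) ⊕ Fin (d - 1)) ⊕ Fin 2) F) *ᵥ u = u := hfix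
    rw [this]
    exact Submodule.mem_span_singleton_self _


end Cfsg.Agent.S5986
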