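import Cfsg.Statements.S5988
import Cfsg.Agent.Helper45.EllMain
-- import your own Cfsg.Agent.* helpers here

set_option autoImplicit false
open scoped MatrixGroups
open Cfsg

namespace Cfsg.Agent.S5988

open Module Cfsg.Agent.Helper99.SpStruct Cfsg.Agent.Helper99.QSp Cfsg.Agent.Helper99.QSpMain
open Cfsg.Agent.Helper99.QSpGlue Cfsg.Agent.Helper44
open Cfsg.Agent.Helper45.Ell Cfsg.Agent.Helper45.EllMain

/-- Elements of prime order of PΩ⁺_n(q) with no fixed elliptic `m`-space. Here `T = PΩ⁺_n(F)`, `n = 2d ≥ 8`, realised through `Ω⁺_n(q)`, the commutator subgroup of the isometry group of `Q = Σ xᵢyᵢ` over the field `F` with `q` elements; an element of `T` of prime order `r` is an element `x` of `Ω⁺_n(q)` with `x^r` scalar and `x` not scalar; a nondegenerate `m`-space (even `m`) is a subspace on which the polar form of `Q` is nondegenerate; it is hyperbolic if it contains an `m/2`-dimensional subspace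 on which `Q` vanishes, elliptic otherwise. Let `m` be even with `2 ≤ m < n/2` and let `r` be a prime dividing the number of elliptic `m`-spaces; for `r ≠ p` let `i` be the multiplicative order of `q` modulo `r`, `c = i` for `i` even and `c = 2i` for `i` odd, and write `k = n mod c`, `ℓ = m mod i`, `ℓ' = m mod c`, `n' = ⌊n/i⌋`, `m' = ⌊m/i⌋`, `t = (r−1)/i`. Then every element of `T` of order `r` fixes some elliptic `m`-space if and only if one of: (i) `r = 2 ≠ p` and either `n ≡ 0 (mod 4)`, `q ≡ 3 (mod 4)` and `m ≡ 2 (mod 4)`, or `n ≡ 2 (mod 4)` and `q ≢ 1 (mod 8)`; (ii) `r ≠ p` odd, `i` odd, `c ≤ m` and `k > ℓ' > 0`; (iii) `r ≠ p` odd, `i` even, and either `k = 0` and (`n/i` odd, or `ℓ' = 0` and `m/i` odd), or `i ≤ m` and (`k > ℓ' > 0`, or `k = ℓ' > 0` and `(n + m − 2k)/i` odd, or `k > ℓ' = 0` and `m/i` odd). (For `r = p` there is always an element of order `p` fixing no elliptic `m`-space.) -/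
theorem result {F : Type*} [Field F] [Fintype F] {p : ℕ} [Fact p.Prime] [CharP F p] {q : ℕ} (hq : Fintype.card F = q)
    (d m : ℕ) (hd : 4 ≤ d) (hm : 2 ≤ m) (hme : Even m) (hmd : m < d)
    (r : ℕ) [Fact r.Prime]
    (hrΩ : r ∣ Nat.card {W : Submodule F (Fin d ⊕ Fin d → F) // Module.finrank F ↥W = m ∧ Cfsg.Geo.IsNondegenerateOn (QuadraticMap.polar (Cfsg.quadFormPlus d F)) W ∧ ¬ Cfsg.Geo.IsPlusTypeOn (Cfsg.quadFormPlus d F) W})
    (i c : ℕ) (hi : i = orderOf (q : ZMod r)) (hc : c = if Even i then i else 2 * i) :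
    (∀ x : GL (Fin d ⊕ Fin d) F, x ∈ Cfsg.Geo.omegaGL (Cfsg.quadFormPlus d F) →
      (∃ z : F, ((x ^ r : GL (Fin d ⊕ Fin d) F) : Matrix (Fin d ⊕ Fin d) (Fin d ⊕ Fin d) F) = z • (1 : Matrix (Fin d ⊕ Fin d) (Fin d ⊕ Fin d) F)) →
      (∀ z : F, (x : Matrix (Fin d ⊕ Fin d) (Fin d ⊕ Fin d) F) ≠ z • (1 : Matrix (Fin d ⊕ Fin d) (Fin d ⊕ Fin d) F)) →
      ∃ W : Submodule F (Fin d ⊕ Fin d → F), (Module.finrank F ↥W = m ∧ Cfsg.Geo.IsNondegenerateOn (QuadraticMap.polar (Cfsg.quadFormPlus d F)) W ∧ ¬ Cfsg.Geo.IsPlusTypeOn (Cfsg.quadFormPlus d F) W) ∧ W.map (Matrix.toLin' (x : Matrix (Fin d ⊕ Fin d) (Fin d ⊕ Fin d) F)) ≤ W) ↔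
    ((r = 2 ∧ p ≠ 2 ∧ ((Even d ∧ q % 4 = 3 ∧ m % 4 = 2) ∨ (Odd d ∧ q % 8 ≠ 1))) ∨
     (r ≠ p ∧ 2 < r ∧ Odd i ∧ c ≤ m ∧ 0 < m % c ∧ m % c < (2 * d) % c) ∨
     (r ≠ p ∧ 2 < r ∧ Even i ∧
       (((2 * d) % c = 0 ∧ (Odd ((2 * d) / i) ∨ (m % c = 0 ∧ Odd (m / i)))) ∨
        (i ≤ m ∧ ((0 < m % c ∧ m % c < (2 * d) % c) ∨
                  (0 < m % c ∧ m % c = (2 * d) % c ∧ Odd ((2 * d + m - 2 * ((2 * d) % c)) / i)) ∨
                  (m % c = 0 ∧ 0 < (2 * d) % c ∧ Odd (m / i))))))) := by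
  classical
  subst hq
  obtain ⟨e, he⟩ := hme
  have hm2 : m = 2 * e := by omega
  subst hm2
  have hr' : r.Prime := Fact.out
  have hp' : p.Prime := Fact.out
  -- the statement in our language
  have hL : (∀ x : GL (Fin d ⊕ Fin d) F, x ∈ Cfsg.Geo.omegaGL (Cfsg.quadFormPlus d F) →
      (∃ z : F, ((x ^ r : GL (Fin d ⊕ Fin d) F) : Matrix (Fin d ⊕ Fin d) (Fin d ⊕ Fin d) F) = z • (1 : Matrix (Fin d ⊕ Fin d) (Fin d ⊕ Fin d) F)) →
      (∀ z : F, (x : Matrix (Fin d ⊕ Fin d) (Fin d ⊕ Fin d) F) ≠ z • (1 : Matrix (Fin d ⊕ Fin d) (Fin d ⊕ Fin d) F)) →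
      ∃ W : Submodule F (Fin d ⊕ Fin d → F), (Module.finrank F ↥W = 2 * e ∧ Cfsg.Geo.IsNondegenerateOn (QuadraticMap.polar (Cfsg.quadFormPlus d F)) W ∧ ¬ Cfsg.Geo.IsPlusTypeOn (Cfsg.quadFormPlus d F) W) ∧ W.map (Matrix.toLin' (x : Matrix (Fin d ⊕ Fin d) (Fin d ⊕ Fin d) F)) ≤ W) ↔
      (∀ x : GL (Fin d ⊕ Fin d) F, x ∈ Cfsg.Geo.omegaGL (Cfsg.quadFormPlus d F) →
      (∃ z : F, ((x ^ r : GL (Fin d ⊕ Fin d) F) : Matrix (Fin d ⊕ Fin d) (Fin d ⊕ Fin d) F) = z • (1 : Matrix (Fin d ⊕ Fin d) (Fin d ⊕ Fin d) F)) →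
      (∀ z : F, (x : Matrix (Fin d ⊕ Fin d) (Fin d ⊕ Fin d) F) ≠ z • (1 : Matrix (Fin d ⊕ Fin d) (Fin d ⊕ Fin d) F)) →
      GoodE F d (2 * e) (x : Matrix (Fin d ⊕ Fin d) (Fin d ⊕ Fin d) F)) :=
    forall_congr' fun x => imp_congr_right fun _ => imp_congr_right fun _ =>
      imp_congr_right fun _ => goodE_iff_stmt _
  rw [hL]
  have h2F_iff : (2 : F) = 0 ↔ p = 2 := by
    constructor
    · intro h
      have h1 : ((2 : ℕ) : F) = 0 := by exact_mod_cast h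
      have h3 := (CharP.cast_eq_zero_iff F p 2).mp h1
      exact ((Nat.prime_dvd_prime_iff_eq hp' Nat.prime_two).mp h3)
    · intro h
      subst h
      exact_mod_cast CharP.cast_eq_zero F 2
  by_cases hr2 : r = 2
  · subst hr2
    by_cases h2F : (2 : F) = 0
    · have hp2 : p = 2 := h2F_iff.mp h2F
      constructor
      · intro H
        exact absurd H (ell_two_char_two h2F hd)
      · rintro (⟨-, h, -⟩ | ⟨-, h, -⟩ | ⟨-, h, -⟩)
        · exact absurd hp2 h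
        · omega
        · omega
    · have hp2 : p ≠ 2 := fun h => h2F (h2F_iff.mpr h)
      rw [ell_two_odd_char h2F hd (by omega) (by omega)]
      constructor
      · intro h
        exact Or.inl ⟨rfl, hp2, h⟩
      · rintro (⟨-, -, h⟩ | ⟨-, h, -⟩ | ⟨-, h, -⟩)
        · exact h
        · omega
        · omega
  · have hr3 : 2 < r := lt_of_le_of_ne hr'.two_le (Ne.symm hr2)
    by_cases hrp : r = p
    · subst hrp
      have h2F : (2 : F) ≠ 0 := fun h => hr2 (h2F_iff.mp h)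
      constructor
      · intro H
        exact absurd H (ell_p_odd h2F hd)
      · rintro (⟨h, -⟩ | ⟨h, -⟩ | ⟨h, -⟩)
        · exact absurd h hr2
        · exact absurd rfl h
        · exact absurd rfl h
    · have hcb : c = blockSize i := by rw [hc]; rfl
      subst hi
      subst hcb
      have hΩ' : r ∣ Nat.card {W : Submodule F (Fin d ⊕ Fin d → F) // Module.finrank F ↥W = 2 * e ∧
          Nd (pB (plusForm d F)) W ∧ ¬ Hyp (plusForm d F) W} := by
        rw [Nat.card_congr (Equiv.subtypeEquivRight (fun W => by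
          show (Module.finrank F ↥W = 2 * e ∧ Nd (pB (plusForm d F)) W ∧ ¬ Hyp (plusForm d F) W) ↔
            (Module.finrank F ↥W = 2 * e ∧ Cfsg.Geo.IsNondegenerateOn (QuadraticMap.polar (Cfsg.quadFormPlus d F)) W ∧ ¬ Cfsg.Geo.IsPlusTypeOn (Cfsg.quadFormPlus d F) W)
          constructor
          · rintro ⟨h1, h2, h3⟩
            exact ⟨h1, nd_iff_geo.mp h2, fun h => h3 (hyp_iff_geo.mpr h)⟩
          · rintro ⟨h1, h2, h3⟩
            exact ⟨h1, nd_iff_geo.mpr h2, fun h => h3 (hyp_iff_geo.mp h)⟩))]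
        exact hrΩ
      rw [ell_odd_iff hd r hrp hr2 (by omega) (by omega) hΩ']
      constructor
      · rintro (⟨h1, h2, h3, h4⟩ | ⟨h1, h2⟩)
        · exact Or.inr (Or.inl ⟨hrp, hr3, h1, h2, h3, h4⟩)
        · exact Or.inr (Or.inr ⟨hrp, hr3, h1, h2⟩)
      · rintro (⟨h, -⟩ | ⟨-, -, h1, h2, h3, h4⟩ | ⟨-, -, h1, h2⟩)
        · exact absurd h hr2
        · exact Or.inl ⟨h1, h2, h3, h4⟩
        · exact Or.inr ⟨h1, h2⟩

end Cfsg.Agent.S5988
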