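import Cfsg.Statements.S5989
import Cfsg.Agent.Helper94.TpH
import Cfsg.Agent.Helper94.TpI

set_option autoImplicit false
open scoped MatrixGroups
open Cfsg

namespace Cfsg.Agent.S5989

open Cfsg.Agent.Helper94.Tp Cfsg.Agent.Helper94.Tn Cfsg.Agent.Helper94.Ts Cfsg.Agent.Helper94.Ti Cfsg.Agent.Helper99.SpStruct
open Cfsg.Agent.Helper44 Cfsg.Agent.Helper44.QType Cfsg.Agent.Helper99.RDecomp

/-- Elements of prime order of PΩ⁺_n(q), q odd, with no fixed nondegenerate `m`-space of odd dimension. Here `T = PΩ⁺_n(F)`, `n = 2d ≥ 8`, realised through `Ω⁺_n(q)`, the commutator subgroup of the isometry group of `Q = Σ xᵢyᵢ` over the field `F` with `q` elements; an element of `T` of prime order `r` is an element `x` of `Ω⁺_n(q)` with `x^r` scalar and `x` not scalar; `q` and `m` are odd, `1 ≤ m < n/2`. The nondegenerate `m`-spaces (subspaces on which the polar form is nondegenerate) fall into two isometry classes, each an orbit of `T`, and the two actions are equivalent; fix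 one such space `W₀` and let Ω be the set of nondegenerate `m`-spaces isometric to `W₀` (some linear isomorphism preserves `Q`). Let `r` be a prime dividing the size of Ω; for `r ≠ p` let `i` be the multiplicative order of `q` modulo `r`, `c = i` for `i` even and `c = 2i` for `i` odd, and write `k = n mod c`, `ℓ = m mod i`, `ℓ' = m mod c`, `n' = ⌊n/i⌋`, `m' = ⌊m/i⌋`, `t = (r−1)/i`. Then every element of `T` of order `r` fixes a member of Ω if and only if one of: (i) `r = 2`, `n ≡ 2 (mod 4)` and `q ≢ 1 (mod 8)`; (ii) `r ≠ p` odd, `i` odd, `c ≤ m` and `k > ℓ' > 0`; (iii) `r ≠ p` odd, `i` even, and either `k = 0` and `n/i` odd, or `i ≤ m` and `k > ℓ' > 0`. (For `r = p` there is always an element of order `p` fixing no member of Ω.) -/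
theorem result {F : Type*} [Field F] [Fintype F] {p : ℕ} [Fact p.Prime] [CharP F p] {q : ℕ} (hq : Fintype.card F = q)
    (hodd : Odd q) (d m : ℕ) (hd : 4 ≤ d) (hm : Odd m) (hmd : m < d)
    (W₀ : Submodule F (Fin d ⊕ Fin d → F)) (hW₀ : Module.finrank F ↥W₀ = m ∧ Cfsg.Geo.IsNondegenerateOn (QuadraticMap.polar (Cfsg.quadFormPlus d F)) W₀)
    (r : ℕ) [Fact r.Prime]
    (hrΩ : r ∣ Nat.card {W : Submodule F (Fin d ⊕ Fin d → F) // Module.finrank F ↥W = m ∧ Cfsg.Geo.IsNondegenerateOn (QuadraticMap.polar (Cfsg.quadFormPlus d F)) W ∧ Cfsg.Geo.AreIsometricFor (Cfsg.quadFormPlus d F) W W₀})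
    (i c : ℕ) (hi : i = orderOf (q : ZMod r)) (hc : c = if Even i then i else 2 * i) :
    (∀ x : GL (Fin d ⊕ Fin d) F, x ∈ Cfsg.Geo.omegaGL (Cfsg.quadFormPlus d F) →
      (∃ z : F, ((x ^ r : GL (Fin d ⊕ Fin d) F) : Matrix (Fin d ⊕ Fin d) (Fin d ⊕ Fin d) F) = z • (1 : Matrix (Fin d ⊕ Fin d) (Fin d ⊕ Fin d) F)) →
      (∀ z : F, (x : Matrix (Fin d ⊕ Fin d) (Fin d ⊕ Fin d) F) ≠ z • (1 : Matrix (Fin d ⊕ Fin d) (Fin d ⊕ Fin d) F)) →
      ∃ W : Submodule F (Fin d ⊕ Fin d → F), (Module.finrank F ↥W = m ∧ Cfsg.Geo.IsNondegenerateOn (QuadraticMap.polar (Cfsg.quadFormPlus d F)) W ∧ Cfsg.Geo.AreIsometricFor (Cfsg.quadFormPlus d F) W W₀) ∧ W.map (Matrix.toLin' (x : Matrix (Fin d ⊕ Fin d) (Fin d ⊕ Fin d) F)) ≤ W) ↔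
    ((r = 2 ∧ Odd d ∧ q % 8 ≠ 1) ∨
     (r ≠ p ∧ 2 < r ∧ Odd i ∧ c ≤ m ∧ 0 < m % c ∧ m % c < (2 * d) % c) ∨
     (r ≠ p ∧ 2 < r ∧ Even i ∧ (((2 * d) % c = 0 ∧ Odd ((2 * d) / i)) ∨ (i ≤ m ∧ 0 < m % c ∧ m % c < (2 * d) % c)))) := by
  classical
  subst hq
  have hr : r.Prime := Fact.out
  have hp : p.Prime := Fact.out
  have h2 : (2 : F) ≠ 0 := by
    intro h
    haveI : CharP F 2 := CharTwo.of_one_ne_zero_of_two_eq_zero one_ne_zero h
    obtain ⟨n, -, hn⟩ := FiniteField.card F 2
    rw [hn] at hodd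
    have : Even (2 ^ (n : ℕ)) := (Nat.even_pow' n.pos.ne').mpr even_two
    exact (Nat.not_odd_iff_even.mpr this) hodd
  have hp2 : p ≠ 2 := by
    intro h
    apply h2
    have := CharP.cast_eq_zero F p
    rw [h] at this
    exact_mod_cast this
  have hcb : c = blockSize i := by rw [hc]; rfl
  obtain ⟨t, ht⟩ := hm
  have hnd : (qB (plusForm d F)).Nondegenerate := pB_nondeg
  have hW₀nd : Nd (qB (plusForm d F)) W₀ := (nd_iff_isNondegenerateOn' (plusForm d F)).mpr hW₀.2
  have hW₀dim : Module.finrank F ↥W₀ = 2 * t + 1 := by rw [hW₀.1, ht]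
  have hV : Module.finrank F (Fin d ⊕ Fin d → F) = 2 * d := by
    rw [Module.finrank_fintype_fun_eq_card, card_plus]
  have hT : HasType (⇑(plusForm d F)) d 1 := by rw [plusForm_coe]; exact hasType_plus d
  rw [show Cfsg.quadFormPlus d F = ⇑(plusForm d F) from rfl] at hrΩ ⊢
  rw [stmt_iff (plusForm d F) h2 hW₀.1 r]
  by_cases hrp : r = p
  · -- the characteristic
    subst hrp
    obtain ⟨y, hyΩ, hyord, hy⟩ := exists_unip_witness (F := F) (p := r) h2 hd ⟨t, ht⟩ hmd
    have hnot := not_stmtProp_char (plusForm d F) hW₀.1 y hyΩ hyord hy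
    constructor
    · intro H
      exact absurd H hnot
    · rintro (⟨h, -⟩ | ⟨h, -⟩ | ⟨h, -⟩)
      · exact absurd h hp2
      · exact absurd rfl h
      · exact absurd rfl h
  by_cases hr2 : r = 2
  · -- involutions
    subst hr2
    rw [stmtProp_two_iff (plusForm d F) hW₀nd,
      twoProp_iff (plusForm d F) h2 hnd card_plus hW₀nd hW₀dim (by omega),
      exists_plus_Omega_sq_neg_iff h2 rfl hodd (by omega)]
    constructor
    · intro H
      left
      push Not at H
      exact ⟨rfl, Nat.not_even_iff_odd.mp H.1, H.2⟩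
    · rintro (⟨-, h1, h3⟩ | ⟨-, h, -⟩ | ⟨-, h, -⟩)
      · rintro (h | h)
        · exact (Nat.not_even_iff_odd.mpr h1) h
        · exact h3 h
      · omega
      · omega
  -- semisimple elements of odd order
  have hr3 : 2 < r := lt_of_le_of_ne hr.two_le (Ne.symm hr2)
  have hipos : 0 < i := by rw [hi]; exact orderOf_card_pos r hrp
  have hcpos : 0 < c := by rw [hcb]; exact blockSize_pos hipos
  have hdm := Nat.div_add_mod (2 * d) c
  constructor
  · intro H
    have HI := isoProp_of_stmtProp (plusForm d F) h2 hnd (by rw [hV]; omega) r hr2 H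
    have hΩ' : r ∣ Nat.card {W : Submodule F (Fin d ⊕ Fin d → F) //
        Module.finrank F ↥W = 2 * t + 1 ∧ Nd (qB (plusForm d F)) W ∧
          Iso (qB (plusForm d F)) W W₀} := by
      rw [Nat.card_congr (Equiv.subtypeEquivRight (fun W => by
        rw [nd_iff_isNondegenerateOn' (plusForm d F), iso_iff_areIsometricFor (plusForm d F) h2,
          ← ht]))]
      exact hrΩ
    obtain ⟨h1, h3⟩ := cond_of_isoProp (plusForm d F) h2 hnd card_plus (Or.inl rfl) hT r hrp hr2
      hW₀nd hW₀dim (by omega) HI hΩ'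
    rw [← hi, ← hcb, ← ht] at h1
    rw [← hi, ← hcb] at h3
    right
    rcases Nat.eq_zero_or_pos ((2 * d) % c) with hρ | hρ
    · have hne := h3 hρ
      have hnd' : ¬ i ∣ d := by
        intro hdvd
        apply hne
        rw [Int.cast_one]
        exact orderOf_dvd_iff_pow_eq_one.mp (by rw [← hi]; exact hdvd)
      by_cases hie : Even i
      · right
        have hci : c = i := by rw [hc, if_pos hie]
        refine ⟨hrp, hr3, hie, Or.inl ⟨hρ, ?_⟩⟩
        rw [← Nat.not_even_iff_odd]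
        rintro ⟨s, hs⟩
        apply hnd'
        refine ⟨s, ?_⟩
        have e1 : c * ((2 * d) / c) = i * (s + s) := by rw [hci, hs]
        have e2 : i * (s + s) = 2 * (i * s) := by ring
        omega
      · exfalso
        have hci : c = 2 * i := by rw [hc, if_neg hie]
        apply hnd'
        refine ⟨(2 * d) / c, ?_⟩
        have e1 : c * ((2 * d) / c) = 2 * (i * ((2 * d) / c)) := by rw [hci]; ring
        omega
    · obtain ⟨h4, h5, h6⟩ := h1 hρ
      by_cases hie : Even i
      · right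
        have hci : c = i := by rw [hc, if_pos hie]
        exact ⟨hrp, hr3, hie, Or.inr ⟨by omega, h5, h6⟩⟩
      · left
        exact ⟨hrp, hr3, Nat.not_even_iff_odd.mp hie, h4, h5, h6⟩
  · intro H
    apply stmtProp_of_cond (plusForm d F) h2 hnd card_plus (by omega) hT r hrp hr2 hW₀nd hW₀dim
      (by omega)
    rw [← hi, ← hcb, ← ht]
    rcases H with ⟨h, -⟩ | ⟨-, -, -, -, h5, h6⟩ | ⟨-, -, hie, ⟨hρ, hodd'⟩ | ⟨-, h5, h6⟩⟩
    · exact absurd h hr2
    · left; exact h6
    · right
      refine ⟨hρ, ?_⟩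
      have hci : c = i := by rw [hc, if_pos hie]
      intro hpow
      rw [Int.cast_one] at hpow
      have hdvd : i ∣ d := by
        rw [hi]
        exact orderOf_dvd_iff_pow_eq_one.mpr hpow
      obtain ⟨s, hs⟩ := hdvd
      rw [← Nat.not_even_iff_odd] at hodd'
      apply hodd'
      refine ⟨s, ?_⟩
      have e1 : 2 * d = i * (s + s) := by rw [hs]; ring
      rw [e1, Nat.mul_div_cancel_left _ hipos]
    · left; exact h6


end Cfsg.Agent.S5989
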