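import Cfsg.Statements.S5990
import Cfsg.Agent.Helper99.QSpMinus

set_option autoImplicit false
open scoped MatrixGroups
open Cfsg

namespace Cfsg.Agent.S5990

/-- Elements of prime order of PΩ⁻_n(q) with no fixed elliptic `m`-space. Here `T = PΩ⁻_n(F)`, `n = 2d ≥ 8`, realised through `Ω⁻_n(q)`, the commutator subgroup of the isometry group of `Q = Σ_{i<d−1} xᵢyᵢ + z₁² + a z₁z₂ + b z₂²` with `z₁² + a z₁z₂ + b z₂²` anisotropic, over the field `F` with `q` elements; an element of `T` of prime order `r` is an element `x` of `Ω⁻_n(q)` with `x^r` scalar and `x` not scalar; a nondegenerate `m`-space (even `m`) is a subspace on which the polar form of `Q` is nondegenerate; it is hyperbolic if it contains an `m/2`-dimensional subspace on which `Q` vanishes, elliptic otherwise. Let `m` be even with `2 ≤ m ≤ n − 2` (no restriction `m < n/2`: fixing an elliptic `m`-space is the same as fixing its hyperbolic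 orthogonal complement) and let `r` be a prime dividing the number of elliptic `m`-spaces, with `r = 2` or `r ≠ p`; for `r ≠ p` let `i` be the multiplicative order of `q` modulo `r`, `c = i` for `i` even and `c = 2i` for `i` odd, and write `k = n mod c`, `ℓ = m mod i`, `ℓ' = m mod c`, `n' = ⌊n/i⌋`, `m' = ⌊m/i⌋`, `t = (r−1)/i`. Then every element of `T` of order `r` fixes some elliptic `m`-space if and only if one of: (i) `r = p = 2` and (`n ≡ 0 (mod 4)` or `m ≡ 2 (mod 4)`); (ii) `r = 2 ≠ p` and (`n ≡ 0 (mod 4)`, or `q ≢ 7 (mod 8)`, or `m ≡ 2 (mod 4)`); (iii) `r ≠ p` odd, `i` odd, and `k = 0` or (`c ≤ m` and `k ≥ ℓ' > 0`); (iv) `r ≠ p` odd, `i` even, and either `k = 0` and (`n/i` even, or `ℓ' = 0` and `m/i` odd), or `k > 0`, `i ≤ m` and (`k > ℓ' > 0`, or `ℓ' = 0` and `m/i` odd, or `k = ℓ'` and `(n + m − 2k)/i` even). (Odd `r = p` is not covered by this statement.) -/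
theorem result {F : Type*} [Field F] [Fintype F] {p : ℕ} [Fact p.Prime] [CharP F p] {q : ℕ} (hq : Fintype.card F = q)
    (d m : ℕ) (hd : 4 ≤ d) (hm : 2 ≤ m) (hme : Even m) (hmn : m + 2 ≤ 2 * d) (a b : F) (hab : ∀ x y : F, x ^ 2 + a * x * y + b * y ^ 2 = 0 → x = 0 ∧ y = 0)
    (r : ℕ) [Fact r.Prime] (hr : r = 2 ∨ r ≠ p)
    (hrΩ : r ∣ Nat.card {W : Submodule F ((Fin (d - 1) ⊕ Fin (d - 1)) ⊕ Fin 2 → F) // Module.finrank F ↥W = m ∧ Cfsg.Geo.IsNondegenerateOn (QuadraticMap.polar (Cfsg.quadFormMinus (d - 1) F a b)) W ∧ ¬ Cfsg.Geo.IsPlusTypeOn (Cfsg.quadFormMinus (d - 1) F a b) W})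
    (i c : ℕ) (hi : i = orderOf (q : ZMod r)) (hc : c = if Even i then i else 2 * i) :
    (∀ x : GL ((Fin (d - 1) ⊕ Fin (d - 1)) ⊕ Fin 2) F, x ∈ Cfsg.Geo.omegaGL (Cfsg.quadFormMinus (d - 1) F a b) →
      (∃ z : F, ((x ^ r : GL ((Fin (d - 1) ⊕ Fin (d - 1)) ⊕ Fin 2) F) : Matrix ((Fin (d - 1) ⊕ Fin (d - 1)) ⊕ Fin 2) ((Fin (d - 1) ⊕ Fin (d - 1)) ⊕ Fin 2) F) = z • (1 : Matrix ((Fin (d - 1) ⊕ Fin (d - 1)) ⊕ Fin 2) ((Fin (d - 1) ⊕ Fin (d - 1)) ⊕ Fin 2) F)) →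
      (∀ z : F, (x : Matrix ((Fin (d - 1) ⊕ Fin (d - 1)) ⊕ Fin 2) ((Fin (d - 1) ⊕ Fin (d - 1)) ⊕ Fin 2) F) ≠ z • (1 : Matrix ((Fin (d - 1) ⊕ Fin (d - 1)) ⊕ Fin 2) ((Fin (d - 1) ⊕ Fin (d - 1)) ⊕ Fin 2) F)) →
      ∃ W : Submodule F ((Fin (d - 1) ⊕ Fin (d - 1)) ⊕ Fin 2 → F), (Module.finrank F ↥W = m ∧ Cfsg.Geo.IsNondegenerateOn (QuadraticMap.polar (Cfsg.quadFormMinus (d - 1) F a b)) W ∧ ¬ Cfsg.Geo.IsPlusTypeOn (Cfsg.quadFormMinus (d - 1) F a b) W) ∧ W.map (Matrix.toLin' (x : Matrix ((Fin (d - 1) ⊕ Fin (d - 1)) ⊕ Fin 2) ((Fin (d - 1) ⊕ Fin (d - 1)) ⊕ Fin 2) F)) ≤ W) ↔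
    ((r = 2 ∧ p = 2 ∧ (Even d ∨ m % 4 = 2)) ∨
     (r = 2 ∧ p ≠ 2 ∧ (Even d ∨ q % 8 ≠ 7 ∨ m % 4 = 2)) ∨
     (r ≠ p ∧ 2 < r ∧ Odd i ∧ ((2 * d) % c = 0 ∨ (c ≤ m ∧ 0 < m % c ∧ m % c ≤ (2 * d) % c))) ∨
     (r ≠ p ∧ 2 < r ∧ Even i ∧
       (((2 * d) % c = 0 ∧ (Even ((2 * d) / i) ∨ (m % c = 0 ∧ Odd (m / i)))) ∨
        (0 < (2 * d) % c ∧ i ≤ m ∧ ((0 < m % c ∧ m % c < (2 * d) % c) ∨ (m % c = 0 ∧ Odd (m / i)) ∨
                                    (m % c = (2 * d) % c ∧ Even ((2 * d + m - 2 * ((2 * d) % c)) / i))))))) := by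
  classical
  subst hq
  have hrP : r.Prime := Fact.out
  have hpP : p.Prime := Fact.out
  obtain ⟨e, he⟩ := hme
  have hme2 : m = 2 * e := by omega
  subst hme2
  obtain ⟨k, rfl⟩ : ∃ k, d = k + 1 := ⟨d - 1, by omega⟩
  rw [Nat.add_sub_cancel] at hrΩ ⊢
  have hab' : ∀ z₁ z₂ : F, z₁ ^ 2 + a * z₁ * z₂ + b * z₂ ^ 2 = 0 → z₁ = 0 ∧ z₂ = 0 := hab
  rw [show Cfsg.quadFormMinus k F a b = ⇑(Cfsg.Agent.Helper44.minusForm k F a b) from rfl] at hrΩ ⊢
  rw [Cfsg.Agent.Helper99.QSpMinus.stmtProp_iff]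
  rw [Cfsg.Agent.Helper99.QSpMinus.card_bridge] at hrΩ
  have hcb : c = Cfsg.Agent.Helper99.SpStruct.blockSize i := by rw [hc]; rfl
  have hp2_iff : p = 2 ↔ (2 : F) = 0 := by
    constructor
    · intro h
      have := CharP.cast_eq_zero F p
      rw [h] at this
      exact_mod_cast this
    · intro h
      have h1 : ((2 : ℕ) : F) = 0 := by exact_mod_cast h
      have h3 := (CharP.cast_eq_zero_iff F p 2).mp h1
      exact ((Nat.prime_dvd_prime_iff_eq hpP Nat.prime_two).mp h3)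
  have heodd_iff : Odd e ↔ (2 * e) % 4 = 2 := by
    rw [Nat.odd_iff]
    omega
  by_cases hr2 : r = 2
  · subst hr2
    by_cases hp2 : p = 2
    · rw [Cfsg.Agent.Helper99.QSpMinus.two_iff_char_two (hp2_iff.mp hp2) hab' (by omega) (by omega)
        (by omega), heodd_iff]
      constructor
      · intro h
        left
        exact ⟨rfl, hp2, h⟩
      · rintro (⟨-, -, h⟩ | ⟨-, h, -⟩ | ⟨-, h, -⟩ | ⟨-, h, -⟩)
        · exact h
        · exact absurd hp2 h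
        · omega
        · omega
    · rw [Cfsg.Agent.Helper99.QSpMinus.two_iff_odd_char (fun h => hp2 (hp2_iff.mpr h)) hab'
        (by omega) (by omega), heodd_iff]
      constructor
      · intro h
        right; left
        exact ⟨rfl, hp2, h⟩
      · rintro (⟨-, h, -⟩ | ⟨-, -, h⟩ | ⟨-, h, -⟩ | ⟨-, h, -⟩)
        · exact absurd h hp2
        · exact h
        · omega
        · omega
  · have hrp : r ≠ p := by
      rcases hr with h | h
      · exact absurd h hr2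
      · exact h
    have hr3 : 2 < r := lt_of_le_of_ne hrP.two_le (Ne.symm hr2)
    rw [Cfsg.Agent.Helper99.QSpMinus.odd_iff (Cfsg.Agent.Helper44.minusForm k F a b)
      (Cfsg.Agent.Helper99.QSpMinus.minus_nd hab') hd Cfsg.Agent.Helper94.Tp.card_minus
      (Cfsg.Agent.Helper99.QSpMinus.minus_qType_top hab') r hrp hr2 (by omega) (by omega) hrΩ,
      ← hi, ← hcb]
    constructor
    · rintro (⟨hio, h⟩ | ⟨hie, h⟩)
      · right; right; left
        exact ⟨hrp, hr3, hio, h⟩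
      · right; right; right
        exact ⟨hrp, hr3, hie, h⟩
    · rintro (⟨h, -⟩ | ⟨h, -⟩ | ⟨-, -, hio, h⟩ | ⟨-, -, hie, h⟩)
      · exact absurd h hr2
      · exact absurd h hr2
      · left
        exact ⟨hio, h⟩
      · right
        exact ⟨hie, h⟩

end Cfsg.Agent.S5990
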