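import Cfsg.Statements.S5991
import Cfsg.Agent.Helper94.TpJ
import Cfsg.Agent.Helper94.TpO

set_option autoImplicit false
open scoped MatrixGroups
open Cfsg

namespace Cfsg.Agent.S5991

open Cfsg.Agent.Helper94.Tp Cfsg.Agent.Helper94.Tn Cfsg.Agent.Helper94.Ts Cfsg.Agent.Helper94.Ti Cfsg.Agent.Helper99.SpStruct
open Cfsg.Agent.Helper44 Cfsg.Agent.Helper44.QType Cfsg.Agent.Helper99.RDecomp

/-- Elements of prime order of PΩ⁻_n(q), q odd, with no fixed nondegenerate `m`-space of odd dimension. Here `T = PΩ⁻_n(F)`, `n = 2d ≥ 8`, realised through `Ω⁻_n(q)`, the commutator subgroup of the isometry group of `Q = Σ_{i<d−1} xᵢyᵢ + z₁² + a z₁z₂ + b z₂²` with `z₁² + a z₁z₂ + b z₂²` anisotropic, over the field `F` with `q` elements; an element of `T` of prime order `r` is an element `x` of `Ω⁻_n(q)` with `x^r` scalar and `x` not scalar; `q` and `m` are odd, `1 ≤ m < n/2`. The nondegenerate `m`-spaces fall into two isometry classes, each an orbit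 of `T`, with equivalent actions; fix one such space `W₀` and let Ω be the set of nondegenerate `m`-spaces isometric to `W₀`. Let `r` be a prime dividing the size of Ω; for `r ≠ p` let `i` be the multiplicative order of `q` modulo `r`, `c = i` for `i` even and `c = 2i` for `i` odd, and write `k = n mod c`, `ℓ = m mod i`, `ℓ' = m mod c`, `n' = ⌊n/i⌋`, `m' = ⌊m/i⌋`, `t = (r−1)/i`. Then every element of `T` of order `r` fixes a member of Ω if and only if one of: (i) `r = 2` and (`n ≡ 0 (mod 4)` or `q ≢ 7 (mod 8)`); (ii) `r ≠ p` odd, `i` odd, and `k = 0` or (`c ≤ m` and `k > ℓ' > 0`); (iii) `r ≠ p` odd, `i` even, and either `k = 0` and `n/i` even, or `k > 0`, `i ≤ m` and `k > ℓ' > 0`. (For `r = p` there is always an element of order `p` fixing no member of Ω.) -/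
theorem result {F : Type*} [Field F] [Fintype F] {p : ℕ} [Fact p.Prime] [CharP F p] {q : ℕ} (hq : Fintype.card F = q)
    (hodd : Odd q) (d m : ℕ) (hd : 4 ≤ d) (hm : Odd m) (hmd : m < d) (a b : F) (hab : ∀ x y : F, x ^ 2 + a * x * y + b * y ^ 2 = 0 → x = 0 ∧ y = 0)
    (W₀ : Submodule F ((Fin (d - 1) ⊕ Fin (d - 1)) ⊕ Fin 2 → F)) (hW₀ : Module.finrank F ↥W₀ = m ∧ Cfsg.Geo.IsNondegenerateOn (QuadraticMap.polar (Cfsg.quadFormMinus (d - 1) F a b)) W₀)
    (r : ℕ) [Fact r.Prime]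
    (hrΩ : r ∣ Nat.card {W : Submodule F ((Fin (d - 1) ⊕ Fin (d - 1)) ⊕ Fin 2 → F) // Module.finrank F ↥W = m ∧ Cfsg.Geo.IsNondegenerateOn (QuadraticMap.polar (Cfsg.quadFormMinus (d - 1) F a b)) W ∧ Cfsg.Geo.AreIsometricFor (Cfsg.quadFormMinus (d - 1) F a b) W W₀})
    (i c : ℕ) (hi : i = orderOf (q : ZMod r)) (hc : c = if Even i then i else 2 * i) :
    (∀ x : GL ((Fin (d - 1) ⊕ Fin (d - 1)) ⊕ Fin 2) F, x ∈ Cfsg.Geo.omegaGL (Cfsg.quadFormMinus (d - 1) F a b) →
      (∃ z : F, ((x ^ r : GL ((Fin (d - 1) ⊕ Fin (d - 1)) ⊕ Fin 2) F) : Matrix ((Fin (d - 1) ⊕ Fin (d - 1)) ⊕ Fin 2) ((Fin (d - 1) ⊕ Fin (d - 1)) ⊕ Fin 2) F) = z • (1 : Matrix ((Fin (d - 1) ⊕ Fin (d - 1)) ⊕ Fin 2) ((Fin (d - 1) ⊕ Fin (d - 1)) ⊕ Fin 2) F)) →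
      (∀ z : F, (x : Matrix ((Fin (d - 1) ⊕ Fin (d - 1)) ⊕ Fin 2) ((Fin (d - 1) ⊕ Fin (d - 1)) ⊕ Fin 2) F) ≠ z • (1 : Matrix ((Fin (d - 1) ⊕ Fin (d - 1)) ⊕ Fin 2) ((Fin (d - 1) ⊕ Fin (d - 1)) ⊕ Fin 2) F)) →
      ∃ W : Submodule F ((Fin (d - 1) ⊕ Fin (d - 1)) ⊕ Fin 2 → F), (Module.finrank F ↥W = m ∧ Cfsg.Geo.IsNondegenerateOn (QuadraticMap.polar (Cfsg.quadFormMinus (d - 1) F a b)) W ∧ Cfsg.Geo.AreIsometricFor (Cfsg.quadFormMinus (d - 1) F a b) W W₀) ∧ W.map (Matrix.toLin' (x : Matrix ((Fin (d - 1) ⊕ Fin (d - 1)) ⊕ Fin 2) ((Fin (d - 1) ⊕ Fin (d - 1)) ⊕ Fin 2) F)) ≤ W) ↔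
    ((r = 2 ∧ (Even d ∨ q % 8 ≠ 7)) ∨
     (r ≠ p ∧ 2 < r ∧ Odd i ∧ ((2 * d) % c = 0 ∨ (c ≤ m ∧ 0 < m % c ∧ m % c < (2 * d) % c))) ∨
     (r ≠ p ∧ 2 < r ∧ Even i ∧ (((2 * d) % c = 0 ∧ Even ((2 * d) / i)) ∨ (0 < (2 * d) % c ∧ i ≤ m ∧ 0 < m % c ∧ m % c < (2 * d) % c)))) := by
  classical
  subst hq
  have hr : r.Prime := Fact.out
  have hp : p.Prime := Fact.out
  have h2 : (2 : F) ≠ 0 := by
    intro h
    haveI : CharP F 2 := CharTwo.of_one_ne_zero_of_two_eq_zero one_ne_zero h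
    obtain ⟨n, -, hn⟩ := FiniteField.card F 2
    rw [hn] at hodd
    have : Even (2 ^ (n : ℕ)) := (Nat.even_pow' n.pos.ne').mpr even_two
    exact (Nat.not_odd_iff_even.mpr this) hodd
  have hp2 : p ≠ 2 := by
    intro h
    apply h2
    have := CharP.cast_eq_zero F p
    rw [h] at this
    exact_mod_cast this
  have hcb : c = blockSize i := by rw [hc]; rfl
  obtain ⟨t, ht⟩ := hm
  have hd1 : d - 1 + 1 = d := by omega
  have hnd : (qB (minusForm (d - 1) F a b)).Nondegenerate := mB_nondeg hab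
  have hW₀nd : Nd (qB (minusForm (d - 1) F a b)) W₀ :=
    (nd_iff_isNondegenerateOn' (minusForm (d - 1) F a b)).mpr hW₀.2
  have hW₀dim : Module.finrank F ↥W₀ = 2 * t + 1 := by rw [hW₀.1, ht]
  have hcard : Fintype.card ((Fin (d - 1) ⊕ Fin (d - 1)) ⊕ Fin 2) = 2 * d := by
    rw [card_minus, hd1]
  have hV : Module.finrank F ((Fin (d - 1) ⊕ Fin (d - 1)) ⊕ Fin 2 → F) = 2 * d := by
    rw [Module.finrank_fintype_fun_eq_card, hcard]
  have hT : HasType (⇑(minusForm (d - 1) F a b)) d (-1) := by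
    have := hT_minus (k := d - 1) hab
    rwa [hd1] at this
  rw [show Cfsg.quadFormMinus (d - 1) F a b = ⇑(minusForm (d - 1) F a b) from rfl] at hrΩ ⊢
  rw [stmt_iff (minusForm (d - 1) F a b) h2 hW₀.1 r]
  by_cases hrp : r = p
  · -- the characteristic
    subst hrp
    have hTw := exists_unip_witness_minus (F := F) (p := r) (k := d - 1) h2 hab (by omega)
      (m := m) ⟨t, ht⟩ (by omega) hW₀.1 hW₀nd
    obtain ⟨y, hyΩ, hyord, hy⟩ := hTw
    have hnot := not_stmtProp_char' (minusForm (d - 1) F a b) y hyΩ hyord hy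
    constructor
    · intro H
      exact absurd H hnot
    · rintro (⟨h, -⟩ | ⟨h, -⟩ | ⟨h, -⟩)
      · exact absurd h hp2
      · exact absurd rfl h
      · exact absurd rfl h
  by_cases hr2 : r = 2
  · -- involutions
    subst hr2
    rw [stmtProp_two_iff (minusForm (d - 1) F a b) hW₀nd,
      twoProp_iff (minusForm (d - 1) F a b) h2 hnd hcard hW₀nd hW₀dim (by omega),
      exists_minus_Omega_sq_neg_iff h2 rfl hodd hab, hd1]
    constructor
    · intro H
      left
      refine ⟨rfl, ?_⟩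
      by_contra hcon
      push Not at hcon
      exact H ⟨Nat.not_even_iff_odd.mp hcon.1, hcon.2⟩
    · rintro (⟨-, h1⟩ | ⟨-, h, -⟩ | ⟨-, h, -⟩)
      · rintro ⟨h3, h4⟩
        rcases h1 with h1 | h1
        · exact (Nat.not_even_iff_odd.mpr h3) h1
        · exact h1 h4
      · omega
      · omega
  -- semisimple elements of odd order
  have hr3 : 2 < r := lt_of_le_of_ne hr.two_le (Ne.symm hr2)
  have hipos : 0 < i := by rw [hi]; exact orderOf_card_pos r hrp
  have hcpos : 0 < c := by rw [hcb]; exact blockSize_pos hipos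
  have hdm := Nat.div_add_mod (2 * d) c
  have hr2' : ((2 : ℕ) : ZMod r) ≠ 0 := by
    intro h
    rw [ZMod.natCast_eq_zero_iff] at h
    have := Nat.le_of_dvd (by norm_num) h
    omega
  -- `q ^ d = -1` in `ZMod r` is impossible when `i ∣ d`, and forces `i` even
  have hpow_of_dvd : i ∣ d → ((Fintype.card F : ℕ) : ZMod r) ^ d ≠ ((-1 : ℤ) : ZMod r) := by
    intro hdvd hpow
    have h1 : ((Fintype.card F : ℕ) : ZMod r) ^ d = 1 :=
      orderOf_dvd_iff_pow_eq_one.mp (by rw [← hi]; exact hdvd)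
    rw [h1] at hpow
    push_cast at hpow
    apply hr2'
    push_cast
    linear_combination hpow
  constructor
  · intro H
    have HI := isoProp_of_stmtProp (minusForm (d - 1) F a b) h2 hnd (by rw [hV]; omega) r hr2 H
    have hΩ' : r ∣ Nat.card {W : Submodule F ((Fin (d - 1) ⊕ Fin (d - 1)) ⊕ Fin 2 → F) //
        Module.finrank F ↥W = 2 * t + 1 ∧ Nd (qB (minusForm (d - 1) F a b)) W ∧
          Iso (qB (minusForm (d - 1) F a b)) W W₀} := by
      rw [Nat.card_congr (Equiv.subtypeEquivRight (fun W => by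
        rw [nd_iff_isNondegenerateOn' (minusForm (d - 1) F a b),
          iso_iff_areIsometricFor (minusForm (d - 1) F a b) h2, ← ht]))]
      exact hrΩ
    obtain ⟨h1, h3⟩ := cond_of_isoProp (minusForm (d - 1) F a b) h2 hnd hcard (Or.inr rfl) hT r
      hrp hr2 hW₀nd hW₀dim (by omega) HI hΩ'
    rw [← hi, ← hcb, ← ht] at h1
    rw [← hi, ← hcb] at h3
    right
    rcases Nat.eq_zero_or_pos ((2 * d) % c) with hρ | hρ
    · have hne := h3 hρ
      by_cases hie : Even i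
      · right
        have hci : c = i := by rw [hc, if_pos hie]
        refine ⟨hrp, hr3, hie, Or.inl ⟨hρ, ?_⟩⟩
        -- `q ^ (2 d) = 1` and `q ^ d ≠ -1` give `q ^ d = 1`
        have hsq : (((Fintype.card F : ℕ) : ZMod r) ^ d - 1) *
            (((Fintype.card F : ℕ) : ZMod r) ^ d + 1) = 0 := by
          have h5 : ((Fintype.card F : ℕ) : ZMod r) ^ (2 * d) = 1 := by
            apply orderOf_dvd_iff_pow_eq_one.mp
            rw [← hi, ← hci]
            exact Nat.dvd_of_mod_eq_zero hρ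
          linear_combination h5
        haveI : Fact r.Prime := ⟨hr⟩
        rcases mul_eq_zero.mp hsq with h6 | h6
        · have hdvd : i ∣ d := by
            rw [hi]
            exact orderOf_dvd_iff_pow_eq_one.mpr (by linear_combination h6)
          obtain ⟨s, hs⟩ := hdvd
          refine ⟨s, ?_⟩
          have e1 : 2 * d = i * (s + s) := by rw [hs]; ring
          rw [e1, Nat.mul_div_cancel_left _ hipos]
        · exfalso
          apply hne
          push_cast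
          linear_combination h6
      · left
        exact ⟨hrp, hr3, Nat.not_even_iff_odd.mp hie, Or.inl hρ⟩
    · obtain ⟨h4, h5, h6⟩ := h1 hρ
      by_cases hie : Even i
      · right
        have hci : c = i := by rw [hc, if_pos hie]
        exact ⟨hrp, hr3, hie, Or.inr ⟨hρ, by omega, h5, h6⟩⟩
      · left
        exact ⟨hrp, hr3, Nat.not_even_iff_odd.mp hie, Or.inr ⟨h4, h5, h6⟩⟩
  · intro H
    apply stmtProp_of_cond (minusForm (d - 1) F a b) h2 hnd hcard (by omega) hT r hrp hr2 hW₀nd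
      hW₀dim (by omega)
    rw [← hi, ← hcb, ← ht]
    rcases H with ⟨h, -⟩ | ⟨-, -, hio, hρ | ⟨-, h5, h6⟩⟩ |
      ⟨-, -, hie, ⟨hρ, heven'⟩ | ⟨-, -, h5, h6⟩⟩
    · exact absurd h hr2
    · right
      refine ⟨hρ, ?_⟩
      apply hpow_of_dvd
      have hci : c = 2 * i := by rw [hc, if_neg (Nat.not_even_iff_odd.mpr hio)]
      refine ⟨(2 * d) / c, ?_⟩
      have e1 : c * ((2 * d) / c) = 2 * (i * ((2 * d) / c)) := by rw [hci]; ring
      omega
    · left; exact h6
    · right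
      refine ⟨hρ, ?_⟩
      apply hpow_of_dvd
      have hci : c = i := by rw [hc, if_pos hie]
      obtain ⟨s, hs⟩ := heven'
      refine ⟨s, ?_⟩
      have e1 : c * ((2 * d) / c) = i * (s + s) := by rw [hci, hs]
      have e2 : i * (s + s) = 2 * (i * s) := by ring
      omega
    · left; exact h6


end Cfsg.Agent.S5991
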