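import Cfsg.Statements.S5992
import Cfsg.Agent.Helper94.TnJ

set_option autoImplicit false
open scoped MatrixGroups
open Cfsg

namespace Cfsg.Agent.S5992

open Cfsg.Agent.Helper94.Tn Cfsg.Agent.Helper94.Ts Cfsg.Agent.Helper94.Ti Cfsg.Agent.Helper99.SpStruct

/-- Elements of prime order r ≠ p of Ω_n(q), nq odd, with no fixed hyperbolic `m`-space. Here `T = Ω_n(F)`, `n = 2d+1 ≥ 7`, `q` odd, realised as the commutator subgroup of the isometry group of `Q = x₀² + Σ xᵢyᵢ` over the field `F` with `q` elements (trivial centre, so its elements of prime order `r` are used directly); a nondegenerate `m`-space (even `m`) is a subspace on which the polar form of `Q` is nondegenerate; it is hyperbolic if it contains an `m/2`-dimensional subspace on which `Q` vanishes, elliptic otherwise. Let `m` be even with `2 ≤ m ≤ n − 1` (no restriction `m < n/2`) and let `r ≠ p` be a prime dividing the number of hyperbolic `m`-spaces; for `r ≠ p` let `i` be the multiplicative order of `q` modulo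 `r`, `c = i` for `i` even and `c = 2i` for `i` odd, and write `k = n mod c`, `ℓ' = m mod c`. Then every element of `T` of order `r` fixes some hyperbolic `m`-space if and only if `r = 2`, or `r` is odd and one of: (i) `i` odd, `c ≤ m` and either `k > ℓ' > 0` or `ℓ' = 0`; (ii) `i` even, `i ≤ m`, `k > ℓ'`, and `m/i` even whenever `ℓ' = 0`. (`r = p` is not covered by this statement.) -/
theorem result {F : Type*} [Field F] [Fintype F] {p : ℕ} [Fact p.Prime] [CharP F p] {q : ℕ} (hq : Fintype.card F = q) (hqodd : Odd q)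
    (d m : ℕ) (hd : 3 ≤ d) (hm : 2 ≤ m) (hme : Even m) (hmn : m ≤ 2 * d)
    (r : ℕ) [Fact r.Prime] (hrp : r ≠ p)
    (hrΩ : r ∣ Nat.card {W : Submodule F (Unit ⊕ (Fin d ⊕ Fin d) → F) // Module.finrank F ↥W = m ∧ Cfsg.Geo.IsNondegenerateOn (QuadraticMap.polar (Cfsg.quadFormOdd d F)) W ∧ Cfsg.Geo.IsPlusTypeOn (Cfsg.quadFormOdd d F) W})
    (i c : ℕ) (hi : i = orderOf (q : ZMod r)) (hc : c = if Even i then i else 2 * i) :
    (∀ x : GL (Unit ⊕ (Fin d ⊕ Fin d)) F, x ∈ Cfsg.Geo.omegaGL (Cfsg.quadFormOdd d F) → orderOf x = r →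
      ∃ W : Submodule F (Unit ⊕ (Fin d ⊕ Fin d) → F), (Module.finrank F ↥W = m ∧ Cfsg.Geo.IsNondegenerateOn (QuadraticMap.polar (Cfsg.quadFormOdd d F)) W ∧ Cfsg.Geo.IsPlusTypeOn (Cfsg.quadFormOdd d F) W) ∧ W.map (Matrix.toLin' (x : Matrix (Unit ⊕ (Fin d ⊕ Fin d)) (Unit ⊕ (Fin d ⊕ Fin d)) F)) ≤ W) ↔
    (r = 2 ∨
     (2 < r ∧ Odd i ∧ c ≤ m ∧ (m % c = 0 ∨ (0 < m % c ∧ m % c < (2 * d + 1) % c))) ∨
     (2 < r ∧ Even i ∧ i ≤ m ∧ m % c < (2 * d + 1) % c ∧ (0 < m % c ∨ Even (m / i)))) := by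
  classical
  subst hq
  have hr : r.Prime := Fact.out
  have h2 : (2 : F) ≠ 0 := by
    intro h
    haveI : CharP F 2 := CharTwo.of_one_ne_zero_of_two_eq_zero one_ne_zero h
    obtain ⟨n, -, hn⟩ := FiniteField.card F 2
    rw [hn] at hqodd
    have : Even (2 ^ (n : ℕ)) := (Nat.even_pow' n.pos.ne').mpr even_two
    exact (Nat.not_odd_iff_even.mpr this) hqodd
  have hcb : c = blockSize i := by rw [hc]; rfl
  -- reformulation of the hypothesis
  have hequiv : (∀ x : GL (Unit ⊕ (Fin d ⊕ Fin d)) F, x ∈ Cfsg.Geo.omegaGL (Cfsg.quadFormOdd d F) →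
      orderOf x = r →
      ∃ W : Submodule F (Unit ⊕ (Fin d ⊕ Fin d) → F), (Module.finrank F ↥W = m ∧
        Cfsg.Geo.IsNondegenerateOn (QuadraticMap.polar (Cfsg.quadFormOdd d F)) W ∧
        Cfsg.Geo.IsPlusTypeOn (Cfsg.quadFormOdd d F) W) ∧
        W.map (Matrix.toLin' (x : Matrix (Unit ⊕ (Fin d ⊕ Fin d)) (Unit ⊕ (Fin d ⊕ Fin d)) F)) ≤ W) ↔
      HypProp F d m r := by
    constructor
    · intro H y hyΩ hyord
      obtain ⟨W, ⟨h1, h3, h4⟩, h5⟩ := H (y : GL (Unit ⊕ (Fin d ⊕ Fin d)) F)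
        (Subgroup.mem_map.mpr ⟨y, hyΩ, rfl⟩) (by rw [Subgroup.orderOf_coe]; exact hyord)
      exact ⟨W, h1, nd_iff_isNondegenerateOn.mpr h3, (hyp_iff_isPlusTypeOn h2).mpr h4, h5⟩
    · intro H x hx hxord
      obtain ⟨y, hyΩ, rfl⟩ := Subgroup.mem_map.mp hx
      obtain ⟨W, h1, h3, h4, h5⟩ := H y hyΩ
        (by rw [← hxord]; exact (Subgroup.orderOf_coe y).symm)
      exact ⟨W, ⟨h1, nd_iff_isNondegenerateOn.mp h3, (hyp_iff_isPlusTypeOn h2).mp h4⟩, h5⟩
  rw [hequiv]
  have hmdiv := Nat.div_add_mod m c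
  have hndiv := Nat.div_add_mod (2 * d + 1) c
  obtain ⟨e, he⟩ := hme
  constructor
  · intro HT
    by_cases hr2 : r = 2
    · left; exact hr2
    · right
      have hr3 : 2 < r := lt_of_le_of_ne hr.two_le (Ne.symm hr2)
      have hΩ' : r ∣ Nat.card {W : Submodule F (Unit ⊕ (Fin d ⊕ Fin d) → F) //
          Module.finrank F ↥W = m ∧ Nd (oB d F) W ∧ Hyp (oB d F) W} := by
        rw [Nat.card_congr (Equiv.subtypeEquivRight (fun W => by
          rw [nd_iff_isNondegenerateOn, hyp_iff_isPlusTypeOn h2]))]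
        exact hrΩ
      obtain ⟨h1, h3, h4⟩ := cond_of_hypProp h2 r hrp hr2 hm ⟨e, he⟩ hmn HT hΩ'
      rw [← hi, ← hcb] at h1 h3 h4
      by_cases hie : Even i
      · right
        have hci : c = i := by rw [hc, if_pos hie]
        refine ⟨hr3, hie, by omega, h3, ?_⟩
        by_cases hmc : m % c = 0
        · right
          obtain ⟨t, ht⟩ := h4 hmc
          have hm2 : m = i * (2 * t) := by
            have : m = 2 * (m / 2) := by omega
            rw [this, ht]; ring
          have hipos : 0 < i := by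
            rcases Nat.eq_zero_or_pos i with h0 | h0
            · rw [h0, zero_mul] at hm2; omega
            · exact h0
          rw [hm2, Nat.mul_div_cancel_left _ hipos]
          exact even_two_mul t
        · left; exact Nat.pos_of_ne_zero hmc
      · left
        refine ⟨hr3, Nat.not_even_iff_odd.mp hie, h1, ?_⟩
        by_cases hmc : m % c = 0
        · left; exact hmc
        · right; exact ⟨Nat.pos_of_ne_zero hmc, h3⟩
  · rintro (hr2 | ⟨hr3, hio, hcm, hcase⟩ | ⟨hr3, hie, him, hlt, hcase⟩)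
    · intro g hgΩ hgord
      have hgg : g * g = 1 := by
        have := pow_orderOf_eq_one g
        rwa [hgord, hr2, pow_two] at this
      exact hyp_of_invol h2 ⟨e, he⟩ hmn g hgg
    · intro g hgΩ hgord
      have hr2 : r ≠ 2 := by omega
      have hgr : g ^ r = 1 := by rw [← hgord]; exact pow_orderOf_eq_one g
      have hine : ¬ Even i := Nat.not_even_iff_odd.mpr hio
      have hci : c = 2 * i := by rw [hc, if_neg hine]
      have e1 : c * ((2 * d + 1) / c) = 2 * (i * ((2 * d + 1) / c)) := by rw [hci]; ring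
      have e2 : c * (m / c) = 2 * (i * (m / c)) := by rw [hci]; ring
      have H1 : m % c < (2 * d + 1) % c := by
        rcases hcase with h | ⟨-, h⟩
        · omega
        · exact h
      have H2 : m % c = 0 → i ∣ m / 2 := by
        intro h0
        exact ⟨m / c, by omega⟩
      exact hyp_of_cond h2 r hrp hr2 _ (toLin_iso g) (toLin_pow_eq_one' g hgr) ⟨e, he⟩ hmn
        (by rw [← hi, ← hcb]; exact H1) (by rw [← hi, ← hcb]; exact H2)
    · intro g hgΩ hgord
      have hr2 : r ≠ 2 := by omega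
      have hgr : g ^ r = 1 := by rw [← hgord]; exact pow_orderOf_eq_one g
      have hci : c = i := by rw [hc, if_pos hie]
      have H2 : m % c = 0 → i ∣ m / 2 := by
        intro h0
        rcases hcase with h | ⟨t, ht⟩
        · omega
        · refine ⟨t, ?_⟩
          have e2 : c * (m / c) = i * t + i * t := by rw [hci, ht]; ring
          omega
      exact hyp_of_cond h2 r hrp hr2 _ (toLin_iso g) (toLin_pow_eq_one' g hgr) ⟨e, he⟩ hmn
        (by rw [← hi, ← hcb]; exact hlt) (by rw [← hi, ← hcb]; exact H2)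


end Cfsg.Agent.S5992
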