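import Cfsg.Statements.S5994
import Cfsg.Agent.Helper99.OrthJTH
import Cfsg.Agent.Helper99.OrthJTI

set_option autoImplicit false
open scoped MatrixGroups
open Cfsg

namespace Cfsg.Agent.S5994

open Cfsg.Agent.Helper43.JT Cfsg.Agent.Helper99.KdimSplit in
theorem minSum_replicate (n b l : ℕ) : minSum (Multiset.replicate n b) l = n * min l b := by
  unfold minSum
  rw [Multiset.map_replicate, Multiset.sum_replicate, smul_eq_mul]


/-- A necessary condition for every element of order p of PΩ⁻_n(q), q odd, to fix an elliptic `m`-space. Here `T = PΩ⁻_n(F)`, `n = 2d ≥ 8`, realised through `Ω⁻_n(q)`, the commutator subgroup of the isometry group of `Q = Σ_{i<d−1} xᵢyᵢ + z₁² + a z₁z₂ + b z₂²` with `z₁² + a z₁z₂ + b z₂²` anisotropic, over the field `F` with `q` elements; an element of `T` of prime order `r` is an element `x` of `Ω⁻_n(q)` with `x^r` scalar and `x` not scalar; `q` is odd; a nondegenerate `m`-space (even `m`) is a subspace on which the polar form of `Q` is nondegenerate; it is hyperbolic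 if it contains an `m/2`-dimensional subspace on which `Q` vanishes, elliptic otherwise. Let `m` be even with `2 ≤ m ≤ n − 2` and suppose `p` divides the number of elliptic `m`-spaces. If every element of `T` of order `p` fixes some elliptic `m`-space, then `n ≡ m (mod 4)` and every partition of `n` into parts of size at most `p` in which every even part has even multiplicity contains (as a sub-multiset) a partition of `m` in which every even part has even multiplicity. -/
theorem result {F : Type*} [Field F] [Fintype F] {p : ℕ} [Fact p.Prime] [CharP F p] {q : ℕ} (hq : Fintype.card F = q) (hqodd : Odd q)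
    (d m : ℕ) (hd : 4 ≤ d) (hm : 2 ≤ m) (hme : Even m) (hmn : m + 2 ≤ 2 * d) (a b : F) (hab : ∀ x y : F, x ^ 2 + a * x * y + b * y ^ 2 = 0 → x = 0 ∧ y = 0)
    (hpΩ : p ∣ Nat.card {W : Submodule F ((Fin (d - 1) ⊕ Fin (d - 1)) ⊕ Fin 2 → F) // Module.finrank F ↥W = m ∧ Cfsg.Geo.IsNondegenerateOn (QuadraticMap.polar (Cfsg.quadFormMinus (d - 1) F a b)) W ∧ ¬ Cfsg.Geo.IsPlusTypeOn (Cfsg.quadFormMinus (d - 1) F a b) W}) :
    (∀ x : GL ((Fin (d - 1) ⊕ Fin (d - 1)) ⊕ Fin 2) F, x ∈ Cfsg.Geo.omegaGL (Cfsg.quadFormMinus (d - 1) F a b) →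
      (∃ z : F, ((x ^ p : GL ((Fin (d - 1) ⊕ Fin (d - 1)) ⊕ Fin 2) F) : Matrix ((Fin (d - 1) ⊕ Fin (d - 1)) ⊕ Fin 2) ((Fin (d - 1) ⊕ Fin (d - 1)) ⊕ Fin 2) F) = z • (1 : Matrix ((Fin (d - 1) ⊕ Fin (d - 1)) ⊕ Fin 2) ((Fin (d - 1) ⊕ Fin (d - 1)) ⊕ Fin 2) F)) →
      (∀ z : F, (x : Matrix ((Fin (d - 1) ⊕ Fin (d - 1)) ⊕ Fin 2) ((Fin (d - 1) ⊕ Fin (d - 1)) ⊕ Fin 2) F) ≠ z • (1 : Matrix ((Fin (d - 1) ⊕ Fin (d - 1)) ⊕ Fin 2) ((Fin (d - 1) ⊕ Fin (d - 1)) ⊕ Fin 2) F)) →
      ∃ W : Submodule F ((Fin (d - 1) ⊕ Fin (d - 1)) ⊕ Fin 2 → F), (Module.finrank F ↥W = m ∧ Cfsg.Geo.IsNondegenerateOn (QuadraticMap.polar (Cfsg.quadFormMinus (d - 1) F a b)) W ∧ ¬ Cfsg.Geo.IsPlusTypeOn (Cfsg.quadFormMinus (d - 1) F a b) W) ∧ W.map (Matrix.toLin' (x : Matrix ((Fin (d - 1) ⊕ Fin (d - 1)) ⊕ Fin 2) ((Fin (d - 1) ⊕ Fin (d - 1)) ⊕ Fin 2) F)) ≤ W) →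
    ((2 * d) % 4 = m % 4 ∧ (∀ μ : Multiset ℕ, (∀ e ∈ μ, 0 < e ∧ e ≤ p) → (∀ e : ℕ, Even e → Even (μ.count e)) → μ.sum = 2 * d →
        ∃ ν : Multiset ℕ, ν ≤ μ ∧ ν.sum = m ∧ ∀ e : ℕ, Even e → Even (ν.count e))) := by
  classical
  intro h
  have hp : p.Prime := Fact.out
  have h2 : (2 : F) ≠ 0 := by
    apply Ring.two_ne_zero
    intro h'
    have := FiniteField.even_card_iff_char_two.mp h'
    rw [hq] at this
    rw [Nat.odd_iff] at hqodd
    omega
  have hp2 : p ≠ 2 := by
    intro h'
    apply h2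
    have := CharP.cast_eq_zero F p
    rw [h'] at this
    exact_mod_cast this
  have hpodd : Odd p := hp.odd_of_ne_two hp2
  have hp3 : 3 ≤ p := by
    have := hp.two_le
    omega
  have hcard : Fintype.card ((Fin (d - 1) ⊕ Fin (d - 1)) ⊕ Fin 2) = 2 * d := by
    rw [Fintype.card_sum, Fintype.card_sum, Fintype.card_fin, Fintype.card_fin]
    omega
  -- partitions with an odd part
  have key₁ : ∀ μ : Multiset ℕ, (∀ e ∈ μ, 0 < e ∧ e ≤ p) →
      (∀ e : ℕ, Even e → Even (μ.count e)) → μ.sum = 2 * d → (∃ o ∈ μ, Odd o) →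
      ∃ ν : Multiset ℕ, ν ≤ μ ∧ ν.sum = m ∧ ∀ e : ℕ, Even e → Even (ν.count e) := by
    intro μ hμ heven hsum hodd
    by_cases hne : ∃ b ∈ μ, 2 ≤ b
    · obtain ⟨x, hxΩ, hxp, hNp, hns, hxQ, hxk⟩ :=
        Cfsg.Agent.Helper99.OrthJT.exists_minus_unip (F := F) (p := p) h2 (d - 1) a b hab μ hμ heven
          (by omega) hodd hne
      obtain ⟨W, ⟨hWdim, hWnd, _⟩, hWinv⟩ := h x hxΩ ⟨1, by rw [hxp, one_smul]; rfl⟩ hns
      obtain ⟨ν, hν1, hν2, hν3⟩ := Cfsg.Agent.Helper99.OrthJT.exists_sub_multiset_of_quad h2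
        (Cfsg.Agent.Helper44.minusForm (d - 1) F a b)
        (x : Matrix ((Fin (d - 1) ⊕ Fin (d - 1)) ⊕ Fin 2) ((Fin (d - 1) ⊕ Fin (d - 1)) ⊕ Fin 2) F)
        hxQ p hNp μ hxk (by rw [hsum, hcard]) W hWinv hWnd (by rw [hWdim]; exact hme)
      exact ⟨ν, hν1, by rw [hν2, hWdim], hν3⟩
    · push Not at hne
      have hone : ∀ b ∈ μ, b = 1 := by
        intro b hb
        have h1 := (hμ b hb).1
        have h2 := hne b hb
        omega
      have hrep : μ = Multiset.replicate (Multiset.card μ) 1 := Multiset.eq_replicate_card.mpr hone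
      have hcard' : Multiset.card μ = 2 * d := by
        have h1 : μ.sum = Multiset.card μ := by
          conv_lhs => rw [hrep]
          rw [Multiset.sum_replicate, smul_eq_mul, mul_one]
        omega
      refine ⟨Multiset.replicate m 1, ?_, by rw [Multiset.sum_replicate, smul_eq_mul, mul_one], ?_⟩
      · rw [hrep, hcard', Multiset.replicate_le_replicate]
        omega
      · intro e he
        rw [Multiset.count_replicate]
        split_ifs with h1
        · subst h1
          exact absurd he (by decide)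
        · exact Even.zero
  -- all partitions
  have key : ∀ μ : Multiset ℕ, (∀ e ∈ μ, 0 < e ∧ e ≤ p) →
      (∀ e : ℕ, Even e → Even (μ.count e)) → μ.sum = 2 * d →
      ∃ ν : Multiset ℕ, ν ≤ μ ∧ ν.sum = m ∧ ∀ e : ℕ, Even e → Even (ν.count e) := by
    intro μ hμ heven hsum
    by_cases hodd : ∃ o ∈ μ, Odd o
    · exact key₁ μ hμ heven hsum hodd
    · push Not at hodd
      have hall : ∀ x ∈ μ, Even x := fun x hx => Nat.not_odd_iff_even.mp (hodd x hx)
      have hne0 : μ ≠ 0 := by
        rintro rfl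
        simp at hsum
        omega
      obtain ⟨e, he⟩ := Multiset.exists_mem_of_ne_zero hne0
      have hee := hall e he
      have hcnt : 2 ≤ μ.count e := by
        obtain ⟨t, ht⟩ := heven e hee
        have := Multiset.count_pos.mpr he
        omega
      obtain ⟨μ', hμ'⟩ := Cfsg.Agent.Helper99.OrthJT.exists_cons_cons_of_two_le_count hcnt
      have he2 : 2 ≤ e := by
        obtain ⟨t, ht⟩ := hee
        have := (hμ e he).1
        omega
      have hep : e + 1 ≤ p := by
        have h1 := (hμ e he).2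
        obtain ⟨t, ht⟩ := hee
        obtain ⟨s, hs⟩ := hpodd
        omega
      have hμ'le : μ' ≤ μ := by
        rw [hμ']
        exact (Multiset.le_cons_self _ _).trans (Multiset.le_cons_self _ _)
      have hall' : ∀ x ∈ μ', Even x := fun x hx => hall x (Multiset.mem_of_le hμ'le hx)
      have heven' := Cfsg.Agent.Helper99.OrthJT.even_count_of_cons_cons hμ' heven
      have ho1 : ¬ Even (e + 1) := by
        rw [Nat.not_even_iff_odd]
        exact hee.add_one
      have ho2 : ¬ Even (e - 1) := by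
        rw [Nat.not_even_iff_odd]
        obtain ⟨t, ht⟩ := hee
        exact ⟨t - 1, by omega⟩
      obtain ⟨ν'', hle, hs, hev⟩ := key₁ ((e + 1) ::ₘ (e - 1) ::ₘ μ') (by
          intro x hx
          rw [Multiset.mem_cons, Multiset.mem_cons] at hx
          rcases hx with rfl | rfl | hx
          · exact ⟨by omega, hep⟩
          · exact ⟨by omega, by omega⟩
          · exact hμ x (Multiset.mem_of_le hμ'le hx)) (by
          intro x hx
          rw [Multiset.count_cons, Multiset.count_cons, if_neg, if_neg, add_zero, add_zero]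
          · exact heven' x hx
          · rintro rfl
            exact ho1 hx
          · rintro rfl
            exact ho2 hx) (by
          rw [Multiset.sum_cons, Multiset.sum_cons]
          rw [hμ', Multiset.sum_cons, Multiset.sum_cons] at hsum
          omega) ⟨e + 1, Multiset.mem_cons_self _ _, hee.add_one⟩
      obtain ⟨ν, hν1, hν2, hν3⟩ :=
        Cfsg.Agent.Helper99.OrthJT.exists_sub_of_shift μ' e m hee he2 hme hall' ν'' hle hs hev
      exact ⟨ν, by rw [hμ']; exact hν1, hν2, hν3⟩
  refine ⟨?_, key⟩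
  rcases Nat.even_or_odd d with hde | hdo
  · -- `d` even: the partition `(3, 2^(d-2), 1)`
    obtain ⟨k, hk⟩ := hde
    obtain ⟨ν, hle, hs, hev⟩ := key₁ (3 ::ₘ 1 ::ₘ Multiset.replicate (d - 2) 2) (by
        intro e he
        rw [Multiset.mem_cons, Multiset.mem_cons] at he
        rcases he with rfl | rfl | he
        · exact ⟨by norm_num, by omega⟩
        · exact ⟨by norm_num, by omega⟩
        · rw [Multiset.eq_of_mem_replicate he]
          exact ⟨by norm_num, by omega⟩) (by
        intro e he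
        rw [Multiset.count_cons, Multiset.count_cons, Multiset.count_replicate]
        by_cases h3 : e = 3
        · subst h3
          exact absurd he (by decide)
        · by_cases h1 : e = 1
          · subst h1
            exact absurd he (by decide)
          · rw [if_neg h3, if_neg h1, add_zero, add_zero]
            split_ifs
            · exact ⟨k - 1, by omega⟩
            · exact Even.zero) (by
        rw [Multiset.sum_cons, Multiset.sum_cons, Multiset.sum_replicate, smul_eq_mul]
        omega) ⟨3, Multiset.mem_cons_self _ _, by decide⟩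
    have hsub : ν.toFinset ⊆ {3, 1, 2} := by
      intro x hx
      rw [Multiset.mem_toFinset] at hx
      have := Multiset.mem_of_le hle hx
      rw [Multiset.mem_cons, Multiset.mem_cons] at this
      rcases this with rfl | rfl | h1
      · simp
      · simp
      · rw [Multiset.eq_of_mem_replicate h1]
        simp
    have hsum := Finset.sum_multiset_count_of_subset ν {3, 1, 2} hsub
    rw [Finset.sum_insert (by decide), Finset.sum_pair (by norm_num), hs] at hsum
    simp only [smul_eq_mul] at hsum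
    have hc3 : ν.count 3 ≤ 1 := by
      have := Multiset.le_iff_count.mp hle 3
      rw [Multiset.count_cons, Multiset.count_cons, Multiset.count_replicate] at this
      simpa using this
    have hc1 : ν.count 1 ≤ 1 := by
      have := Multiset.le_iff_count.mp hle 1
      rw [Multiset.count_cons, Multiset.count_cons, Multiset.count_replicate] at this
      simpa using this
    obtain ⟨t, ht⟩ := hev 2 (by decide)
    obtain ⟨s, hs'⟩ := hme
    have h3' : ν.count 3 = 0 ∨ ν.count 3 = 1 := by omega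
    have h1' : ν.count 1 = 0 ∨ ν.count 1 = 1 := by omega
    rcases h3' with h3' | h3' <;> rcases h1' with h1' | h1' <;> rw [h3', h1', ht] at hsum <;> omega
  · -- `d` odd: an element of type `(2^(d-1), 1, 1)`
    obtain ⟨k, hk⟩ := hdo
    by_contra hcon
    have hm4 : m % 4 = 0 := by
      obtain ⟨s, hs'⟩ := hme
      omega
    set μ : Multiset ℕ := 1 ::ₘ 1 ::ₘ Multiset.replicate (d - 1) 2 with hμdef
    have hμ : ∀ e ∈ μ, 0 < e ∧ e ≤ p := by
      intro e he
      rw [hμdef, Multiset.mem_cons, Multiset.mem_cons] at he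
      rcases he with rfl | rfl | he
      · exact ⟨by norm_num, by omega⟩
      · exact ⟨by norm_num, by omega⟩
      · rw [Multiset.eq_of_mem_replicate he]
        exact ⟨by norm_num, by omega⟩
    have heven : ∀ e : ℕ, Even e → Even (μ.count e) := by
      intro e he
      rw [hμdef, Multiset.count_cons, Multiset.count_cons, Multiset.count_replicate]
      by_cases h1 : e = 1
      · subst h1
        exact absurd he (by decide)
      · rw [if_neg h1, add_zero, add_zero]
        split_ifs
        · exact ⟨k, by omega⟩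
        · exact Even.zero
    have hsum : μ.sum = 2 * d := by
      rw [hμdef, Multiset.sum_cons, Multiset.sum_cons, Multiset.sum_replicate, smul_eq_mul]
      omega
    obtain ⟨x, hxΩ, hxp, hNp, hns, hxQ, hxk⟩ :=
      Cfsg.Agent.Helper99.OrthJT.exists_minus_unip (F := F) (p := p) h2 (d - 1) a b hab μ hμ heven
        (by omega) ⟨1, Multiset.mem_cons_self _ _, by decide⟩
        ⟨2, by
          rw [hμdef, Multiset.mem_cons, Multiset.mem_cons]
          right; right
          exact Multiset.mem_replicate.mpr ⟨by omega, rfl⟩, le_rfl⟩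
    obtain ⟨W, ⟨hWdim, hWnd, hWminus⟩, hWinv⟩ := h x hxΩ ⟨1, by rw [hxp, one_smul]; rfl⟩ hns
    have hms : ∀ l, Cfsg.Agent.Helper99.KdimSplit.minSum μ l = min l 1 + min l 1 + (d - 1) * min l 2 := by
      intro l
      rw [hμdef, Cfsg.Agent.Helper99.KdimSplit.minSum_cons, Cfsg.Agent.Helper99.KdimSplit.minSum_cons,
        minSum_replicate]
      ring
    have hN2 : ((x : Matrix ((Fin (d - 1) ⊕ Fin (d - 1)) ⊕ Fin 2)
        ((Fin (d - 1) ⊕ Fin (d - 1)) ⊕ Fin 2) F) - 1) ^ 2 = 0 := by
      have h1 : Cfsg.Agent.Helper43.JT.kdim (Matrix.toLin' ((x : Matrix ((Fin (d - 1) ⊕ Fin (d - 1)) ⊕ Fin 2)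
          ((Fin (d - 1) ⊕ Fin (d - 1)) ⊕ Fin 2) F) - 1)) 2
          = Module.finrank F (((Fin (d - 1) ⊕ Fin (d - 1)) ⊕ Fin 2) → F) := by
        rw [hxk, hms, Module.finrank_fintype_fun_eq_card, hcard]
        simp
        omega
      have h3 := Cfsg.Agent.Helper99.JordanElt.pow_eq_zero_of_kdim_eq _ 2 h1
      rw [← Matrix.toLin'_pow] at h3
      apply (Matrix.toLin' (R := F)).injective
      rw [h3, map_zero]
    have hk1 : 2 * Cfsg.Agent.Helper43.JT.kdim (Matrix.toLin' ((x : Matrix ((Fin (d - 1) ⊕ Fin (d - 1)) ⊕ Fin 2)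
        ((Fin (d - 1) ⊕ Fin (d - 1)) ⊕ Fin 2) F) - 1)) 1
        = Fintype.card ((Fin (d - 1) ⊕ Fin (d - 1)) ⊕ Fin 2) + 2 := by
      rw [hxk, hms, hcard]
      simp
      omega
    exact hWminus (Cfsg.Agent.Helper99.OrthJT.isPlusTypeOn_of_sq_zero h2
      (Cfsg.Agent.Helper44.minusForm (d - 1) F a b) _ hxQ hN2 hk1 W hWinv hWnd
      (by rw [hWdim]; exact hm4))

end Cfsg.Agent.S5994
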