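import Cfsg.Statements.S5995
import Cfsg.Agent.Helper99.OrthJTG

set_option autoImplicit false
open scoped MatrixGroups
open Cfsg

namespace Cfsg.Agent.S5995

/-- A necessary condition for every element of order p of Ω_n(q), nq odd, to fix a hyperbolic `m`-space. Here `T = Ω_n(F)`, `n = 2d+1 ≥ 7`, `q` odd, realised as the commutator subgroup of the isometry group of `Q = x₀² + Σ xᵢyᵢ` over the field `F` with `q` elements (trivial centre, so its elements of prime order `r` are used directly); a nondegenerate `m`-space (even `m`) is a subspace on which the polar form of `Q` is nondegenerate; it is hyperbolic if it contains an `m/2`-dimensional subspace on which `Q` vanishes, elliptic otherwise. Let `m` be even with `2 ≤ m ≤ n − 1` and suppose `p` divides the number of hyperbolic `m`-spaces. If every element of `T` of order `p` fixes some hyperbolic `m`-space, then `m ≡ 0 (mod 4)` and every partition of `n` into parts of size at most `p` in which every even part has even multiplicity contains (as a sub-multiset) a partition of `m` in which every even part has even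 multiplicity. -/
theorem result {F : Type*} [Field F] [Fintype F] {p : ℕ} [Fact p.Prime] [CharP F p] {q : ℕ} (hq : Fintype.card F = q) (hqodd : Odd q)
    (d m : ℕ) (hd : 3 ≤ d) (hm : 2 ≤ m) (hme : Even m) (hmn : m ≤ 2 * d)
    (hpΩ : p ∣ Nat.card {W : Submodule F (Unit ⊕ (Fin d ⊕ Fin d) → F) // Module.finrank F ↥W = m ∧ Cfsg.Geo.IsNondegenerateOn (QuadraticMap.polar (Cfsg.quadFormOdd d F)) W ∧ Cfsg.Geo.IsPlusTypeOn (Cfsg.quadFormOdd d F) W}) :
    (∀ x : GL (Unit ⊕ (Fin d ⊕ Fin d)) F, x ∈ Cfsg.Geo.omegaGL (Cfsg.quadFormOdd d F) → orderOf x = p →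
      ∃ W : Submodule F (Unit ⊕ (Fin d ⊕ Fin d) → F), (Module.finrank F ↥W = m ∧ Cfsg.Geo.IsNondegenerateOn (QuadraticMap.polar (Cfsg.quadFormOdd d F)) W ∧ Cfsg.Geo.IsPlusTypeOn (Cfsg.quadFormOdd d F) W) ∧ W.map (Matrix.toLin' (x : Matrix (Unit ⊕ (Fin d ⊕ Fin d)) (Unit ⊕ (Fin d ⊕ Fin d)) F)) ≤ W) →
    (m % 4 = 0 ∧ (∀ μ : Multiset ℕ, (∀ e ∈ μ, 0 < e ∧ e ≤ p) → (∀ e : ℕ, Even e → Even (μ.count e)) → μ.sum = 2 * d + 1 →
        ∃ ν : Multiset ℕ, ν ≤ μ ∧ ν.sum = m ∧ ∀ e : ℕ, Even e → Even (ν.count e))) := by
  classical
  intro h
  have hp : p.Prime := Fact.out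
  have h2 : (2 : F) ≠ 0 := by
    apply Ring.two_ne_zero
    intro h'
    have := FiniteField.even_card_iff_char_two.mp h'
    rw [hq] at this
    rw [Nat.odd_iff] at hqodd
    omega
  have hp3 : 3 ≤ p := by
    have hp2 : p ≠ 2 := by
      intro h'
      apply h2
      have := CharP.cast_eq_zero F p
      rw [h'] at this
      exact_mod_cast this
    have := hp.two_le
    omega
  have key : ∀ μ : Multiset ℕ, (∀ e ∈ μ, 0 < e ∧ e ≤ p) → (∀ e : ℕ, Even e → Even (μ.count e)) →
      μ.sum = 2 * d + 1 →
      ∃ ν : Multiset ℕ, ν ≤ μ ∧ ν.sum = m ∧ ∀ e : ℕ, Even e → Even (ν.count e) := by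
    intro μ hμ heven hsum
    by_cases hne : ∃ b ∈ μ, 2 ≤ b
    · obtain ⟨x, hxΩ, hxp, hNp, hns, hxQ, hxk⟩ :=
        Cfsg.Agent.Helper99.OrthJT.exists_odd_unip (F := F) (p := p) h2 d μ hμ heven hsum hne
      have hx1 : x ≠ 1 := by
        intro h1
        apply hns 1
        rw [h1, one_smul]
        rfl
      have hord : orderOf x = p := orderOf_eq_prime hxp hx1
      obtain ⟨W, ⟨hWdim, hWnd, _⟩, hWinv⟩ := h x hxΩ hord
      have hcard : Fintype.card (Unit ⊕ (Fin d ⊕ Fin d)) = 2 * d + 1 := by
        rw [Fintype.card_sum, Fintype.card_sum, Fintype.card_fin, Fintype.card_unit]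
        ring
      obtain ⟨ν, hν1, hν2, hν3⟩ := Cfsg.Agent.Helper99.OrthJT.exists_sub_multiset_of_quad h2
        (Cfsg.Agent.Helper44.oddForm d F)
        (x : Matrix (Unit ⊕ (Fin d ⊕ Fin d)) (Unit ⊕ (Fin d ⊕ Fin d)) F) hxQ p hNp μ
        hxk (by rw [hsum, hcard]) W hWinv hWnd (by rw [hWdim]; exact hme)
      exact ⟨ν, hν1, by rw [hν2, hWdim], hν3⟩
    · push Not at hne
      have hone : ∀ b ∈ μ, b = 1 := by
        intro b hb
        have h1 := (hμ b hb).1
        have h2 := hne b hb
        omega
      have hrep : μ = Multiset.replicate (Multiset.card μ) 1 := Multiset.eq_replicate_card.mpr hone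
      have hcard : Multiset.card μ = 2 * d + 1 := by
        have h1 : μ.sum = Multiset.card μ := by
          conv_lhs => rw [hrep]
          rw [Multiset.sum_replicate, smul_eq_mul, mul_one]
        omega
      refine ⟨Multiset.replicate m 1, ?_, by rw [Multiset.sum_replicate, smul_eq_mul, mul_one], ?_⟩
      · rw [hrep, hcard, Multiset.replicate_le_replicate]
        omega
      · intro e he
        rw [Multiset.count_replicate]
        split_ifs with h1
        · subst h1
          exact absurd he (by decide)
        · exact Even.zero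
  refine ⟨?_, key⟩
  rcases Nat.even_or_odd d with hde | hdo
  · -- the partition `(2^d, 1)`
    obtain ⟨ν, hle, hs, hev⟩ := key (1 ::ₘ Multiset.replicate d 2) (by
        intro e he
        rw [Multiset.mem_cons] at he
        rcases he with rfl | he
        · exact ⟨by norm_num, by omega⟩
        · rw [Multiset.eq_of_mem_replicate he]
          exact ⟨by norm_num, by omega⟩) (by
        intro e he
        rw [Multiset.count_cons, Multiset.count_replicate]
        by_cases h1 : e = 1
        · subst h1
          exact absurd he (by decide)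
        · rw [if_neg h1, add_zero]
          split_ifs
          · exact hde
          · exact Even.zero) (by
        rw [Multiset.sum_cons, Multiset.sum_replicate, smul_eq_mul]
        ring)
    have hsub : ν.toFinset ⊆ {1, 2} := by
      intro a ha
      rw [Multiset.mem_toFinset] at ha
      have := Multiset.mem_of_le hle ha
      rw [Multiset.mem_cons] at this
      rcases this with rfl | h1
      · simp
      · rw [Multiset.eq_of_mem_replicate h1]
        simp
    have hsum := Finset.sum_multiset_count_of_subset ν {1, 2} hsub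
    rw [Finset.sum_pair (by norm_num), hs] at hsum
    simp only [smul_eq_mul] at hsum
    have hc1 : ν.count 1 ≤ 1 := by
      have := Multiset.le_iff_count.mp hle 1
      rw [Multiset.count_cons, Multiset.count_replicate] at this
      simpa using this
    obtain ⟨t, ht⟩ := hev 2 (by decide)
    obtain ⟨s, hs'⟩ := hme
    omega
  · -- the partition `(3, 2^(d-1))`
    obtain ⟨k, hk⟩ := hdo
    obtain ⟨ν, hle, hs, hev⟩ := key (3 ::ₘ Multiset.replicate (d - 1) 2) (by
        intro e he
        rw [Multiset.mem_cons] at he
        rcases he with rfl | he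
        · exact ⟨by norm_num, by omega⟩
        · rw [Multiset.eq_of_mem_replicate he]
          exact ⟨by norm_num, by omega⟩) (by
        intro e he
        rw [Multiset.count_cons, Multiset.count_replicate]
        by_cases h1 : e = 3
        · subst h1
          exact absurd he (by decide)
        · rw [if_neg h1, add_zero]
          split_ifs
          · exact ⟨k, by omega⟩
          · exact Even.zero) (by
        rw [Multiset.sum_cons, Multiset.sum_replicate, smul_eq_mul]
        omega)
    have hsub : ν.toFinset ⊆ {3, 2} := by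
      intro a ha
      rw [Multiset.mem_toFinset] at ha
      have := Multiset.mem_of_le hle ha
      rw [Multiset.mem_cons] at this
      rcases this with rfl | h1
      · simp
      · rw [Multiset.eq_of_mem_replicate h1]
        simp
    have hsum := Finset.sum_multiset_count_of_subset ν {3, 2} hsub
    rw [Finset.sum_pair (by norm_num), hs] at hsum
    simp only [smul_eq_mul] at hsum
    have hc1 : ν.count 3 ≤ 1 := by
      have := Multiset.le_iff_count.mp hle 3
      rw [Multiset.count_cons, Multiset.count_replicate] at this
      simpa using this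
    obtain ⟨t, ht⟩ := hev 2 (by decide)
    obtain ⟨s, hs'⟩ := hme
    omega

end Cfsg.Agent.S5995
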