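import Cfsg.Statements.S5996
import Cfsg.Agent.Helper99.OrthJTF

set_option autoImplicit false
open scoped MatrixGroups
open Cfsg

namespace Cfsg.Agent.S5996

/-- A necessary condition for every element of order p of PΩ⁺_n(q), q odd, to fix a hyperbolic `m`-space. Here `T = PΩ⁺_n(F)`, `n = 2d ≥ 8`, realised through `Ω⁺_n(q)`, the commutator subgroup of the isometry group of `Q = Σ xᵢyᵢ` over the field `F` with `q` elements; an element of `T` of prime order `r` is an element `x` of `Ω⁺_n(q)` with `x^r` scalar and `x` not scalar; `q` is odd; a nondegenerate `m`-space (even `m`) is a subspace on which the polar form of `Q` is nondegenerate; it is hyperbolic if it contains an `m/2`-dimensional subspace on which `Q` vanishes, elliptic otherwise. Let `m` be even with `2 ≤ m < n/2` and suppose `p` divides the number of hyperbolic `m`-spaces. If every element of `T` of order `p` fixes some hyperbolic `m`-space, then every partition of `n` into parts of size at most `p` in which every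 even part has even multiplicity contains (as a sub-multiset) a partition of `m` in which every even part has even multiplicity. -/
theorem result {F : Type*} [Field F] [Fintype F] {p : ℕ} [Fact p.Prime] [CharP F p] {q : ℕ} (hq : Fintype.card F = q) (hqodd : Odd q)
    (d m : ℕ) (hd : 4 ≤ d) (hm : 2 ≤ m) (hme : Even m) (hmd : m < d)
    (hpΩ : p ∣ Nat.card {W : Submodule F (Fin d ⊕ Fin d → F) // Module.finrank F ↥W = m ∧ Cfsg.Geo.IsNondegenerateOn (QuadraticMap.polar (Cfsg.quadFormPlus d F)) W ∧ Cfsg.Geo.IsPlusTypeOn (Cfsg.quadFormPlus d F) W}) :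
    (∀ x : GL (Fin d ⊕ Fin d) F, x ∈ Cfsg.Geo.omegaGL (Cfsg.quadFormPlus d F) →
      (∃ z : F, ((x ^ p : GL (Fin d ⊕ Fin d) F) : Matrix (Fin d ⊕ Fin d) (Fin d ⊕ Fin d) F) = z • (1 : Matrix (Fin d ⊕ Fin d) (Fin d ⊕ Fin d) F)) →
      (∀ z : F, (x : Matrix (Fin d ⊕ Fin d) (Fin d ⊕ Fin d) F) ≠ z • (1 : Matrix (Fin d ⊕ Fin d) (Fin d ⊕ Fin d) F)) →
      ∃ W : Submodule F (Fin d ⊕ Fin d → F), (Module.finrank F ↥W = m ∧ Cfsg.Geo.IsNondegenerateOn (QuadraticMap.polar (Cfsg.quadFormPlus d F)) W ∧ Cfsg.Geo.IsPlusTypeOn (Cfsg.quadFormPlus d F) W) ∧ W.map (Matrix.toLin' (x : Matrix (Fin d ⊕ Fin d) (Fin d ⊕ Fin d) F)) ≤ W) →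
    (∀ μ : Multiset ℕ, (∀ e ∈ μ, 0 < e ∧ e ≤ p) → (∀ e : ℕ, Even e → Even (μ.count e)) → μ.sum = 2 * d →
        ∃ ν : Multiset ℕ, ν ≤ μ ∧ ν.sum = m ∧ ∀ e : ℕ, Even e → Even (ν.count e)) := by
  classical
  intro h μ hμ heven hsum
  have h2 : (2 : F) ≠ 0 := by
    apply Ring.two_ne_zero
    intro h'
    have := FiniteField.even_card_iff_char_two.mp h'
    rw [hq] at this
    rw [Nat.odd_iff] at hqodd
    omega
  by_cases hne : ∃ b ∈ μ, 2 ≤ b
  · obtain ⟨x, hxΩ, hxp, hNp, hns, hxQ, hxk⟩ :=
      Cfsg.Agent.Helper99.OrthJT.exists_plus_unip (F := F) (p := p) h2 d μ hμ heven hsum hne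
    obtain ⟨W, ⟨hWdim, hWnd, _⟩, hWinv⟩ := h x hxΩ ⟨1, by rw [hxp, one_smul]; rfl⟩ hns
    have hcard : Fintype.card (Fin d ⊕ Fin d) = 2 * d := by
      rw [Fintype.card_sum, Fintype.card_fin, two_mul]
    obtain ⟨ν, hν1, hν2, hν3⟩ := Cfsg.Agent.Helper99.OrthJT.exists_sub_multiset_of_quad h2
      (Cfsg.Agent.Helper44.plusForm d F) (x : Matrix (Fin d ⊕ Fin d) (Fin d ⊕ Fin d) F) hxQ p hNp μ
      hxk (by rw [hsum, hcard]) W hWinv hWnd (by rw [hWdim]; exact hme)
    exact ⟨ν, hν1, by rw [hν2, hWdim], hν3⟩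
  · push Not at hne
    have hone : ∀ b ∈ μ, b = 1 := by
      intro b hb
      have h1 := (hμ b hb).1
      have h2 := hne b hb
      omega
    have hrep : μ = Multiset.replicate (Multiset.card μ) 1 := Multiset.eq_replicate_card.mpr hone
    have hcard : Multiset.card μ = 2 * d := by
      have h1 : μ.sum = Multiset.card μ := by
        conv_lhs => rw [hrep]
        rw [Multiset.sum_replicate, smul_eq_mul, mul_one]
      omega
    refine ⟨Multiset.replicate m 1, ?_, by rw [Multiset.sum_replicate, smul_eq_mul, mul_one], ?_⟩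
    · rw [hrep, hcard, Multiset.replicate_le_replicate]
      omega
    · intro e he
      rw [Multiset.count_replicate]
      split_ifs with h1
      · subst h1
        exact absurd he (by decide)
      · exact Even.zero

end Cfsg.Agent.S5996
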