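import Cfsg.Statements.S5997
import Cfsg.Agent.S2431
import Cfsg.Agent.Helper41.SL2Conj
import Cfsg.Agent.Helper62.SL2Comm

set_option autoImplicit false
set_option linter.unusedSectionVars false
open scoped MatrixGroups
open Cfsg

namespace Cfsg.Agent.S5997

section MatrixLemmas

variable {F : Type*} [Field F]

local notation "M2" => Matrix (Fin 2) (Fin 2) F

/-- Cayley–Hamilton for `2 × 2` matrices of determinant one. -/
theorem ch_det_one (X : M2) (hX : X.det = 1) : X * X = X.trace • X - 1 := by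
  have h := Cfsg.Agent.S2431.mul_trace_sub_self X
  rw [hX, one_smul, Matrix.mul_sub, Matrix.mul_smul, Matrix.mul_one] at h
  rw [← h]; abel

/-- A non-scalar matrix of determinant one with scalar square has trace zero. -/
theorem trace_eq_zero_of_sq_scalar (X : M2) (hX : X.det = 1)
    (hns : ∀ z : F, X ≠ z • (1 : M2)) (z : F) (h : X * X = z • (1 : M2)) : X.trace = 0 := by
  by_contra ht
  have hch := ch_det_one X hX
  rw [h] at hch
  apply hns (X.trace⁻¹ * (z + 1))
  have : X.trace • X = (z + 1) • (1 : M2) := by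
    rw [add_smul, one_smul, hch]; abel
  calc X = X.trace⁻¹ • (X.trace • X) := by rw [smul_smul, inv_mul_cancel₀ ht, one_smul]
    _ = (X.trace⁻¹ * (z + 1)) • (1 : M2) := by rw [this, smul_smul]

/-- A non-scalar matrix of determinant one with scalar cube has trace `±1`. -/
theorem trace_of_cube_scalar (X : M2) (hX : X.det = 1)
    (hns : ∀ z : F, X ≠ z • (1 : M2)) (z : F) (h : X * X * X = z • (1 : M2)) :
    X.trace = 1 ∨ X.trace = -1 := by
  have hch := ch_det_one X hX
  set t := X.trace with ht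
  have h3 : X * X * X = (t ^ 2 - 1) • X - t • (1 : M2) := by
    rw [hch, Matrix.sub_mul, Matrix.smul_mul, hch, Matrix.one_mul, smul_sub, smul_smul, sub_smul,
      one_smul]
    rw [show t ^ 2 = t * t by ring]
    abel
  have hsq : t ^ 2 - 1 = 0 := by
    by_contra hne
    apply hns ((t ^ 2 - 1)⁻¹ * (z + t))
    have : (t ^ 2 - 1) • X = (z + t) • (1 : M2) := by
      rw [add_smul, ← h, h3]; abel
    calc X = (t ^ 2 - 1)⁻¹ • ((t ^ 2 - 1) • X) := by
          rw [smul_smul, inv_mul_cancel₀ hne, one_smul]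
      _ = ((t ^ 2 - 1)⁻¹ * (z + t)) • (1 : M2) := by rw [this, smul_smul]
  have : (t - 1) * (t + 1) = 0 := by linear_combination hsq
  rcases mul_eq_zero.mp this with h1 | h1
  · left; linear_combination h1
  · right; linear_combination h1

/-- Two determinant-one matrices over a finite field of odd characteristic with the same trace `t`,
`t² ≠ 4`, are conjugate under a determinant-one matrix. -/
theorem exists_conj_of_trace [Fintype F] (hodd : Fintype.card F % 2 = 1) (h2 : (2 : F) ≠ 0)
    (X Y : M2) (hX : X.det = 1) (hY : Y.det = 1) (htr : Y.trace = X.trace)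
    (ht : X.trace ^ 2 ≠ 4) : ∃ S : M2, S.det = 1 ∧ S * X = Y * S := by
  apply Cfsg.Agent.Helper41.exists_sl2_conj_of_trace_eq X Y hX hY htr
    (Cfsg.Agent.Helper41.not_scalar_of_trace_sq_ne_four X hX ht)
    (Cfsg.Agent.Helper41.not_scalar_of_trace_sq_ne_four Y hY (by rw [htr]; exact ht))
  intro e _
  exact Cfsg.Agent.Helper41.normForm_surjective_of_odd hodd h2 X.trace ht e

/-- Anticommuting invertible-square matrices do not commute. -/
theorem not_commute_of_anticomm (h2 : (2 : F) ≠ 0) (I J : M2) (hII : I * I = -1) (hJJ : J * J = -1)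
    (hJI : J * I = -(I * J)) : I * J ≠ J * I := by
  intro h
  rw [hJI] at h
  have h0 : (2 : F) • (I * J) = 0 := by
    rw [two_smul]
    nth_rewrite 1 [h]
    simp
  have h1 : I * J = 0 := by
    have := congrArg (fun M : M2 => (2⁻¹ : F) • M) h0
    simpa [smul_smul, inv_mul_cancel₀ h2] using this
  have h3 : I * (I * J) * J = 1 := by
    rw [← Matrix.mul_assoc, hII, Matrix.mul_assoc, Matrix.neg_mul, Matrix.one_mul, hJJ]; simp
  rw [h1] at h3
  simp at h3

/-- A matrix commuting with two non-commuting matrices is scalar. -/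
theorem scalar_of_commute_noncomm (I J u : M2) (hIJ : I * J ≠ J * I) (hI : I * u = u * I)
    (hJ : J * u = u * J) : ∃ α : F, u = α • (1 : M2) := by
  by_cases hu : u 0 1 ≠ 0 ∨ u 1 0 ≠ 0 ∨ u 0 0 ≠ u 1 1
  · exfalso
    obtain ⟨a, b, hab⟩ := Cfsg.Agent.Helper62.SL2C.exists_eq_add_smul u I hu hI.symm
    obtain ⟨c, d, hcd⟩ := Cfsg.Agent.Helper62.SL2C.exists_eq_add_smul u J hu hJ.symm
    apply hIJ
    rw [hab, hcd]
    simp only [Matrix.add_mul, Matrix.mul_add, Matrix.smul_mul, Matrix.mul_smul, Matrix.one_mul,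
      Matrix.mul_one]
    module
  · push Not at hu
    obtain ⟨h01, h10, h00⟩ := hu
    refine ⟨u 1 1, ?_⟩
    ext i j
    fin_cases i <;> fin_cases j <;> simp [h01, h10, h00]

end MatrixLemmas

section Quat

variable {F : Type*} [Field F]

local notation "M2" => Matrix (Fin 2) (Fin 2) F
local notation "GL2" => GL (Fin 2) F

open QuaternionGroup in
theorem quat2_facts : (a 1 : QuaternionGroup 2) * a 1 = a 2 ∧
    (xa 0 : QuaternionGroup 2) * xa 0 = a 2 ∧
    (xa 0 : QuaternionGroup 2) * a 1 = a 2 * (a 1 * xa 0) ∧ (a 2 : QuaternionGroup 2) * a 2 = 1 ∧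
    (a 2 : QuaternionGroup 2) ≠ 1 ∧ (∀ g : QuaternionGroup 2, a 2 * g = g * a 2) := by decide

/-- Generators of a quaternion subgroup of `GL₂`. -/
theorem exists_quat_gens (R : Subgroup GL2) (hR : Nonempty (↥R ≃* QuaternionGroup 2)) :
    ∃ I J Z : GL2, I ∈ R ∧ J ∈ R ∧ Z ∈ R ∧ I * I = Z ∧ J * J = Z ∧ J * I = Z * (I * J) ∧ Z * Z = 1 ∧
      Z ≠ 1 ∧ (∀ g : GL2, g ∈ R → Z * g = g * Z) ∧
      (∀ g ∈ R, g = 1 ∨ g = I ∨ g = I * I ∨ g = I * I * I ∨ g = J ∨ g = J * I ∨
        g = J * (I * I) ∨ g = I * J) := by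
  obtain ⟨e⟩ := hR
  obtain ⟨h1, h2, h3, h4, h5, h6⟩ := quat2_facts
  set i0 : R := e.symm (QuaternionGroup.a 1) with hi0
  set j0 : R := e.symm (QuaternionGroup.xa 0) with hj0
  set z0 : R := e.symm (QuaternionGroup.a 2) with hz0
  have hii : i0 * i0 = z0 := by rw [hi0, hz0, ← map_mul, h1]
  have hjj : j0 * j0 = z0 := by rw [hj0, hz0, ← map_mul, h2]
  have hji : j0 * i0 = z0 * (i0 * j0) := by
    rw [hi0, hj0, hz0, ← map_mul, ← map_mul, ← map_mul, h3]
  have hzz : z0 * z0 = 1 := by rw [hz0, ← map_mul, h4, map_one]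
  have hz1 : z0 ≠ 1 := by
    intro h
    apply h5
    have := congrArg e h
    simpa [hz0] using this
  have hzc : ∀ g : R, z0 * g = g * z0 := by
    intro g
    have := h6 (e g)
    have h' := congrArg e.symm this
    simpa [hz0] using h'
  refine ⟨i0, j0, z0, i0.2, j0.2, z0.2, ?_, ?_, ?_, ?_, ?_, ?_, ?_⟩
  · exact congrArg Subtype.val hii
  · exact congrArg Subtype.val hjj
  · exact congrArg Subtype.val hji
  · exact congrArg Subtype.val hzz
  · intro h
    apply hz1
    exact Subtype.ext h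
  · intro g hg
    exact congrArg Subtype.val (hzc ⟨g, hg⟩)
  · intro g hg
    have hc := Cfsg.Agent.S2431.quat2_cases (e ⟨g, hg⟩)
    have key : ∀ w : QuaternionGroup 2, e ⟨g, hg⟩ = w → g = ((e.symm w : R) : GL2) := by
      intro w hw
      rw [← hw]; simp
    rcases hc with h | h | h | h | h | h | h | h
    · left; rw [key _ h]; simp
    · right; left; rw [key _ h]
    · right; right; left; rw [key _ h, map_mul]; rfl
    · right; right; right; left; rw [key _ h, map_mul, map_mul]; rfl
    · right; right; right; right; left; rw [key _ h]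
    · right; right; right; right; right; left; rw [key _ h, map_mul]; rfl
    · right; right; right; right; right; right; left; rw [key _ h, map_mul, map_mul]; rfl
    · right; right; right; right; right; right; right; rw [key _ h, map_mul]; rfl

/-- A matrix with square `-1` that is not scalar has determinant one. -/
theorem det_eq_one_of_sq (X : M2) (hXX : X * X = -1) (hns : ∀ z : F, X ≠ z • (1 : M2)) :
    X.det = 1 := by
  have h := Cfsg.Agent.S2431.mul_trace_sub_self X
  rw [Matrix.mul_sub, Matrix.mul_smul, Matrix.mul_one, hXX] at h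
  have ht : X.trace = 0 := by
    by_contra ht
    apply hns (X.trace⁻¹ * (X.det - 1))
    have : X.trace • X = (X.det - 1) • (1 : M2) := by
      rw [sub_smul, one_smul, ← h]; abel
    calc X = X.trace⁻¹ • (X.trace • X) := by rw [smul_smul, inv_mul_cancel₀ ht, one_smul]
      _ = (X.trace⁻¹ * (X.det - 1)) • (1 : M2) := by rw [this, smul_smul]
  rw [ht, zero_smul] at h
  have h00 := congr_fun (congr_fun h 0) 0
  simp at h00
  exact h00.symm

/-- The central involution of a quaternion subgroup of `GL₂` is `-1`; the matrix relations. -/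
theorem quat_matrix_rels (I J Z : GL2) (hII : I * I = Z) (hJJ : J * J = Z)
    (hJI : J * I = Z * (I * J)) (hZZ : Z * Z = 1) (hZ1 : Z ≠ 1) (hZI : Z * I = I * Z)
    (hZJ : Z * J = J * Z) :
    (Z : M2) = -1 ∧ (I : M2) * (I : M2) = -1 ∧ (J : M2) * (J : M2) = -1 ∧
      (J : M2) * (I : M2) = -((I : M2) * (J : M2)) ∧ (I : M2) * (J : M2) ≠ (J : M2) * (I : M2) ∧
      (I : M2).det = 1 ∧ (J : M2).det = 1 := by
  have hnc : I * J ≠ J * I := by
    intro h
    apply hZ1
    rw [← h] at hJI
    have := mul_right_cancel (b := I * J) (a := 1) (c := Z) (by rw [one_mul]; exact hJI)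
    exact this.symm
  have hncM : (I : M2) * (J : M2) ≠ (J : M2) * (I : M2) := by
    intro h
    apply hnc
    apply Units.ext
    rw [Units.val_mul, Units.val_mul]; exact h
  have hZIM : (I : M2) * (Z : M2) = (Z : M2) * (I : M2) := by
    rw [← Units.val_mul, ← Units.val_mul, hZI]
  have hZJM : (J : M2) * (Z : M2) = (Z : M2) * (J : M2) := by
    rw [← Units.val_mul, ← Units.val_mul, hZJ]
  obtain ⟨α, hα⟩ := scalar_of_commute_noncomm (I : M2) (J : M2) (Z : M2) hncM hZIM hZJM
  have hZZM : (Z : M2) * (Z : M2) = 1 := by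
    rw [← Units.val_mul, hZZ]; rfl
  have hα2 : α * α = 1 := by
    rw [hα] at hZZM
    have h00 := congr_fun (congr_fun hZZM 0) 0
    simpa using h00
  have hα1 : α ≠ 1 := by
    intro h
    apply hZ1
    apply Units.ext
    rw [hα, h, one_smul]; rfl
  have hαm : α = -1 := by
    have : (α - 1) * (α + 1) = 0 := by linear_combination hα2
    rcases mul_eq_zero.mp this with h | h
    · exact absurd (by linear_combination h) hα1
    · linear_combination h
  have hZM : (Z : M2) = -1 := by rw [hα, hαm]; simp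
  have hIIM : (I : M2) * (I : M2) = -1 := by rw [← Units.val_mul, hII, hZM]
  have hJJM : (J : M2) * (J : M2) = -1 := by rw [← Units.val_mul, hJJ, hZM]
  have hJIM : (J : M2) * (I : M2) = -((I : M2) * (J : M2)) := by
    rw [← Units.val_mul, hJI, Units.val_mul, Units.val_mul, hZM]; simp
  refine ⟨hZM, hIIM, hJJM, hJIM, hncM, ?_, ?_⟩
  · apply det_eq_one_of_sq _ hIIM
    intro z hz
    apply hncM
    rw [hz]; simp
  · apply det_eq_one_of_sq _ hJJM
    intro z hz
    apply hncM
    rw [hz]; simp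

theorem mem_specialLinear_iff (x : GL2) :
    x ∈ Cfsg.Geo.specialLinear (Fin 2) F ↔ (x : M2).det = 1 := by
  unfold Cfsg.Geo.specialLinear
  rw [MonoidHom.mem_ker, Units.ext_iff, Matrix.GeneralLinearGroup.val_det_apply]
  rfl

/-- From a matrix conjugacy by a determinant-one matrix to the group statement. -/
theorem exists_conj_mem (N : Subgroup GL2) (x y : GL2) (hy : y ∈ N) (S : M2) (hS : S.det = 1)
    (h : S * (x : M2) = (y : M2) * S) :
    ∃ g ∈ Cfsg.Geo.specialLinear (Fin 2) F, g⁻¹ * x * g ∈ N := by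
  have hS0 : S.det ≠ 0 := by rw [hS]; exact one_ne_zero
  set s : GL2 := Matrix.GeneralLinearGroup.mkOfDetNeZero S hS0 with hs
  have hsS : (s : M2) = S := rfl
  have hsx : s * x = y * s := by
    apply Units.ext
    rw [Units.val_mul, Units.val_mul, hsS]; exact h
  refine ⟨s⁻¹, ?_, ?_⟩
  · apply Subgroup.inv_mem
    rw [mem_specialLinear_iff, hsS]; exact hS
  · rw [inv_inv, hsx, mul_inv_cancel_right]; exact hy

/-- Membership in the normalizer of a quaternion subgroup, checked on generators. -/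
theorem mem_normalizer_of_gens (R : Subgroup GL2) (I J : GL2)
    (hcases : ∀ g ∈ R, g = 1 ∨ g = I ∨ g = I * I ∨ g = I * I * I ∨ g = J ∨ g = J * I ∨
      g = J * (I * I) ∨ g = I * J)
    (w : GL2) (h1 : w * I * w⁻¹ ∈ R) (h2 : w * J * w⁻¹ ∈ R) (h3 : w⁻¹ * I * w ∈ R)
    (h4 : w⁻¹ * J * w ∈ R) : w ∈ Cfsg.Geo.subgroupNormalizer R := by
  have key : ∀ v : GL2, v * I * v⁻¹ ∈ R → v * J * v⁻¹ ∈ R → ∀ g ∈ R, v * g * v⁻¹ ∈ R := by
    intro v hI hJ g hg
    rw [← MulAut.conj_apply] at hI hJ ⊢
    rcases hcases g hg with h | h | h | h | h | h | h | h <;> rw [h] <;>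
      (try simp only [map_mul, map_one]) <;>
      first
        | exact R.one_mem
        | exact hI
        | exact hJ
        | exact R.mul_mem hI hI
        | exact R.mul_mem (R.mul_mem hI hI) hI
        | exact R.mul_mem hJ hI
        | exact R.mul_mem hJ (R.mul_mem hI hI)
        | exact R.mul_mem hI hJ
  show w ∈ Subgroup.normalizer (R : Set GL2)
  rw [Subgroup.mem_normalizer_iff]
  intro h
  constructor
  · exact key w h1 h2 h
  · intro hh
    have := key w⁻¹ (by rw [inv_inv]; exact h3) (by rw [inv_inv]; exact h4) _ hh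
    rw [inv_inv] at this
    have e : w⁻¹ * (w * h * w⁻¹) * w = h := by group
    rw [e] at this
    exact this

/-- The Hurwitz element of the normalizer: determinant one, trace `±1`. -/
theorem exists_hurwitz_GL (h2 : (2 : F) ≠ 0) (R : Subgroup GL2) (I J : GL2) (hI : I ∈ R) (hJ : J ∈ R)
    (hcases : ∀ g ∈ R, g = 1 ∨ g = I ∨ g = I * I ∨ g = I * I * I ∨ g = J ∨ g = J * I ∨
      g = J * (I * I) ∨ g = I * J)
    (hIIM : (I : M2) * (I : M2) = -1) (hJJM : (J : M2) * (J : M2) = -1)
    (hJIM : (J : M2) * (I : M2) = -((I : M2) * (J : M2)))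
    (hncM : (I : M2) * (J : M2) ≠ (J : M2) * (I : M2))
    (hdI : (I : M2).det = 1) (hdJ : (J : M2).det = 1) :
    ∃ w : GL2, (w : M2).det = 1 ∧ w ∈ Cfsg.Geo.subgroupNormalizer R ∧
      ((w : M2).trace = 1 ∨ (w : M2).trace = -1) := by
  set I' : Matrix.SpecialLinearGroup (Fin 2) F := ⟨(I : M2), hdI⟩ with hI'
  set J' : Matrix.SpecialLinearGroup (Fin 2) F := ⟨(J : M2), hdJ⟩ with hJ'
  obtain ⟨ω, hω1, hω2, hω3⟩ := Cfsg.Agent.S2431.exists_hurwitz h2 I' J' hIIM hJJM hJIM
  have htI : Matrix.SpecialLinearGroup.toGL I' = I := by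
    apply Units.ext; rfl
  have htJ : Matrix.SpecialLinearGroup.toGL J' = J := by
    apply Units.ext; rfl
  set w : GL2 := Matrix.SpecialLinearGroup.toGL ω with hw
  have hwI : w * I * w⁻¹ = J := by
    have := congrArg Matrix.SpecialLinearGroup.toGL hω1
    rwa [map_mul, map_mul, map_inv, htI, htJ] at this
  have hwJ : w * J * w⁻¹ = I * J := by
    have := congrArg Matrix.SpecialLinearGroup.toGL hω2
    rwa [map_mul, map_mul, map_inv, map_mul, htI, htJ] at this
  have hwK : w * (I * J) * w⁻¹ = I := by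
    have := congrArg Matrix.SpecialLinearGroup.toGL hω3
    rwa [map_mul, map_mul, map_inv, map_mul, htI, htJ] at this
  have hwdet : (w : M2).det = 1 := ω.det_coe
  have hwN : w ∈ Cfsg.Geo.subgroupNormalizer R := by
    apply mem_normalizer_of_gens R I J hcases w
    · rw [hwI]; exact hJ
    · rw [hwJ]; exact R.mul_mem hI hJ
    · have e : w⁻¹ * I * w = I * J := by
        nth_rewrite 1 [← hwK]; group
      rw [e]; exact R.mul_mem hI hJ
    · have e : w⁻¹ * J * w = I := by
        nth_rewrite 1 [← hwI]; group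
      rw [e]; exact hI
  refine ⟨w, hwdet, hwN, ?_⟩
  have hIJne : I ≠ J := by
    intro h
    apply hncM
    rw [h]
  have hns : ∀ z : F, (w : M2) ≠ z • (1 : M2) := by
    intro z hz
    apply hIJne
    rw [← hwI]
    have hc : w * I = I * w := by
      apply Units.ext
      rw [Units.val_mul, Units.val_mul, hz]; simp
    rw [hc, mul_inv_cancel_right]
  have hcI : (w * w * w) * I = I * (w * w * w) := by
    have e1 : (w * w * w) * I * (w * w * w)⁻¹ = w * (w * (w * I * w⁻¹) * w⁻¹) * w⁻¹ := by group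
    rw [hwI, hwJ, hwK] at e1
    exact mul_inv_eq_iff_eq_mul.mp e1
  have hcJ : (w * w * w) * J = J * (w * w * w) := by
    have e1 : (w * w * w) * J * (w * w * w)⁻¹ = w * (w * (w * J * w⁻¹) * w⁻¹) * w⁻¹ := by group
    rw [hwJ, hwK, hwI] at e1
    exact mul_inv_eq_iff_eq_mul.mp e1
  have hcIM : (I : M2) * ((w : M2) * (w : M2) * (w : M2)) = (w : M2) * (w : M2) * (w : M2) * (I : M2) := by
    have := congrArg (fun g : GL2 => (g : M2)) hcI
    simp only [Units.val_mul] at this
    exact this.symm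
  have hcJM : (J : M2) * ((w : M2) * (w : M2) * (w : M2)) = (w : M2) * (w : M2) * (w : M2) * (J : M2) := by
    have := congrArg (fun g : GL2 => (g : M2)) hcJ
    simp only [Units.val_mul] at this
    exact this.symm
  obtain ⟨α, hα⟩ := scalar_of_commute_noncomm (I : M2) (J : M2) _ hncM hcIM hcJM
  exact trace_of_cube_scalar (w : M2) hwdet hns α hα

/-- An element of prime order `r ≥ 5` normalizing a subgroup of order `8` with a nontrivial
element commuting with it centralizes the subgroup. -/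
theorem centralizes_of_prime_order (R : Subgroup GL2) (hcard : Nat.card R = 8) (Z : GL2)
    (hZR : Z ∈ R) (hZ1 : Z ≠ 1) (y : GL2) (hZy : y * Z = Z * y)
    (hy : y ∈ Cfsg.Geo.subgroupNormalizer R) (r : ℕ) [hrp : Fact r.Prime] (hr : 5 ≤ r)
    (hyr : y ^ r = 1) : ∀ h ∈ R, y * h = h * y := by
  classical
  have hfin : Finite R := Nat.finite_of_card_ne_zero (by rw [hcard]; norm_num)
  let _ : Fintype R := Fintype.ofFinite R
  have hyN : ∀ h : GL2, h ∈ R ↔ y * h * y⁻¹ ∈ R := fun h => Subgroup.mem_normalizer_iff.mp hy h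
  let f : Function.End R := fun h => ⟨y * h * y⁻¹, (hyN h).mp h.2⟩
  have hiter : ∀ (k : ℕ) (h : R), ((f^[k] h : R) : GL2) = y ^ k * h * (y ^ k)⁻¹ := by
    intro k
    induction k with
    | zero => intro h; rw [Function.iterate_zero, id_eq]; simp
    | succ k ih =>
      intro h
      rw [Function.iterate_succ_apply', pow_succ']
      show y * ((f^[k] h : R) : GL2) * y⁻¹ = _
      rw [ih h]
      group
  have hf : f ^ r ^ 1 = 1 := by
    show f^[r ^ 1] = id
    funext h
    apply Subtype.ext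
    rw [hiter, pow_one, hyr]
    simp
  have hmod := Equiv.Perm.card_fixedPoints_modEq (p := r) (n := 1) hf
  set C : Subgroup R := (Subgroup.centralizer {y}).subgroupOf R with hC
  have hfix : Function.fixedPoints f = (C : Set R) := by
    ext h
    rw [Function.mem_fixedPoints, Function.IsFixedPt, SetLike.mem_coe, hC, Subgroup.mem_subgroupOf,
      Subgroup.mem_centralizer_iff]
    constructor
    · intro hh
      have := congrArg Subtype.val hh
      intro g hg
      rw [Set.mem_singleton_iff] at hg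
      rw [hg]
      exact mul_inv_eq_iff_eq_mul.mp this
    · intro hh
      apply Subtype.ext
      show y * (h : GL2) * y⁻¹ = h
      rw [hh y rfl, mul_inv_cancel_right]
  have hcardfix : Fintype.card (Function.fixedPoints f) = Nat.card C := by
    rw [← Nat.card_eq_fintype_card, hfix]
    rfl
  rw [hcardfix, ← Nat.card_eq_fintype_card, hcard] at hmod
  have hdvd : Nat.card C ∣ 8 := by
    have := Subgroup.card_subgroup_dvd_card C
    rwa [hcard] at this
  have hne1 : Nat.card C ≠ 1 := by
    intro h1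
    have hbot : C = ⊥ := Subgroup.card_eq_one.mp h1
    have hZC : (⟨Z, hZR⟩ : R) ∈ C := by
      rw [hC, Subgroup.mem_subgroupOf, Subgroup.mem_centralizer_iff]
      intro g hg
      rw [Set.mem_singleton_iff] at hg
      rw [hg]
      exact hZy
    rw [hbot, Subgroup.mem_bot] at hZC
    apply hZ1
    exact congrArg Subtype.val hZC
  have hle : Nat.card C ≤ 8 := Nat.le_of_dvd (by norm_num) hdvd
  have hrd : r ∣ 8 - Nat.card C := (Nat.modEq_iff_dvd' hle).mp hmod.symm
  have hc8' : ∀ c : ℕ, c ∣ 8 → c ≠ 1 → c ≤ 8 → r ∣ 8 - c → c = 8 := by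
    intro c hdvd hne1 hle hrd
    have hprime := hrp.out
    interval_cases c
    · norm_num at hdvd
    · exact absurd rfl hne1
    · have := Nat.le_of_dvd (by norm_num) hrd
      interval_cases r
      · norm_num at hrd
      · norm_num at hprime
    · norm_num at hdvd
    · have := Nat.le_of_dvd (by norm_num) hrd
      omega
    · norm_num at hdvd
    · norm_num at hdvd
    · norm_num at hdvd
    · rfl
  have hc8 : Nat.card C = 8 := hc8' _ hdvd hne1 hle hrd
  have htop : C = ⊤ := Subgroup.eq_top_of_card_eq C (by rw [hc8, hcard])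
  intro h hh
  have : (⟨h, hh⟩ : R) ∈ C := by rw [htop]; exact Subgroup.mem_top _
  rw [hC, Subgroup.mem_subgroupOf, Subgroup.mem_centralizer_iff] at this
  exact this y rfl

end Quat

/-- Elements of prime order of PSL_2(p) and the normalizer of a quaternion subgroup. -/
theorem result {F : Type*} [Field F] [Fintype F] {p : ℕ} [Fact p.Prime] [CharP F p] (hF : Fintype.card F = p) (hp : 5 ≤ p)
    (R : Subgroup (GL (Fin 2) F)) (hR : Nonempty (↥R ≃* QuaternionGroup 2))
    (r : ℕ) [Fact r.Prime]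
    (hΩ : r ∣ (Cfsg.Geo.subgroupNormalizer R).relIndex (Cfsg.Geo.specialLinear (Fin 2) F)) :
    (∀ x ∈ Cfsg.Geo.specialLinear (Fin 2) F, (∃ z : F, ((x ^ r : GL (Fin 2) F) : Matrix (Fin 2) (Fin 2) F) = z • (1 : Matrix (Fin 2) (Fin 2) F)) →
      (∀ z : F, (x : Matrix (Fin 2) (Fin 2) F) ≠ z • (1 : Matrix (Fin 2) (Fin 2) F)) →
      ∃ g ∈ Cfsg.Geo.specialLinear (Fin 2) F, g⁻¹ * x * g ∈ Cfsg.Geo.subgroupNormalizer R) ↔ (r = 2 ∨ r = 3) := by
  have hpprime := (Fact.out : p.Prime)
  have hchar : ∀ n : ℕ, 0 < n → n < p → ((n : ℕ) : F) ≠ 0 := by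
    intro n hn hlt h
    have := (CharP.cast_eq_zero_iff F p n).mp h
    exact absurd (Nat.le_of_dvd hn this) (by omega)
  have h2 : (2 : F) ≠ 0 := by
    have := hchar 2 (by norm_num) (by omega); exact_mod_cast this
  have h3 : (3 : F) ≠ 0 := by
    have := hchar 3 (by norm_num) (by omega); exact_mod_cast this
  have h4 : (4 : F) ≠ 0 := by
    have := hchar 4 (by norm_num) (by omega); exact_mod_cast this
  have hodd : Fintype.card F % 2 = 1 := by
    rw [hF]
    rcases hpprime.eq_two_or_odd with h | h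
    · omega
    · exact h
  obtain ⟨I, J, Z, hIR, hJR, hZR, hII, hJJ, hJI, hZZ, hZ1, hZc, hcases⟩ := exists_quat_gens R hR
  obtain ⟨hZM, hIIM, hJJM, hJIM, hncM, hdI, hdJ⟩ :=
    quat_matrix_rels I J Z hII hJJ hJI hZZ hZ1 (hZc I hIR) (hZc J hJR)
  have hRN : R ≤ Cfsg.Geo.subgroupNormalizer R := Subgroup.le_normalizer
  have hnsI : ∀ z : F, (I : Matrix (Fin 2) (Fin 2) F) ≠ z • (1 : Matrix (Fin 2) (Fin 2) F) := by
    intro z hz
    apply hncM
    rw [hz]; simp
  constructor
  · -- (⇒)
    intro hP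
    by_contra hr23
    push Not at hr23
    have hrprime := (Fact.out : r.Prime)
    have hr5 : 5 ≤ r := by
      have h2le := hrprime.two_le
      by_contra hlt
      push Not at hlt
      have h4' : r = 4 := by omega
      rw [h4'] at hrprime
      norm_num at hrprime
    have hdvd : r ∣ Nat.card (Cfsg.Geo.specialLinear (Fin 2) F) :=
      dvd_trans hΩ (Subgroup.relIndex_dvd_card _ _)
    obtain ⟨x0, hx0⟩ := exists_prime_orderOf_dvd_card' r hdvd
    have hxr : orderOf (x0 : GL (Fin 2) F) = r := by rw [Subgroup.orderOf_coe]; exact hx0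
    have hxpow : (x0 : GL (Fin 2) F) ^ r = 1 := by
      rw [← hxr]; exact pow_orderOf_eq_one _
    have hdx : ((x0 : GL (Fin 2) F) : Matrix (Fin 2) (Fin 2) F).det = 1 :=
      (mem_specialLinear_iff _).mp x0.2
    have hns : ∀ z : F, ((x0 : GL (Fin 2) F) : Matrix (Fin 2) (Fin 2) F) ≠
        z • (1 : Matrix (Fin 2) (Fin 2) F) := by
      intro z hz
      have hzz : z * z = 1 := by
        have h := hdx
        rw [hz, Matrix.det_smul, Matrix.det_one, Fintype.card_fin] at h
        linear_combination h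
      have hx2 : (x0 : GL (Fin 2) F) ^ 2 = 1 := by
        apply Units.ext
        rw [pow_two, Units.val_mul, hz]
        simp [smul_smul, hzz]
      have h1 := orderOf_dvd_of_pow_eq_one hx2
      rw [hxr] at h1
      have := Nat.le_of_dvd (by norm_num) h1
      omega
    obtain ⟨g, hg, hgN⟩ := hP x0 x0.2 ⟨1, by rw [hxpow]; simp⟩ hns
    obtain ⟨y, hy⟩ : ∃ y : GL (Fin 2) F, y = g⁻¹ * x0 * g := ⟨_, rfl⟩
    rw [← hy] at hgN
    have hyr : y ^ r = 1 := by
      have e : y = g⁻¹ * x0 * (g⁻¹)⁻¹ := by rw [inv_inv]; exact hy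
      rw [e, conj_pow, hxpow]; simp
    have hcardR : Nat.card R = 8 := by
      obtain ⟨e⟩ := hR
      rw [Nat.card_congr e.toEquiv, Nat.card_eq_fintype_card, QuaternionGroup.card]
    have hZy : y * Z = Z * y := by
      apply Units.ext
      rw [Units.val_mul, Units.val_mul, hZM]; simp
    have hcent := centralizes_of_prime_order R hcardR Z hZR hZ1 y hZy hgN r hr5 hyr
    have hcI : (I : Matrix (Fin 2) (Fin 2) F) * (y : Matrix (Fin 2) (Fin 2) F) =
        (y : Matrix (Fin 2) (Fin 2) F) * (I : Matrix (Fin 2) (Fin 2) F) := by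
      rw [← Units.val_mul, ← Units.val_mul, hcent I hIR]
    have hcJ : (J : Matrix (Fin 2) (Fin 2) F) * (y : Matrix (Fin 2) (Fin 2) F) =
        (y : Matrix (Fin 2) (Fin 2) F) * (J : Matrix (Fin 2) (Fin 2) F) := by
      rw [← Units.val_mul, ← Units.val_mul, hcent J hJR]
    obtain ⟨α, hα⟩ := scalar_of_commute_noncomm _ _ _ hncM hcI hcJ
    apply hns α
    have e : (x0 : GL (Fin 2) F) = g * y * g⁻¹ := by rw [hy]; group
    rw [e, Units.val_mul, Units.val_mul, hα, Matrix.mul_smul, Matrix.smul_mul, Matrix.mul_one,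
      ← Units.val_mul, mul_inv_cancel]
    rfl
  · -- (⇐)
    rintro (rfl | rfl)
    · intro x hx ⟨z, hz⟩ hns
      have hdx := (mem_specialLinear_iff x).mp hx
      have hxx : (x : Matrix (Fin 2) (Fin 2) F) * (x : Matrix (Fin 2) (Fin 2) F) =
          z • (1 : Matrix (Fin 2) (Fin 2) F) := by
        rw [← hz, pow_two, Units.val_mul]
      have ht := trace_eq_zero_of_sq_scalar _ hdx hns z hxx
      have htI : (I : Matrix (Fin 2) (Fin 2) F).trace = 0 :=
        trace_eq_zero_of_sq_scalar _ hdI hnsI (-1) (by rw [hIIM]; simp)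
      obtain ⟨S, hS, hSx⟩ := exists_conj_of_trace hodd h2 (x : Matrix (Fin 2) (Fin 2) F)
        (I : Matrix (Fin 2) (Fin 2) F) hdx hdI (by rw [ht, htI])
        (by rw [ht]; intro h; apply h4; rw [← h]; ring)
      exact exists_conj_mem _ x I (hRN hIR) S hS hSx
    · intro x hx ⟨z, hz⟩ hns
      have hdx := (mem_specialLinear_iff x).mp hx
      have hxxx : (x : Matrix (Fin 2) (Fin 2) F) * (x : Matrix (Fin 2) (Fin 2) F) *
          (x : Matrix (Fin 2) (Fin 2) F) = z • (1 : Matrix (Fin 2) (Fin 2) F) := by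
        rw [← hz, pow_succ, pow_two, Units.val_mul, Units.val_mul]
      have ht := trace_of_cube_scalar _ hdx hns z hxxx
      obtain ⟨w, hwd, hwN, hwt⟩ :=
        exists_hurwitz_GL h2 R I J hIR hJR hcases hIIM hJJM hJIM hncM hdI hdJ
      have hZwd : ((Z * w : GL (Fin 2) F) : Matrix (Fin 2) (Fin 2) F).det = 1 := by
        rw [Units.val_mul, hZM]; simp [Matrix.det_neg, hwd]
      have hZwt : ((Z * w : GL (Fin 2) F) : Matrix (Fin 2) (Fin 2) F).trace =
          -(w : Matrix (Fin 2) (Fin 2) F).trace := by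
        rw [Units.val_mul, hZM]; simp
      have hZwN : Z * w ∈ Cfsg.Geo.subgroupNormalizer R :=
        Subgroup.mul_mem _ (hRN hZR) hwN
      have hex : ∃ y : GL (Fin 2) F, y ∈ Cfsg.Geo.subgroupNormalizer R ∧
          (y : Matrix (Fin 2) (Fin 2) F).det = 1 ∧
          (y : Matrix (Fin 2) (Fin 2) F).trace = (x : Matrix (Fin 2) (Fin 2) F).trace := by
        rcases ht with ht | ht <;> rcases hwt with hwt | hwt
        · exact ⟨w, hwN, hwd, by rw [ht, hwt]⟩
        · exact ⟨Z * w, hZwN, hZwd, by rw [hZwt, hwt, ht]; simp⟩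
        · exact ⟨Z * w, hZwN, hZwd, by rw [hZwt, hwt, ht]⟩
        · exact ⟨w, hwN, hwd, by rw [ht, hwt]⟩
      obtain ⟨y, hyN, hyd, hyt⟩ := hex
      have ht4 : (x : Matrix (Fin 2) (Fin 2) F).trace ^ 2 ≠ 4 := by
        intro h
        apply h3
        rcases ht with ht | ht <;> rw [ht] at h <;> linear_combination (-1 : F) * h
      obtain ⟨S, hS, hSx⟩ := exists_conj_of_trace hodd h2 (x : Matrix (Fin 2) (Fin 2) F)
        (y : Matrix (Fin 2) (Fin 2) F) hdx hyd hyt ht4
      exact exists_conj_mem _ x y hyN S hS hSx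

end Cfsg.Agent.S5997
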