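import Cfsg.Statements.S5998
import Cfsg.Agent.Helper59.ExtraK

set_option autoImplicit false
open scoped MatrixGroups
open Cfsg

namespace Cfsg.Agent.S5998

/-- Elements of prime order of PSL_3(p), p ≡ 1 (mod 3), and the normalizer of an extraspecial subgroup of order 27. Here `T = PSL_3(F)` for the field `F` with `p` elements, `p` a prime with `p ≡ 1 (mod 3)`; `R` is a non-abelian subgroup of GL_3(F) of order 27 and exponent 3 (an extraspecial group 3^{1+2}, acting absolutely irreducibly), and `H` is the subgroup of matrices of determinant 1 normalizing `R` — a subgroup of type 3^{1+2}.Sp₂(3) (maximality is not assumed). Ω is the set of cosets of `H` in `T`, so an element of `T` of prime order `r` (a matrix `x` of determinant 1 with `x^r` scalar, `x` not scalar) fixes a point of Ω exactly when some conjugate of `x` by a matrix of determinant 1 normalizes `R`. Let `r` be a prime dividing the index of `H`. Then every element of `T` of order `r` fixes a point of Ω if and only if `r = 2`, or `r =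 3` and `p ≡ 1 (mod 9)`. -/
theorem result {F : Type*} [Field F] [Fintype F] {p : ℕ} [Fact p.Prime] [CharP F p] (hF : Fintype.card F = p) (hp3 : p % 3 = 1)
    (R : Subgroup (GL (Fin 3) F)) (hR : Nat.card R = 27) (hRe : Monoid.exponent R = 3) (hRna : ¬ IsMulCommutative R)
    (r : ℕ) [Fact r.Prime]
    (hΩ : r ∣ (Cfsg.Geo.subgroupNormalizer R).relIndex (Cfsg.Geo.specialLinear (Fin 3) F)) :
    (∀ x ∈ Cfsg.Geo.specialLinear (Fin 3) F, (∃ z : F, ((x ^ r : GL (Fin 3) F) : Matrix (Fin 3) (Fin 3) F) = z • (1 : Matrix (Fin 3) (Fin 3) F)) →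
      (∀ z : F, (x : Matrix (Fin 3) (Fin 3) F) ≠ z • (1 : Matrix (Fin 3) (Fin 3) F)) →
      ∃ g ∈ Cfsg.Geo.specialLinear (Fin 3) F, g⁻¹ * x * g ∈ Cfsg.Geo.subgroupNormalizer R) ↔ (r = 2 ∨ (r = 3 ∧ p % 9 = 1)) := by
  classical
  have hpprime := (Fact.out : p.Prime)
  have hrprime := (Fact.out : r.Prime)
  have hp7 : 7 ≤ p := by
    have h2le := hpprime.two_le
    by_contra hlt
    push Not at hlt
    have h4' : p = 4 := by omega
    rw [h4'] at hpprime
    norm_num at hpprime
  have hchar : ∀ n : ℕ, 0 < n → n < p → ((n : ℕ) : F) ≠ 0 := by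
    intro n hn hlt h
    have := (CharP.cast_eq_zero_iff F p n).mp h
    exact absurd (Nat.le_of_dvd hn this) (by omega)
  have h2 : (2 : F) ≠ 0 := by
    have := hchar 2 (by norm_num) (by omega); exact_mod_cast this
  have h3 : (3 : F) ≠ 0 := by
    have := hchar 3 (by norm_num) (by omega); exact_mod_cast this
  -- a primitive cube root of unity
  obtain ⟨ω, hω⟩ := Cfsg.Agent.Helper59.FieldSub.exists_orderOf_eq (F := F) 3 (by
    rw [hF]; omega)
  have hω3 : ω ^ 3 = 1 := by rw [← hω]; exact pow_orderOf_eq_one ω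
  have hω1 : ω ≠ 1 := by
    intro h
    rw [h, orderOf_one] at hω
    norm_num at hω
  have hωq : ω ^ 2 + ω + 1 = 0 := by
    have : (ω - 1) * (ω ^ 2 + ω + 1) = 0 := by linear_combination hω3
    rcases mul_eq_zero.mp this with h | h
    · exact absurd (sub_eq_zero.mp h) hω1
    · exact h
  obtain ⟨l, hl, hl3, Pg, hRP⟩ := Cfsg.Agent.Helper59.Extra.exists_structure h3 hωq R hR hRe hRna
  constructor
  · intro hall
    by_contra hcon
    push Not at hcon
    obtain ⟨hr2, hr39⟩ := hcon
    by_cases hr3 : r = 3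
    · have hp9 := hr39 hr3
      rw [hr3] at hΩ
      exact Cfsg.Agent.Helper59.Extra.not_three_dvd_relIndex hF hp3 hp9 R hR
        (Cfsg.Agent.Helper59.Extra.R_le_specialLinear hl3 Pg R hRP) hΩ
    · have hr5 : 5 ≤ r := by
        have h2le := hrprime.two_le
        by_contra hlt
        push Not at hlt
        have h4' : r = 4 := by omega
        rw [h4'] at hrprime
        norm_num at hrprime
      have hdvd : r ∣ Nat.card (Cfsg.Geo.specialLinear (Fin 3) F) :=
        dvd_trans hΩ (Subgroup.relIndex_dvd_card _ _)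
      obtain ⟨x0, hx0⟩ := exists_prime_orderOf_dvd_card' r hdvd
      have hxr : orderOf (x0 : GL (Fin 3) F) = r := by rw [Subgroup.orderOf_coe]; exact hx0
      have hxpow : (x0 : GL (Fin 3) F) ^ r = 1 := by
        rw [← hxr]; exact pow_orderOf_eq_one _
      have hdx : ((x0 : GL (Fin 3) F) : Matrix (Fin 3) (Fin 3) F).det = 1 :=
        (Cfsg.Agent.Helper59.Extra.mem_specialLinear_iff _).mp x0.2
      have hns : ∀ z : F, ((x0 : GL (Fin 3) F) : Matrix (Fin 3) (Fin 3) F) ≠
          z • (1 : Matrix (Fin 3) (Fin 3) F) := by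
        intro z hz
        have hzz : z ^ 3 = 1 := by
          have h := hdx
          rw [hz, Matrix.det_smul, Matrix.det_one, Fintype.card_fin] at h
          linear_combination h
        have hx3 : (x0 : GL (Fin 3) F) ^ 3 = 1 := by
          apply Units.ext
          rw [Units.val_pow_eq_pow_val, hz, smul_pow, one_pow, hzz, one_smul]
          rfl
        have h1 := orderOf_dvd_of_pow_eq_one hx3
        rw [hxr] at h1
        have := Nat.le_of_dvd (by norm_num) h1
        omega
      obtain ⟨g, hg, hgN⟩ := hall x0 x0.2 ⟨1, by rw [hxpow]; simp⟩ hns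
      exact Cfsg.Agent.Helper59.Extra.false_of_prime_ge_five hl h3 hl3 Pg R hRP hR r hr5
        (x0 : GL (Fin 3) F) hxpow hns g hgN
  · rintro (hr | ⟨hr, hp9⟩)
    · intro x hx ⟨z, hz⟩ hns
      rw [hr] at hz
      have hdx := (Cfsg.Agent.Helper59.Extra.mem_specialLinear_iff x).mp hx
      obtain ⟨M, t₀, hM, hxM, ht₀⟩ := Cfsg.Agent.Helper59.Extra.invol_case hl3 h2
        (x : Matrix (Fin 3) (Fin 3) F) hdx z (by rw [← hz, pow_two, Units.val_mul]) hns
        (Pg : Matrix (Fin 3) (Fin 3) F).det
      exact Cfsg.Agent.Helper59.Extra.exists_sl_conj_of_conj hl3 Pg R hRP x M t₀ hM hxM ht₀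
    · intro x hx ⟨z, hz⟩ hns
      rw [hr] at hz
      have hdx := (Cfsg.Agent.Helper59.Extra.mem_specialLinear_iff x).mp hx
      have hz' : (x : Matrix (Fin 3) (Fin 3) F) ^ 3 = z • (1 : Matrix (Fin 3) (Fin 3) F) := by
        rw [← hz, Units.val_pow_eq_pow_val]
      have hz3 : z ^ 3 = 1 := by
        have h := congrArg Matrix.det hz'
        rw [Matrix.det_pow, hdx, Matrix.det_smul, Matrix.det_one, Fintype.card_fin] at h
        linear_combination -h
      obtain ⟨c, hc⟩ := Cfsg.Agent.Helper59.Extra.exists_cube_root (F := F) (by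
        rw [hF]; omega) z hz3
      obtain ⟨M, t₀, hM, hxM, ht₀⟩ := Cfsg.Agent.Helper59.Extra.cube_case hl h3 hl3
        (x : Matrix (Fin 3) (Fin 3) F) hdx z hz' c hc (Pg : Matrix (Fin 3) (Fin 3) F).det
      exact Cfsg.Agent.Helper59.Extra.exists_sl_conj_of_conj hl3 Pg R hRP x M t₀ hM hxM ht₀

end Cfsg.Agent.S5998
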