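import Cfsg.Statements.S6001
import Cfsg.Agent.Helper44.U4Defs
import Cfsg.Agent.Helper44.U4K2u
import Cfsg.Agent.Helper63.U4NFx
import Cfsg.Agent.Helper72.U4NF0
import Cfsg.Agent.Helper41.U4G2
import Cfsg.Agent.Helper41.U4G3
import Cfsg.Agent.Helper68.U4G4
import Cfsg.Agent.Helper11.U4BW
import Cfsg.Agent.Helper11.U4FW2
import Cfsg.Agent.Helper48.U4FW3
import Cfsg.Agent.Helper48.U4FW5
import Cfsg.Agent.Helper66.P4TV
import Cfsg.Agent.Helper55.U4G1a
import Cfsg.Agent.Helper55.U4G1c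
import Cfsg.Agent.Helper55.U4K2d
import Cfsg.Agent.Helper55.U4FWG
import Cfsg.Agent.Helper72.U4F2b
import Cfsg.Agent.Helper1.U4Y2
import Cfsg.Agent.Helper12.U4GLU
import Cfsg.Agent.Helper81.U4DN
import Cfsg.Agent.Helper81.U4DX3a
import Cfsg.Agent.Helper30.U4DX3b
import Cfsg.Agent.Helper30.U4DX5
import Cfsg.Agent.Helper31.U4DX7

set_option autoImplicit false
open scoped MatrixGroups
open Cfsg

namespace Cfsg.Agent.S6001

open Cfsg.Agent.Helper99.P4 Cfsg.Agent.Helper44.U4 in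
/-- Elements of prime order of PSU_4(p), p ≡ 3 (mod 4), and the normalizer of a 2-group of symplectic type of order 2⁶. Here `T = PSU_4(p)` for a prime `p ≡ 3 (mod 4)`, realised through `SU_4(p)`, the matrices of determinant 1 over the field `F` with `p²` elements preserving the hermitian form `f = Σ uᵢvᵢ^p`; `R` is an absolutely irreducible subgroup of the full unitary group of `f` of order 2⁶ that is a 2-group of symplectic type of exponent 4 with centre of order 4, and `H` is the subgroup of `SU_4(p)` normalizing `R` — a subgroup of type 2⁴.Sp₄(2) (maximality is not assumed). Ω is the set of cosets of `H`, so an element of `T` of prime order `r` (`x ∈ SU_4(p)` with `x^r` scalar, `x` not scalar) fixes a point of Ω exactly when some `SU_4(p)`-conjugate of `x` normalizes `R`. Let `r` be a prime dividing the index of `H`. Then every element of `T` of order `r` fixes a point of Ω if and only if `r = 2`, or `r = 3` and `p ≡ 1 (mod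 3)`, or `r = 5` and `p ≡ ±2 (mod 5)` (`p` has multiplicative order 4 modulo 5). -/
theorem result {F : Type*} [Field F] [Fintype F] {p : ℕ} [Fact p.Prime] [CharP F p] (hF : Fintype.card F = p ^ 2) (hp4 : p % 4 = 3)
    (R : Subgroup (GL (Fin 4) F)) (hRs : Cfsg.Geo.IsSymplecticTypeGroup 2 R) (hRi : Cfsg.Geo.ActsAbsolutelyIrreducibly (Cfsg.Geo.matrixSet R))
    (hRU : R ≤ Cfsg.GU 4 F p) (hR6 : Nat.card R = 2 ^ 6) (hRZ : Nat.card (Subgroup.center R) = 4)
    (r : ℕ) [Fact r.Prime]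
    (hΩ : r ∣ (Cfsg.Geo.subgroupNormalizer R).relIndex (Cfsg.GU 4 F p ⊓ Cfsg.Geo.specialLinear (Fin 4) F)) :
    (∀ x ∈ Cfsg.GU 4 F p ⊓ Cfsg.Geo.specialLinear (Fin 4) F, (∃ z : F, ((x ^ r : GL (Fin 4) F) : Matrix (Fin 4) (Fin 4) F) = z • (1 : Matrix (Fin 4) (Fin 4) F)) →
      (∀ z : F, (x : Matrix (Fin 4) (Fin 4) F) ≠ z • (1 : Matrix (Fin 4) (Fin 4) F)) →
      ∃ g ∈ Cfsg.GU 4 F p ⊓ Cfsg.Geo.specialLinear (Fin 4) F, g⁻¹ * x * g ∈ Cfsg.Geo.subgroupNormalizer R) ↔ (r = 2 ∨ (r = 3 ∧ p % 3 = 1) ∨ (r = 5 ∧ orderOf (p : ZMod 5) = 4)) := by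
  obtain ⟨i, hi, P, hPU, hRP⟩ := Cfsg.Agent.Helper63.U4.normal_form_of hF hp4
    (fun h2 R hRs hRi hR6 hRZ => Cfsg.Agent.Helper72.U4.normal_form_GL h2 R hRs hRi hR6 hRZ)
    (fun bar hbar _ hi hbi => Cfsg.Agent.Helper41.U4.R0_le_GU bar hbar hi hbi)
    (fun bar hbar hinv hnorm hU4 _ hi hR0U P hP =>
      Cfsg.Agent.Helper41.U4.exists_unitary_conj bar hbar hinv hnorm hU4 hi hR0U P hP)
    R hRs hRi hRU hR6 hRZ
  have hr : r.Prime := Fact.out
  have hpp : p.Prime := Fact.out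
  have hp2 : p ≠ 2 := by rintro rfl; omega
  have hbar : ∀ x : F, frobenius F p x = x ^ p := fun x => frobenius_def p x
  obtain ⟨-, -, h2, -, h4⟩ := Cfsg.Agent.Helper55.U4.bar_facts hF hp4 (frobenius F p) hbar
  have htr := Cfsg.Agent.Helper68.U4.transfer_unitary (F := F) p r R (R0 i hi) P hPU hRP
  have hdvd : r ∣ Nat.card (SU4 F p) := dvd_trans hΩ (Subgroup.relIndex_dvd_card _ _)
  have hTV : ∀ (u φ : Fin 4 → F), u ≠ 0 → φ ≠ 0 → φ ⬝ᵥ u = 0 → ∀ t : GL (Fin 4) F,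
      (t : Matrix (Fin 4) (Fin 4) F) = 1 + Matrix.vecMulVec u φ → t ∉ N0 i hi :=
    fun u φ hu hφ hφu t ht => Cfsg.Agent.Helper66.P4.no_transvection hi h2 u φ hu hφ hφu t ht
  show FixProp F p r (Cfsg.Geo.subgroupNormalizer R) ↔ _
  rw [htr]
  show FixProp F p r (N0 i hi) ↔ _
  constructor
  · intro h
    exact Cfsg.Agent.Helper11.U4.bw_of hp4 hi r hr hdvd
      (fun g hg r hr hr2 hz hns => Cfsg.Agent.Helper81.U4.N0_trace_cases h2 hi g hg r hr hr2 hz hns)
      (fun hp3 => Cfsg.Agent.Helper81.U4.exists_derangement_three_a hF hp4 hp3)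
      (fun hp => Cfsg.Agent.Helper30.U4.exists_derangement_three_b hF hp hi hTV)
      (fun hp5 => Cfsg.Agent.Helper30.U4.exists_derangement_five hF hp4 hp5)
      (fun r hr hr2 hd => Cfsg.Agent.Helper31.U4.exists_order_r p r hr hr2 hd) h
  · rintro (rfl | ⟨rfl, hp3⟩ | ⟨rfl, hord⟩)
    · exact Cfsg.Agent.Helper11.U4.fw_two_of hpp hp2 hi (frobenius F p) hbar h2 h4
        (Cfsg.Agent.Helper55.U4.exists_sqrt_of_pow_four hF hp2)
        (Cfsg.Agent.Helper55.U4.invol_det_of_trace_zero h2)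
        (fun x hx μ x' hxx hx' htr =>
          Cfsg.Agent.Helper72.U4.invol_scalar_unitary (frobenius F p) hbar h2 x hx μ x' hxx hx' htr)
        (Cfsg.Agent.Helper1.U4.exists_invols' (frobenius F p) hbar h2 hi)
        (Cfsg.Agent.Helper44.U4.invol_class_ne h2)
        (fun a b ha hb k hk hak hbk hcp =>
          Cfsg.Agent.Helper12.U4.gu_conj_of_charpoly hF a b ha hb k hk hak hbk hcp)
        (fun x s y u hx c hs hsU hu hy huy k hk hxk =>
          Cfsg.Agent.Helper55.U4.fw_gen hF hi x s y u hx c hs hsU hu hy huy k hk hxk)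
    · exact Cfsg.Agent.Helper48.U4.fw_three hF hp4 hp3 hi
    · exact Cfsg.Agent.Helper48.U4.fw_five hF hp4 hord hi

end Cfsg.Agent.S6001
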